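import Cfsg.Statements.S4160
import Cfsg.Agent.Lib.BG.Cls2

set_option autoImplicit false
open Cfsg

namespace Cfsg.Agent.S4160

/-- Let G be a finite group and p ≠ q primes each dividing the size of some conjugacy class of G, such that no conjugacy class size is divisible by pq. Then G has a normal p-complement or a normal q-complement. -/
theorem result {G : Type*} [Group G] [Finite G] (p q : ℕ) (hp : p.Prime) (hq : q.Prime) (hpq : p ≠ q)
    (hp' : ∃ x : G, p ∣ (Subgroup.centralizer ({x} : Set G)).index) (hq' : ∃ x : G, q ∣ (Subgroup.centralizer ({x} : Set G)).index) (h : ∀ x : G, ¬ p * q ∣ (Subgroup.centralizer ({x} : Set G)).index) :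
    Cfsg.HasNormalPComplement p G ∨ Cfsg.HasNormalPComplement q G := by
  open Pointwise commutatorElement Subgroup in
  open Cfsg.Agent.Comp Cfsg.Agent.BG Cfsg.Agent.Transfer in
  have := Fact.mk hp
  have := Fact.mk hq
  by_contra e
  have k : ∀ r : ℕ, [Fact r.Prime] → ¬ HasNormalPComplement r G →
      2 * Nat.card {x : G // x ≠ 1 ∧ ¬ r ∣ C1(x).index} + 2 ≤ Nat.card G := fun r _ e => by
    obtain ⟨P, hP⟩ := exists_sylIn r (⊤ : Subgroup G)
    have a := cnt_conj_le (Comp.normalizer_le_normalizer_centralizer P)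
    have b := cnt_mono (p := fun x : G => x ≠ 1 ∧ ¬ r ∣ C1(x).index) fun x hx => (⟨hx.1, exists_sylIn_le_C1 hP hx.2⟩ :
      x ≠ 1 ∧ ∃ g : G, x ∈ cj(g, Ct(P)))
    have c : 2 ≤ Ct(P).relIndex Nm(P) := lt_of_le_of_ne (Nat.pos_of_ne_zero (index_ne_zero_of_finite (H := Ct(P).subgroupOf Nm(P))))
      fun f => e (hasNPC_top.1 (hasNPC_of_le_Ct hP (inf_le_right.trans (relIndex_eq_one.1 f.symm))))
    have d := Nm(P).index_mul_card
    rw [← Comp.relIndex_mul_card (centralizer_le_normalizer (P : Set G))] at d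
    have f := Nat.pos_of_ne_zero (index_ne_zero_of_finite (H := Nm(P)))
    nlinarith [Nat.mul_le_mul_left Nm(P).index (Nat.mul_le_mul_right (Nat.card Ct(P)) c)]
  have a := k p (not_or.1 e).1
  have b := k q (not_or.1 e).2
  have c := (cnt_mono (p := fun x : G => True ∧ x ≠ 1) fun x hx => (by
    by_contra f
    simp only [hx.2, ne_eq, not_false_eq_true, true_and, not_or, not_not] at f
    exact h x (((Nat.coprime_primes hp hq).2 hpq).mul_dvd_of_dvd_of_dvd f.1 f.2))).trans
    (cnt_or_le (fun x : G => x ≠ 1 ∧ ¬ p ∣ C1(x).index) fun x => x ≠ 1 ∧ ¬ q ∣ C1(x).index)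
  have d := cnt_erase (p := fun _ : G => True) (a := 1) trivial
  rw [cnt_true] at d
  omega

end Cfsg.Agent.S4160
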