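import Cfsg.Statements.S4387
import Cfsg.Agent.Lib.Solv.Frattini
import Cfsg.Agent.Lib.Transfer.Count
import Cfsg.Agent.Lib.Solv.PGrp

set_option autoImplicit false
open Pointwise
open Cfsg

namespace Cfsg.Agent.S4387
section
open Pointwise commutatorElement Subgroup Cfsg.Agent.Solv
open Cfsg.Agent.Transfer in
theorem exists_notMem_conj {G : Type*} [Group G] [Finite G] {M : Subgroup G} (hM : M ≠ ⊤) :
    ∃ x : G, ∀ g : G, x ∉ MulAut.conj g • M := by
  by_contra h
  push Not at h
  have h1 : Nat.card {x : G // x ≠ 1} ≤ Nat.card {q : G ⧸ M // True} * (Nat.card M - 1) := by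
    refine cnt_le_mul (fun x (q : G ⧸ M) => x ∈ MulAut.conj q.out • M) (fun x _ => ?_) fun q _ => ?_
    · obtain ⟨g, hg⟩ := h x
      refine ⟨g, trivial, ?_⟩
      obtain ⟨m, hm⟩ := QuotientGroup.mk_out_eq_mul M g
      rwa [hm, ← conj_smul_conj_smul, conj_smul_eq_self_iff.2 (le_normalizer m.2)]
    · have := cnt_erase (p := fun x => x ∈ MulAut.conj q.out • M) (a := 1) (one_mem _)
      rw [cnt_congr (q := fun x => x ∈ MulAut.conj q.out • M ∧ x ≠ 1) fun x => and_comm, ← card_conj_smul q.out M]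
      exact Nat.le_sub_one_of_lt (Nat.lt_of_succ_le this.le)
  have h2 := cnt_erase (p := fun _ : G => True) (a := 1) trivial
  rw [cnt_congr (q := fun x : G => x ≠ 1) fun x => by simp, cnt_true] at h2
  rw [cnt_true, ← index_eq_card, Nat.mul_sub_one, index_mul_card] at h1
  have h3 := one_lt_index_of_ne_top hM
  have h4 := Nat.le_of_dvd Nat.card_pos M.index_dvd_card
  omega
end

/-- Let G be a non-trivial finite group in which any two maximal subgroups are conjugate. Then G is cyclic of prime-power order. -/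
theorem result {G : Type*} [Group G] [Finite G] [Nontrivial G]
    (h : ∀ M N : Subgroup G, IsCoatom M → IsCoatom N → ∃ g : G, N = MulAut.conj g • M) :
    IsCyclic G ∧ IsPrimePow (Nat.card G) := by
  open Pointwise commutatorElement Subgroup Cfsg.Agent.Solv in
  obtain ⟨M, hM, -⟩ := exists_coatom_ge (bot_ne_top : (⊥ : Subgroup G) ≠ ⊤)
  obtain ⟨x, hx⟩ := exists_notMem_conj hM.1
  have h1 : zpowers x = ⊤ := by
    by_contra h1
    obtain ⟨N, hN, h2⟩ := exists_coatom_ge h1
    obtain ⟨g, rfl⟩ := h M N hM hN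
    exact hx g (h2 (mem_zpowers x))
  have hc : IsCyclic G := ⟨⟨x, fun y => (h1 ▸ mem_top y : y ∈ zpowers x)⟩⟩
  refine ⟨hc, ?_⟩
  have key : ∀ p : ℕ, p.Prime → p ∣ Nat.card G → p = M.index := by
    intro p hp hd
    have h2 : orderOf x = Nat.card G := by rw [← Nat.card_zpowers, h1, card_top]
    have h3 : (zpowers (x ^ p)).index = p := by
      have := index_mul_card (zpowers (x ^ p))
      rw [Nat.card_zpowers, orderOf_pow_of_dvd hp.ne_zero (h2 ▸ hd), h2] at this
      obtain ⟨m, hm⟩ := hd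
      have h0 : 0 < m := Nat.pos_of_mul_pos_left (hm ▸ Nat.card_pos)
      rw [hm, Nat.mul_div_cancel_left _ hp.pos] at this
      exact Nat.eq_of_mul_eq_mul_right h0 this
    obtain ⟨g, hg⟩ := h M _ hM (isCoatom_of_index_prime (h3.symm ▸ hp))
    rw [← h3, hg, index_conj_smul]
  rw [isPrimePow_iff_unique_prime_dvd]
  obtain ⟨p, hp, hd⟩ := Nat.exists_prime_and_dvd (Finite.one_lt_card (α := G)).ne'
  exact ⟨p, ⟨hp, hd⟩, fun q hq => (key q hq.1 hq.2).trans (key p hp hd).symm⟩

end Cfsg.Agent.S4387
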