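import Cfsg.Statements.S0144
import Cfsg.Agent.Lib.Char.Integral

set_option autoImplicit false
open Cfsg

namespace Cfsg.Agent.S0144

open Cfsg.Agent.Char

theorem aux (p q : ℕ) (hp : p.Prime) (hq : q.Prime) (n : ℕ) : ∀ {G : Type*} [Group G] [Finite G],
    Nat.card G = n → (∀ r : ℕ, r.Prime → r ∣ Nat.card G → r = p ∨ r = q) → Group.IsSolvable G := by
  induction n using Nat.strong_induction_on with
  | _ n ih =>
  intro G _ _ hn h
  rcases subsingleton_or_nontrivial G with hG | hG
  · infer_instance
  by_cases hs : IsSimpleGroup G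
  · have hprime : (Nat.card G).Prime := by
      obtain ⟨r, hr, hrd⟩ := Nat.exists_prime_and_dvd (Finite.one_lt_card (α := G)).ne'
      have := Fact.mk hr
      obtain ⟨P⟩ : Nonempty (Sylow r G) := inferInstance
      have hP : Nontrivial P := (Subgroup.nontrivial_iff_ne_bot _).2 (P.ne_bot_of_dvd_card hrd)
      have := P.isPGroup'.center_nontrivial
      obtain ⟨z, hz⟩ := exists_ne (1 : Subgroup.center P)
      have hz1 : ((z : P) : G) ≠ 1 := by simpa using hz
      have hle : (P : Subgroup G) ≤ Subgroup.centralizer {((z : P) : G)} := by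
        intro x hx
        rw [Subgroup.mem_centralizer_singleton_iff]
        exact congrArg Subtype.val (Subgroup.mem_center_iff.1 z.2 ⟨x, hx⟩)
      have hnd : ¬ r ∣ (Subgroup.centralizer {((z : P) : G)}).index :=
        fun h1 => P.not_dvd_index (h1.trans (Subgroup.index_dvd_of_le hle))
      obtain ⟨s, hs', hs''⟩ : ∃ s : ℕ, s.Prime ∧ ∀ t : ℕ, t.Prime → t ∣ Nat.card G → t = r ∨ t = s := by
        rcases h r hr hrd with rfl | rfl
        · exact ⟨q, hq, h⟩
        · exact ⟨p, hp, fun t ht ht' => (h t ht ht').symm⟩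
      refine prime_card_of_simple_of_class_prime_pow hs' hz1
        (Nat.eq_prime_pow_of_unique_prime_dvd Subgroup.FiniteIndex.index_ne_zero fun {t} ht ht' => ?_)
      rcases hs'' t ht (ht'.trans (Subgroup.index_dvd_card _)) with rfl | rfl
      · exact absurd ht' hnd
      · rfl
    have := Fact.mk hprime
    have := isCyclic_of_prime_card (α := G) rfl
    let _ := IsCyclic.commGroup (α := G)
    infer_instance
  · obtain ⟨N, hN, h1, h2⟩ : ∃ N : Subgroup G, N.Normal ∧ N ≠ ⊥ ∧ N ≠ ⊤ := by
      by_contra h3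
      push Not at h3
      exact hs ⟨fun N hN => or_iff_not_imp_left.2 (h3 N hN)⟩
    have h3 : Group.IsSolvable N := ih _ (by
      rw [← hn, ← N.card_mul_index]
      exact lt_mul_of_one_lt_right Nat.card_pos (Subgroup.one_lt_index_of_ne_top h2)) rfl
      fun r hr hr' => h r hr (hr'.trans N.card_subgroup_dvd_card)
    have h4 : Group.IsSolvable (G ⧸ N) := ih _ (by
      rw [← hn, ← N.card_mul_index]
      exact lt_mul_of_one_lt_left Nat.card_pos (N.one_lt_card_iff_ne_bot.2 h1)) rfl
      fun r hr hr' => h r hr (hr'.trans N.card_quotient_dvd_card)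
    exact Group.isSolvable_of_ker_le_range N.subtype (QuotientGroup.mk' N) (by simp)

/-- The Burnside two-prime Theorem: a finite group of order p ^ a * q ^ b, for primes p and q, is solvable. -/
theorem result {G : Type*} [Group G] [Finite G] (p q a b : ℕ) (hp : p.Prime) (hq : q.Prime) (hcard : Nat.card G = p ^ a * q ^ b) : Group.IsSolvable G := by
  refine aux p q hp hq _ rfl fun r hr h => ?_
  rw [hcard] at h
  rcases (Nat.Prime.dvd_mul hr).1 h with h | h
  · exact Or.inl ((Nat.prime_dvd_prime_iff_eq hr hp).1 (hr.dvd_of_dvd_pow h))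
  · exact Or.inr ((Nat.prime_dvd_prime_iff_eq hr hq).1 (hr.dvd_of_dvd_pow h))

end Cfsg.Agent.S0144
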