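import Cfsg.Statements.S4456
import Cfsg.Agent.Lib.Block.Res

set_option autoImplicit false
open Cfsg

namespace Cfsg.Agent.S4456

open Cfsg.Agent.Blk
open Cfsg.Agent.Char hiding cj cj_mul cj_inv_cj cj_cj_inv

/-- Let p be a prime and G a finite group such that p divides the degree of every irreducible character of G of degree greater than one. Then G has a normal p-complement: a normal subgroup of order prime to p whose index is a power of p. -/
theorem result {G : Type*} [Group G] [Finite G] (p : ℕ) (hp : p.Prime) (hdeg : ∀ χ : Cfsg.IrrCharacter G, Cfsg.charDegree (χ : G → ℂ) ≠ 1 → p ∣ Cfsg.charDegree (χ : G → ℂ)) : ∃ N : Subgroup G, N.Normal ∧ (Nat.card N).Coprime p ∧ ∃ k : ℕ, N.index = p ^ k := by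
  haveI := Fact.mk hp
  have h1 := sum_sq_modEq (p := p) (G := G) rfl Set.univ Set.univ (fun _ _ => Iff.rfl)
    fun _ _ _ => Iff.rfl
  rw [sum_sq_univ, sum_sq_eq_card_pregSub (L := ⊤) (fun _ => by simp)
    fun χ _ h => by_contra fun h' => h (hdeg χ h')] at h1
  refine ⟨pResidual p G, inferInstance, (hp.coprime_iff_not_dvd.2 fun h => ?_).symm,
    Transfer.index_pResidual⟩
  exact not_dvd_card_pregSub p _ ((h1.dvd_iff dvd_rfl).1 h)

end Cfsg.Agent.S4456
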