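import Cfsg.Statements.S0920
import Cfsg.Agent.Lib.Block.Induct

set_option autoImplicit false
open Cfsg

namespace Cfsg.Agent.S0920

open Cfsg.Agent.Blk

/-- Brauer's First Main Theorem. Let D be a p-subgroup of the finite group G with normalizer N, and fix a maximal ideal M of the algebraic integers containing p. Then (i) every block b of N having D as a defect group induces some block B of G having D as a defect group; (ii) every block of G with defect group D is induced by exactly one block of N with defect group D. -/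
theorem result {G : Type*} [Group G] [Finite G] (p : ℕ) [Fact p.Prime] (M : Ideal Cfsg.AlgInt) (hM : Cfsg.IsPModular p M) (D : Subgroup G) (hD : IsPGroup p D) : (∀ b : Set (Cfsg.IrrCharacter (Subgroup.normalizer (D : Set G))), Cfsg.IsPBlock M b → Cfsg.IsDefectGroup p M b (D.subgroupOf (Subgroup.normalizer (D : Set G))) → ∃ B : Set (Cfsg.IrrCharacter G), Cfsg.IsPBlock M B ∧ Cfsg.IsDefectGroup p M B D ∧ Cfsg.IsInducedBlock M (Subgroup.normalizer (D : Set G)) b B) ∧ (∀ B : Set (Cfsg.IrrCharacter G), Cfsg.IsPBlock M B → Cfsg.IsDefectGroup p M B D → ∃! b : Set (Cfsg.IrrCharacter (Subgroup.normalizer (D : Set G))), Cfsg.IsPBlock M b ∧ Cfsg.IsDefectGroup p M b (D.subgroupOf (Subgroup.normalizer (D : Set G))) ∧ Cfsg.IsInducedBlock M (Subgroup.normalizer (D : Set G)) b B) := by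
  haveI : PMod M p := ⟨hM⟩
  have hN : (⊤ : Subgroup G) ⊓ No D = No D := top_inf_eq _
  have hC : (⊤ : Subgroup G) ⊓ Ce D ≤ No D := inf_le_right.trans (Ce_le_No D)
  constructor
  · intro b hb hbD
    rw [hb.isDefectGroup_subgroupOf_iff (le_No D)] at hbD
    obtain ⟨e, he, h⟩ := exists_ind (H := ⊤) hD (le_No D) hC le_top le_rfl hb.isBlockS
    obtain ⟨B, hB, rfl⟩ := exists_isPBlock_bar_eq he
    refine ⟨B, hB, hB.isDefectGroup_iff.2 ?_, isInducedBlock_iff.2 ⟨hb, hB, h⟩⟩
    exact isDef_of_Br_mul (hN.symm ▸ hb.isBlockS) (hN.symm ▸ hbD) he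
      ((ind_iff_Br hD (le_No D) hC le_top le_rfl hb.isBlockS he).1 h)
  · intro B hB hBD
    rw [hB.isDefectGroup_iff] at hBD
    have h1 := hB.isBlock.isBlock_Br hBD
    have h2 := hB.isBlock.isDef_Br hBD
    have h3 := hB.isBlock.ind_Br hBD
    rw [hN] at h1 h2 h3
    obtain ⟨b, hb, hbe⟩ := exists_isPBlock_barS_eq h1
    refine ⟨b, ⟨hb, (hb.isDefectGroup_subgroupOf_iff (le_No D)).2 (hbe ▸ h2),
      isInducedBlock_iff.2 ⟨hb, hB, hbe ▸ h3⟩⟩, ?_⟩
    rintro b' ⟨hb', -, h4⟩
    refine hb'.barS_inj hb ?_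
    rw [hbe]
    exact hB.isBlock.eq_Br_of_mul hBD (hN.symm ▸ hb'.isBlockS)
      ((ind_iff_Br hD (le_No D) hC le_top le_rfl hb'.isBlockS hB.isBlock).1
        (isInducedBlock_iff.1 h4).2.2)

end Cfsg.Agent.S0920
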