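import Cfsg.Statements.S0081
import Cfsg.Agent.Lib.Fusion.Yosh

set_option autoImplicit false
open Cfsg

namespace Cfsg.Agent.S0081

open Fusion Cfsg.FusionSystem

/-- If a normal subgroup meets a Sylow p-subgroup P inside the Frattini subgroup of P, then it has a normal p-complement. -/
theorem result {G : Type*} [Group G] [Finite G] {p : ℕ} [Fact p.Prime] (P : Sylow p G) (N : Subgroup G) [N.Normal] (h : N ⊓ (P : Subgroup G) ≤ (frattini P).map (P : Subgroup G).subtype) : Cfsg.HasNormalPComplement p N := by
  have h1 := (sylowIn_top P).of_le (le_sup_right (a := N)) le_top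
  have h2 : Transfer.res p (N ⊔ P) ≤ N := by
    obtain ⟨n, hn⟩ := P.isPGroup'.index (N.subgroupOf P)
    exact Transfer.res_le_of_relIndex (n := n) Subgroup.le_normalizer_of_normal
      (by rwa [Subgroup.relIndex_sup_left])
  have h3 := hyp_le_of_frattini h1.pgroup (sub_saturated h1) (D := ⊥)
    Subgroup.le_normalizer_of_normal (le_sup_of_le_left (by
      rw [hyp_sub h1]; exact (inf_le_inf_left _ h2).trans ((inf_comm _ _).le.trans h)))
  rw [hyp_sub h1, le_bot_iff] at h3
  exact Transfer.hasNPC_mono ((Transfer.IsSyl.hasNPC_iff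
    ⟨h1.le, h1.pgroup, h1.not_dvd_relIndex⟩).2 h3) le_sup_left

end Cfsg.Agent.S0081
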