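import Cfsg.Statements.S0910
import Cfsg.Agent.Lib.Block.More

set_option autoImplicit false
open Cfsg

namespace Cfsg.Agent.S0910

open Cfsg.Agent.Blk
open Cfsg.Agent.Char hiding cj cj_mul cj_inv_cj cj_cj_inv

/-- Let G be a non-abelian finite simple group and p a prime. If an irreducible character χ lies in the principal block (relative to a maximal ideal of the algebraic integers containing p) and χ 1 is a power of p, then χ is the principal character. -/
theorem result {G : Type*} [Group G] [Finite G] (p : ℕ) [Fact p.Prime] (M : Ideal Cfsg.AlgInt) (hM : Cfsg.IsPModular p M) [IsSimpleGroup G] (hna : ∃ a b : G, a * b ≠ b * a) (χ : Cfsg.IrrCharacter G) (hχ : χ ∈ Cfsg.principalBlock M G) (k : ℕ) (hdeg : (χ : G → ℂ) 1 = (p : ℂ) ^ k) : (χ : G → ℂ) = fun _ => 1 := by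
  haveI : PMod M p := ⟨hM⟩
  have hp := (Fact.out : p.Prime)
  by_contra hne
  have hker : charKer (χ : G → ℂ) = ⊥ :=
    (χ.2.isCharacter.normal_charKer.eq_bot_or_eq_top).resolve_right (χ.2.charKer_ne_top hne)
  have hZ : Subgroup.center G = ⊥ := by
    refine (Subgroup.normal_of_characteristic _).eq_bot_or_eq_top.resolve_right fun h => ?_
    obtain ⟨a, b, hab⟩ := hna
    exact hab (Subgroup.mem_center_iff.1 (h ▸ Subgroup.mem_top b) a)
  have hdeg' : (χ : G → ℂ) 1 = ((p ^ k : ℕ) : ℂ) := by rw [hdeg]; simp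
  have hk : k ≠ 0 := by
    rintro rfl
    have := χ.2.apply_one_eq_one_iff.1 (by simpa using hdeg)
    rw [hker, le_bot_iff, commutator_eq_bot_iff_center_eq_top, hZ] at this
    exact bot_ne_top this
  have h1 : p ∣ Nat.card G := (dvd_pow_self p hk).trans (χ.2.degree_dvd_card hdeg')
  obtain ⟨P, hP⟩ := exists_isSyl p (⊤ : Subgroup G)
  have hP1 : P ≠ ⊥ := by
    rintro rfl
    exact hP.not_dvd_relIndex (by simpa using h1)
  obtain ⟨⟨z, hz⟩, hz1⟩ := Subgroup.ne_bot_iff_exists_ne_one.1 fun h => hP1 (eq_bot_of_inf_Ce hP.pg h)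
  have h2 : ¬ p ∣ (Ce1 z).index := by
    have := not_dvd_relIndex_of_isSyl hP (mem_Ce_iff_le.1 (mi2 hz))
    rwa [Subgroup.relIndex_top_right] at this
  have h3 := (isPBlock_principal.sameBlock hχ (irrOne_mem_principal (M := M))) z
  have h4 : ¬ MemLocalIdeal M (centralChar (χ : G → ℂ) z) := fun h => by
    have := LI_sub h h3
    rw [sub_sub_cancel, ← om_cls (irrOne G).2.isClassFunction, Blk.om,
      ch_cls (irrOne G).2.isClassFunction] at this
    simp only [irrOne_apply, mul_one, div_one] at this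
    exact h2 (LI_natCast_iff.1 this)
  have h5 := (χ.2.eq_zero_or_norm_eq_of_coprime hdeg'
    ((hp.coprime_iff_not_dvd.2 h2).pow_left k)).resolve_left (apply_ne_zero_of_centralChar h4)
  rw [← χ.2.isCharacter.mem_charCenter, χ.2.charCenter_eq_center hker, hZ, Subgroup.mem_bot] at h5
  exact hz1 (Subtype.ext h5)

end Cfsg.Agent.S0910
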