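import Cfsg.Statements.S0904
import Cfsg.Agent.Lib.Block.Ord2
import Cfsg.Agent.S0910

set_option autoImplicit false
open Cfsg

namespace Cfsg.Agent.S0904

open Cfsg.Agent.Blk
open Cfsg.Agent.Char hiding cj cj_mul cj_inv_cj cj_cj_inv
theorem key {G : Type*} [Group G] [Finite G] [IsSimpleGroup G] {p q r a b : ℕ} [hp : Fact p.Prime]
    (hq : q.Prime) [hr : Fact r.Prime] (hpr : p ≠ r) (hqr : q ≠ r)
    (hcard : Nat.card G = p ^ a * q ^ b * r) {g : G} (h1 : p ∣ orderOf g) (h2 : r ∣ orderOf g) :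
    False := by
  classical
  obtain ⟨M, hM⟩ := exists_pmod p
  have hna : ∃ a b : G, a * b ≠ b * a := by
    by_contra! k
    have : IsMulCommutative G := ⟨⟨k⟩⟩
    have h3 := Group.is_simple_iff_prime_card.1 (inferInstance : IsSimpleGroup G)
    exact hpr (((Nat.prime_dvd_prime_iff_eq hp.out h3).1 (h1.trans (orderOf_dvd_natCard g))).trans
      ((Nat.prime_dvd_prime_iff_eq hr.out h3).1 (h2.trans (orderOf_dvd_natCard g))).symm)
  have h3 := (isPBlock_principal (M := M) (G := G)).isUB.weak_orthogonality (x := 1)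
    (by simp [hp.out.one_lt.ne']) h1
  rw [← Finset.add_sum_erase _ _ (Finset.mem_univ (irrOne G)), if_pos irrOne_mem_principal] at h3
  have q0 : (q : ℂ) ≠ 0 := Nat.cast_ne_zero.2 hq.ne_zero
  have h4 : IsIntegral ℤ ((∑ χ ∈ Finset.univ.erase (irrOne G), if χ ∈ principalBlock M G then
      χ.1 1 * starRingEnd ℂ (χ.1 g) else 0) / q) := by
    rw [Finset.sum_div]
    refine IsIntegral.sum _ fun χ hχ => ?_
    split_ifs with k
    swap
    · simpa using isIntegral_zero
    by_cases k1 : q ∣ dg χ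
    · obtain ⟨m, hm⟩ := k1
      rw [val_one hm, Nat.cast_mul, mul_assoc, mul_div_cancel_left₀ _ q0]
      exact (isIntegral_natCast m).mul (χ.2.isCharacter.conj.isIntegral g)
    obtain ⟨m, hm⟩ := deg_dvd_card χ
    by_cases k2 : r ∣ dg χ
    · rw [dz hm (fun k3 => ?_) h2]
      · simpa using isIntegral_zero
      have := Nat.mul_dvd_mul k2 k3
      rw [← hm, hcard, Nat.mul_dvd_mul_iff_right hr.out.pos] at this
      rcases (hr.out.dvd_mul).1 this with k | k
      · exact hpr ((Nat.prime_dvd_prime_iff_eq hr.out hp.out).1 (hr.out.dvd_of_dvd_pow k)).symm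
      · exact hqr ((Nat.prime_dvd_prime_iff_eq hr.out hq).1 (hr.out.dvd_of_dvd_pow k)).symm
    have k3 : dg χ ∣ p ^ a := Nat.Coprime.dvd_of_dvd_mul_right
      (((hq.coprime_iff_not_dvd.2 k1).symm).pow_right b) (Nat.Coprime.dvd_of_dvd_mul_right
        (hr.out.coprime_iff_not_dvd.2 k2).symm (hcard ▸ deg_dvd_card χ))
    obtain ⟨n, -, hn⟩ := (Nat.dvd_prime_pow hp.out).1 k3
    exact (Finset.ne_of_mem_erase hχ (Subtype.ext (S0910.result p M hM.out hna χ k n
      (by rw [val_one hn]; simp)))).elim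
  simp only [irrOne_apply, map_one, mul_one] at h3
  rw [eq_neg_of_add_eq_zero_right h3] at h4
  have := int_dvd_of_isIntegral_div (a := -1) (b := q) (by exact_mod_cast hq.ne_zero)
    (by simpa using h4)
  exact hq.one_lt.ne' (by simpa using Int.natCast_dvd.1 this)

theorem elt {G : Type*} [Group G] [Finite G] [IsSimpleGroup G] {p q r a b : ℕ} (hp : p.Prime)
    (hq : q.Prime) [hr : Fact r.Prime] (hpr : p ≠ r) (hqr : q ≠ r)
    (hcard : Nat.card G = p ^ a * q ^ b * r) {x : G} (hx : orderOf x = r) :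
    Ce1 x = Subgroup.zpowers x := by
  have c : ¬ r ∣ p ^ a * q ^ b := fun k => by
    rcases (hr.out.dvd_mul).1 k with k | k
    · exact hpr ((Nat.prime_dvd_prime_iff_eq hr.out hp).1 (hr.out.dvd_of_dvd_pow k)).symm
    · exact hqr ((Nat.prime_dvd_prime_iff_eq hr.out hq).1 (hr.out.dvd_of_dvd_pow k)).symm
  by_contra k
  obtain ⟨s, s1, s2, s3⟩ := exists_reg hx (fun k => c (by
    rwa [hcard, sq, Nat.mul_dvd_mul_iff_right hr.out.pos] at k)) k
  have o := s3.orderOf_mul_eq_mul_orderOf_of_coprime (hx ▸ hr.out.coprime_iff_not_dvd.2 s2)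
  obtain ⟨l, hl, h1⟩ := Nat.exists_prime_and_dvd (mt orderOf_eq_one_iff.1 s1)
  have h2 : r ∣ orderOf (x * s) := o ▸ hx ▸ dvd_mul_right _ _
  have h3 : l ∣ orderOf (x * s) := o ▸ h1.mul_left _
  have h4 := h1.trans (orderOf_dvd_natCard s)
  rw [hcard, hl.dvd_mul, hl.dvd_mul] at h4
  rcases h4 with (h4 | h4) | h4
  · have := Fact.mk hp
    exact key hq hpr hqr hcard
      ((Nat.prime_dvd_prime_iff_eq hl hp).1 (hl.dvd_of_dvd_pow h4) ▸ h3) h2
  · have := Fact.mk hq
    exact key hp hqr hpr (hcard.trans (by rw [mul_comm (p ^ a)]))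
      ((Nat.prime_dvd_prime_iff_eq hl hq).1 (hl.dvd_of_dvd_pow h4) ▸ h3) h2
  · exact s2 ((Nat.prime_dvd_prime_iff_eq hl hr.out).1 h4 ▸ h1)

/-- Let G be a finite simple group of order p ^ a * q ^ b * r with p, q, r distinct primes. Then every Sylow r-subgroup S of G satisfies C_G(S) = S. -/
theorem result {G : Type*} [Group G] [Finite G] [IsSimpleGroup G] (p q r a b : ℕ) (hp : p.Prime) (hq : q.Prime) [Fact r.Prime] (hpq : p ≠ q) (hpr : p ≠ r) (hqr : q ≠ r) (hcard : Nat.card G = p ^ a * q ^ b * r) (S : Sylow r G) : Subgroup.centralizer (S : Set G) = (S : Subgroup G) := by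
  have hr : r.Prime := Fact.out
  have h1 : Nat.card (S : Subgroup G) = r := by
    rw [S.card_eq_multiplicity, hcard, Nat.factorization_mul (mul_ne_zero (pow_ne_zero _ hp.ne_zero)
      (pow_ne_zero _ hq.ne_zero)) hr.ne_zero, Nat.factorization_mul (pow_ne_zero _ hp.ne_zero)
      (pow_ne_zero _ hq.ne_zero), hp.factorization_pow, hq.factorization_pow, hr.factorization]
    simp [hpr, hqr, hpr.symm, hqr.symm]
  obtain ⟨x, hx⟩ := exists_prime_orderOf_dvd_card' (G := (S : Subgroup G)) r h1.symm.dvd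
  rw [← Subgroup.orderOf_coe] at hx
  have h2 := zpowers_eq_of_card h1 x.2 (fun e => hr.one_lt.ne (by rw [← hx, e, orderOf_one]))
  have := elt hp hq hpr hqr hcard hx
  rwa [← Ce_zpowers, h2] at this

end Cfsg.Agent.S0904
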