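import Cfsg.Statements.S0672
import Mathlib
import Cfsg.Agent.Lib.Perm.Mod1

set_option autoImplicit false
open Cfsg

namespace Cfsg.Agent.S0672

open MulAction Cfsg.Agent.Perm Cfsg.Agent.Perm.Md
open scoped Pointwise

/-- Let a finite group act faithfully and doubly transitively with point stabilisers of even order, and let `K` have characteristic `p` dividing the degree. If the heart of the permutation module admits no non-zero equivariant map to the permutation module on unordered pairs (phrased: every intertwining map from the sum-zero functions vanishing on the constants is zero), the action is triply transitive. -/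
theorem result {G : Type*} [Group G] [Finite G] {K : Type*} [Field K] {p : ℕ} [Fact p.Prime] [CharP K p] {Ω : Type*} [Fintype Ω] [DecidableEq Ω] [MulAction G Ω] [FaithfulSMul G Ω] (h2 : MulAction.IsMultiplyPretransitive G Ω 2) (hp : p ∣ Fintype.card Ω) (heven : ∀ a : Ω, Even (Nat.card (MulAction.stabilizer G a))) (h : ∀ f : Representation.IntertwiningMap (Cfsg.permSumZero K G Ω).toRepresentation (Cfsg.permRep K G (Set.powersetCard Ω 2)), (∀ v : (Cfsg.permSumZero K G Ω).toSubmodule, (v : Ω → K) ∈ (Cfsg.permConstants K G Ω).toSubmodule → f v = 0) → f = 0) : MulAction.IsMultiplyPretransitive G Ω 3 := by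
  classical
  have h3 : ∀ a b c a' b' c' : Ω, a ≠ b → a ≠ c → b ≠ c → a' ≠ b' → a' ≠ c' → b' ≠ c' →
      ∃ g : G, g • a = a' ∧ (g • b = b' ∧ g • c = c' ∨ g • b = c' ∧ g • c = b') := by
    intro a b c a' b' c' hab hac hbc hab' hac' hbc'
    let s : Set.powersetCard Ω 2 := ⟨{b, c}, Finset.card_pair hbc⟩
    let s' : Set.powersetCard Ω 2 := ⟨{b', c'}, Finset.card_pair hbc'⟩
    suffices ∃ g : G, g • a = a' ∧ g • s = s' by
      obtain ⟨g, h1, h2⟩ := this
      have h3 := congrArg (fun t : Set.powersetCard Ω 2 => ((t : Finset Ω) : Set Ω)) h2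
      exact ⟨g, h1, by simpa [s, s', Set.smul_set_insert, Set.pair_eq_pair_iff] using h3⟩
    by_contra hn
    obtain ⟨α, β, h0, hk⟩ : ∃ α β : K, (α ≠ 0 ∨ β ≠ 0) ∧
        α * (∑ x, if ∃ g : G, g • a = x ∧ g • s = s then 1 else 0) + β * 2 = 0 := by
      by_cases h2 : (2 : K) = 0
      · exact ⟨0, 1, by simp, by simp [h2]⟩
      · exact ⟨2, -_, Or.inl h2, by rw [mul_comm, neg_mul, add_neg_cancel]⟩
    let M : Set.powersetCard Ω 2 → Ω → K := fun t x =>
      α * (if ∃ g : G, g • a = x ∧ g • s = t then 1 else 0) + β * if x ∈ (t : Finset Ω) then 1 else 0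
    have hM : ∀ (g : G) t x, M (g • t) (g • x) = M t x := fun g t x => by
      refine congrArg₂ (· + ·) (congrArg _ (if_congr ⟨?_, ?_⟩ rfl rfl)) (congrArg _ (if_congr ?_ rfl rfl))
      · rintro ⟨k, h1, h2⟩; exact ⟨g⁻¹ * k, by simp [mul_smul, h1], by simp [mul_smul, h2]⟩
      · rintro ⟨k, h1, h2⟩; exact ⟨g * k, by simp [mul_smul, h1], by simp [mul_smul, h2]⟩
      · simp
    have ht := Set.powersetCard.isPretransitive_of_isMultiplyPretransitive G h2
    have h4 := h (LinearMap.intertwiningMap_of_isIntertwiningMap _ _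
      ((LinearMap.pi fun t => dotProductBilin K K (M t)) ∘ₗ Submodule.subtype _) fun g v => funext fun t => by
        change ∑ x, M t x * v.1 (g⁻¹ • x) = ∑ x, M (g⁻¹ • t) x * v.1 x
        rw [← sum_smul_eq g⁻¹ fun x => M (g⁻¹ • t) x * v.1 x]
        simp only [hM]) fun v hv => funext fun t => by
      obtain ⟨d, hd⟩ := mem_const.1 hv
      obtain ⟨g, rfl⟩ := exists_smul_eq G s t
      change ∑ x, M (g • s) x * v.1 x = 0
      rw [hd, ← Finset.sum_mul, ← sum_smul_eq g]
      simp only [hM]
      simp only [M, Finset.sum_add_distrib, ← Finset.mul_sum]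
      rw [Finset.sum_ite_mem, Finset.univ_inter, Finset.sum_const, s.2]
      simpa using Or.inl hk
    have h5 := const_of_perp (c := M s') fun w hw => by
      simpa [dotProduct, mul_comm] using congrFun (DFunLike.congr_fun h4 ⟨w, hw⟩) s'
    obtain ⟨g, hg⟩ := exists_smul_eq G s s'
    have h6 : M s' a' = 0 := by simp [M, hn, s', hab', hac']
    have h7 : M s a = α := by simp [M, s, hab, hac, show ∃ g : G, g • a = a ∧ g • s = s from ⟨1, by simp⟩]
    have h8 : ¬ ∃ g : G, g • a = b ∧ g • s = s := by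
      rintro ⟨k, h1, h2⟩
      have : k • a ∈ ((k • s : Set.powersetCard Ω 2) : Finset Ω) := by rw [h1, h2]; simp [s]
      simp [s, hab, hac] at this
    have h9 : M s b = β := by simp only [M, if_neg h8]; simp [s]
    rw [← hM g, hg, h5 _ a', h6] at h7 h9
    simp [← h7, ← h9] at h0
  refine three_trans_iff.2 fun a b c a' b' c' hab hac hbc hab' hac' hbc' => ?_
  obtain ⟨g, h4, h5 | h5⟩ := h3 a b c a' b' c' hab hac hbc hab' hac' hbc'
  · exact ⟨g, h4, h5⟩
  obtain ⟨u, hu⟩ := exists_prime_orderOf_dvd_card' (G := stabilizer G a) 2 (heven a).two_dvd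
  obtain ⟨y, hy⟩ : ∃ y : Ω, (u : G) • y ≠ y := by
    by_contra! h6
    rw [show u = 1 from Subtype.ext (FaithfulSMul.eq_of_smul_eq_smul (α := Ω) (by simpa using h6))] at hu
    simp at hu
  have h6 : (u : G) • (u : G) • y = y := by
    rw [← mul_smul, ← Subgroup.coe_mul, ← sq, ← hu, pow_orderOf_eq_one]; simp
  have h7 : (u : G) • a = a := u.2
  generalize (u : G) = u at *
  obtain ⟨k, h8, h9 | h9⟩ := h3 a y (u • y) a b c (by rintro rfl; exact hy h7)
    (fun e => hy (by rw [← e, ← h6, ← e, h7])) hy.symm hab hac hbc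
  · exact ⟨g * k * u * k⁻¹, by simp [mul_smul, inv_smul_eq_iff.2 h8.symm, h7, h8, h4],
      by rw [← h9.1]; simp [mul_smul, h9.2, h5.2], by rw [← h9.2]; simp [mul_smul, h6, h9.1, h5.1]⟩
  · exact ⟨g * k * u * k⁻¹, by simp [mul_smul, inv_smul_eq_iff.2 h8.symm, h7, h8, h4],
      by rw [← h9.2]; simp [mul_smul, h6, h9.1, h5.2], by rw [← h9.1]; simp [mul_smul, h9.2, h5.1]⟩

end Cfsg.Agent.S0672
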