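import Cfsg.Statements.S0228
import Cfsg.Agent.Lib.Transfer.Count

set_option autoImplicit false
open Cfsg

namespace Cfsg.Agent.S0228

set_option linter.unusedSectionVars false
set_option linter.unusedVariables false
set_option linter.style.haveILetI false
set_option linter.unusedSimpArgs false

open Subgroup Cfsg.Agent.Transfer

/-- A group of order 12 in which no involution is central is isomorphic to the alternating group on four letters. -/
theorem result {G : Type*} [Group G] [Finite G] (hG : Nat.card G = 12) (hz : ∀ z : G, orderOf z = 2 → z ∉ Subgroup.center G) : Nonempty (G ≃* alternatingGroup (Fin 4)) := by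
  classical
  haveI : Fact (Nat.Prime 3) := ⟨Nat.prime_three⟩
  obtain ⟨q, hq⟩ := exists_prime_orderOf_dvd_card' (G := G) 3 (by rw [hG]; decide)
  have hQ : Nat.card (zpowers q) = 3 := by rw [Nat.card_zpowers, hq]
  have hi : (zpowers q).index = 4 := by
    have := (zpowers q).card_mul_index
    rw [hQ, hG] at this; omega
  have hcore : (zpowers q).normalCore = ⊥ := by
    by_contra hne
    have h1 : (zpowers q).normalCore = zpowers q := by
      refine eq_of_le_of_card_ge (normalCore_le _) ?_
      have h2 := card_dvd_of_le (normalCore_le (zpowers q))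
      rw [hQ] at h2 ⊢
      rcases (Nat.dvd_prime Nat.prime_three).1 h2 with h | h
      · exact absurd (card_eq_one.1 h) hne
      · exact h.ge
    haveI hn : (zpowers q).Normal := h1 ▸ inferInstance
    have h3 : Nat.card {y // IsConj q y} ≤ 2 := by
      have h4 := cnt_erase (p := fun y => y ∈ zpowers q) (one_mem _)
      have h5 : Nat.card {y // IsConj q y} ≤ Nat.card {y // y ∈ zpowers q ∧ y ≠ 1} :=
        cnt_mono fun y hy => by
          obtain ⟨g, rfl⟩ := isConj_iff.1 hy
          refine ⟨hn.conj_mem _ (mem_zpowers q) g, fun h => ?_⟩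
          have := orderOf_conj g q
          rw [h, hq] at this
          simp at this
      omega
    have h4 := card_isConj_mul q
    have h5 : Even (Nat.card (centralizer ({q} : Set G))) := by
      have h0 : 0 < Nat.card {y // IsConj q y} := cnt_pos (IsConj.refl q)
      rw [hG] at h4
      interval_cases Nat.card {y // IsConj q y}
      · exact ⟨6, by omega⟩
      · exact ⟨3, by omega⟩
    obtain ⟨z, hz1, hz2⟩ := exists_invol_mem h5
    obtain ⟨P, hP⟩ := (isPGroup_two_zpowers (mul_self_of_orderOf hz2)).exists_le_sylow
    have hP4 : Nat.card P = 2 ^ 2 := by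
      rw [P.card_eq_multiplicity, hG]
      congr 1
      exact Nat.factorization_eq_of_coprime_left (a := 2 ^ 2) (b := 3) (by decide) (by simp [Nat.prime_two]) |>.trans
        (Nat.Prime.factorization_pow Nat.prime_two ▸ Finsupp.single_eq_same)
    have hcomm := IsPGroup.isMulCommutative_of_card_eq_prime_sq (p := 2) hP4
    refine hz z hz2 (mem_center_iff.2 fun g => ?_)
    have hC : centralizer ({z} : Set G) = ⊤ := by
      rw [← card_eq_iff_eq_top, hG]
      refine Nat.dvd_antisymm (hG ▸ card_subgroup_dvd_card _) ?_
      refine Nat.Coprime.mul_dvd_of_dvd_of_dvd (m := 4) (n := 3) (by decide) ?_ ?_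
      · refine (show (4 : ℕ) = Nat.card P from hP4.symm) ▸ card_dvd_of_le fun x hx => ?_
        exact mem_centralizer_singleton_iff.2 (congrArg Subtype.val (hcomm.is_comm.comm
          (⟨x, hx⟩ : (P : Subgroup G)) ⟨z, hP (mem_zpowers z)⟩))
      · exact hq ▸ orderOf_dvd_card_of_mem (mem_centralizer_singleton'.2
          (mem_centralizer_singleton'.1 hz1).symm)
    exact mem_centralizer_singleton_iff.1 (hC ▸ mem_top g)
  haveI := Fintype.ofFinite (G ⧸ zpowers q)
  have e : (G ⧸ zpowers q) ≃ Fin 4 := Finite.equivFinOfCardEq hi
  rw [normalCore_eq_ker, MonoidHom.ker_eq_bot_iff] at hcore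
  let f : G →* Equiv.Perm (Fin 4) := e.permCongrHom.toMonoidHom.comp (MulAction.toPermHom G _)
  have hf : Function.Injective f := e.permCongrHom.injective.comp hcore
  have h1 : f.range.index = 2 := by
    have := f.range.card_mul_index
    rw [← Nat.card_congr (MonoidHom.ofInjective hf).toEquiv, hG, Nat.card_perm, Nat.card_fin] at this
    simp only [Nat.factorial] at this
    omega
  exact ⟨(MonoidHom.ofInjective hf).trans
    (MulEquiv.subgroupCongr (Equiv.Perm.eq_alternatingGroup_of_index_eq_two h1))⟩

end Cfsg.Agent.S0228
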