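import Cfsg.Statements.S0928
import Cfsg.Agent.Lib.Block.More

set_option autoImplicit false
open Cfsg

namespace Cfsg.Agent.S0928

open Cfsg.Agent.Blk
open Cfsg.Agent.Char hiding cj cj_mul cj_inv_cj cj_cj_inv
open MonoidAlgebra

/-- Let χ be an irreducible character of the finite group G and p a prime. If χ g = 0 for every element g of order p, then the exponent of p in the degree χ(1) equals the exponent of p in the order of G (χ has p-defect zero). -/
theorem result {G : Type*} [Group G] [Finite G] (p : ℕ) [Fact p.Prime] (χ : Cfsg.IrrCharacter G) (hvan : ∀ g : G, orderOf g = p → (χ : G → ℂ) g = 0) : (Cfsg.charDegree (χ : G → ℂ)).factorization p = (Nat.card G).factorization p := by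
  classical
  have := Fintype.ofFinite G
  have hp := (Fact.out : p.Prime)
  obtain ⟨M, hM⟩ := exists_pmod p
  have hB := isPBlock_blockOf (M := M) χ
  have hχ := mem_blockOf_self (M := M) χ
  obtain ⟨P, hP⟩ := hB.isBlock.exists_isDef p
  refine (hB.defect_eq_zero_iff hχ).1 (hB.defect_eq_zero_iff_isDef.2 ?_)
  suffices h : P = ⊥ by rwa [h] at hP
  refine eq_bot_of_inf_Ce hP.pg ?_
  by_contra hne
  set z : (O M)[G] := ofFun fun g => if g ^ p = 1 then 1 else 0 with hz
  have hzZ : z ∈ Z (O M) (⊤ : Subgroup G) := ofFun_mem_Z fun x g => by simp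
  have h1 := hB.lam_toK hχ hzZ
  have h2 : Blk.om χ (toC M z) = 1 := by
    rw [om_eq_sum, Finset.sum_eq_single 1]
    · rw [coeff_toC, hz, coeff_ofFun]; simp [χ.2.apply_one_ne_zero]
    · intro g _ hg
      rw [coeff_toC, hz, coeff_ofFun]
      split_ifs with h
      · rw [hvan g (orderOf_eq_prime h hg)]; simp
      · simp
    · simp
  have hc : ∀ g, (toK M z).coeff g = if g ^ p = 1 then 1 else 0 := fun g => by
    rw [coeff_toK, hz, coeff_ofFun]; split_ifs <;> simp
  rw [h2, rd_one, hB.isBlock.lam_of_pelt hP (toK_mem_Z hzZ) fun g hg => pelt_iff.2 ⟨1, by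
    rw [hc] at hg; simpa using hg⟩] at h1
  simp only [hc] at h1
  let W : Subgroup G :=
    { carrier := {x | x ∈ P ⊓ Ce P ∧ x ^ p = 1}
      mul_mem' := fun {a b} ha hb => ⟨mul_mem ha.1 hb.1, by
        rw [Commute.mul_pow (mem_Ce.1 (mi2 hb.1) a (mi1 ha.1)), ha.2, hb.2, one_mul]⟩
      one_mem' := ⟨one_mem _, one_pow _⟩
      inv_mem' := fun {a} ha => ⟨inv_mem ha.1, by rw [inv_pow, ha.2, inv_one]⟩ }
  have h3 : Nat.card W = ((Finset.univ.filter fun x : G => x ∈ P ⊓ Ce P).filter
      fun x => x ^ p = 1).card := by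
    rw [← Fintype.card_coe, Nat.card_eq_fintype_card]
    exact Fintype.card_congr (Equiv.subtypeEquivRight fun x => by simp [W, ← SetLike.mem_coe])
  rw [Finset.sum_boole, ← h3] at h1
  have h4 : p ∣ Nat.card ↥(P ⊓ Ce P) := by
    rcases (isPGroup_le hP.pg inf_le_left : IsPGroup p ↥(P ⊓ Ce P)).card_eq_or_dvd with h | h
    · exact absurd (Subgroup.card_eq_one.1 h) hne
    · exact h
  obtain ⟨x, hx⟩ := exists_prime_orderOf_dvd_card' p h4
  have h5 : (x : G) ∈ W := ⟨x.2, by rw [← hx, ← Subgroup.orderOf_coe, pow_orderOf_eq_one]⟩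
  have h6 : p ∣ Nat.card W := by
    rw [← hx, ← Subgroup.orderOf_coe]; exact Subgroup.orderOf_dvd_natCard W h5
  rw [(CharP.cast_eq_zero_iff (kk M) p _).2 h6] at h1
  exact zero_ne_one h1

end Cfsg.Agent.S0928
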