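import Cfsg.Statements.S3968
import Cfsg.Agent.Lib.Char.Integral

set_option autoImplicit false
open Cfsg

namespace Cfsg.Agent.S3968

open Cfsg.Agent.Char

/-- Let `p` be a prime and `G` a finite group with a faithful irreducible complex character of degree `p` (so `G` is an irreducible linear group in `p` variables). If `p ^ 2` divides the order of `G`, then the centre of `G` is nontrivial. -/
theorem result {G : Type*} [Group G] [Finite G] (p : ℕ) (hp : p.Prime) (χ : Cfsg.IrrCharacter G) (hdeg : χ.1 1 = p) (hfaith : ∀ g : G, χ.1 g = χ.1 1 → g = 1) (hdiv : p ^ 2 ∣ Nat.card G) : Subgroup.center G ≠ ⊥ := by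
  classical
  intro hZ
  haveI : Fact p.Prime := ⟨hp⟩
  obtain ⟨χ, hχ⟩ := χ
  simp only at hdeg hfaith
  have hker : charKer χ = ⊥ := by
    rw [eq_bot_iff]; intro g hg; exact hfaith g (hχ.isCharacter.mem_charKer.1 hg)
  have hcen : charCenter χ = ⊥ := (hχ.charCenter_eq_center hker).trans hZ
  obtain ⟨P⟩ : Nonempty (Sylow p G) := inferInstance
  have := Fintype.ofFinite (P : Subgroup G)
  have hPc : p ^ 2 ∣ Nat.card (P : Subgroup G) := P.pow_dvd_card_of_pow_dvd_card hdiv
  have hres := hχ.isCharacter.res (P : Subgroup G)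
  by_cases hab : ∀ ψ, IsIrrCharacter (P : Subgroup G) ψ →
      classInner (fun x : (P : Subgroup G) => χ x) ψ ≠ 0 → ψ 1 = 1
  · have hcomm : ∀ x y : (P : Subgroup G), x * y = y * x := by
      intro x y
      have h1 : x * y * x⁻¹ * y⁻¹ ∈ charKer (fun x : (P : Subgroup G) => χ x) := by
        apply hres.mem_charKer_of_forall_constituent
        intro ψ hψ hne
        exact (hψ.apply_one_eq_one_iff.1 (hab ψ hψ hne))
          (Subgroup.commutator_mem_commutator (Subgroup.mem_top x) (Subgroup.mem_top y))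
      have h2 := hfaith _ (hres.mem_charKer.1 h1)
      have h3 : x * y * x⁻¹ * y⁻¹ = 1 := Subtype.ext h2
      rw [mul_inv_eq_one, mul_inv_eq_iff_eq_mul] at h3
      exact h3
    have hv : ∀ z : (P : Subgroup G), z ≠ 1 → χ z = 0 := by
      intro z hz
      have h1 : (P : Subgroup G) ≤ Subgroup.centralizer ({(z : G)} : Set G) := by
        intro x hx
        rw [Subgroup.mem_centralizer_singleton_iff]
        exact congrArg Subtype.val (hcomm ⟨x, hx⟩ z)
      have h2 : p.Coprime (Subgroup.centralizer ({(z : G)} : Set G)).index :=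
        (Nat.Prime.coprime_iff_not_dvd hp).2 fun h =>
          P.not_dvd_index (h.trans (Subgroup.index_dvd_of_le h1))
      rcases hχ.eq_zero_or_norm_eq_of_coprime hdeg h2 with h | h
      · exact h
      · have h3 := hχ.isCharacter.mem_charCenter.2 h
        rw [hcen, Subgroup.mem_bot] at h3
        exact absurd (Subtype.ext h3) hz
    obtain ⟨n, hn⟩ := hres.classInner_eq_nat isCharacter_one
    rw [classInner_one_right, Finset.sum_eq_single 1 (fun z _ hz => hv z hz) (by simp),
      inv_mul_eq_iff_eq_mul₀ (card_ne_zero' _)] at hn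
    have h4 : p = Nat.card (P : Subgroup G) * n := by
      have : (p : ℂ) = (Nat.card (P : Subgroup G) : ℂ) * n := by rw [← hn, ← hdeg]; rfl
      exact_mod_cast this
    have h5 : p ^ 2 ∣ p := hPc.trans ⟨n, h4⟩
    have h6 := Nat.le_of_dvd hp.pos h5
    have := hp.two_le
    nlinarith
  · push Not at hab
    obtain ⟨ψ, hψ, hne, h1⟩ := hab
    obtain ⟨d, hd0, hd⟩ := hψ.exists_degree
    obtain ⟨m, hm⟩ := hres.classInner_eq_nat hψ.isCharacter
    have hm0 : m ≠ 0 := by rintro rfl; exact hne (by simpa using hm)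
    have h2 : m * d ≤ p := hres.mul_degree_le hψ hm hd hdeg
    have h3 : d ∣ Nat.card (P : Subgroup G) := hψ.degree_dvd_card hd
    obtain ⟨k, hk⟩ := IsPGroup.iff_card.1 P.isPGroup'
    rw [hk] at h3
    obtain ⟨j, -, rfl⟩ := (Nat.dvd_prime_pow hp).1 h3
    have hj : j ≠ 0 := by rintro rfl; exact h1 (by simpa using hd)
    have h4 : p ^ j = p := by
      apply le_antisymm (le_trans (Nat.le_mul_of_pos_left _ (Nat.pos_of_ne_zero hm0)) h2)
      exact Nat.le_self_pow hj p
    have h5 := hres.eq_of_constituent_of_apply_one hψ hne (by rw [hd, h4]; exact hdeg)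
    have hnt : Nontrivial (P : Subgroup G) := by
      rw [← Finite.one_lt_card_iff_nontrivial]
      exact lt_of_lt_of_le (Nat.one_lt_pow two_ne_zero hp.one_lt) (Nat.le_of_dvd Nat.card_pos hPc)
    have := P.isPGroup'.center_nontrivial
    obtain ⟨z, hz⟩ := exists_ne (1 : Subgroup.center (P : Subgroup G))
    have h6 := hψ.isCharacter.mem_charCenter.1 (hψ.center_le_charCenter z.2)
    rw [← h5] at h6
    have h7 := hχ.isCharacter.mem_charCenter.2 h6
    rw [hcen, Subgroup.mem_bot] at h7
    exact hz (Subtype.ext (Subtype.ext h7))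

end Cfsg.Agent.S3968
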