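import Cfsg.Statements.S0107
import Cfsg.Agent.Lib.Transfer.PG

set_option autoImplicit false
open Cfsg

namespace Cfsg.Agent.S0107

set_option linter.unusedSectionVars false
set_option linter.unusedVariables false
set_option linter.style.haveILetI false
set_option linter.unusedSimpArgs false

open Subgroup Transfer MS

/-- A finite group with no nontrivial 2-group quotient and dihedral Sylow 2-subgroups of order at least 8 has a single class of involutions. -/
theorem result {G : Type*} [Group G] [Finite G] (T : Sylow 2 G) (n : ℕ) (hn : 2 ≤ n) (hT : Nonempty ((T : Subgroup G) ≃* DihedralGroup (2 ^ n))) (hO : Cfsg.pResidual 2 G = ⊤) (x y : G) (hx : orderOf x = 2) (hy : orderOf y = 2) : ∃ g : G, g * x * g⁻¹ = y := by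
  obtain ⟨m, rfl⟩ : ∃ m, n = m + 1 := ⟨n - 1, by omega⟩
  obtain ⟨a, b, h, -⟩ := invData_of_dihedral (isSyl_top T) (by omega) hT.some
  have key : ∀ x : G, orderOf x = 2 → IsConj x (a ^ 2 ^ m) := fun x hx => by
    obtain ⟨g, hg⟩ := h.exists_conj_mem ⟨1, hx⟩
    have h2 := (orderOf_conj g x).trans hx
    rcases thompson_transfer (odd_index_sylow_two T) h.relIndex (sq_eq_one_of_orderOf h2) hg with ⟨M, -, h1, -⟩ | ⟨k, hk⟩
    · exact absurd h1 (pResidual_two_eq_top_iff.1 hO M)
    · refine isConj_iff.2 ⟨k * g, ?_⟩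
      rw [← invol_eq_of_mem_zpowers hk (npow_mem_zpowers a _) ((orderOf_conj k _).trans h2) h.ord_t]
      group
  exact isConj_iff.1 ((key x hx).trans (key y hy).symm)

end Cfsg.Agent.S0107
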