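import Cfsg.Statements.S1202
import Cfsg.Agent.Lib.Transfer.Wr3

set_option autoImplicit false
open Cfsg

namespace Cfsg.Agent.S1202

set_option linter.unusedSectionVars false
set_option linter.unusedVariables false
set_option linter.style.haveILetI false
set_option linter.unusedSimpArgs false

open Subgroup Transfer MS

/-- Let S be a wreathed 2-group of order 2^(2n+1) and X a subgroup with C_S(X) ≤ X such that Aut(X) is not a 2-group. Then |N_S(X) : X| = 2, and either X is the commutative subgroup of order 2^(2n), or X = Q·Z(S) for some subgroup Q ≅ Q₈; in the latter case any two such subgroups are conjugate in S. -/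
theorem result {S : Type*} [Group S] [Finite S] (hS : Cfsg.IsWreathed S) (n : ℕ) (hn : Nat.card S = 2 ^ (2 * n + 1)) (X : Subgroup S) (hC : Subgroup.centralizer (X : Set S) ≤ X) (hA : ¬ IsPGroup 2 (MulAut X)) : X.relIndex (Subgroup.normalizer (X : Set S)) = 2 ∧ ((IsMulCommutative X ∧ Nat.card X = 2 ^ (2 * n)) ∨ ∃ Q : Subgroup S, Nonempty (Q ≃* QuaternionGroup 2) ∧ X = Q ⊔ Subgroup.center S) ∧ ∀ X' : Subgroup S, Subgroup.centralizer (X' : Set S) ≤ X' → ¬ IsPGroup 2 (MulAut X') → ¬ IsMulCommutative X → ¬ IsMulCommutative X' → ∃ s : S, X.map (MulAut.conj s).toMonoidHom = X' := by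
  obtain ⟨x, y, z, m, h⟩ := wr_top hS
  obtain rfl := h.n_eq (card_top.trans hn)
  have h1 := h.aut_cases le_top (inf_le_right.trans hC) hA
  refine ⟨?_, h1.imp (fun e => by rw [e]; exact ⟨h.abU, h.card_U⟩) fun ⟨Q, _, h8, e⟩ => ⟨Q, h8, by
    rw [e, center_eq_of_top h.center]⟩, fun X' h2 h3 h4 h5 => ?_⟩
  · obtain rfl | ⟨Q, hQ, h8, rfl⟩ := h1
    · rw [eq_top_iff.2 h.a2.nn]; exact h.a2.idx
    · simpa using (h.ix2_V hQ h8).idx
  obtain ⟨Q, hQ, h8, rfl⟩ := h1.resolve_left fun e => h4 (e ▸ h.abU)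
  obtain ⟨Q', hQ', h8', rfl⟩ := (h.aut_cases le_top (inf_le_right.trans h2) h3).resolve_left fun e => h5 (e ▸ h.abU)
  obtain ⟨u, -, -, e⟩ := h.q8_conj hQ h8 hQ' h8'
  exact ⟨u, e⟩

end Cfsg.Agent.S1202
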