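import Cfsg.Statements.S3116
import Cfsg.Agent.Lib.Transfer.MC

set_option autoImplicit false
open Cfsg

namespace Cfsg.Agent.S3116

set_option linter.unusedSectionVars false
set_option linter.unusedVariables false
set_option linter.style.haveILetI false
set_option linter.unusedSimpArgs false

open Subgroup Transfer MS

/-- The automorphism group of a dihedral 2-group of order at least 8, or of a quasi-dihedral (semidihedral) 2-group of order at least 16, is a 2-group. -/
theorem result {X : Type*} [Group X] [Finite X] (h2 : IsPGroup 2 X)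
    (h : (∃ n : ℕ, 4 ≤ n ∧ Nonempty (X ≃* DihedralGroup n)) ∨ Cfsg.IsQuasiDihedral X) : IsPGroup 2 (MulAut X) := by
  by_contra hn
  rcases h with ⟨m, hm, ⟨e⟩⟩ | h
  · obtain ⟨a, b, n, h1, h3, -, rfl⟩ := mc_of_dihedral (h2.to_subgroup ⊤) (by omega) (topEquiv.trans e)
    refine (h1.map hl_injective).not_ess ?_ (.inr (by rw [← map_mul, h3, map_one])) (ess_hol hn)
    rcases n with _ | n <;> omega
  · obtain ⟨a, b, n, h⟩ := qd_top h
    exact (h.map hl_injective).not_ess h.one (.inl h.two) (ess_hol hn)

end Cfsg.Agent.S3116
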