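import Cfsg.Statements.S0242
import Mathlib

set_option autoImplicit false
open Cfsg

namespace Cfsg.Agent.S0242


/-- Order of the special linear group: (q - 1) |SL_n(q)| = prod_{i<n} (q^n - q^i) = |GL_n(q)|, for n at least 1. -/
theorem result {F : Type*} [Field F] [Fintype F] {q : ℕ} (hF : Fintype.card F = q) (n : ℕ) (hn : 1 ≤ n) : (q - 1) * Nat.card (Matrix.SpecialLinearGroup (Fin n) F) = ∏ i : Fin n, (q ^ n - q ^ (i : ℕ)) := by
  classical
  subst hF
  haveI : NeZero n := ⟨by omega⟩
  rw [← Matrix.card_GL_field, ← Nat.card_eq_fintype_card, ← Nat.card_units]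
  have h1 : Function.Surjective (Matrix.GeneralLinearGroup.det : GL (Fin n) F →* Fˣ) := fun c =>
    ⟨Matrix.GeneralLinearGroup.mkOfDetNeZero (Matrix.diagonal (Function.update 1 0 (c : F)))
      (by simp [Finset.prod_update_of_mem]), by ext; simp [Finset.prod_update_of_mem]⟩
  have h2 := Subgroup.card_mul_index (Matrix.GeneralLinearGroup.det : GL (Fin n) F →* Fˣ).ker
  rw [Subgroup.index_ker, MonoidHom.range_eq_top.2 h1, Subgroup.card_top] at h2
  rw [← h2, mul_comm]
  congr 1
  refine Nat.card_congr ⟨fun g => ⟨Matrix.SpecialLinearGroup.toGL g, by ext; simp⟩,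
    fun g => ⟨g.1.1, congrArg Units.val g.2⟩, fun _ => rfl, fun _ => Subtype.ext (Units.ext rfl)⟩

end Cfsg.Agent.S0242
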