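import Cfsg.Statements.S0403
import Cfsg.Agent.Lib.Leech.Co3

set_option autoImplicit false
open Cfsg

namespace Cfsg.Agent.S0403

set_option linter.unusedSectionVars false
set_option linter.unusedVariables false
set_option linter.style.haveILetI false
set_option linter.unusedSimpArgs false

open Cfsg.Agent.Leech in

/-- Stabiliser of a vector of sum of squares 48 is simple of order 495766656000. -/
theorem result (v : Cfsg.leechLattice) (hv : Cfsg.sqNorm (v : Cfsg.GolayPt → ℤ) = 48) : Cfsg.IsCo3 (MulAction.stabilizer Cfsg.Co0 v) := by
  obtain ⟨g, h⟩ := to_U0 v hv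
  exact simple_card_of (conjE g fun a => by rw [mem_stab_conj g, h]; rfl) K3_simple

end Cfsg.Agent.S0403
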