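import Cfsg.Statements.S0292
import Cfsg.Agent.Lib.Classical.OrthStm

set_option autoImplicit false
open Cfsg

namespace Cfsg.Agent.S0292
open Cfsg.Agent.Classical


/-- 2 |PΩ_{2m+1}(q)| = q^(m^2) prod_{i=1}^{m} (q^(2i) - 1), for q odd and m at least 3 (type B_m). -/
theorem result {F : Type*} [Field F] [Fintype F] {q : ℕ} (hF : Fintype.card F = q) (hodd : Odd q) (m : ℕ) (hm : 3 ≤ m) : 2 * Nat.card (Cfsg.POmega F (Cfsg.quadFormOdd m F)) = q ^ (m ^ 2) * ∏ i ∈ Finset.range m, (q ^ (2 * (i + 1)) - 1) := by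
  subst hF
  have h2 := two_ne_zero_of_odd hodd
  have hΦ := oddForm_nondeg (F := F) m h2
  obtain ⟨φ⟩ := nonempty_POmega (oddForm m F)
  have hr : Module.finrank F (Unit ⊕ (Fin m ⊕ Fin m) → F) = 2 * m + 1 := by simp; omega
  have h1 := card_orth_odd m _ hΦ hr
  have h3 := Subgroup.index_mul_card (commutator (oddForm m F).Isom)
  have h4 := card_center_mul (G := commutator (oddForm m F).Isom)
  have h5 := center_omega_odd hΦ (by rw [hr]; exact odd_two_mul_add_one m) (by omega)
  have h6 : Nat.card (Subgroup.center (commutator (oddForm m F).Isom)) = 1 := by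
    rw [h5, Subgroup.card_bot]
  rw [Form.index_commutator_odd hΦ h2 (by omega), h1, Nat.card_eq_fintype_card (α := F), mul_assoc] at h3
  have h7 : Nat.card (Cfsg.POmega F (Cfsg.quadFormOdd m F)) = _ := Nat.card_congr φ.toEquiv
  rw [h6] at h4
  omega

end Cfsg.Agent.S0292
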