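import Cfsg.Statements.S1124
import Cfsg.Agent.Lib.Transfer.Invol

set_option autoImplicit false
open scoped Pointwise
open Cfsg

namespace Cfsg.Agent.S1124

/-- Let `t` be an element of order 2 of a finite group normalising a subgroup `X` of odd order, `Y = C_X(t)` and `Z` the set of elements of `X` inverted by `t`. Then `(y, z) ↦ y z` is a bijection `Y × Z → X`, so `|X| = |Y| |Z|`, and the subgroup generated by `Z` is normal in `X`. -/
theorem result {M : Type*} [Group M] [Finite M]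
    (t : M) (ht : orderOf t = 2) (X : Subgroup M) (hodd : Odd (Nat.card X))
    (hnorm : ∀ x ∈ X, t * x * t⁻¹ ∈ X) :
    (∀ x ∈ X, ∃! p : M × M, p.1 ∈ X ⊓ Subgroup.centralizer {t} ∧ p.2 ∈ Cfsg.invertedBy X t ∧ x = p.1 * p.2) ∧
      Nat.card X = Nat.card ↥(X ⊓ Subgroup.centralizer {t}) * Nat.card (Cfsg.invertedBy X t) ∧
      ∀ x ∈ X, MulAut.conj x • Subgroup.closure (Cfsg.invertedBy X t) = Subgroup.closure (Cfsg.invertedBy X t) := by
  have htt : t * t = 1 := Transfer.mul_self_of_orderOf ht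
  have hti : t⁻¹ = t := Transfer.inv_eq_of_orderOf ht
  have h1 : ∀ x ∈ X, ∃! p : M × M, p.1 ∈ X ⊓ Subgroup.centralizer {t} ∧ p.2 ∈ Cfsg.invertedBy X t ∧
      x = p.1 * p.2 := by
    intro x hx
    have hw : (t * x * t⁻¹)⁻¹ * x ∈ X := mul_mem (inv_mem (hnorm x hx)) hx
    obtain ⟨k, hk⟩ := Transfer.exists_sq_eq_of_odd (Transfer.odd_orderOf_of_mem hodd hw)
    have hinv : t * ((t * x * t⁻¹)⁻¹ * x) * t⁻¹ = ((t * x * t⁻¹)⁻¹ * x)⁻¹ := by
      rw [hti]; simp only [mul_inv_rev, inv_inv, hti, ← mul_assoc, htt, one_mul]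
    have hz := Transfer.conj_pow_of_inverts hinv k
    set z := ((t * x * t⁻¹)⁻¹ * x) ^ k with hzd
    refine ⟨(x * z⁻¹, z), ⟨⟨X.mul_mem hx (X.inv_mem (X.pow_mem hw k)), ?_⟩, ⟨pow_mem hw k, hz⟩, by simp⟩, ?_⟩
    · refine Transfer.mem_centralizer_singleton'.2 (Commute.symm (Transfer.commute_iff_conj.2 ?_))
      calc t * (x * z⁻¹) * t⁻¹ = (t * x * t⁻¹) * (t * z * t⁻¹)⁻¹ := by group
        _ = (t * x * t⁻¹) * (z * z) * z⁻¹ := by rw [hz]; group
        _ = _ := by rw [hk]; group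
    · rintro ⟨y, w⟩ ⟨⟨hy1, hy2⟩, ⟨hw1, hw2⟩, rfl⟩
      have hy3 := Transfer.commute_iff_conj.1 (Transfer.mem_centralizer_singleton'.1 hy2).symm
      dsimp only at *
      have : w = z := by
        refine Transfer.eq_of_sq_eq_of_odd (Transfer.odd_orderOf_of_mem hodd hw1)
          (Transfer.odd_orderOf_of_mem hodd (pow_mem hw k)) ?_
        rw [hk, show t * (y * w) * t⁻¹ = (t * y * t⁻¹) * (t * w * t⁻¹) by group, hy3, hw2]; group
      rw [← this]; simp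
  refine ⟨h1, ?_, fun x hx => ?_⟩
  · rw [← Nat.card_prod]
    refine (Nat.card_congr (Equiv.ofBijective (fun q : ↥(X ⊓ Subgroup.centralizer {t}) × invertedBy X t =>
      (⟨q.1 * q.2, mul_mem q.1.2.1 q.2.2.1⟩ : X)) ⟨?_, ?_⟩)).symm
    · rintro ⟨a, b⟩ ⟨c, d⟩ h
      have h2 : (a : M) * b = c * d := congrArg Subtype.val h
      have := (h1 _ (mul_mem a.2.1 b.2.1)).unique (y₁ := (a, b)) (y₂ := (c, d)) ⟨a.2, b.2, rfl⟩
        ⟨c.2, d.2, h2⟩
      exact Prod.ext (Subtype.ext (congrArg Prod.fst this)) (Subtype.ext (congrArg Prod.snd this))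
    · intro x
      obtain ⟨⟨y, z⟩, ⟨a, b, c⟩, -⟩ := h1 x x.2
      exact ⟨(⟨y, a⟩, ⟨z, b⟩), Subtype.ext c.symm⟩
  · obtain ⟨⟨y, z⟩, ⟨a, b, c⟩, -⟩ := h1 x hx
    dsimp only at *
    have hy3 := Transfer.commute_iff_conj.1 (Transfer.mem_centralizer_singleton'.1 a.2).symm
    rw [← Transfer.cj_eq_smul, c, ← Transfer.cj_cj,
      Transfer.cj_eq_of_mem (Subgroup.subset_closure b)]
    refine Transfer.cj_eq_of_mem_normalizer (Transfer.mem_normalizer_of_cj_le ?_)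
    rw [Transfer.cj, MonoidHom.map_closure, Subgroup.closure_le]
    rintro _ ⟨w, ⟨w1, w2⟩, rfl⟩
    refine Subgroup.subset_closure ⟨mul_mem (mul_mem a.1 w1) (inv_mem a.1), ?_⟩
    change t * (y * w * y⁻¹) * t⁻¹ = (y * w * y⁻¹)⁻¹
    rw [show t * (y * w * y⁻¹) * t⁻¹ = (t * y * t⁻¹) * (t * w * t⁻¹) * (t * y * t⁻¹)⁻¹ by group, hy3, w2]
    group

end Cfsg.Agent.S1124
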