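import Cfsg.Statements.S1132
import Cfsg.Agent.Lib.Char.RankOne2

set_option autoImplicit false
open Cfsg

namespace Cfsg.Agent.S1132

open Cfsg.Agent.Char

/-- In the rank-one set-up (`G` finite and doubly transitive on `Ω`, `t` an involution moving `a`, `Q` normal in `G_a` with `G_a = Q D`, `Q ⊓ D = 1` for the two-point stabiliser `D = G_a ⊓ G_{t • a}`, `|Q|` even, `|D|` odd), with the action faithful and `G` containing two distinct commuting involutions: a Sylow 2-subgroup of `Q` is abelian or a Suzuki 2-group. -/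
theorem result {G Ω : Type*} [Group G] [Finite G] [MulAction G Ω] [FaithfulSMul G Ω] {a : Ω} {t : G} {Q : Subgroup G}
    (hS : Cfsg.IsRankOneSetup G Ω a t Q)
    (h2 : ∃ x y : G, x ≠ 1 ∧ y ≠ 1 ∧ x ≠ y ∧ x * x = 1 ∧ y * y = 1 ∧ x * y = y * x)
    (S : Sylow 2 ↥Q) : IsMulCommutative (S : Subgroup ↥Q) ∨ Cfsg.IsSuzukiTwoGroup ↥(S : Subgroup ↥Q) := by
  refine or_iff_not_imp_left.2 fun hc => ⟨inferInstance, S.2, ?_, ?_, ?_⟩
  · by_contra! h
    exact hc ⟨⟨h⟩⟩
  all_goals
    have hN := RankOne.nilpotent_Q hS h2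
    have hm : ∀ s (hs : s ∈ RankOne.I G a), (⟨s, RankOne.I_Q hS hs⟩ : Q) ∈ (S : Subgroup Q) :=
      fun s hs => (Transfer.isSyl_top S).le_of_le_normalizer (Q := Subgroup.zpowers _)
        (Transfer.isPGroup_two_zpowers (Subtype.ext hs.2.2)) le_top
        Subgroup.le_normalizer_of_normal (Subgroup.mem_zpowers _)
  · obtain ⟨x, hx, y, hy, hxy, -⟩ := RankOne.exists_four hS h2
    exact ⟨⟨_, hm x hx⟩, ⟨_, hm y hy⟩, fun e => hxy (congrArg (fun z => z.1.1) e),
      fun e => hx.2.1 (congrArg (fun z => z.1.1) e), Subtype.ext (Subtype.ext hx.2.2),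
      fun e => hy.2.1 (congrArg (fun z => z.1.1) e), Subtype.ext (Subtype.ext hy.2.2)⟩
  · have hle : RankOne.KK a t ≤ Subgroup.normalizer (Q : Set G) := fun k hk =>
      RankOne.H_le_normalizer hS ((RankOne.mem_KK hS h2).1 hk).1.1
    have hch : (S : Subgroup Q).Characteristic := Sylow.characteristic_of_normal S inferInstance
    let φ : RankOne.KK a t →* MulAut S := (MulAut.characteristic (S : Subgroup Q)).comp
      (Q.normalizerMonoidHom.comp (Subgroup.inclusion hle))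
    have hφ : ∀ (k : RankOne.KK a t) (x : S), ((φ k x : Q) : G) = k * x.1.1 * (k : G)⁻¹ :=
      fun _ _ => rfl
    have := RankOne.isCyclic_KK hS h2
    refine ⟨φ.range, isCyclic_of_surjective _ φ.rangeRestrict_surjective, fun x y h1 h3 h4 h5 => ?_⟩
    have hI : ∀ x : S, x ≠ 1 → x * x = 1 → x.1.1 ∈ RankOne.I G a := fun x h1 h3 =>
      ⟨hS.le x.1.2, fun e => h1 (Subtype.ext (Subtype.ext e)), congrArg (fun z => z.1.1) h3⟩
    obtain ⟨k, hk, e⟩ := RankOne.K_surj hS (hI x h1 h3) (hI y h4 h5)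
    refine ⟨⟨φ ⟨k⁻¹, inv_mem (Subgroup.subset_closure hk)⟩, _, rfl⟩,
      Subtype.ext (Subtype.ext ((hφ _ x).trans (by simpa using e))), ?_⟩
    rintro ⟨_, l, rfl⟩ hl
    have h6 := RankOne.K_inj hS (hI x h1 h3) (RankOne.K_inv ((RankOne.mem_KK hS h2).1 l.2)) hk (by
      rw [inv_inv, e, ← hφ]
      exact congrArg (fun z => z.1.1) hl)
    exact Subtype.ext (congrArg φ (Subtype.ext (inv_eq_iff_eq_inv.1 h6)))

end Cfsg.Agent.S1132
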