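import Cfsg.Statements.S0270
import Cfsg.Agent.Lib.Classical.SpUE

set_option autoImplicit false
open Cfsg

namespace Cfsg.Agent.S0270
open Cfsg.Agent.Classical


/-- PSp_{2m}(q) is simple for m at least 2 and (m, q) other than (2, 2). -/
theorem result {F : Type*} [Field F] [Fintype F] (m : ℕ) (hm : 2 ≤ m) (h : m = 2 → 3 ≤ Fintype.card F) : IsSimpleGroup (Cfsg.PSp m F) := by
  obtain ⟨φ⟩ := nonempty_central_quot_equiv (spEquiv m F)
  have := Form.symp_simple (spForm_nondeg (F := F) m) (by simp; omega)
    (symp_perfect_fin (spForm_nondeg m) (by simp; omega))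
  exact φ.isSimpleGroup

end Cfsg.Agent.S0270
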