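import Cfsg.Statements.S1054
import Cfsg.Agent.Lib.Chev.Order

set_option autoImplicit false
open Cfsg

namespace Cfsg.Agent.S1054

/-- The Chevalley groups of types D₄, F₄, E₆, E₇, E₈ are simple over every field. -/
theorem result {F : Type*} [Field F] (D : Cfsg.Lie.ChevalleyDatum)
    (hD : D ∈ [Cfsg.Lie.chevD4, Cfsg.Lie.chevF4, Cfsg.Lie.chevE6, Cfsg.Lie.chevE7, Cfsg.Lie.chevE8]) :
    IsSimpleGroup ↥(D.group F) ∧ ¬ IsMulCommutative ↥(D.group F) := by
  simp only [List.mem_cons, List.not_mem_nil, or_false] at hD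
  open Cfsg.Agent.Chev in
  rcases hD with rfl | rfl | rfl | rfl | rfl
  exacts [checkedD4.simple conn_D4 (by decide) (perfect_D4 St.res_Gx),
    checkedF4.simple conn_F4 (by decide) (perfect_F4 St.res_Gx),
    checkedE6.simple conn_E6 (by decide) (perfect_E6 St.res_Gx),
    checkedE7.simple conn_E7 (by decide) (perfect_E7 St.res_Gx),
    checkedE8.simple conn_E8 (by decide) (perfect_E8 St.res_Gx)]

end Cfsg.Agent.S1054
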