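import Cfsg.Statements.S0247
import Cfsg.Agent.Lib.Classical.Small1
import Cfsg.Agent.S0245

set_option autoImplicit false
open Cfsg

namespace Cfsg.Agent.S0247
open Cfsg.Agent.Classical

def v5 : Fin 6 → Fin 2 ⊕ Fin 2 → ZMod 2 :=
  ![0, Sum.elim ![0, 0] ![0, 1], Sum.elim ![0, 1] ![0, 0], Sum.elim ![0, 1] ![1, 1], Sum.elim ![1, 1] ![0, 1],
    Sum.elim ![1, 1] ![1, 1]]

def T5 (i : Fin 6) : Matrix (Fin 2 ⊕ Fin 2) (Fin 2 ⊕ Fin 2) (ZMod 2) :=
  Matrix.of fun a b => (if a = b then 1 else 0) + v5 i a * v5 i b.swap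

theorem r3 : ∀ i j k : Fin 6, (i ≠ 0 ∧ j ≠ 0 ∧ k ≠ 0 ∧ i ≠ j ∧ i ≠ k ∧ j ≠ k) →
    T5 i * T5 j * T5 i * T5 k = T5 k * (T5 i * T5 j * T5 i) := by
  set_option synthInstance.maxSize 1024 in decide +kernel

theorem T5_mem : ∀ i, T5 i * Matrix.J (Fin 2) (ZMod 2) * (T5 i).transpose = Matrix.J (Fin 2) (ZMod 2) := by
  decide +kernel


/-- Sp_4(2) is isomorphic to the symmetric group S_6. -/
theorem result {F : Type*} [Field F] [Fintype F] (hF : Fintype.card F = 2) : Nonempty (Matrix.symplecticGroup (Fin 2) F ≃* Equiv.Perm (Fin 6)) := by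
  let f := (ZMod.ringEquivOfPrime F Nat.prime_two hF).toRingHom
  let θ : Matrix.symplecticGroup (Fin 2) (ZMod 2) →* Matrix.symplecticGroup (Fin 2) F :=
    MonoidHom.mk' (fun A => ⟨A.1.map f, SymplecticGroup.map_mem (f := f) A.2⟩) fun A B => Subtype.ext Matrix.map_mul
  have hθ : Function.Injective θ := fun A B h =>
    Subtype.ext (Matrix.map_injective f.injective (congrArg Subtype.val h))
  obtain ⟨φ, hφ⟩ := Pres.star_hom (W := Matrix.symplecticGroup (Fin 2) (ZMod 2)) (0 : Fin 6)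
    (fun i => ⟨T5 i, T5_mem i⟩)
    (fun i a => Subtype.ext (by show T5 i * T5 i = 1; revert i; decide +kernel))
    (fun i j a b c => Subtype.ext (by show T5 i * T5 j * T5 i = T5 j * T5 i * T5 j; revert i j; decide +kernel))
    (fun i j k a b c d e g => Subtype.ext (r3 i j k ⟨a, b, c, d, e, g⟩))
  have hi : Function.Injective φ := by
    rw [← MonoidHom.ker_eq_bot_iff]
    by_contra h
    have := Equiv.Perm.alternatingGroup_le_of_normal (N := φ.ker) (by simp) ((Subgroup.nontrivial_iff_ne_bot _).2 h)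
      (show Equiv.swap 0 1 * Equiv.swap 0 2 ∈ alternatingGroup (Fin 6) by simp)
    rw [MonoidHom.mem_ker, map_mul, hφ 1 (by decide), hφ 2 (by decide)] at this
    have h2 : T5 1 * T5 2 = 1 := congrArg Subtype.val this
    revert h2; decide +kernel
  have h1 := S0245.result hF 2
  norm_num [Finset.prod_range_succ] at h1
  haveI : Finite (Matrix.symplecticGroup (Fin 2) F) := Nat.finite_of_card_ne_zero (by omega)
  exact ⟨(MulEquiv.ofBijective (θ.comp φ) ((Nat.bijective_iff_injective_and_card _).2 ⟨hθ.comp hi, by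
    rw [h1, Nat.card_perm]; simp [Nat.factorial]⟩)).symm⟩

end Cfsg.Agent.S0247
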