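import Cfsg.Statements.S1058
import Mathlib
import Cfsg.Agent.Lib.Chev.Cl8
import Cfsg.Agent.S0247

set_option autoImplicit false
open Cfsg

namespace Cfsg.Agent.S1058



/-- B₂(2) ≅ S₆. -/
theorem result {F : Type*} [Field F] [Fintype F] (hF : Fintype.card F = 2) :
    Nonempty (↥(Cfsg.Lie.chevB2.group F) ≃* Equiv.Perm (Fin 6)) := by
  obtain ⟨e1⟩ := Chev.Cl.iso_C2 F
  obtain ⟨e2⟩ := S0247.result hF
  have h : Subgroup.center (Matrix.symplecticGroup (Fin 2) F) = ⊥ := by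
    refine eq_bot_iff.2 fun x hx => e2.injective ?_
    have h1 := (Subgroup.centerCongr e2 ⟨x, hx⟩).2
    have h2 : ∀ σ : Equiv.Perm (Fin 6), Equiv.swap 0 1 * σ = σ * Equiv.swap 0 1 →
        finRotate 6 * σ = σ * finRotate 6 → σ = 1 := by decide +kernel
    rw [map_one]
    exact h2 _ (Subgroup.mem_center_iff.1 h1 _) (Subgroup.mem_center_iff.1 h1 _)
  exact ⟨e1.trans ((QuotientGroup.quotientMulEquivOfEq h).trans (QuotientGroup.quotientBot.trans e2))⟩

end Cfsg.Agent.S1058
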