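import Cfsg.Statements.S0778
import Mathlib

set_option autoImplicit false
open Cfsg

namespace Cfsg.Agent.S0778

open Matrix in
/-- block diagonal embedding -/
def emb (F : Type*) [Field F] (m : ℕ) : GL (Fin m) F →* symplecticGroup (Fin m) F where
  toFun g := ⟨fromBlocks g.1 0 0 (g⁻¹).1ᵀ, SymplecticGroup.fromBlocks_mem_iff.2 (by
    rw [← transpose_mul _ g.1, Units.inv_mul]; simp)⟩
  map_one' := Subtype.ext (by simp)
  map_mul' a b := Subtype.ext (by simp [fromBlocks_multiply])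


/-- The elements of Sp_2m(F) stabilising both W = ⟨e_1..e_m⟩ and U = ⟨f_1..f_m⟩ form a subgroup isomorphic to GL_m(F) (block-diagonal matrices diag(X, X^(−ᵀ)) up to the sign convention of J), for m ≥ 1 or m = 0 alike. -/
theorem result {F : Type*} [Field F] (m : ℕ) : Nonempty (↥(Cfsg.stabilizing (Cfsg.spToMat m F) {v : Fin m ⊕ Fin m → F | ∀ i : Fin m, v (Sum.inr i) = 0} ⊓ Cfsg.stabilizing (Cfsg.spToMat m F) {v : Fin m ⊕ Fin m → F | ∀ i : Fin m, v (Sum.inl i) = 0}) ≃* Matrix.GeneralLinearGroup (Fin m) F) := by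
  have hf : Function.Injective (emb F m) := fun a b h =>
    Units.ext (Matrix.fromBlocks_inj.1 (congrArg Subtype.val h)).1
  refine ⟨(MulEquiv.subgroupCongr ?_).trans (MonoidHom.ofInjective hf).symm⟩
  ext ⟨g, hg⟩
  refine ⟨fun ⟨h1, h2⟩ => ?_, ?_⟩
  · have hC : g.toBlocks₂₁ = 0 := by
      ext i j; simpa [Matrix.toBlocks₂₁] using (h1 (Pi.single (.inl j) 1)).1 (by simp) i
    have hB : g.toBlocks₁₂ = 0 := by
      ext i j; simpa [Matrix.toBlocks₁₂] using (h2 (Pi.single (.inr j) 1)).1 (by simp) i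
    have e := g.fromBlocks_toBlocks
    rw [hB, hC] at e
    have h3 := (SymplecticGroup.fromBlocks_mem_iff.1 (e ▸ hg)).2.2
    rw [Matrix.mul_zero, sub_zero, ← g.toBlocks₂₂.transpose_transpose, ← Matrix.transpose_mul,
      ← Matrix.transpose_one, Matrix.transpose_inj] at h3
    exact ⟨⟨_, _, mul_eq_one_comm.1 h3, h3⟩, Subtype.ext e⟩
  · rintro ⟨g, h⟩
    have i1 := Matrix.mulVec_injective_iff_isUnit.2 g.isUnit
    have i2 := Matrix.mulVec_injective_iff_isUnit.2 ((Matrix.isUnit_transpose _).2 g⁻¹.isUnit)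
    rw [← h]
    refine ⟨fun v => ?_, fun v => ?_⟩
    · show (∀ i, (v ∘ Sum.inr) i = 0) ↔ ∀ i, ((Matrix.fromBlocks _ _ _ _).mulVec v ∘ Sum.inr) i = 0
      rw [← funext_iff, ← funext_iff, Matrix.fromBlocks_mulVec, Sum.elim_comp_inr, Matrix.zero_mulVec, zero_add]
      exact ⟨fun h => by rw [h]; exact Matrix.mulVec_zero _, fun h => i2 (h.trans (Matrix.mulVec_zero _).symm)⟩
    · show (∀ i, (v ∘ Sum.inl) i = 0) ↔ ∀ i, ((Matrix.fromBlocks _ _ _ _).mulVec v ∘ Sum.inl) i = 0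
      rw [← funext_iff, ← funext_iff, Matrix.fromBlocks_mulVec, Sum.elim_comp_inl, Matrix.zero_mulVec, add_zero]
      exact ⟨fun h => by rw [h]; exact Matrix.mulVec_zero _, fun h => i1 (h.trans (Matrix.mulVec_zero _).symm)⟩

end Cfsg.Agent.S0778
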