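import Cfsg.Statements.S0782
import Cfsg.Agent.Lib.Classical.Cnt2

set_option autoImplicit false
open Cfsg

namespace Cfsg.Agent.S0782
open Cfsg.Agent.Classical


/-- Maximal parabolics of SU_n(q): if W is a k-dimensional subspace of F^n (n ≥ 1, |F| = q²) on which the Hermitian form vanishes, then (q + 1) times the order of its stabiliser in SU_n(q) equals q^(k(2n−3k)) · |GL_k(q²)| · |GU_(n−2k)(q)|, where |GU_m(q)| = q^(m(m−1)/2) Π_(i=1..m) (q^i − (−1)^i). -/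
theorem result {F : Type*} [Field F] [Fintype F] {q : ℕ} (hF : Fintype.card F = q ^ 2) (n k : ℕ) (hn : 1 ≤ n) (hk : 2 * k ≤ n) (W : Submodule F (Fin n → F)) (hWk : Module.finrank F W = k) (hW : ∀ u ∈ W, ∀ v ∈ W, Cfsg.hermForm n F q u v = 0) : (q + 1) * Nat.card ↥((Cfsg.stabilizing (Cfsg.slToMat n F) (W : Set (Fin n → F))).subgroupOf (Cfsg.SU n F q)) = q ^ (k * (2 * n - 3 * k)) * (∏ i : Fin k, ((q ^ 2) ^ k - (q ^ 2) ^ (i : ℕ))) * (q ^ ((n - 2 * k) * ((n - 2 * k) - 1) / 2) * ∏ i ∈ Finset.range (n - 2 * k), (if Even i then q ^ (i + 1) + 1 else q ^ (i + 1) - 1)) := by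
  have hΦ := uForm_nondeg hF n
  have hT : (uForm hF n).TS W := ⟨fun w a => hW w a w a, hW⟩
  have hr : (LinearEquiv.det.comp ((uForm hF n).Isom ⊓ stab W).subtype).range =
      (powMonoidHom (q + 1) : Fˣ →* Fˣ).ker := by
    rcases eq_or_ne W ⊥ with rfl | h0
    · rw [show stab ⊥ = ⊤ from eq_top_iff.2 fun g _ x => by simp, inf_top_eq, unit_range_det hF hΦ (by simp; omega)]
    ext c
    rw [mem_ker_norm_iff hF]
    refine ⟨by rintro ⟨g, rfl⟩; exact hΦ.det_mul_conj g.2.1, fun hc => ?_⟩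
    obtain ⟨e, he, e0⟩ := W.exists_mem_ne_zero_of_ne_bot h0
    obtain ⟨f, h⟩ := hΦ.exists_hyp e0 (hT.1 e he)
    obtain ⟨y, y0, hy⟩ := hilbert90 _ (frobq_ne_id hF) (frobq_frobq hF) hc
    refine ⟨⟨Form.dil _ e f h (Units.mk0 y y0), Form.dil_mem _ _ _ _ _, stab_of_le fun v hv => ?_⟩,
      Units.ext ((Form.det_dil _ e f h _).trans ((div_eq_mul_inv _ _).symm.trans hy))⟩
    simpa [Form.dil_apply, hT.2 v hv e he] using add_mem hv (W.smul_mem _ he)
  have h1 := Subgroup.index_mul_card (LinearEquiv.det.comp ((uForm hF n).Isom ⊓ stab W).subtype).ker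
  rw [Subgroup.index_ker, hr, card_ker_norm hF, hT.card_stab hΦ,
    Form.card_fix_TS (d := n - 2 * k) (card_unit hF _) k _ W hΦ hT hWk (by simp; omega), card_linEquiv hWk,
    (card_fixed_eq hF).1, Nat.card_eq_fintype_card (α := F), hF, ← pow_mul, ← pow_add] at h1
  rw [card_congr_sub (suEquiv hF n) (T := stab W) fun _ => Iff.rfl, mul_right_comm]
  convert h1 using 2
  · exact Nat.card_congr ⟨fun g => ⟨⟨g.1, g.2.1.1, g.2.2⟩, g.2.1.2⟩, fun g => ⟨g.1.1, ⟨g.1.2.1, g.2⟩, g.1.2.2⟩,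
      fun _ => rfl, fun _ => rfl⟩
  · congr 2
    obtain ⟨d, rfl⟩ := Nat.exists_eq_add_of_le hk
    have := Nat.cast_choose_two ℚ k
    rw [show 2 * (2 * k + d) - 3 * k = k + 2 * d by omega, Nat.add_sub_cancel_left]
    qify
    rw [this]; ring

end Cfsg.Agent.S0782
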