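import Cfsg.Statements.S0776
import Cfsg.Agent.Lib.Classical.Orth2

set_option autoImplicit false
open Cfsg

namespace Cfsg.Agent.S0776
open Cfsg.Agent.Classical


/-- If W ≤ F^(2m) is a 2k-dimensional subspace on which the symplectic form is non-degenerate, then the stabiliser of W in Sp_2m(F) is isomorphic to Sp_2k(F) × Sp_(2m−2k)(F). -/
theorem result {F : Type*} [Field F] (m k : ℕ) (hk : k ≤ m) (W : Submodule F (Fin m ⊕ Fin m → F)) (hWk : Module.finrank F W = 2 * k) (hW : ∀ u ∈ W, (∀ v ∈ W, Cfsg.sympForm m F u v = 0) → u = 0) : Nonempty (↥(Cfsg.stabilizing (Cfsg.spToMat m F) (W : Set (Fin m ⊕ Fin m → F))) ≃* Matrix.symplecticGroup (Fin k) F × Matrix.symplecticGroup (Fin (m - k)) F) := by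
  let Φ := spForm m F
  have hW' : (Φ.restrict W).Nondeg := fun v hv => Subtype.ext (hW v v.2 fun u hu =>
    Φ.B_symm_zero (hv ⟨u, hu⟩))
  have h1 := (spForm_nondeg (F := F) m).finrank_perp W
  obtain ⟨e1⟩ := (symp_iso_std _ hW' hWk).nonempty_equiv
  obtain ⟨e2⟩ := (symp_iso_std _ ((spForm_nondeg m).restrict_perp hW') (m := m - k)
    (by simp at h1; omega)).nonempty_equiv
  have e3 : ↥(Cfsg.stabilizing (Cfsg.spToMat m F) (W : Set (Fin m ⊕ Fin m → F))) ≃*
      (Φ.Isom ⊓ stab W : Subgroup _) :=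
    { toFun := fun g => ⟨spEquiv m F g.1, (spEquiv m F g.1).2, g.2⟩
      invFun := fun g => ⟨(spEquiv m F).symm ⟨g.1, g.2.1⟩, fun v => by
        have := g.2.2 v
        rwa [show g.1 = (spEquiv m F ((spEquiv m F).symm ⟨g.1, g.2.1⟩)).1 by simp] at this⟩
      left_inv := fun g => by simp
      right_inv := fun g => by simp
      map_mul' := fun a b => Subtype.ext (by simp) }
  exact ⟨(e3.trans (Φ.stabEquiv (Φ.isCompl_perp hW')).symm).trans
    ((e1.trans (spEquiv k F).symm).prodCongr (e2.trans (spEquiv (m - k) F).symm))⟩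

end Cfsg.Agent.S0776
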