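import Cfsg.Statements.S0953
import Cfsg.Agent.Lib.Block.Cnt

set_option autoImplicit false
open Cfsg

namespace Cfsg.Agent.S0953

open Cfsg.Agent.Blk
open Cfsg.Agent.Char hiding cj cj_mul cj_inv_cj cj_cj_inv

/-- Let P be a Sylow p-subgroup of the finite group G with normalizer N, and fix a maximal ideal M of the algebraic integers containing p. The number of blocks of G having P as a defect group equals the number of conjugacy classes of N consisting of elements of order prime to p that centralize P. -/
theorem result {G : Type*} [Group G] [Finite G] (p : ℕ) [Fact p.Prime] (M : Ideal Cfsg.AlgInt) (hM : Cfsg.IsPModular p M) (P : Sylow p G) : Nat.card {B : Set (Cfsg.IrrCharacter G) // Cfsg.IsPBlock M B ∧ Cfsg.IsDefectGroup p M B (P : Subgroup G)} = Nat.card {C : ConjClasses (Subgroup.normalizer ((P : Subgroup G) : Set G)) // ∀ n : Subgroup.normalizer ((P : Subgroup G) : Set G), ConjClasses.mk n = C → ¬ p ∣ orderOf n ∧ (n : G) ∈ Subgroup.centralizer ((P : Subgroup G) : Set G)} := by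
  haveI : PMod M p := ⟨hM⟩
  obtain ⟨F, -⟩ := exists_brauer_equiv M P.isPGroup'
  haveI := normal_subgroupOf_No (P : Subgroup G)
  rw [← Nat.card_congr F]
  refine (Nat.card_congr (Equiv.subtypeEquivRight fun b =>
    and_congr_right fun hb => hb.isDefectGroup_iff)).trans
    ((card_blocks_normal_syl M ((isSyl_sylow P).subgroupOf_top _ (le_No _))).trans
      (Nat.card_congr (Equiv.subtypeEquivRight fun C => forall₂_congr fun n _ =>
        and_congr_right fun _ => ?_)))
  rw [mem_Ce]
  exact ⟨fun h => mem_Ce.2 fun q hq => congrArg Subtype.val (h ⟨q, le_No _ hq⟩ hq),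
    fun h q hq => Subtype.ext (mem_Ce.1 h q hq)⟩

end Cfsg.Agent.S0953
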