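import Cfsg.Statements.S2622
import Mathlib
import Cfsg.Agent.Lib.Classical.Orth

set_option autoImplicit false
open Cfsg

namespace Cfsg.Agent.S2622



/-- Over a finite field of characteristic two, a non-degenerate symmetric bilinear form that is not alternating (some vector v has B(v, v) ≠ 0) admits an orthonormal basis. -/
theorem result {F V : Type*} [Field F] [Finite F] [CharP F 2] [AddCommGroup V] [Module F V] [FiniteDimensional F V] {n : ℕ} (hV : Module.finrank F V = n) (B : LinearMap.BilinForm F V) (hS : B.IsSymm) (hB : B.Nondegenerate) (hna : ∃ v : V, B v v ≠ 0) : ∃ b : Module.Basis (Fin n) F V, ∀ i j, B (b i) (b j) = if i = j then 1 else 0 := by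
  induction n generalizing V with
  | zero =>
    haveI := Module.finrank_zero_iff.1 hV
    exact ⟨Module.Basis.empty V, fun i => i.elim0⟩
  | succ n ih =>
  have h2 : (2 : F) = 0 := CharTwo.two_eq_zero
  have hR := hS.isRefl
  have hs : ∀ u v, B u v = B v u := fun u v => hS.eq u v
  have key : ∀ v, B v v = 1 → (B.restrict (B.orthogonal (F ∙ v))).Nondegenerate ∧
      Module.finrank F (B.orthogonal (F ∙ v)) = n := fun v hv => by
    have h0 : ¬ B.IsOrtho v v := by simp [LinearMap.BilinForm.isOrtho_def, hv]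
    refine ⟨B.restrict_nondegenerate_orthogonal_spanSingleton hB hR h0, ?_⟩
    rw [LinearMap.BilinForm.finrank_orthogonal hB, finrank_span_singleton (by rintro rfl; simp at hv), hV]; rfl
  obtain ⟨v, hv, hv'⟩ : ∃ v, B v v = 1 ∧ (n = 0 ∨ ∃ w ∈ B.orthogonal (F ∙ v), B w w ≠ 0) := by
    obtain ⟨v, hv⟩ := hna
    obtain ⟨t, ht⟩ := Classical.exists_sq_of_two h2 (B v v)⁻¹
    have h1 : B (t • v) (t • v) = 1 := by
      simp only [map_smul, LinearMap.smul_apply, smul_eq_mul]; rw [← mul_assoc, ← sq, ht, inv_mul_cancel₀ hv]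
    generalize t • v = v at h1
    by_contra hc
    push Not at hc
    obtain ⟨k1, k2⟩ := key v h1
    haveI := Module.nontrivial_of_finrank_pos (k2.symm ▸ Nat.pos_of_ne_zero (hc v h1).1)
    obtain ⟨e, he⟩ := exists_ne (0 : B.orthogonal (F ∙ v))
    obtain ⟨f, hf⟩ : ∃ f : B.orthogonal (F ∙ v), B e f ≠ 0 := by
      by_contra h; push Not at h; exact he (k1.1 e h)
    have a1 : B v e = 0 := e.2 v (Submodule.mem_span_singleton_self v)
    have a2 : B v f = 0 := f.2 v (Submodule.mem_span_singleton_self v)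
    have a3 := (hc v h1).2 e e.2
    have a4 := (hc v h1).2 f f.2
    have := (hc (v + e) (by simp [h1, a1, hs e v, a3])).2 (B e f • v + f) (by
      rintro _ hx
      obtain ⟨a, rfl⟩ := Submodule.mem_span_singleton.1 hx
      simp [LinearMap.BilinForm.isOrtho_def, h1, hs e v, a1, a2, ← two_mul, h2])
    simp [h1, a2, hs f v, a4, hf] at this
  obtain ⟨k1, k2⟩ := key v hv
  obtain ⟨b, hb⟩ : ∃ b : Module.Basis (Fin n) F (B.orthogonal (F ∙ v)), ∀ i j, B (b i) (b j) = if i = j then 1 else 0 := by
    rcases hv' with rfl | ⟨w, hw, h⟩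
    · haveI := Module.finrank_zero_iff.1 k2
      exact ⟨Module.Basis.empty _, fun i => i.elim0⟩
    · exact ih k2 (B.restrict _) ⟨fun x y => hs _ _⟩ k1 ⟨⟨w, hw⟩, h⟩
  have a : ∀ i, B v (b i) = 0 := fun i => (b i).2 v (Submodule.mem_span_singleton_self v)
  let c : Fin (n + 1) → V := Fin.cons v fun i => b i
  have hc : ∀ i j, B (c i) (c j) = if i = j then 1 else 0 := fun i j => by
    refine Fin.cases ?_ (fun i => ?_) i <;> refine Fin.cases ?_ (fun j => ?_) j <;>
      simp [c, hv, a, hs _ v, hb, Fin.succ_ne_zero, (Fin.succ_ne_zero _).symm]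
  have hl : LinearIndependent F c := LinearMap.BilinForm.linearIndependent_of_iIsOrtho (B := B)
    (fun i j h => (hc i j).trans (if_neg h)) fun i => by
      simp [LinearMap.BilinForm.isOrtho_def, hc]
  exact ⟨basisOfLinearIndependentOfCardEqFinrank hl (by simp [hV]), by simpa using hc⟩

end Cfsg.Agent.S2622
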