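import Cfsg.Statements.S3681
import Mathlib
import Cfsg.Agent.Lib.Perm.PG3

set_option autoImplicit false
open Cfsg

namespace Cfsg.Agent.S3681

open Cfsg.Agent.Perm Cfsg.Agent.Perm.PG MulAction Equiv

/-- Bochert's bound for primitive groups. Let a finite group G act faithfully and primitively on a finite set Ω with n elements, and suppose the image of G in the symmetric group of Ω does not contain the alternating group of Ω. Then |G| · ⌊(n + 1)/2⌋! ≤ n!, that is, the index of G in the symmetric group is at least ⌊(n + 1)/2⌋!. -/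
theorem result {G Ω : Type*} [Group G] [Finite G] [MulAction G Ω] [FaithfulSMul G Ω] [Fintype Ω] [DecidableEq Ω]
    (hprim : MulAction.IsPreprimitive G Ω) (hA : ¬ alternatingGroup Ω ≤ (MulAction.toPermHom G Ω).range) :
    Nat.card G * Nat.factorial ((Fintype.card Ω + 1) / 2) ≤ Nat.factorial (Fintype.card Ω) := by
  obtain ⟨D, hD, hmax⟩ := Set.exists_max_image {D : Finset Ω | ∀ g : G, (∀ x ∉ D, g • x = x) → g = 1}
    Finset.card (Set.toFinite _) ⟨∅, fun g hg => eq_one_of_smul_eq fun x => hg x (by simp)⟩
  have h1 : Fintype.card Ω ≤ 2 * D.card := by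
    by_contra hc
    have h2 : ∀ E : Finset Ω, D.card < E.card → ∃ g : G, (∀ x ∉ E, g • x = x) ∧ g ≠ 1 := by
      intro E hE
      by_contra h
      push Not at h
      exact absurd (hmax E h) (by omega)
    obtain ⟨g, hg, hg1⟩ := h2 Dᶜ (by rw [Finset.card_compl]; omega)
    obtain ⟨x, hx⟩ : ∃ x : Ω, g • x ≠ x := by
      by_contra h
      push Not at h
      exact hg1 (eq_one_of_smul_eq h)
    have hxD : x ∉ D := fun e => hx (hg x (by simpa using e))
    obtain ⟨h, hh, hh1⟩ := h2 (insert x D) (by rw [Finset.card_insert_of_notMem hxD]; omega)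
    have hx2 : h • x ≠ x := fun e => hh1 (hD h fun y hy => by
      by_cases e' : y = x
      · exact e' ▸ e
      · exact hh y (by simp [e', hy]))
    refine hA (Perm.alternatingGroup_le_of_isPreprimitive_of_isThreeCycle_mem prim_range
      (three_cycle_comm (g := toPerm g) (h := toPerm h) hx hx2 fun y hy => ?_) ⟨g * h * g⁻¹ * h⁻¹, by
        simp only [map_mul, map_inv]; rfl⟩)
    by_cases e : y ∈ D
    · exact Or.inl (hg y (by simpa using e))
    · exact Or.inr (hh y (by simp [e, hy]))
  refine (Nat.mul_le_mul_left _ (Nat.factorial_le (show _ ≤ D.card by omega))).trans ?_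
  have h2 := Nat.card_le_card_of_injective (fun z : G × Perm D => toPermHom G Ω z.1 * Perm.ofSubtype z.2) (by
    rintro ⟨g, s⟩ ⟨k, t⟩ h
    simp only at h
    have h3 : k⁻¹ * g = 1 := hD _ fun x hx => by
      have := congrArg (fun f : Perm Ω => f x) h
      simp only [Perm.mul_apply, Perm.ofSubtype_apply_of_not_mem _ hx] at this
      rw [mul_smul, inv_smul_eq_iff]; exact this
    rw [inv_mul_eq_one] at h3
    subst h3
    rw [Perm.ofSubtype_injective (mul_left_cancel h)])
  rwa [Nat.card_prod, Nat.card_perm, Nat.card_perm, Nat.card_eq_fintype_card (α := Ω),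
    Nat.card_eq_fintype_card (α := D), Fintype.card_coe] at h2

end Cfsg.Agent.S3681
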