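import Cfsg.Statements.S0494
import Mathlib
import Cfsg.Agent.Lib.Perm.Br11

set_option autoImplicit false
open Cfsg

namespace Cfsg.Agent.S0494



/-- A simple group of order 60 is isomorphic to the alternating group of degree 5. -/
theorem result {G : Type*} [Group G] [Finite G] [IsSimpleGroup G]
    (h : Nat.card G = 60) : Nonempty (G ≃* alternatingGroup (Fin 5)) := by
  open Perm.Br in
  rcases cube_simple (noncomm_of_card (G := G) (by rw [h]; norm_num)) (p := 5) (by norm_num) (by rw [h]; norm_num)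
    (by rw [h]; norm_num) with ⟨K, _, _, h4, -, ⟨e⟩⟩ | ⟨m, K, _, _, h4, h5, -, ⟨e⟩⟩
  · exact ⟨e.trans (Perm.GL2.iso_PSL2_A5 (Or.inr h4)).some⟩
  · exact ⟨e.trans (Perm.GL2.iso_PSL2_A5 (Or.inl (by omega))).some⟩

end Cfsg.Agent.S0494
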