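import Cfsg.Statements.S0948
import Cfsg.Agent.Lib.Block.Klein

set_option autoImplicit false
open Cfsg

namespace Cfsg.Agent.S0948

open Cfsg.Agent.Blk
open Cfsg.Agent.Char hiding cj cj_mul cj_inv_cj cj_cj_inv

/-- Let the finite group G have a Sylow 2-subgroup P that is a Klein four-group, suppose all involutions of G are conjugate, and fix a maximal ideal M of the algebraic integers containing 2. Then the principal block consists of exactly four irreducible characters, the principal character and ζ₂, ζ₃, ζ₄, and there is a sign ε such that for every involution z: ζ₂ z = 1, ζ₃ z = ε, ζ₄ z = -1; moreover ζ₂ 1 ≡ 1, ζ₃ 1 ≡ ε, ζ₄ 1 ≡ -1 (mod 4), and 1 + ζ₂ y + ε ζ₃ y - ζ₄ y = 0 for every y of odd order. -/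
theorem result {G : Type*} [Group G] [Finite G] (M : Ideal Cfsg.AlgInt) (hM : Cfsg.IsPModular 2 M) (P : Sylow 2 G) (hP : IsKleinFour (P : Subgroup G)) (hone : ∀ s t : G, orderOf s = 2 → orderOf t = 2 → IsConj s t) : ∃ ζ₂ ζ₃ ζ₄ : Cfsg.IrrCharacter G, ∃ ε : ℤ, (ε = 1 ∨ ε = -1) ∧ (ζ₂ : G → ℂ) ≠ (fun _ => 1) ∧ (ζ₃ : G → ℂ) ≠ (fun _ => 1) ∧ ζ₂ ≠ ζ₃ ∧ ζ₂ ≠ ζ₄ ∧ ζ₃ ≠ ζ₄ ∧ Cfsg.principalBlock M G = {χ : Cfsg.IrrCharacter G | (χ : G → ℂ) = (fun _ => 1) ∨ χ = ζ₂ ∨ χ = ζ₃ ∨ χ = ζ₄} ∧ (∀ z : G, orderOf z = 2 → (ζ₂ : G → ℂ) z = 1 ∧ (ζ₃ : G → ℂ) z = (ε : ℂ) ∧ (ζ₄ : G → ℂ) z = -1) ∧ (4 : ℤ) ∣ (Cfsg.charDegree (ζ₂ : G → ℂ) : ℤ) - 1 ∧ (4 : ℤ) ∣ (Cfsg.charDegree (ζ₃ : G → ℂ) : ℤ) - ε ∧ (4 : ℤ) ∣ (Cfsg.charDegree (ζ₄ : G → ℂ) : ℤ) + 1 ∧ ∀ y : G, Odd (orderOf y) → 1 + (ζ₂ : G → ℂ) y + (ε : ℂ) * (ζ₃ : G → ℂ) y - (ζ₄ : G → ℂ) y = 0 := by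
  haveI : PMod M 2 := ⟨hM⟩
  classical
  haveI : Fact (Nat.Prime 2) := ⟨Nat.prime_two⟩
  have := Fintype.ofFinite (P : Subgroup G)
  have hS := isSyl_sylow P
  have h2 : ∀ u : (P : Subgroup G), u * u = 1 := IsKleinFour.mul_self
  obtain ⟨hf, -, hk, -, hd⟩ := (mp_principal (M := M) hS).klein hP.card_four h2
  have : Nontrivial (P : Subgroup G) :=
    Finite.one_lt_card_iff_nontrivial.1 (by rw [hP.card_four]; norm_num)
  obtain ⟨u, hu⟩ := exists_ne (1 : (P : Subgroup G))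
  have ho : ∀ u : (P : Subgroup G), u ≠ 1 → orderOf (u : G) = 2 := fun u hu => by
    rw [Subgroup.orderOf_coe]; exact orderOf_eq_prime ((sq u).trans (h2 u)) hu
  have hu1 : (u : G) ≠ 1 := fun h => hu (Subtype.ext h)
  have h1 : ∀ χ ∈ principalBlock M G, ∃ δ : ℤ, (δ = 1 ∨ δ = -1) ∧ χ.1 u = δ := fun χ hχ => by
    have := hd u u.2 hu1 χ hχ
    rw [hf.dn_principal u.2 hu1 hχ] at this
    rcases this with h | h
    · exact ⟨1, by simp, by simpa using h⟩
    · exact ⟨-1, by simp, by simpa using h⟩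
  choose! δ hδ hδ' using h1
  have h3 : ∀ χ ∈ principalBlock M G, ∀ z : G, orderOf z = 2 → χ.1 z = δ χ := fun χ hχ z hz => by
    obtain ⟨c, rfl⟩ := isConj_iff.1 (hone _ _ (ho u hu) hz)
    rw [χ.2.isClassFunction, hδ' χ hχ]
  have h4 : ∀ χ ∈ principalBlock M G, (4 : ℤ) ∣ (charDegree χ.1 : ℤ) - δ χ := fun χ hχ => by
    obtain ⟨n, hn⟩ := exists_degree_eq_of_vanish (χ.2.isCharacter.isGen.sub
      (isCharacter_one.isGen.zsmul (δ χ))) P fun x hx hx1 => by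
        simp [h3 χ hχ x (ho ⟨x, hx⟩ fun h => hx1 (congrArg Subtype.val h))]
    rw [hP.card_four] at hn
    refine ⟨n, ?_⟩
    simp only [Pi.sub_apply, Pi.smul_apply, ← cast_deg, zsmul_one] at hn
    exact_mod_cast hn
  have h5 : ∀ y : G, Odd (orderOf y) → ∑ χ ∈ fs (principalBlock M G), δ χ * χ.1 y = 0 :=
    fun y hy => by
      have := congrFun (hf.exd_principal.reg0 u hu) y
      rw [Finset.sum_apply] at this
      refine Eq.trans (Finset.sum_congr rfl fun χ hχ => ?_) this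
      rw [hδ' χ (mem_fs.1 hχ), Pi.smul_apply, reg_of_preg (Odd.not_two_dvd_nat hy), map_intCast,
        smul_eq_mul]
  have h6 := mem_fs.2 (irrOne_mem_principal (M := M) (G := G))
  have h7 : δ (irrOne G) = 1 := by
    have : (1 : ℂ) = _ := hδ' _ irrOne_mem_principal
    exact_mod_cast this.symm
  have h8 : ∑ χ ∈ (fs (principalBlock M G)).erase (irrOne G), δ χ * charDegree χ.1 = -1 := by
    have := h5 1 (by simp)
    rw [← Finset.add_sum_erase _ _ h6, h7] at this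
    simp only [← cast_deg] at this
    rw [charDegree_of_eq (χ := irrOne G) (n := 1) (by simp)] at this
    have h : (1 : ℤ) * (1 : ℕ) + ∑ χ ∈ (fs (principalBlock M G)).erase (irrOne G),
      δ χ * charDegree χ.1 = 0 := by exact_mod_cast this
    omega
  have h9 : ((fs (principalBlock M G)).erase (irrOne G)).card = 3 := by
    rw [Finset.card_erase_of_mem h6, hk]
  have h10 : ∃ a b c, a ≠ b ∧ a ≠ c ∧ b ≠ c ∧
      (fs (principalBlock M G)).erase (irrOne G) = {a, b, c} ∧ δ a = 1 ∧ δ c = -1 := by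
    obtain ⟨a, b, c, hab, hac, hbc, h⟩ := Finset.card_eq_three.1 h9
    have hm : ∀ x ∈ ({a, b, c} : Finset _), δ x = 1 ∨ δ x = -1 := fun x hx =>
      hδ x (mem_fs.1 (Finset.mem_of_mem_erase (h ▸ hx)))
    rw [h, Finset.sum_insert (by simp [hab, hac]), Finset.sum_pair hbc] at h8
    have := charDegree_ne_zero a
    have := charDegree_ne_zero b
    have := charDegree_ne_zero c
    rcases hm a (by simp) with ha | ha <;> rcases hm b (by simp) with hb | hb <;>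
      rcases hm c (by simp) with hc | hc
    · rw [ha, hb, hc] at h8; omega
    · exact ⟨a, b, c, hab, hac, hbc, h, ha, hc⟩
    · exact ⟨a, c, b, hac, hab, hbc.symm, by rw [h, Finset.pair_comm], ha, hb⟩
    · exact ⟨a, b, c, hab, hac, hbc, h, ha, hc⟩
    · exact ⟨b, c, a, hbc, hab.symm, hac.symm, by rw [h]; ext; simp; tauto, hb, ha⟩
    · exact ⟨b, a, c, hab.symm, hbc, hac, by rw [h, Finset.insert_comm], hb, hc⟩
    · exact ⟨c, a, b, hac.symm, hbc.symm, hab, by rw [h]; ext; simp; tauto, hc, hb⟩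
    · rw [ha, hb, hc] at h8; omega
  obtain ⟨a, b, c, hab, hac, hbc, h, ha, hc⟩ := h10
  have hm : ∀ x ∈ ({a, b, c} : Finset _), x ≠ irrOne G ∧ x ∈ principalBlock M G := fun x hx => by
    rw [← h, Finset.mem_erase, mem_fs] at hx; exact hx
  have ma := hm a (by simp)
  have mb := hm b (by simp)
  have mc := hm c (by simp)
  refine ⟨a, b, c, δ b, hδ b mb.2, fun h => ma.1 (Subtype.ext h), fun h => mb.1 (Subtype.ext h), hab,
    hac, hbc, ?_, fun z hz => ⟨by rw [h3 a ma.2 z hz, ha, Int.cast_one], h3 b mb.2 z hz,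
      by rw [h3 c mc.2 z hz, hc]; simp⟩, ha ▸ h4 a ma.2, h4 b mb.2, by simpa [hc] using h4 c mc.2,
    fun y hy => ?_⟩
  · ext χ
    rw [← mem_fs, ← Finset.insert_erase h6, h]
    simp only [Finset.mem_insert, Finset.mem_singleton, Set.mem_setOf_eq]
    exact or_congr_left Subtype.ext_iff
  · have := h5 y hy
    rw [← Finset.add_sum_erase _ _ h6, h7, h, Finset.sum_insert (by simp [hab, hac]),
      Finset.sum_pair hbc, ha, hc] at this
    rw [← this]
    simp only [irrOne, Int.cast_one, one_mul, Int.cast_neg]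
    ring

end Cfsg.Agent.S0948
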