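import Cfsg.Statements.S4479
import Cfsg.Agent.Lib.Block.Ord

set_option autoImplicit false
open Cfsg

namespace Cfsg.Agent.S4479

open Cfsg.Agent.Blk
open Cfsg.Agent.Char hiding cj cj_mul cj_inv_cj cj_cj_inv

/-- An order formula from the principal 2-block. Let G be a finite group of order 4·g₀ with g₀ odd having no normal 2-complement (no normal subgroup of order g₀); let P be a Sylow 2-subgroup, J an involution of P, and fix a maximal ideal M of the algebraic integers containing 2. Suppose the principal 2-block consists of the principal character and three further distinct characters χ₁, χ₂, χ₃ of degrees x₁, x₂, x₃, with χ_i(J) = ε_i = ±1. Then, writing c(J) and c(P) for the orders of the centralizers of J and of P, the order of G equals 8·α·c(J)³/c(P)² with α = x₁x₂x₃ / ((x₁ + ε₁)(x₂ + ε₂)(x₃ + ε₃)). -/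
theorem result {G : Type*} [Group G] [Finite G] (M : Ideal Cfsg.AlgInt) (hM : Cfsg.IsPModular 2 M) (g₀ : ℕ) (hg₀ : Odd g₀) (hG : Nat.card G = 4 * g₀) (hnc : ¬ ∃ N : Subgroup G, N.Normal ∧ Nat.card N = g₀) (P : Sylow 2 G) (J : G) (hJ : J ∈ (P : Subgroup G)) (hJ2 : orderOf J = 2) (χ₁ χ₂ χ₃ : Cfsg.IrrCharacter G) (ε₁ ε₂ ε₃ : ℤ) (hB : Cfsg.principalBlock M G = {χ : Cfsg.IrrCharacter G | (χ : G → ℂ) = (fun _ => 1) ∨ χ = χ₁ ∨ χ = χ₂ ∨ χ = χ₃}) (hdist : (χ₁ : G → ℂ) ≠ (fun _ => 1) ∧ (χ₂ : G → ℂ) ≠ (fun _ => 1) ∧ (χ₃ : G → ℂ) ≠ (fun _ => 1) ∧ χ₁ ≠ χ₂ ∧ χ₁ ≠ χ₃ ∧ χ₂ ≠ χ₃) (hε : (ε₁ = 1 ∨ ε₁ = -1) ∧ (ε₂ = 1 ∨ ε₂ = -1) ∧ (ε₃ = 1 ∨ ε₃ = -1)) (hval : (χ₁ : G → ℂ) J = ε₁ ∧ (χ₂ : G → ℂ) J = ε₂ ∧ (χ₃ : G → ℂ) J = ε₃) : (Nat.card G : ℚ) = 8 * (((Cfsg.charDegree (χ₁ : G → ℂ) : ℚ) * Cfsg.charDegree (χ₂ : G → ℂ) * Cfsg.charDegree (χ₃ : G → ℂ)) / ((Cfsg.charDegree (χ₁ : G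 → ℂ) + ε₁) * (Cfsg.charDegree (χ₂ : G → ℂ) + ε₂) * (Cfsg.charDegree (χ₃ : G → ℂ) + ε₃))) * (Nat.card (Subgroup.centralizer ({J} : Set G)) : ℚ) ^ 3 / (Nat.card (Subgroup.centralizer ((P : Subgroup G) : Set G)) : ℚ) ^ 2 := by
  haveI : PMod M 2 := ⟨hM⟩
  have := Fintype.ofFinite G
  obtain ⟨h1, -, -⟩ := klein_data M hg₀ hG hnc P hJ hJ2
  have h2 := (isPBlock_principal (M := M) (G := G)).isUB.sum_degree_mul_eq_zero (p := 2) (y := J)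
    (by rw [hJ2])
  rw [sum_fs_four hB hdist] at h1 h2
  simp only [hval, ← χ₁.2.isCharacter.cast_charDegree, ← χ₂.2.isCharacter.cast_charDegree,
    ← χ₃.2.isCharacter.cast_charDegree, irrOne, map_div₀, map_pow, map_intCast, map_natCast,
    map_one] at h1 h2
  have a1 := charDegree_ne_zero χ₁
  have a2 := charDegree_ne_zero χ₂
  have a3 := charDegree_ne_zero χ₃
  have a4 : Nat.card (Ce1 J) ≠ 0 := Nat.card_pos.ne'
  have a5 : Nat.card (Ce (P : Subgroup G)) ≠ 0 := Nat.card_pos.ne'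
  change _ = 8 * (_ / _) * (Nat.card (Ce1 J) : ℚ) ^ 3 / (Nat.card (Ce (P : Subgroup G)) : ℚ) ^ 2
  generalize charDegree χ₁.1 = x₁ at *
  generalize charDegree χ₂.1 = x₂ at *
  generalize charDegree χ₃.1 = x₃ at *
  generalize Nat.card (Ce1 J) = c at *
  generalize Nat.card (Ce (P : Subgroup G)) = d at *
  generalize Nat.card G = g at *
  have h3 : (g : ℚ) * (1 ^ 2 / 1 * 1 + ε₁ ^ 2 / x₁ * ε₁ + ε₂ ^ 2 / x₂ * ε₂ + ε₃ ^ 2 / x₃ * ε₃) =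
      8 * c ^ 3 / d ^ 2 := by
    apply Rat.cast_injective (α := ℂ)
    push_cast
    exact h1
  have h4 : (1 : ℚ) * 1 + x₁ * ε₁ + x₂ * ε₂ + x₃ * ε₃ = 0 := by exact_mod_cast h2
  have h5 : (g : ℚ) * ((x₁ + ε₁) * (x₂ + ε₂) * (x₃ + ε₃)) = x₁ * x₂ * x₃ * (8 * c ^ 3 / d ^ 2) := by
    rw [← h3]
    field_simp
    obtain ⟨rfl | rfl, rfl | rfl, rfl | rfl⟩ := hε <;> push_cast at h4 ⊢ <;>
      first | linear_combination g * h4 | linear_combination -g * h4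
  have h6 : ((x₁ : ℚ) + ε₁) * (x₂ + ε₂) * (x₃ + ε₃) ≠ 0 := fun h => by
    rw [h, mul_zero] at h5
    exact absurd h5.symm (by positivity)
  rw [eq_div_of_mul_eq h6 h5]
  ring

end Cfsg.Agent.S4479
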