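import Cfsg.Statements.S3277
import Cfsg.Agent.Lib.Ez.A3
import Cfsg.Agent.Lib.Transfer.Rank

set_option autoImplicit false
open Cfsg

namespace Cfsg.Agent.S3277

open Subgroup Cfsg.Agent.Comp Cfsg.Agent.Ez

/-- Let G be a finite group containing an involution whose centralizer is elementary abelian of order 4. If G has no normal 2-complement and no normal elementary abelian 2-subgroup of order 2 or 4, then G is isomorphic to the alternating group of degree 5 (that is, to PSL(2, 5)). -/
theorem result {G : Type*} [Group G] [Finite G] (x : G) (hx : orderOf x = 2)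
    (hC4 : Nat.card ↥(Subgroup.centralizer ({x} : Set G)) = 4) (hCe : ∀ c ∈ Subgroup.centralizer ({x} : Set G), c ^ 2 = 1)
    (hnc : ¬ Cfsg.HasNormalPComplement 2 G)
    (hne : ∀ E : Subgroup G, E.Normal → Cfsg.IsElementaryAbelian 2 E → Nat.card ↥E ≠ 2 ∧ Nat.card ↥E ≠ 4) :
    Nonempty (G ≃* ↥(alternatingGroup (Fin 5))) := by
  set V := centralizer ({x} : Set G) with hV
  have hp : IsPGroup 2 V := IsPGroup.of_card (n := 2) hC4
  have hxV : x ∈ V := mem_C1.2 rfl
  have h2 : ∀ c ∈ V, c * c = 1 := fun c hc => by rw [← pow_two, hCe c hc]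
  have hK : IsKleinFour V := ⟨hC4, by
    have : Nontrivial V := Finite.one_lt_card_iff_nontrivial.1 (by omega)
    exact (Monoid.exponent_eq_prime_iff Nat.prime_two).2 fun g hg => by
      rw [← orderOf_coe]; exact ord_of_mul_self (h2 g g.2) fun e => hg (Subtype.ext e)⟩
  have hE : IsElementaryAbelian 2 V := ⟨hK.isMulCommutative, hCe⟩
  have hsm : ∀ E : Subgroup G, E.Normal → IsElementaryAbelian 2 E → E ≠ ⊥ → Nat.card E ≤ 4 → False :=
    fun E h1 h3 h4 h5 => by
      obtain ⟨k, hk⟩ := (IsElementaryAbelian.isPGroup h3).exists_card_eq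
      have h6 := hne E h1 h3
      have h7 : Nat.card E ≠ 1 := fun e => h4 (card_eq_one.1 e)
      rw [hk] at h5 h6 h7
      have := (Nat.pow_le_pow_iff_right (a := 2) (m := 2) one_lt_two).1 h5
      interval_cases k <;> simp_all
  obtain ⟨S, hS⟩ := hp.exists_le_sylow
  rcases hS.eq_or_lt with e | hlt
  · have hKS : IsKleinFour (S : Subgroup G) := e ▸ hK
    have hone := fun a b => Transfer.klein_sylow_isConj S hKS hnc (a := a) (b := b)
    have hodd : ∀ N : Subgroup G, N.Normal → Odd (Nat.card N) → N = ⊥ := fun N _ hN => by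
      refine le_bot_iff.1 (le_of_forall_centralizer (p := 2) hE hC4.ge le_normalizer_of_normal
        (Nat.coprime_two_right.2 hN) fun a ha ha1 => (eq_bot_of_coprime ?_).le)
      obtain ⟨g, rfl⟩ := isConj_iff.1 (hone x a hx (ord_of_mul_self (h2 a ha) ha1))
      rw [Transfer.card_centralizer_conj, hC4]
      exact Nat.Coprime.pow_right 2 (Nat.coprime_two_right.2 hN)
    have : Nontrivial G := ⟨x, 1, ne_one_of_ord hx⟩
    have : IsSimpleGroup G := ⟨fun N hN => by
      by_cases h0 : N = ⊥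
      · exact .inl h0
      obtain ⟨t, ht, ht2⟩ := Transfer.exists_invol_mem (H := N)
        (Nat.not_odd_iff_even.1 fun h => h0 (hodd N hN h))
      have h3 : ∀ u, orderOf u = 2 → u ∈ N := fun u hu => by
        obtain ⟨g, rfl⟩ := isConj_iff.1 (hone t u ht2 hu)
        exact hN.conj_mem t ht g
      have hVN : V ≤ N := fun c hc => by
        by_cases e1 : c = 1
        · exact e1 ▸ one_mem _
        · exact h3 c (ord_of_mul_self (h2 c hc) e1)
      have hSN : (S : Subgroup G) ≤ N := e ▸ hVN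
      have hKN : IsKleinFour (S.subtype hSN : Subgroup N) :=
        ⟨(card_subgroupOf hSN).trans hKS.card_four, 
          (Monoid.exponent_eq_of_mulEquiv (subgroupOfEquivOfLe hSN)).trans hKS.exponent_two⟩
      by_cases h4 : HasNormalPComplement 2 N
      · exfalso
        have h5 := (BG.hasNPC_iff_sup (sylIn_of_sylow_le S hSN)).1 h4
        rw [hodd (Opp 2 N) (normal_iff_top_le_normalizer.2 (le_normalizer_Opp le_normalizer_of_normal))
          (Nat.coprime_two_right.1 (coprime_Opp 2 N)), bot_sup_eq, ← e] at h5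
        exact hsm V (h5 ▸ hN) hE (h5 ▸ h0) hC4.le
      refine .inr (eq_top_iff.2 fun g _ => ?_)
      obtain ⟨n, hn⟩ := isConj_iff.1 (Transfer.klein_sylow_isConj (S.subtype hSN) hKN h4
        (a := ⟨x, hVN hxV⟩) (b := ⟨g * x * g⁻¹, hN.conj_mem x (hVN hxV) g⟩)
        (by simpa using hx) (by simpa [ord_conj] using hx))
      have h5 : g⁻¹ * n ∈ V := mem_C1.2
        (Transfer.conj_eq_conj_iff.1 (congrArg Subtype.val hn)).eq.symm
      exact inv_mem_iff.1 ((mul_mem_cancel_right n.2).1 (hVN h5))⟩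
    exact a5_of_normal_four hx le_rfl hK (by simp [hV]) le_normalizer
  exfalso
  obtain ⟨z, hzS, hz, hzc⟩ := exists_central_invol S hx
  have hzV : z ∈ V := mem_C1.2 (mem_C1.1 (hzc (hS hxV))).symm
  have hxz : ¬ IsConj x z := fun h => by
    obtain ⟨g, rfl⟩ := isConj_iff.1 h
    have := (card_lt_of_lt hlt).trans_le (card_le_of_le hzc)
    rw [Transfer.card_centralizer_conj] at this
    exact lt_irrefl _ this
  have hzx : z ≠ x := fun e => hxz (e ▸ IsConj.refl _)
  have hVe : zpowers x ⊔ zpowers z = V := eq_of_le_of_card_ge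
    (sup_le (zpowers_le.2 hxV) (zpowers_le.2 hzV)) (by rw [card_four hx hz hzx (mem_C1.1 hzV), hC4])
  have hm : ∀ w ∈ V, w = 1 ∨ w = x ∨ w = z ∨ w = x * z := fun w hw =>
    (mem_four hx hz (mem_C1.1 hzV)).1 (hVe ▸ hw)
  obtain ⟨s, hs, hsV⟩ := SetLike.exists_of_lt (lt_inf_normalizer_of_isPGroup S.isPGroup' hlt)
  have hs' : s * x * s⁻¹ = x * z := by
    rcases hm _ (conj_mem_of_mem_normalizer hs.2 hxV) with a | a | a | a
    · exact absurd a (ne_one_of_ord (by rw [ord_conj, hx]))
    · exact absurd (mem_C1.2 (mul_inv_eq_iff_eq_mul.1 a).symm) hsV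
    · exact absurd (isConj_iff.2 ⟨s, a⟩) hxz
    · exact a
  have hCxz : V = centralizer ({x * z} : Set G) := eq_of_le_of_card_ge
    (IsElementaryAbelian.le_centralizer_singleton hE (mul_mem hxV hzV))
    (by rw [← hs', Transfer.card_centralizer_conj])
  have key : ∀ g : G, z * (g * z * g⁻¹) = g * z * g⁻¹ * z := fun g => by
    have hy : orderOf (g * z * g⁻¹) = 2 := by rw [ord_conj, hz]
    have he : Even (orderOf (x * (g * z * g⁻¹))) := Nat.not_odd_iff_even.1 fun h => by
      obtain ⟨c, -, hc⟩ := Transfer.exists_conj_of_odd' (mul_self_of_ord hx) (mul_self_of_ord hy) h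
      exact hxz ((isConj_iff.2 ⟨c, hc⟩).trans (isConj_iff.2 ⟨g, rfl⟩).symm)
    obtain ⟨w, -, hw, h3, h4⟩ := Transfer.exists_invol_of_even (mul_self_of_ord hx)
      (mul_self_of_ord hy) he
    have h5 : ∀ y ∈ V, z * y = y * z := fun y hy => mem_C1.1 (hzc (hS hy))
    rcases hm w (mem_C1.2 h3.eq.symm) with a | a | a | a
    · exact absurd a (ne_one_of_ord hw)
    · exact h5 _ (mem_C1.2 (a ▸ h4.eq))
    · exact a ▸ h4.eq
    · exact h5 _ (hCxz ▸ mem_C1.2 (a ▸ h4.eq))
  have hcomm : ∀ a ∈ Group.conjugatesOfSet ({z} : Set G), ∀ b ∈ Group.conjugatesOfSet ({z} : Set G),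
      a * b = b * a := fun a ha b hb => by
    obtain ⟨_, h5, h3⟩ := Group.mem_conjugatesOfSet_iff.1 ha
    obtain ⟨_, h6, h4⟩ := Group.mem_conjugatesOfSet_iff.1 hb
    rw [Set.mem_singleton_iff.1 h5] at h3
    rw [Set.mem_singleton_iff.1 h6] at h4
    obtain ⟨g, rfl⟩ := isConj_iff.1 h3
    obtain ⟨h, rfl⟩ := isConj_iff.1 h4
    calc _ = g * (z * (g⁻¹ * h * z * (g⁻¹ * h)⁻¹)) * g⁻¹ := by group
      _ = _ := by rw [key]; group
  have hEc : IsMulCommutative (normalClosure ({z} : Set G)) := isMulCommutative_closure hcomm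
  have hEe : IsElementaryAbelian 2 (normalClosure ({z} : Set G)) := ⟨hEc, fun a ha => by
    induction ha using closure_induction with
    | mem y hy =>
      obtain ⟨_, h5, h3⟩ := Group.mem_conjugatesOfSet_iff.1 hy
      rw [Set.mem_singleton_iff.1 h5] at h3
      obtain ⟨g, rfl⟩ := isConj_iff.1 h3
      rw [conj_pow, pow_two, mul_self_of_ord hz]; simp
    | one => simp
    | mul a b ha hb h3 h4 =>
      rw [Commute.mul_pow (congrArg Subtype.val (hEc.is_comm.comm ⟨a, ha⟩ ⟨b, hb⟩)), h3, h4, one_mul]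
    | inv a _ h3 => rw [inv_pow, h3, inv_one]⟩
  have hzE : z ∈ normalClosure ({z} : Set G) := subset_normalClosure rfl
  refine hsm _ inferInstance hEe (fun e => ne_one_of_ord hz (mem_bot.1 (e ▸ hzE))) ?_
  by_cases hxE : x ∈ normalClosure ({z} : Set G)
  · exact hC4 ▸ card_le_of_le (IsElementaryAbelian.le_centralizer_singleton hEe hxE)
  refine (Transfer.card_le_sq_of_invol hEe (x := x) (le_normalizer_of_normal (mem_top x))
    (by rw [mul_self_of_ord hx]; exact one_mem _)).trans ?_
  have h3 : normalClosure ({z} : Set G) ⊓ V ≤ zpowers z := fun w hw => by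
    rcases hm w hw.2 with a | a | a | a
    · exact a ▸ one_mem _
    · exact absurd (a ▸ hw.1) hxE
    · exact a ▸ mem_zpowers _
    · exact absurd ((Subgroup.mul_mem_cancel_right _ hzE).1 (a ▸ (mem_inf.1 hw).1)) hxE
  have h4 := card_le_of_le h3
  rw [Nat.card_zpowers, hz] at h4
  exact Nat.pow_le_pow_left h4 2

end Cfsg.Agent.S3277
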