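import Cfsg.Statements.S0063
import Cfsg.Agent.Lib.Solv.Prim

set_option autoImplicit false
open Cfsg

namespace Cfsg.Agent.S0063
section
open Pointwise commutatorElement Subgroup Cfsg.Agent.Solv
theorem aux (p : ℕ) [hp : Fact p.Prime] (G : Type*) [Group G] [Finite G] : ∀ m, Nat.card G = p ^ m → 1 < m →
    Group.nilpotencyClass G ≤ m - 1 := by
  refine card_induction (P := fun G _ _ => ∀ m, Nat.card G = p ^ m → 1 < m →
    Group.nilpotencyClass G ≤ m - 1) (fun G _ _ ih m h hm => ?_) G
  have hG := IsPGroup.of_card h
  have := hG.isNilpotent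
  have : Nontrivial G := Finite.one_lt_card_iff_nontrivial.1 (h ▸ Nat.one_lt_pow (by omega) hp.out.one_lt)
  have h1 : center G ≠ ⊥ := (nontrivial_iff_ne_bot _).1 hG.center_nontrivial
  obtain ⟨k, hk⟩ := (hG.to_quotient (center G)).exists_card_eq
  have h2 := card_quotient_lt h1
  have h3 : k < m := by rwa [hk, h, Nat.pow_lt_pow_iff_right hp.out.one_lt] at h2
  by_cases h4 : 1 < k
  · have := ih _ h2 k hk h4
    rw [Group.nilpotencyClass_eq_quotient_center_plus_one]; omega
  · have : IsCyclic (G ⧸ center G) := isCyclic_of_card_dvd_prime (p := p) (by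
      rw [hk]; simpa using pow_dvd_pow p (not_lt.1 h4))
    have := (Group.IsNilpotent.nilpotencyClass_le_one_iff (G := G)).2
      (isMulCommutative_of_isCyclic_quotient_center_self G)
    omega
end

/-- A finite group of prime-power order p ^ m with m > 1 is nilpotent of class at most m - 1. -/
theorem result {G : Type*} [Group G] [Finite G] (p m : ℕ) [Fact p.Prime]
    (hG : Nat.card G = p ^ m) (hm : 1 < m) : Group.nilpotencyClass G ≤ m - 1 := by
  open Pointwise commutatorElement Subgroup Cfsg.Agent.Solv in
  exact aux p G m hG hm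

end Cfsg.Agent.S0063
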