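import Cfsg.Statements.S0646
import Cfsg.Agent.Lib.Solv.PGrp

set_option autoImplicit false
open Cfsg

namespace Cfsg.Agent.S0646

/-- Classification of non-abelian 2-groups with a cyclic maximal subgroup: dihedral, generalized quaternion, and for order at least 16 the modular group and the semidihedral group, each given by generators a (of index 2) and b with the stated relations. -/
theorem result {G : Type*} [Group G] [Finite G] (n : ℕ) (hn : 3 ≤ n) (hG : Nat.card G = 2 ^ n) (C : Subgroup G) (hC : IsCyclic C) (hCi : C.index = 2) (hna : ∃ x y : G, x * y ≠ y * x) : ∃ a b : G, orderOf a = 2 ^ (n - 1) ∧ b ∉ Subgroup.zpowers a ∧ ((b ^ 2 = 1 ∧ b * a * b⁻¹ = a⁻¹) ∨ (b ^ 2 = a ^ (2 ^ (n - 2)) ∧ b * a * b⁻¹ = a⁻¹) ∨ (4 ≤ n ∧ b ^ 2 = 1 ∧ b * a * b⁻¹ = a ^ (1 + 2 ^ (n - 2))) ∨ (4 ≤ n ∧ b ^ 2 = 1 ∧ b * a * b⁻¹ = a ^ (2 ^ (n - 2) - 1))) := by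
  open Pointwise commutatorElement Subgroup Cfsg.Agent.Solv in
  have := Fact.mk Nat.prime_two
  have hG' : IsPGroup 2 G := IsPGroup.of_card hG
  obtain ⟨x, y, hxy⟩ := hna
  obtain ⟨a, b, m, rfl, ha, -, hba, h1, h2, -, hs⟩ := exists_gens_of_cyclic_index (B := ⊤)
    (hG'.to_subgroup ⊤) le_top hC (by rwa [relIndex_top_right]) fun h =>
      hxy (isMulCommutative_iff.1 (inferInstance : IsMulCommutative (⊤ : Subgroup G)) x trivial y trivial)
  have hn' : n = m + 2 := by
    have := (zpowers a).card_mul_index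
    rw [hCi, Nat.card_zpowers, ha, hG, ← pow_succ] at this
    exact (Nat.pow_right_injective le_rfl this).symm
  subst hn'
  obtain ⟨z, hz, h⟩ := exists_normal_form_two ha h1 h2 fun h =>
    hxy (Solv.isMulCommutative_iff.1 (hs ▸ isMulCommutative_zpowers_sup h.symm) x (mem_top x) y (mem_top y))
  have h3 : z * b * a * (z * b)⁻¹ = b * a * b⁻¹ := by
    rw [show z * b * a * (z * b)⁻¹ = z * (b * a * b⁻¹) * z⁻¹ by group,
      (Commute.of_mem_zpowers (Commute.refl a) hz h1).eq, mul_inv_cancel_right]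
  refine ⟨a, z * b, ha, fun h => hba ((mul_mem_cancel_left hz).1 h), ?_⟩
  rw [h3]
  simp only [Nat.add_sub_cancel]
  exact h.imp_right (Or.imp_right (Or.imp (fun h => ⟨by omega, h.2⟩) fun h => ⟨by omega, h.2⟩))

end Cfsg.Agent.S0646
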