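import Cfsg.Statements.S4481
import Cfsg.Agent.Lib.Block.TameP

set_option autoImplicit false
open Cfsg

namespace Cfsg.Agent.S4481

open Cfsg.Agent.Blk
open Cfsg.Agent.Char hiding cj cj_mul cj_inv_cj cj_cj_inv

/-- The principal 2-block of a group with dihedral Sylow 2-subgroups. Let G be a finite group whose Sylow 2-subgroup P is dihedral of order 2^n ≥ 8, let σ be an element of P of order 2^(n−1), ζ a primitive 2^(n−1)-th root of unity, and M a maximal ideal of the algebraic integers containing 2. Then the principal 2-block consists of exactly 3 + 2^(n−2) irreducible characters, which can be labelled 1, χ₁, χ₂, χ₃ and χ^(j) for 1 ≤ j ≤ 2^(n−2) − 1 (all distinct), with signs δ₁, δ₂, δ₃ such that for 0 < λ < 2^(n−1): χ₁(σ^λ) = δ₁, χ₂(σ^λ) = δ₂(−1)^(λ+1), χ₃(σ^λ) = δ₃(−1)^(λ+1) and χ^(j)(σ^λ) = δ₁(ζ^(jλ) + ζ^(−jλ));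 and for every element ρ of odd order and every j: 1 + δ₁χ₁(ρ) = −δ₂χ₂(ρ) − δ₃χ₃(ρ) = δ₁χ^(j)(ρ). -/
theorem result {G : Type*} [Group G] [Finite G] (M : Ideal Cfsg.AlgInt) (hM : Cfsg.IsPModular 2 M) (n : ℕ) (hn : 3 ≤ n) (P : Sylow 2 G) (hP : Nonempty ((P : Subgroup G) ≃* DihedralGroup (2 ^ (n - 1)))) (σ : G) (hσ : σ ∈ (P : Subgroup G)) (hσo : orderOf σ = 2 ^ (n - 1)) (ζ : ℂ) (hζ : IsPrimitiveRoot ζ (2 ^ (n - 1))) : Nat.card (Cfsg.principalBlock M G) = 3 + 2 ^ (n - 2) ∧ ∃ (χ₁ χ₂ χ₃ : Cfsg.IrrCharacter G) (χ' : Fin (2 ^ (n - 2) - 1) → Cfsg.IrrCharacter G) (δ₁ δ₂ δ₃ : ℤ), (δ₁ = 1 ∨ δ₁ = -1) ∧ (δ₂ = 1 ∨ δ₂ = -1) ∧ (δ₃ = 1 ∨ δ₃ = -1) ∧ Function.Injective χ' ∧ (χ₁ : G → ℂ) ≠ (fun _ => 1) ∧ (χ₂ : G → ℂ) ≠ (fun _ => 1) ∧ (χ₃ : G → ℂ) ≠ (fun _ => 1) ∧ χ₁ ≠ χ₂ ∧ χ₁ ≠ χ₃ ∧ χ₂ ≠ χ₃ ∧ (∀ j, χ' j ≠ χ₁ ∧ χ' j ≠ χ₂ ∧ χ' j ≠ χ₃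 ∧ (χ' j : G → ℂ) ≠ (fun _ => 1)) ∧ Cfsg.principalBlock M G = {χ : Cfsg.IrrCharacter G | (χ : G → ℂ) = (fun _ => 1) ∨ χ = χ₁ ∨ χ = χ₂ ∨ χ = χ₃ ∨ ∃ j, χ = χ' j} ∧ (∀ l : ℕ, 0 < l → l < 2 ^ (n - 1) → (χ₁ : G → ℂ) (σ ^ l) = δ₁ ∧ (χ₂ : G → ℂ) (σ ^ l) = δ₂ * (-1) ^ (l + 1) ∧ (χ₃ : G → ℂ) (σ ^ l) = δ₃ * (-1) ^ (l + 1) ∧ ∀ j : Fin (2 ^ (n - 2) - 1), (χ' j : G → ℂ) (σ ^ l) = δ₁ * (ζ ^ (((j : ℕ) + 1) * l) + (ζ ^ (((j : ℕ) + 1) * l))⁻¹)) ∧ ∀ ρ : G, Odd (orderOf ρ) → ∀ j : Fin (2 ^ (n - 2) - 1), 1 + δ₁ * (χ₁ : G → ℂ) ρ = -δ₂ * (χ₂ : G → ℂ) ρ - δ₃ * (χ₃ : G → ℂ) ρ ∧ 1 + δ₁ * (χ₁ : G → ℂ) ρ = δ₁ * (χ' j : G → ℂ) ρ := by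
  haveI : PMod M 2 := ⟨hM⟩
  obtain ⟨a, b, n', h1, h2, h3, h4⟩ := Transfer.mc_of_dihedral P.isPGroup'
    (Nat.le_self_pow (by omega) 2) hP.some
  obtain rfl : n = n' + 2 := by have := Nat.pow_right_injective le_rfl h4; omega
  have h := DH.of_order ⟨h1, h2, h3⟩ (by omega) hσ hσo
  have hc := mc_cw h.toMC (by omega)
  obtain ⟨χ₁, χ₂, χ₃, δ₁, δ₂, δ₃, ψ, a1, a2, a3, a4, a5, a6, a7, a8⟩ :=
    h.principal M (by omega) (isSyl_sylow P)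
  simp only [Nat.add_sub_cancel, show n' + 2 - 1 = n' + 1 from rfl] at hζ ⊢
  obtain ⟨lam, hl⟩ := hc.exists_ev hζ.pow_eq_one
  have e0 : ∀ i, ev (i • lam) (aW σ) = ζ ^ i := fun i => by rw [ev_nsmul, hl]
  have e1 : ∀ i j, Sim (gW (gam h.toMC)) (i • lam) (j • lam) ↔ ζ ^ i = ζ ^ j ∨ ζ ^ (i + j) = 1 :=
    fun i j => or_congr ⟨fun e => by rw [← e0, e, e0], fun e => hc.ext (by rw [e0, e0, e])⟩
      ⟨fun e => by rw [pow_add, ← e0, ← e0, ← e, ev_gW, h.gam_eq, ev_inv, mul_inv_cancel₀ (by simp)],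
        fun e => hc.ext (by
          rw [ev_gW, h.gam_eq, ev_inv, e0, e0, inv_eq_of_mul_eq_one_right (pow_add ζ i j ▸ e)])⟩
  have e2 : ∀ i, gW (gam h.toMC) (i • lam) = i • lam ↔ ζ ^ (i + i) = 1 := fun i =>
    ⟨fun e => by rw [pow_add, ← e0]; nth_rw 1 [← e]; rw [ev_gW]; simp [h.gam_eq], fun e => hc.ext (by
      rw [ev_gW, h.gam_eq, ev_inv, e0, inv_eq_of_mul_eq_one_right (pow_add ζ i i ▸ e)])⟩
  have e3 : ∀ i, 0 < i → i < 2 ^ (n' + 1) → ζ ^ i ≠ 1 := fun i b1 b2 =>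
    hζ.pow_ne_one_of_pos_of_lt b1.ne' b2
  have p2 : 2 ^ (n' + 1) = 2 * 2 ^ n' := pow_succ' _ _
  have e4 : ∀ j : Fin (2 ^ n' - 1), gW (gam h.toMC) ((j.1 + 1) • lam) ≠ (j.1 + 1) • lam := fun j =>
    (e2 _).not.2 (e3 _ (by omega) (by omega))
  have e5 : Function.Injective fun j : Fin (2 ^ n' - 1) => ψ ((j.1 + 1) • lam) := fun i j e => by
    rcases (e1 _ _).1 (((a8 _ (e4 i)).2.2.1 _ (e4 j)).1 e) with e | e
    · have := hζ.pow_inj (by omega) (by omega) e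
      omega
    · exact absurd e (e3 _ (by omega) (by omega))
  have e6 : principalBlock M G = {χ : IrrCharacter G | (χ : G → ℂ) = (fun _ => 1) ∨ χ = χ₁ ∨
      χ = χ₂ ∨ χ = χ₃ ∨ ∃ j : Fin (2 ^ n' - 1), χ = ψ ((j.1 + 1) • lam)} := by
    ext χ
    rw [a5, Set.mem_setOf_eq, Transfer.irr_eq_one]
    refine or_congr_right (or_congr_right (or_congr_right (or_congr_right
      ⟨?_, fun ⟨j, e⟩ => ⟨_, e4 j, e⟩⟩)))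
    rintro ⟨k, hk, rfl⟩
    obtain ⟨i, b1, b2⟩ := hζ.eq_pow_of_pow_eq_one (hc.ev_a k)
    obtain rfl : k = i • lam := hc.ext (by rw [e0, b2])
    have b3 := (e2 i).not.1 hk
    have b4 : i ≠ 0 := by rintro rfl; simp at b3
    have b5 : i ≠ 2 ^ n' := by rintro rfl; exact b3 (by rw [← two_mul, ← p2, hζ.pow_eq_one])
    by_cases b6 : i < 2 ^ n'
    · exact ⟨⟨i - 1, by omega⟩, by simp only [Nat.sub_add_cancel (Nat.pos_of_ne_zero b4)]⟩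
    · exact ⟨⟨2 ^ (n' + 1) - i - 1, by omega⟩, ((a8 _ hk).2.2.1 _ (e4 _)).2 ((e1 _ _).2 (.inr (by
        rw [← hζ.pow_eq_one]; congr 1; simp only; omega)))⟩
  refine ⟨?_, χ₁, χ₂, χ₃, _, δ₁, -δ₂, -δ₃, a1, by omega, by omega, e5,
    Transfer.irr_ne_one.1 a4.1.symm, Transfer.irr_ne_one.1 a4.2.1.symm,
    Transfer.irr_ne_one.1 a4.2.2.1.symm, a4.2.2.2.1, a4.2.2.2.2.1, a4.2.2.2.2.2, fun j =>
      ⟨(a8 _ (e4 j)).1.2.1, (a8 _ (e4 j)).1.2.2.1, (a8 _ (e4 j)).1.2.2.2,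
        Transfer.irr_ne_one.1 (a8 _ (e4 j)).1.1⟩, e6, fun l b1 b2 => ?_, fun ρ hρ j => ?_⟩
  · have b1 : ∀ j, _ := fun j => (a8 _ (e4 j)).1
    rw [e6, show {χ : IrrCharacter G | _} = insert (irrOne G) (insert χ₁ (insert χ₂ (insert χ₃
      (Set.range fun j : Fin (2 ^ n' - 1) => ψ ((j.1 + 1) • lam))))) by
        ext χ; simp [Transfer.irr_eq_one, eq_comm (a := χ) (b := ψ _)], Nat.card_coe_set_eq,
      Set.ncard_insert_of_notMem (by simp [a4, b1]), Set.ncard_insert_of_notMem (by simp [a4, b1]),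
      Set.ncard_insert_of_notMem (by simp [a4, b1]), Set.ncard_insert_of_notMem (by simp [b1]),
      Set.ncard_range_of_injective e5, Nat.card_eq_fintype_card, Fintype.card_fin]
    have := Nat.one_le_two_pow (n := n')
    change _ = 3 + 2 ^ n'
    omega
  · have b3 : aW σ ^ l ≠ 1 := fun e => pow_ne_one_of_lt_orderOf b1.ne' (hc.ord ▸ b2) e
    have b4 := a6 _ b3
    rw [ev_pow, hc.ev_nu] at b4
    refine ⟨b4.1, b4.2.1.trans (by push_cast; ring), b4.2.2.trans (by push_cast; ring), fun j => ?_⟩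
    exact ((a8 _ (e4 j)).2.1 _ b3).trans (by rw [ev_pow, e0, pow_mul])
  · have b1 : ¬ 2 ∣ orderOf ρ := hρ.not_two_dvd_nat
    exact ⟨(a7 ρ b1).trans (by push_cast; ring), (a8 _ (e4 j)).2.2.2 ρ b1⟩

end Cfsg.Agent.S4481
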