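import Cfsg.Statements.S4482
import Cfsg.Agent.Lib.Block.TameP

set_option autoImplicit false
open Cfsg

namespace Cfsg.Agent.S4482

open Cfsg.Agent.Blk
open Cfsg.Agent.Char hiding cj cj_mul cj_inv_cj cj_cj_inv

/-- An order formula for groups with dihedral Sylow 2-subgroups and one class of involutions. Let G be a finite group whose Sylow 2-subgroup P = ⟨σ, τ⟩ is dihedral of order 2^n ≥ 8 (σ of order 2^(n−1), τ an involution inverting σ), let J be the central involution σ^(2^(n−2)), and suppose J, τ and στ are conjugate in G. Fix M over 2 and let χ₁ be an irreducible character in the principal 2-block taking one constant value δ₁ = ±1 at every non-identity power of σ, with χ₁ ≠ 1. Then, with x₁ = χ₁(1) and c(·) denoting orders of centralizers, x₁ ≠ δ₁ and #G · (x₁ − δ₁)² = 2·x₁(x₁ + δ₁)·c(J)³·(1/c(J, τ) + 1/c(J, στ))², where c(J, y) is the order of the joint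 centralizer of J and y. -/
theorem result {G : Type*} [Group G] [Finite G] (M : Ideal Cfsg.AlgInt) (hM : Cfsg.IsPModular 2 M) (n : ℕ) (hn : 3 ≤ n) (P : Sylow 2 G) (σ τ : G) (hσ : σ ∈ (P : Subgroup G)) (hτ : τ ∈ (P : Subgroup G)) (hσo : orderOf σ = 2 ^ (n - 1)) (hτo : orderOf τ = 2) (hrel : τ * σ * τ⁻¹ = σ⁻¹) (hgen : Subgroup.closure ({σ, τ} : Set G) = (P : Subgroup G)) (hconj : IsConj (σ ^ (2 ^ (n - 2))) τ ∧ IsConj (σ ^ (2 ^ (n - 2))) (σ * τ)) (χ₁ : Cfsg.IrrCharacter G) (hχ₁ : χ₁ ∈ Cfsg.principalBlock M G) (h1 : (χ₁ : G → ℂ) ≠ (fun _ => 1)) (δ₁ : ℤ) (hδ₁ : δ₁ = 1 ∨ δ₁ = -1) (hval : ∀ l : ℕ, 0 < l → l < 2 ^ (n - 1) → (χ₁ : G → ℂ) (σ ^ l) = δ₁) : (Cfsg.charDegree (χ₁ : G → ℂ) : ℤ) ≠ δ₁ ∧ (Nat.card G : ℚ) * ((Cfsg.charDegree (χ₁ : G → ℂ) : ℚ) - δ₁) ^ 2 = 2 * (Cfsg.charDegree (χ₁ : G → ℂ) : ℚ) * ((Cfsg.charDegree (χ₁ : G → ℂ) : ℚ) + δ₁) * (Nat.card (Subgroup.centralizer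 ({σ ^ (2 ^ (n - 2))} : Set G)) : ℚ) ^ 3 * (1 / (Nat.card (Subgroup.centralizer ({σ ^ (2 ^ (n - 2)), τ} : Set G)) : ℚ) + 1 / (Nat.card (Subgroup.centralizer ({σ ^ (2 ^ (n - 2)), σ * τ} : Set G)) : ℚ)) ^ 2 := by
  haveI : PMod M 2 := ⟨hM⟩
  obtain ⟨m, rfl⟩ := Nat.exists_eq_add_of_le' (show 2 ≤ n by omega)
  have := Fintype.ofFinite G
  have hS := isSyl_sylow P
  have h0 : τ ∉ Subgroup.zpowers σ := fun e => by
    rw [(Solv.commute_of_mem_zpowers e).eq, mul_inv_cancel_right, eq_inv_iff_mul_eq_one, ← sq,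
      ← orderOf_dvd_iff_pow_eq_one, hσo] at hrel
    have := Nat.le_of_dvd two_pos hrel
    have := Nat.pow_le_pow_right (i := 2) two_pos (show 2 ≤ m + 2 - 1 by omega)
    omega
  have h : DH P σ τ m := ⟨⟨hσo, h0, hgen.symm.trans (Transfer.closure_pair_eq σ τ),
    mul_self_of_two hτo ▸ one_mem _, .inl hrel⟩, mul_self_of_two hτo, hrel⟩
  have hc := mc_cw h.toMC (by omega)
  obtain ⟨χ₀, χ₂, χ₃, δ, δ₂, δ₃, ψ, a1, a2, a3, a4, a5, a6, a7, a8⟩ := h.principal M (by omega) hS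
  simp only [Nat.add_sub_cancel] at hconj ⊢
  have hz : aW σ ^ 2 ^ m ≠ 1 := fun e => mc_z_ne h.toMC (congrArg Subtype.val e)
  have ha : aW σ ≠ 1 := fun e => hz (by rw [e, one_pow])
  have b1 := a6 _ ha
  have b2 := a6 _ hz
  rw [hc.ev_nu] at b1
  rw [ev_pow, hc.nu_z] at b2
  have b3 : ∀ k, gW (gam h.toMC) k ≠ k → (ψ k).1 (σ ^ 2 ^ m) ^ 2 = 4 := fun k hk => by
    have := (a8 k hk).2.1 _ hz
    rw [ev_pow] at this
    rcases hc.ev_z k with e | e <;> rcases a1 with rfl | rfl <;> rw [e] at this <;>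
      exact (congrArg (· ^ 2) this).trans (by norm_num)
  have b4 := hval 1 one_pos (Nat.one_lt_two_pow (by omega))
  have b5 := hval (2 ^ m) (by positivity) (Nat.pow_lt_pow_right one_lt_two (by omega))
  rw [pow_one] at b4
  change χ₀.1 σ = _ ∧ χ₂.1 σ = _ ∧ χ₃.1 σ = _ at b1
  change χ₀.1 (σ ^ 2 ^ m) = _ ∧ χ₂.1 (σ ^ 2 ^ m) = _ ∧ χ₃.1 (σ ^ 2 ^ m) = _ at b2
  obtain rfl : χ₁ = χ₀ := by
    rcases (a5 _).1 hχ₁ with e | e | rfl | rfl | ⟨k, hk, rfl⟩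
    · exact absurd (Transfer.irr_eq_one.1 e) h1
    · exact e
    · have := b4.symm.trans b1.2.1
      have := b5.symm.trans b2.2.1
      norm_cast at *; omega
    · have := b4.symm.trans b1.2.2
      have := b5.symm.trans b2.2.2
      norm_cast at *; omega
    · have := b3 k hk
      rw [b5] at this
      rcases hδ₁ with rfl | rfl <;> norm_num at this
  obtain rfl : δ₁ = δ := by exact_mod_cast b4.symm.trans b1.1
  have hd : (δ₁ : ℂ) * δ₁ = 1 := by rcases a1 with rfl | rfl <;> simp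
  have b6 : ∀ k, gW (gam h.toMC) k ≠ k → (ψ k).1 1 = χ₁.1 1 + δ₁ := fun k hk => by
    linear_combination -δ₁ * (a8 k hk).2.2.2 1 preg_one - ((ψ k).1 1 - χ₁.1 1) * hd
  obtain ⟨k, hk, -⟩ := hc.exists_self
  have b7 : χ₁.1 1 + δ₁ ≠ 0 := b6 k hk ▸ (ψ k).2.apply_one_ne_zero
  have b8 := χ₁.2.apply_one_ne_zero
  have hB := (isPBlock_principal (M := M) (G := G)).isUB
  have c1 := hB.sum_degree_mul_eq_zero (p := 2) (y := σ) (by rw [hσo]; exact dvd_pow_self 2 (by omega))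
  have c2 := hB.sum_degree_mul_eq_zero (p := 2) (y := σ ^ 2 ^ m) (by rw [h.ord_z])
  have hall := h.conj_all hS hconj.1 hconj.2
  have c3 := h.order_a M hS hall
  have c4 := h.order_z M hS (by omega) hall
  have c5 : ∑ χ ∈ fs (principalBlock M G), ((starRingEnd ℂ) (χ.1 (σ ^ 2 ^ m) ^ 2 / χ.1 1) -
      4 / (χ₁.1 1 + δ₁) ^ 2 * χ.1 1) * (χ.1 σ + χ.1 (σ ^ 2 ^ m)) =
      2 * (χ₁.1 1 - δ₁) ^ 2 / (χ₁.1 1 * (χ₁.1 1 + δ₁)) := by
    rw [← Finset.sum_subset (s₁ := {irrOne G, χ₁}) (by simp [Finset.insert_subset_iff, a5])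
      fun χ hχ e => ?_, Finset.sum_pair a4.1, b4, b5, map_div₀, map_div₀,
      χ₁.2.isCharacter.conj_apply_one]
    · simp only [irrOne, map_pow, map_one, map_intCast]
      field_simp
      rcases a1 with rfl | rfl <;> push_cast <;> ring
    rcases (a5 _).1 (mem_fs.1 hχ) with rfl | rfl | rfl | rfl | ⟨k, hk, rfl⟩
    · simp at e
    · simp at e
    · simp [b1, b2]
    · simp [b1, b2]
    · rw [b3 k hk, map_div₀, (ψ k).2.isCharacter.conj_apply_one, b6 k hk, map_ofNat]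
      field_simp
      simp
  simp only [sub_mul, mul_add, Finset.sum_sub_distrib, Finset.sum_add_distrib, mul_assoc,
    ← Finset.mul_sum, c1, c2] at c5
  have d1 : ∀ x y : G, Subgroup.centralizer ({x, y} : Set G) = Ce1 x ⊓ Ce1 y := fun x y => by
    ext g; simp [Subgroup.mem_centralizer_iff]
  have d2 : (Nat.card G : ℂ) * (χ₁.1 1 - δ₁) ^ 2 = 2 * χ₁.1 1 * (χ₁.1 1 + δ₁) *
      (Nat.card (Ce1 (σ ^ 2 ^ m)) : ℂ) ^ 3 * (1 / (Nat.card ↥(Ce1 (σ ^ 2 ^ m) ⊓ Ce1 τ) : ℂ) +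
        1 / (Nat.card ↥(Ce1 (σ ^ 2 ^ m) ⊓ Ce1 (σ * τ)) : ℂ)) ^ 2 := by
    have c6 := congrArg ((Nat.card G : ℂ) * ·) c5
    simp only [mul_zero, add_zero, sub_zero, mul_add, c3, c4] at c6
    have := card_ne_zero' ↥(Ce1 (σ ^ 2 ^ m) ⊓ Ce1 τ)
    have := card_ne_zero' ↥(Ce1 (σ ^ 2 ^ m) ⊓ Ce1 (σ * τ))
    field_simp at c6 ⊢
    linear_combination -c6 / 2
  rw [← cast_deg] at d2 b7 b8
  rw [d1, d1]
  have d3 : (Nat.card G : ℚ) * ((charDegree χ₁.1 : ℚ) - δ₁) ^ 2 = 2 * (charDegree χ₁.1 : ℚ) *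
      ((charDegree χ₁.1 : ℚ) + δ₁) * (Nat.card (Ce1 (σ ^ 2 ^ m)) : ℚ) ^ 3 *
      (1 / (Nat.card ↥(Ce1 (σ ^ 2 ^ m) ⊓ Ce1 τ) : ℚ) +
        1 / (Nat.card ↥(Ce1 (σ ^ 2 ^ m) ⊓ Ce1 (σ * τ)) : ℚ)) ^ 2 :=
    Rat.cast_injective (α := ℂ) (by push_cast; exact d2)
  refine ⟨fun e => ?_, d3⟩
  rw [← e, Int.cast_natCast, sub_self, zero_pow two_ne_zero, mul_zero] at d3
  have := Nat.pos_of_ne_zero (charDegree_ne_zero χ₁)
  have := Nat.card_pos (α := Ce1 (σ ^ 2 ^ m))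
  have := Nat.card_pos (α := ↥(Ce1 (σ ^ 2 ^ m) ⊓ Ce1 τ))
  exact absurd d3 (ne_of_lt (by positivity))

end Cfsg.Agent.S4482
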