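import Cfsg.Statements.S0089
import Cfsg.Agent.Lib.Transfer.PG

set_option autoImplicit false
open Cfsg

namespace Cfsg.Agent.S0089

set_option linter.unusedSectionVars false
set_option linter.unusedVariables false
set_option linter.style.haveILetI false
set_option linter.unusedSimpArgs false

open Subgroup Transfer MS

/-- When all Sylow subgroups are abelian, the derived subgroup meets the centre trivially. -/
theorem result {G : Type*} [Group G] [Finite G] (h : ∀ p : ℕ, p.Prime → ∀ P : Sylow p G, IsMulCommutative P) : commutator G ⊓ Subgroup.center G = ⊥ := by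
  by_contra h0
  obtain ⟨X, hX, hp⟩ := exists_prime_sub h0
  haveI := Fact.mk hp
  obtain ⟨P, hP⟩ := (pg_of_card (H := X) rfl).exists_le_sylow
  obtain ⟨z, hz, h1⟩ := exists_ne_one (prime_ne_bot hp)
  have := mem_der_of_central P.card_coprime_index (hP hz) (hX hz).2 (hX hz).1
  rw [ab_iff_der.1 (h _ hp P)] at this
  exact h1 this

end Cfsg.Agent.S0089
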