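import Cfsg.Statements.S0262
import Mathlib
import Cfsg.Agent.Lib.Perm.Dick5

set_option autoImplicit false
open Cfsg

namespace Cfsg.Agent.S0262

open Cfsg.Agent.Perm.GL2 Subgroup

/-- For an odd prime r different from the characteristic, the Sylow r-subgroups of SL_2(q) are cyclic. -/
theorem result {F : Type*} [Field F] [Fintype F] (p : ℕ) [Fact p.Prime] [CharP F p] (r : ℕ) [Fact r.Prime] (hr : r ≠ 2) (hrp : r ≠ p) (R : Sylow r (Matrix.SpecialLinearGroup (Fin 2) F)) : IsCyclic (R : Subgroup (Matrix.SpecialLinearGroup (Fin 2) F)) := by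
  have hrr : r.Prime := Fact.out
  by_cases hb : (R : Subgroup (SL2 F)) = ⊥
  · rw [hb]; infer_instance
  haveI := (nontrivial_iff_ne_bot _).2 hb
  haveI := R.isPGroup'.center_nontrivial
  obtain ⟨⟨⟨z, hz⟩, hz2⟩, hz1⟩ := exists_ne (1 : center (R : Subgroup (SL2 F)))
  have h1 : z ≠ 1 := fun e => hz1 (Subtype.ext (Subtype.ext e))
  obtain ⟨k, hk⟩ := IsPGroup.iff_orderOf.1 R.isPGroup' ⟨z, hz⟩
  rw [orderOf_mk] at hk
  have hk0 : k ≠ 0 := by rintro rfl; exact h1 (orderOf_eq_one_iff.1 hk)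
  have hreg : IsReg (z : M2 F) := isReg_of_orderOf (by
    rw [hk]; intro h
    exact hr ((Nat.prime_dvd_prime_iff_eq hrr Nat.prime_two).1 ((dvd_pow_self r hk0).trans h))) (by
    rw [hk, ringChar.eq F p]; intro h
    exact hrp ((Nat.prime_dvd_prime_iff_eq Fact.out hrr).1 ((Fact.out : p.Prime).dvd_of_dvd_pow h)).symm)
  haveI := hreg.isCyclic_cent
  exact isCyclic_of_le (H' := cent z) fun g hg => mem_cent.2 (congrArg Subtype.val (mem_center_iff.1 hz2 ⟨g, hg⟩))

end Cfsg.Agent.S0262
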