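import Cfsg.Statements.S3861
import Cfsg.Agent.Lib.FT.Cor
import Cfsg.Agent.Lib.Transfer.ZStar

set_option autoImplicit false
open Cfsg

namespace Cfsg.Agent.S3861

open Cfsg.Agent.Char

open Subgroup Cfsg.Agent.Solv Pointwise in
theorem lift_real {G : Type*} [Group G] [Finite G] (N : Subgroup G) [N.Normal] (hN : IsPGroup 2 N)
    {x : G ⧸ N} (h1 : x ≠ 1) (ho : Odd (orderOf x)) (hc : IsConj x x⁻¹) :
    ∃ y : G, y ≠ 1 ∧ Odd (orderOf y) ∧ IsConj y y⁻¹ := by
  obtain ⟨z, rfl⟩ := QuotientGroup.mk'_surjective N x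
  obtain ⟨a, ha, y, hy, rfl, ⟨k, hk⟩, hb⟩ := Transfer.exists_pPart 2 z
  have ha1 : QuotientGroup.mk' N a = 1 := by
    have h2 : QuotientGroup.mk' N a ∈ zpowers (QuotientGroup.mk' N (a * y)) := by
      obtain ⟨i, hi⟩ := ha
      exact ⟨i, by simp only [← map_zpow]; exact congrArg _ hi⟩
    have h3 := Transfer.odd_orderOf_of_mem_zpowers ho h2
    have h4 : orderOf (QuotientGroup.mk' N a) ∣ 2 ^ k :=
      orderOf_dvd_of_pow_eq_one (by rw [← map_pow, hk, map_one])
    exact orderOf_eq_one_iff.1 (Nat.eq_one_of_self_dvd_coprime' h4 h3)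
  rw [map_mul, ha1, one_mul] at h1 ho hc
  have hyo : Odd (orderOf y) := Transfer.odd_iff_coprime_two.2 hb
  obtain ⟨g, hg⟩ := isConj_iff.1 hc
  obtain ⟨g, rfl⟩ := QuotientGroup.mk'_surjective N g
  have hcop : (Nat.card (zpowers y)).Coprime (Nat.card N) := by
    obtain ⟨m, hm⟩ := IsPGroup.iff_card.1 hN
    rw [hm, Nat.card_zpowers]; exact hb.pow_right _
  have hmem : QuotientGroup.mk' N g ∈ normalizer (((zpowers y).map (QuotientGroup.mk' N) : Subgroup (G ⧸ N)) : Set (G ⧸ N)) := by
    rw [MonoidHom.map_zpowers]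
    exact Transfer.mem_normalizer_zpowers_of_inv hg
  rw [← coprime_map_mk_normalizer hcop (Or.inl (isSolvable_zpowers y))] at hmem
  obtain ⟨n, hn, hng⟩ := hmem
  refine ⟨y, fun h => h1 (by rw [h, map_one]), hyo, isConj_iff.2 ⟨n, ?_⟩⟩
  have h5 : n * y * n⁻¹ * y ∈ zpowers y ⊓ N := by
    refine ⟨mul_mem (conj_mem_of_mem_normalizer hn (mem_zpowers y)) (mem_zpowers y), ?_⟩
    apply (QuotientGroup.eq_one_iff _).1
    change QuotientGroup.mk' N _ = 1
    simp only [map_mul, map_inv, hng, hg, inv_mul_cancel]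
  rw [inf_eq_bot_of_coprime' hcop, mem_bot] at h5
  exact eq_inv_of_mul_eq_one_left h5
where Nat.eq_one_of_self_dvd_coprime' {n k : ℕ} (h : n ∣ 2 ^ k) (ho : Odd n) : n = 1 :=
  Nat.eq_one_of_dvd_coprimes ((Transfer.odd_iff_coprime_two.1 ho).pow_right k) dvd_rfl h

/-- A finite group G has no non-identity element of odd order that is conjugate to its inverse if and only if the Sylow 2-subgroups of G are normal. -/
theorem result {G : Type*} [Group G] [Finite G] (P : Sylow 2 G) : (∀ x : G, x ≠ 1 → Odd (orderOf x) → ¬ IsConj x x⁻¹) ↔ (P : Subgroup G).Normal := by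
  constructor
  · intro h
    have h2 : Odd (Nat.card (⊤ : Subgroup (G ⧸ pCore 2 G))) := by
      rw [Transfer.odd_card_iff]
      intro t _ ht
      by_cases hp : IsPGroup 2 (Subgroup.normalClosure ({t} : Set (G ⧸ pCore 2 G)))
      · have := Solv.le_pCore hp
        rw [Solv.pCore_quotient_pCore] at this
        exact Transfer.ne_one_of_orderOf ht (this (Subgroup.subset_normalClosure rfl))
      · obtain ⟨a, h1, h2, h3⟩ :=
          Transfer.exists_inverts_odd_of_not_isPGroup (Transfer.mul_self_of_orderOf ht) hp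
        obtain ⟨y, y1, y2, y3⟩ := lift_real _ (Solv.isPGroup_pCore 2 G) h1 h2 (isConj_iff.2 ⟨t, h3⟩)
        exact h y y1 y2 y3
    rw [Subgroup.card_top, ← Subgroup.index_eq_card] at h2
    have h3 : (P : Subgroup G) ≤ pCore 2 G := by
      apply Solv.le_of_coprime_index
      obtain ⟨m, hm⟩ := IsPGroup.iff_card.1 P.isPGroup'
      rw [hm]; exact (Transfer.odd_iff_coprime_two.1 h2).symm.pow_left _
    rw [le_antisymm h3 (Solv.pCore_le_sylow P)]
    infer_instance
  · intro hP x h1 ho hc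
    obtain ⟨g, hg⟩ := isConj_iff.1 hc
    have hodd : Odd (Nat.card (⊤ : Subgroup (G ⧸ (P : Subgroup G)))) := by
      rw [Subgroup.card_top, ← Subgroup.index_eq_card, ← Nat.not_even_iff_odd, even_iff_two_dvd]
      exact P.not_dvd_index
    set f := QuotientGroup.mk' (P : Subgroup G)
    have hg' : f g * f x * (f g)⁻¹ = (f x)⁻¹ := by rw [← map_inv, ← map_inv, ← map_mul, ← map_mul, hg]
    have hgo := Transfer.odd_orderOf_of_mem hodd (Subgroup.mem_top (f g))
    have hsq : Commute (f g * f g) (f x) := by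
      have : f g * f g * f x * (f g * f g)⁻¹ = f x := by
        calc _ = f g * (f g * f x * (f g)⁻¹) * (f g)⁻¹ := by simp only [mul_inv_rev, mul_assoc]
          _ = (f g * f x * (f g)⁻¹)⁻¹ := by
            nth_rewrite 1 [hg']; simp only [mul_inv_rev, mul_assoc, inv_inv]
          _ = f x := by rw [hg', inv_inv]
      exact Transfer.commute_iff_conj.2 this
    have hc2 := Transfer.commute_iff_conj.1 (Transfer.commute_of_commute_sq_of_odd hgo hsq)
    rw [hg'] at hc2
    have h3 : f x = 1 := Transfer.eq_one_of_odd_of_mul_self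
      (Transfer.odd_orderOf_of_mem hodd (Subgroup.mem_top _)) (by nth_rewrite 1 [← hc2]; simp)
    exact h1 (Transfer.eq_one_of_odd_of_mem P.isPGroup' ((QuotientGroup.eq_one_iff _).1 h3) ho)

end Cfsg.Agent.S3861
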