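import Cfsg.Statements.S3862
import Cfsg.Agent.Lib.Solv.Schmidt
import Cfsg.Agent.Lib.Solv.Frattini
import Cfsg.Agent.Lib.Transfer.Count

set_option autoImplicit false
open Cfsg

namespace Cfsg.Agent.S3862

/-- If every 2-element of the finite group G that is conjugate to its inverse lies in the centre of G, then G has a normal 2-complement. -/
theorem result {G : Type*} [Group G] [Finite G] (h : ∀ x : G, (∃ j : ℕ, orderOf x = 2 ^ j) → IsConj x x⁻¹ → x ∈ Subgroup.center G) : Cfsg.HasNormalPComplement 2 G := by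
  open Pointwise commutatorElement Subgroup Cfsg.Agent.Solv in
  open Cfsg.Agent.Transfer in
  haveI := Fact.mk Nat.prime_two
  refine hasNPC_top.1 (hasNPC_sub_of_forall fun Q h1 hQ h2 g h3 hg ho => ?_)
  clear h1 h2 h3
  induction Q using Comp.subgroup_induction with | h Q ih => ?_
  by_cases h0 : Q = ⊥
  · exact fun y hy => by simp [mem_bot.1 (h0 ▸ hy)]
  have h1 := ih _ (map_frattini_lt h0) (hQ.to_le (map_subtype_le _)) (Solv.normalizer_le_normalizer_map_of_characteristic _ _ hg)
  refine zpowers_le.1 (coprime_le_centralizer_of_commutator_le (N := Q ⊓ center G)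
    (coprime_card_of_isPGroup' (hQ.to_le inf_le_left) (by rwa [Nat.card_zpowers])) (commutator_le.2 fun x hx a ha => ?_)
    fun y _ z hz => (mem_center_iff.1 hz.2 y).symm)
  have h2 := commutator_le_left_of_le_normalizer (zpowers_le.2 hg) (commutator_mem_commutator hx ha)
  refine ⟨h2, h _ (by simpa using (isPGroup_zpowers_of_mem hQ h2).exists_card_eq) (isConj_iff.2 ⟨x⁻¹, ?_⟩)⟩
  have h3 := mem_centralizer_iff.1 (zpowers_le.2 h1 ha) _ (pow_mem_map_frattini hQ hx)
  rw [commutatorElement_inv, commutatorElement_def, commutatorElement_def]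
  calc _ = a * x * (x ^ 2)⁻¹ * a⁻¹ * x := by rw [pow_two]; group
    _ = a * x * a⁻¹ * (x ^ 2 * a * a⁻¹)⁻¹ * x := by rw [h3]; group
    _ = _ := by rw [pow_two]; group

end Cfsg.Agent.S3862
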