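import Cfsg.Statements.S0496
import Mathlib
import Cfsg.Agent.Lib.Perm.Br6

set_option autoImplicit false
open Cfsg

namespace Cfsg.Agent.S0496



/-- A non-abelian finite simple group of order at most 1092 has order 60, 168, 360, 504, 660 or 1092. -/
theorem result {G : Type*} [Group G] [Finite G] [IsSimpleGroup G]
    (hG : ¬ IsMulCommutative G) (h : Nat.card G ≤ 1092) :
    Nat.card G = 60 ∨ Nat.card G = 168 ∨ Nat.card G = 360 ∨ Nat.card G = 504 ∨ Nat.card G = 660 ∨
      Nat.card G = 1092 := by
  have h1 : (List.range 1093).all (fun N => decide (N = 0 ∨ N = 60 ∨ N = 168 ∨ N = 360 ∨ N = 504 ∨ N = 660 ∨ N = 1092) ||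
    Perm.Br.chk 34 N) = true := by decide +kernel
  have h2 := List.all_eq_true.1 h1 (Nat.card G) (List.mem_range.2 (by omega))
  simpa [Perm.Br.not_chk hG (B := 34) (by omega), Nat.card_pos.ne'] using h2

end Cfsg.Agent.S0496
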