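import Cfsg.Statements.S0678
import Mathlib
import Cfsg.Agent.Lib.Perm.Mod3

set_option autoImplicit false
open Cfsg

namespace Cfsg.Agent.S0678

open MulAction Subgroup Cfsg.Agent.Perm Cfsg.Agent.Perm.Md

theorem card_dvd {G α : Type*} [Group G] [Finite G] [Finite α] [MulAction G α] {n : ℕ}
    (h : IsMultiplyPretransitive G α n) (hn : n ≤ Nat.card α) : (Nat.card α).descFactorial n ∣ Nat.card G := by
  have := Fintype.ofFinite α
  obtain ⟨x⟩ : Nonempty (Fin n ↪ α) := Function.Embedding.nonempty_of_card_le (by simpa using hn)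
  refine ⟨Nat.card (stabilizer G x), ?_⟩
  rw [card_eq_mul_stab x, Nat.card_eq_fintype_card (α := Fin n ↪ α), Fintype.card_embedding_eq]; simp

theorem odd_case {G α : Type*} [Group G] [Finite G] [Fintype α] [MulAction G α] [FaithfulSMul G α]
    [IsPretransitive G α] [Fact (Nat.Prime 7)] (hα : Nat.card α = 7) (hG : ¬ Group.IsSolvable G) (P : Sylow 7 G)
    (h : ¬ Even (Nat.card (normalizer ((P : Subgroup G) : Set G)))) :
    Nat.card G = 168 ∧ IsSimpleGroup G ∨ Nat.card G = 2520 := by
  obtain ⟨t, n, h1, h2, h3, h4, h5, h6⟩ := syl_data hα P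
  have h7 := card_dvd (two_of_not_solv hα hG) (by omega)
  have h8 := card_dvd_of_injective (toPermHom G α) toPerm_injective
  rw [Nat.card_perm, hα, h1] at h8
  rw [hα, h1] at h7
  have h9 : t ≠ 1 := by
    rintro rfl
    have := Br.top_of_burnside hα P (by rw [Br.cent_prime hα (card_syl hα P)]; exact relIndex_eq_one.1 h6.symm)
    have h9 := card_syl hα P
    rw [this, card_top] at h9
    have := isCyclic_of_prime_card h9
    exact hG (isSolvable_of_comm fun a b => (IsCyclic.commGroup).mul_comm a b)
  obtain rfl : t = 3 := by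
    have := Nat.le_of_dvd (by norm_num) h2
    rw [h4] at h
    interval_cases t <;> simp_all +decide
  have h10 : ∀ n ∈ Nat.divisors 240, n % 7 = 1 → n % 2 = 0 → n = 8 ∨ n = 120 := by decide
  rcases h10 n (Nat.mem_divisors.2 ⟨Nat.dvd_of_mul_dvd_mul_right (k := 21) (by norm_num) h8, by norm_num⟩) h3
    (by simp [Nat.descFactorial] at h7; omega) with rfl | rfl
  · refine Or.inl ⟨h1, Br.simple_of_prime hα P (fun h => ?_) (h6 ▸ Nat.prime_three)⟩
    have := Sylow.unique_of_normal P h
    simp at h5
  · exact Or.inr h1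

/-- A non-solvable transitive permutation group on 7 points that does not contain the alternating group is a simple group of order 168. -/
theorem result {α : Type*} [Fintype α] [DecidableEq α] (hα : Fintype.card α = 7) (G : Subgroup (Equiv.Perm α)) [MulAction.IsPretransitive G α] (hG : ¬ Group.IsSolvable G) (hA : ¬ alternatingGroup α ≤ G) : Nat.card G = 168 ∧ IsSimpleGroup G := by
  have := Fact.mk (by norm_num : Nat.Prime 7)
  have hα' := Nat.card_eq_fintype_card.trans hα
  have h1 : ∀ H : Subgroup G, Nat.card H ≠ 2520 := fun H h => hA <| by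
    refine (Equiv.Perm.alternatingGroup_le_of_index_le_two (G := H.map G.subtype) ?_).trans (map_subtype_le H)
    have := (H.map G.subtype).index_mul_card
    rw [card_map_of_injective G.subtype_injective, h, Nat.card_perm, hα'] at this
    simp [Nat.factorial] at this; omega
  obtain ⟨P⟩ : Nonempty (Sylow 7 G) := inferInstance
  by_cases h : Even (Nat.card (normalizer ((P : Subgroup G) : Set G)))
  swap
  · exact (odd_case hα' hG P h).resolve_right (by simpa using h1 ⊤)
  obtain ⟨e, τ, hP, hτ⟩ := coord_syl hα' P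
  have h2 := card_dvd (three_of_even hτ (fun h => hG (solv_of_aff h)) (hP ▸ h)) (by omega)
  let H := (Equiv.Perm.sign.comp G.subtype).ker
  have h3 : H.index ∣ 2 := by
    rw [index_ker]; simpa using card_subgroup_dvd_card (Equiv.Perm.sign.comp G.subtype).range
  have h4 : ¬ Group.IsSolvable H := fun _ =>
    hG (solvable_of_ker_le_range H.subtype (Equiv.Perm.sign.comp G.subtype) (by simp [H]))
  have := IsPreprimitive.of_prime_card (G := G) (X := α) (hα' ▸ Fact.out)
  have := normal_trans_of_prim (α := α) H (fun h => h4 (h ▸ inferInstance))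
  obtain ⟨Q⟩ : Nonempty (Sylow 7 H) := inferInstance
  obtain ⟨e, τ, hQ, hτ⟩ := coord_syl hα' Q
  obtain ⟨h5, -⟩ := (odd_case hα' h4 Q fun h => by
    obtain ⟨u, hu⟩ := exists_neg hτ (by norm_num) (hQ ▸ h) 0
    have h5 : ((u : G) : Equiv.Perm α) = e.symm.permCongr (Equiv.neg _) :=
      Equiv.ext fun x => e.injective ((hu x).trans (by simp))
    have h6 : Equiv.Perm.sign ((u : G) : Equiv.Perm α) = 1 := u.2
    rw [h5, Equiv.Perm.sign_permCongr] at h6
    revert h6; decide).resolve_right (h1 H)
  rw [← H.index_mul_card, h5, hα'] at h2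
  have := Nat.le_of_dvd two_pos h3
  interval_cases H.index <;> simp_all [Nat.descFactorial]

end Cfsg.Agent.S0678
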