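import Cfsg.Statements.S0713
import Mathlib
import Cfsg.Agent.Lib.Perm.PG1

set_option autoImplicit false
open Cfsg

namespace Cfsg.Agent.S0713

open Cfsg.Agent.Perm Cfsg.Agent.Perm.PG MulAction Equiv

/-- Jordan's Theorem: a primitive permutation group of degree `n ≥ 5` containing a `p`-cycle for a prime `p ≤ n - 3` contains the alternating group. -/
theorem result {α : Type*} [Fintype α] [DecidableEq α] (G : Subgroup (Equiv.Perm α)) (hG : MulAction.IsPreprimitive G α) {p : ℕ} (hp : p.Prime) (hn : 5 ≤ Fintype.card α) (hpn : p + 3 ≤ Fintype.card α) {g : Equiv.Perm α} (hgc : g.IsCycle) (hgp : g.support.card = p) (hg : g ∈ G) : alternatingGroup α ≤ G := by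
  classical
  have := Fact.mk hp
  have hc := Nat.card_eq_fintype_card (α := α)
  have h2 := hp.two_le
  have ais : ∀ (f : Perm α) x, f (f⁻¹ x) = x := fun f x => by simp
  have hsc : Set.ncard ((g.support : Set α)ᶜ) = Fintype.card α - p := by
    rw [← Finset.coe_compl, Set.ncard_coe_finset, Finset.card_compl, hgp]
  have hmt : IsMultiplyPretransitive G α (Fintype.card α - p - 1 + 2) := by
    have := Perm.isPretransitive_of_isCycle_mem hgc hg
    refine (hG.isMultiplyPreprimitive (s := (g.support : Set α)ᶜ) (by omega) (by omega) ?_).isMultiplyPretransitive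
    apply IsPreprimitive.of_prime_card
    convert! hp
    rw [Nat.card_eq_fintype_card, Fintype.card_subtype, ← hgp]
    apply congr_arg
    ext x
    simp [SubMulAction.mem_ofFixingSubgroup_iff]
  set H := fixingSubgroup G ((g.support : Set α)ᶜ) with hH
  have hmH : ∀ x : G, x ∈ H ↔ ∀ z, g z = z → (x : Perm α) z = z := fun x => by
    rw [hH, mem_fixingSubgroup_iff]; simp [Perm.sub_smul]
  have hgH : (⟨g, hg⟩ : G) ∈ H := (hmH _).2 fun z hz => hz
  have hord : orderOf g = p := by rw [hgc.orderOf, hgp]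
  have hcard : Nat.card H ∣ p.factorial := by
    have hf : FaithfulSMul H (SubMulAction.ofFixingSubgroup G ((g.support : Set α)ᶜ)) := ⟨fun {a b} e => by
      apply Subtype.ext; apply Subtype.ext; ext x
      by_cases hx : g x = x
      · rw [(hmH _).1 a.2 x hx, (hmH _).1 b.2 x hx]
      · exact congrArg Subtype.val (e ⟨x, by simpa [SubMulAction.mem_ofFixingSubgroup_iff] using hx⟩)⟩
    have h3 := Subgroup.card_dvd_of_injective
      (toPermHom H (SubMulAction.ofFixingSubgroup G ((g.support : Set α)ᶜ))) toPerm_injective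
    rw [Nat.card_perm] at h3
    convert! h3
    rw [Nat.card_eq_fintype_card, Fintype.card_subtype, ← hgp]
    apply congr_arg
    ext x
    simp [SubMulAction.mem_ofFixingSubgroup_iff]
  have hsyl : ∀ x : H, orderOf x = p → ∃ P : Sylow p H, (P : Subgroup H) = Subgroup.zpowers x := by
    intro x hx
    obtain ⟨P, hP⟩ := (IsPGroup.of_card (p := p) (n := 1) (G := Subgroup.zpowers x) (by
      rw [Nat.card_zpowers, hx, pow_one])).exists_le_sylow
    refine ⟨P, (Subgroup.eq_of_le_of_card_ge hP ?_).symm⟩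
    obtain ⟨k, hk⟩ := P.isPGroup'.exists_card_eq
    have h3 := (hk ▸ (P : Subgroup H).card_subgroup_dvd_card).trans hcard
    rw [hk, Nat.card_zpowers, hx]
    have : k ≤ 1 := by
      by_contra h
      have h4 : p * p ∣ p * (p - 1).factorial := by
        rw [Nat.mul_factorial_pred hp.ne_zero, ← sq]
        exact (pow_dvd_pow p (by omega)).trans h3
      have := (hp.dvd_factorial).1 (Nat.dvd_of_mul_dvd_mul_left hp.pos h4)
      omega
    simpa using Nat.pow_le_pow_right hp.pos this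
  have hnorm : ∀ σ : Perm α, (∀ z, g z ≠ z → σ z = z) → ∃ t : G, (∀ z, g z = z → (t : Perm α) z = σ z) ∧
      ∃ i : ℕ, (t : Perm α) * g * (t : Perm α)⁻¹ = g ^ i := by
    intro σ hσ
    obtain ⟨t, ht⟩ := mt_perm hmt (by omega) g.supportᶜ (by rw [Finset.card_compl, hgp]; omega) σ
    have ht' : ∀ z, g z = z → (t : Perm α) z = σ z := fun z hz => ht z (by simpa using hz)
    have hσ' : ∀ z, g z = z → g (σ⁻¹ z) = σ⁻¹ z := by
      intro z hz
      by_contra h
      have := hσ _ h
      rw [ais] at this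
      exact h (this ▸ hz)
    have h1 : t * ⟨g, hg⟩ * t⁻¹ ∈ H := (hmH _).2 fun z hz => by
      have h3 := ht' _ (hσ' z hz)
      rw [ais, ← Perm.eq_inv_iff_eq] at h3
      simp only [Subgroup.coe_mul, Subgroup.coe_inv, Perm.mul_apply]
      rw [← h3, hσ' z hz, h3, ais]
    obtain ⟨P, hP⟩ := hsyl ⟨_, hgH⟩ (by simpa using hord)
    obtain ⟨Q, hQ⟩ := hsyl ⟨_, h1⟩ (by
      rw [Subgroup.orderOf_mk, ← MulAut.conj_apply, MulEquiv.orderOf_eq, Subgroup.orderOf_mk, hord])
    obtain ⟨k, hk⟩ := exists_smul_eq H Q P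
    have h4 : k * ⟨_, h1⟩ * k⁻¹ ∈ (P : Subgroup H) := by
      rw [← hk]
      exact ⟨⟨_, h1⟩, by rw [hQ]; exact Subgroup.mem_zpowers _, rfl⟩
    rw [hP, ← mem_powers_iff_mem_zpowers] at h4
    obtain ⟨i, hi⟩ := h4
    refine ⟨k * t, fun z hz => ?_, i, ?_⟩
    · rw [Subgroup.coe_mul, Perm.mul_apply, ht' z hz, (hmH _).1 k.2]
      have := hσ' (σ z)
      by_contra h
      have h5 := σ.injective (hσ _ h)
      exact h (h5.symm ▸ hz)
    · have := congrArg (fun x : H => ((x : G) : Perm α)) hi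
      simp only [Subgroup.coe_pow, Subgroup.coe_mul, Subgroup.coe_inv] at this
      rw [this, Subgroup.coe_mul]; group
  obtain ⟨a, b, c, ha, hb, hc', hab, hac, hbc⟩ := Finset.two_lt_card_iff.1
    (show 2 < g.supportᶜ.card by rw [Finset.card_compl, hgp]; omega)
  simp only [Finset.mem_compl, Perm.notMem_support] at ha hb hc'
  have hsw : ∀ x y, g x = x → g y = y → ∀ z, g z ≠ z → swap x y z = z := fun x y hx hy z hz =>
    swap_apply_of_ne_of_ne (by rintro rfl; exact hz hx) (by rintro rfl; exact hz hy)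
  have hsw2 : ∀ x y, g x = x → g y = y → ∀ z, g z = z → g (swap x y z) = swap x y z := fun x y hx hy z hz => by
    rw [swap_apply_def]; split_ifs <;> assumption
  obtain ⟨s, hs, i, hi⟩ := hnorm _ (hsw a b ha hb)
  obtain ⟨t, ht, j, hj⟩ := hnorm _ (hsw a c ha hc')
  have h1 : Commute ((t * s)⁻¹ * (s * t) : G).1 g := by
    have e1 : (s * t : G).1 * g * (s * t : G).1⁻¹ = g ^ (i * j) := by
      rw [pow_mul, ← hi, conj_pow, ← hj, Subgroup.coe_mul]; group
    have e2 : (t * s : G).1 * g * (t * s : G).1⁻¹ = g ^ (i * j) := by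
      rw [mul_comm i, pow_mul, ← hj, conj_pow, ← hi, Subgroup.coe_mul]; group
    rw [← e2] at e1
    show _ * _ = _ * _
    rw [Subgroup.coe_mul, Subgroup.coe_inv]
    generalize (s * t : G).1 = u at *
    generalize (t * s : G).1 = v at *
    rw [mul_inv_eq_iff_eq_mul] at e1
    rw [mul_assoc, e1]; group
  have h3 : ∀ z, g z = z → ((t * s)⁻¹ * (s * t) : G).1 z = (swap a c * swap a b) z := by
    intro z hz
    simp only [Subgroup.coe_mul, Subgroup.coe_inv, Perm.mul_apply, Perm.inv_eq_iff_eq]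
    rw [ht z hz, hs _ (hsw2 a c ha hc' z hz), hs _ (hsw2 a c ha hc' _ (hsw2 a b ha hb z hz)),
      ht _ (hsw2 a b ha hb _ (hsw2 a c ha hc' _ (hsw2 a b ha hb z hz)))]
    simp only [swap_apply_def]
    grind
  generalize ((t * s)⁻¹ * (s * t) : G) = u at h1 h3
  obtain ⟨x, hx, hx2⟩ := hgc
  have h4 : g (u.1 x) ≠ u.1 x := by
    rw [← Perm.mul_apply, ← h1.eq, Perm.mul_apply]
    exact fun e => hx (u.1.injective e)
  obtain ⟨m, hm⟩ := hx2 h4
  refine Perm.alternatingGroup_le_of_isPreprimitive_of_isThreeCycle_mem hG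
    (Perm.isThreeCycle_swap_mul_swap_same hac hab hbc.symm) ?_
  convert G.mul_mem (G.inv_mem (G.zpow_mem hg m)) u.2 using 1
  ext z
  rw [Perm.mul_apply (g ^ m)⁻¹, Perm.eq_inv_iff_eq]
  by_cases hz : g z = z
  · rw [h3 z hz]
    exact Perm.zpow_apply_eq_self_of_apply_eq_self (hsw2 a c ha hc' _ (hsw2 a b ha hb z hz)) m
  · rw [Perm.mul_apply, hsw a b ha hb z hz, hsw a c ha hc' z hz]
    obtain ⟨l, rfl⟩ := hx2 hz
    rw [← Perm.mul_apply u.1, (h1.zpow_right l).eq, Perm.mul_apply, ← hm, ← Perm.mul_apply, ← Perm.mul_apply,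
      zpow_mul_comm]

end Cfsg.Agent.S0713
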