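import Cfsg.Statements.S0095
import Cfsg.Agent.Lib.Transfer.PG

set_option autoImplicit false
open Cfsg

namespace Cfsg.Agent.S0095

set_option linter.unusedSectionVars false
set_option linter.unusedVariables false
set_option linter.style.haveILetI false
set_option linter.unusedSimpArgs false

open Subgroup Transfer MS

/-- The order of an extraspecial p-group is an odd power p^(2n+1) of p with n ≥ 1. -/
theorem result {P : Type*} [Group P] [Finite P] {p : ℕ} [Fact p.Prime] (h : Cfsg.IsExtraspecial p P) : ∃ n : ℕ, 1 ≤ n ∧ Nat.card P = p ^ (2 * n + 1) := by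
  obtain ⟨z, hz⟩ := ES.of_extraspecial h
  obtain ⟨n, hn⟩ := card_eq_center_mul hz.card_z ⊤ (zpowers_le.2 hz.mem.2) hz.der
  rw [hz.cen, hz.card_z, card_top] at hn
  refine ⟨n, Nat.pos_of_ne_zero ?_, by rw [hn]; ring⟩
  rintro rfl
  have h1 := hz.eq_of_card (by simpa using hn)
  have h2 : commutator P = ⊥ := ab_iff_der.1 (h1 ▸ ab_of_cyc (cyc_zpowers z))
  have := h.2
  rw [← h.1.2.2, h2, card_bot] at this
  exact (Fact.out : p.Prime).one_lt.ne this

end Cfsg.Agent.S0095
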