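import Cfsg.Statements.S0099
import Cfsg.Agent.Lib.Transfer.PG

set_option autoImplicit false
open Cfsg

namespace Cfsg.Agent.S0099

set_option linter.unusedSectionVars false
set_option linter.unusedVariables false
set_option linter.style.haveILetI false
set_option linter.unusedSimpArgs false

open Subgroup Transfer MS

/-- Among three extraspecial 2-groups of equal order, some two are isomorphic. -/
theorem result {E₁ : Type*} {E₂ : Type*} {E₃ : Type*} [Group E₁] [Group E₂] [Group E₃] [Finite E₁] [Finite E₂] [Finite E₃] (h₁ : Cfsg.IsExtraspecial 2 E₁) (h₂ : Cfsg.IsExtraspecial 2 E₂) (h₃ : Cfsg.IsExtraspecial 2 E₃) (h12 : Nat.card E₁ = Nat.card E₂) (h23 : Nat.card E₂ = Nat.card E₃) : Nonempty (E₁ ≃* E₂) ∨ Nonempty (E₂ ≃* E₃) ∨ Nonempty (E₁ ≃* E₃) := by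
  obtain ⟨z, hz⟩ := ES.of_extraspecial h₁
  obtain ⟨z', hz'⟩ := ES.of_extraspecial h₂
  obtain ⟨z'', hz''⟩ := ES.of_extraspecial h₃
  exact (ES.two_of_three _ hz hz' hz'' rfl (by simp [h12]) (by simp [h12, h23])).imp ESIso.top
    (Or.imp ESIso.top ESIso.top)

end Cfsg.Agent.S0099
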