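import Cfsg.Statements.S5396
import Cfsg.Agent.Lib.Classical.F2
import Cfsg.Agent.Lib.Classical.Spinor
import Cfsg.Agent.Lib.Solv.Frattini

set_option autoImplicit false
open Cfsg

namespace Cfsg.Agent.S5396

set_option linter.unusedSectionVars false
set_option linter.unusedVariables false
set_option linter.style.haveILetI false
set_option linter.unusedSimpArgs false

open Cfsg.Agent.Classical Module Subgroup
@[ext] structure ExG {V : Type} [AddCommGroup V] [Module (ZMod 2) V] (β : V →ₗ[ZMod 2] V →ₗ[ZMod 2] ZMod 2) where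
  v : V
  a : ZMod 2

section
variable {V : Type} [AddCommGroup V] [Module (ZMod 2) V] {β : V →ₗ[ZMod 2] V →ₗ[ZMod 2] ZMod 2}
instance : Mul (ExG β) := ⟨fun x y => ⟨x.v + y.v, x.a + y.a + β x.v y.v⟩⟩
instance : One (ExG β) := ⟨⟨0, 0⟩⟩
instance : Inv (ExG β) := ⟨fun x => ⟨-x.v, -x.a + β x.v x.v⟩⟩
@[simp] theorem mul_v (x y : ExG β) : (x * y).v = x.v + y.v := rfl
@[simp] theorem mul_a (x y : ExG β) : (x * y).a = x.a + y.a + β x.v y.v := rfl
@[simp] theorem one_v : (1 : ExG β).v = 0 := rfl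
@[simp] theorem one_a : (1 : ExG β).a = 0 := rfl
@[simp] theorem inv_v (x : ExG β) : (x⁻¹).v = -x.v := rfl
@[simp] theorem inv_a (x : ExG β) : (x⁻¹).a = -x.a + β x.v x.v := rfl
instance : Group (ExG β) := Group.ofLeftAxioms
  (fun x y z => by ext <;> simp [add_assoc]; ring) (fun x => by ext <;> simp)
  (fun x => by
    ext
    · simp
    · rw [mul_a, inv_a, inv_v, map_neg, LinearMap.neg_apply, one_a]; ring)
def eqv : ExG β ≃ V × ZMod 2 := ⟨fun x => (x.v, x.a), fun x => ⟨x.1, x.2⟩, fun _ => rfl, fun _ => rfl⟩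
def pr : ExG β →* Multiplicative V := MonoidHom.mk' (fun x => Multiplicative.ofAdd x.v) fun _ _ => rfl

theorem main [Finite V] {Φ : Form (Kind.orth (ZMod 2)) V} (hΦ : Φ.Nondeg) {n m : ℕ} (hn : 1 ≤ n)
    (hV : finrank (ZMod 2) V = 2 * n) (h1 : ∃ W, Φ.TS W ∧ finrank (ZMod 2) W = m)
    (h2 : ∀ W, Φ.TS W → finrank (ZMod 2) W ≤ m) :
    ∃ (E : Type) (_ : Group E) (_ : Finite E), Cfsg.IsExtraspecial 2 E ∧ Nat.card E = 2 ^ (2 * n + 1) ∧
      sSup {k : ℕ | ∃ A : Subgroup E, Cfsg.IsElementaryAbelian 2 A ∧ Nat.card A = 2 ^ k} = m + 1 := by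
  obtain ⟨β, hβ⟩ := LinearMap.BilinMap.toQuadraticMap_surjective Φ.toQuad
  have b1 : ∀ v, β v v = Φ.N v := fun v => DFunLike.congr_fun hβ v
  have b2 : ∀ u v, β u v + β v u = Φ.B u v := fun u v => by
    have := Φ.orth_N_add u v
    simp only [← b1, map_add, LinearMap.add_apply] at this
    linear_combination this
  have t2 : ∀ a : ZMod 2, a + a = 0 := by decide
  have v2 : ∀ v : V, v + v = 0 := fun v => by rw [← one_smul (ZMod 2) v, ← add_smul, t2, zero_smul]
  have cm : ∀ x y : ExG β, x * y = y * x ↔ Φ.B x.v y.v = 0 := fun x y => by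
    rw [← b2, ExG.ext_iff, mul_v, mul_v, mul_a, mul_a, add_comm x.a, add_right_inj]
    exact ⟨fun h => by rw [h.2, t2], fun h => ⟨add_comm _ _, by linear_combination h - t2 (β y.v x.v)⟩⟩
  have sq : ∀ x : ExG β, x ^ 2 = ⟨0, Φ.N x.v⟩ := fun x => by
    rw [pow_two]; ext <;> simp [t2, v2, b1]
  have cen : center (ExG β) = pr.ker := by
    ext x
    rw [mem_center_iff, MonoidHom.mem_ker]
    simp only [cm]
    exact ⟨fun h => hΦ _ fun u => h ⟨u, 0⟩, fun h g => by rw [show x.v = 0 from h, map_zero]⟩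
  haveI : Finite (ExG β) := Finite.of_equiv _ eqv.symm
  have c1 : Nat.card (ExG β) = 2 ^ (2 * n + 1) := by
    rw [Nat.card_congr eqv, Nat.card_prod, Module.natCard_eq_pow_finrank (K := ZMod 2), hV]; simp [pow_succ]
  have c2 : Nat.card (pr (β := β)).ker = 2 := by
    rw [Nat.card_congr (⟨fun x => x.1.a, fun a => ⟨⟨0, a⟩, rfl⟩, fun x => Subtype.ext (ExG.ext x.2.symm rfl),
      fun _ => rfl⟩ : (pr (β := β)).ker ≃ ZMod 2)]; simp
  have p := IsPGroup.of_card c1
  have d1 : commutator (ExG β) = pr.ker := by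
    refine le_antisymm (commutator_le_ker' _) fun x hx => ?_
    have : Nontrivial V := Module.nontrivial_of_finrank_pos (R := ZMod 2) (by omega)
    obtain ⟨v, hv⟩ := exists_ne (0 : V)
    obtain ⟨u, hu⟩ := hΦ.exists_ne hv
    have hc := commutator_mem_commutator (mem_top (⟨u, 0⟩ : ExG β)) (mem_top ⟨v, 0⟩)
    have h3 := commutator_le_ker' pr hc
    have h4 := mt (fun h => (cm ⟨u, 0⟩ ⟨v, 0⟩).1 (commutatorElement_eq_one_iff_mul_comm.1 h)) hu
    obtain ⟨y, -, hy⟩ := (Nat.card_eq_two_iff' (1 : (pr (β := β)).ker)).1 c2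
    by_cases e : x = 1
    · exact e ▸ one_mem _
    · have := (hy ⟨x, hx⟩ fun h => e (congrArg Subtype.val h)).trans
        (hy ⟨_, h3⟩ fun h => h4 (congrArg Subtype.val h)).symm
      exact (show _ = x from (congrArg Subtype.val this).symm) ▸ hc
  refine ⟨ExG β, inferInstance, inferInstance, ⟨⟨p, ?_, d1.trans cen.symm⟩, cen ▸ c2⟩, c1, ?_⟩
  · rw [cen]
    exact le_antisymm (Solv.frattini_le_of_commutator_le_of_pow_mem (p := 2) d1.le fun x => by rw [sq]; rfl)
      (d1 ▸ Solv.commutator_le_frattini_of_isPGroup p)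
  refine IsGreatest.csSup_eq ⟨?_, ?_⟩
  · obtain ⟨W, hW, e⟩ := h1
    refine ⟨W.toAddSubgroup.toSubgroup.comap pr, ⟨⟨⟨fun x y => Subtype.ext ((cm _ _).2 (hW.2 _ x.2 _ y.2))⟩⟩,
      fun x hx => by rw [sq, hW.1 x.v hx]; rfl⟩, ?_⟩
    rw [Nat.card_congr (⟨fun x => (⟨x.1.v, x.2⟩, x.1.a), fun x => ⟨⟨x.1.1, x.2⟩, x.1.2⟩, fun _ => rfl,
      fun _ => rfl⟩ : (W.toAddSubgroup.toSubgroup.comap (pr (β := β))) ≃ W × ZMod 2), Nat.card_prod,
      Module.natCard_eq_pow_finrank (K := ZMod 2), e]; simp [pow_succ]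
  · rintro k ⟨A, ⟨hA, hA'⟩, e⟩
    let W : Submodule (ZMod 2) V := AddSubgroup.toZModSubmodule 2 (A.map pr).toAddSubgroup'
    have h3 := h2 W (Form.TS_orth (by
      rintro _ ⟨x, hx, rfl⟩
      have := hA' x hx
      rw [sq] at this
      exact congrArg ExG.a this))
    have h4 := Nat.card_le_card_of_injective (fun x : A => ((⟨x.1.v, x.1, x.2, rfl⟩, x.1.a) : W × ZMod 2))
      fun x y h => Subtype.ext (ExG.ext (congrArg (fun t => t.1.1) h) (congrArg Prod.snd h))
    rw [e, Nat.card_prod, Module.natCard_eq_pow_finrank (K := ZMod 2), Nat.card_zmod, ← pow_succ] at h4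
    have := (Nat.pow_le_pow_iff_right (by norm_num)).1 h4
    omega
end

/-- For every n ≥ 1 there exist finite extraspecial 2-groups of order 2^(2n+1) whose 2-rank (the largest rank of an elementary abelian subgroup) is n, and ones whose 2-rank is n + 1 (so for each such order there are two non-isomorphic extraspecial 2-groups, told apart by their 2-rank). -/
theorem result (n : ℕ) (hn : 1 ≤ n) : ∀ r ∈ ({n, n + 1} : Set ℕ), ∃ (E : Type) (_ : Group E) (_ : Finite E), Cfsg.IsExtraspecial 2 E ∧ Nat.card E = 2 ^ (2 * n + 1) ∧ sSup {k : ℕ | ∃ A : Subgroup E, Cfsg.IsElementaryAbelian 2 A ∧ Nat.card A = 2 ^ k} = r := by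
  rintro r (rfl | rfl)
  · obtain ⟨m, rfl⟩ : ∃ m, r = m + 1 := ⟨r - 1, by omega⟩
    have hΦ := minusForm_nondeg m F2.aniso11
    have hV : finrank (ZMod 2) ((Fin m ⊕ Fin m) ⊕ Fin 2 → ZMod 2) = 2 * (m + 1) := by simp; ring
    refine main hΦ hn hV ?_ fun W hW => ?_
    · let f : (Fin m → ZMod 2) →ₗ[ZMod 2] ((Fin m ⊕ Fin m) ⊕ Fin 2 → ZMod 2) :=
        LinearMap.pi (Sum.elim (Sum.elim (fun j => LinearMap.proj j) fun _ => 0) fun _ => 0)
      refine ⟨LinearMap.range f, Form.TS_orth ?_, by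
        rw [LinearMap.finrank_range_of_inj fun x y h => funext fun j => congrFun h (.inl (.inl j))]; simp⟩
      rintro _ ⟨x, rfl⟩
      simp [minusForm_N, quadFormMinus, f]
    · have := hW.two_finrank_le hΦ
      by_contra h
      have := ((isType_one_iff hΦ hV).2 ⟨W, by omega, hW⟩).unique (minusForm_isType m F2.aniso11)
      omega
  · have hΦ := plusForm_nondeg (F := ZMod 2) n
    have hV : finrank (ZMod 2) (Fin n ⊕ Fin n → ZMod 2) = 2 * n := by simp; ring
    exact main hΦ hn hV ⟨_, plusTS_TS n, finrank_plusTS n⟩ fun W hW => by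
      have := hW.two_finrank_le hΦ; omega

end Cfsg.Agent.S5396
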