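import Cfsg.Statements.S3763
import Cfsg.Agent.S0099
import Cfsg.Agent.S5396
import Cfsg.Agent.S0095

set_option autoImplicit false
open Cfsg

namespace Cfsg.Agent.S3763
section
open Pointwise commutatorElement Subgroup
theorem le_iff {E : Type*} [Group E] [Finite E] (k : ℕ) : PRankLE 2 k E ↔
    sSup {k : ℕ | ∃ A : Subgroup E, Cfsg.IsElementaryAbelian 2 A ∧ Nat.card A = 2 ^ k} ≤ k := by
  constructor
  · intro h
    refine csSup_le' ?_
    rintro j ⟨A, hA, e⟩
    exact (Nat.pow_le_pow_iff_right (by norm_num)).1 (e ▸ h A hA.1 hA.2)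
  · intro h A h1 h2
    obtain ⟨j, hj⟩ := IsPGroup.iff_card.1 (show IsPGroup 2 A from fun g => ⟨1, Subtype.ext (by simpa using h2 g g.2)⟩)
    rw [hj]
    refine Nat.pow_le_pow_right (by norm_num) (le_trans (le_csSup ⟨Nat.card E, ?_⟩ (by exact ⟨A, ⟨h1, h2⟩, hj⟩)) h)
    rintro i ⟨B, -, e⟩
    exact (Nat.lt_two_pow_self.le.trans e.ge).trans (Subgroup.card_le_card_group B)

theorem of_equiv {E E' : Type*} [Group E] [Group E'] (e : E ≃* E') {k : ℕ} (h : PRankLE 2 k E') : PRankLE 2 k E := by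
  intro A h1 h2
  rw [← Subgroup.card_map_of_injective (f := e.toMonoidHom) e.injective]
  refine h _ inferInstance ?_
  rintro _ ⟨a, ha, rfl⟩
  rw [← map_pow, h2 a ha, map_one]

theorem congr {E E' : Type*} [Group E] [Group E'] (e : E ≃* E') (k : ℕ) : PRankLE 2 k E ↔ PRankLE 2 k E' :=
  ⟨of_equiv e.symm, of_equiv e⟩
end

/-- Let E be an extraspecial 2-group of order 2^(2n+1). Then the largest elementary abelian subgroups of E have order 2^n or 2^(n+1); and two extraspecial 2-groups of the same order whose largest elementary abelian subgroups have the same order are isomorphic. -/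
theorem result {E : Type*} [Group E] [Finite E] (hE : Cfsg.IsExtraspecial 2 E) (n : ℕ) (hn : Nat.card E = 2 ^ (2 * n + 1)) : ((Cfsg.PRankLE 2 n E ∧ ¬ Cfsg.PRankLE 2 (n - 1) E) ∨ (Cfsg.PRankLE 2 (n + 1) E ∧ ¬ Cfsg.PRankLE 2 n E)) ∧ ∀ (E' : Type*) [Group E'] [Finite E'], Cfsg.IsExtraspecial 2 E' → Nat.card E' = Nat.card E → (∀ k : ℕ, Cfsg.PRankLE 2 k E ↔ Cfsg.PRankLE 2 k E') → Nonempty (E ≃* E') := by
  open Pointwise commutatorElement Subgroup in
  obtain ⟨m, hm, e⟩ := S0095.result hE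
  obtain rfl : m = n := by
    have := Nat.pow_right_injective (le_refl 2) (e.symm.trans hn)
    omega
  obtain ⟨A, _, _, a1, a2, a3⟩ := S5396.result m hm m (Or.inl rfl)
  obtain ⟨B, _, _, b1, b2, b3⟩ := S5396.result m hm (m + 1) (Or.inr rfl)
  have a4 : ∀ k, PRankLE 2 k A ↔ m ≤ k := fun k => by rw [le_iff, a3]
  have b4 : ∀ k, PRankLE 2 k B ↔ m + 1 ≤ k := fun k => by rw [le_iff, b3]
  have ab : ¬ Nonempty (A ≃* B) := fun ⟨f⟩ => by
    have := congr f m
    rw [a4, b4] at this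
    omega
  refine ⟨?_, fun E' _ _ h1 h2 h3 => ?_⟩
  · rcases S0099.result hE a1 b1 (hn.trans a2.symm) (a2.trans b2.symm) with ⟨⟨f⟩⟩ | h | ⟨⟨f⟩⟩
    · left
      rw [congr f, congr f, a4, a4]
      omega
    · exact absurd h ab
    · right
      rw [congr f, congr f, b4, b4]
      omega
  · rcases S0099.result hE a1 b1 (hn.trans a2.symm) (a2.trans b2.symm) with ⟨⟨f⟩⟩ | h | ⟨⟨f⟩⟩ <;>
      rcases S0099.result h1 a1 b1 (h2.trans (hn.trans a2.symm)) (a2.trans b2.symm) with ⟨⟨g⟩⟩ | h' | ⟨⟨g⟩⟩ <;>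
      first
      | exact absurd h ab
      | exact absurd h' ab
      | exact ⟨f.trans g.symm⟩
      | (have := h3 m
         rw [congr f, congr g, a4, b4] at this
         omega)

end Cfsg.Agent.S3763
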