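import Cfsg.Statements.S5395


set_option autoImplicit false
open Cfsg

namespace Cfsg.Agent.S5395

set_option linter.unusedSectionVars false
set_option linter.unusedVariables false
set_option linter.style.haveILetI false
set_option linter.unusedSimpArgs false

/-- For a finite extraspecial 2-group E, an automorphism of E that induces the identity on E modulo its centre is inner (so these automorphisms form exactly the inner automorphism group, an elementary abelian 2-group of order |E|/2). -/
theorem result {E : Type*} [Group E] [Finite E] (hE : Cfsg.IsExtraspecial 2 E) (φ : E ≃* E) (hφ : ∀ x : E, φ x * x⁻¹ ∈ Subgroup.center E) : ∃ g : E, ∀ x : E, φ x = g * x * g⁻¹ := by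
  classical
  obtain ⟨⟨-, -, hc⟩, h2⟩ := hE
  have hz : ∀ a ∈ Subgroup.center E, ∀ b ∈ Subgroup.center E, a ≠ 1 → b ≠ 1 → a * b = 1 := fun a ha b hb a1 b1 => by
    obtain ⟨y, -, hy⟩ := (Nat.card_eq_two_iff' (1 : Subgroup.center E)).1 h2
    have e1 := hy ⟨a, ha⟩ (fun e => a1 (congrArg Subtype.val e))
    have e2 := hy ⟨b⁻¹, inv_mem hb⟩ (fun e => b1 (inv_eq_one.1 (congrArg Subtype.val e)))
    rw [show a = b⁻¹ from congrArg Subtype.val (e1.trans e2.symm), inv_mul_cancel]
  let s : E → ℂˣ := fun t => if t = 1 then 1 else -1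
  have hs : ∀ a ∈ Subgroup.center E, ∀ b ∈ Subgroup.center E, s (a * b) = s a * s b := fun a ha b hb => by
    by_cases a1 : a = 1
    · simp [s, a1]
    by_cases b1 : b = 1
    · simp [s, b1]
    simp [s, a1, b1, hz a ha b hb a1 b1]
  have si : ∀ a ∈ Subgroup.center E, ∀ b ∈ Subgroup.center E, s a = s b → a = b := fun a ha b hb h => by
    have n1 : (1 : ℂˣ) ≠ -1 := fun e => by have := congrArg Units.val e; norm_num at this
    by_cases a1 : a = 1 <;> by_cases b1 : b = 1
    · rw [a1, b1]
    · simp [s, a1, b1, n1] at h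
    · simp [s, a1, b1, n1.symm] at h
    · exact mul_left_cancel ((hz a ha a ha a1 a1).trans (hz a ha b hb a1 b1).symm)
  let χ : ∀ ψ : E ≃* E, (∀ x : E, ψ x * x⁻¹ ∈ Subgroup.center E) → (E →* ℂˣ) := fun ψ h =>
    MonoidHom.mk' (fun x => s (ψ x * x⁻¹)) fun a b => by
      rw [← hs _ (h a) _ (h b), map_mul, mul_inv_rev]
      congr 1
      calc ψ a * ψ b * (b⁻¹ * a⁻¹) = ψ a * (ψ b * b⁻¹ * a⁻¹) := by group
        _ = _ := by rw [← Subgroup.mem_center_iff.1 (h b)]; group
  have hi : ∀ g x : E, MulAut.conj g x * x⁻¹ ∈ Subgroup.center E := fun g x =>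
    hc ▸ Subgroup.commutator_mem_commutator (Subgroup.mem_top g) (Subgroup.mem_top x)
  let f : Abelianization E → (Abelianization E →* ℂˣ) := fun q => Abelianization.lift (χ _ (hi q.out))
  have fi : Function.Injective f := fun a b h => by
    have h1 := Abelianization.lift.injective h
    rw [← a.out_eq, ← b.out_eq]
    refine QuotientGroup.eq.2 (hc.ge (Subgroup.mem_center_iff.2 fun x => ?_))
    have h3 := mul_right_cancel (si _ (hi _ x) _ (hi _ x) (DFunLike.congr_fun h1 x))
    simp only [MulAut.conj_apply] at h3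
    calc x * (a.out⁻¹ * b.out) = a.out⁻¹ * (a.out * x * a.out⁻¹) * b.out := by group
      _ = _ := by rw [h3]; group
  haveI : NeZero (Monoid.exponent (Abelianization E) : ℂ) := ⟨by exact_mod_cast Monoid.exponent_ne_zero_of_finite⟩
  have fs := ((Nat.bijective_iff_injective_and_card f).2
    ⟨fi, (CommGroup.card_monoidHom_of_hasEnoughRootsOfUnity _ ℂ).symm⟩).2
  obtain ⟨q, hq⟩ := fs (Abelianization.lift (χ φ hφ))
  exact ⟨q.out, fun x => (mul_right_cancel (si _ (hi _ x) _ (hφ x)
    (DFunLike.congr_fun (Abelianization.lift.injective hq) x))).symm⟩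

end Cfsg.Agent.S5395
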