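import Cfsg.Statements.S1546
import Mathlib.Algebra.BigOperators.ModEq

set_option autoImplicit false
open Cfsg

namespace Cfsg.Agent.S1546

/-- Let p and q be odd primes and N = (p ^ q − 1) / (p − 1) = 1 + p + ⋯ + p^(q−1). Then N is odd; if p ≡ 1 (mod q) then q ∣ N; and if p is not ≡ 1 (mod q) then N is coprime to p − 1 and every divisor of N is ≡ 1 (mod q). -/
theorem result (p q : ℕ) (hp : p.Prime) (hq : q.Prime) (hp2 : p ≠ 2) (hq2 : q ≠ 2) : Odd ((p ^ q - 1) / (p - 1)) ∧ (p % q = 1 → q ∣ (p ^ q - 1) / (p - 1)) ∧ (p % q ≠ 1 → Nat.Coprime ((p ^ q - 1) / (p - 1)) (p - 1) ∧ ∀ x : ℕ, x ∣ (p ^ q - 1) / (p - 1) → x % q = 1) := by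
  have g : (p ^ q - 1) / (p - 1) = ∑ i ∈ Finset.range q, p ^ i := (Nat.geomSum_eq hp.two_le q).symm
  have m : (p ^ q - 1) / (p - 1) * (p - 1) = p ^ q - 1 :=
    Nat.div_mul_cancel (by simpa using Nat.sub_dvd_pow_sub_pow p 1 q)
  have key : ∀ r : ℕ, p ≡ 1 [MOD r] → (p ^ q - 1) / (p - 1) ≡ q [MOD r] := fun r hr => by
    rw [g]
    simpa using Nat.ModEq.sum (s := Finset.range q) fun i _ => hr.pow i
  have cop : p % q ≠ 1 → ∀ r : ℕ, r.Prime → r ∣ (p ^ q - 1) / (p - 1) → ¬ r ∣ p - 1 := fun h r hr r1 r2 => by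
    have e := (Nat.modEq_iff_dvd' hp.one_le).2 r2
    obtain rfl := (Nat.prime_dvd_prime_iff_eq hr hq).1 (((key r e.symm).dvd_iff dvd_rfl).1 r1)
    exact h (by rw [← e, Nat.mod_eq_of_lt hr.one_lt])
  refine ⟨?_, fun h => ((key q ?_).dvd_iff dvd_rfl).2 dvd_rfl, fun h => ⟨?_, fun x hx => ?_⟩⟩
  · rw [Nat.odd_iff, key 2 (Nat.odd_iff.1 (hp.odd_of_ne_two hp2))]
    exact Nat.odd_iff.1 (hq.odd_of_ne_two hq2)
  · rw [Nat.ModEq, h, Nat.mod_eq_of_lt hq.one_lt]
  · exact Nat.coprime_of_dvd fun r hr r1 => cop h r hr r1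
  · induction x using Nat.recOnMul with
    | zero =>
      have := Nat.one_lt_pow hq.ne_zero hp.one_lt
      rw [zero_dvd_iff.1 hx] at m
      omega
    | one => exact Nat.mod_eq_of_lt hq.one_lt
    | prime r hr =>
      have := Fact.mk hr
      have e : (p : ZMod r) ^ q = 1 := by
        have := (ZMod.natCast_eq_natCast_iff _ _ _).2 ((Nat.modEq_iff_dvd' (Nat.one_le_pow q p hp.pos)).2
          (m ▸ hx.mul_right _))
        exact_mod_cast this.symm
      have n1 : (p : ZMod r) ≠ 1 := fun e => cop h r hr hx ((Nat.modEq_iff_dvd' hp.one_le).1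
        ((ZMod.natCast_eq_natCast_iff _ _ _).1 (by rw [e, Nat.cast_one])))
      have := Fact.mk hq
      have d := ZMod.orderOf_dvd_card_sub_one (a := (p : ZMod r)) (fun e' => by
        rw [e', zero_pow hq.ne_zero] at e; exact zero_ne_one e)
      rw [orderOf_eq_prime e n1] at d
      rw [← (Nat.modEq_iff_dvd' hr.one_le).2 d, Nat.mod_eq_of_lt hq.one_lt]
    | mul a b ha hb =>
      rw [Nat.mul_mod, ha (dvd_of_mul_right_dvd hx), hb (dvd_of_mul_left_dvd hx), mul_one,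
        Nat.mod_eq_of_lt hq.one_lt]

end Cfsg.Agent.S1546
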