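import Cfsg.Statements.S3736
import Cfsg.Agent.Lib.BG.Sec1

set_option autoImplicit false
open Cfsg

namespace Cfsg.Agent.S3736

/-- The Hall–Higman reduction for a minimal non-trivial action. Let B, A and P be subgroups of a finite group with P a p-group, B normalizing P, and A a normal subgroup of B of order prime to p. Suppose A does not centralize P but centralizes every proper B-invariant subgroup of P. Then [P, A] = P; P is elementary abelian or special; B acts irreducibly on P/Φ(P), that is, the only B-invariant subgroups of P containing Φ(P) are Φ(P) and P; and if p is odd then every element of P has order dividing p. -/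
theorem result {X : Type*} [Group X] [Finite X] {p : ℕ} [Fact p.Prime] (B A P : Subgroup X) (hP : IsPGroup p P) (hBP : B ≤ Subgroup.normalizer (P : Set X)) (hAB : A ≤ B) (hAn : B ≤ Subgroup.normalizer (A : Set X)) (hAp : (Nat.card A).Coprime p) (hnt : ⁅P, A⁆ ≠ ⊥) (hmin : ∀ U : Subgroup X, U < P → B ≤ Subgroup.normalizer (U : Set X) → ⁅U, A⁆ = ⊥) : ⁅P, A⁆ = P ∧ (Cfsg.IsElementaryAbelian p P ∨ Cfsg.IsSpecial p ↥P) ∧ (∀ U : Subgroup X, (frattini ↥P).map P.subtype ≤ U → U ≤ P → B ≤ Subgroup.normalizer (U : Set X) → U = (frattini ↥P).map P.subtype ∨ U = P) ∧ (p ≠ 2 → ∀ x ∈ P, x ^ p = 1) := by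
  open Pointwise commutatorElement Subgroup in
  open Cfsg.Agent.Comp in
  have hc : (Nat.card A).Coprime (Nat.card P) := by obtain ⟨n, hn⟩ := hP.exists_card_eq; rw [hn]; exact hAp.pow_right n
  have hAP := hAB.trans hBP
  have hs : Group.IsSolvable P := (have := hP.isNilpotent; inferInstance)
  have h0 : P ≠ ⊥ := by rintro rfl; simp at hnt
  have h1 : ⁅P, A⁆ = P := by_contra fun h => hnt (by
    rw [← BG.commutator_commutator_eq hAP hc (.inr hs)]
    exact hmin _ (lt_of_le_of_ne (Solv.commutator_le_left_of_le_normalizer hAP) h) (Comp.le_normalizer_commutator hBP hAn))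
  have h2 : ∀ U : Subgroup X, U ≤ P → B ≤ normalizer (U : Set X) → U = P ∨ U ≤ ⁅P, P⁆ ∧ A ≤ centralizer (U : Set X) :=
    fun U a1 a2 => or_iff_not_imp_left.2 fun h =>
      have a3 := BG.commutator_eq_bot_iff_le.1 (hmin U (lt_of_le_of_ne a1 h) a2)
      ⟨(le_inf a1 a3).trans (BG.inf_Ct_le_commutator hAP hc h1), BG.le_Ct_comm.1 a3⟩
  have h3 : ¬ A ≤ centralizer (P : Set X) := fun h => hnt (BG.commutator_eq_bot_iff_le.2 (BG.le_Ct_comm.1 h))
  have h4 := Solv.commutator_le_map_frattini hP.isNilpotent
  have h5 : (frattini P).map P.subtype = ⁅P, P⁆ := le_antisymm ((h2 _ (map_subtype_le _)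
    (hBP.trans (Solv.normalizer_le_normalizer_map_of_characteristic P _))).resolve_left (Solv.map_frattini_lt h0).ne).1 h4
  refine ⟨h1, ?_, fun U a1 a2 a3 => (h2 U a2 a3).symm.imp_left fun h => le_antisymm (h.1.trans h4) a1, fun hp => ?_⟩
  · obtain ⟨C, a1, a2, a3, a4, a5⟩ := BG.exists_critical hP
    obtain rfl : C = P := (h2 C a1 (hBP.trans a2)).resolve_right fun h =>
      h3 (BG.le_Ct_of_critical hAP hc (le_normalizer.trans a2) a5 h.2)
    rcases h2 (C ⊓ centralizer (C : Set X)) inf_le_left (Comp.le_normalizer_inf hBP (Comp.le_normalizer_centralizer hBP)) with h | h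
    · refine .inl ⟨BG.comm_iff_le.2 (inf_eq_left.1 h), fun x hx => ?_⟩
      have := Solv.pow_mem_map_frattini hP hx
      rwa [h5, BG.commutator_eq_bot_iff_le.2 (inf_eq_left.1 h), mem_bot] at this
    have a6 : (center C).map C.subtype = ⁅C, C⁆ := by rw [Comp.map_center_subtype]; exact le_antisymm h.1 a4
    exact .inr ⟨hP, map_injective C.subtype_injective (h5.trans a6.symm),
      map_injective C.subtype_injective ((C.map_subtype_commutator).trans a6.symm)⟩
  obtain ⟨C, a1, a2, -, a3, -, a4⟩ := BG.exists_critical_odd hp hP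
  obtain rfl : C = P := (h2 C a1 (hBP.trans a2)).resolve_right fun h => h3 (a4 A hAP hAp h.2)
  exact a3

end Cfsg.Agent.S3736
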