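import Cfsg.Statements.S0079
import Cfsg.Agent.Lib.Transfer.Hall

set_option autoImplicit false
open Cfsg

namespace Cfsg.Agent.S0079

set_option linter.unusedSectionVars false
set_option linter.unusedVariables false
set_option linter.style.haveILetI false
set_option linter.unusedSimpArgs false

open Cfsg.Agent.Transfer Subgroup

/-- A nilpotent Hall subgroup has a normal complement exactly when elements of it that are conjugate in the whole group are already conjugate inside it. -/
theorem result {G : Type*} [Group G] [Finite G] (H : Subgroup G) (hH : Group.IsNilpotent H) (hHall : Nat.Coprime (Nat.card H) H.index) : (∃ N : Subgroup G, N.Normal ∧ N.IsComplement' H) ↔ ∀ x ∈ H, ∀ y ∈ H, (∃ g : G, g * x * g⁻¹ = y) → ∃ h ∈ H, h * x * h⁻¹ = y := by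
  constructor
  · rintro ⟨N, hN, hc⟩ x hx y hy ⟨g, rfl⟩
    obtain ⟨⟨n, h⟩, rfl⟩ := hc.2 g
    refine ⟨h, h.2, ?_⟩
    have h1 : (n : G) * h * x * ((n : G) * h)⁻¹ * ((h : G) * x * (h : G)⁻¹)⁻¹ ∈ N ⊓ H := by
      refine mem_inf.2 ⟨?_, mul_mem hy (inv_mem (mul_mem (mul_mem h.2 hx) (inv_mem h.2)))⟩
      have := mul_mem n.2 (hN.conj_mem _ (inv_mem n.2) ((h : G) * x * (h : G)⁻¹))
      convert this using 1
      group
    rw [hc.disjoint.eq_bot, mem_bot, mul_inv_eq_one] at h1
    exact h1.symm
  · intro h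
    refine exists_normal_complement_of_forall_hasNPC hHall fun p hp hd => ?_
    haveI := Fact.mk hp
    obtain ⟨S, hS⟩ := exists_isSyl p H
    have hS' := hS.of_hall le_top (by rwa [relIndex_top_right]) hd
    rw [← hasNPC_top]
    exact hS'.hasNPC_of_controls hS.le le_top
      (fun x hx g _ hg => h x (hS.le hx) _ (hS.le hg) ⟨g, rfl⟩) hasNPC_of_nilpotent

end Cfsg.Agent.S0079
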