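import Cfsg.Statements.S0581
import Cfsg.Agent.Lib.Solv.Schmidt

set_option autoImplicit false
open Pointwise
open Cfsg

namespace Cfsg.Agent.S0581
section
open Pointwise commutatorElement Subgroup Cfsg.Agent.Solv
theorem step {G : Type*} [Group G] [Finite G] {H A R : Subgroup G} (hH : Group.IsNilpotent H)
    (hHall : (Nat.card H).Coprime H.index) {r : ℕ} [hr : Fact r.Prime] (h1 : r ∣ Nat.card H) (hR : IsPGroup r R)
    (hA : ¬ r ∣ Nat.card A) (hn : R ≤ normalizer (A : Set G)) (h2 : A ≤ H) :
    ∃ x : G, A ⊔ R ≤ MulAut.conj x • H := by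
  obtain ⟨S, hS⟩ := exists_isSylowIn r H
  have h3 : IsSylowIn r S ⊤ := isSylowIn_of_card le_top (by
    rw [hS.card_eq, card_top, factorization_card_of_not_dvd_index
      (hr.out.coprime_iff_not_dvd.1 (hHall.coprime_dvd_left h1))])
  have h4 := (le_centralizer_of_nilpotent_of_coprime hH hS.1 h2 (coprime_card_of_isPGroup hS.2 hA)).trans
    (centralizer_le_normalizer _)
  obtain ⟨x, hx, h5⟩ := (h3.of_le h4 le_top).exists_le_conj hR hn
  exact ⟨x, sup_le (conj_smul_eq_self_iff.2 hx ▸ conj_smul_mono x h2) (h5.trans (conj_smul_mono x hS.1))⟩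
end

/-- Let H be a nilpotent subgroup of a finite group G whose order is coprime to its index, and K a subgroup every prime divisor of whose order divides the order of H. Then K lies in some conjugate of H. -/
theorem result {G : Type*} [Group G] [Finite G] (H K : Subgroup G) (hH : Group.IsNilpotent H) (hHall : (Nat.card H).Coprime H.index) (hK : ∀ p : ℕ, p.Prime → p ∣ Nat.card K → p ∣ Nat.card H) : ∃ x : G, K ≤ MulAut.conj x • H := by
  open Pointwise commutatorElement Subgroup Cfsg.Agent.Solv in
  induction K using WellFoundedLT.induction with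
  | _ K ih =>
    by_cases h0 : K = ⊥
    · exact ⟨1, h0 ▸ bot_le⟩
    have ih' : ∀ L < K, ∃ x : G, L ≤ MulAut.conj x • H := fun L hL =>
      ih L hL fun p hp h => hK p hp (h.trans (card_dvd_of_le hL.le))
    have hn : ∀ x : G, Group.IsNilpotent (MulAut.conj x • H : Subgroup G) := fun x =>
      conj_smul_eq_map x H ▸ isNilpotent_map _ hH
    suffices ∃ r : ℕ, r.Prime ∧ ∃ A R : Subgroup G, r ∣ Nat.card K ∧ IsPGroup r R ∧ ¬ r ∣ Nat.card A ∧
        R ≤ normalizer (A : Set G) ∧ A ⊔ R = K by
      obtain ⟨r, hr, A, R, h1, h2, h3, h4, h5⟩ := this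
      have := Fact.mk hr
      obtain ⟨x, hx⟩ := ih' A (lt_of_le_of_ne (h5 ▸ le_sup_left) fun e => h3 (e ▸ h1))
      obtain ⟨y, hy⟩ := step (hn x) (by rwa [card_conj_smul, index_conj_smul])
        (by rw [card_conj_smul]; exact hK r hr h1) h2 h3 h4 hx
      exact ⟨y * x, by rwa [← conj_smul_conj_smul, ← h5]⟩
    by_cases h1 : Group.IsNilpotent K
    · obtain ⟨r, hr, h2⟩ := exists_prime_dvd_card h0
      have := Fact.mk hr
      obtain ⟨R, hR⟩ := exists_isSylowIn r K
      exact ⟨r, hr, Transfer.res r K, R, h2, hR.2, Transfer.hasNPC_sub_iff.1 Transfer.hasNPC_of_nilpotent,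
        hR.1.trans (Transfer.le_normalizer_res K), hR.toSyl.res_sup⟩
    · obtain ⟨p, q, hp, hq, h2, Q, g, h3, h4, h5, h6, h7⟩ := schmidt h1 fun L hL => by
        obtain ⟨x, hx⟩ := ih' (L.map K.subtype) (lt_of_le_of_ne (map_subtype_le L) fun e => hL (by
          rw [← map_subtype_subgroupOf K L, e, subgroupOf_self]))
        exact Group.nilpotent_of_mulEquiv (_h := isNilpotent_of_le hx (hn x))
          (equivMapOfInjective _ _ K.subtype_injective).symm
      have := Fact.mk hp
      have := Fact.mk hq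
      refine ⟨p, hp, Q.map K.subtype, (zpowers g).map K.subtype, (dvd_card_of_isPGroup h4.2 fun e => h6 (by
        rw [zpowers_eq_bot.1 e]; exact one_mem _)).trans (card_subgroup_dvd_card _), h4.2.map _,
        fun e => h2 (eq_of_isPGroup_of_dvd (h3.2.map _) hp e),
        (map_mono le_normalizer_of_normal').trans (le_normalizer_map _), ?_⟩
      rw [← Subgroup.map_sup, sup_comm, h7, ← MonoidHom.range_eq_map, range_subtype]

end Cfsg.Agent.S0581
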