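import Cfsg.Statements.S0033
import Cfsg.Agent.Lib.Solv.Schmidt

set_option autoImplicit false
open Cfsg

namespace Cfsg.Agent.S0033

/-- Thompson's Theorem on fixed-point-free automorphisms: a finite group with an automorphism of prime order fixing only the identity is nilpotent. -/
theorem result {G : Type*} [Group G] [Finite G] (φ : G ≃* G)
    (hφ : MonoidHom.FixedPointFree (φ : G →* G)) (p : ℕ) (hp : p.Prime) (hord : orderOf φ = p) :
    Group.IsNilpotent G := by
  open Pointwise commutatorElement Subgroup Cfsg.Agent.Solv in
  have h1 : orderOf (Transfer.hr φ) = p := by rw [orderOf_injective _ Transfer.hr_injective, hord]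
  have h2 := thompson_fpf (K := (⊤ : Subgroup G).map Transfer.hl) (H := zpowers (Transfer.hr φ))
    le_normalizer_of_normal' (fun e => by
      rw [zpowers_eq_bot.1 e, orderOf_one] at h1; exact hp.ne_one h1.symm)
    (fpf_zpowers_of_prime (h1 ▸ hp) (fpf_iff.2 (by
      rintro _ ⟨k, -, rfl⟩ e
      rw [hφ k (Transfer.hol_commute_iff.1 e), map_one])))
  exact isNilpotent_top_iff.1 (Group.nilpotent_of_mulEquiv (equivMapOfInjective _ _ Transfer.hl_injective).symm)

end Cfsg.Agent.S0033
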