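import Cfsg.Statements.S3781
import Cfsg.Agent.Lib.BG.MinNA
import Cfsg.Agent.Lib.BG.Petr

set_option autoImplicit false
open Cfsg

namespace Cfsg.Agent.S3781
section
open Pointwise commutatorElement Subgroup
open Cfsg.Agent.Comp Cfsg.Agent.BG Subgroup commutatorElement in
theorem iter_normal {G : Type*} [Group G] (M : Subgroup G) [M.Normal] (n : ℕ) : (iterCommutator M ⊤ n).Normal := by
  induction n with
  | zero => assumption
  | succ n ih => exact commutator_normal _ _

open Cfsg.Agent.Comp Cfsg.Agent.BG Subgroup commutatorElement in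
theorem comm_lcs {G : Type*} [Group G] (M : Subgroup G) [M.Normal] (j : ℕ) : ∀ i,
    ⁅iterCommutator M ⊤ i, (⊤ : Subgroup G).lowerCentralSeries j⁆ ≤ iterCommutator M ⊤ (i + j + 1) := by
  induction j with
  | zero => intro i; exact le_rfl
  | succ j ih =>
    intro i
    haveI := iter_normal M (i + (j + 1) + 1)
    rw [Subgroup.commutator_comm]
    refine three_subgroups_le (A := ⊤) (B := iterCommutator M ⊤ i) (C := (⊤ : Subgroup G).lowerCentralSeries j)
      le_normalizer_of_normal le_normalizer_of_normal le_normalizer_of_normal ?_ ?_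
    · rw [Subgroup.commutator_comm ⊤]
      exact (ih (i + 1)).trans (le_of_eq (by congr 1; omega))
    · exact commutator_mono (ih i) le_rfl

open Cfsg.Agent.Comp Cfsg.Agent.BG Subgroup commutatorElement in
theorem pow_le {G : Type*} [Group G] [Finite G] {p : ℕ} [Fact p.Prime] (hG : IsPGroup p G) (n : ℕ) : ∀ (M : Subgroup G) [M.Normal],
    iterCommutator M ⊤ n ≠ ⊥ → p ^ (n + 1) ≤ Nat.card M := by
  induction n with
  | zero => exact fun M _ h => (pow_one p).le.trans (le_card_of_ne_bot (hG.to_subgroup M) h)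
  | succ n ih =>
    intro M _ h
    have e : ∀ k, iterCommutator M ⊤ (k + 1) = iterCommutator ⁅M, ⊤⁆ ⊤ k := fun k => by
      induction k with
      | zero => rfl
      | succ k ih => exact congrArg (⁅·, ⊤⁆) ih
    refine pow_le_card_of_lt (hG.to_subgroup M) (commutator_lt_of_isPGroup (hG.to_subgroup ⊤) (hG.to_subgroup M)
      le_normalizer_of_normal ?_) (ih _ (e n ▸ h))
    rintro rfl
    rw [e, commutator_bot_left] at h
    refine h ?_
    clear h ih e
    induction n with
    | zero => rfl
    | succ k ih => exact (congrArg (⁅·, ⊤⁆) ih).trans (commutator_bot_left _)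
end

/-- Let G be a finite p-group and n ≥ 1, and write γ_1(G) = G, γ_{k+1}(G) = [γ_k(G), G], and likewise γ_k(N) for a subgroup N. Let N be a normal subgroup of G contained in γ_n(G). If i > 1 and γ_{i+1}(N) ≠ 1, then |γ_i(N) : γ_{i+1}(N)| ≥ p^n. -/
theorem result {G : Type*} [Group G] [Finite G] {p : ℕ} [Fact p.Prime] (hG : IsPGroup p G) (n : ℕ) (hn : 1 ≤ n) (N : Subgroup G) [N.Normal] (hN : N ≤ (⊤ : Subgroup G).lowerCentralSeries (n - 1)) (i : ℕ) (hi : 1 < i) (hne : N.lowerCentralSeries i ≠ ⊥) : p ^ n ≤ (N.lowerCentralSeries i).relIndex (N.lowerCentralSeries (i - 1)) := by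
  open Pointwise commutatorElement Subgroup in
  open Cfsg.Agent.Comp Cfsg.Agent.BG Subgroup commutatorElement in
  have hp : p.Prime := Fact.out
  obtain ⟨i, rfl⟩ := Nat.exists_eq_succ_of_ne_zero (by omega : i ≠ 0)
  obtain ⟨n, rfl⟩ := Nat.exists_eq_succ_of_ne_zero (by omega : n ≠ 0)
  simp only [Nat.succ_eq_add_one, Nat.add_sub_cancel] at hN ⊢
  set M := N.lowerCentralSeries i
  set K := N.lowerCentralSeries (i + 1)
  have k1 : K = ⁅M, N⁆ := rfl
  obtain ⟨k, hk⟩ := IsPGroup.iff_card.1 (hG.to_subgroup K)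
  obtain ⟨k, rfl⟩ := Nat.exists_eq_succ_of_ne_zero (n := k) (by rintro rfl; exact hne (card_eq_one.1 hk))
  obtain ⟨L, l1, l2, l3⟩ := Solv.exists_normal_card (L := ⊤) (M := K) (hG.to_subgroup ⊤).isNilpotent (hG.to_subgroup K) le_top
    le_normalizer_of_normal k (hk ▸ Nat.pow_le_pow_right hp.pos k.le_succ)
  haveI : L.Normal := normalizer_eq_top_iff.1 (top_le_iff.1 l3)
  haveI : (M.map (QuotientGroup.mk' L)).Normal := Normal.map inferInstance _ (QuotientGroup.mk'_surjective L)
  have a := pow_le (hG.to_quotient L) (n + 1) (M.map (QuotientGroup.mk' L)) fun e => by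
    have b := comm_lcs (M.map (QuotientGroup.mk' L)) n 0
    rw [zero_add, e, ← map_top_of_surjective _ (QuotientGroup.mk'_surjective L), ← map_lowerCentralSeries] at b
    have c : K.map (QuotientGroup.mk' L) ≤ ⊥ := by
      rw [k1, Subgroup.map_commutator]
      exact (commutator_mono le_rfl (map_mono hN)).trans b
    rw [le_bot_iff, Subgroup.map_eq_bot_iff, QuotientGroup.ker_mk'] at c
    have := card_le_of_le c
    rw [hk, l2, Nat.pow_le_pow_iff_right hp.one_lt] at this
    omega
  have km : K ≤ M := N.lowerCentralSeries_antitone i.le_succ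
  rw [Solv.card_map_mk_eq_relIndex, ← relIndex_mul_relIndex L K M l1 km] at a
  have b : L.relIndex K = p := Nat.eq_of_mul_eq_mul_left (pow_pos hp.pos k) (by
    rw [← l2, Solv.card_mul_relIndex l1, hk, l2, pow_succ])
  rw [b, pow_succ'] at a
  exact Nat.le_of_mul_le_mul_left a hp.pos

end Cfsg.Agent.S3781
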