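import Cfsg.Statements.S1217
import Cfsg.Agent.Lib.Fusion.SSol3

set_option autoImplicit false
open scoped MatrixGroups
open Cfsg

namespace Cfsg.Agent.S1217

/-- Let F be a finite field with q elements, q odd, and P a Sylow 2-subgroup of GL(2,F). If q ≡ 3 (mod 4) then P is quasi-dihedral; if q ≡ 1 (mod 4) then P is wreathed. -/
theorem result {F : Type*} [Field F] [Fintype F] (P : Sylow 2 (GL (Fin 2) F)) : (Fintype.card F % 4 = 3 → Cfsg.IsQuasiDihedral (P : Subgroup (GL (Fin 2) F))) ∧ (Fintype.card F % 4 = 1 → Cfsg.IsWreathed (P : Subgroup (GL (Fin 2) F))) := by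
  refine ⟨fun h => ?_, SSol.gl2_wr P⟩
  obtain ⟨k, u, hu, e⟩ := Nat.exists_eq_pow_mul_and_not_dvd (Fintype.card F).succ_ne_zero 2 (by decide)
  have hk : 2 ≤ k := by
    rcases k with _ | _ | k <;> omega
  obtain ⟨h1, h2⟩ := SSol.gl2_qd P hk e hu
  exact ⟨k + 1, by omega, h1, h2⟩

end Cfsg.Agent.S1217
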