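import Cfsg.Statements.S0016
import Cfsg.Agent.Lib.Solv.PGrp

set_option autoImplicit false
open Cfsg

namespace Cfsg.Agent.S0016

/-- A finite p-group in which only one subgroup has order p is either cyclic or (with p = 2) isomorphic to a generalized quaternion group. -/
theorem result {G : Type*} [Group G] [Finite G] (p : ℕ) [Fact p.Prime]
    (hG : IsPGroup p G) (huniq : ∀ H K : Subgroup G, Nat.card H = p → Nat.card K = p → H = K) :
    IsCyclic G ∨ (p = 2 ∧ ∃ n : ℕ, Nonempty (G ≃* QuaternionGroup (2 ^ n))) := by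
  open Pointwise commutatorElement Subgroup Cfsg.Agent.Solv in
  rcases isCyclic_or_quaternion (S := ⊤) (hG.to_subgroup ⊤) (fun E _ h1 _ h2 => by
    obtain ⟨H, -, K, -, h3, h4, h5⟩ := exists_two_subgroups_of_card_sq Fact.out h1 h2
    exact h5 (huniq H K h3 h4)) with h | ⟨h, a, b, m, -, ha, hb, hs, -, h1, h2⟩
  · exact .inl (isCyclic_of_surjective _ topEquiv.surjective)
  · obtain ⟨e⟩ := nonempty_quaternion_of_gens ha hb hs h1 h2
    exact .inr ⟨h, m, ⟨topEquiv.symm.trans e⟩⟩

end Cfsg.Agent.S0016
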