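import Cfsg.Statements.S0519
import Cfsg.Agent.Lib.Solv.PGrp

set_option autoImplicit false
open Cfsg

namespace Cfsg.Agent.S0519

/-- Let P be a finite p-group in which every abelian normal subgroup is cyclic, but which has a non-cyclic abelian
subgroup. Then p = 2 and P is generalized quaternion, dihedral of order at least 16, or quasi-dihedral. -/
theorem result {P : Type*} [Group P] [Finite P] (p : ℕ) [Fact p.Prime]
    (hP : IsPGroup p P) (hn : ∀ A : Subgroup P, A.Normal → IsMulCommutative A → IsCyclic A)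
    (hm : ∃ B : Subgroup P, IsMulCommutative B ∧ ¬ IsCyclic B) :
    p = 2 ∧ ((∃ n : ℕ, Nonempty (P ≃* QuaternionGroup n)) ∨ (∃ n : ℕ, 8 ≤ n ∧ Nonempty (P ≃* DihedralGroup n)) ∨
      Cfsg.IsQuasiDihedral P) := by
  open Pointwise commutatorElement Subgroup Cfsg.Agent.Solv in
  obtain ⟨B, hB, hB'⟩ := hm
  have hnc : ¬ IsCyclic (⊤ : Subgroup P) := fun h => hB' (isCyclic_of_le (le_top : B ≤ ⊤))
  have hp2 : p = 2 := by
    by_contra hp
    obtain ⟨E, -, h2, h3, h4, h5⟩ := exists_normal_elementary_sq (L := ⊤) hp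
      (hP.to_subgroup ⊤).isNilpotent (hP.to_subgroup ⊤) le_top le_normalizer_of_normal hnc
    exact not_isCyclic_of_card_sq Fact.out h2 h4 (hn E (normal_iff_top_le_normalizer.2 h5) h3)
  subst hp2
  refine ⟨rfl, ?_⟩
  obtain ⟨a, b, m, ha, hb, hs, hcard, h | h | h⟩ := two_group_normal_form (hP.to_subgroup ⊤)
    (fun A _ h => hn A (normal_iff_top_le_normalizer.2 h)) hnc
  · obtain ⟨e⟩ := nonempty_dihedral_of_gens hb hs h.2.1 h.2.2
    refine .inr (.inl ⟨_, ?_, ⟨topEquiv.symm.trans e⟩⟩)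
    rw [ha]
    exact Nat.pow_le_pow_right two_pos (show 3 ≤ m + 1 by omega)
  · obtain ⟨e⟩ := nonempty_quaternion_of_gens ha hb hs h.2.1 h.2.2
    exact .inl ⟨_, ⟨topEquiv.symm.trans e⟩⟩
  · exact .inr (.inr ⟨m + 1, by omega, by rwa [card_top] at hcard, a, b, ha,
      orderOf_eq_prime h.2.1 (fun e => hb (e ▸ one_mem _)), h.2.2⟩)

end Cfsg.Agent.S0519
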