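import Cfsg.Statements.S1187
import Cfsg.Agent.Lib.Transfer.AutS2

set_option autoImplicit false
open Cfsg

namespace Cfsg.Agent.S1187

set_option linter.unusedSectionVars false
set_option linter.unusedVariables false
set_option linter.style.haveILetI false
set_option linter.unusedSimpArgs false

open Subgroup Transfer MS

/-- Let z be an isolated involution of the finite group G and p a prime. If Q is a p-subgroup normalized by z that is maximal among p-subgroups normalized by z, then Q is a Sylow p-subgroup of G. -/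
theorem result {G : Type*} [Group G] [Finite G] (z : G) (hz : Cfsg.IsIsolatedInvolution z) {p : ℕ} [Fact p.Prime] (Q : Subgroup G) (hQ : IsPGroup p Q) (hzQ : z ∈ Subgroup.normalizer (Q : Set G)) (hmax : ∀ R : Subgroup G, IsPGroup p R → z ∈ Subgroup.normalizer (R : Set G) → Q ≤ R → R = Q) : ∃ P : Sylow p G, (P : Subgroup G) = Q := by
  by_cases hp : p = 2
  · subst hp
    have h1 : IsPGroup 2 (Q ⊔ zpowers z : Subgroup G) :=
      pg_sup_l hQ (isPGroup_two_zpowers (mul_self_of_orderOf hz.1)) (zpowers_le.2 hzQ)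
    obtain ⟨P, hP⟩ := h1.exists_le_sylow
    exact ⟨P, hmax P P.isPGroup' (le_nn _ (hP (mem_sup_right (mem_zpowers z)))) (le_sup_left.trans hP)⟩
  obtain ⟨P, hP⟩ := hQ.exists_le_sylow
  have h1 : zpowers z ≤ NN (oddCore G ⊔ P : Subgroup G) := by
    refine zpowers_le.2 (mem_normalizer_of_conj_mem fun x hx => ?_)
    have := mul_mem (mem_sup_left (zstar hz x) : _ ∈ oddCore G ⊔ P) hx
    simpa using this
  have h2 : Odd #(oddCore G ⊔ P : Subgroup G) := by
    by_contra h2
    rcases dvd_sup_l Nat.prime_two nn_normal (even_iff_two_dvd.1 (Nat.not_odd_iff_even.1 h2)) with h | h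
    · exact Nat.not_even_iff_odd.2 odd_card_oddCore (even_iff_two_dvd.2 h)
    · exact Nat.not_even_iff_odd.2 (BG.odd_of_isPGroup hp P.isPGroup') (even_iff_two_dvd.2 h)
  obtain ⟨R, hR, h3, h4⟩ := cop_syl_ge h1 (by rw [Nat.card_zpowers, hz.1]; exact (odd_iff_coprime_two.1 h2).symm)
    (odd_sol h2) (hP.trans le_sup_right) hQ (zpowers_le.2 hzQ)
  have h5 := hmax R hR.pgroup (h4 (mem_zpowers z)) h3
  subst h5
  exact ((isSyl_top P).of_card_le hQ le_top (hR.card_le P.isPGroup' le_sup_right)).exists_sylow

end Cfsg.Agent.S1187
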