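import Cfsg.Statements.S1473
import Cfsg.Agent.Lib.BG.Sec1
import Cfsg.Agent.Lib.Solv.FrobCount

set_option autoImplicit false
universe u
open Cfsg

namespace Cfsg.Agent.S1473
section
open Pointwise commutatorElement Subgroup Cfsg.Agent.Solv
open Subgroup Cfsg.Agent.Comp in
open scoped commutatorElement in
theorem step {G G' : Type u} [Group G] [Finite G] [Group G'] {p : ℕ} [Fact p.Prime] (f : G →* G') (hf : Function.Surjective f)
    (hk : IsPGroup p f.ker) (h : IsCNGroup G) : IsCNGroup G' := by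
  haveI := Finite.of_surjective f hf
  intro y hy
  obtain ⟨x, hx, hr⟩ := exists_prime_order_mem (zpowers_ne_bot.2 hy)
  refine Solv.isNilpotent_of_le (Solv.centralizer_zpowers y ▸ Solv.centralizer_zpowers x ▸ Comp.centralizer_mono (zpowers_le.2 hx) :
    _ ≤ centralizer {x}) ?_
  obtain ⟨b, rfl⟩ := hf x
  obtain ⟨u, -, v, hv, rfl, h1, h2⟩ := Solv.exists_piPart {orderOf (f b)} b
  have h3 : f v = 1 := (Solv.PiE.of_mem_zpowers ((Solv.piE_singleton hr).2 ⟨1, (pow_one _).symm⟩)
    (MonoidHom.map_zpowers f _ ▸ mem_map_of_mem f hv)).eq_one (h2.map f)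
  rw [map_mul, h3, mul_one] at hr h1 ⊢
  have h0 : u ∉ f.ker := Solv.ne_one_of_orderOf_prime hr
  obtain ⟨k, hu⟩ := (Solv.piE_singleton hr).1 h1
  by_cases e : orderOf (f u) = p
  swap
  · obtain ⟨n, hn⟩ := hk.exists_card_eq
    have := map_inf_centralizer_singleton f (M := ⊤) (a := u) (le_normalizer (mem_top u)) (by
      rw [top_inf_eq, hn, hu]; exact Nat.Coprime.pow _ _ ((Nat.coprime_primes hr Fact.out).2 e))
    rw [top_inf_eq, map_top_of_surjective f hf, top_inf_eq] at this
    rw [← this]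
    exact Solv.isNilpotent_map _ (h u fun e => h0 (e ▸ one_mem _))
  rw [← map_comap_eq_self_of_surjective hf (centralizer {f u})]
  refine Solv.isNilpotent_map _ ?_
  obtain ⟨C, hC⟩ : ∃ C, C = (centralizer {f u}).comap f := ⟨_, rfl⟩
  rw [← hC]
  have a1 : IsPGroup p (zpowers u ⊔ f.ker : Subgroup G) := isPGroup_sup le_normalizer_of_normal
    (isPGroup_zpowers_of_orderOf (e ▸ hu)) hk
  have a2 : ⁅zpowers u ⊔ f.ker, C⁆ ≤ f.ker := by
    rw [← Subgroup.map_eq_bot_iff, map_commutator, ← comap_map_eq, map_comap_eq_self (map_le_range _ _), MonoidHom.map_zpowers, hC,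
      map_comap_eq_self_of_surjective hf, Subgroup.commutator_comm, commutator_eq_bot_iff_le_centralizer, Solv.centralizer_zpowers]
  have a3 : C ≤ normalizer ((zpowers u ⊔ f.ker : Subgroup G) : Set G) := le_normalizer_iff_commutator_le_left.2 (a2.trans le_sup_right)
  have a4 : zpowers u ⊔ f.ker ≤ Op p C := le_Op (by
    rw [hC, ← comap_map_eq, MonoidHom.map_zpowers]; exact comap_mono (zpowers_le.2 (BG.self_mem_C1 _))) a3 a1
  have a5 : Res p C ≤ centralizer (OmZ p (Op p C) : Set G) := Res_le_of_forall_coprime fun Y b1 b2 => by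
    obtain ⟨n, hn⟩ := a1.exists_card_eq
    have b3 := BG.commutator_sup_Ct (b1.trans a3) (hn ▸ b2.pow_right n) (.inr (have := a1.isNilpotent; inferInstance))
    obtain ⟨y, hy, b4⟩ : ∃ y ∈ (zpowers u ⊔ f.ker) ⊓ centralizer (Y : Set G), y ≠ 1 := by
      by_contra hc; push Not at hc
      rw [(eq_bot_iff_forall _).2 hc, sup_bot_eq] at b3
      exact h0 (((commutator_mono le_rfl b1).trans a2) (b3.ge (mem_sup_left (mem_zpowers u))))
    obtain ⟨m, hm⟩ := (isPGroup_OmZ p (Op p C)).exists_card_eq
    exact Solv.le_centralizer_of_nilpotent_of_coprime (h y b4) (le_centralizer_singleton_iff.2 hy.2)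
      (le_centralizer_singleton_iff.2 (le_centralizer_OmZ p _ (a4 hy.1))) (hm ▸ b2.pow_right m)
  obtain ⟨S, hS⟩ := exists_sylIn p C
  obtain ⟨z, hz, b1, b2⟩ := exists_fixed_orderOf hS.isP (isPGroup_OmZ p (Op p C)) (le_normalizer_OmZ (le_normalizer_Op_of_le hS.le))
    (OmZ_ne_bot (isPGroup_Op p C) fun e => h0 ((a4.trans (e.le.trans bot_le)) (mem_sup_left (mem_zpowers u))))
  exact Solv.isNilpotent_of_le (hS.Res_sup.ge.trans (sup_le
    (le_centralizer_singleton_iff.2 (BG.le_Ct_comm.1 a5 hz)) b2)) (h z (ne_one_of_orderOf_eq b1))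

open Subgroup in
theorem aux (G' : Type u) [Group G'] (G : Type u) [Group G] [Finite G] :
    IsCNGroup G → ∀ f : G →* G', Function.Surjective f → Group.IsSolvable f.ker → IsCNGroup G' := by
  revert G; refine Solv.card_induction fun G _ _ ih h f hf hs => ?_
  by_cases h0 : f.ker = ⊥
  · exact step (p := 2) f hf (h0 ▸ IsPGroup.of_bot) h
  obtain ⟨q, hq, E, a1, a2, a3, a4⟩ := BG.exists_elem_invariant (X := ⊤) le_normalizer_of_normal hs h0
  haveI : E.Normal := normalizer_eq_top_iff.1 (eq_top_iff.2 a4.nU)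
  haveI := Fact.mk hq
  refine ih (G ⧸ E) (Solv.card_quotient_lt a2) (step (p := q) (QuotientGroup.mk' E) (QuotientGroup.mk'_surjective E) ?_ h)
    (QuotientGroup.lift E f a1) (QuotientGroup.lift_surjective_of_surjective E f hf a1) ?_
  · rw [QuotientGroup.ker_mk']
    exact fun x => ⟨1, Subtype.ext (by simpa using a3.2 x x.2)⟩
  rw [QuotientGroup.ker_lift]
  exact solvable_of_surjective ((QuotientGroup.mk' E).subgroupMap_surjective _)
end

/-- Let G be a finite group in which the centralizer of every non-identity element is nilpotent, and H a solvable normal subgroup of G. Then in G/H the centralizer of every non-identity element is nilpotent. -/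
theorem result {G : Type*} [Group G] [Finite G] (hCN : Cfsg.IsCNGroup G) (H : Subgroup G) [H.Normal] (hH : Group.IsSolvable H) :
    Cfsg.IsCNGroup (G ⧸ H) := by
  open Pointwise commutatorElement Subgroup Cfsg.Agent.Solv in
  exact aux _ G hCN (QuotientGroup.mk' H) (QuotientGroup.mk'_surjective H) (by rwa [QuotientGroup.ker_mk'])

end Cfsg.Agent.S1473
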