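import Cfsg.Statements.S1474
import Cfsg.Agent.Lib.MS.Min
import Cfsg.Agent.Lib.BG.Sec1
import Cfsg.Agent.Lib.Solv.Frob3

set_option autoImplicit false
open Cfsg

namespace Cfsg.Agent.S1474

/-- Let G be a finite group in which every non-identity element has nilpotent centralizer, not itself nilpotent, and having a nontrivial normal Sylow p-subgroup for some prime p. Let H be the largest normal nilpotent Hall subgroup of G. Then H is a nontrivial proper normal subgroup with a complement E that is a Frobenius complement in G (no non-identity element of E centralizes a non-identity element of H), and G/H is nilpotent. -/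
theorem result {G : Type*} [Group G] [Finite G] (hCN : Cfsg.IsCNGroup G) (hnn : ¬ Group.IsNilpotent G) (p : ℕ) [Fact p.Prime] (P : Sylow p G)
    (hP1 : (P : Subgroup G) ≠ ⊥) (hPn : (P : Subgroup G).Normal) :
    Cfsg.fittingHall G ≠ ⊥ ∧ Cfsg.fittingHall G ≠ ⊤ ∧
      (∃ E : Subgroup G, Subgroup.IsComplement' (Cfsg.fittingHall G) E ∧ Cfsg.IsFrobeniusComplement E ∧
        ∀ e ∈ E, e ≠ 1 → Cfsg.fittingHall G ⊓ Subgroup.centralizer ({e} : Set G) = ⊥) ∧
      Group.IsNilpotent (G ⧸ Cfsg.fittingHall G) := by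
  open Pointwise commutatorElement Subgroup Cfsg.Agent.Solv in
  open Cfsg.Agent.Comp in
  have h := Solv.sSup_normal_mem (G := G)
    (P := fun N => Group.IsNilpotent N ∧ (Nat.card N).Coprime N.index) ⟨inferInstance, by simp⟩
    fun A B a b c d => ⟨MS.nil_sup c.1 d.1 MS.nn_normal MS.nn_normal, by
      have := (MS.hall_of_coprime le_top (by simpa using c.2)).sup_union
        (MS.hall_of_coprime le_top (by simpa using d.2)) (MS.nn_normal (H := A))
      simpa using this.coprime⟩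
  have h0 : ∀ q : ℕ, [Fact q.Prime] → ∀ R : Subgroup G, SylIn q R ⊤ → R.Normal → R ≤ fittingHall G := fun q _ R a1 a2 =>
    le_sSup ⟨a2, a1.isP.isNilpotent, a1.toSylowTop.card_coprime_index⟩

  change Group.IsNilpotent (fittingHall G) ∧ (Nat.card (fittingHall G)).Coprime (fittingHall G).index at h
  have h1 := ne_bot_of_le_ne_bot hP1 (h0 p _ (sylIn_top P) hPn)
  set F := fittingHall G
  have h2 : F ≠ ⊤ := fun e => hnn (Solv.isNilpotent_top_iff.1 (e ▸ h.1))
  obtain ⟨E, hE⟩ := exists_right_complement'_of_coprime h.2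
  have h3 : E ≠ ⊥ := by rintro rfl; exact h2 (by simpa using hE.sup_eq_top)
  have h4 : (Nat.card F).Coprime (Nat.card E) := hE.symm.index_eq_card ▸ h.2
  have h5 : ∀ e ∈ E, e ≠ 1 → F ⊓ centralizer {e} = ⊥ := fun e he a1 => by_contra fun a2 => by
    obtain ⟨x, hx, hq⟩ := exists_prime_order_mem a2
    obtain ⟨y, hy, hr⟩ := exists_prime_order_mem (zpowers_ne_bot.2 a1)
    have b1 := Solv.orderOf_dvd_card_of_mem (zpowers_le.2 he hy)
    have b2 : y ∈ centralizer {x} := zpowers_le.2 (BG.mem_C1.2 (BG.mem_C1.1 hx.2).symm) hy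
    have b3 := ne_one_of_orderOf_prime hq
    have b4 := ne_one_of_orderOf_prime hr
    haveI := Fact.mk hr
    obtain ⟨R, c1, hR⟩ := exists_sylIn_ge (isPGroup_zpowers_of_orderOf_eq (x := y) rfl) le_top
    obtain ⟨w, hw, c2, c3⟩ := exists_fixed_orderOf hR.isP hR.isP le_normalizer (ne_bot_of_le_ne_bot (zpowers_ne_bot.2 b4) c1)
    obtain ⟨Z, hZ⟩ : ∃ Z, Z = F ⊓ centralizer (F : Set G) := ⟨_, rfl⟩
    have d0 : Z ≤ F := hZ.le.trans inf_le_left
    have d1 : ∀ t : G, t ≠ 1 → Z ≤ centralizer {t} → ∀ Y : Subgroup G, Y ≤ centralizer {t} → IsPGroup (orderOf y) Y →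
        Y ≤ centralizer (Z : Set G) := fun t e1 e2 Y e3 e4 => by
      obtain ⟨n, hn⟩ := e4.exists_card_eq
      exact le_centralizer_of_nilpotent_of_coprime (hCN t e1) e3 e2
        (hn ▸ ((h4.coprime_dvd_left (card_dvd_of_le d0)).coprime_dvd_right b1).symm.pow_left n)
    have d2 : ∀ t, t ∈ centralizer (Z : Set G) → Z ≤ centralizer {t} := fun t => le_centralizer_singleton_iff.2
    have d3 := d1 x b3 (d2 x (BG.le_Ct_comm.1 (hZ.le.trans inf_le_right) hx.1)) _ (zpowers_le.2 b2) (hR.isP.to_le c1)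
    have d4 := d1 y b4 (d2 y (d3 (mem_zpowers y))) _ (zpowers_le.2 (BG.mem_C1.2 (BG.mem_C1.1 (c3 (c1 (mem_zpowers y)))).symm))
      (isPGroup_zpowers_of_orderOf_eq c2)
    have d5 := d1 w (ne_one_of_orderOf_eq c2) (d2 w (d4 (mem_zpowers w))) R c3 hR.isP
    obtain ⟨z, hz, d6⟩ := exists_prime_order_mem (hZ ▸ inf_centralizer_ne_bot_of_isNilpotent h.1 le_rfl le_normalizer h1 : Z ≠ ⊥)
    have d7 : Group.IsNilpotent (centralizer (Z : Set G)) := Solv.isNilpotent_of_le
      (Comp.centralizer_zpowers z ▸ Comp.centralizer_mono (zpowers_le.2 hz)) (hCN z (ne_one_of_orderOf_prime d6))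
    have d8 : R = Op (orderOf y) (centralizer (Z : Set G)) :=
      (hR.max _ (isPGroup_Op _ _) (le_Op_of_isNilpotent d7 d5 hR.isP) le_top).symm
    have d9 := h0 _ R hR (Comp.normal_iff_top_le_normalizer.2 (d8 ▸ le_normalizer_Op (Comp.le_normalizer_centralizer
      (hZ ▸ le_normalizer_center le_normalizer_of_normal))))
    exact hr.ne_one (Nat.eq_one_of_dvd_coprimes h4 (Solv.orderOf_dvd_card_of_mem (d9 (c1 (mem_zpowers y)))) b1)
  refine ⟨h1, h2, ⟨E, hE, isFrobeniusComplement_of_fpf hE.sup_eq_top h1 h3 h5, h5⟩, ?_⟩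
  obtain ⟨x, -, a1, a2⟩ := exists_central_of_fpf le_normalizer_of_normal h5 h1 h3
  haveI := Solv.isNilpotent_of_le (fun g hg => BG.mem_C1.2 (a2 g hg).symm : E ≤ centralizer {x}) (hCN x (ne_one_of_orderOf_prime a1))
  exact Group.nilpotent_of_mulEquiv hE.symm.QuotientMulEquiv.symm

end Cfsg.Agent.S1474
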