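import Cfsg.Statements.S1476
import Cfsg.Agent.S1473
import Cfsg.Agent.S1474

set_option autoImplicit false
open Cfsg

namespace Cfsg.Agent.S1476
section
open Pointwise commutatorElement Subgroup
section
open Subgroup Cfsg.Agent.Comp
variable {G : Type*} [Group G] [Finite G]

theorem le_fit (hCN : IsCNGroup G) {Z : Subgroup G} (h1 : Z ≠ ⊥) (h2 : ⊤ ≤ normalizer (Z : Set G)) :
    centralizer (Z : Set G) ≤ Fit ⊤ := by
  obtain ⟨z, hz, d6⟩ := exists_prime_order_mem h1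
  exact le_Fit le_top (Comp.le_normalizer_centralizer h2) (Solv.isNilpotent_of_le
    (Comp.centralizer_zpowers z ▸ Comp.centralizer_mono (zpowers_le.2 hz)) (hCN z (Solv.ne_one_of_orderOf_prime d6)))

theorem fpf (hCN : IsCNGroup G) {x : G} (h1 : x ≠ 1) (h2 : (orderOf x).Coprime (Nat.card (Fit (⊤ : Subgroup G)))) :
    Fit ⊤ ⊓ centralizer {x} = ⊥ := Solv.fpf_iff.2 fun y hy e => by_contra fun h3 => h1 (orderOf_eq_one_iff.1
  (Nat.eq_one_of_dvd_coprimes h2 dvd_rfl (Solv.orderOf_dvd_card_of_mem (le_fit hCN (inf_centralizer_ne_bot_of_isNilpotent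
    (isNilpotent_Fit ⊤) le_rfl le_normalizer fun h => h3 (mem_bot.1 (h.le hy))) (le_normalizer_center (le_normalizer_Fit_of_le le_rfl))
    (Solv.le_centralizer_of_nilpotent_of_coprime (hCN y h3) (zpowers_le.2 (BG.mem_C1.2 e.symm)) (inf_le_right.trans (Comp.centralizer_zpowers y ▸ Comp.centralizer_mono (zpowers_le.2 hy)))
      (by rw [Nat.card_zpowers]; exact h2.coprime_dvd_right (card_dvd_of_le inf_le_left)) (mem_zpowers x))))))

theorem nil (hCN : IsCNGroup G) {K H : Subgroup G} (hn : H ≤ normalizer (K : Set G))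
    (hf : ∀ h ∈ H, h ≠ 1 → K ⊓ centralizer {h} = ⊥) (hK : K ≠ ⊥) : Group.IsNilpotent H := by
  by_cases h : H = ⊥
  · rw [h]; infer_instance
  obtain ⟨x, -, a1, a2⟩ := Solv.exists_central_of_fpf hn hf hK h
  exact Solv.isNilpotent_of_le (fun g hg => BG.mem_C1.2 (a2 g hg).symm : H ≤ centralizer {x}) (hCN x (Solv.ne_one_of_orderOf_prime a1))

theorem cyc (hCN : IsCNGroup G) {K H : Subgroup G} (hn : H ≤ normalizer (K : Set G))
    (hf : ∀ h ∈ H, h ≠ 1 → K ⊓ centralizer {h} = ⊥) (hK : K ≠ ⊥) (h : ¬ 2 ∣ Nat.card H) : IsCyclic H :=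
  have := nil hCN hn hf hK
  have := Solv.isZGroup_of_fpf_of_odd hn hf hK h
  inferInstance
end
end

/-- Let G be a finite solvable group in which every non-identity element has nilpotent centralizer. Then either G is nilpotent; or G has a normal subgroup K with a Frobenius complement E (K E = G, K ∩ E = 1, E meets its conjugates by outside elements trivially) such that E is cyclic or E is generated by two elementwise-commuting subgroups, one cyclic of odd order and one isomorphic to a generalized quaternion group; or G is a three-step group with respect to some prime p. -/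
theorem result {G : Type*} [Group G] [Finite G] [Group.IsSolvable G] (hCN : Cfsg.IsCNGroup G) :
    Group.IsNilpotent G ∨
      (∃ K E : Subgroup G, K.Normal ∧ Subgroup.IsComplement' K E ∧ Cfsg.IsFrobeniusComplement E ∧
        (IsCyclic E ∨ ∃ C Q : Subgroup G, C ⊔ Q = E ∧ (∀ a ∈ C, ∀ b ∈ Q, a * b = b * a) ∧ IsCyclic C ∧ Odd (Nat.card C) ∧
          ∃ n : ℕ, Nonempty (↥Q ≃* QuaternionGroup (2 ^ n)))) ∨
      ∃ p : ℕ, p.Prime ∧ Cfsg.IsThreeStepGroup p G := by
  open Pointwise commutatorElement Subgroup in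
  open Cfsg.Agent.Comp Cfsg.Agent.Solv in
  refine or_iff_not_imp_left.2 fun hnn => ?_
  obtain ⟨p, hp, h0⟩ : ∃ p : ℕ, p.Prime ∧ Op p (⊤ : Subgroup G) ≠ ⊥ := by
    by_contra h; push Not at h
    refine BG.Fit_ne_bot (H := (⊤ : Subgroup G)) inferInstance (fun e => hnn (Solv.isNilpotent_top_iff.1 ?_)) (Fit_eq_bot_iff.2 h)
    rw [e]; infer_instance
  haveI := Fact.mk hp
  by_cases h1 : SylIn p (Op p (⊤ : Subgroup G)) ⊤
  · obtain ⟨a1, -, ⟨E, a2, a3, a4⟩, -⟩ := S1474.result hCN hnn p h1.toSylowTop h0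
      (Comp.normal_iff_top_le_normalizer.2 (le_normalizer_Op_of_le le_rfl))
    refine .inl ⟨_, E, inferInstance, a2, a3, ?_⟩
    have a5 := nil hCN le_normalizer_of_normal a4 a1
    have a6 := cyc hCN le_normalizer_of_normal (fpf_mono le_rfl (Opp_le 2 E) a4) a1 (coprime_iff_not_dvd.1 (coprime_Opp 2 E))
    rcases isCyclic_or_quaternion_of_fpf le_normalizer_of_normal (fpf_mono le_rfl (Op_le 2 E) a4) a1 (isPGroup_Op 2 E) with
      h | ⟨-, a, b, m, -, b1, b2, b3, -, b4, b5⟩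
    · refine .inl (isCyclic_of_fpf_of_abelian le_normalizer_of_normal a4 a1 (BG.comm_iff_le.2 ?_))
      rw [← Op_sup_Opp_of_isNilpotent (p := 2) a5, Comp.centralizer_sup]
      exact sup_le (le_inf (BG.comm_iff_le.1 (BG.comm_of_isCyclic h)) (Op_le_centralizer_Opp 2 E))
        (le_inf (BG.le_Ct_comm.1 (Op_le_centralizer_Opp 2 E)) (BG.comm_iff_le.1 (BG.comm_of_isCyclic a6)))
    exact .inr ⟨Opp 2 E, Op 2 E, (sup_comm _ _).trans (Op_sup_Opp_of_isNilpotent a5), fun x hx y hy => Op_le_centralizer_Opp 2 E hy x hx,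
      a6, Nat.coprime_two_right.1 (coprime_Opp 2 E), m, nonempty_quaternion_of_gens b1 b2 b3 b4 b5⟩
  refine .inr ⟨p, hp, Op_top (G := G) p ▸ h0, ?_⟩
  have h2 : Fit (⊤ : Subgroup G) = pCore p G := by
    rw [← Op_top]
    refine le_antisymm (Fit_le_of_Op_le fun q hq => ?_) (Op_le_Fit p ⊤)
    by_cases e : q = p
    · exact e ▸ le_rfl
    haveI := Fact.mk hq
    by_contra h3
    obtain ⟨S, hS⟩ := exists_sylIn p (⊤ : Subgroup G)
    obtain ⟨z, hz, b1, b2⟩ := exists_fixed_orderOf hS.isP (isPGroup_Op p ⊤) (le_normalizer_Op_of_le le_top) h0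
    obtain ⟨n, hn⟩ := hS.isP.exists_card_eq
    have b3 := (le_centralizer_of_nilpotent_of_coprime (hCN z (ne_one_of_orderOf_eq b1)) b2 (le_centralizer_singleton_iff.2
      (Comp.centralizer_mono (Op_le_Opp e ⊤) (Op_le_centralizer_Opp p ⊤ hz)))
      (hn ▸ (coprime_of_isPGroup_of_ne e (isPGroup_Op q ⊤)).symm.pow_left n)).trans
      (le_fit hCN (fun h => h3 (h.le.trans bot_le)) (le_normalizer_Op_of_le le_rfl))
    exact h1 (le_antisymm ((le_Op_of_isNilpotent (isNilpotent_Fit ⊤) b3 hS.isP).trans (Op_Fit ⊤).le) hS.Op_le ▸ hS)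
  rw [Op_top] at h0 h1
  have hF : IsPGroup p (pCore p G) := Op_top (G := G) p ▸ isPGroup_Op p ⊤
  obtain ⟨A, hA⟩ := BG.exists_hallIn (M := (⊤ : Subgroup G)) inferInstance {p}ᶜ
  have a0 := BG.piN_compl_singleton.1 hA.isPi
  have a1 : ∀ a ∈ A, a ≠ 1 → pCore p G ⊓ centralizer {a} = ⊥ := fun a ha e => by
    obtain ⟨n, hn⟩ := hF.exists_card_eq
    rw [← h2]; refine fpf hCN e ?_
    rw [h2, hn]; exact (a0.coprime_dvd_left (Solv.orderOf_dvd_card_of_mem ha)).pow_right n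
  obtain ⟨f, hf⟩ : ∃ f, f = QuotientGroup.mk' (pCore p G) := ⟨_, rfl⟩
  have f1 : Function.Surjective f := hf ▸ QuotientGroup.mk'_surjective _
  have f2 : f.ker = pCore p G := hf ▸ QuotientGroup.ker_mk' _
  have hQ := S1473.result hCN (pCore p G) inferInstance
  have hB := hA.map f
  rw [map_top_of_surjective f f1] at hB
  have b0 := BG.piN_compl_singleton.1 hB.isPi
  have b1 : Fit ⊤ ≤ A.map f := (Fit_le_Op_sup_Opp (p := p) ⊤).trans (sup_le (by rw [Op_top, pCore_quotient]; exact bot_le)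
    (BG.Opi_compl_singleton (p := p) (⊤ : Subgroup (G ⧸ pCore p G)) ▸ hB.Opi_le))
  have b2 : ∀ x : G ⧸ pCore p G, x ≠ 1 → PiE {p} x → Fit ⊤ ⊓ centralizer {x} = ⊥ := fun x c1 c2 => by
    obtain ⟨k, hk⟩ := (piE_singleton hp).1 c2
    exact fpf hQ c1 (hk ▸ (b0.coprime_dvd_left (card_dvd_of_le b1)).symm.pow_left k)
  obtain ⟨x, hx⟩ : ∃ x : G ⧸ pCore p G, orderOf x = p := exists_prime_orderOf_dvd_card' p (by_contra fun h =>
    h1 (sylIn_of_not_dvd le_top hF (by rwa [relIndex_top_right])))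
  have b3 : (⊤ : Subgroup (G ⧸ pCore p G)) ≠ ⊥ := fun e => ne_one_of_orderOf_eq hx (mem_bot.1 (e.le (mem_top x)))
  have b4 : Function.Injective (f.comp A.subtype) := (injective_iff_map_eq_one _).2 fun a ha =>
    Subtype.ext (mem_bot.1 ((Comp.inf_eq_bot_of_isPGroup hF a0).le (mem_inf.2 ⟨f2.le ha, a.2⟩)))
  have b5 : ¬ 2 ∣ Nat.card (Fit (⊤ : Subgroup (G ⧸ pCore p G))) := fun h => by
    obtain ⟨s, hs, c1⟩ := exists_subgroup_card_prime Nat.prime_two h
    have c2 : ∀ s ∈ A.map f, orderOf s = 2 → ∃ t ∈ A, orderOf t = 2 ∧ f t = s := by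
      rintro _ ⟨t, ht, rfl⟩ e
      exact ⟨t, ht, by rw [← e]; exact (orderOf_coe (⟨t, ht⟩ : A)).trans (orderOf_injective _ b4 ⟨t, ht⟩).symm, rfl⟩
    obtain ⟨t, ht, c3, c4⟩ := c2 s (b1 hs) c1
    obtain ⟨u, hu, c5, c6⟩ := c2 _ (b1 (Solv.conj_mem_of_mem_normalizer (le_normalizer_Fit_of_le le_top (mem_top x)) hs))
      ((MulEquiv.orderOf_eq (MulAut.conj x) s).trans c1)
    rw [invol_unique_of_fpf le_normalizer_of_normal a1 h0 ht hu c3 c5, c4] at c6
    exact ne_one_of_orderOf_prime (c1 ▸ Nat.prime_two) (eq_one_of_fpf (b2 x (ne_one_of_orderOf_eq hx)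
      ((piE_singleton hp).2 ⟨1, by rw [hx, pow_one]⟩)) hs (mul_inv_eq_iff_eq_mul.1 c6.symm))
  have b6 : (A ⊓ (Fit ⊤).comap f).map f = Fit ⊤ := by rw [inf_comm]; exact map_comap_inf f b1
  have b7 : Nat.card (A ⊓ (Fit ⊤).comap f : Subgroup G) = Nat.card (Fit (⊤ : Subgroup (G ⧸ pCore p G))) := by
    conv_rhs => rw [← b6, ← map_subgroupOf_eq_of_le (inf_le_left : A ⊓ _ ≤ A), map_map, card_map_of_injective b4,
      Comp.card_subgroupOf inf_le_left]
  have b8 := cyc hCN le_normalizer_of_normal (fpf_mono le_rfl inf_le_left a1) h0 (b7 ▸ b5)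
  have b9 : ⁅⊤, ⊤⁆ ≤ A.map f := ((le_inf le_top (commutator_le_centralizer_of_isCyclic (b6 ▸ BG.isCyclic_map f b8)
    (le_normalizer_Fit_of_le le_rfl))).trans (inf_centralizer_Fit_le_of_isSolvable inferInstance)).trans b1
  have c1 : ⊤ ≤ normalizer ((A.map f : Subgroup _) : Set (G ⧸ pCore p G)) :=
    le_normalizer_iff_commutator_le_left.2 ((commutator_mono le_top le_rfl).trans b9)
  have c2 : A.map f = Fit ⊤ := le_antisymm (le_Fit le_top c1 (Solv.isNilpotent_map _ (nil hCN le_normalizer_of_normal a1 h0))) b1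
  have c3 : A ⊓ (Fit ⊤).comap f = A := inf_eq_left.2 (map_le_iff_le_comap.1 c2.le)
  rw [c3] at b7 b8
  have c4 : pCore p G ⊔ A = (A.map f).comap f := by rw [comap_map_eq, f2, sup_comm]
  refine ⟨A, ?_⟩
  rw [c4]
  refine ⟨fun e => BG.Fit_ne_bot inferInstance b3 (by rw [← c2, e, Subgroup.map_bot]), b8,
    Nat.not_even_iff_odd.1 (by rwa [even_iff_two_dvd, b7]), a0, (Comp.normal_iff_top_le_normalizer.2 c1).comap f, fun e => ?_, ?_, a1,
    fun y hy a ha d1 d2 => ?_⟩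
  · rw [← map_comap_eq_self_of_surjective f1 (A.map f), e, map_top_of_surjective f f1] at b0
    exact coprime_iff_not_dvd.1 b0 (hx.symm.dvd.trans (Solv.orderOf_dvd_card_of_mem (mem_top x)))
  · rw [index_comap_of_surjective _ f1]
    exact (BG.piN_singleton index_ne_zero_of_finite).1 (by simpa using hB.index)
  obtain ⟨u, hu, v, -, d3, d4, d5⟩ := exists_piPart {p} (f y)
  have d6 : f y * f a = f a * f y := by
    rw [← f2, MonoidHom.mem_ker] at d2
    simpa [mul_inv_eq_iff_eq_mul] using d2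
  refine d1 (congrArg Subtype.val (b4 (a₁ := ⟨a, ha⟩) (a₂ := 1) ((eq_one_of_fpf (b2 u (fun e => hy ?_) d4)
    (c2.le (mem_map_of_mem f ha)) (BG.mem_C1.1 (zpowers_le.2 (BG.mem_C1.2 d6.symm) hu)).symm).trans (map_one _).symm)))
  rw [mem_comap, d3, e, one_mul]
  exact hB.mem_of_piN c1 (mem_top v) d5

end Cfsg.Agent.S1476
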