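import Cfsg.Statements.S4066
import Cfsg.Agent.Lib.Solv.Basic
import Cfsg.Agent.Lib.Comp.SylIn

set_option autoImplicit false
open Cfsg

namespace Cfsg.Agent.S4066

/-- Let G be a finite group in which the centralizer of every element meets each of its conjugates by elements outside its normalizer trivially. Then any two distinct Sylow p-subgroups of G, for any prime p, intersect trivially. -/
theorem result {G : Type*} [Group G] [Finite G] (hTI : ∀ x : G, Cfsg.IsTISubset (Subgroup.centralizer ({x} : Set G) : Set G))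
    {p : ℕ} [Fact p.Prime] (P Q : Sylow p G) (hPQ : P ≠ Q) : (P : Subgroup G) ⊓ (Q : Subgroup G) = ⊥ := by
  open Pointwise commutatorElement Subgroup in
  open Cfsg.Agent.Comp in
  by_contra h0
  obtain ⟨d, ⟨hd1, hd2⟩, hd⟩ := Solv.exists_ne_one_of_ne_bot h0
  have hP0 : (P : Subgroup G) ≠ ⊥ := fun h => h0 (le_bot_iff.1 (h ▸ inf_le_left))
  obtain ⟨z, hz1⟩ := ne_bot_iff_exists_ne_one.1 (inf_centralizer_ne_bot_of_isNilpotent P.isPGroup'.isNilpotent le_rfl le_normalizer hP0)
  have hz : (z : G) ≠ 1 := fun e => hz1 (Subtype.ext e)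
  have hPC : (P : Subgroup G) ≤ centralizer {(z : G)} := le_centralizer_singleton_iff.2 z.2.2
  obtain ⟨g, rfl⟩ := MulAction.exists_smul_eq G P Q
  have e : ((g • P : Sylow p G) : Subgroup G) = cj(g, (P : Subgroup G)) := by
    rw [Sylow.coe_subgroup_smul, cj_smul]
  have hg : g⁻¹ ∈ normalizer (centralizer ({(z : G)} : Set G) : Set G) := by
    by_contra h
    refine hd (hTI z _ h d (hPC hd1) (hPC ?_))
    rw [e] at hd2
    rw [inv_inv]; exact mem_cj.1 hd2
  have hQC : ((g • P : Sylow p G) : Subgroup G) ≤ centralizer {(z : G)} :=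
    e ▸ cj_le_of_mem hPC (by simpa using inv_mem hg)
  refine hPQ (Sylow.ext ((sylIn_top P).eq_of_le (sylIn_top _) fun x hx => ?_))
  have h1 : centralizer {(z : G)} ≤ normalizer (centralizer ({x} : Set G) : Set G) := by
    intro c hc
    by_contra h
    have hzx : (z : G) ∈ centralizer ({x} : Set G) :=
      mem_centralizer_singleton_iff.2 (mem_centralizer_singleton_iff.1 (hPC hx)).symm
    refine hz (hTI x c h z hzx ?_)
    rwa [mem_centralizer_singleton_iff.1 hc, mul_inv_cancel_right]
  set Z := centralizer ({x} : Set G) ⊓ centralizer (centralizer ({x} : Set G) : Set G) with hZ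
  have h2 : Z ≤ centralizer (Z : Set G) := inf_le_right.trans (centralizer_mono inf_le_left)
  have h3 : Z ≤ centralizer {(z : G)} := inf_le_right.trans (centralizer_le (Set.singleton_subset_iff.2
    (mem_centralizer_singleton_iff.2 (mem_centralizer_singleton_iff.1 (hPC hx)).symm)))
  have h4 : zpowers x ≤ Op p Z := le_Op_of_isNilpotent (isNilpotent_of_le_centralizer h2)
    (zpowers_le.2 ⟨mem_centralizer_singleton_iff.2 rfl, fun c hc => mem_centralizer_singleton_iff.1 hc⟩)
    (P.isPGroup'.to_le (zpowers_le.2 hx))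
  refine (sylIn_of_sylow_le _ hQC).le_of_normalizer' (isPGroup_Op p Z) ((FClass.radOf_le _ _).trans h3)
    (hQC.trans (FClass.le_normalizer_radOf _ (le_normalizer_inf h1 (le_normalizer_centralizer h1)))) (h4 (mem_zpowers x))

end Cfsg.Agent.S4066
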