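import Cfsg.Statements.S0014
import Cfsg.Agent.Lib.Solv.Prim

set_option autoImplicit false
open Cfsg

namespace Cfsg.Agent.S0014

/-- Burnside's basis Theorem: in a finite p-group whose Frattini quotient has order p ^ n, every generating set contains n elements that already generate, and no set with fewer than n elements generates. -/
theorem result {G : Type*} [Group G] [Finite G] (p n : ℕ) [Fact p.Prime]
    (hG : IsPGroup p G) (hn : (frattini G).index = p ^ n) :
    (∀ S : Finset G, Subgroup.closure (S : Set G) = ⊤ → ∃ T : Finset G, T ⊆ S ∧ T.card = n ∧ Subgroup.closure (T : Set G) = ⊤) ∧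
    (∀ T : Finset G, Subgroup.closure (T : Set G) = ⊤ → n ≤ T.card) := by
  open Pointwise commutatorElement Subgroup Cfsg.Agent.Solv in
  classical
  have h1 : ∀ (T : Set G) (a : G), frattini G ⊔ closure (insert a T) = (frattini G ⊔ closure T) ⊔ zpowers a := by
    intro T a
    rw [Set.insert_eq, Subgroup.closure_union, ← zpowers_eq_closure, sup_comm (zpowers a), sup_assoc]
  have h2 : ∀ (L : Subgroup G) (a : G), frattini G ≤ L → a ∉ L → L.relIndex (L ⊔ zpowers a) = p := fun L a h3 h4 =>
    relIndex_sup_zpowers_of_prime Fact.out (le_normalizer_of_commutator_le_of_le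
      ((commutator_mono le_top le_rfl).trans (commutator_le_frattini_of_isPGroup hG)) h3 (mem_top a)) h4
      (h3 (pow_mem_frattini hG a))
  have hp : 1 < p := (Fact.out : p.Prime).one_lt
  refine ⟨fun S hS => ?_, fun T hT => ?_⟩
  · have h3 : ∀ k ≤ n, ∃ T ⊆ S, T.card = k ∧ (frattini G).relIndex (frattini G ⊔ closure (T : Set G)) = p ^ k := by
      intro k
      induction k with
      | zero => exact fun _ => ⟨∅, Finset.empty_subset _, rfl, by simp⟩
      | succ k ih =>
        intro hk
        obtain ⟨T, h4, h5, h6⟩ := ih (by omega)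
        obtain ⟨a, ha, h7⟩ : ∃ a ∈ S, a ∉ frattini G ⊔ closure (T : Set G) := by
          by_contra hc
          push Not at hc
          have h7 : frattini G ⊔ closure (T : Set G) = ⊤ := top_le_iff.1 (hS ▸ (closure_le _).2 hc)
          rw [h7, relIndex_top_right, hn, Nat.pow_right_inj hp] at h6
          omega
        refine ⟨insert a T, Finset.insert_subset ha h4, by
          rw [Finset.card_insert_of_notMem fun e => h7 (mem_sup_right (subset_closure e)), h5], ?_⟩
        rw [Finset.coe_insert, h1, ← relIndex_mul_relIndex _ _ _ le_sup_left le_sup_left, h6, h2 _ _ le_sup_left h7,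
          pow_succ]
    obtain ⟨T, h4, h5, h6⟩ := h3 n le_rfl
    refine ⟨T, h4, h5, eq_top_of_sup_le_frattini le_rfl (sup_comm (frattini G) _ ▸ index_eq_one.1 ?_)⟩
    have := relIndex_mul_index (le_sup_left : frattini G ≤ frattini G ⊔ closure (T : Set G))
    rw [h6, hn] at this
    exact Nat.eq_of_mul_eq_mul_left (by positivity) (this.trans (mul_one _).symm)
  · have h3 : ∀ T : Finset G, (frattini G).relIndex (frattini G ⊔ closure (T : Set G)) ∣ p ^ T.card := by
      intro T
      induction T using Finset.induction_on with
      | empty => simp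
      | insert a T ha ih =>
        rw [Finset.coe_insert, h1, ← relIndex_mul_relIndex _ _ _ le_sup_left le_sup_left,
          Finset.card_insert_of_notMem ha, pow_succ]
        refine mul_dvd_mul ih ?_
        by_cases h4 : a ∈ frattini G ⊔ closure (T : Set G)
        · rw [sup_eq_left.2 (zpowers_le.2 h4), relIndex_self]; exact one_dvd _
        · rw [h2 _ _ le_sup_left h4]
    have := h3 T
    rwa [hT, sup_top_eq, relIndex_top_right, hn, Nat.pow_dvd_pow_iff_le_right hp] at this

end Cfsg.Agent.S0014
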