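import Cfsg.Statements.S4207
import Cfsg.Agent.Lib.Solv.FrobCount
import Cfsg.Agent.S0014

set_option autoImplicit false
open Cfsg

namespace Cfsg.Agent.S4207

/-- Let `P` be a group of order `p^n` whose Frattini subgroup has index `p^r`. Then any group of automorphisms of `P` each of which induces the identity on the Frattini quotient has order dividing `p^(r(n-r))`; in particular it is a `p`-group. -/
theorem result {P : Type*} [Group P] [Finite P] {p n r : ℕ} [Fact p.Prime] (hP : Nat.card P = p ^ n) (hr : (frattini P).index = p ^ r) (A : Subgroup (MulAut P)) (hA : ∀ α ∈ A, ∀ x : P, α x * x⁻¹ ∈ frattini P) : Nat.card A ∣ p ^ (r * (n - r)) := by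
  open Pointwise commutatorElement Subgroup Cfsg.Agent.Solv in
  open Cfsg.Agent.Transfer in
  classical
  have := Fintype.ofFinite P
  obtain ⟨T, -, h1, h2⟩ := (S0014.result p r (IsPGroup.of_card hP) hr).1 Finset.univ (by simp)
  have h3 : Nat.card {f : T → P // ∀ t, f t * (t : P)⁻¹ ∈ frattini P} = p ^ (r * (n - r)) := by
    rw [Nat.card_congr (Equiv.subtypePiEquivPi (p := fun (t : T) x => x * (t : P)⁻¹ ∈ frattini P)), Nat.card_pi,
      Finset.prod_congr rfl (g := fun _ => p ^ (n - r)) fun t _ => ?_]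
    · simp [h1, ← pow_mul, mul_comm]
    have h3 := (frattini P).card_mul_index
    rw [hP, hr] at h3
    have h4 : r ≤ n := (Nat.pow_dvd_pow_iff_le_right (Fact.out : p.Prime).one_lt).1 (Dvd.intro_left _ h3)
    rw [← Nat.pow_div h4 (Fact.out : p.Prime).pos, ← h3, Nat.mul_div_cancel _ (pow_pos (Fact.out : p.Prime).pos _)]
    exact cnt_eq_of_bij (fun x => x * (t : P)⁻¹) (fun _ h => h) (fun _ _ _ _ h => mul_right_cancel h)
      fun y hy => ⟨y * t, by simpa, by simp⟩
  rw [← h3]
  refine dvd_cnt_of_action A (fun α hα f hf t => ?_) fun f hf => ?_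
  · simpa [mul_assoc] using mul_mem (hA α hα (f t)) (hf t)
  rw [show MulAction.stabilizer (MulAut P) f = ⊥ from eq_bot_iff.2 fun α hα => ?_, relIndex_bot_left]
  have h4 : MonoidHom.eqLocus α.toMonoidHom (MonoidHom.id P) = ⊤ := eq_top_of_sup_le_frattini le_rfl (eq_top_iff.2 (by
    rw [← h2, closure_le]
    intro t ht
    have h4 : f ⟨t, ht⟩ ∈ MonoidHom.eqLocus α.toMonoidHom (MonoidHom.id P) := congrFun hα ⟨t, ht⟩
    simpa using mul_mem (mem_sup_right (inv_mem (hf ⟨t, ht⟩))) (mem_sup_left h4)))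
  exact MulEquiv.ext fun x => (h4.ge (mem_top x) :)

end Cfsg.Agent.S4207
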