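import Cfsg.Statements.S0120
import Cfsg.Agent.Lib.Transfer.ZJ
import Cfsg.Agent.Lib.Transfer.Hol

set_option autoImplicit false
open Cfsg

namespace Cfsg.Agent.S0120

set_option linter.unusedSectionVars false
set_option linter.unusedVariables false
set_option linter.style.haveILetI false
set_option linter.unusedSimpArgs false

open Subgroup Cfsg.Agent.Transfer

/-- For odd p, a p'-automorphism of a p-group acting trivially on the elements of order dividing p is trivial. -/
theorem result {G : Type*} [Group G] [Finite G] {p : ℕ} [Fact p.Prime] (hp : p ≠ 2) (hG : IsPGroup p G) (a : MulAut G) (ha : Nat.Coprime (orderOf a) p) (h : ∀ x : G, x ^ p = 1 → a x = x) : a = 1 := by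
  refine hr_eq_one_of_mem_centralizer (mem_centralizer_of_omega hp
    (by rwa [orderOf_injective _ hr_injective]) _ ((hG.to_subgroup ⊤).map _)
    (hr_mem_normalizer_char a ⊤) ?_)
  rintro _ ⟨x, -, rfl⟩ hx
  exact (hol_commute_iff.2 (h x (hl_injective (by rw [map_pow, hx, map_one])))).symm

end Cfsg.Agent.S0120
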