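import Cfsg.Statements.S0204
import Cfsg.Agent.Lib.FT.Cor
import Cfsg.Agent.Lib.Transfer.ZStar

set_option autoImplicit false
open Cfsg

namespace Cfsg.Agent.S0204

open Cfsg.Agent.Char

/-- A non-cyclic finite simple group contains a subgroup which is a Klein four-group; this combines the Odd Order Theorem, Burnside's transfer argument for cyclic Sylow 2-subgroups and the Brauer–Suzuki Theorem. -/
theorem result {G : Type*} [Group G] [Finite G] [IsSimpleGroup G] (hG : ¬ IsCyclic G) : ∃ E : Subgroup G, IsKleinFour E := by
  by_contra h
  have hev : Even (Nat.card G) := by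
    rcases Nat.even_or_odd (Nat.card G) with h1 | h1
    · exact h1
    · have := PF.odd_solvable h1
      letI : CommGroup G := { (inferInstance : Group G) with
        mul_comm := IsSimpleGroup.comm_iff_isSolvable.2 this }
      exact absurd (IsSimpleGroup.isCyclic) hG
  obtain ⟨t, -, ht⟩ := Transfer.exists_invol_mem (H := (⊤ : Subgroup G)) (by rwa [Subgroup.card_top])
  have hU : ∀ a b : G, orderOf a = 2 → orderOf b = 2 → Commute a b → a = b := by
    intro a b ha hb hab
    by_contra hne
    exact h ⟨_, Transfer.klein_closure ha hb hne hab⟩
  have := Transfer.not_isolated_of_simple (Transfer.isolated_of_uniq hU ht)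
  exact hG ⟨t, fun x => by
    have : x ∈ Subgroup.zpowers t := this ▸ Subgroup.mem_top x
    exact this⟩

end Cfsg.Agent.S0204
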