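import Cfsg.Statements.S0414
import Cfsg.Agent.Lib.Steiner.Aut

set_option autoImplicit false
open Cfsg

namespace Cfsg.Agent.S0414

set_option linter.unusedSectionVars false
set_option linter.unusedVariables false
set_option linter.style.haveILetI false
set_option linter.unusedSimpArgs false

open Cfsg.Agent.Steiner Cfsg.Agent.Spor Finset

/-- Aut of an S(3, 6, 22) has order 887040, is 3-transitive, and contains a simple subgroup of index 2. -/
theorem result {α : Type*} [Fintype α] [DecidableEq α] (hα : Fintype.card α = 22) {B : Set (Finset α)} (hB : Cfsg.IsSteinerSystem 3 6 B) : Nat.card (Cfsg.setSystemAut B) = 887040 ∧ MulAction.IsMultiplyPretransitive (Cfsg.setSystemAut B) α 3 ∧ ∃ H : Subgroup (Cfsg.setSystemAut B), H.index = 2 ∧ Cfsg.IsM22 H := by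
  obtain ⟨j, h⟩ := emb22 hα hB (I := {gp 23, gp 0}) (card_pair gp_ne)
  obtain ⟨e⟩ := h.equiv (MulAction.stabilizer M24 (gp 23) ⊓ MulAction.stabilizer M24 (gp 0)) (by simp)
  have e' := (e.trans (Subgroup.subgroupOfEquivOfLe inf_le_left).symm).trans
    (MulEquiv.subgroupCongr (Subgroup.inf_subgroupOf_left _ _))
  have := simple22
  have hc := (Nat.card_congr e'.toEquiv).symm.trans card22
  refine ⟨?_, h.trans (by rw [card_pair gp_ne]), _, h.index22, e'.symm.isSimpleGroup, hc⟩
  rw [← Subgroup.card_mul_index ((M24.comap (ψ j)).subgroupOf (setSystemAut B)), h.index22, hc]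

end Cfsg.Agent.S0414
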