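import Cfsg.Statements.S0428
import Cfsg.Agent.Lib.Steiner.HS

set_option autoImplicit false
open Cfsg

namespace Cfsg.Agent.S0428

set_option linter.unusedSectionVars false
set_option linter.unusedVariables false
set_option linter.style.haveILetI false
set_option linter.unusedSimpArgs false

open Cfsg.Agent.Steiner

/-- The point-block graph of an S(3, 6, 22) is strongly regular with parameters (100, 22, 0, 6). -/
theorem result {α : Type*} [Fintype α] (hα : Fintype.card α = 22) {B : Set (Finset α)} (hB : Cfsg.IsSteinerSystem 3 6 B) [Fintype B] [DecidableRel (Cfsg.pointBlockGraph B).Adj] : (Cfsg.pointBlockGraph B).IsSRGWith 100 22 0 6 := by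
  classical
  have h22 : (Set.univ : Set α).ncard = 22 := by rw [Set.ncard_univ, Nat.card_eq_fintype_card, hα]
  have h6 : ∀ b : B, {a | a ∈ b.1}.ncard = 6 := fun b => (Set.ncard_coe_finset b.1).trans (hB.1 b b.2)
  have hpb : ∀ (a : α) (b : B), {c : B | a ∈ c.1 ∧ Disjoint b.1 c.1}.ncard = if a ∈ b.1 then 0 else 6 := by
    intro a b
    split_ifs with h
    · rw [Set.ncard_eq_zero]
      exact Set.eq_empty_of_forall_notMem fun c hc => Finset.disjoint_left.mp hc.2 h hc.1
    · exact (ncard_sub fun d => a ∈ d ∧ Disjoint b.1 d).trans (n6 hα hB b.2 h)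
  refine srg_of ?_ (fun v => ?_) fun v w h => ?_
  · have := (ncard_sub fun _ => True).trans (n77 hα hB)
    rw [ncard_opt]
    simp only [Set.mem_univ, Set.setOf_true, if_true] at this ⊢
    rw [this, h22]
  · rw [ncard_opt]
    rcases v with _ | a | b
    · simp [pb_np, pb_nb, hα]
    · have := (ncard_sub (a ∈ ·)).trans (n21 hα hB a)
      simp [pb_pn, pb_pp, pb_pb, this]
    · have := (ncard_sub (Disjoint b.1 ·)).trans (n16 hα hB b.2)
      simp only [Set.mem_setOf_eq, pb_bn, pb_bp, pb_bb hB, this, h6, if_false]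
  · rw [ncard_opt]
    rcases v with _ | a | b <;> rcases w with _ | a' | b'
    · exact absurd rfl h
    · simp [pb_np, pb_nb, pb_pp]
    · simp only [Set.mem_setOf_eq, pb_nn, pb_np, pb_nb, pb_bp, true_and, false_and, h6]; simp
    · simp [pb_pn, pb_nb, pb_pp]
    · have := (ncard_sub fun d => a ∈ d ∧ a' ∈ d).trans (n5 hα hB (by simpa using h))
      simp only [Set.mem_setOf_eq, pb_pn, pb_pp, pb_pb, this]; simp
    · simp only [Set.mem_setOf_eq, pb_bn, pb_pp, pb_pb, pb_bb hB, hpb]; simp
    · simp only [Set.mem_setOf_eq, pb_nn, pb_np, pb_nb, pb_bn, pb_bp, and_true, and_false, h6]; simp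
    · simp only [Set.mem_setOf_eq, pb_bn, pb_pp, pb_pb, pb_bp, pb_bb hB, and_comm (a := Disjoint _ _), hpb]; simp
    · have hne : b.1 ≠ b'.1 := fun h' => h (by rw [Subtype.ext h'])
      have h1 := (ncard_sub fun d => Disjoint b.1 d ∧ Disjoint b'.1 d).trans (n2i hα hB b.2 b'.2 hne)
      have h2 : {a | a ∈ b.1 ∧ a ∈ b'.1}.ncard = if Disjoint b'.1 b.1 then 0 else 2 := by
        rw [← two_or hα hB b'.2 b.2 hne, ← Set.ncard_coe_finset]; congr 1; ext; simp
      simp only [disjoint_comm (a := b'.1) (b := b.1)] at h2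
      simp only [Set.mem_setOf_eq, pb_bn, pb_bp, pb_bb hB, h1, h2]
      by_cases h3 : Disjoint b.1 b'.1 <;> simp [h3]

end Cfsg.Agent.S0428
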