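import Cfsg.Statements.S0430
import Cfsg.Agent.Lib.Steiner.HS2
import Cfsg.Agent.S0410

set_option autoImplicit false
open Cfsg

namespace Cfsg.Agent.S0430

set_option linter.unusedSectionVars false
set_option linter.unusedVariables false
set_option linter.style.haveILetI false
set_option linter.unusedSimpArgs false

open Cfsg.Agent.Steiner

/-- Uniqueness of the strongly regular graph with parameters (100, 22, 0, 6). -/
theorem result {V W : Type*} [Fintype V] [Fintype W] {G : SimpleGraph V} {H : SimpleGraph W} [DecidableRel G.Adj] [DecidableRel H.Adj] (hG : G.IsSRGWith 100 22 0 6) (hH : H.IsSRGWith 100 22 0 6) : Nonempty (G ≃g H) := by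
  classical
  obtain ⟨x⟩ : Nonempty V := Fintype.card_pos_iff.mp (by rw [hG.card]; norm_num)
  obtain ⟨y⟩ : Nonempty W := Fintype.card_pos_iff.mp (by rw [hH.card]; norm_num)
  obtain ⟨B, h1, h2, ⟨e⟩⟩ := srg100 hG x
  obtain ⟨B', h1', h2', ⟨e'⟩⟩ := srg100 hH y
  obtain ⟨f⟩ := pb_iso h2 h2' (S0410.result h1 h1' h2 h2')
  exact ⟨(e.symm.trans f).trans e'⟩

end Cfsg.Agent.S0430
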