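import Cfsg.Statements.S1584
import Cfsg.Agent.Lib.Leech.HS

set_option autoImplicit false
open Cfsg

namespace Cfsg.Agent.S1584

set_option linter.unusedSectionVars false
set_option linter.unusedVariables false
set_option linter.style.haveILetI false
set_option linter.unusedSimpArgs false

open Cfsg.Agent.Leech in

/-- The Higman–Sims group acts with rank 3 and subdegrees 1, 22, 77 on its 100 points, the orbits of a point stabiliser being distinguished by customary inner product 1 with the fixed point. -/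
theorem result (v w x : ↥Cfsg.leechLattice) (hv : Cfsg.sqNorm (v : Cfsg.GolayPt → ℤ) = 48) (hw : Cfsg.sqNorm (w : Cfsg.GolayPt → ℤ) = 48) (hvw : Cfsg.dotInt (v : Cfsg.GolayPt → ℤ) (w : Cfsg.GolayPt → ℤ) = -32) (hx : x ∈ {x : ↥Cfsg.leechLattice | Cfsg.sqNorm (x : Cfsg.GolayPt → ℤ) = 32 ∧ Cfsg.dotInt (v : Cfsg.GolayPt → ℤ) (x : Cfsg.GolayPt → ℤ) = 24 ∧ Cfsg.dotInt (w : Cfsg.GolayPt → ℤ) (x : Cfsg.GolayPt → ℤ) = -24}) : {y : ↥Cfsg.leechLattice | y ∈ {x : ↥Cfsg.leechLattice | Cfsg.sqNorm (x : Cfsg.GolayPt → ℤ) = 32 ∧ Cfsg.dotInt (v : Cfsg.GolayPt → ℤ) (x : Cfsg.GolayPt → ℤ) = 24 ∧ Cfsg.dotInt (w : Cfsg.GolayPt → ℤ) (x : Cfsg.GolayPt → ℤ) = -24} ∧ Cfsg.dotInt (x : Cfsg.GolayPt → ℤ) (y : Cfsg.GolayPt → ℤ) = 8}.ncard = 22 ∧ {y : ↥Cfsg.leechLattice | y ∈ {x : ↥Cfsg.leechLattice | Cfsg.sqNorm (x : Cfsg.GolayPt → ℤ) = 32 ∧ Cfsg.dotInt (v : Cfsg.GolayPt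 → ℤ) (x : Cfsg.GolayPt → ℤ) = 24 ∧ Cfsg.dotInt (w : Cfsg.GolayPt → ℤ) (x : Cfsg.GolayPt → ℤ) = -24} ∧ y ≠ x ∧ Cfsg.dotInt (x : Cfsg.GolayPt → ℤ) (y : Cfsg.GolayPt → ℤ) ≠ 8}.ncard = 77 ∧ ∀ y ∈ {x : ↥Cfsg.leechLattice | Cfsg.sqNorm (x : Cfsg.GolayPt → ℤ) = 32 ∧ Cfsg.dotInt (v : Cfsg.GolayPt → ℤ) (x : Cfsg.GolayPt → ℤ) = 24 ∧ Cfsg.dotInt (w : Cfsg.GolayPt → ℤ) (x : Cfsg.GolayPt → ℤ) = -24}, ∀ y' ∈ {x : ↥Cfsg.leechLattice | Cfsg.sqNorm (x : Cfsg.GolayPt → ℤ) = 32 ∧ Cfsg.dotInt (v : Cfsg.GolayPt → ℤ) (x : Cfsg.GolayPt → ℤ) = 24 ∧ Cfsg.dotInt (w : Cfsg.GolayPt → ℤ) (x : Cfsg.GolayPt → ℤ) = -24}, y ≠ x → y' ≠ x → (Cfsg.dotInt (x : Cfsg.GolayPt → ℤ) (y : Cfsg.GolayPt → ℤ) = 8 ↔ Cfsg.dotInt (x : Cfsg.GolayPt → ℤ) (y' : Cfsg.GolayPt → ℤ) = 8) → ∃ g : ↥Cfsg.Co0, g • v = v ∧ g • w = w ∧ g • x = x ∧ g • y = y' := by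
  obtain ⟨g, e1, e2, e3⟩ := to_233x v (-w) x hv ((norm_neg' w).trans hw) hx.1
    (by rw [dot_comm, dot_neg_left, dot_comm, hvw]; rfl) hx.2.1 (by rw [dot_neg_left, hx.2.2]; rfl)
  have k : ∀ x : L, (sqNorm (x : V) = 32 ∧ dotInt (v : V) x = 24 ∧ dotInt (w : V) x = -24) ↔ g • x ∈ S100 := fun x => by
    simp only [S100, Set.mem_setOf_eq, norm_smul, dot_of e1 rfl, dot_of e2 rfl, dot_neg_left, neg_eq_iff_eq_neg]
  have l : ∀ y : L, g • y ∈ S100 → (dotInt (x : V) y = 8 ↔ ((g • y : L).1 pa).toNat = 1) ∧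
      (y ≠ x ∧ dotInt (x : V) y ≠ 8 ↔ ((g • y : L).1 pa).toNat = 2) := fun y hy => by
    have a := dot_of e3 (rfl : g • y = _)
    have b : y = x ↔ g • y = X0 := by rw [← e3, smul_left_cancel_iff]
    have c : g • y = X0 → (g • y : L).1 pa = 4 := fun e => by rw [e]; rfl
    rw [dX0] at a
    obtain ⟨d, ⟨p, q⟩ | ⟨p, -⟩ | ⟨p, -⟩⟩ := cls100 hy
    · exact ⟨by omega, ⟨fun e => absurd (b.2 q) e.1, by omega⟩⟩
    · exact ⟨by omega, ⟨by omega, fun _ => ⟨fun e => by have := c (b.1 e); omega, by omega⟩⟩⟩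
    · exact ⟨by omega, ⟨by omega, by omega⟩⟩
  simp only [Set.mem_setOf_eq, k]
  refine ⟨?_, ?_, fun y hy z hz h1 h2 h3 => ?_⟩
  · refine Eq.trans ?_ ((ncard_smul g _).trans (cnt100 1 (by decide)))
    congr 1; ext y; exact and_congr_right fun h => (l y h).1
  · refine Eq.trans ?_ ((ncard_smul g _).trans (cnt100 2 (by decide)))
    congr 1; ext y; exact and_congr_right fun h => (l y h).2
  · obtain ⟨a, ha, e⟩ := conj100 hy hz (by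
      have a := l y hy
      have b := l z hz
      simp only [h1, h2, ne_eq, not_false_iff, true_and] at a b
      omega)
    have := (stab3_conj e1 e2 e3 (g⁻¹ * a * g)).2 (by simpa [mul_assoc, KHS] using KHS_stab.ge ha)
    exact ⟨_, this.1.1, (stab_neg w).le this.1.2, this.2, by rw [mul_smul, mul_smul, e, inv_smul_smul]⟩

end Cfsg.Agent.S1584
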