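import Cfsg.Statements.S5613
import Cfsg.Agent.Lib.Spor.Key2
import Cfsg.Agent.S1556

set_option autoImplicit false
open scoped Pointwise
open Cfsg

namespace Cfsg.Agent.S5613

open Cfsg.Agent.Spor Cfsg.Agent.PC MulAction
open scoped Pointwise
theorem key {o o' : Finset Cfsg.GolayPt} (ho : o ∈ Cfsg.octads) (ho' : o' ∈ Cfsg.octads) {i n k : ℕ} (hi : i < 32)
    (h : (o ∩ o').card = i) (hc : Nat.beq (cnt (clsC 8 0 0 13062145 0) (1 + i + 32 * 0) 4096) n = true) (hn : 0 < n)
    (hk : 322560 = n * k) : Nat.card ↥(stabilizer Cfsg.M24 o ⊓ stabilizer Cfsg.M24 o') = k := by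
  refine card_inf_stab ((card_stab_oct ho).trans hk) hn ?_
  rw [orbit_eq_of (S := {x | x ∈ Cfsg.octads ∧ (o ∩ x).card = i})]
  · obtain ⟨a, rfl⟩ := oct_trans (bset_oct (n := 13062145) (by decide +kernel)) ho
    rw [ncard_pre a]
    refine cntC 8 0 0 13062145 0 i 0 (by norm_num) hi (fun s => ?_) hc
    simp only [Set.mem_setOf_eq, smul_mem_octads, ← Finset.smul_finset_inter, Finset.card_smul_finset]
    simp only [mem_octads, inter_bset_zero, bset_zero_inter, and_assoc, true_and, and_true]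
  · intro a ha
    refine ⟨(smul_mem_octads a).mpr ho', ?_⟩
    rw [← mem_stabilizer_iff.mp ha, ← Finset.smul_finset_inter, Finset.card_smul_finset, h]
  · intro y hy
    obtain ⟨g, hg, h1, h2⟩ := S1556.result o o' y ho ho' hy.1 (h.trans hy.2.symm)
    exact ⟨⟨g, hg⟩, h1, h2⟩

/-- In the group of the length-24 code, the joint stabiliser of two octads has order 10752, 1152 or 720 according as the octads meet in 0, 4 or 2 points. -/
theorem result (o o' : Finset Cfsg.GolayPt) (ho : o ∈ Cfsg.octads) (ho' : o' ∈ Cfsg.octads) : ((o ∩ o').card = 0 → Nat.card ↥(MulAction.stabilizer Cfsg.M24 o ⊓ MulAction.stabilizer Cfsg.M24 o') = 10752) ∧ ((o ∩ o').card = 4 → Nat.card ↥(MulAction.stabilizer Cfsg.M24 o ⊓ MulAction.stabilizer Cfsg.M24 o') = 1152) ∧ ((o ∩ o').card = 2 → Nat.card ↥(MulAction.stabilizer Cfsg.M24 o ⊓ MulAction.stabilizer Cfsg.M24 o') = 720) := by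
  exact ⟨fun h => key ho ho' (by norm_num) h (n := 30) (by decide +kernel) (by norm_num) (by norm_num),
    fun h => key ho ho' (by norm_num) h (n := 280) (by decide +kernel) (by norm_num) (by norm_num),
    fun h => key ho ho' (by norm_num) h (n := 448) (by decide +kernel) (by norm_num) (by norm_num)⟩

end Cfsg.Agent.S5613
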