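import Cfsg.Statements.S4219
import Cfsg.Agent.S3760
import Cfsg.Agent.Lib.Comp.SylIn

set_option autoImplicit false
open Cfsg

namespace Cfsg.Agent.S4219

/-- Let a finite group `G` act `t`-fold transitively on a finite set, let `H` be the stabilizer of `t` distinct points and `P` a Sylow `p`-subgroup of `H`. Then the normalizer of `P` in `G` is `t`-fold transitive on the fixed points of `P`: any `t` distinct fixed points of `P` can be carried to any other `t` distinct fixed points of `P` by an element normalizing `P`. -/
theorem result {G : Type*} [Group G] [Finite G] {α : Type*} [Fintype α] [MulAction G α] {t : ℕ} (hG : MulAction.IsMultiplyPretransitive G α t) (x : Fin t ↪ α) {p : ℕ} [Fact p.Prime] (P : Sylow p (MulAction.stabilizer G x)) (a b : Fin t ↪ α) (ha : ∀ i, a i ∈ MulAction.fixedPoints ((P : Subgroup (MulAction.stabilizer G x)).map (MulAction.stabilizer G x).subtype) α) (hb : ∀ i, b i ∈ MulAction.fixedPoints ((P : Subgroup (MulAction.stabilizer G x)).map (MulAction.stabilizer G x).subtype) α) : ∃ g ∈ Subgroup.normalizer ((((P : Subgroup (MulAction.stabilizer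 G x)).map (MulAction.stabilizer G x).subtype) : Subgroup G) : Set G), g • a = b := by
  open Pointwise commutatorElement Subgroup in
  open Cfsg.Agent.Comp in
  have hS := sylIn_sylow P
  refine (S3760.result (X := Fin t ↪ α) (fun a b => MulAction.exists_smul_eq G a b) x _ hS.le).2 ?_ a b ?_ ?_
  · intro g hg
    obtain ⟨h, hh, e⟩ := hS.exists_cj_eq (hS.of_card_le (isPGroup_cj_iff.2 hS.isP) hg (card_cj _ _).ge)
    exact ⟨h, hh, e.symm⟩
  · intro k hk
    ext i
    exact ha i ⟨k, hk⟩
  · intro k hk
    ext i
    exact hb i ⟨k, hk⟩

end Cfsg.Agent.S4219
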