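import Cfsg.Statements.S0695
import Mathlib
import Cfsg.Agent.Lib.Perm.Prim

set_option autoImplicit false
open Cfsg

namespace Cfsg.Agent.S0695

open Cfsg.Agent.Perm MulAction

/-- A regular normal subgroup of a doubly primitive group of finite degree at least 2 is an elementary abelian 2-group (and the degree is a power of 2), unless the degree is 3. -/
theorem result {G : Type*} [Group G] {X : Type*} [Fintype X] [MulAction G X] (hX : 2 ≤ Fintype.card X) (h2 : MulAction.IsMultiplyPreprimitive G X 2) (N : Subgroup G) [N.Normal] (htrans : MulAction.IsPretransitive N X) (hreg : ∀ x : X, MulAction.stabilizer N x = ⊥) : Fintype.card X = 3 ∨ (IsMulCommutative N ∧ (∀ n ∈ N, n ^ 2 = 1) ∧ ∃ m : ℕ, Fintype.card X = 2 ^ m) := by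
  have : Nontrivial X := Fintype.one_lt_card_iff_nontrivial.1 hX
  obtain ⟨a, b, hab⟩ := exists_pair_ne X
  have hcard : Nat.card N = Fintype.card X := by
    rw [card_eq_of_regular (hreg a), Nat.card_eq_fintype_card]
  have hfin : Finite N := Nat.finite_of_card_ne_zero (by omega)
  have key : (∀ n : N, n ^ 2 = 1) → IsMulCommutative N ∧ (∀ n ∈ N, n ^ 2 = 1) ∧ ∃ m : ℕ, Fintype.card X = 2 ^ m := by
    intro h
    refine ⟨⟨⟨comm_of_sq h⟩⟩, fun n hn => congrArg Subtype.val (h ⟨n, hn⟩), ?_⟩
    have hP : IsPGroup 2 N := fun x => ⟨1, by simpa using h x⟩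
    rw [← hcard]
    exact IsPGroup.iff_card.1 hP
  have hp := h2.isPreprimitive_ofFixingSubgroup (s := {a}) (by simp; rfl)
  rcases prim_rel (G := fixingSubgroup G ({a} : Set X)) (α := SubMulAction.ofFixingSubgroup G ({a} : Set X))
    (fun x y => x = y ∨ ∃ n : N, n • a = x ∧ n⁻¹ • a = y)
    ⟨fun _ => Or.inl rfl, by
      rintro x y (h | ⟨n, h1, h2⟩)
      · exact Or.inl h.symm
      · exact Or.inr ⟨n⁻¹, h2, by simpa using h1⟩, by
      rintro x y z (h | ⟨n, h1, h2⟩) (h' | ⟨m, h3, h4⟩)
      · exact Or.inl (h.trans h')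
      · exact Or.inr ⟨m, h ▸ h3, h4⟩
      · exact Or.inr ⟨n, h1, h' ▸ h2⟩
      · left
        have := eq_of_smul_eq_of_stab_bot (hreg a) (h2.trans h3.symm)
        apply Subtype.ext
        rw [← h1, ← h4, ← this, inv_inv]⟩ (by
      rintro g x y (h | ⟨n, h1, h2⟩)
      · exact Or.inl (h ▸ rfl)
      · have hg : (g : G)⁻¹ • a = a := by
          rw [inv_smul_eq_iff]; exact ((mem_fixingSubgroup_iff G).1 g.2 a rfl).symm
        refine Or.inr ⟨⟨g * n * (g : G)⁻¹, Subgroup.Normal.conj_mem inferInstance _ n.2 _⟩, ?_, ?_⟩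
        · show ((g : G) * n * (g : G)⁻¹) • a = (g : G) • (x : X)
          rw [mul_smul, mul_smul, hg, ← h1]; rfl
        · show ((g : G) * n * (g : G)⁻¹)⁻¹ • a = (g : G) • (y : X)
          rw [← h2, mul_inv_rev, mul_inv_rev, inv_inv, mul_smul, mul_smul, hg]; rfl) with h | h
  · right
    apply key
    intro n
    by_cases hn : n = 1
    · simp [hn]
    have h1 : ∀ n : N, n ≠ 1 → n • a ∈ SubMulAction.ofFixingSubgroup G ({a} : Set X) := by
      intro n hn
      rw [SubMulAction.mem_ofFixingSubgroup_iff]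
      intro h
      exact hn (eq_of_smul_eq_of_stab_bot (hreg a) (k := 1) (by simpa using h))
    have := h ⟨_, h1 n hn⟩ ⟨_, h1 n⁻¹ (by simpa using hn)⟩ (Or.inr ⟨n, rfl, rfl⟩)
    have := eq_of_smul_eq_of_stab_bot (hreg a) (congrArg Subtype.val this)
    rw [sq]; nth_rewrite 1 [this]; simp
  · classical
    obtain ⟨n, hn⟩ := htrans.exists_smul_eq a b
    have h3 : Fintype.card X ≤ 3 := by
      have : (Finset.univ : Finset X) ⊆ {a, b, n⁻¹ • a} := by
        intro y _
        by_cases hy : y = a
        · simp [hy]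
        rcases h ⟨b, by simpa [SubMulAction.mem_ofFixingSubgroup_iff] using hab.symm⟩
          ⟨y, by simpa [SubMulAction.mem_ofFixingSubgroup_iff] using hy⟩ with h1 | ⟨m, h1, h2⟩
        · have : b = y := congrArg Subtype.val h1
          simp [this]
        · have := eq_of_smul_eq_of_stab_bot (hreg a) (h1.trans hn.symm)
          subst this
          simp only at h2
          simp [h2]
      exact (Finset.card_le_card this).trans Finset.card_le_three
    by_cases h4 : Fintype.card X = 3
    · exact Or.inl h4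
    · right
      apply key
      intro n
      rw [← show Nat.card N = 2 by omega, pow_card_eq_one']

end Cfsg.Agent.S0695
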