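import Cfsg.Statements.S0696
import Mathlib
import Cfsg.Agent.Lib.Perm.Prim
import Cfsg.Agent.S0695

set_option autoImplicit false
open Cfsg

namespace Cfsg.Agent.S0696

open Cfsg.Agent.Perm MulAction

/-- A triply primitive group of degree at least 3 having a regular normal subgroup has degree 3 or 4. -/
theorem result {G : Type*} [Group G] {X : Type*} [Fintype X] [MulAction G X] (hX : 3 ≤ Fintype.card X) (h3 : MulAction.IsMultiplyPreprimitive G X 3) (N : Subgroup G) [N.Normal] (htrans : MulAction.IsPretransitive N X) (hreg : ∀ x : X, MulAction.stabilizer N x = ⊥) : Fintype.card X = 3 ∨ Fintype.card X = 4 := by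
  classical
  have h2 : IsMultiplyPreprimitive G X 2 := isMultiplyPreprimitive_of_le G X h3 (by norm_num)
    (by rw [ENat.card_eq_coe_fintype_card]; exact_mod_cast hX)
  rcases S0695.result (by omega) h2 N htrans hreg with h | ⟨hc, hsq, -⟩
  · exact Or.inl h
  by_cases h3' : Fintype.card X = 3
  · exact Or.inl h3'
  right
  have : Nontrivial X := Fintype.one_lt_card_iff_nontrivial.1 (by omega)
  obtain ⟨a, b, hab⟩ := exists_pair_ne X
  obtain ⟨n, hn⟩ := htrans.exists_smul_eq a b
  have hnn : ∀ x : X, n • n • x = x := fun x => by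
    rw [← mul_smul, ← sq, show n ^ 2 = 1 from Subtype.ext (hsq n n.2), one_smul]
  have hn1 : ∀ x : X, n • x ≠ x := fun x hx => by
    have : n ∈ stabilizer N x := hx
    rw [hreg, Subgroup.mem_bot] at this
    rw [this, one_smul] at hn
    exact hab hn
  have hp := h3.isPreprimitive_ofFixingSubgroup (s := {a, b}) (by rw [Set.encard_pair hab]; rfl)
  have hmem : ∀ x : X, x ∈ SubMulAction.ofFixingSubgroup G ({a, b} : Set X) → n • x ∈ SubMulAction.ofFixingSubgroup G ({a, b} : Set X) := by
    intro x
    simp only [SubMulAction.mem_ofFixingSubgroup_iff, Set.mem_insert_iff, Set.mem_singleton_iff, not_or]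
    rintro ⟨h1, h2⟩
    refine ⟨fun h => h2 ?_, fun h => h1 ?_⟩
    · rw [← hnn x, h, hn]
    · rw [← hnn x, h, ← hn, hnn]
  obtain ⟨c, hc⟩ : ∃ c, c ∉ ({a, b} : Finset X) := by
    by_contra h
    push Not at h
    have := (Finset.card_le_card (show (Finset.univ : Finset X) ⊆ {a, b} from fun x _ => h x)).trans Finset.card_le_two
    rw [Finset.card_univ] at this
    omega
  have hc' : c ∈ SubMulAction.ofFixingSubgroup G ({a, b} : Set X) := by
    simpa [SubMulAction.mem_ofFixingSubgroup_iff] using hc
  rcases prim_rel (G := fixingSubgroup G ({a, b} : Set X)) (α := SubMulAction.ofFixingSubgroup G ({a, b} : Set X))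
    (fun x y => x = y ∨ n • (x : X) = y)
    ⟨fun _ => Or.inl rfl, by
      rintro x y (h | h)
      · exact Or.inl h.symm
      · exact Or.inr (by rw [← h, hnn]), by
      rintro x y z (h | h) (h' | h')
      · exact Or.inl (h.trans h')
      · exact Or.inr (h ▸ h')
      · exact Or.inr (h' ▸ h)
      · left
        apply Subtype.ext
        rw [← h', ← h, hnn]⟩ (by
      rintro g x y (h | h)
      · exact Or.inl (h ▸ rfl)
      · right
        have hga : (g : G) • a = a := (mem_fixingSubgroup_iff G).1 g.2 a (by simp)
        have hgb : (g : G) • b = b := (mem_fixingSubgroup_iff G).1 g.2 b (by simp)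
        have : (⟨(g : G)⁻¹ * n * g, by simpa using Subgroup.Normal.conj_mem inferInstance _ n.2 (g : G)⁻¹⟩ : N) = n := by
          apply eq_of_smul_eq_of_stab_bot (hreg a)
          show ((g : G)⁻¹ * n * g) • a = n • a
          rw [mul_smul, mul_smul, hga, inv_smul_eq_iff, hn, hgb]; exact hn
        show (n : G) • (g : G) • (x : X) = (g : G) • (y : X)
        rw [← h]
        conv_rhs => rw [← this]
        show _ = (g : G) • ((g : G)⁻¹ * n * g) • (x : X)
        simp [mul_smul]) with h | h
  · exact absurd (congrArg Subtype.val (h ⟨c, hc'⟩ ⟨_, hmem c hc'⟩ (Or.inr rfl))).symm (hn1 c)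
  · have : (Finset.univ : Finset X) ⊆ {a, b, c, n • c} := by
      intro y _
      by_cases hy : y ∈ ({a, b} : Finset X)
      · simp only [Finset.mem_insert, Finset.mem_singleton] at hy ⊢
        tauto
      rcases h ⟨c, hc'⟩ ⟨y, by simpa [SubMulAction.mem_ofFixingSubgroup_iff] using hy⟩ with h1 | h1
      · have : c = y := congrArg Subtype.val h1
        simp [this]
      · simp only at h1
        simp [h1]
    have := (Finset.card_le_card this).trans Finset.card_le_four
    rw [Finset.card_univ] at this
    omega

end Cfsg.Agent.S0696
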