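import Cfsg.Statements.S2364
import Mathlib
import Cfsg.Agent.S0242

set_option autoImplicit false
open Cfsg

namespace Cfsg.Agent.S2364

open Module

theorem dvd_SL {F : Type*} [Field F] [Fintype F] {m e : ℕ} (hm : 2 ≤ m) (h1 : 1 ≤ e) (h2 : e ≤ m) :
    Fintype.card F * (Fintype.card F ^ e - 1) ∣ Nat.card (Matrix.SpecialLinearGroup (Fin m) F) := by
  wlog h : 2 ≤ e generalizing e
  · obtain rfl : e = 1 := by omega
    exact (mul_dvd_mul_left _ (Nat.pow_sub_one_dvd_pow_sub_one _ (by norm_num))).trans (this (by norm_num) hm le_rfl)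
  have k := S0242.result (F := F) rfl m (by omega)
  have k1 := Fintype.one_lt_card (α := F)
  set q := Fintype.card F
  have d := Finset.prod_dvd_prod_of_subset {(⟨m - 1, by omega⟩ : Fin m), ⟨m - e, by omega⟩} Finset.univ
    (fun i : Fin m => q ^ m - q ^ (i : ℕ)) (Finset.subset_univ _)
  rw [Finset.prod_pair (by simp; omega), ← k] at d
  have e1 : q ^ m - q ^ (m - 1) = (q - 1) * (q * q ^ (m - 2)) := by
    obtain ⟨j, rfl⟩ := Nat.exists_eq_add_of_le' hm
    rw [Nat.sub_mul]; congr 1
    · simp; ring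
    · simp; ring
  have e2 : q ^ m - q ^ (m - e) = (q ^ e - 1) * q ^ (m - e) := by
    rw [Nat.sub_mul, ← pow_add, one_mul]; congr 2; omega
  simp only [e1, e2] at d
  rw [mul_assoc, Nat.mul_dvd_mul_iff_left (by omega)] at d
  exact Dvd.dvd.trans ⟨q ^ (m - 2) * q ^ (m - e), by ring⟩ d

theorem fix_dim {F V : Type*} [Field F] [Fintype F] [AddCommGroup V] [Module F V] [FiniteDimensional F V]
    {r : ℕ} (hr : r.Prime) (B : End F V) (hB : B ^ r = 1) (U : Submodule F V) (hU : ∀ x ∈ U, B x ∈ U)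
    (h : ¬ r ∣ Fintype.card F) :
    r ∣ Fintype.card F ^ (finrank F U - finrank F ↥(U ⊓ LinearMap.ker (B - 1))) - 1 := by
  classical
  haveI := Fact.mk hr
  haveI := Module.finite_of_finite F (M := V)
  haveI := Fintype.ofFinite U
  haveI := Fintype.ofFinite ↥(U ⊓ LinearMap.ker (B - 1))
  let f : Function.End U := fun x => ⟨B x, hU _ x.2⟩
  have hf : f ^ r ^ 1 = 1 := by
    have : ∀ k (x : U), ((f ^ k) x).1 = (B ^ k) x := fun k x => by
      induction k with
      | zero => rfl
      | succ k ih => rw [pow_succ', pow_succ', End.mul_apply, ← ih]; rfl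
    funext x
    exact Subtype.ext (by rw [pow_one, this, hB]; rfl)
  have := Equiv.Perm.card_fixedPoints_modEq hf
  rw [Fintype.card_congr (β := ↥(U ⊓ LinearMap.ker (B - 1))) (α := Function.fixedPoints f)
    ⟨fun x => ⟨x.1.1, x.1.2, LinearMap.mem_ker.2 (sub_eq_zero.2 (congrArg Subtype.val x.2))⟩,
      fun x => ⟨⟨x.1, x.2.1⟩, Subtype.ext (sub_eq_zero.1 (LinearMap.mem_ker.1 x.2.2))⟩, fun _ => rfl, fun _ => rfl⟩,
    Module.card_eq_pow_finrank (K := F) (V := U),
    Module.card_eq_pow_finrank (K := F) (V := ↥(U ⊓ LinearMap.ker (B - 1)))] at this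
  have l := Submodule.finrank_mono (inf_le_left : U ⊓ LinearMap.ker (B - 1) ≤ U)
  have k1 := Fintype.card_pos (α := F)
  have := (Nat.modEq_iff_dvd' (Nat.pow_le_pow_right k1 l)).1 this.symm
  rw [← Nat.sub_add_cancel l, pow_add, ← Nat.sub_one_mul] at this
  exact (hr.dvd_mul.1 this).resolve_right fun h' => h (hr.dvd_of_dvd_pow h')

theorem core {F V : Type*} [Field F] [AddCommGroup V] [Module F V] [FiniteDimensional F V]
    (hn : 4 ≤ finrank F V) (N B : End F V) (hN : IsNilpotent N) (N0 : N ≠ 0) (c : Commute N B) (B1 : B ≠ 1)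
    (h : ∀ U : Submodule F V, (∀ x ∈ U, B x ∈ U) → finrank F U ≤ finrank F ↥(U ⊓ LinearMap.ker (B - 1)) ∨
      finrank F V - 1 + finrank F ↥(U ⊓ LinearMap.ker (B - 1)) ≤ finrank F U) : False := by
  set X := LinearMap.ker (B - 1)
  have h' : ∀ U : Submodule F V, (∀ x ∈ U, B x ∈ U) → U ≤ X ∨
      finrank F V - 1 + finrank F ↥(U ⊓ X) ≤ finrank F U := fun U hU => (h U hU).imp_left fun l =>
    inf_eq_left.1 (Submodule.eq_of_le_of_finrank_le inf_le_left l)
  have hX := (h' ⊤ fun _ _ => trivial).resolve_left fun l =>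
    B1 (sub_eq_zero.1 (LinearMap.ker_eq_top.1 (top_le_iff.1 l)))
  rw [top_inf_eq, finrank_top] at hX
  have hK := h' (LinearMap.ker N) fun x hx => by
    rw [LinearMap.mem_ker, ← End.mul_apply, c.eq, End.mul_apply, LinearMap.mem_ker.1 hx, map_zero]
  have hI := h' (LinearMap.range N) (by
    rintro _ ⟨x, rfl⟩; exact ⟨B x, by rw [← End.mul_apply, c.eq, End.mul_apply]⟩)
  have s := N.finrank_range_add_finrank_ker
  have D : 0 < finrank F ↥(LinearMap.range N ⊓ LinearMap.ker N) := by
    rw [Nat.pos_iff_ne_zero, Ne, Submodule.finrank_eq_zero]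
    intro e
    have : ∀ k, N ^ (k + 1) ≠ 0 := fun k => by
      induction k with
      | zero => simpa using N0
      | succ k ih =>
        refine fun z => ih (LinearMap.ext fun x => ?_)
        have : (N ^ (k + 1)) x ∈ LinearMap.range N ⊓ LinearMap.ker N :=
          ⟨⟨(N ^ k) x, by rw [pow_succ', End.mul_apply]⟩, by
            rw [SetLike.mem_coe, LinearMap.mem_ker, ← End.mul_apply, ← pow_succ', z]; rfl⟩
        rwa [e] at this
    obtain ⟨k, hk⟩ := hN
    exact this k (by rw [pow_succ, hk, zero_mul])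
  have d1 := Submodule.finrank_mono (inf_le_left : LinearMap.range N ⊓ LinearMap.ker N ≤ _)
  have d2 := Submodule.finrank_mono (inf_le_right : LinearMap.range N ⊓ LinearMap.ker N ≤ _)
  rcases hK with hK | hK <;> rcases hI with hI | hI
  · have := Submodule.finrank_mono hK
    have := Submodule.finrank_mono hI
    omega
  · have := Submodule.finrank_mono (inf_le_inf_left (LinearMap.range N) hK)
    omega
  · have := Submodule.finrank_mono (inf_le_inf_left (LinearMap.ker N) hI)
    rw [inf_comm] at this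
    omega
  · omega

/-- Let F be a finite field of characteristic p, n ≥ 4, and let a, b be commuting elements of PSL(n, F) with a of order p. Then every prime divisor of the order of b divides the order of SL(n − 2, F). -/
theorem result {F : Type*} [Field F] [Fintype F] (p : ℕ) [Fact p.Prime] [CharP F p] (n : ℕ) (hn : 4 ≤ n)
    (a b : Matrix.ProjectiveSpecialLinearGroup (Fin n) F) (ha : orderOf a = p) (hab : Commute a b) :
    (orderOf b).primeFactors ⊆ (Nat.card (Matrix.SpecialLinearGroup (Fin (n - 2)) F)).primeFactors := by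
  classical
  have hp : p.Prime := Fact.out
  intro r hr
  have r1 := Nat.prime_of_mem_primeFactors hr
  refine Nat.mem_primeFactors.2 ⟨r1, ?_, Nat.card_pos.ne'⟩
  by_contra hd
  have k := fun e h1 h2 => dvd_SL (F := F) (m := n - 2) (e := e) (by omega) h1 h2
  have q1 : ¬ r ∣ Fintype.card F := fun h => hd ((h.mul_right _).trans (k 1 le_rfl (by omega)))
  have q2 : ∀ e, 1 ≤ e → e ≤ n - 2 → ¬ r ∣ Fintype.card F ^ e - 1 := fun e h1 h2 h =>
    hd ((h.mul_left _).trans (k e h1 h2))
  have q3 := q2 1 le_rfl (by omega)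
  rw [pow_one] at q3
  have k1 := Fintype.one_lt_card (α := F)
  have pq : p ∣ Fintype.card F := by
    obtain ⟨m, -, hm⟩ := FiniteField.card F p
    rw [hm]; exact dvd_pow_self _ m.ne_zero
  have q4 : ¬ p ∣ Fintype.card F - 1 := fun h => hp.not_dvd_one (by
    have := Nat.dvd_sub pq h
    rwa [Nat.sub_sub_self k1.le] at this)
  set t := Fintype.card F - 1
  have z : ∀ g ∈ Subgroup.center (Matrix.SpecialLinearGroup (Fin n) F), g ^ t = 1 := fun g hg => by
    obtain ⟨c, h1, h2⟩ := Matrix.SpecialLinearGroup.mem_center_iff.1 hg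
    refine Subtype.ext ?_
    rw [Matrix.SpecialLinearGroup.coe_pow, ← h2, ← map_pow, FiniteField.pow_card_sub_one_eq_one, map_one]
    · rfl
    · rintro rfl
      rw [zero_pow (by simp; omega)] at h1; exact zero_ne_one h1
  have lift : ∀ (x : Matrix.SpecialLinearGroup (Fin n) F) (s : ℕ), s.Prime → ¬ s ∣ t →
      orderOf (x : Matrix.ProjectiveSpecialLinearGroup (Fin n) F) = s → (x ^ t) ^ s = 1 ∧ x ^ t ≠ 1 :=
    fun x s _ h1 h2 => ⟨by
      rw [← pow_mul, mul_comm, pow_mul]
      exact z _ ((QuotientGroup.eq_one_iff _).1 (by rw [QuotientGroup.mk_pow, ← h2, pow_orderOf_eq_one])),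
      fun h => h1 (h2 ▸ orderOf_dvd_of_pow_eq_one (by rw [← QuotientGroup.mk_pow, h]; rfl))⟩
  obtain ⟨A, rfl⟩ := QuotientGroup.mk_surjective a
  obtain ⟨B, hB⟩ := QuotientGroup.mk_surjective (b ^ (orderOf b / r))
  obtain ⟨a1, a2⟩ := lift A p hp q4 ha
  obtain ⟨b1, b2⟩ := lift B r r1 q3 (hB ▸ orderOf_pow_orderOf_div (orderOf_pos b).ne' (Nat.dvd_of_mem_primeFactors hr))
  have cm : Commute (A ^ t) B := by
    have c0 : B⁻¹ * A * B * A⁻¹ ∈ Subgroup.center _ := (QuotientGroup.eq_one_iff _).1 (by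
      simp only [QuotientGroup.mk_mul, QuotientGroup.mk_inv]
      rw [hB, mul_assoc _⁻¹, (hab.pow_right _).eq]; group)
    have c1 : (B⁻¹ * A * B) ^ t = A ^ t := by
      rw [show B⁻¹ * A * B = B⁻¹ * A * B * A⁻¹ * A by group,
        Commute.mul_pow (Subgroup.mem_center_iff.1 c0 A).symm, z _ c0, one_mul]
    have c2 := conj_pow (a := B⁻¹) (b := A) (i := t)
    rw [inv_inv, c1, mul_assoc, eq_inv_mul_iff_mul_eq] at c2
    exact c2.symm
  let φ : Matrix.SpecialLinearGroup (Fin n) F →* End F (Fin n → F) :=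
    (Matrix.toLinAlgEquiv' : Matrix (Fin n) (Fin n) F ≃ₐ[F] _).toMonoidHom.comp Matrix.SpecialLinearGroup.coeMonoidHom
  have inj : Function.Injective φ := Matrix.toLinAlgEquiv'.injective.comp Subtype.val_injective
  haveI : Nontrivial (Fin n) := Fin.nontrivial_iff_two_le.2 (by omega)
  refine core (F := F) (V := Fin n → F) (by simpa using hn) (φ (A ^ t) - 1) (φ (B ^ t)) ⟨p, ?_⟩
    (fun h => a2 (inj (by rw [sub_eq_zero.1 h, map_one]))) (((cm.pow_right t).map φ).sub_left (Commute.one_left _))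
    (fun h => b2 (inj (by rw [h, map_one]))) fun U hU => ?_
  · haveI : CharP (End F (Fin n → F)) p := charP_of_injective_algebraMap (algebraMap F _).injective p
    rw [sub_pow_char_of_commute _ (Commute.one_right _), ← map_pow, a1, map_one, one_pow, sub_self]
  · have := fix_dim r1 _ (by rw [← map_pow, b1, map_one]) U hU q1
    by_contra h
    refine q2 _ ?_ ?_ this
    · omega
    · simp only [Module.finrank_fintype_fun_eq_card, Fintype.card_fin] at h; omega

end Cfsg.Agent.S2364
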