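import Cfsg.Statements.S3820
import Cfsg.Agent.Lib.Comp.Basic

set_option autoImplicit false
open Cfsg

namespace Cfsg.Agent.S3820

/-- Call a subgroup H of G pronormal if H and gHg⁻¹ are conjugate inside ⟨H, gHg⁻¹⟩ for every g ∈ G. Let S ≤ H ≤ G be subgroups of a finite group with S pronormal in G (for instance S a Sylow subgroup). Then H is pronormal in G if and only if H and gHg⁻¹ are conjugate inside ⟨H, gHg⁻¹⟩ for every g ∈ N_G(S). In particular H is pronormal whenever N_G(S) ≤ H. -/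
theorem result {G : Type*} [Group G] [Finite G] (S H : Subgroup G) (hSH : S ≤ H)
    (hS : Cfsg.IsPronormal S) :
    Cfsg.IsPronormal H ↔
      ∀ g ∈ Subgroup.normalizer (S : Set G), ∃ w ∈ H ⊔ H.map (MulAut.conj g).toMonoidHom,
        H.map (MulAut.conj g).toMonoidHom = H.map (MulAut.conj w).toMonoidHom := by
  open Pointwise commutatorElement Subgroup in
  open Cfsg.Agent.Comp in
  refine ⟨fun h g _ => h g, fun h g => ?_⟩
  obtain ⟨x, hx, e⟩ := hS g
  have hx' : x ∈ H ⊔ cj(g, H) := (sup_le_sup hSH (cj_mono g hSH)) hx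
  have h1 : x⁻¹ * g ∈ normalizer (S : Set G) := by
    rw [← cj_eq_self_iff, cj_mul, e, cj_inv_cj]
  obtain ⟨w, hw, e2⟩ := h _ h1
  refine ⟨x * w, mul_mem hx' ?_, ?_⟩
  · refine (sup_le le_sup_left ?_ : _ ≤ H ⊔ cj(g, H)) hw
    rw [cj_mul]
    exact cj_le_of_mem le_sup_right (le_normalizer (inv_mem hx'))
  · rw [cj_mul, ← e2, cj_mul, cj_cj_inv]

end Cfsg.Agent.S3820
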