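import Cfsg.Statements.S0721
import Mathlib
import Cfsg.Agent.Lib.Perm.Count

set_option autoImplicit false
open Cfsg

namespace Cfsg.Agent.S0721

open Cfsg.Agent.Perm MulAction

theorem exists_prod {H : Type*} [Group H] [Finite H] (N : Subgroup H) [hn : N.Normal] (hN : N ≠ ⊥) (hmin : ∀ M : Subgroup H, M.Normal → M ≤ N → M = ⊥ ∨ M = N) :
    ∃ (S : Subgroup H) (m : ℕ) (f : (Fin m → S) →* H), S ≤ N ∧ IsSimpleGroup S ∧ Function.Injective f ∧ f.range = N ∧
      ∀ i, ∃ h : H, ∀ s : S, f (Pi.mulSingle i s) = h * s * h⁻¹ := by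
  classical
  obtain ⟨S, hS⟩ := exists_minimal_of_wellFoundedLT
    (fun M : Subgroup H => M ≠ ⊥ ∧ M ≤ N ∧ ∀ n ∈ N, ∀ x ∈ M, n * x * n⁻¹ ∈ M) ⟨N, hN, le_rfl, fun n _ x hx => hn.conj_mem x hx n⟩
  obtain ⟨⟨hS1, hSN, hSn⟩, hSmin⟩ := hS
  -- a subgroup normalised by `N` either contains a conjugate of `S` or meets it trivially
  have dich : ∀ K : Subgroup H, (∀ n ∈ N, ∀ x ∈ K, n * x * n⁻¹ ∈ K) → ∀ h : H,
      (∀ s ∈ S, h * s * h⁻¹ ∈ K) ∨ ∀ s ∈ S, h * s * h⁻¹ ∈ K → s = 1 := by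
    intro K hK h
    by_cases hb : S ⊓ K.comap (MulAut.conj h).toMonoidHom = ⊥
    · right
      intro s hs hs'
      have : s ∈ S ⊓ K.comap (MulAut.conj h).toMonoidHom := ⟨hs, hs'⟩
      rwa [hb] at this
    · left
      intro s hs
      refine (hSmin (y := S ⊓ K.comap (MulAut.conj h).toMonoidHom) ⟨hb, inf_le_left.trans hSN, fun n hn' x hx => ⟨hSn n hn' x hx.1, ?_⟩⟩ inf_le_left hs).2
      have := hK _ (hn.conj_mem n hn' h) _ hx.2
      show h * (n * x * n⁻¹) * h⁻¹ ∈ K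
      convert this using 1
      simp [mul_assoc]
  have hconjN : ∀ (h : H), ∀ n ∈ N, ∀ s ∈ S, ∃ s' ∈ S, n * (h * s * h⁻¹) * n⁻¹ = h * s' * h⁻¹ := fun h n hn' s hs =>
    ⟨_, hSn _ (hn.conj_mem n hn' h⁻¹) s hs, by group⟩
  have comm : ∀ K : Subgroup H, K ≤ N → (∀ n ∈ N, ∀ x ∈ K, n * x * n⁻¹ ∈ K) → ∀ h : H,
      (∀ s ∈ S, h * s * h⁻¹ ∈ K → s = 1) → ∀ x ∈ K, ∀ s ∈ S, x * (h * s * h⁻¹) = (h * s * h⁻¹) * x := by
    intro K hKN hK h hd x hx s hs
    obtain ⟨s', hs', e⟩ := hconjN h x (hKN hx) s hs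
    have h1 := hd (s' * s⁻¹) (S.mul_mem hs' (S.inv_mem hs)) (by
      have := K.mul_mem hx (hK _ (hn.conj_mem _ (hSN hs) h) _ (K.inv_mem hx))
      convert this using 1
      calc h * (s' * s⁻¹) * h⁻¹ = (h * s' * h⁻¹) * (h * s * h⁻¹)⁻¹ := by group
        _ = _ := by rw [← e]; group)
    rw [mul_inv_eq_one.1 h1] at e
    calc _ = (x * (h * s * h⁻¹) * x⁻¹) * x := by group
      _ = _ := by rw [e]
  have top : ∀ K : Subgroup H, (∀ h : H, ∀ s ∈ S, h * s * h⁻¹ ∈ K) → N ≤ K := by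
    intro K hK
    rcases hmin (Subgroup.normalClosure (S : Set H)) inferInstance (Subgroup.normalClosure_le_normal hSN) with h | h
    · exact absurd (eq_bot_iff.2 (h ▸ Subgroup.le_normalClosure)) hS1
    · rw [← h, Subgroup.normalClosure, Subgroup.closure_le]
      intro x hx
      obtain ⟨s, hs, hx⟩ := Group.mem_conjugatesOfSet_iff.1 hx
      obtain ⟨h, rfl⟩ := isConj_iff.1 hx
      exact hK h s hs
  obtain ⟨K, ⟨hKN, hKn, m, f, hf, hfK, hfi⟩, hKmax⟩ := exists_maximal_of_wellFoundedGT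
    (fun K : Subgroup H => K ≤ N ∧ (∀ n ∈ N, ∀ x ∈ K, n * x * n⁻¹ ∈ K) ∧ ∃ (m : ℕ) (f : (Fin m → S) →* H), Function.Injective f ∧ f.range = K ∧
      ∀ i, ∃ h : H, ∀ s : S, f (Pi.mulSingle i s) = h * s * h⁻¹)
    ⟨⊥, bot_le, by simp, 0, 1, fun _ _ _ => Subsingleton.elim _ _, by simp, fun i => i.elim0⟩
  refine ⟨S, m, f, hSN, ?_, hf, ?_, hfi⟩
  · have : Nontrivial S := (Subgroup.nontrivial_iff_ne_bot S).2 hS1
    refine ⟨fun L hL => ?_⟩
    by_cases hL1 : L = ⊥
    · exact Or.inl hL1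
    right
    have h1 : N ≤ Subgroup.normalizer (L.map S.subtype : Set H) := by
      apply top
      intro h s hs
      rcases dich S hSn h with h1 | h1
      · exact Subgroup.le_normalizer_map _ (show h * s * h⁻¹ ∈ (Subgroup.normalizer (L : Set S)).map S.subtype from
          ⟨⟨_, h1 s hs⟩, by rw [Subgroup.normalizer_eq_top]; trivial, rfl⟩)
      · apply Subgroup.centralizer_le_normalizer
        rintro _ ⟨x, -, rfl⟩
        exact comm S hSN hSn h h1 x x.2 s hs
    have h2 := hSmin (y := L.map S.subtype) ⟨by rwa [Ne, Subgroup.map_eq_bot_iff_of_injective _ S.subtype_injective],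
      (Subgroup.map_subtype_le _).trans hSN, fun n hn' x hx => (Subgroup.mem_normalizer_iff.1 (h1 hn') x).1 hx⟩ (Subgroup.map_subtype_le _)
    rw [eq_top_iff]
    intro x _
    obtain ⟨y, hy, e⟩ := h2 x.2
    rwa [← show y = x from Subtype.ext e]
  · rw [hfK]
    refine le_antisymm hKN (top K fun h => ?_)
    rcases dich K hKn h with h1 | h1
    · exact h1
    have hc := comm K hKN hKn h h1
    let ι : S →* H := (MulAut.conj h).toMonoidHom.comp S.subtype
    have hc' : ∀ (x : Fin m → S) (s : S), Commute (f x) (ι s) := fun x s => hc _ (hfK ▸ ⟨x, rfl⟩) s s.2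
    let e : (Fin (m + 1) → S) ≃* (Fin m → S) × S :=
      { toFun := fun x => (Fin.tail x, x 0)
        invFun := fun y => Fin.cons y.2 y.1
        left_inv := fun x => Fin.cons_self_tail x
        right_inv := fun y => by simp
        map_mul' := fun _ _ => rfl }
    have hr : ((f.noncommCoprod ι hc').comp e.toMonoidHom).range = K ⊔ ι.range := by
      rw [MonoidHom.range_comp, MonoidHom.range_eq_top.2 e.surjective, ← MonoidHom.range_eq_map,
        MonoidHom.noncommCoprod_range, hfK]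
    have := hKmax (y := K ⊔ ι.range) ⟨sup_le hKN ?_, ?_, m + 1, (f.noncommCoprod ι hc').comp e.toMonoidHom, ?_, hr, ?_⟩ le_sup_left
    · exact fun s hs => this (Subgroup.mem_sup_right ⟨⟨s, hs⟩, rfl⟩)
    · rintro _ ⟨s, rfl⟩
      exact hn.conj_mem _ (hSN s.2) h
    · intro n hn' x hx
      rw [← hr] at hx
      obtain ⟨y, rfl⟩ := hx
      obtain ⟨s', hs', e'⟩ := hconjN h n hn' _ (y 0).2
      have : n * (f (Fin.tail y) * ι (y 0)) * n⁻¹ = (n * f (Fin.tail y) * n⁻¹) * ι ⟨s', hs'⟩ := by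
        show n * (f (Fin.tail y) * (h * (y 0) * h⁻¹)) * n⁻¹ = _ * (h * s' * h⁻¹)
        rw [← e']; group
      show n * (f (Fin.tail y) * ι (y 0)) * n⁻¹ ∈ _
      rw [this]
      exact Subgroup.mul_mem_sup (hKn n hn' _ (hfK ▸ ⟨_, rfl⟩)) ⟨_, rfl⟩
    · refine Function.Injective.comp (g := f.noncommCoprod ι hc') (f := e) ((MonoidHom.noncommCoprod_injective f ι hc').2 ⟨hf, (MulAut.conj h).injective.comp S.subtype_injective, ?_⟩) e.injective
      rw [hfK, Subgroup.disjoint_def]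
      rintro _ hx ⟨s, rfl⟩
      rw [show s = 1 from Subtype.ext (h1 s s.2 hx), map_one]
    · intro i
      induction i using Fin.cases with
      | zero =>
        refine ⟨h, fun s => ?_⟩
        show f (Fin.tail (Pi.mulSingle (M := fun _ => S) (0 : Fin (m + 1)) s)) * ι (Pi.mulSingle (M := fun _ => S) (0 : Fin (m + 1)) s 0) = _
        rw [show Fin.tail (Pi.mulSingle (M := fun _ => S) (0 : Fin (m + 1)) s) = 1 from funext fun j => by simp [Fin.tail]]
        simp [ι]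
      | succ i =>
        obtain ⟨h', hh'⟩ := hfi i
        refine ⟨h', fun s => ?_⟩
        show f (Fin.tail (Pi.mulSingle (M := fun _ => S) i.succ s)) * ι (Pi.mulSingle (M := fun _ => S) i.succ s 0) = _
        rw [show Fin.tail (Pi.mulSingle (M := fun _ => S) i.succ s) = Pi.mulSingle i s from funext fun j => by simp [Fin.tail, Pi.mulSingle_apply], hh']
        simp

/-- A minimal normal subgroup of a finite group is isomorphic to a direct power `T ^ m` of a simple group `T` (possibly of prime order). -/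
theorem result {H : Type*} [Group H] [Finite H] (N : Subgroup H) [N.Normal] (hN : N ≠ ⊥) (hmin : ∀ M : Subgroup H, M.Normal → M ≤ N → M = ⊥ ∨ M = N) : ∃ (T : Type) (_ : Group T) (m : ℕ), IsSimpleGroup T ∧ 0 < m ∧ Nonempty (N ≃* (Fin m → T)) := by
  obtain ⟨S, m, f, -, hS, hf, hr, -⟩ := exists_prod N hN hmin
  refine ⟨Shrink.{0} S, inferInstance, m, Shrink.mulEquiv.isSimpleGroup, ?_, ⟨?_⟩⟩
  · rcases m with _ | m
    · exfalso; apply hN
      rw [← hr, eq_bot_iff]
      rintro _ ⟨x, rfl⟩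
      rw [Subsingleton.elim x 1, map_one]; exact Subgroup.one_mem _
    · omega
  · exact ((MulEquiv.subgroupCongr hr.symm).trans (MonoidHom.ofInjective hf).symm).trans
      (MulEquiv.piCongrRight fun _ => Shrink.mulEquiv.symm)

end Cfsg.Agent.S0721
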