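import Cfsg.Statements.S1011
import Mathlib
import Cfsg.Agent.Lib.Perm.Br12
import Cfsg.Agent.S1230

set_option autoImplicit false
open Cfsg

namespace Cfsg.Agent.S1011

open Subgroup Cfsg.Agent.Char Cfsg.Agent.Perm Cfsg.Agent.Perm.Br
open scoped ComplexConjugate

theorem d1 : ∀ n ∈ dvs 9 72, n % 7 = 1 → n = 1 ∨ n = 8 ∨ n = 36 := by decide +kernel

theorem d2 : ∀ n ∈ dvs 9 72, ∀ m ∈ dvs 9 72, (n % 7 = 1 → 1 < n → m = n + 1 → n = 8) ∧ (n % 7 = 6 → n = 6) := by
  decide +kernel

open scoped _root_.Classical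
attribute [-instance] Fintype.decidablePiFintype

/-- A simple group of order 504 is isomorphic to the projective special linear group of dimension 2 over the field with 8 elements. -/
theorem result {G : Type*} [Group G] [Finite G] [IsSimpleGroup G] (h : Nat.card G = 504) {F : Type*} [Field F] [Fintype F] (hF : Fintype.card F = 8) : Nonempty (G ≃* Matrix.ProjectiveSpecialLinearGroup (Fin 2) F) := by
  have : Fact (Nat.Prime 7) := ⟨by norm_num⟩
  have := Fintype.ofFinite G
  have hnc := noncomm_of_card (G := G) (by rw [h]; norm_num)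
  obtain ⟨P⟩ : Nonempty (Sylow 7 G) := inferInstance
  have hP := SylNum.card_sylow_eq_prime (m := 72) h (by norm_num) P
  obtain ⟨e, X, Y, δ, ε, S, hb⟩ := exists_bd (perf_of_simple hnc) P hP
  obtain ⟨w, -, hw, hw1, hw2⟩ := hb.exists_w
  have he := hb.one_lt_e
  have te := hb.cardY
  have h1 := one_lt_syl hnc (p := 7) (by rw [h]; norm_num)
  have h2 : Nat.card (Sylow 7 G) % 7 = 1 := card_sylow_modEq_one 7 G
  rw [← SylNum.card_syl P, h] at hw
  have h3 := d1 _ ((mem_dvs (by norm_num) (by norm_num)).2 ⟨e * w, by linarith⟩) h2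
  have h4 : e ≤ 6 := Nat.le_of_dvd (by norm_num) (Dvd.intro_left _ (Nat.succ_injective te))
  obtain ⟨rfl, rfl⟩ : e = 2 ∧ w = 1 := by
    rcases h3 with h3 | h3 | h3 <;> rw [h3] at hw
    · omega
    · obtain ⟨-, y, hy, ho⟩ := hw2 3 Nat.prime_three (by interval_cases e <;> omega)
      exact absurd hy (SylNum.not_cent (syl_faithful hnc (by rw [h]; norm_num)) hP Nat.prime_three (by norm_num)
        (by omega) ho)
    · interval_cases e <;> omega
  have hC := hw1.1 rfl
  obtain ⟨θ, hθ⟩ := hb.Y_ne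
  obtain ⟨χ, rfl, rfl, h5⟩ := hb.two hθ
  have hχ := Finset.mem_singleton_self χ
  have hχ' := Finset.mem_union_left Y hχ
  have h6 := d2 _ ((mem_dvs (by norm_num) (by norm_num)).2 (by simpa only [h] using hb.dg_dvd' hχ')) _
    ((mem_dvs (by norm_num) (by norm_num)).2 (by simpa only [h] using hb.dg_dvd' (Finset.mem_union_right _ hθ)))
  have ht : Y.card = 3 := by omega
  obtain ⟨h7, h8⟩ : δ χ = 1 ∧ dg χ = 8 := by
    have := hb.dvdX hχ
    have := two_le_dg hb.perf (hb.ne_one hχ')
    have := fun e => hb.even_t hC (by norm_num) he hχ' e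
    rw [ht] at this
    rcases hb.sgn χ hχ with h7 | h7
    · omega
    · exact absurd (this (by omega)) (by decide)
  have h9 : dg θ = 9 := by omega
  obtain ⟨u, huN, hu, -⟩ := exists_compl_gen hb.prime hP hC hb.he
  obtain ⟨k, -, h10, h11⟩ := hb.two_count hC hθ huN hu
  rw [h7, h8] at h10
  obtain rfl : k = 2 := by rw [← Int.natCast_natAbs] at h10; omega
  rw [h8, h9, h] at h11
  have h12 : Nat.card (centralizer ({u} : Set G)) = 8 := by
    refine (Nat.pow_left_injective two_ne_zero) ?_
    dsimp only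
    omega
  have h13 := card_isConj_mul_card_centralizer u
  rw [h12, h] at h13
  have hv : ∀ g : G, 1 + χ.1 g + 2 * ∑ θ ∈ Y, θ.1 g = (if g = 1 then 63 else 0) + if 2 ∣ orderOf g then 7 else 0 :=
    fun g => by
      by_cases h14 : 7 ∣ orderOf g
      · obtain ⟨Q, -, x, hx, hx1, hc⟩ := exists_fix_of_dvd hP h14
        have h15 : g ∈ Q := (cent_P_all hP hC Q).le (mem_cent hb.prime ((SylNum.card_syl_eq Q P).trans hP) hx hx1 hc)
        have h16 : g ≠ 1 := by rintro rfl; simp at h14
        obtain ⟨c, rfl⟩ := MulAction.exists_smul_eq G Q P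
        have h17 := (conj_mem_smul Q c g).2 h15
        have h18 : c * g * c⁻¹ ≠ 1 := by simpa using h16
        rw [if_neg h16, order_eq hb.prime ((SylNum.card_syl_eq Q _).trans hP) h15 h16, ← χ.2.isCharacter.apply_conj g c,
          hb.valX χ hχ _ h17 h18, Finset.sum_congr rfl fun θ _ => (θ.2.isCharacter.apply_conj g c).symm,
          hb.sumY h17 h18, h7]
        norm_num
      rw [Finset.sum_congr rfl fun θ h => hb.two_val h h14, h7, Finset.sum_const, ht]
      by_cases h15 : 2 ∣ orderOf g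
      · rw [if_neg (by rintro rfl; simp at h15), if_pos h15, χ.2.eq_zero_of_defect_zero Nat.prime_two (n := 3)
          (by rw [h]; norm_num) (dg_cast χ) (by rw [h8]; norm_num) h15]
        norm_num
      by_cases h16 : g = 1
      · simp [h16, dg_cast, h8]; norm_num
      obtain ⟨r, hr, h17⟩ := Nat.exists_prime_and_dvd (mt orderOf_eq_one_iff.1 h16)
      have h18 := h17.trans (h ▸ orderOf_dvd_natCard g)
      obtain rfl : r = 3 := by
        rw [show 504 = 2 ^ 3 * 3 ^ 2 * 7 by norm_num, hr.dvd_mul, hr.dvd_mul] at h18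
        rcases h18 with (h18 | h18) | h18
        · exact absurd ((Nat.prime_dvd_prime_iff_eq hr Nat.prime_two).1 (hr.dvd_of_dvd_pow h18) ▸ h17) h15
        · exact (Nat.prime_dvd_prime_iff_eq hr Nat.prime_three).1 (hr.dvd_of_dvd_pow h18)
        · exact absurd ((Nat.prime_dvd_prime_iff_eq hr hb.prime).1 h18 ▸ h17) h14
      have h19 := hb.two_val hθ h14
      rw [θ.2.eq_zero_of_defect_zero hr (n := 2) (by rw [h]; norm_num) (dg_cast θ) (by rw [h9]; norm_num) h17, h7] at h19
      rw [if_neg h16, if_neg h15]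
      push_cast at h19 ⊢
      linear_combination -7 * h19
  have hs : ∀ ψ ∈ {χ} ∪ Y, ∑ g, ψ.1 g = 0 := fun ψ hψ => by
    have := classInner_irr ψ (irrOne G)
    rw [if_neg (hb.ne_one hψ), coe_irrOne, classInner_one_right] at this
    simpa [card_ne_zero'] using this
  have h14 := Finset.sum_congr rfl fun g (_ : g ∈ Finset.univ) => hv g
  rw [Finset.sum_add_distrib, Finset.sum_add_distrib, hs χ hχ', ← Finset.mul_sum, Finset.sum_comm,
    Finset.sum_eq_zero fun θ h => hs θ (Finset.mem_union_right _ h), Finset.sum_add_distrib] at h14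
  simp only [Finset.sum_const, Finset.card_univ, ← Nat.card_eq_fintype_card, h, Finset.sum_ite_eq', Finset.mem_univ,
    if_true, Finset.sum_ite, nsmul_eq_mul] at h14
  have h15 : ∀ g : G, 2 ∣ orderOf g → g ^ 2 = 1 := fun g hg => by
    have h15 : (Finset.univ.filter fun g : G => 2 ∣ orderOf g).card = 63 := by
      have : ((Finset.univ.filter fun g : G => 2 ∣ orderOf g).card : ℂ) = 63 := by
        simp [Finset.filter_eq'] at h14; linear_combination -h14 / 7
      exact_mod_cast this
    have h16 := Finset.eq_of_subset_of_card_le (s := Finset.univ.filter (IsConj u)) (fun x hx => by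
      obtain ⟨c, rfl⟩ := isConj_iff.1 (Finset.mem_filter.1 hx).2
      exact Finset.mem_filter.2 ⟨Finset.mem_univ _, hu ▸ ((MulAut.conj c).orderOf_eq u).symm.dvd⟩)
      (h15.trans_le (by rw [← Fintype.card_subtype, ← Nat.card_eq_fintype_card]; omega))
    obtain ⟨c, rfl⟩ := isConj_iff.1 (Finset.mem_filter.1 (h16.ge (Finset.mem_filter.2 ⟨Finset.mem_univ _, hg⟩))).2
    rw [conj_pow, ← hu, pow_orderOf_eq_one]; simp
  have h16 : ∀ t : G, orderOf t = 2 → ∀ c ∈ centralizer ({t} : Set G), c ^ 2 = 1 := fun t ht c hc => by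
    by_cases h16 : 2 ∣ orderOf c
    · exact h15 c h16
    · have h17 : Commute t c := (mem_centralizer_singleton_iff.1 hc).symm
      have := h15 (t * c) (by
        rw [h17.orderOf_mul_eq_mul_orderOf_of_coprime (ht ▸ (Nat.prime_two.coprime_iff_not_dvd).2 h16), ht]; simp)
      rwa [h17.mul_pow, ← ht, pow_orderOf_eq_one, one_mul, ht] at this
  obtain ⟨T⟩ : Nonempty (Sylow 2 G) := inferInstance
  have hT : Nat.card T = 8 := by rw [T.card_eq_multiplicity, h]; decide +kernel
  obtain ⟨K, _, _, h17, e⟩ := S1230.result T (fun hc => by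
    obtain ⟨x, hx⟩ := hc.exists_ofOrder_eq_natCard
    rw [hT, ← Subgroup.orderOf_coe] at hx
    have := orderOf_dvd_of_pow_eq_one (h15 x (by rw [hx]; norm_num))
    rw [hx] at this
    omega) (fun hn => T.ne_bot_of_dvd_card (by rw [h]; norm_num) (normal_eq hnc hn T.2))
    fun t ht => ⟨⟨⟨comm_of_sq fun x => Subtype.ext (h16 t ht x x.2)⟩⟩, h16 t ht⟩
  exact iso_of_card e (by omega)

end Cfsg.Agent.S1011
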