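import Cfsg.Statements.S4115
import Cfsg.Agent.Lib.Solv.FrobCount
import Cfsg.Agent.Lib.Solv.Frob3
import Cfsg.Agent.Lib.BG.Quo
import Cfsg.Agent.Lib.FT.Cor

set_option autoImplicit false
universe u
open Cfsg

namespace Cfsg.Agent.S4115

/-- Let G be a finite group and H a subgroup that meets each of its conjugates by elements outside N_G(H) trivially and whose order is coprime to its index in N_G(H). Then H has a normal complement in N_G(H) if and only if H has a normal complement in G. Moreover, if H is not normal in G and has a normal complement in N_G(H), then H is isomorphic to a Frobenius complement of some finite Frobenius group. -/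
theorem result {G : Type u} [Group G] [Finite G] (H : Subgroup G)
    (hTI : Cfsg.IsTISubset (H : Set G)) (hHall : (Nat.card H).Coprime (H.subgroupOf (Subgroup.normalizer (H : Set G))).index) :
    ((∃ K : Subgroup (Subgroup.normalizer (H : Set G)), K.Normal ∧ K.IsComplement' (H.subgroupOf (Subgroup.normalizer (H : Set G)))) ↔
      (∃ N : Subgroup G, N.Normal ∧ N.IsComplement' H)) ∧
    (¬ H.Normal → (∃ K : Subgroup (Subgroup.normalizer (H : Set G)), K.Normal ∧ K.IsComplement' (H.subgroupOf (Subgroup.normalizer (H : Set G)))) →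
      ∃ (F : Type u) (_ : Group F) (_ : Finite F) (C : Subgroup F), Cfsg.IsFrobeniusComplement C ∧ Nonempty (H ≃* C)) := by
  open Pointwise commutatorElement Subgroup Cfsg.Agent.Solv in
  open Cfsg.Agent.Transfer in
  set M := normalizer (H : Set G)
  haveI : (H.subgroupOf M).Normal := normal_in_normalizer
  have h1 : (∃ K : Subgroup M, K.Normal ∧ K.IsComplement' (H.subgroupOf M)) → ∃ N : Subgroup G, N.Normal ∧ N.IsComplement' H ∧
      N ⊓ M ≤ centralizer (H : Set G) ∧ (Nat.card H).Coprime (Nat.card (N ⊓ M : Subgroup G)) := by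
    rintro ⟨K, a1, a2⟩
    have a3 : K.map M.subtype ⊔ H = M := by
      have := congrArg (map M.subtype) a2.sup_eq_top
      rwa [Subgroup.map_sup, subgroupOf_map_subtype_of_le le_normalizer, Comp.map_subtype_top] at this
    have a4 : K.map M.subtype ⊓ H = ⊥ := by
      have := congrArg (map M.subtype) (IsComplement'.inf_eq_bot a2)
      rwa [map_inf _ _ _ Subtype.val_injective, subgroupOf_map_subtype_of_le le_normalizer, Subgroup.map_bot] at this
    have a5 : M ≤ normalizer ((K.map M.subtype : Subgroup G) : Set G) :=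
      ((Comp.map_subtype_top M).ge.trans (map_mono le_normalizer_of_normal)).trans (le_normalizer_map _)
    have a6 : ∀ x ∈ M, PiE {q | q ∣ Nat.card H} x → x ∈ H := fun x hx h => le_of_coprime_index (N := H.subgroupOf M)
      (H := zpowers ⟨x, hx⟩) (Nat.coprime_of_dvd fun q hq b1 b2 => hq.ne_one (Nat.eq_one_of_dvd_coprimes hHall
        (h q hq (by simpa [← orderOf_coe] using b1)) b2)) (mem_zpowers _)
    obtain ⟨L, b1, -, b2, b3⟩ := Char.wielandt_normal_complement (map_subtype_le K) a5 fun g hg x hx b1 => by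
      obtain ⟨u, hu, v, hv, rfl, b2, b3⟩ := exists_piPart {q | q ∣ Nat.card H} x
      obtain rfl := hTI g hg u (a6 u (zpowers_le.2 hx hu) b2) (a6 _ (by
        have := zpowers_le.2 b1 (cj_zpowers g _ ▸ conj_mem_cj_iff.2 hu); exact this) (b2.conj g))
      rw [one_mul] at hx ⊢
      refine (mem_map_iff_mem (f := M.subtype) Subtype.val_injective (x := (⟨v, hx⟩ : M))).2 (le_of_coprime_index (H := zpowers (⟨v, hx⟩ : M))
        (Nat.coprime_of_dvd fun q hq c1 c2 => b3 q hq (by simpa [← orderOf_coe] using c1) ?_) (mem_zpowers _))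
      rwa [← IsComplement'.card_eq_index a2, card_subgroupOf_of_le le_normalizer] at c2
    refine ⟨L, b1, isComplement'_of_inf_eq_bot_of_sup_eq_top ?_ ?_, b2 ▸ le_centralizer_of_inf_eq_bot (map_subtype_le _)
      (le_normalizer.trans a5) a4, ?_⟩
    · rw [← a4, ← b2, inf_assoc, inf_eq_right.2 (le_normalizer : H ≤ M)]
    · rw [← b3, ← a3, ← sup_assoc, sup_eq_left.2 (b2.ge.trans inf_le_left)]
    · rwa [b2, card_subtype, IsComplement'.card_eq_index a2.symm]
  refine ⟨⟨fun h => (h1 h).imp fun N h => ⟨h.1, h.2.1⟩, fun ⟨N, a1, a2⟩ => ⟨N.subgroupOf M, inferInstance,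
    isComplement'_of_inf_eq_bot_of_sup_eq_top ?_ ?_⟩⟩, fun hn h => ?_⟩
  · rw [subgroupOf, subgroupOf, ← comap_inf, IsComplement'.inf_eq_bot a2]
    exact bot_subgroupOf M
  · rw [← inf_subgroupOf_right, ← BG.subgroupOf_sup' inf_le_right le_normalizer, sup_comm,
      ← dedekind' le_normalizer le_normalizer_of_normal, a2.symm.sup_eq_top, top_inf_eq, subgroupOf_self]
  obtain ⟨L, a1, a2, a3, a0⟩ := h1 h
  have a4 : ∀ h ∈ H, h ≠ 1 → L ⊓ centralizer {h} ≤ centralizer (H : Set G) := fun h b1 b2 x hx => a3 ⟨hx.1, by_contra fun b3 =>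
    b2 (hTI x b3 h b1 (by rwa [← mem_centralizer_singleton.1 hx.2, mul_inv_cancel_right]))⟩
  have a5 : (Nat.card H).Coprime (Nat.card L) := Nat.coprime_of_dvd fun q hq b1 b2 => by
    haveI := Fact.mk hq
    obtain ⟨x, hx, b3⟩ := exists_subgroup_card_prime hq b1
    have b4 := card_modEq_card_inf_centralizer (H := L) (isPGroup_zpowers_of_orderOf (k := 1) (by simpa using b3))
      le_normalizer_of_normal
    rw [Solv.centralizer_zpowers] at b4
    exact hq.ne_one (Nat.eq_one_of_dvd_coprimes a0 b1 (((b4.dvd_iff dvd_rfl).1 b2).trans (card_dvd_of_le (le_inf inf_le_left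
      ((a4 x hx (ne_one_of_orderOf_prime (b3 ▸ hq))).trans (centralizer_le_normalizer _))))))
  obtain ⟨q, hq, Q, b1, b2, b3⟩ : ∃ q : ℕ, q.Prime ∧ ∃ Q, IsSylowIn q Q L ∧ H ≤ normalizer (Q : Set G) ∧
      ¬ Q ≤ centralizer (H : Set G) := by
    by_contra h; push Not at h
    refine hn (normalizer_eq_top_iff.1 (eq_top_iff.2 (a2.sup_eq_top.ge.trans (sup_le (le_trans (le_of_forall_isSylowIn
      fun q hq _ => ?_) (centralizer_le_normalizer _)) le_normalizer))))
    haveI := Fact.mk hq
    obtain ⟨Q, b1, b2⟩ := coprime_exists_sylowIn le_normalizer_of_normal a5 (FTC.solv_or a5) q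
    exact ⟨Q, b1, h q hq Q b1 b2⟩
  haveI := Fact.mk hq
  have c1 : ⁅Q, H⁆ ≤ Q := commutator_le_left_of_le_normalizer b2
  have c2 := coprime_commutator_commutator b2 (a5.coprime_dvd_right (card_dvd_of_le b1.le))
    (.inr (have := b1.isPGroup.isNilpotent; inferInstance))
  have c3 : H ≤ normalizer ((⁅Q, H⁆ : Subgroup G) : Set G) := Solv.le_normalizer_commutator b2 le_normalizer
  have c4 : ⁅Q, H⁆ ≠ ⊥ := mt commutator_eq_bot_iff_le_centralizer.1 b3
  generalize ⁅Q, H⁆ = U at c1 c2 c3 c4
  have c5 := a5.coprime_dvd_right (card_dvd_of_le (c1.trans b1.le))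
  have c6 : U ⊔ H ≤ normalizer (U : Set G) := sup_le le_normalizer c3
  have hq := c6.trans (Solv.normalizer_le_normalizer_map_of_characteristic U (frattini U))
  have c7 : H ⊓ (frattini U).map U.subtype = ⊥ := inf_eq_bot_of_coprime' (c5.coprime_dvd_right (card_dvd_of_le (map_subtype_le _)))
  haveI := BG.img_normal (h := hq) c6
  refine ⟨_, _, inferInstance, BG.img hq H, isFrobeniusComplement_of_fpf (K := BG.img hq U) ?_ ?_ ?_ ?_,
    ⟨BG.imgEquiv le_sup_right c7⟩⟩
  · rw [← BG.img_sup le_sup_left le_sup_right, BG.img_top]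
  · exact mt (BG.img_eq_bot_iff le_sup_left).1 (map_frattini_lt c4).not_ge
  · refine mt (BG.img_eq_bot_iff le_sup_right).1 fun h => hn ?_
    rw [← inf_eq_left.2 h, c7]; infer_instance
  intro y hy d1
  obtain ⟨x, hx, rfl⟩ := BG.mem_img.1 hy
  rw [← BG.img_inf_C1 le_sup_left x (c6 x.2) ((c5.coprime_dvd_left (Solv.orderOf_dvd_card_of_mem hx)).coprime_dvd_right
    (card_dvd_of_le inf_le_left)), eq_bot_iff, ← coprime_abelian_inf_eq_bot (A := BG.img hq H) (V := BG.img hq U)
    ((BG.comm_img_iff le_sup_left).2 (commutator_le_map_frattini (b1.isPGroup.to_le c1).isNilpotent))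
    le_normalizer_of_normal (BG.coprime_img c5), ← BG.img_commutator le_sup_left le_sup_right, c2]
  refine le_inf (le_inf (BG.img_mono inf_le_left) ((BG.img_mono ((inf_le_inf_right _ (c1.trans b1.le)).trans
    (a4 x hx fun h => d1 (by rw [show x = 1 from Subtype.ext h, map_one])))).trans (BG.img_le_centralizer le_rfl)))
    (BG.img_mono inf_le_left)

end Cfsg.Agent.S4115
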