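import Cfsg.Statements.S0015
import Cfsg.Agent.Lib.Solv.Frattini

set_option autoImplicit false
open Cfsg

namespace Cfsg.Agent.S0015

/-- In a finite nilpotent group, an abelian normal subgroup that is maximal among abelian normal subgroups equals its own centralizer. -/
theorem result {G : Type*} [Group G] [Finite G] [Group.IsNilpotent G]
    (N : Subgroup G) [N.Normal] [IsMulCommutative N]
    (hmax : ∀ M : Subgroup G, M.Normal → IsMulCommutative M → N ≤ M → M = N) :
    Subgroup.centralizer (N : Set G) = N := by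
  refine le_antisymm ?_ (Subgroup.le_centralizer_iff_isMulCommutative.2 inferInstance)
  by_contra hne
  have h1 : (Subgroup.centralizer (N : Set G)).map (QuotientGroup.mk' N) ≠ ⊥ := by
    rwa [Ne, Solv.map_mk_eq_bot_iff]
  have h2 := Solv.inf_centralizer_ne_bot_of_nilpotent (L := ⊤) inferInstance le_top
    Subgroup.le_normalizer_of_normal h1
  obtain ⟨_, ⟨⟨x, hx, rfl⟩, hx2⟩, hx1⟩ := Solv.exists_ne_one_of_ne_bot h2
  have h3 : (Subgroup.zpowers x ⊔ N).Normal := by
    rw [← Solv.comap_map_mk, MonoidHom.map_zpowers]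
    refine Subgroup.Normal.comap ⟨fun y hy g => ?_⟩ _
    have : y ∈ Subgroup.centralizer ((⊤ : Subgroup (G ⧸ N)) : Set (G ⧸ N)) :=
      Subgroup.zpowers_le.2 hx2 hy
    rw [Subgroup.mem_centralizer_iff.1 this g (Subgroup.mem_top g)]
    simpa using hy
  have h4 : IsMulCommutative (Subgroup.zpowers x ⊔ N : Subgroup G) := by
    rw [← Subgroup.le_centralizer_iff_isMulCommutative]
    refine sup_le ?_ ?_ <;> rw [Subgroup.le_centralizer_iff] <;> refine sup_le ?_ ?_
    · exact Subgroup.le_centralizer_iff_isMulCommutative.2 inferInstance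
    · exact Subgroup.le_centralizer_iff.1 (Subgroup.zpowers_le.2 hx)
    · exact Subgroup.zpowers_le.2 hx
    · exact Subgroup.le_centralizer_iff_isMulCommutative.2 inferInstance
  have h5 := hmax _ h3 h4 le_sup_right
  exact hx1 ((QuotientGroup.eq_one_iff x).2 (h5 ▸ Subgroup.mem_sup_left (Subgroup.mem_zpowers x)))

end Cfsg.Agent.S0015
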