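import Cfsg.Statements.S0018
import Cfsg.Agent.Lib.Solv.Prim

set_option autoImplicit false
open Cfsg

namespace Cfsg.Agent.S0018

/-- A finite solvable group whose Sylow p-subgroups are abelian has p-length one: a Sylow p-subgroup together with the largest normal subgroup of order prime to p generates a normal subgroup. -/
theorem result {G : Type*} [Group G] [Finite G] [Group.IsSolvable G]
    (p : ℕ) [Fact p.Prime] (P : Sylow p G) (hP : IsMulCommutative P) :
    ((P : Subgroup G) ⊔ Cfsg.pPrimeCore p G).Normal := by
  open Pointwise commutatorElement Subgroup Cfsg.Agent.Solv in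
  have h1 := centralizer_pCore_le (p := p) (pPrimeCore_quotient_pPrimeCore (p := p) (G := G))
  have h2 := map_top_mk (pPrimeCore p G) ▸ (isSylowIn_top P).map (QuotientGroup.mk' (pPrimeCore p G))
  have h3 := h2.le_of_le_normalizer (isPGroup_pCore p _) le_top le_normalizer_of_normal'
  have h4 := le_antisymm (((le_centralizer _).trans (centralizer_anti h3)).trans h1) h3
  rw [← comap_map_mk, h4]; infer_instance

end Cfsg.Agent.S0018
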