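import Cfsg.Statements.S0021
import Cfsg.Agent.Lib.Solv.Fact

set_option autoImplicit false
open Pointwise
open Cfsg

namespace Cfsg.Agent.S0021

/-- A finite group with a family of pairwise permuting Sylow subgroups, one for each prime, is solvable (this direction rests on Burnside's two-prime Theorem). -/
theorem result {G : Type*} [Group G] [Finite G]
    (S : (p : Nat.Primes) → Sylow (p : ℕ) G)
    (hS : ∀ p q : Nat.Primes, (S p : Set G) * (S q : Set G) = (S q : Set G) * (S p : Set G)) :
    Group.IsSolvable G := by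
  open Pointwise commutatorElement Subgroup Cfsg.Agent.Solv in
  classical
  refine isSolvable_of_complements_aux G fun p hp => ?_
  have key : ∀ T : Finset Nat.Primes, ∃ H : Subgroup G, (∀ q ∈ T, (S q : Subgroup G) ≤ H) ∧
      (∀ r : ℕ, r.Prime → r ∣ Nat.card H → ∃ q ∈ T, (q : ℕ) = r) ∧
      ∀ q, (H : Set G) * (S q : Subgroup G) = (S q : Subgroup G) * H := by
    intro T
    induction T using Finset.induction_on with
    | empty => exact ⟨⊥, by simp, fun r hr h => absurd (by simpa using h) hr.ne_one, by simp⟩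
    | insert a T _ ih =>
      obtain ⟨H, h1, h2, h3⟩ := ih
      have h4 := isProd_sup_of_mul_comm (h3 a)
      refine ⟨H ⊔ S a, fun q hq => ?_, fun r hr hd => ?_, fun q => ?_⟩
      · rcases Finset.mem_insert.1 hq with rfl | hq
        exacts [le_sup_right, (h1 q hq).trans le_sup_left]
      · rcases hr.dvd_mul.1 (hd.trans (h4.card_dvd le_sup_left le_sup_right)) with h | h
        · obtain ⟨q, hq, e⟩ := h2 r hr h
          exact ⟨q, Finset.mem_insert_of_mem hq, e⟩
        · have := Fact.mk a.2
          exact ⟨a, Finset.mem_insert_self _ _, (eq_of_isPGroup_of_dvd (S a).2 hr h).symm⟩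
      · rw [h4.coe_eq le_sup_left le_sup_right, ← mul_assoc, ← h3 q, mul_assoc, mul_assoc]
        exact congrArg _ (hS a q)
  obtain ⟨H, h1, h2, -⟩ := key (((Nat.card G).primeFactors.subtype Nat.Prime).erase ⟨p, hp⟩)
  refine ⟨H, ?_⟩
  have := Fact.mk hp
  have h3 : ¬ p ∣ Nat.card H := fun h => by
    obtain ⟨q, hq, e⟩ := h2 p hp h
    exact (Finset.mem_erase.1 hq).1 (Subtype.ext e)
  have h4 : H.index = p ^ _ := Nat.eq_prime_pow_of_unique_prime_dvd FiniteIndex.index_ne_zero
    fun {r} hr hd => by
      by_contra hne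
      have := Fact.mk hr
      refine (S ⟨r, hr⟩).not_dvd_index (hd.trans (index_dvd_of_le (h1 ⟨r, hr⟩ ?_)))
      exact Finset.mem_erase.2 ⟨fun e => hne (congrArg Subtype.val e), Finset.mem_subtype.2
        (Nat.mem_primeFactors.2 ⟨hr, hd.trans H.index_dvd_card, Nat.card_pos.ne'⟩)⟩
  rw [← H.card_mul_index, Nat.factorization_mul Nat.card_pos.ne' FiniteIndex.index_ne_zero,
    Finsupp.add_apply, Nat.factorization_eq_zero_of_not_dvd h3, zero_add]
  conv_rhs => rw [h4, hp.factorization_pow, Finsupp.single_eq_same]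
  exact h4

end Cfsg.Agent.S0021
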