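import Cfsg.Statements.S0031
import Cfsg.Agent.Lib.Solv.Basic
import Mathlib.GroupTheory.FixedPointFree

set_option autoImplicit false
open Cfsg

namespace Cfsg.Agent.S0031

/-- A fixed-point-free automorphism of a finite group maps some Sylow p-subgroup to itself. -/
theorem result {G : Type*} [Group G] [Finite G] (φ : G ≃* G)
    (hφ : MonoidHom.FixedPointFree (φ : G →* G)) (p : ℕ) [Fact p.Prime] :
    ∃ P : Sylow p G, (P : Subgroup G).map (φ : G →* G) = P := by
  open Pointwise Subgroup Cfsg.Agent.Solv in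
  obtain ⟨P⟩ : Nonempty (Sylow p G) := inferInstance
  obtain ⟨h, hh⟩ := MulAction.exists_smul_eq G P (P.mapSurjective (f := (φ : G →* G)) φ.surjective)
  obtain ⟨y, hy⟩ := hφ.commutatorMap_surjective h⁻¹
  refine ⟨y⁻¹ • P, ?_⟩
  have h1 : (P : Subgroup G).map (φ : G →* G) = MulAut.conj h • (P : Subgroup G) :=
    (congrArg Sylow.toSubgroup hh).symm
  show (MulAut.conj y⁻¹ • (P : Subgroup G)).map (φ : G →* G) = MulAut.conj y⁻¹ • (P : Subgroup G)
  rw [map_conj_smul, h1, conj_smul_conj_smul]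
  congr 2
  rw [MonoidHom.commutatorMap_apply, div_eq_mul_inv, eq_comm, inv_eq_iff_eq_inv] at hy
  rw [hy]; simp

end Cfsg.Agent.S0031
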