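import Cfsg.Statements.S0032
import Cfsg.Agent.Lib.Solv.Basic
import Mathlib.GroupTheory.FixedPointFree

set_option autoImplicit false
open Cfsg

namespace Cfsg.Agent.S0032

/-- If an automorphism of a finite group fixes only the identity and maps a normal subgroup N into itself, then the only cosets of N it fixes are those in N: a fixed coset xN forces x ∈ N. -/
theorem result {G : Type*} [Group G] [Finite G] (φ : G ≃* G)
    (hφ : MonoidHom.FixedPointFree (φ : G →* G)) (N : Subgroup G) [N.Normal] (hN : ∀ n ∈ N, φ n ∈ N)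
    (x : G) (hx : (φ x)⁻¹ * x ∈ N) : x ∈ N := by
    let ψ : N →* N := ((φ : G →* G).comp N.subtype).codRestrict N fun n => hN n n.2
    have hψ : MonoidHom.FixedPointFree ψ := fun n hn => Subtype.ext (hφ n (congrArg Subtype.val hn))
    obtain ⟨m, hm⟩ := hψ.commutatorMap_surjective ⟨_, N.inv_mem hx⟩
    have h1 : (m : G) * (φ m)⁻¹ = ((φ x)⁻¹ * x)⁻¹ := by
      rw [MonoidHom.commutatorMap_apply, div_eq_mul_inv] at hm
      exact congrArg Subtype.val hm
    have h2 : x * m = 1 := hφ _ (by
      show φ (x * m) = x * m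
      rw [map_mul]
      calc φ x * φ m = x * (((φ x)⁻¹ * x)⁻¹) * φ m := by group
        _ = _ := by rw [← h1]; group)
    rw [eq_inv_of_mul_eq_one_left h2]
    exact N.inv_mem m.2

end Cfsg.Agent.S0032
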