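import Cfsg.Statements.S0036
import Cfsg.Agent.Lib.Solv.Frob

set_option autoImplicit false
open Cfsg

namespace Cfsg.Agent.S0036

/-- When a Frobenius complement contains an involution, an elementary argument shows the Frobenius kernel is closed under multiplication (hence a subgroup). -/
theorem result {G : Type*} [Group G] [Finite G] (H : Subgroup G) (hH : Cfsg.IsFrobeniusComplement H)
    (t : G) (ht : t ∈ H) (ht1 : t ≠ 1) (ht2 : t * t = 1) :
    ∀ x ∈ Cfsg.frobeniusKernel H, ∀ y ∈ Cfsg.frobeniusKernel H, x * y ∈ Cfsg.frobeniusKernel H := by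
    open Pointwise in
    classical
    have htinv : t⁻¹ = t := inv_eq_of_mul_eq_one_right ht2
    have key : ∀ a b : G, (a * t * a⁻¹) * (b * t * b⁻¹) ∈ Cfsg.frobeniusKernel H ∨ a⁻¹ * b ∈ H := by
      intro a b
      by_cases h1 : (a * t * a⁻¹) * (b * t * b⁻¹) = 1
      · exact .inl (.inl h1)
      by_cases hk : (a * t * a⁻¹) * (b * t * b⁻¹) ∈ Cfsg.frobeniusKernel H
      · exact .inl hk
      right
      rw [Solv.mem_frobeniusKernel, not_or, not_forall] at hk
      obtain ⟨-, g, hg⟩ := hk
      rw [not_not, ← Solv.mem_conj_smul] at hg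
      have hH' := Solv.frob_conj hH g
      have ha : a * t * a⁻¹ ∈ MulAut.conj g • H := Solv.frob_mem_of_conj_mem (g := a * t * a⁻¹) hH' hg h1 (by
        have := Subgroup.inv_mem _ hg
        simp only [mul_inv_rev, htinv, inv_inv] at this ⊢
        rw [show a * t * a⁻¹ * (a * t * a⁻¹ * (b * t * b⁻¹)) * (a * (t * a⁻¹)) =
          a * (t * t) * a⁻¹ * (b * (t * b⁻¹) * (a * (t * a⁻¹))) by group, ht2]
        simpa using this)
      have hb : b * t * b⁻¹ ∈ MulAut.conj g • H := (Subgroup.mul_mem_cancel_left _ ha).1 hg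
      have h2 := Solv.frob_inv_mul_mem hH (by simpa using ht1) ha (Solv.conj_mem_conj_smul a ht)
      have h3 := Solv.frob_inv_mul_mem hH (by simpa using ht1) (Solv.conj_mem_conj_smul b ht) hb
      simpa [mul_assoc] using H.mul_mem h2 h3
    -- choose representatives
    have key2 : ∀ a b : G ⧸ H, (a.out * t * a.out⁻¹) * (b.out * t * b.out⁻¹) ∈ Cfsg.frobeniusKernel H := by
      intro a b
      rcases key a.out b.out with h | h
      · exact h
      · rw [← QuotientGroup.eq, QuotientGroup.out_eq', QuotientGroup.out_eq'] at h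
        subst h
        left
        rw [show a.out * t * a.out⁻¹ * (a.out * t * a.out⁻¹) = a.out * (t * t) * a.out⁻¹ by group, ht2]
        simp
    let a₀ : G ⧸ H := (1 : G)
    let f : G ⧸ H → Cfsg.frobeniusKernel H := fun b => ⟨_, key2 a₀ b⟩
    have hf : Function.Injective f := by
      intro a b h
      have h1 : a.out * t * a.out⁻¹ = b.out * t * b.out⁻¹ := mul_left_cancel (congrArg Subtype.val h)
      rw [← a.out_eq', ← b.out_eq', QuotientGroup.eq]
      exact Solv.frob_inv_mul_mem hH (x := a.out * t * a.out⁻¹) (by simpa using ht1)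
        (h1 ▸ Solv.conj_mem_conj_smul _ ht) (Solv.conj_mem_conj_smul _ ht)
    have hs := (hf.bijective_of_nat_card_le (by rw [Solv.card_frobeniusKernel hH]; rfl)).2
    intro x hx y hy
    obtain ⟨a, ha⟩ := hs ⟨_, Solv.inv_mem_frobeniusKernel hx⟩
    obtain ⟨b, hb⟩ := hs ⟨_, hy⟩
    have ha' : (a₀.out * t * a₀.out⁻¹) * (a.out * t * a.out⁻¹) = x⁻¹ := congrArg Subtype.val ha
    have hb' : (a₀.out * t * a₀.out⁻¹) * (b.out * t * b.out⁻¹) = y := congrArg Subtype.val hb
    have := key2 a b
    rw [← inv_inv x, ← ha', ← hb']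
    convert this using 1
    simp only [mul_inv_rev, htinv, inv_inv]
    rw [show a.out * (t * a.out⁻¹) * (a₀.out * (t * a₀.out⁻¹)) * (a₀.out * t * a₀.out⁻¹ * (b.out * t * b.out⁻¹)) = 
      a.out * (t * a.out⁻¹) * a₀.out * (t * t) * a₀.out⁻¹ * (b.out * t * b.out⁻¹) by group, ht2]
    group

end Cfsg.Agent.S0036
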