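import Cfsg.Statements.S0048
import Cfsg.Agent.Lib.Solv.Prim

set_option autoImplicit false
open Cfsg

namespace Cfsg.Agent.S0048
section
open Pointwise commutatorElement Subgroup Cfsg.Agent.Solv
theorem aux (G : Type*) [Group G] [Finite G] : Group.IsSolvable G → ∀ M : Subgroup G, IsCoatom M →
    IsPrimePow M.index := by
  refine card_induction (P := fun G _ _ => Group.IsSolvable G → ∀ M : Subgroup G, IsCoatom M →
    IsPrimePow M.index) (fun G _ _ ih hs M hM => ?_) G
  have : Nontrivial G := top_ne_bot_iff.1 fun e => hM.1 (top_le_iff.1 (e ▸ bot_le))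
  obtain ⟨N, -, hN, h0, hmin⟩ := exists_minimal_normal_le (⊤ : Subgroup G) (top_ne_bot_iff.2 this)
  obtain ⟨hc, p, hp, he⟩ := minimal_normal_elementary N inferInstance h0 hmin
  by_cases h : N ≤ M
  · have := ih _ (card_quotient_lt h0) inferInstance _ (isCoatom_map_mk hM h)
    rwa [index_map_mk, sup_eq_left.2 h] at this
  · have := Fact.mk hp
    obtain ⟨k, hk⟩ := (isPGroup_of_pow_eq_one he).exists_card_eq
    rw [← IsComplement'.card_eq_index (isComplement'_of_minimal_normal_of_coatom hc hmin hM h).symm, hk]
    exact ⟨p, k, hp.prime, Nat.pos_of_ne_zero fun e => h0 (card_eq_one.1 (by rw [hk, e, pow_zero])), rfl⟩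
end

/-- In a finite solvable group every maximal subgroup has index a prime power. -/
theorem result {G : Type*} [Group G] [Finite G] [Group.IsSolvable G]
    (M : Subgroup G) (hM : IsCoatom M) : IsPrimePow M.index := by
  open Pointwise commutatorElement Subgroup Cfsg.Agent.Solv in
  exact aux G inferInstance M hM

end Cfsg.Agent.S0048
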