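import Cfsg.Statements.S0054
import Cfsg.Agent.Lib.Solv.Prim

set_option autoImplicit false
open Cfsg

namespace Cfsg.Agent.S0054

/-- A regular normal subgroup of a finite 2-transitive group is elementary abelian: it is commutative and all its elements have order dividing one prime. -/
theorem result {G : Type*} [Group G] [Finite G]
    {X : Type*} [Nonempty X] [MulAction G X] (h2 : MulAction.IsMultiplyPretransitive G X 2)
    (N : Subgroup G) [N.Normal] (htrans : MulAction.IsPretransitive N X) (hreg : ∀ x : X, MulAction.stabilizer N x = ⊥) :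
    IsMulCommutative N ∧ ∃ p : ℕ, p.Prime ∧ ∀ n ∈ N, n ^ p = 1 := by
  open Pointwise commutatorElement Subgroup Cfsg.Agent.Solv in
  by_cases h0 : N = ⊥
  · subst h0
    exact ⟨inferInstance, 2, Nat.prime_two, fun n hn => by rw [mem_bot.1 hn, one_pow]⟩
  obtain ⟨x⟩ := ‹Nonempty X›
  have h1 : ∀ n : G, n ∈ N → n • x = x → n = 1 := fun n hn e =>
    congrArg (Subtype.val : N → G) (mem_bot.1 (hreg x ▸ (show (⟨n, hn⟩ : N) ∈ MulAction.stabilizer N x from e)))
  have h3 : ∀ n : G, n ∈ N → n ≠ 1 → ∀ m : G, m ∈ N → m ≠ 1 → ∃ g : G, g * n * g⁻¹ = m := fun n hn hn1 m hm hm1 => by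
    obtain ⟨g, h4, h5⟩ : ∃ g : G, g • x = x ∧ g • n • x = m • x := MulAction.is_two_pretransitive_iff.1 h2
      (fun e => hn1 (h1 n hn e.symm)) (fun e => hm1 (h1 m hm e.symm))
    refine ⟨g, (inv_mul_eq_one.1 (h1 _ (mul_mem (inv_mem hm) (‹N.Normal›.conj_mem n hn g)) ?_)).symm⟩
    rw [mul_smul, mul_smul, mul_smul, inv_smul_eq_iff.2 h4.symm, h5, inv_smul_smul]
  obtain ⟨a, ha, hp⟩ := exists_orderOf_prime_of_ne_bot h0
  have := Fact.mk hp
  have h4 : ∀ n ∈ N, n ^ orderOf a = 1 := fun n hn => by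
    by_cases e : n = 1
    · rw [e, one_pow]
    · obtain ⟨g, rfl⟩ := h3 a ha (ne_one_of_orderOf_prime hp) n hn e
      rw [conj_pow, pow_orderOf_eq_one]; group
  obtain ⟨z, hz, hz1⟩ := exists_ne_one_of_ne_bot (Transfer.inf_centralizer_ne_bot (isPGroup_of_pow_eq_one h4)
    le_rfl le_normalizer h0)
  refine ⟨le_centralizer_iff_isMulCommutative.1 fun n hn => ?_, _, hp, h4⟩
  by_cases e : n = 1
  · rw [e]; exact one_mem _
  · obtain ⟨g, rfl⟩ := h3 z hz.1 hz1 n hn e
    exact (inferInstance : (centralizer (N : Set G)).Normal).conj_mem _ hz.2 g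

end Cfsg.Agent.S0054
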