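import Cfsg.Statements.S0057
import Cfsg.Agent.Lib.Solv.Prim

set_option autoImplicit false
open Cfsg

namespace Cfsg.Agent.S0057

/-- Under coprime action, if the centraliser of A in K has prime index p in K then the commutator subgroup [K, A] has order exactly p. -/
theorem result {G : Type*} [Group G] [Finite G] (A K : Subgroup G) (hAK : A ≤ Subgroup.normalizer (K : Set G))
    (hcop : (Nat.card A).Coprime (Nat.card K)) (hsolv : Group.IsSolvable A ∨ Group.IsSolvable K)
    (p : ℕ) (hp : p.Prime) (hidx : (K ⊓ Subgroup.centralizer (A : Set G)).relIndex K = p) :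
    Nat.card (⁅K, A⁆ : Subgroup G) = p := by
  open Pointwise commutatorElement Subgroup Cfsg.Agent.Solv in
  have := Fact.mk hp
  obtain ⟨P, hP, h1⟩ := coprime_exists_sylowIn hAK hcop hsolv p
  have h2 : IsProd K (K ⊓ centralizer (A : Set G)) P := isProd_of_coprime inf_le_left hP.1
    (hidx ▸ (hp.coprime_iff_not_dvd.2 hP.3))
  have h3 : ⁅K, A⁆ = ⁅P, A⁆ := le_antisymm (commutator_le.2 fun k hk a ha => by
    obtain ⟨x, hx, c, hc, rfl⟩ := h2.symm k hk
    have := mem_centralizer_iff.1 hc.2 a ha
    rw [show ⁅x * c, a⁆ = ⁅x, a⁆ by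
      simp only [commutatorElement_def]
      calc _ = x * (c * a) * c⁻¹ * x⁻¹ * a⁻¹ := by group
        _ = _ := by rw [← this]; group]
    exact commutator_mem_commutator hx ha) (commutator_mono hP.1 le_rfl)
  have h4 : (P ⊓ centralizer (A : Set G)).relIndex P = p := by
    rw [← hidx, ← (relIndex_eq_iff_isProd hP.1).2 h2.symm, ← inf_relIndex_left P (K ⊓ _), ← inf_assoc,
      inf_eq_left.2 hP.1]
  have h5 := le_normalizer_of_relIndex_prime hP.2 inf_le_left h4
  have hc := hcop.coprime_dvd_right (card_dvd_of_le hP.1)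
  have := hP.2.isNilpotent
  have h6 := coprime_commutator_sup_centralizer h1 hc (Or.inr inferInstance)
  have h7 := coprime_commutator_commutator h1 hc (Or.inr inferInstance)
  have h8 := commutator_le_left_of_le_normalizer h1
  have h9 : ⁅P, A⁆ ≤ centralizer ((P ⊓ centralizer (A : Set G) : Subgroup G) : Set G) := by
    rw [← commutator_eq_bot_iff_le_centralizer]
    refine commutator_commutator_eq_bot_of_rotate ?_ ?_
    · rw [commutator_eq_bot_iff_le_centralizer.2 (le_centralizer_iff.1 inf_le_right), commutator_bot_left]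
    · exact commutator_eq_bot_iff_le_centralizer.2 ((commutator_le_left_of_le_normalizer h5).trans inf_le_right)
  have h10 : (⁅P, A⁆ ⊓ centralizer (A : Set G)).relIndex ⁅P, A⁆ = p := by
    rw [← h4, ← (relIndex_eq_iff_isProd h8).2 (by
      have := isProd_sup_of_le_normalizer (h8.trans h5)
      rwa [h6] at this), ← inf_relIndex_left ⁅P, A⁆ (P ⊓ _),
      ← inf_assoc, inf_eq_left.2 h8]
  obtain ⟨x, hx, h11⟩ := SetLike.not_le_iff_exists.1 (fun e : ⁅P, A⁆ ≤ ⁅P, A⁆ ⊓ centralizer (A : Set G) =>
    hp.ne_one (h10.symm.trans (relIndex_eq_one.2 e)))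
  have h12 : IsMulCommutative (⁅P, A⁆ : Subgroup G) := by
    rw [← sup_zpowers_eq_of_relIndex_prime inf_le_left (h10 ▸ hp) hx h11]
    have h13 := h9.trans (centralizer_anti (inf_le_inf_right (centralizer (A : Set G)) h8))
    exact isMulCommutative_sup_zpowers (le_centralizer_iff_isMulCommutative.1 (inf_le_left.trans h13)) (h13 hx)
  have h13 := coprime_abelian_inf_eq_bot h12 (le_normalizer_commutator h1 le_normalizer)
    (hc.coprime_dvd_right (card_dvd_of_le h8))
  rw [h7, inf_eq_left.2 inf_le_left] at h13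
  rwa [h13, relIndex_bot_left, ← h3] at h10

end Cfsg.Agent.S0057
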