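import Cfsg.Statements.S0060
import Cfsg.Agent.Lib.Solv.Prim

set_option autoImplicit false
open Pointwise
open Cfsg

namespace Cfsg.Agent.S0060

/-- Brodkey's Theorem: in a finite group with abelian Sylow p-subgroups and no nontrivial normal p-subgroup, some conjugate of a Sylow p-subgroup meets it trivially. -/
theorem result {G : Type*} [Group G] [Finite G] (p : ℕ) [Fact p.Prime]
    (S : Sylow p G) (hS : IsMulCommutative S) (hOp : Cfsg.pCore p G = ⊥) :
    ∃ g : G, (S : Subgroup G) ⊓ MulAut.conj g • (S : Subgroup G) = ⊥ := by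
  open Pointwise commutatorElement Subgroup Cfsg.Agent.Solv in
  obtain ⟨D, -, ⟨g, rfl⟩, h1⟩ := exists_minimal_le
    (P := fun D : Subgroup G => ∃ g : G, D = (S : Subgroup G) ⊓ MulAut.conj g • (S : Subgroup G)) ⟨1, rfl⟩
  refine ⟨g, le_bot_iff.1 (hOp ▸ pCore_eq_iInf_sylow (p := p) (G := G) ▸ le_iInf fun U => ?_)⟩
  have h2 : IsMulCommutative (MulAut.conj g • (S : Subgroup G) : Subgroup G) := by
    rw [conj_smul_eq_map]; infer_instance
  set D := (S : Subgroup G) ⊓ MulAut.conj g • (S : Subgroup G)
  have h3 : (S : Subgroup G) ≤ centralizer (D : Set G) := (le_centralizer _).trans (centralizer_anti inf_le_left)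
  have h4 : MulAut.conj g • (S : Subgroup G) ≤ centralizer (D : Set G) :=
    (le_centralizer _).trans (centralizer_anti inf_le_right)
  obtain ⟨n, hn, h5⟩ := (((isSylowIn_top S).conj_smul_of_mem (mem_top g)).of_le h4 le_top).exists_le_conj
    (U.2.to_inf_left (K := centralizer (D : Set G))) inf_le_right
  obtain ⟨x, -, hx⟩ := (isSylowIn_top S).exists_conj (isSylowIn_top U)
  have h6 := conj_smul_eq_self_iff.2 (normalizer_le_normalizer_centralizer D (centralizer_le_normalizer _ (inv_mem hn)))
  have h7 := h1 _ ⟨n⁻¹ * x, rfl⟩ (le_inf inf_le_left (by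
    rw [← conj_smul_conj_smul, hx]
    refine le_trans ?_ ((conj_smul_mono n⁻¹ h5).trans (conj_inv_smul_conj_smul _ _).le)
    rw [smul_inf, h6, inf_comm]
    exact inf_le_inf_left _ h3))
  rw [← conj_smul_eq_self_iff.2 (centralizer_le_normalizer _ hn : n ∈ normalizer (D : Set G)), ← h7, ← hx]
  refine (conj_smul_mono n inf_le_right).trans ?_
  rw [conj_smul_conj_smul, mul_inv_cancel_left]

end Cfsg.Agent.S0060
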