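import Cfsg.Statements.S0064
import Cfsg.Agent.Lib.Solv.Frattini

set_option autoImplicit false
open Cfsg

namespace Cfsg.Agent.S0064

/-- A finite group is nilpotent exactly when each of its subgroups is subnormal. -/
theorem result {G : Type*} [Group G] [Finite G] :
    Group.IsNilpotent G ↔ ∀ H : Subgroup G, H.IsSubnormal := by
  constructor
  · intro h H
    induction H using (wellFounded_gt (α := Subgroup G)).induction with
    | _ H ih =>
    by_cases ht : H = ⊤
    · rw [ht]; exact Subgroup.IsSubnormal.top
    · have := Group.normalizerCondition_of_isNilpotent H (lt_top_iff_ne_top.2 ht)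
      exact Subgroup.IsSubnormal.step H _ this.le (ih _ this) inferInstance
  · intro h
    refine Solv.isNilpotent_of_forall_sylow fun p hp _ => ?_
    have := Fact.mk hp
    obtain ⟨P⟩ : Nonempty (Sylow p G) := inferInstance
    refine ⟨P, ?_⟩
    rw [le_antisymm (Solv.le_pCore_of_isSubnormal (h P) P.isPGroup') (Solv.pCore_le_sylow P)]
    infer_instance

end Cfsg.Agent.S0064
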