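import Cfsg.Statements.S0068
import Cfsg.Agent.Lib.Solv.Frob

set_option autoImplicit false
open Cfsg

namespace Cfsg.Agent.S0068

/-- Frobenius complements of even order: if H complements a nontrivial normal subgroup K, each nonidentity element of H has trivial centraliser in K, and H has even order, then H contains a unique involution s, K is abelian, and s inverts every element of K. -/
theorem result {G : Type*} [Group G] [Finite G] (K H : Subgroup G) [K.Normal]
    (hc : Subgroup.IsComplement' K H) (hK : K ≠ ⊥) (hfpf : ∀ h ∈ H, h ≠ 1 → K ⊓ Subgroup.centralizer {h} = ⊥)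
    (heven : 2 ∣ Nat.card H) :
    (∃ s ∈ H, orderOf s = 2 ∧ (∀ t ∈ H, orderOf t = 2 → t = s) ∧ ∀ k ∈ K, s * k * s⁻¹ = k⁻¹) ∧ IsMulCommutative K := by
  open Pointwise Subgroup Cfsg.Agent.Solv in
  have := Fact.mk Nat.prime_two
  have hn : H ≤ normalizer (K : Set G) := le_normalizer_of_normal
  have inv : ∀ s ∈ H, orderOf s = 2 → ∀ k ∈ K, s * k * s⁻¹ = k⁻¹ := by
    intro s hs h2 k hk
    have hs1 : s ≠ 1 := fun h => by simp [h] at h2
    have hss : s * s = 1 := by rw [← pow_two, ← h2, pow_orderOf_eq_one]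
    obtain ⟨x, hx, hxk⟩ := exists_conj_eq_mul_of_fpf (hn hs) (hfpf s hs hs1) hk
    have h3 : k * s * (k * s) = 1 := by
      rw [← hxk, show x * s * x⁻¹ * (x * s * x⁻¹) = x * (s * s) * x⁻¹ by group, hss]; simp
    rw [inv_eq_of_mul_eq_one_right hss]
    calc s * k * s = k⁻¹ * (k * s * (k * s)) := by group
      _ = k⁻¹ := by rw [h3, mul_one]
  obtain ⟨s, hs⟩ := exists_prime_orderOf_dvd_card' 2 heven
  have hs2 : orderOf (s : G) = 2 := by rw [orderOf_coe, hs]
  refine ⟨⟨s, s.2, hs2, fun t ht ht2 => ?_, inv s s.2 hs2⟩, isMulCommutative_iff.2 fun a ha b hb => ?_⟩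
  · by_contra hne
    apply hK
    rw [← hfpf ((s : G)⁻¹ * t) (mul_mem (inv_mem s.2) ht) (fun h => hne (inv_mul_eq_one.1 h).symm),
      eq_comm, inf_eq_left]
    intro k hk
    rw [mem_centralizer_singleton]
    have h1 := inv s s.2 hs2 k hk
    rw [← inv t ht ht2 k hk] at h1
    calc (s : G)⁻¹ * t * k = (s : G)⁻¹ * (t * k * t⁻¹) * t := by group
      _ = _ := by rw [← h1]; group
  · have h1 := inv s s.2 hs2 _ (mul_mem ha hb)
    rw [show s * (a * b) * (s : G)⁻¹ = (s * a * (s : G)⁻¹) * (s * b * (s : G)⁻¹) by group,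
      inv s s.2 hs2 a ha, inv s s.2 hs2 b hb, ← mul_inv_rev, inv_inj] at h1
    exact h1.symm

end Cfsg.Agent.S0068
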