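import Cfsg.Statements.S0073
import Cfsg.Agent.Lib.Transfer.Hall

set_option autoImplicit false
open Cfsg

namespace Cfsg.Agent.S0073

set_option linter.unusedSectionVars false
set_option linter.unusedVariables false
set_option linter.style.haveILetI false
set_option linter.unusedSimpArgs false

open Cfsg.Agent.Transfer Subgroup

/-- For a finite non-abelian simple group, either the cube of the least prime divisor of the order divides the order, or 12 does. -/
theorem result {G : Type*} [Group G] [Finite G] [IsSimpleGroup G] (hG : ∃ x y : G, x * y ≠ y * x) : (Nat.card G).minFac ^ 3 ∣ Nat.card G ∨ 12 ∣ Nat.card G := by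
  obtain ⟨x, y, hxy⟩ := hG
  have hn1 : Nat.card G ≠ 1 := by
    intro h
    haveI := (Nat.card_eq_one_iff_unique.1 h).1
    exact hxy (Subsingleton.elim _ _)
  set p := (Nat.card G).minFac with hpdef
  have hp : p.Prime := Nat.minFac_prime hn1
  haveI := Fact.mk hp
  obtain ⟨P⟩ := (inferInstance : Nonempty (Sylow p G))
  obtain ⟨n, hn⟩ := P.2.exists_card_eq
  by_cases h3 : 3 ≤ n
  · exact Or.inl ((pow_dvd_pow p h3).trans (hn ▸ card_subgroup_dvd_card _))
  right
  have hcomm : IsMulCommutative P := by
    rcases Nat.lt_or_ge n 2 with h | h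
    · have : Nat.card P ∣ p := by
        rw [hn]; conv_rhs => rw [← pow_one p]
        exact pow_dvd_pow _ (by omega)
      haveI := isCyclic_of_card_dvd_prime this
      infer_instance
    · exact IsPGroup.isMulCommutative_of_card_eq_prime_sq (p := p) (by rw [hn]; congr 1; omega)
  have hno : ¬ HasNormalPComplement p G := by
    rw [hasNPC_iff_sylow P]
    rintro ⟨N, hN, hc⟩
    rcases hN.eq_bot_or_eq_top with rfl | rfl
    · rw [isComplement'_bot_left] at hc
      apply hxy
      have := hcomm.1.1 ⟨x, by change x ∈ (P : Subgroup G); rw [hc]; trivial⟩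
        ⟨y, by change y ∈ (P : Subgroup G); rw [hc]; trivial⟩
      exact congrArg Subtype.val this
    · rw [isComplement'_top_left] at hc
      exact P.ne_bot_of_dvd_card (Nat.minFac_dvd _) hc
  obtain ⟨q, j, hq, hqp, hqd, hj, hdvd⟩ := exists_prime_of_not_res_le hn le_rfl
    fun h => hno (hasNPC_of_abelian_sylow P hcomm h)
  have hqG : q ∣ Nat.card G := hqd.trans (card_subgroup_dvd_card _)
  have hpq : p < q := lt_of_le_of_ne (Nat.minFac_le_of_dvd hq.two_le hqG) hqp.symm
  have hp2 := hp.two_le
  have hnj : n - j = 1 ∨ n - j = 2 := by omega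
  rcases hnj with h | h
  · rw [h, pow_one] at hdvd
    have := Nat.le_of_dvd (by omega) hdvd
    omega
  · rw [h, show p ^ 2 - 1 = (p + 1) * (p - 1) by simpa using Nat.sq_sub_sq p 1] at hdvd
    rcases (Nat.Prime.dvd_mul hq).1 hdvd with h1 | h1
    · have h2 := Nat.le_of_dvd (by omega) h1
      have h4 : q = p + 1 := by omega
      have hp' : p = 2 := by
        by_contra hne
        have h5 := hp.eq_two_or_odd'.resolve_left hne
        have h6 := hq.eq_two_or_odd'.resolve_left (by omega)
        rw [h4] at h6
        exact (Nat.not_even_iff_odd.2 h6) h5.add_one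
      have h7 : 4 ∣ Nat.card G := by
        have : Nat.card P = 4 := by rw [hn, hp', show n = 2 by omega]; norm_num
        exact this ▸ card_subgroup_dvd_card (P : Subgroup G)
      have h8 : 3 ∣ Nat.card G := by rwa [h4, hp'] at hqG
      exact Nat.Coprime.mul_dvd_of_dvd_of_dvd (by norm_num : Nat.Coprime 3 4) h8 h7
    · have := Nat.le_of_dvd (by omega) h1
      omega

end Cfsg.Agent.S0073
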