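import Cfsg.Statements.S0075
import Cfsg.Agent.Lib.Transfer.Hall

set_option autoImplicit false
open Cfsg

namespace Cfsg.Agent.S0075

set_option linter.unusedSectionVars false
set_option linter.unusedVariables false
set_option linter.style.haveILetI false
set_option linter.unusedSimpArgs false

open Cfsg.Agent.Transfer Subgroup
open scoped commutatorElement

/-- For an abelian Sylow p-subgroup T, its intersection with the subgroup generated by the elements of order prime to p is the commutator of T with its normalizer. -/
theorem result {G : Type*} [Group G] [Finite G] {p : ℕ} [Fact p.Prime] (T : Sylow p G) (hT : IsMulCommutative T) : (T : Subgroup G) ⊓ Cfsg.pResidual p G = ⁅(T : Subgroup G), Subgroup.normalizer (T : Set G)⁆ := by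
  apply le_antisymm
  · have := (isSyl_top T).inf_commutator_eq_of_controls le_normalizer le_top
      fun x hx g _ hg => exists_normalizer_conj_of_abelian T hT hx hg
    refine le_trans ?_ this
    rw [res_top]
    exact inf_le_inf_left _ le_sup_right
  · refine le_inf (le_normalizer_iff_commutator_le_left.1 le_rfl) ?_
    rw [commutator_le]
    intro t ht n _
    obtain ⟨s, hs, a, ha, rfl⟩ := (isSyl_top T).exists_mul_res (mem_top n)
    rw [res_top] at ha
    have hc : t * s = s * t := congrArg Subtype.val (hT.1.1 ⟨t, ht⟩ ⟨s, hs⟩)
    have e : ⁅t, s * a⁆ = s * (t * a * t⁻¹ * a⁻¹) * s⁻¹ := by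
      rw [commutatorElement_def, ← mul_assoc t s a, hc]; group
    rw [e]
    exact Normal.conj_mem inferInstance _ (mul_mem (Normal.conj_mem inferInstance _ ha _) (inv_mem ha)) _

end Cfsg.Agent.S0075
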