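import Cfsg.Statements.S0076
import Cfsg.Agent.Lib.Transfer.Basic

set_option autoImplicit false
open Cfsg

namespace Cfsg.Agent.S0076

set_option linter.unusedSectionVars false
set_option linter.unusedVariables false
set_option linter.style.haveILetI false
set_option linter.unusedSimpArgs false

open Cfsg.Agent.Transfer Subgroup

/-- Two P-invariant subsets of a Sylow p-subgroup P that are conjugate in G are conjugate under the normalizer of P. -/
theorem result {G : Type*} [Group G] [Finite G] {p : ℕ} [Fact p.Prime] (P : Sylow p G) (X Y : Set G) (hXP : X ⊆ P) (hYP : Y ⊆ P) (hX : ∀ x ∈ P, (fun y => x * y * x⁻¹) '' X = X) (hY : ∀ x ∈ P, (fun y => x * y * x⁻¹) '' Y = Y) (g : G) (hg : (fun y => g * y * g⁻¹) '' X = Y) : ∃ n ∈ Subgroup.normalizer (P : Set G), (fun y => n * y * n⁻¹) '' X = Y := by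
  have hPY : (P : Subgroup G) ≤ normalizer Y := fun x hx =>
    mem_normalizer_iff_conj_image_eq.2 (hY x hx)
  have hPY' : cj g P ≤ normalizer Y := by
    rw [cj_le_iff]
    intro x hx
    rw [mem_normalizer_iff_conj_image_eq]
    have e : (MulAut.conj (g * x * g⁻¹) : G → G) = (fun y => g * y * g⁻¹) ∘ (fun y => x * y * x⁻¹) ∘
      (fun y => g⁻¹ * y * g) := by
      funext y; simp [mul_assoc]
    have e2 : (fun y => g⁻¹ * y * g) '' Y = X := by
      rw [← hg, Set.image_image]; simp [mul_assoc]
    rw [e, Set.image_comp, Set.image_comp, e2, hX x hx, hg]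
  have h1 : IsSyl p (P : Subgroup G) (normalizer Y) := (isSyl_top P).mono hPY le_top
  have h2 : IsSyl p (cj g P) (normalizer Y) := (isSyl_top (g • P)).mono hPY' le_top
  obtain ⟨n, hn, he⟩ := h1.exists_cj_eq h2
  rw [cj_cj, ← mem_normalizer_iff_cj] at he
  refine ⟨n * g, he, ?_⟩
  have e : (fun y => n * g * y * (n * g)⁻¹) = (MulAut.conj n : G → G) ∘ (fun y => g * y * g⁻¹) := by
    funext y; simp [mul_assoc]
  rw [e, Set.image_comp, hg]
  exact mem_normalizer_iff_conj_image_eq.1 hn

end Cfsg.Agent.S0076
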