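import Cfsg.Statements.S0078
import Cfsg.Agent.Lib.Transfer.Hall

set_option autoImplicit false
open Cfsg

namespace Cfsg.Agent.S0078

set_option linter.unusedSectionVars false
set_option linter.unusedVariables false
set_option linter.style.haveILetI false
set_option linter.unusedSimpArgs false

open Cfsg.Agent.Transfer Subgroup

/-- In a p-normal group, a Sylow p-subgroup P meets O^p(G) exactly where it meets O^p(V), for any subgroup V containing the normalizer of the centre of P. -/
theorem result {G : Type*} [Group G] [Finite G] {p : ℕ} [Fact p.Prime] (P : Sylow p G) (hn : ∀ Q : Sylow p G, (P : Subgroup G) ⊓ Subgroup.centralizer (P : Set G) ≤ (Q : Subgroup G) → (Q : Subgroup G) ⊓ Subgroup.centralizer (Q : Set G) = (P : Subgroup G) ⊓ Subgroup.centralizer (P : Set G)) (V : Subgroup G) (hV : Subgroup.normalizer (((P : Subgroup G) ⊓ Subgroup.centralizer (P : Set G) : Subgroup G) : Set G) ≤ V) : (P : Subgroup G) ⊓ Cfsg.pResidual p G = (P : Subgroup G) ⊓ (Cfsg.pResidual p V).map V.subtype := by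
  have hW : IsWeaklyClosed ((P : Subgroup G) ⊓ centralizer (P : Set G)) (P : Subgroup G) := by
    refine ⟨inf_le_left, fun g hg => ?_⟩
    have h1 := hn (g⁻¹ • P) (by rw [← cj_sylow, ← cj_le_iff_le_cj_inv]; exact hg)
    have h2 : ((g⁻¹ • P : Sylow p G) : Set G) = (cj g⁻¹ P : Set G) := rfl
    rw [h2, ← cj_sylow, ← cj_centralizer, ← cj_inf] at h1
    exact cj_eq_iff_eq_cj_inv.2 h1.symm
  have hPZ : (P : Subgroup G) ≤ centralizer (((P : Subgroup G) ⊓ centralizer (P : Set G) : Subgroup G) : Set G) :=
    le_centralizer_iff.1 inf_le_right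
  refine sylow_inf_pResidual_eq_of_controls P ((hPZ.trans (centralizer_le_normalizer _)).trans hV) ?_
  intro x hx g hg
  obtain ⟨n, hn, he⟩ := exists_normalizer_conj_of_weaklyClosed P hW (hPZ hx) (hPZ hg)
  exact ⟨n, hV hn, he⟩

end Cfsg.Agent.S0078
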