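import Cfsg.Statements.S0080
import Cfsg.Agent.Lib.Transfer.Hall

set_option autoImplicit false
open Cfsg

namespace Cfsg.Agent.S0080

set_option linter.unusedSectionVars false
set_option linter.unusedVariables false
set_option linter.style.haveILetI false
set_option linter.unusedSimpArgs false

open Cfsg.Agent.Transfer Subgroup
open scoped IsMulCommutative

/-- When the index of H is prime to the order of H/H', the focal subgroup of H is G' ∩ H, and H/(G' ∩ H) has a normal complement. -/
theorem result {G : Type*} [Group G] [Finite G] (H : Subgroup G) (h : Nat.Coprime H.index (⁅H, H⁆.relIndex H)) : Subgroup.focalSubgroup H = commutator G ⊓ H ∧ ∃ N : Subgroup G, N.Normal ∧ N ⊓ H = commutator G ⊓ H ∧ N ⊔ H = ⊤ := by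
  have hcop : (Nat.card (H ⧸ H.focalSubgroupOf)).Coprime H.index := by
    refine Nat.Coprime.coprime_dvd_left ?_ h.symm
    rw [← index_eq_card]
    exact relIndex_dvd_of_le_left H (commutator_le_focalSubgroup H)
  have hker : H.transferFocal.ker ⊓ H = H.focalSubgroup := by
    ext x
    constructor
    · rintro ⟨h1, h2⟩
      have h3 : H.transferFocal (⟨x, h2⟩ : H) = 1 := h1
      rw [transferFocal_eq_pow] at h3
      have h4 := (powCoprime hcop).injective (a₁ := ((⟨x, h2⟩ : H) : H ⧸ H.focalSubgroupOf))
        (a₂ := 1) (by simpa using h3)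
      rw [QuotientGroup.eq_one_iff] at h4
      exact h4
    · intro hx
      have h2 := focalSubgroup_le H hx
      refine mem_inf.2 ⟨?_, h2⟩
      change H.transferFocal (⟨x, h2⟩ : H) = 1
      rw [transferFocal_eq_pow, (QuotientGroup.eq_one_iff _).2 (show (⟨x, h2⟩ : H) ∈ H.focalSubgroupOf from hx), one_pow]
  have h1 : H.focalSubgroup = _root_.commutator G ⊓ H := by
    refine le_antisymm (le_inf H.focalSubgroup_le_commutator H.focalSubgroup_le) ?_
    rw [← hker]
    exact inf_le_inf_right _ (Abelianization.commutator_subset_ker _)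
  refine ⟨h1, H.transferFocal.ker, inferInstance, hker.trans h1, ?_⟩
  rw [← index_eq_one]
  refine Nat.eq_one_of_dvd_coprimes hcop ?_ (index_dvd_of_le le_sup_right)
  refine (index_dvd_of_le le_sup_left).trans ?_
  rw [index_ker]
  exact card_subgroup_dvd_card _

end Cfsg.Agent.S0080
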