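import Cfsg.Statements.S0083
import Cfsg.Agent.Lib.Transfer.Hall

set_option autoImplicit false
open Cfsg

namespace Cfsg.Agent.S0083

set_option linter.unusedSectionVars false
set_option linter.unusedVariables false
set_option linter.style.haveILetI false
set_option linter.unusedSimpArgs false

open Cfsg.Agent.Transfer Subgroup

/-- For an abelian Sylow p-subgroup P, a normal p-complement exists exactly when the normalizer of P is an internal direct product of P with some subgroup. -/
theorem result {G : Type*} [Group G] [Finite G] {p : ℕ} [Fact p.Prime] (P : Sylow p G) (hP : IsMulCommutative P) : Cfsg.HasNormalPComplement p G ↔ ∃ Q : Subgroup G, Q ≤ Subgroup.centralizer (P : Set G) ∧ Q ⊓ (P : Subgroup G) = ⊥ ∧ Q ⊔ (P : Subgroup G) = Subgroup.normalizer (P : Set G) := by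
  have hS : IsSyl p (P : Subgroup G) (normalizer ((P : Subgroup G) : Set G)) :=
    (isSyl_top P).mono le_normalizer le_top
  constructor
  · intro h
    have h' := hasNPC_subgroup h (normalizer ((P : Subgroup G) : Set G))
    exact ⟨_, res_normalizer_le_of_hasNPC P.2 h', by rw [inf_comm]; exact hS.hasNPC_iff.1 h',
      hS.res_sup⟩
  · rintro ⟨Q, h1, -, h3⟩
    refine hasNPC_of_normalizer_le_centralizer P ?_
    exact h3.ge.trans (sup_le h1 (le_centralizer_iff_isMulCommutative.2 hP))

end Cfsg.Agent.S0083
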