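import Cfsg.Statements.S0084
import Cfsg.Agent.Lib.Transfer.Hall

set_option autoImplicit false
open Cfsg

namespace Cfsg.Agent.S0084

set_option linter.unusedSectionVars false
set_option linter.unusedVariables false
set_option linter.style.haveILetI false
set_option linter.unusedSimpArgs false

open Cfsg.Agent.Transfer Subgroup

/-- A group whose Sylow 2-subgroups are Klein four-groups and whose order is prime to 3 has a normal 2-complement. -/
theorem result {G : Type*} [Group G] [Finite G] (T : Sylow 2 G) (hT : IsKleinFour T) (h3 : ¬ 3 ∣ Nat.card G) : Cfsg.HasNormalPComplement 2 G := by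
  refine hasNPC_of_abelian_sylow T IsKleinFour.isMulCommutative ?_
  by_contra h
  obtain ⟨q, j, hq, hq2, hd, hj, hdvd⟩ := exists_prime_of_not_res_le (n := 2)
    (show Nat.card (T : Subgroup G) = 2 ^ 2 from hT.card_four) le_rfl h
  have hqG : q ∣ Nat.card G := hd.trans (card_subgroup_dvd_card _)
  interval_cases j
  · have : q = 3 := (Nat.prime_dvd_prime_iff_eq hq Nat.prime_three).1 (by simpa using hdvd)
    exact h3 (this ▸ hqG)
  · exact hq.one_lt.ne' (by simpa using hdvd)

end Cfsg.Agent.S0084
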