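import Cfsg.Statements.S0085
import Cfsg.Agent.Lib.Transfer.Hall

set_option autoImplicit false
open Cfsg

namespace Cfsg.Agent.S0085

set_option linter.unusedSectionVars false
set_option linter.unusedVariables false
set_option linter.style.haveILetI false
set_option linter.unusedSimpArgs false

open Cfsg.Agent.Transfer Subgroup

/-- A group whose Sylow 2-subgroups are elementary abelian of order 8 and whose order is prime to 3 and to 7 has a normal 2-complement. -/
theorem result {G : Type*} [Group G] [Finite G] (T : Sylow 2 G) (h8 : Nat.card T = 8) (he : ∀ x : T, x * x = 1) (h3 : ¬ 3 ∣ Nat.card G) (h7 : ¬ 7 ∣ Nat.card G) : Cfsg.HasNormalPComplement 2 G := by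
  have hc : IsMulCommutative T := ⟨⟨fun a b => by
    have h1 := he (a * b)
    calc a * b = (b * b) * (a * b) * (a * a) := by rw [he a, he b]; simp
      _ = b * ((b * a) * (b * a)) * a := by simp only [mul_assoc]
      _ = b * a := by rw [he (b * a)]; simp⟩⟩
  refine hasNPC_of_abelian_sylow T hc ?_
  by_contra h
  obtain ⟨q, j, hq, hq2, hd, hj, hdvd⟩ := exists_prime_of_not_res_le (n := 3)
    (show Nat.card (T : Subgroup G) = 2 ^ 3 from h8) le_rfl h
  have hqG : q ∣ Nat.card G := hd.trans (card_subgroup_dvd_card _)
  interval_cases j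
  · have : q = 7 := (Nat.prime_dvd_prime_iff_eq hq (by decide)).1 (by simpa using hdvd)
    exact h7 (this ▸ hqG)
  · have : q = 3 := (Nat.prime_dvd_prime_iff_eq hq Nat.prime_three).1 (by simpa using hdvd)
    exact h3 (this ▸ hqG)
  · exact hq.one_lt.ne' (by simpa using hdvd)

end Cfsg.Agent.S0085
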