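import Cfsg.Statements.S0087
import Cfsg.Agent.Lib.Transfer.Hall

set_option autoImplicit false
open Cfsg

namespace Cfsg.Agent.S0087

set_option linter.unusedSectionVars false
set_option linter.unusedVariables false
set_option linter.style.haveILetI false
set_option linter.unusedSimpArgs false

open Cfsg.Agent.Transfer Subgroup

/-- A Hall subgroup that is central in its normalizer has a normal complement. -/
theorem result {G : Type*} [Group G] [Finite G] (H : Subgroup G) (hHall : Nat.Coprime (Nat.card H) H.index) (h : Subgroup.normalizer (H : Set G) ≤ Subgroup.centralizer (H : Set G)) : ∃ N : Subgroup G, N.Normal ∧ N.IsComplement' H := by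
  have hHC : H ≤ centralizer (H : Set G) := le_normalizer.trans h
  have hc : IsMulCommutative H := le_centralizer_iff_isMulCommutative.1 hHC
  refine exists_normal_complement_of_forall_hasNPC hHall fun p hp hd => ?_
  haveI := Fact.mk hp
  obtain ⟨S, hS⟩ := exists_isSyl p H
  have hS' := hS.of_hall le_top (by rwa [relIndex_top_right]) hd
  rw [← hasNPC_top]
  refine hS'.hasNPC_of_le_centralizer fun n hn => ?_
  have hn := (mem_inf.1 hn).2
  have h1 : H ≤ centralizer (S : Set G) := hHC.trans (centralizer_le hS.le)
  have h2 : cj n H ≤ centralizer (S : Set G) := by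
    rw [← cj_eq_of_mem_normalizer hn, ← cj_centralizer]; exact cj_mono n h1
  have h3 : IsMulCommutative (cj n H) := by
    rw [← le_centralizer_iff_isMulCommutative, ← cj_centralizer]; exact cj_mono n hHC
  obtain ⟨c, hcm, he⟩ := exists_cj_eq_of_abelian_hall hc h3 h1 h2 (card_cj n H).symm
    (Nat.Coprime.coprime_dvd_right (relIndex_dvd_index_of_le h1) hHall)
  rw [cj_cj, ← mem_normalizer_iff_cj] at he
  have := mul_mem (inv_mem hcm) (centralizer_le hS.le (h he))
  simpa using this

end Cfsg.Agent.S0087
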