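import Cfsg.Statements.S0088
import Cfsg.Agent.Lib.Transfer.Hall

set_option autoImplicit false
open Cfsg

namespace Cfsg.Agent.S0088

set_option linter.unusedSectionVars false
set_option linter.unusedVariables false
set_option linter.style.haveILetI false
set_option linter.unusedSimpArgs false

open Cfsg.Agent.Transfer Subgroup
open scoped IsMulCommutative

/-- An abelian Hall subgroup meets G' ∩ Z(G) trivially. -/
theorem result {G : Type*} [Group G] [Finite G] (H : Subgroup G) (hc : IsMulCommutative H) (hHall : Nat.Coprime (Nat.card H) H.index) : H ⊓ commutator G ⊓ Subgroup.center G = ⊥ := by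
  rw [eq_bot_iff]
  intro x hx
  obtain ⟨⟨h1, h2⟩, h3⟩ := hx
  have h1 : x ∈ H := h1
  have h3 : x ∈ center G := h3
  have key := transfer_eq_pow_of_mem (MonoidHom.id H) h1 (by
    intro k a h
    apply Subtype.ext
    change a⁻¹ * x ^ k * a = x ^ k
    rw [mul_assoc, ← mem_center_iff.1 (pow_mem h3 k) a, inv_mul_cancel_left])
  have h4 : MonoidHom.transfer (MonoidHom.id H) x = 1 := Abelianization.commutator_subset_ker _ h2
  rw [h4] at key
  have h5 := (powCoprime hHall).injective (a₁ := (⟨x, h1⟩ : H)) (a₂ := 1) (by simpa using key.symm)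
  exact congrArg Subtype.val h5

end Cfsg.Agent.S0088
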