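import Cfsg.Statements.S0090
import Cfsg.Agent.Lib.Transfer.PG

set_option autoImplicit false
open Cfsg

namespace Cfsg.Agent.S0090

set_option linter.unusedSectionVars false
set_option linter.unusedVariables false
set_option linter.style.haveILetI false
set_option linter.unusedSimpArgs false

open Subgroup Transfer MS

/-- An abelian normal Hall subgroup A splits as the internal direct product of G' ∩ A and Z(G) ∩ A, and [A, G] = G' ∩ A. -/
theorem result {G : Type*} [Group G] [Finite G] (A : Subgroup G) [A.Normal] (hc : IsMulCommutative A) (hHall : Nat.Coprime (Nat.card A) A.index) : ⁅A, (⊤ : Subgroup G)⁆ = commutator G ⊓ A ∧ (commutator G ⊓ A) ⊓ (Subgroup.center G ⊓ A) = ⊥ ∧ (commutator G ⊓ A) ⊔ (Subgroup.center G ⊓ A) = A := by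
  obtain ⟨E, -, h1, h2, h3⟩ := Solv.sz_exists_internal (K := A) (S := ⊤) le_top nn_normal (by rwa [relIndex_top_right])
  rw [relIndex_top_right] at h3
  have hcop : (#E).Coprime #A := h3 ▸ hHall.symm
  have e1 : ⁅A, (⊤ : Subgroup G)⁆ = ⁅A, E⁆ := le_antisymm (h2 ▸ comm_sup_r (left_nn_comm _ _) (right_nn_comm _ _)
    ((ab_iff_der.1 hc).le.trans bot_le) le_rfl) (commutator_mono le_rfl le_top)
  have e2 : center G ⊓ A = A ⊓ CC E := by
    rw [← centralizer_univ, ← coe_top, ← h2, cc_sup, inf_comm, ← inf_assoc, inf_eq_left.2 (ab_cc hc)]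
  have e3 : (commutator G ⊓ A) ⊓ (center G ⊓ A) = ⊥ := eq_bot_iff.2 fun z hz => by
    have := mem_der_of_central hHall hz.1.2 hz.2.1 hz.1.1
    rwa [ab_iff_der.1 hc] at this
  have e4 := cop_comm_sup (nn_normal (A := E)) hcop (sol_of_ab hc)
  have e5 : ⁅A, E⁆ ≤ commutator G ⊓ A := le_inf (commutator_mono le_top le_top) (comm_le_left nn_normal)
  have e6 : commutator G ⊓ A = ⁅A, E⁆ := by
    have := dedekind (H := commutator G ⊓ A) (B := A ⊓ CC E) e5 (inf_le_left.trans (left_nn_comm _ _))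
    rw [e4, ← e2, inf_comm (center G ⊓ A), e3, sup_bot_eq, inf_comm, inf_assoc, inf_idem] at this
    exact this
  exact ⟨e1.trans e6.symm, e3, by rw [e6, e2, e4]⟩

end Cfsg.Agent.S0090
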