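import Cfsg.Statements.S0091
import Cfsg.Agent.Lib.Transfer.Residual

set_option autoImplicit false
open Cfsg

namespace Cfsg.Agent.S0091

set_option linter.unusedSectionVars false
set_option linter.unusedVariables false
set_option linter.style.haveILetI false
set_option linter.unusedSimpArgs false

open Cfsg.Agent.Transfer Subgroup

/-- If a nontrivial Sylow p-subgroup controls its own fusion then it is not contained in the derived subgroup. -/
theorem result {G : Type*} [Group G] [Finite G] {p : ℕ} [Fact p.Prime] (P : Sylow p G) (hp : p ∣ Nat.card G) (h : ∀ x ∈ P, ∀ y ∈ P, (∃ g : G, g * x * g⁻¹ = y) → ∃ z ∈ P, z * x * z⁻¹ = y) : ¬ (P : Subgroup G) ≤ commutator G := by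
  intro hle
  have h1 : (P : Subgroup G) ≤ ⁅(P : Subgroup G), (P : Subgroup G)⁆ := by
    refine le_trans ?_ ((isSyl_top P).inf_commutator_eq_of_controls le_rfl le_top ?_)
    · exact le_inf le_rfl (hle.trans le_sup_left)
    · intro x hx g _ hg
      exact h x hx _ hg ⟨g, rfl⟩
  exact P.ne_bot_of_dvd_card hp (eq_bot_of_le_commutator P.2 le_rfl h1)

end Cfsg.Agent.S0091
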