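import Cfsg.Statements.S0092
import Cfsg.Agent.Lib.Transfer.PG

set_option autoImplicit false
open Cfsg

namespace Cfsg.Agent.S0092

set_option linter.unusedSectionVars false
set_option linter.unusedVariables false
set_option linter.style.haveILetI false
set_option linter.unusedSimpArgs false

open Subgroup Transfer MS

/-- If the Sylow p-subgroups of O^p(G) are abelian then G splits over O^p(G). -/
theorem result {G : Type*} [Group G] [Finite G] {p : ℕ} [Fact p.Prime] (h : ∀ Q : Sylow p (Cfsg.pResidual p G), IsMulCommutative Q) : ∃ K : Subgroup G, K.IsComplement' (Cfsg.pResidual p G) := by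
  obtain ⟨Q, hQ⟩ := exists_isSyl p (pResidual p G)
  have hab : IsMulCommutative Q := by
    obtain ⟨S, rfl⟩ := hQ.exists_sylow_map
    haveI := h S
    infer_instance
  set K := pResidual p G with hK
  have hQ' : IsSyl p Q (K ⊓ NN Q) := hQ.mono (le_inf hQ.le (le_nn Q)) inf_le_left
  obtain ⟨E, hE, h1, h2, h3⟩ := Solv.sz_exists_internal hQ'.le inf_le_right hQ'.coprime
  have hcop : (#E).Coprime #Q := h3 ▸ hQ'.coprime.symm
  have e1 : ⁅Q, E⁆ = Q := by
    have := ab_syl_focal hQ hab
    rw [hK, res_pResidual, ← hK, inf_eq_left.2 (hQ.le.trans le_sup_right), ← h2] at this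
    exact le_antisymm (comm_le_left (hE.trans inf_le_right)) (this.le.trans
      (comm_sup_r (left_nn_comm _ _) (right_nn_comm _ _) ((ab_iff_der.1 hab).le.trans bot_le) le_rfl))
  have e2 : Q ⊓ NN E = ⊥ := by
    have := cop_ab_inf hab (hE.trans inf_le_right) hcop
    rw [e1, inf_eq_left.2 inf_le_left] at this
    refine eq_bot_iff.2 (this ▸ le_inf inf_le_left (cc_of_inf_eq_bot inf_le_right ?_ ?_))
    · refine nn_of_comm_le' ?_
      have : ⁅Q ⊓ NN E, E⁆ ≤ Q ⊓ E := le_inf ((commutator_mono inf_le_left le_rfl).trans e1.le)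
        (comm_le_right inf_le_right)
      rw [h1] at this
      exact this.trans bot_le
    · exact inf_bot_mono h1 inf_le_left le_rfl
  have e3 : K ⊔ (NN Q ⊓ NN E) = ⊤ := eq_top_iff.2 fun g _ => by
    obtain ⟨k, hk, n, hn, rfl⟩ := hQ.frattini (g := g) (nn_normal (A := ⊤) (mem_top g))
    have hn' : n ∈ NN (K ⊓ NN Q : Subgroup G) := nn_inf nn_normal (le_nn _) hn
    obtain ⟨q, hq, hq'⟩ := Solv.sz_conj_internal (B := cj n E) (hE.trans inf_le_right) hcop (Or.inr (sol_of_ab hab))
      (by rw [← cj_nn hn, ← cj_inf, h1, cj_bot]) (by rw [← cj_nn hn, ← cj_sup, h2, cj_nn hn', cj_nn hn, h2])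
    have : q⁻¹ * n ∈ NN E := mem_normalizer_iff_cj.2 (by
      rw [← cj_cj, ← hq', ← cj_eq_smul, cj_inv_cj])
    have e : k * n = k * q * (q⁻¹ * n) := by group
    rw [e]
    exact mul_mem (mem_sup_left (mul_mem hk (hQ.le hq))) (mem_sup_right ⟨(NN Q).mul_mem ((NN Q).inv_mem (le_nn Q hq)) hn, this⟩)
  obtain ⟨P, hP⟩ := exists_isSyl p (NN Q ⊓ NN E)
  have e4 : P ⊓ K = ⊥ := eq_bot_iff.2 (e2 ▸ le_inf (hQ'.le_of_le_normalizer (hP.pgroup.to_le inf_le_left)
    (le_inf inf_le_right (inf_le_left.trans (hP.le.trans inf_le_left))) (inf_le_left.trans (hP.le.trans inf_le_left)))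
    (inf_le_left.trans (hP.le.trans inf_le_right)))
  have e5 : P ⊔ K = ⊤ := eq_top_iff.2 (e3 ▸ sup_le le_sup_right (hP.res_sup.ge.trans
    (sup_le (le_sup_of_le_right (res_le_pResidual _)) le_sup_left)))
  exact ⟨P, isComplement'_of_card_mul_and_disjoint (by rw [← card_sup_r nn_normal e4, e5, card_top])
    (disjoint_iff.2 e4)⟩

end Cfsg.Agent.S0092
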