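import Cfsg.Statements.S0094
import Cfsg.Agent.Lib.Transfer.PG

set_option autoImplicit false
open Cfsg

namespace Cfsg.Agent.S0094

set_option linter.unusedSectionVars false
set_option linter.unusedVariables false
set_option linter.style.haveILetI false
set_option linter.unusedSimpArgs false

open Subgroup Transfer MS
open scoped commutatorElement

/-- In a special p-group every central element has order dividing p. -/
theorem result {P : Type*} [Group P] [Finite P] {p : ℕ} [Fact p.Prime] (h : Cfsg.IsSpecial p P) (z : P) (hz : z ∈ Subgroup.center P) : z ^ p = 1 := by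
  have h1 : commutator P ≤ omegaOne p (center P) := commutator_le.2 fun x _ y _ => by
    have h2 : ⁅x, y⁆ ∈ center P := h.2.2 ▸ commutator_mem_commutator (mem_top x) (mem_top y)
    refine mem_omega h2 ?_
    rw [← comm_pow_left (mem_center_iff.1 h2 x).symm, commutatorElement_eq_one_iff_mul_comm]
    exact (mem_center_iff.1 (h.2.1 ▸ Solv.pow_mem_frattini h.1 x) y).symm
  exact (omega_elem inferInstance).2 z (h1 (h.2.2 ▸ hz))

end Cfsg.Agent.S0094
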