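import Cfsg.Statements.S0097
import Cfsg.Agent.Lib.BG.Reg

set_option autoImplicit false
open Cfsg

namespace Cfsg.Agent.S0097

/-- For odd p and E extraspecial, the subgroup generated by the elements of order dividing p has exponent dividing p and index at most p. -/
theorem result {E : Type*} [Group E] [Finite E] {p : ℕ} [Fact p.Prime] (hp : p ≠ 2) (h : Cfsg.IsExtraspecial p E) : (Subgroup.closure {x : E | x ^ p = 1}).index ≤ p ∧ ∀ g ∈ Subgroup.closure {x : E | x ^ p = 1}, g ^ p = 1 := by
  open Pointwise commutatorElement Subgroup in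
  open Cfsg.Agent.Reg in
  obtain ⟨⟨hP, h1, h2⟩, h3⟩ := h
  have hp' : p.Prime := Fact.out
  have hz : ∀ z ∈ center E, z ^ p = 1 := fun z hz =>
    congrArg Subtype.val (h3 ▸ pow_card_eq_one' (x := (⟨z, hz⟩ : center E)))
  haveI : Fact (Nat.card (center E)).Prime := ⟨h3 ▸ hp'⟩
  have hw : W p E := W_of_cyclic hP hp (h2 ▸ isCyclic_of_prime_card rfl)
  have e : Subgroup.closure {x : E | x ^ p = 1} = hw.om1 := closure_eq hw.om1
  rw [e]
  refine ⟨?_, fun g hg => hg⟩
  let f : E →* center E := MonoidHom.mk' (fun x => ⟨x ^ p, h1 ▸ Solv.pow_mem_frattini hP x⟩) (fun a b =>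
    Subtype.ext (hw.mul_pow_of' (hz _ (h2 ▸ commutator_mem_commutator (mem_top _) (mem_top _)))))
  have : hw.om1 = f.ker := by ext x; simp [f, Subtype.ext_iff]; rfl
  rw [this, index_ker, ← h3]
  exact (card_le_of_le le_top).trans card_top.le

end Cfsg.Agent.S0097
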