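import Cfsg.Statements.S0100
import Cfsg.Agent.Lib.Transfer.PG

set_option autoImplicit false
open Cfsg

namespace Cfsg.Agent.S0100

set_option linter.unusedSectionVars false
set_option linter.unusedVariables false
set_option linter.style.haveILetI false
set_option linter.unusedSimpArgs false

open Subgroup Transfer MS

/-- For odd p, a p-group without normal elementary abelian subgroups of order p^3 has p-rank at most 2. -/
theorem result {P : Type*} [Group P] [Finite P] {p : ℕ} [Fact p.Prime] (hp : p ≠ 2) (hP : IsPGroup p P) (h : ∀ A : Subgroup P, A.Normal → IsMulCommutative A → (∀ a ∈ A, a ^ p = 1) → Nat.card A ≠ p ^ 3) (E : Subgroup P) (hE : IsMulCommutative E) (hEe : ∀ e ∈ E, e ^ p = 1) : Nat.card E ≤ p ^ 2 := by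
  have h1 : BG.prank p (⊤ : Subgroup P) ≤ 2 := by
    by_contra h1
    obtain ⟨A, -, h2, h3⟩ := BG.exists_normal_el_three hp (hP.to_subgroup ⊤) (by omega)
    exact h A (normal_of_top_le fun g => h3 (mem_top g)) h2.elem.1 h2.elem.2 h2.card
  exact (BG.card_le_pow_prank ⟨hE, hEe⟩ le_top).trans (Nat.pow_le_pow_right (Fact.out : p.Prime).pos h1)

end Cfsg.Agent.S0100
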