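import Cfsg.Statements.S0102
import Cfsg.Agent.Lib.Transfer.PG

set_option autoImplicit false
open Cfsg

namespace Cfsg.Agent.S0102

set_option linter.unusedSectionVars false
set_option linter.unusedVariables false
set_option linter.style.haveILetI false
set_option linter.unusedSimpArgs false

open Subgroup Transfer MS

/-- A finite perfect group with cyclic Sylow p-subgroups has no perfect central extension whose kernel has order divisible by p. -/
theorem result {G : Type*} {H : Type*} [Group G] [Group H] [Finite G] [Finite H] (hG : commutator G = ⊤) {p : ℕ} [Fact p.Prime] (hcyc : ∀ P : Sylow p G, IsCyclic P) (σ : H →* G) (hσ : Function.Surjective σ) (hz : σ.ker ≤ Subgroup.center H) (hH : commutator H = ⊤) : ¬ p ∣ Nat.card σ.ker := by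
  intro hd
  obtain ⟨X, hX, hp⟩ := exists_card_eq Fact.out hd
  obtain ⟨P, hP⟩ := (pg_of_card hp).exists_le_sylow
  obtain ⟨z, hz1, h1⟩ := exists_ne_one (prime_ne_bot (hp ▸ Fact.out : (#X).Prime))
  have h2 := mem_der_of_central P.card_coprime_index (hP hz1) (hz (hX hz1)) (hH ▸ mem_top z)
  obtain ⟨S, hS⟩ := (P.2.map σ).exists_le_sylow
  haveI := hcyc S
  let f : P →* S := (σ.comp (P : Subgroup H).subtype).codRestrict S fun x => hS (mem_map_of_mem _ x.2)
  have h3 : IsMulCommutative P := ⟨⟨commutative_of_cyclic_center_quotient f fun x hx =>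
    mem_center_iff.2 fun y => Subtype.ext (mem_center_iff.1 (hz (congrArg Subtype.val hx)) y)⟩⟩
  rw [ab_iff_der.1 h3] at h2
  exact h1 h2

end Cfsg.Agent.S0102
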