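import Cfsg.Statements.S0104
import Cfsg.Agent.Lib.Transfer.Basic

set_option autoImplicit false
open Cfsg

namespace Cfsg.Agent.S0104

set_option linter.unusedSectionVars false
set_option linter.unusedVariables false
set_option linter.style.haveILetI false
set_option linter.unusedSimpArgs false

open Cfsg.Agent.Transfer Subgroup

/-- A subgroup Z of a Sylow p-subgroup P that is normalized by N_G(P) is weakly closed in P exactly when it is normal in every Sylow p-subgroup containing it. -/
theorem result {G : Type*} [Group G] [Finite G] {p : ℕ} [Fact p.Prime] (P : Sylow p G) (Z : Subgroup G) (hZP : Z ≤ (P : Subgroup G)) (hZN : Subgroup.normalizer (P : Set G) ≤ Subgroup.normalizer (Z : Set G)) : Cfsg.IsWeaklyClosed Z P ↔ ∀ R : Sylow p G, Z ≤ (R : Subgroup G) → (R : Subgroup G) ≤ Subgroup.normalizer (Z : Set G) := by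
  constructor
  · rintro ⟨-, h⟩ R hR r hr
    obtain ⟨g, hg⟩ := exists_cj_sylow_eq R P
    have h1 : cj g Z = Z := h g (hg ▸ cj_mono g hR)
    have h2 : cj (g * r) Z = Z := h (g * r) (by
      have := cj_mono (g * r) hR
      rwa [← cj_cj g r R, cj_eq_of_mem hr, hg] at this)
    rw [mem_normalizer_iff_cj, ← cj_inj (g := g), cj_cj, h1, h2]
  · intro h
    refine ⟨hZP, fun g hg => ?_⟩
    have hg' : Z ≤ (g⁻¹ • P : Sylow p G) := by
      rw [← cj_sylow, ← cj_le_iff_le_cj_inv]; exact hg
    have h1 : IsSyl p (P : Subgroup G) (normalizer (Z : Set G)) :=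
      (isSyl_top P).mono (h P hZP) le_top
    have h2 : IsSyl p (cj g⁻¹ P) (normalizer (Z : Set G)) :=
      (isSyl_top (g⁻¹ • P)).mono (h _ hg') le_top
    obtain ⟨n, hn, he⟩ := h1.exists_cj_eq h2
    rw [cj_cj, ← mem_normalizer_iff_cj] at he
    have h3 := mul_mem (inv_mem (hZN he)) hn
    rw [mem_normalizer_iff_cj] at h3
    rwa [mul_inv_rev, inv_inv, inv_mul_cancel_right] at h3

end Cfsg.Agent.S0104
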