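import Cfsg.Statements.S0105
import Cfsg.Agent.Lib.Transfer.PG

set_option autoImplicit false
open Cfsg

namespace Cfsg.Agent.S0105

set_option linter.unusedSectionVars false
set_option linter.unusedVariables false
set_option linter.style.haveILetI false
set_option linter.unusedSimpArgs false

open Subgroup Transfer MS

/-- With an abelian Sylow p-subgroup P, some quotient of G is isomorphic to the part of P central in N_G(P). -/
theorem result {G : Type*} [Group G] [Finite G] {p : ℕ} [Fact p.Prime] (P : Sylow p G) (hP : IsMulCommutative P) : ∃ (N : Subgroup G) (hN : N.Normal), Nonempty (G ⧸ N ≃* ((P : Subgroup G) ⊓ Subgroup.centralizer (Subgroup.normalizer (P : Set G) : Set G) : Subgroup G)) := by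
  have h1 := ab_syl_focal (isSyl_top P) hP
  obtain ⟨h2, h3⟩ := ab_syl_decomp (isSyl_top P) hP
  rw [top_inf_eq] at h1 h2 h3
  rw [res_top] at h1
  change _ ⊓ (commutator G ⊔ _) = _ at h1
  set D := commutator G ⊔ pResidual p G
  set Z := (P : Subgroup G) ⊓ CC (NN (P : Subgroup G))
  have e1 : Z ⊓ D = ⊥ := eq_bot_iff.2 (h3 ▸ le_inf (h1 ▸ inf_le_inf_right _ inf_le_left) (inf_le_left.trans inf_le_right))
  have e2 : Z ⊔ D = ⊤ := eq_top_iff.2 (pResidual_sup_sylow P ▸ sup_le (le_sup_of_le_right le_sup_right)
    (h2.ge.trans (sup_le (le_sup_of_le_right (h1 ▸ inf_le_right)) le_sup_left)))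
  exact ⟨D, inferInstance, ⟨(isComplement'_of_card_mul_and_disjoint
    (by rw [← card_sup_r nn_normal e1, e2, card_top]) (disjoint_iff.2 e1)).QuotientMulEquiv⟩⟩

end Cfsg.Agent.S0105
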