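import Cfsg.Statements.S0106
import Cfsg.Agent.Lib.Transfer.Tet

set_option autoImplicit false
open Cfsg

namespace Cfsg.Agent.S0106

set_option linter.unusedSectionVars false
set_option linter.unusedVariables false
set_option linter.style.haveILetI false
set_option linter.unusedSimpArgs false

open Subgroup Transfer MS

/-- A finite group with generalized quaternion Sylow 2-subgroups either has a normal 2-complement or has a section isomorphic to SL(2,3). -/
theorem result {G : Type*} [Group G] [Finite G] (T : Sylow 2 G) (n : ℕ) (hn : 1 ≤ n) (hT : Nonempty ((T : Subgroup G) ≃* QuaternionGroup (2 ^ n))) : Cfsg.HasNormalPComplement 2 G ∨ ∃ (H K : Subgroup G) (hK : (K.subgroupOf H).Normal), Nonempty ((H ⧸ K.subgroupOf H) ≃* Matrix.SpecialLinearGroup (Fin 2) (ZMod 3)) := by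
  obtain ⟨a, b, h, h1, h2⟩ := mc_of_quaternion hT.some
  refine or_iff_not_imp_right.2 fun h3 => npc_ess T fun B hB _ he => h3 ?_
  obtain e | e := h.ess hB he
  · obtain ⟨s, hs, hs', h4, -⟩ := h.klein hB e
    obtain ⟨u, hu, rfl⟩ := (h.a2.cases h.mem_b h.notMem hs).resolve_left hs'
    rw [h.a2.sq_out, inverts_of_mem_zpowers h2 hu, h1, mul_inv_cancel, one_mul] at h4
    exact absurd h4 (ne_one_of_orderOf h.ord_z)
  obtain ⟨g, h4, h5, h6⟩ := he
  obtain ⟨f, hf⟩ := e.exists_hom h5 h4 h6
  have e1 : (f.ker.map (B ⊔ zpowers g).subtype).subgroupOf (B ⊔ zpowers g) = f.ker :=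
    comap_map_eq_self_of_injective (subtype_injective _) _
  haveI : ((f.ker.map (B ⊔ zpowers g).subtype).subgroupOf (B ⊔ zpowers g)).Normal := by rw [e1]; infer_instance
  refine ⟨_, f.ker.map (B ⊔ zpowers g).subtype, this, ⟨(QuotientGroup.quotientMulEquivOfEq e1).trans
    (QuotientGroup.quotientKerEquivOfSurjective f hf)⟩⟩

end Cfsg.Agent.S0106
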