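import Cfsg.Statements.S0109
import Cfsg.Agent.Lib.Transfer.Stab

set_option autoImplicit false
open Cfsg

namespace Cfsg.Agent.S0109

set_option linter.unusedSectionVars false
set_option linter.unusedVariables false
set_option linter.style.haveILetI false
set_option linter.unusedSimpArgs false

open Subgroup Transfer MS

/-- The Thompson factorization Theorem for solvable groups states that, with p odd (and abelian Sylow 2-subgroups when p = 3) and no nontrivial normal subgroup of order prime to p, every element of G is a product of an element normalizing J(P) and an element centralizing the elements of order dividing p in the centre of P. -/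
theorem result {G : Type*} [Group G] [Finite G] {p : ℕ} [Fact p.Prime] (hp : p ≠ 2) (hs : Group.IsSolvable G) (h3 : p = 3 → ∀ T : Sylow 2 G, IsMulCommutative T) (hF : ∀ N : Subgroup G, N.Normal → Nat.Coprime (Nat.card N) p → N = ⊥) (P : Sylow p G) (g : G) : ∃ a ∈ Subgroup.normalizer (Cfsg.thompsonSubgroupOf p (P : Subgroup G) : Set G), ∃ c ∈ Subgroup.centralizer {x : G | x ∈ (P : Subgroup G) ∧ (∀ y ∈ (P : Subgroup G), x * y = y * x) ∧ x ^ p = 1}, g = a * c := by
  have hs' : Comp.PSol p (⊤ : Subgroup G) := Comp.pSol_of_isSolvable inferInstance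
  have hc := psol_charP hs' (hF _ inferInstance coprime_pPrimeCore)
  have hst : IsPStableOn p (ZV p G) := by
    by_cases h : p = 3
    · exact isPStableOn_of_abelian hp default (h3 h _) _ (elem_isPGroup (elem_ZV hc))
    · exact stableOn_of_psol ((Fact.out : p.Prime).five_le_of_ne_two_of_ne_three hp h) hs' _ (elem_isPGroup (elem_ZV hc))
  obtain ⟨c, hc', n, hn, e⟩ := factor_of_J_le (J_le_centralizer_ZV hc hst) P g⁻¹
  refine ⟨n⁻¹, inv_mem hn, c⁻¹, inv_mem fun x hx => hc' x (OZ_le_ZV P (mem_OZ.2 hx)), ?_⟩
  rw [← mul_inv_rev, ← e, inv_inv]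

end Cfsg.Agent.S0109
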