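import Cfsg.Statements.S0110
import Cfsg.Agent.Lib.Transfer.PG
import Cfsg.Agent.Lib.BG.Extra

set_option autoImplicit false
open Cfsg

namespace Cfsg.Agent.S0110

set_option linter.unusedSectionVars false
set_option linter.unusedVariables false
set_option linter.style.haveILetI false
set_option linter.unusedSimpArgs false

open Subgroup Transfer MS

/-- In a p-group G, an extraspecial subgroup E with [G, E] ≤ Z(E) satisfies G = E C_G(E). -/
theorem result {G : Type*} [Group G] [Finite G] {p : ℕ} [Fact p.Prime] (hG : IsPGroup p G) (E : Subgroup G) (hE : Cfsg.IsExtraspecial p E) (h : ⁅(⊤ : Subgroup G), E⁆ ≤ E ⊓ Subgroup.centralizer (E : Set G)) : E ⊔ Subgroup.centralizer (E : Set G) = ⊤ := by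
  obtain ⟨-, h1, h2⟩ := BG.extraspecial_spec hE
  have h3 : E ⊓ CC E ≤ CC (⊤ : Subgroup G) := by
    have hn : (⊤ : Subgroup G) ≤ NN E := nn_of_comm_le' (by rw [Subgroup.commutator_comm]; exact h.trans inf_le_left)
    have hp : (#(E ⊓ CC E : Subgroup G)).Prime := by rw [h2]; exact Fact.out
    exact prime_le hp (nil_meet (nil_of_pg (hG.to_subgroup ⊤)) le_top (nn_inf hn (nn_cc hn)) (prime_ne_bot hp))
  have := le_sup_cc_of_comm h2 E ⊤ le_top h3 h h3
  rwa [top_inf_eq, top_le_iff] at this

end Cfsg.Agent.S0110
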