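import Cfsg.Statements.S0114
import Cfsg.Agent.Lib.Solv.MaxCl

set_option autoImplicit false
open Cfsg

namespace Cfsg.Agent.S0114

/-- The central quotient of a 2-group of maximal class is dihedral. -/
theorem result {X : Type*} [Group X] [Finite X] (n : ℕ) (hn : 3 ≤ n) (hX : Nat.card X = 2 ^ n) (hc : Group.nilpotencyClass X = n - 1) : Nonempty (X ⧸ Subgroup.center X ≃* DihedralGroup (2 ^ (n - 2))) := by
  open Pointwise commutatorElement Subgroup Cfsg.Agent.Solv in
  obtain ⟨a, b, h⟩ := nf2_of_maxClass hX hc hn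
  generalize n - 2 = m at h
  have h1 : center X ≤ zpowers a := h.center_eq ▸ zpowers_le.2 (pow_mem (mem_zpowers a) _)
  let f := QuotientGroup.mk' (center X)
  have h2 : ∀ x, f x = 1 ↔ x ∈ zpowers (a ^ 2 ^ m) := fun x => by
    rw [← h.center_eq]; exact QuotientGroup.eq_one_iff x
  have h3 : orderOf (f a) = 2 ^ m := by
    have := card_map_mk (center X) (zpowers a)
    rw [inf_eq_right.2 h1, h.card_center, MonoidHom.map_zpowers, Nat.card_zpowers, Nat.card_zpowers, h.ord, pow_succ] at this
    exact Nat.eq_of_mul_eq_mul_right two_pos this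
  have h4 := (h2 _).2 (mem_zpowers _)
  obtain ⟨e⟩ := nonempty_dihedral_of_gens (S := ⊤) (a := f a) (b := f b) (fun h5 => h.notMem (by
    rw [← MonoidHom.map_zpowers, ← mem_comap, comap_map_mk, sup_eq_left.2 h1] at h5; exact h5))
    (by rw [← MonoidHom.map_zpowers, ← MonoidHom.map_zpowers, ← Subgroup.map_sup, h.sup, map_top_mk]) (by
      rw [← map_pow]
      rcases h.rel with h5 | h5 | h5
      · rw [h5.1, map_one]
      · rw [h5.1, h4]
      · rw [h5.2.1, map_one]) (by
      rw [← map_inv, ← map_mul, ← map_mul]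
      rcases h.rel with h5 | h5 | h5
      · rw [h5.2, map_inv]
      · rw [h5.2, map_inv]
      · rw [h5.2.2, eq_inv_iff_mul_eq_one, ← map_mul, ← pow_succ, Nat.sub_add_cancel Nat.one_le_two_pow, h4])
  exact ⟨h3 ▸ topEquiv.symm.trans e⟩

end Cfsg.Agent.S0114
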