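import Cfsg.Statements.S0115
import Cfsg.Agent.Lib.Solv.MaxCl

set_option autoImplicit false
open Cfsg

namespace Cfsg.Agent.S0115

/-- A 2-group of order 2^n, n ≥ 3, is of maximal class exactly when its commutator quotient is a Klein four-group. -/
theorem result {X : Type*} [Group X] [Finite X] (n : ℕ) (hn : 3 ≤ n) (hX : Nat.card X = 2 ^ n) : Group.nilpotencyClass X = n - 1 ↔ IsKleinFour (X ⧸ commutator X) := by
  open Pointwise commutatorElement Subgroup Cfsg.Agent.Solv in
  haveI := Fact.mk Nat.prime_two
  have hG := IsPGroup.of_card hX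
  constructor
  · intro hc
    have h1 : Nat.card (X ⧸ _root_.commutator X) = 4 := index_commutator_of_maxClass hX hc hn
    refine ⟨h1, ?_⟩
    by_contra h2
    have h3 : ¬ IsCyclic (X ⧸ _root_.commutator X) := fun h => not_comm_of_maxClass hX hc hn
      (isCyclic_of_quotient_le_frattini (commutator_le_frattini_of_isPGroup hG) h).isMulCommutative
    exact h2 ((not_isCyclic_iff_exponent_eq_prime Nat.prime_two h1).1 h3)
  · intro h
    have h1 : (_root_.commutator X).index = 4 := h.card_four
    obtain ⟨a, b, m, h2⟩ := nf2_of_commutator hG h1 fun hc => by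
      rw [(commutator_eq_bot_iff X).2 hc, index_bot, hX] at h1
      have := Nat.pow_le_pow_right two_pos hn
      omega
    rw [h2.nilpotencyClass, Nat.pow_right_injective le_rfl (hX.symm.trans h2.card)]

end Cfsg.Agent.S0115
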