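import Cfsg.Statements.S0116
import Cfsg.Agent.Lib.Transfer.PG
import Cfsg.Agent.Lib.Fusion.CFun2

set_option autoImplicit false
open Cfsg

namespace Cfsg.Agent.S0116

set_option linter.unusedSectionVars false
set_option linter.unusedVariables false
set_option linter.style.haveILetI false
set_option linter.unusedSimpArgs false

open Subgroup Transfer MS

/-- The Alperin fusion Theorem states that conjugation between subsets of a Sylow p-subgroup P factors through normalizers of tame intersections P ∩ Q_i with other Sylow p-subgroups, carrying the subset along step by step. -/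
theorem result {G : Type*} [Group G] [Finite G] {p : ℕ} [Fact p.Prime] (P : Sylow p G) (A : Set G) (g : G) (hA : A ⊆ (P : Set G)) (hAg : (fun a => g⁻¹ * a * g) '' A ⊆ (P : Set G)) : ∃ (n : ℕ) (Q : Fin n → Sylow p G) (x : Fin n → G), (List.ofFn x).prod = g ∧ (∀ i : Fin n, x i ∈ Subgroup.normalizer ((((P : Subgroup G) ⊓ (Q i : Subgroup G)) : Subgroup G) : Set G) ∧ ¬ p ∣ ((P : Subgroup G) ⊓ Subgroup.normalizer ((((P : Subgroup G) ⊓ (Q i : Subgroup G)) : Subgroup G) : Set G)).relIndex (Subgroup.normalizer ((((P : Subgroup G) ⊓ (Q i : Subgroup G)) : Subgroup G) : Set G)) ∧ ¬ p ∣ ((Q i : Subgroup G) ⊓ Subgroup.normalizer ((((P : Subgroup G) ⊓ (Q i : Subgroup G)) : Subgroup G) : Set G)).relIndex (Subgroup.normalizer ((((P : Subgroup G) ⊓ (Q i : Subgroup G)) : Subgroup G) : Set G))) ∧ (∀ h : 0 < n, A ⊆ (((P : Subgroup G) ⊓ (Q ⟨0, h⟩ : Subgroup G) : Subgroup G) : Set G)) ∧ ∀ i : Fin n, ∀ h : i.val + 1 < n, (fun a => (((List.ofFn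 x).take (i.val + 1)).prod)⁻¹ * a * ((List.ofFn x).take (i.val + 1)).prod) '' A ⊆ (((P : Subgroup G) ⊓ (Q ⟨i.val + 1, h⟩ : Subgroup G) : Subgroup G) : Set G) := by
  let 𝓕 : Set (Subgroup G) := {T | ∃ Q : Sylow p G, T = (P : Subgroup G) ⊓ Q ∧
    IsSyl p ((P : Subgroup G) ⊓ NN T) (NN T) ∧ IsSyl p ((Q : Subgroup G) ⊓ NN T) (NN T)}
  have hA' : closure A ≤ P := (closure_le _).2 hA
  have hg : cj g⁻¹ (closure A) ≤ P := by
    rw [cj, MonoidHom.map_closure, closure_le]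
    rintro _ ⟨a, ha, rfl⟩
    simpa using hAg ⟨a, ha, rfl⟩
  have h := alperin_tame P (fun B c => Fusion.CF 𝓕 B c) (fun A B g h _ _ h1 => h1.mono h)
    (fun A g h _ _ _ h1 h2 => h1.trans h2 fun a ha => conj_mem_cj ha)
    (fun A g _ _ h1 => h1.symm.mono (by rintro _ ⟨a, ha, rfl⟩; exact ⟨a, ha, rfl⟩))
    (fun Q B e h1 h2 k hk => by
      simpa using Fusion.CF.step (Fusion.CF.one (𝓕 := 𝓕) (X := B)) ⟨Q, e, h1, h2⟩ hk (by simp)) _ _ hA' hg
  obtain ⟨n, T, x, h1, h2, h3, h4⟩ := (h.mono subset_closure).list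
  choose Q e h5 h6 using h2
  refine ⟨n, Q, x, by simpa using h1, fun i => e i ▸ ⟨h3 i, ?_, ?_⟩, fun h => e _ ▸ by simpa using h4 ⟨0, h⟩,
    fun i h => e _ ▸ h4 ⟨i + 1, h⟩⟩
  · exact (h5 i).not_dvd
  · exact (h6 i).not_dvd

end Cfsg.Agent.S0116
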