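import Cfsg.Statements.S0119
import Cfsg.Agent.Lib.Transfer.PG

set_option autoImplicit false
open Cfsg

namespace Cfsg.Agent.S0119

set_option linter.unusedSectionVars false
set_option linter.unusedVariables false
set_option linter.style.haveILetI false
set_option linter.unusedSimpArgs false

open Subgroup Transfer MS
open scoped commutatorElement

/-- If a p'-group A of automorphisms of a p-group G satisfies G = [G, A] and acts trivially on every characteristic abelian subgroup, then G is special with centre equal to the fixed points of A. -/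
theorem result {G : Type*} [Group G] [Finite G] {p : ℕ} [Fact p.Prime] (hG : IsPGroup p G) (A : Subgroup (MulAut G)) (hA : Nat.Coprime (Nat.card A) p) (hGA : Subgroup.closure {x : G | ∃ g : G, ∃ a ∈ A, x = g⁻¹ * a g} = ⊤) (hchar : ∀ H : Subgroup G, H.Characteristic → IsMulCommutative H → ∀ a ∈ A, ∀ h ∈ H, a h = h) : Cfsg.IsSpecial p G ∧ (∀ g : G, (g ∈ Subgroup.center G ↔ ∀ a ∈ A, a g = g)) := by
  have h1 : ∀ H : Subgroup G, H.Characteristic → IsMulCommutative H → H ≤ center G := fun H h1 h2 h hh => by
    rw [← centralizer_univ, ← coe_top, ← hGA, ← le_C1_iff, closure_le]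
    rintro _ ⟨g, a, ha, rfl⟩
    have e := hchar H h1 h2 a ha _ (Normal.conj_mem inferInstance h hh g)
    rw [map_mul, map_mul, hchar H h1 h2 a ha h hh, map_inv] at e
    refine mem_C1.2 ?_
    calc g⁻¹ * a g * h = g⁻¹ * (a g * h * (a g)⁻¹) * a g := by group
      _ = _ := by rw [e]; group
  have hZ : CC (⊤ : Subgroup G) = center G := by rw [coe_top, centralizer_univ]
  have h2 : commutator G ≤ center G := by
    by_contra h
    obtain ⟨x, hx, h3, h4⟩ := Solv.exists_central_mod (nil_of_pg (hG.to_subgroup ⊤)) le_top nn_normal h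
    have h5 : ⁅Subgroup.upperCentralSeries G 2, ⊤⁆ ≤ center G := commutator_le.2 fun x hx y _ => by
      have := Subgroup.mem_upperCentralSeries_succ_iff.1 hx y
      rwa [Subgroup.upperCentralSeries_one] at this
    have h6 : ⁅⁅Subgroup.upperCentralSeries G 2, ⊤⁆, ⊤⁆ ≤ ⊥ := (comm_eq_bot.2 (hZ ▸ h5)).le
    have h7 : ⁅commutator G, Subgroup.upperCentralSeries G 2⁆ ≤ ⊥ := three_sub (A := ⊤) nn_bot nn_bot nn_bot
      (by rwa [Subgroup.commutator_comm ⊤]) h6
    refine h3 (h1 (commutator G ⊓ Subgroup.upperCentralSeries G 2) inferInstance (ab_iff_der.2 (eq_bot_iff.2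
      ((commutator_mono inf_le_left inf_le_right).trans h7))) ⟨hx, Subgroup.mem_upperCentralSeries_succ_iff.2 fun y => ?_⟩)
    rw [Subgroup.upperCentralSeries_one]; exact h4 y (mem_top y)
  have hc : ∀ x y : G, ⁅x, y⁆ ∈ center G := fun x y => h2 (commutator_mem_commutator (mem_top x) (mem_top y))
  have h3 : ∀ a ∈ A, ∀ g ∈ center G, a g = g := fun a ha => hchar _ inferInstance inferInstance a ha
  have h4 : ∀ g : G, (∀ a ∈ A, a g = g) → g ∈ commutator G := fun g hg => by
    have hn : A.map hr ≤ NN ((⊤ : Subgroup G).map (hl : G →* Hol G)) := nn_normal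
    have := cop_cc_le_der hn (by
      rw [card_map_of_injective hr_injective, card_map_of_injective hl_injective, card_top]
      obtain ⟨n, hn⟩ := hG.exists_card_eq
      rw [hn]; exact hA.pow_right n) (le_antisymm (comm_le_left hn) (by
        conv_lhs => rw [← hGA, MonoidHom.map_closure]
        rw [closure_le]
        rintro _ ⟨_, ⟨g, a, ha, rfl⟩, rfl⟩
        have := inv_mem (commutator_mem_commutator (mem_map_of_mem (hr : _ →* Hol G) ha)
          (mem_map_of_mem (hl : G →* Hol G) (mem_top g⁻¹)))
        rw [hol_commutator, ← map_inv, Subgroup.commutator_comm] at this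
        simpa using this)) (show hl g ∈ _ from ⟨mem_map_of_mem _ (mem_top g), mem_CC.2 (by
          rintro _ ⟨a, ha, rfl⟩
          exact hol_commute_iff.2 (hg a ha))⟩)
    rw [← map_commutator] at this
    exact (mem_map_iff_mem hl_injective).1 this
  have h5 : commutator G = center G := le_antisymm h2 fun g hg => h4 g fun a ha => h3 a ha g hg
  have h6 : ∀ e, (∀ x : G, x ^ p ^ (e + 2) ∈ center G) → ∀ x : G, x ^ p ^ (e + 1) ∈ center G := fun e he x => by
    refine h1 (closure (Set.range fun x : G => x ^ p ^ (e + 1))) (characteristic_iff_map_le.2 fun φ => ?_)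
      (ab_iff.2 ?_) (subset_closure ⟨x, rfl⟩)
    · rw [MonoidHom.map_closure, closure_le]
      rintro _ ⟨_, ⟨y, rfl⟩, rfl⟩
      exact subset_closure ⟨φ y, by simp⟩
    · rw [closure_le]
      rintro _ ⟨y, rfl⟩
      refine le_C1_iff.1 ((closure_le _).2 ?_)
      rintro _ ⟨z, rfl⟩
      refine comm_eq_one_iff_C1.1 ?_
      rw [comm_pow_right (mem_center_iff.1 (hc _ _) y).symm, ← comm_pow_left (mem_center_iff.1 (hc _ _) _).symm,
        ← pow_mul, ← pow_add, show e + 1 + (e + 1) = e + 2 + e by ring, pow_add, pow_mul,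
        commutatorElement_eq_one_iff_mul_comm]
      exact (mem_center_iff.1 (pow_mem (he z) _) y).symm
  have h7 : ∀ e, (∀ x : G, x ^ p ^ (e + 1) ∈ center G) → ∀ x : G, x ^ p ∈ center G := fun e => by
    induction e with
    | zero => simp
    | succ e ih => exact fun he => ih (h6 e he)
  obtain ⟨n, hn⟩ := hG.exists_card_eq
  refine ⟨⟨hG, le_antisymm (Solv.frattini_le_of_commutator_le_of_pow_mem h2 (h7 n fun x => ?_))
    (h5 ▸ Solv.commutator_le_frattini_of_isPGroup hG), h5⟩, fun g => ⟨fun hg a ha => h3 a ha g hg, fun hg => h2 (h4 g hg)⟩⟩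
  rw [pow_succ, ← hn, pow_mul, pow_card_eq_one', one_pow]
  exact one_mem _

end Cfsg.Agent.S0119
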