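import Cfsg.Statements.S0121
import Cfsg.Agent.Lib.Transfer.Hol

set_option autoImplicit false
open Cfsg

namespace Cfsg.Agent.S0121

set_option linter.unusedSectionVars false
set_option linter.unusedVariables false
set_option linter.style.haveILetI false
set_option linter.unusedSimpArgs false

open Subgroup Cfsg.Agent.Transfer

/-- A p'-automorphism of a p-group acting trivially on a critical subgroup is trivial. -/
theorem result {G : Type*} [Group G] [Finite G] {p : ℕ} [Fact p.Prime] (hG : IsPGroup p G) (H : Subgroup G) (hH : H.Characteristic) (h1 : (frattini H).map H.subtype ≤ Subgroup.centralizer (H : Set G)) (h2 : ⁅H, (⊤ : Subgroup G)⁆ ≤ H ⊓ Subgroup.centralizer (H : Set G)) (h3 : Subgroup.centralizer (H : Set G) ≤ H) (a : MulAut G) (ha : Nat.Coprime (orderOf a) p) (h : ∀ x ∈ H, a x = x) : a = 1 := by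
  refine hr_eq_one_of_mem_centralizer (Solv.coprime_le_centralizer_of_self_centralizing
    ((hG.to_subgroup ⊤).map _).isNilpotent (zpowers_le.2 (hr_mem_normalizer_char a ⊤)) ?_ ?_
    (mem_zpowers _))
  · obtain ⟨k, hk⟩ := ((hG.to_subgroup ⊤).map (hl : G →* Hol G)).exists_card_eq
    rw [hk, Nat.card_zpowers, orderOf_injective _ hr_injective]
    exact ha.pow_right k
  · have h4 : H.map hl ≤ centralizer (zpowers (hr a) : Set (Hol G)) :=
      le_centralizer_iff.1 (zpowers_le.2 (hr_mem_centralizer_iff.2 h))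
    rintro _ ⟨⟨x, -, rfl⟩, hx⟩
    refine h4 ⟨x, h3 fun y hy => hl_injective ?_, rfl⟩
    rw [map_mul, map_mul]
    exact hx _ ⟨⟨y, trivial, rfl⟩, h4 ⟨y, hy, rfl⟩⟩

end Cfsg.Agent.S0121
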