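import Cfsg.Statements.S0123
import Cfsg.Agent.Lib.BG.Pgp

set_option autoImplicit false
open Cfsg

namespace Cfsg.Agent.S0123

/-- For a p-group of small class relative to p (class ≤ 2 with p odd, or class ≤ 3 with p > 3) whose derived subgroup is generated by elements of order dividing p, the p-th power map is multiplicative. -/
theorem result {R : Type*} [Group R] [Finite R] {p : ℕ} [Fact p.Prime] (hR : IsPGroup p R) (hcl : (p ≠ 2 ∧ ⁅commutator R, (⊤ : Subgroup R)⁆ = ⊥) ∨ (3 < p ∧ ⁅⁅commutator R, (⊤ : Subgroup R)⁆, (⊤ : Subgroup R)⁆ = ⊥)) (hder : commutator R ≤ Subgroup.closure {x : R | x ^ p = 1}) (x y : R) : (x * y) ^ p = x ^ p * y ^ p := by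
  open Pointwise commutatorElement Subgroup in
  open Cfsg.Agent.BG Cfsg.Agent.Comp in
  have hd : ⁅(⊤ : Subgroup R), (⊤ : Subgroup R)⁆ ≤ Cfsg.omegaOne p (⊤ : Subgroup R) := by
    simpa [Cfsg.omegaOne, _root_.commutator] using hder
  rcases hcl with ⟨h1, h2⟩ | ⟨h1, h2⟩
  · have h3 := commutator_eq_bot_iff_le.1 h2
    exact mul_pow_of_der_class2 h1 h3 (fun w hw => pow_eq_one_of_class2 h1 h3 w (hd hw)) (mem_top x) (mem_top y)
  · have h3 := commutator_eq_bot_iff_le.1 h2
    exact mul_pow_of_der_class3 h1 h3 (fun w hw => pow_eq_one_of_class3 h1 (hR.to_subgroup _) h3 w (hd hw)) (mem_top x) (mem_top y)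

end Cfsg.Agent.S0123
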