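import Cfsg.Statements.S0125
import Cfsg.Agent.Lib.Transfer.PG

set_option autoImplicit false
open Cfsg

namespace Cfsg.Agent.S0125

set_option linter.unusedSectionVars false
set_option linter.unusedVariables false
set_option linter.style.haveILetI false
set_option linter.unusedSimpArgs false

open Subgroup Transfer MS

/-- The centralizer of a self-centralizing normal subgroup A of a Sylow p-subgroup is the direct product of A with a normal p'-subgroup. -/
theorem result {G : Type*} [Group G] [Finite G] {p : ℕ} [Fact p.Prime] (R : Sylow p G) (A : Subgroup G) (hAR : A ≤ (R : Subgroup G)) (hAn : (R : Subgroup G) ≤ Subgroup.normalizer (A : Set G)) (hC : (R : Subgroup G) ⊓ Subgroup.centralizer (A : Set G) = A) : ∃ H : Subgroup G, H ≤ Subgroup.centralizer (A : Set G) ∧ Nat.Coprime (Nat.card H) p ∧ Subgroup.centralizer (A : Set G) ≤ Subgroup.normalizer (H : Set G) ∧ H ⊓ A = ⊥ ∧ H ⊔ A = Subgroup.centralizer (A : Set G) := by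
  have h1 : IsSyl p A (CC A) := by simpa [hC] using IsSyl.inf_centralizer R hAn
  have h2 := h1.hasNPC_of_le_centralizer inf_le_left
  have h3 := hasNPC_sub_iff.1 h2
  exact ⟨res p (CC A), res_le _, ((Nat.Prime.coprime_iff_not_dvd Fact.out).2 h3).symm, le_normalizer_res _,
    inf_comm A _ ▸ h1.hasNPC_iff.1 h2, h1.res_sup⟩

end Cfsg.Agent.S0125
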