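import Cfsg.Statements.S0129
import Cfsg.Agent.Lib.Transfer.Tet

set_option autoImplicit false
open Cfsg

namespace Cfsg.Agent.S0129

set_option linter.unusedSectionVars false
set_option linter.unusedVariables false
set_option linter.style.haveILetI false
set_option linter.unusedSimpArgs false

open Subgroup Transfer MS

/-- The order of a p-group is bounded by p^(a(a+1)/2) when it has a maximal normal abelian subgroup of order p^a. -/
theorem result {G : Type*} [Group G] [Finite G] {p : ℕ} [Fact p.Prime] (hG : IsPGroup p G) (A : Subgroup G) [A.Normal] (hA : IsMulCommutative A) (hmax : ∀ B : Subgroup G, B.Normal → IsMulCommutative B → A ≤ B → B = A) (a : ℕ) (ha : Nat.card A = p ^ a) : Nat.card G ≤ p ^ (a * (a + 1) / 2) := by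
  have hn : Group.IsNilpotent (⊤ : Subgroup G) := nil_of_pg (hG.to_subgroup ⊤)
  have key : ∀ k ≤ a, ∃ K ≤ A, #K = p ^ k ∧ ⊤ ≤ NN K ∧ (CC K).index * p ^ k ≤ p ^ (k * (k + 1) / 2) := fun k hk => by
    induction k with
    | zero => exact ⟨⊥, bot_le, by simp, nn_bot, by rw [cc_bot]; simp⟩
    | succ k ih =>
      obtain ⟨K, h1, h2, h3, h4⟩ := ih (by omega)
      obtain ⟨L, h5, h6, h7, h8, h9⟩ := Solv.exists_normal_relIndex_prime hn (hG.to_subgroup A) le_top nn_normal h3
        (h1.lt_of_ne fun e => by
          rw [e, ha] at h2; have := Nat.pow_right_injective (Fact.out : p.Prime).two_le h2; omega)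
      obtain ⟨x, hx, hx'⟩ := SetLike.exists_of_lt h5
      refine ⟨L, h6, by rw [← card_mul_relIndex h5.le, h2, h7, pow_succ], h8, ?_⟩
      have b1 := BG.relIndex_C1_le (P := ⊤) (Z := K) (a := x) fun g hg => by
        rw [← commutatorElement_inv]; exact inv_mem (h9 (commutator_mem_commutator hx hg))
      rw [← Solv.sup_zpowers_eq_of_relIndex_prime h5.le (h7 ▸ Fact.out) hx hx', cc_sup, cc_zpowers,
        show (k + 1) * (k + 1 + 1) / 2 = k * (k + 1) / 2 + (k + 1) by
          rw [← Nat.add_mul_div_right _ _ two_pos]; congr 1; ring, pow_add p _ (k + 1), pow_succ p k, ← mul_assoc]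
      rw [relIndex_top_right, h2] at b1
      calc _ ≤ (CC K).index * p ^ k * p ^ k * p := by
              gcongr; exact (index_inf_le).trans (Nat.mul_le_mul_left _ b1)
        _ ≤ _ := by rw [mul_assoc]; gcongr
  obtain ⟨K, h1, h2, -, h3⟩ := key a le_rfl
  obtain rfl := eq_of_card_le h1 (by rw [h2, ha])
  obtain ⟨B, h4, -, h5, h6, h7⟩ := Solv.exists_abelian_self_centralizing hn le_rfl nn_top le_top hA nn_normal
  obtain rfl := hmax B (normalizer_eq_top_iff.1 (eq_top_iff.2 h6)) h5 h4
  rwa [le_antisymm (le_inf le_top le_rfl |>.trans h7) (ab_cc hA), ← ha, mul_comm, card_mul_index] at h3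

end Cfsg.Agent.S0129
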