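import Cfsg.Statements.S0131
import Cfsg.Agent.Lib.Transfer.PG

set_option autoImplicit false
open Cfsg

namespace Cfsg.Agent.S0131

set_option linter.unusedSectionVars false
set_option linter.unusedVariables false
set_option linter.style.haveILetI false
set_option linter.unusedSimpArgs false

open Subgroup Transfer MS

/-- P/P' has a normal complement in G exactly when the focal subgroup G' ∩ P is as small as possible, namely P'. -/
theorem result {G : Type*} [Group G] [Finite G] {p : ℕ} [Fact p.Prime] (P : Sylow p G) : (∃ N : Subgroup G, N.Normal ∧ N ⊓ (P : Subgroup G) = ⁅(P : Subgroup G), (P : Subgroup G)⁆ ∧ N ⊔ (P : Subgroup G) = ⊤) ↔ commutator G ⊓ (P : Subgroup G) = ⁅(P : Subgroup G), (P : Subgroup G)⁆ := by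
  have h0 : ⁅(P : Subgroup G), (P : Subgroup G)⁆ ≤ commutator G ⊓ P :=
    le_inf (commutator_mono le_top le_top) (der_le _)
  constructor
  · rintro ⟨N, hN, h1, h2⟩
    refine le_antisymm (h1 ▸ inf_le_inf_right _ ?_) h0
    have := der_sup_le (A := N) (B := P) nn_normal
    rw [h2, ← h1] at this
    exact this.trans (sup_le le_rfl inf_le_left)
  · intro h
    refine ⟨commutator G ⊔ pResidual p G, inferInstance, le_antisymm ?_ (h0.trans (inf_le_inf_right _ le_sup_left)),
      by rw [sup_assoc, pResidual_sup_sylow, sup_top_eq]⟩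
    rw [inf_comm, sylow_inf_commutator_sup_pResidual, ← h]
    refine focalSubgroup_le_of fun x hx k hk => ⟨?_, P.1.mul_mem hk (P.1.inv_mem hx)⟩
    exact commutator_mem_commutator (mem_top k) (mem_top x)

end Cfsg.Agent.S0131
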