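import Cfsg.Statements.S0132
import Cfsg.Agent.Lib.Transfer.PG

set_option autoImplicit false
open Cfsg

namespace Cfsg.Agent.S0132

set_option linter.unusedSectionVars false
set_option linter.unusedVariables false
set_option linter.style.haveILetI false
set_option linter.unusedSimpArgs false

open Subgroup Transfer MS

/-- A minimal non-p-nilpotent finite group is a minimal non-nilpotent group with a normal Sylow p-subgroup. -/
theorem result {G : Type*} [Group G] [Finite G] {p : ℕ} [Fact p.Prime] (h1 : ¬ Cfsg.HasNormalPComplement p G) (h2 : ∀ H : Subgroup G, H ≠ ⊤ → Cfsg.HasNormalPComplement p H) : (∀ H : Subgroup G, H ≠ ⊤ → Group.IsNilpotent H) ∧ ¬ Group.IsNilpotent G ∧ ∀ P : Sylow p G, (P : Subgroup G).Normal := by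
  obtain ⟨P⟩ : Nonempty (Sylow p G) := inferInstance
  obtain ⟨B, hB, -, h3⟩ : ∃ B ≤ (P : Subgroup G), B ≠ ⊥ ∧ ¬ res p (NN B) ≤ CC B := by
    by_contra h
    push Not at h
    exact h1 (hasNPC_of_res_normalizer_le P h)
  have hB' := P.2.to_le hB
  obtain ⟨q, hq, hqp, x, hx, ⟨k, hk⟩, hc⟩ : ∃ q : ℕ, q.Prime ∧ q ≠ p ∧ ∃ x ∈ NN B, (∃ k, x ^ q ^ k = 1) ∧ x ∉ CC B := by
    by_contra h
    push Not at h
    exact h3 (res_le_of_primePow fun q hq h1 _ x hx h2 => h q hq h1 x hx h2)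
  haveI := Fact.mk hq
  have hQ := isPGroup_zpowers hk
  have hn : zpowers x ≤ NN B := zpowers_le.2 hx
  have hcop : (#(zpowers x)).Coprime p := pi_compl_iff_coprime.1 (pi_of_pg hQ hqp)
  have h4 : B ⊔ zpowers x = ⊤ := by
    by_contra h
    exact hc (mem_centralizer_of_hasNPC (h2 _ h) hB' le_sup_left (mem_sup_right (mem_zpowers x)) hx
      (Nat.card_zpowers x ▸ hcop))
  have h5 : Hall {p} B ⊤ := h4 ▸ Hall.of_sup (pi1_of_pg hB') (pi_of_pg hQ hqp) hn
  have h6 : Hall {q}ᶜ B ⊤ := h4 ▸ Hall.of_sup (pi_of_pg hB' hqp.symm) (pi1_of_pg hQ).compl_compl hn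
  have hN : (⊤ : Subgroup G) ≤ NN B := h4 ▸ sup_le (le_nn B) hn
  refine ⟨fun H hH => nil_of_npc fun r hr hd => ?_, fun _ => h1 hasNPC_of_nilpotent, fun S => ?_⟩
  · haveI := Fact.mk hr
    rcases dvd_sup_l hr hn (h4 ▸ hd.trans (card_dvd le_top)) with h | h
    · obtain rfl : r = p := pi1_of_pg hB' r hr h
      exact npc_iff.2 (h2 H hH)
    · obtain rfl : r = q := pi1_of_pg hQ r hr h
      exact NPC.mono (H := ⊤) (show Hall _ _ _ from h6.eq_O hN ▸ h6) le_top
  · rw [(isSyl_top S).eq_of_le hB' le_top (h5.syl.le_of_le_normalizer S.2 le_top (le_top.trans hN)) |>.symm]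
    exact normal_of_top_le fun g => hN (mem_top g)

end Cfsg.Agent.S0132
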