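import Cfsg.Statements.S0138
import Cfsg.Agent.Lib.Char.Kernel

set_option autoImplicit false
open Cfsg

namespace Cfsg.Agent.S0138

open Cfsg.Agent.Char

/-- A character value has absolute value equal to the degree exactly when the group element acts by a scalar. -/
theorem result {G : Type*} [Group G] [Finite G] {V : Type*} [AddCommGroup V] [Module ℂ V] [FiniteDimensional ℂ V] (ρ : Representation ℂ G V) (g : G) : ‖ρ.character g‖ = (Module.finrank ℂ V : ℝ) ↔ ∃ ω : ℂ, ρ g = ω • (LinearMap.id : V →ₗ[ℂ] V) := by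
  rw [norm_character_eq_iff]
  refine ⟨fun ⟨ω, _, h⟩ => ⟨ω, h⟩, fun ⟨ω, h⟩ => ?_⟩
  rcases subsingleton_or_nontrivial V with hV | hV
  · exact ⟨1, by simp, Subsingleton.elim _ _⟩
  · exact ⟨ω, norm_eq_one_of_pow (orderOf_pos g).ne' (norm_eq_one_of_rep_eq_smul ρ h), h⟩

end Cfsg.Agent.S0138
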