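import Cfsg.Statements.S0154
import Cfsg.Agent.Lib.Char.Clifford

set_option autoImplicit false
open Cfsg

namespace Cfsg.Agent.S0154

open Cfsg.Agent.Char

/-- A finite group has exactly as many irreducible complex characters of degree 1 as the index of its commutator subgroup. -/
theorem result {G : Type*} [Group G] [Finite G] : Nat.card {χ : Cfsg.IrrCharacter G // (χ : G → ℂ) 1 = 1} = (commutator G).index := by
  have e1 : {χ : Cfsg.IrrCharacter G // (χ : G → ℂ) 1 = 1} ≃ (G →* ℂˣ) := by
    refine (Equiv.ofBijective (fun lam : G →* ℂˣ => (⟨⟨_, isIrrCharacter_units lam⟩, by simp⟩ :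
      {χ : Cfsg.IrrCharacter G // (χ : G → ℂ) 1 = 1})) ⟨fun a b h => ?_, fun χ => ?_⟩).symm
    · ext g; exact congrFun (congrArg (fun x => x.1.1) h) g
    · obtain ⟨lam, h⟩ := χ.1.2.isCharacter.exists_units_of_apply_one χ.2
      exact ⟨lam, Subtype.ext (Subtype.ext h.symm)⟩
  rw [Nat.card_congr e1, Nat.card_congr Abelianization.lift,
    CommGroup.card_monoidHom_of_hasEnoughRootsOfUnity]
  rfl

end Cfsg.Agent.S0154
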