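import Cfsg.Statements.S0157
import Cfsg.Agent.Lib.Char.Clifford

set_option autoImplicit false
open Cfsg

namespace Cfsg.Agent.S0157

open Cfsg.Agent.Char

/-- For a transitive action of a finite group on a finite set with at least two points: the action is 2-transitive if and only if the function sending g to (number of fixed points of g) − 1 is an irreducible character. -/
theorem result {G : Type*} [Group G] [Finite G] (X : Type*) [MulAction G X] [Finite X] [MulAction.IsPretransitive G X] (hX : 2 ≤ Nat.card X) : Cfsg.IsIrrCharacter G (fun g => (Nat.card (MulAction.fixedBy X g) : ℂ) - 1) ↔ MulAction.IsMultiplyPretransitive G X 2 := by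
  have := Fintype.ofFinite G
  have : Nontrivial X := Finite.one_lt_card_iff_nontrivial.1 hX
  have hπ := isCharacter_perm (G := G) X
  have h0 : ∀ (Y : Type _) [MulAction G Y] [Finite Y], Cfsg.classInner
      (fun g : G => (Nat.card (MulAction.fixedBy Y g) : ℂ)) (fun _ => 1) =
      Nat.card (MulAction.orbitRel.Quotient G Y) := by
    intro Y _ _
    classical
    have := Fintype.ofFinite Y
    have := Fintype.ofFinite (MulAction.orbitRel.Quotient G Y)
    have h := MulAction.sum_card_fixedBy_eq_card_orbits_mul_card_group G Y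
    simp only [Fintype.card_eq_nat_card] at h
    rw [classInner_one_right, ← Nat.cast_sum, h, Nat.cast_mul, mul_comm,
      mul_inv_cancel_right₀ (card_ne_zero' G)]
  have h1 : Cfsg.classInner (fun g : G => (Nat.card (MulAction.fixedBy X g) : ℂ)) (fun _ => 1) = 1 := by
    have : Nonempty (MulAction.orbitRel.Quotient G X) := ⟨Quotient.mk _ (Classical.arbitrary X)⟩
    have := (MulAction.pretransitive_iff_subsingleton_quotient G X).1 inferInstance
    rw [h0, Nat.card_unique (α := MulAction.orbitRel.Quotient G X), Nat.cast_one]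
  have h2 : Cfsg.classInner (fun g : G => (Nat.card (MulAction.fixedBy X g) : ℂ))
      (fun g : G => (Nat.card (MulAction.fixedBy X g) : ℂ)) =
      Nat.card (MulAction.orbitRel.Quotient G (X × X)) := by
    rw [← h0]
    simp only [Cfsg.classInner, map_natCast, map_one, mul_one, ← Nat.cast_mul, ← Nat.card_prod]
    congr 2
    ext g
    congr 1
    exact Nat.card_congr ((Equiv.Set.prod _ _).symm.trans (Equiv.setCongr (by
      ext ⟨a, b⟩; simp [Prod.ext_iff])))
  have h3 := hπ.sub_irr isIrrCharacter_one (by rw [h1]; exact one_ne_zero)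
  change Cfsg.IsIrrCharacter G ((fun g : G => (Nat.card (MulAction.fixedBy X g) : ℂ)) - fun _ => 1) ↔ _
  rw [h3.isIrr_iff, classInner_sub_left, classInner_sub_right, classInner_sub_right, h2, h1,
    ← conj_classInner, h1, isIrrCharacter_one.classInner_self, MulAction.is_two_pretransitive_iff]
  have h4 : ((Nat.card (MulAction.orbitRel.Quotient G (X × X)) : ℂ) - 1 - ((starRingEnd ℂ) 1 - 1) = 1)
      ↔ Nat.card (MulAction.orbitRel.Quotient G (X × X)) = 2 := by
    rw [map_one, sub_self, sub_zero, sub_eq_iff_eq_add]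
    norm_cast
  rw [h4]
  obtain ⟨x, y, hxy⟩ := exists_pair_ne X
  have h5 : ∀ a b : X, a ≠ b → (Quotient.mk _ (a, b) : MulAction.orbitRel.Quotient G (X × X)) ≠
      Quotient.mk _ (x, x) := fun a b hab h => by
    obtain ⟨g, hg⟩ := Quotient.exact h
    simp only [Prod.smul_mk, Prod.mk.injEq] at hg
    exact hab (hg.1.symm.trans hg.2)
  rw [Nat.card_eq_two_iff' (Quotient.mk _ (x, x))]
  constructor
  · rintro ⟨q, -, hq⟩ a b c d hab hcd
    obtain ⟨g, hg⟩ := Quotient.exact ((hq _ (h5 c d hcd)).trans (hq _ (h5 a b hab)).symm)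
    simp only [Prod.smul_mk, Prod.mk.injEq] at hg
    exact ⟨g, hg⟩
  · intro h
    refine ⟨_, h5 x y hxy, fun q hq => ?_⟩
    obtain ⟨⟨a, b⟩, rfl⟩ := Quotient.exists_rep q
    have hab : a ≠ b := by
      rintro rfl
      obtain ⟨g, hg⟩ := MulAction.exists_smul_eq G x a
      exact hq (Quotient.sound ⟨g, by simp [hg]⟩)
    obtain ⟨g, hg⟩ := h hxy hab
    exact Quotient.sound ⟨g, by simp [hg.1, hg.2]⟩

end Cfsg.Agent.S0157
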