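import Cfsg.Statements.S0158
import Cfsg.Agent.Lib.Char.FS

set_option autoImplicit false
open Cfsg

namespace Cfsg.Agent.S0158

open Cfsg.Agent.Char

/-- The Frobenius–Schur indicator of an irreducible complex representation of a finite group — the average over s of the character at s * s — is 0, 1 or −1, and it vanishes exactly when some character value is not real. -/
theorem result {G : Type*} [Group G] [Fintype G] {V : Type*} [AddCommGroup V] [Module ℂ V] [FiniteDimensional ℂ V] (ρ : Representation ℂ G V) [ρ.IsIrreducible] : ((Nat.card G : ℂ)⁻¹ * ∑ s : G, ρ.character (s * s) = 0 ∨ (Nat.card G : ℂ)⁻¹ * ∑ s : G, ρ.character (s * s) = 1 ∨ (Nat.card G : ℂ)⁻¹ * ∑ s : G, ρ.character (s * s) = -1) ∧ ((Nat.card G : ℂ)⁻¹ * ∑ s : G, ρ.character (s * s) = 0 ↔ ∃ s : G, (ρ.character s).im ≠ 0) := by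
  have h := isIrrCharacter_rep ρ
  change (fsInd _ = 0 ∨ fsInd _ = 1 ∨ fsInd _ = -1) ∧ (fsInd _ = 0 ↔ _)
  by_cases h1 : (fun g => (starRingEnd ℂ) (ρ.character g)) = ρ.character
  · have h2 := h.fsInd_eq_one_or h1
    refine ⟨Or.inr h2, fun h3 => ?_, fun ⟨s, hs⟩ =>
      absurd (Complex.conj_eq_iff_im.1 (congrFun h1 s)) hs⟩
    rw [h3] at h2
    simp at h2
  · refine ⟨Or.inl (h.fsInd_eq_zero h1), fun _ => ?_, fun _ => h.fsInd_eq_zero h1⟩
    by_contra h2
    push Not at h2
    exact h1 (funext fun g => Complex.conj_eq_iff_im.2 (h2 g))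

end Cfsg.Agent.S0158
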