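import Cfsg.Statements.S0162
import Cfsg.Agent.Lib.Char.PermLemma

set_option autoImplicit false
open Cfsg

namespace Cfsg.Agent.S0162

open Cfsg.Agent.Char

/-- If a finite group has odd order, its order is congruent to its number of conjugacy classes modulo 16. -/
theorem result {G : Type*} [Group G] [Finite G] (hodd : Odd (Nat.card G)) : Nat.card G ≡ Nat.card (ConjClasses G) [MOD 16] := by
  classical
  have := Fintype.ofFinite G
  choose d hd0 hd using fun χ : Cfsg.IrrCharacter G => χ.2.exists_degree
  have h1 : ∑ χ, d χ ^ 2 = Nat.card G := by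
    have := sum_degree_sq (G := G)
    simp only [hd] at this
    exact_mod_cast this
  rw [← card_irr_eq_card_conjClasses, ← ZMod.natCast_eq_natCast_iff, ← h1, ← sub_eq_zero,
    Nat.card_eq_fintype_card, Fintype.card, Finset.card_eq_sum_ones]
  push_cast
  rw [← Finset.sum_sub_distrib]
  refine Finset.sum_involution (fun χ _ => ⟨_, χ.2.conj⟩) (fun χ _ => ?_) (fun χ _ h h' => h ?_)
    (fun _ _ => Finset.mem_univ _) (fun χ _ => Subtype.ext (by simp))
  · have h2 : d ⟨_, χ.2.conj⟩ = d χ := by
      have := hd ⟨_, χ.2.conj⟩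
      simp only [hd χ, map_natCast] at this
      exact_mod_cast this.symm
    obtain ⟨k, hk⟩ := hodd.of_dvd_nat (χ.2.degree_dvd_card (hd χ))
    rw [h2, hk]
    push_cast
    generalize (k : ZMod 16) = x
    revert x
    decide
  · have := hd χ
    rw [χ.2.eq_one_of_conj_eq hodd (congrArg Subtype.val h')] at this
    rw [show d χ = 1 from Nat.cast_eq_one.1 (this.symm : (d χ : ℂ) = 1)]
    simp

end Cfsg.Agent.S0162
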