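import Cfsg.Statements.S0166
import Cfsg.Agent.Lib.Ez.K1
import Cfsg.Agent.S0163
import Cfsg.Agent.S0153

set_option autoImplicit false
open Cfsg

namespace Cfsg.Agent.S0166

/-- Brauer's splitting field Theorem: a complex representation of a finite group of exponent m is equivalent to a representation by matrices with entries in ℚ adjoined exp(2πi/m). -/
theorem result {G : Type*} [Group G] [Finite G] (n : ℕ) (ρ : Representation ℂ G (Fin n → ℂ)) : ∃ σ : Representation ℂ G (Fin n → ℂ), Nonempty (ρ.Equiv σ) ∧ ∀ g : G, ∀ i j : Fin n, LinearMap.toMatrix' (σ g) i j ∈ Algebra.adjoin ℚ ({Complex.exp (2 * Real.pi * Complex.I / (Monoid.exponent G : ℂ))} : Set ℂ) := by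
  letI := Fintype.ofFinite G
  have hm : Monoid.exponent G ≠ 0 := Monoid.exponent_ne_zero_of_finite
  haveI : NeZero (Monoid.exponent G) := ⟨hm⟩
  have hζ := Complex.isPrimitiveRoot_exp _ hm
  set ζ := Complex.exp (2 * Real.pi * Complex.I / (Monoid.exponent G : ℂ))
  let K : IntermediateField ℚ ℂ := IntermediateField.adjoin ℚ {ζ}
  have hK : K.toSubalgebra = Algebra.adjoin ℚ {ζ} := IntermediateField.adjoin_simple_toSubalgebra_of_isAlgebraic
    ((hζ.isIntegral (Nat.pos_of_ne_zero hm)).tower_top (A := ℚ)).isAlgebraic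
  obtain ⟨l, -, hl⟩ := S0163.result ρ.character ⟨n, ρ, rfl⟩
  have key : ∀ l : List ((E : Subgroup G) × ((E →* ℂˣ) × ℤ)), ∃ a b A B, Ez.Spl.KC K a A ∧ Ez.Spl.KC K b B ∧
      A = (l.map fun t => (t.2.2 : ℂ) • Cfsg.indFun t.1 (fun e => (t.2.1 e : ℂ))).sum + B := fun l => by
    induction l with
    | nil => exact ⟨0, 0, 0, 0, Ez.Spl.KC.zero, Ez.Spl.KC.zero, by simp⟩
    | cons t l ih =>
      obtain ⟨a, b, A, B, hA, hB, rfl⟩ := ih
      obtain ⟨E, lam, z⟩ := t
      obtain ⟨c, hc⟩ := Ez.Spl.ind (K := K) E lam fun e => by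
        obtain ⟨i, -, hi⟩ := hζ.eq_pow_of_pow_eq_one (ξ := (lam e : ℂ)) (by
          rw [← Units.val_pow_eq_pow_val, ← map_pow, show e ^ Monoid.exponent G = 1 from
            Subtype.ext (Monoid.pow_exponent_eq_one (e : G)), map_one, Units.val_one])
        rw [← hi]
        exact pow_mem (IntermediateField.mem_adjoin_simple_self ℚ ζ) i
      obtain ⟨k, rfl | rfl⟩ := z.eq_nat_or_neg
      · obtain ⟨d, hd⟩ := hc.nsmul k
        exact ⟨_, _, _, _, hd.add hA, hB, by simp [add_assoc]⟩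
      · obtain ⟨d, hd⟩ := hc.nsmul k
        exact ⟨_, _, _, _, hA, hd.add hB, by simp; abel⟩
  obtain ⟨a, b, A, B, hA, hB, e⟩ := key l
  rw [← hl] at e
  obtain ⟨m, hm'⟩ := Ez.Spl.cancel ρ b hA hB e
  obtain ⟨σ, h1, h2⟩ := hm'.complex
  have h3 := congrFun h1 1
  rw [Representation.char_one, Representation.char_one] at h3
  obtain rfl : m = n := by simpa using h3
  exact ⟨σ, S0153.result ρ σ h1.symm, fun g i j => hK ▸ h2 g i j⟩

end Cfsg.Agent.S0166
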