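import Cfsg.Statements.S0167
import Cfsg.Agent.Lib.Char.Clifford

set_option autoImplicit false
open Cfsg

namespace Cfsg.Agent.S0167

open Cfsg.Agent.Char

/-- An element g of a finite group is a commutator if and only if the sum over the irreducible characters χ of χ g / χ 1 is nonzero. -/
theorem result {G : Type*} [Group G] [Finite G] (g : G) : (∃ a b : G, g = a * b * a⁻¹ * b⁻¹) ↔ ∑ᶠ χ : Cfsg.IrrCharacter G, (χ : G → ℂ) g / (χ : G → ℂ) 1 ≠ 0 := by
  classical
  have := Fintype.ofFinite G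
  let N : G → ℂ := fun g => ∑ a, ∑ b, if a * b * a⁻¹ * b⁻¹ = g then 1 else 0
  have h1 : ∀ φ : G → ℂ, ∑ g, N g * φ g = ∑ a, ∑ b, φ (a * b * a⁻¹ * b⁻¹) := fun φ => by
    simp only [N, Finset.sum_mul]
    rw [Finset.sum_comm]
    refine Finset.sum_congr rfl fun a _ => ?_
    rw [Finset.sum_comm]
    simp
  have h2 : Cfsg.IsClassFunction G N := fun g x => by
    refine (Fintype.sum_equiv (MulAut.conj x).toEquiv _ _ fun a =>
      Fintype.sum_equiv (MulAut.conj x).toEquiv _ _ fun b => ?_).symm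
    congr 1
    rw [← (MulAut.conj x).injective.eq_iff]
    simp only [map_mul, map_inv]
    rfl
  have h3 : ∀ χ : Cfsg.IrrCharacter G, Cfsg.classInner N χ = Nat.card G / (χ : G → ℂ) 1 := fun χ => by
    rw [Cfsg.classInner, h1, Finset.sum_comm]
    simp only [← map_sum, χ.2.sum_conj_mul]
    simp only [χ.2.isCharacter.apply_inv, mul_assoc, ← Finset.sum_div,
      ← Finset.mul_sum]
    have h4 := χ.2.classInner_self
    rw [Cfsg.classInner, inv_mul_eq_one₀ (card_ne_zero' G)] at h4
    rw [← h4, map_div₀, χ.2.isCharacter.conj_apply_one, map_mul, map_natCast, mul_div_assoc,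
      inv_mul_cancel_left₀ (card_ne_zero' G)]
  have h4 : N g = Nat.card G * ∑ χ : Cfsg.IrrCharacter G, (χ : G → ℂ) g / (χ : G → ℂ) 1 := by
    rw [h2.apply_eq_sum, Finset.mul_sum]
    exact Finset.sum_congr rfl fun χ _ => by rw [h3]; ring
  rw [finsum_eq_sum_of_fintype, ← mul_ne_zero_iff_left (card_ne_zero' G), ← h4]
  have h5 : N g = ((∑ a, ∑ b, if a * b * a⁻¹ * b⁻¹ = g then 1 else 0 : ℕ) : ℂ) := by simp [N]
  rw [h5, Nat.cast_ne_zero]
  simp only [Ne, Finset.sum_eq_zero_iff, Finset.mem_univ, forall_true_left, ite_eq_right_iff,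
    one_ne_zero, imp_false, not_forall, not_not, eq_comm (a := g)]

end Cfsg.Agent.S0167
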