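import Cfsg.Statements.S0168
import Cfsg.Agent.Lib.Char.Clifford

set_option autoImplicit false
open Cfsg

namespace Cfsg.Agent.S0168

open Cfsg.Agent.Char

/-- The Burnside–Brauer Theorem. Let χ be the character of a faithful complex representation of a finite group, taking m distinct values. Then every irreducible character has nonzero inner product with χ ^ i for some i < m. -/
theorem result {G : Type*} [Group G] [Fintype G] {V : Type*} [AddCommGroup V] [Module ℂ V] [FiniteDimensional ℂ V] (ρ : Representation ℂ G V) (hfaithful : Function.Injective ρ) (ψ : G → ℂ) (hψ : Cfsg.IsIrrCharacter G ψ) : ∃ i : ℕ, i < Nat.card (Set.range ρ.character) ∧ Cfsg.classInner (fun g => ρ.character g ^ i) ψ ≠ 0 := by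
  classical
  by_contra h
  push Not at h
  set χ := ρ.character with hχ
  have hfin : (Set.range χ).Finite := Set.finite_range χ
  let p : Polynomial ℂ := ∏ a ∈ hfin.toFinset.erase (χ 1), (Polynomial.X - Polynomial.C a)
  have hdeg : p.natDegree < Nat.card (Set.range χ) := by
    rw [Polynomial.natDegree_prod_of_monic _ _ fun a _ => Polynomial.monic_X_sub_C a]
    simp only [Polynomial.natDegree_X_sub_C, Finset.sum_const, smul_eq_mul, mul_one]
    rw [Nat.card_coe_set_eq, Set.ncard_eq_toFinset_card _ hfin]
    exact Finset.card_erase_lt_of_mem (by simp)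
  have h1 : Cfsg.classInner (fun g => p.eval (χ g)) ψ = 0 := by
    have : (fun g => p.eval (χ g)) =
        ∑ i ∈ Finset.range (Nat.card (Set.range χ)), p.coeff i • fun g => χ g ^ i := by
      ext g
      simp [Polynomial.eval_eq_sum_range' hdeg]
    rw [this, classInner_sum_left]
    exact Finset.sum_eq_zero fun i hi => by
      rw [classInner_smul_left, h i (Finset.mem_range.1 hi), mul_zero]
  rw [Cfsg.classInner, Finset.sum_eq_single 1 (fun g _ hg => ?_) (by simp)] at h1
  · simp only [mul_eq_zero, inv_eq_zero, card_ne_zero', false_or, map_eq_zero,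
      hψ.apply_one_ne_zero, or_false, p, Polynomial.eval_prod, Finset.prod_eq_zero_iff] at h1
    obtain ⟨a, ha, h2⟩ := h1
    simp [sub_eq_zero] at h2
    exact (Finset.mem_erase.1 ha).1 h2.symm
  · simp only [p, Polynomial.eval_prod]
    rw [Finset.prod_eq_zero (i := χ g) _ (by simp), zero_mul]
    refine Finset.mem_erase.2 ⟨fun h2 => hg (hfaithful ?_), by simp⟩
    rw [hχ, Representation.char_one, character_eq_iff] at h2
    rw [h2, map_one]; rfl

end Cfsg.Agent.S0168
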