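import Cfsg.Statements.S0170
import Cfsg.Agent.Lib.Char.Vchar

set_option autoImplicit false
open Cfsg

namespace Cfsg.Agent.S0170

open Cfsg.Agent.Char

/-- Exceptional characters. Let S be a subset of a finite group contained in its normalizer N and meeting its conjugates by elements outside N only in the identity. Given n ≥ 2 distinct irreducible characters of N of equal degree that vanish on N away from S, there exist a sign ε and n distinct irreducible characters θ_i of G such that inducing χ_i − χ_j to G gives ε (θ_i − θ_j) for all i, j. -/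
theorem result {G : Type*} [Group G] [Fintype G] (S : Set G) (hSN : S ⊆ Subgroup.normalizer S) (hTI : ∀ g : G, g ∉ Subgroup.normalizer S → ∀ s ∈ S, g * s * g⁻¹ ∈ S → s = 1) (n : ℕ) (hn : 2 ≤ n) (χ : Fin n → (Subgroup.normalizer S → ℂ)) (hirr : ∀ i, Cfsg.IsIrrCharacter (Subgroup.normalizer S) (χ i)) (hinj : Function.Injective χ) (hvan : ∀ i, ∀ x : Subgroup.normalizer S, (x : G) ∉ S → χ i x = 0) (hdeg : ∀ i j, χ i 1 = χ j 1) : ∃ ε : ℂ, (ε = 1 ∨ ε = -1) ∧ ∃ θ : Fin n → (G → ℂ), (∀ i, Cfsg.IsIrrCharacter G (θ i)) ∧ Function.Injective θ ∧ ∀ i j, Cfsg.indFun (Subgroup.normalizer S) (χ i) - Cfsg.indFun (Subgroup.normalizer S) (χ j) = ε • (θ i - θ j) := by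
  classical
  let i₀ : Fin n := ⟨0, by omega⟩
  have hiso : ∀ i j k l, classInner (indFun _ (χ i - χ j)) (indFun _ (χ k - χ l)) =
      classInner (χ i - χ j) (χ k - χ l) := by
    intro i j k l
    refine classInner_indFun_of_TI _ _ ((hirr k).isClassFunction.sub (hirr l).isClassFunction) ?_
    intro a ha x hx hx'
    by_contra h1
    have h2 : (a : G) ∈ S := by
      by_contra h3
      exact ha (by simp [hvan _ a h3])
    have h3 : x * a * x⁻¹ ∈ S := by
      by_contra h3
      exact h1 (by simp [hvan _ ⟨_, hx'⟩ h3])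
    have h4 : a = 1 := Subtype.ext (hTI x hx a h2 h3)
    exact ha (by simp [h4, hdeg i j])
  obtain ⟨ε, hε, θ, h1, h2, h3⟩ := isometry_lemma i₀ (τ := fun i => indFun _ (χ i - χ i₀))
    (by simp) (fun i => ((hirr i).isGen.sub (hirr i₀).isGen).ind)
    (fun i => by simp [indFun_one, hdeg i i₀]) (fun i j hi hj => by
      rw [hiso]
      simp only [classInner_sub_left, classInner_sub_right, (hirr _).classInner_eq_ite (hirr _),
        hinj.eq_iff, if_neg hi, if_neg (Ne.symm hj)]
      split_ifs <;> norm_num)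
  refine ⟨ε, hε, θ, h1, h2, fun i j => ?_⟩
  have h4 := h3 i
  have h5 := h3 j
  simp only [indFun_sub] at h4 h5
  linear_combination (norm := module) h4 - h5

end Cfsg.Agent.S0170
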