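import Cfsg.Statements.S0172
import Cfsg.Agent.Lib.Char.Misc

set_option autoImplicit false
open Cfsg

namespace Cfsg.Agent.S0172

open Cfsg.Agent.Char

/-- Class number of a Frobenius group: if G = K H with K normal, K ⊓ H trivial and no non-identity element of H commuting with a non-identity element of K, then |H| * k(G) + 1 = |H| * k(H) + k(K), where k denotes the number of conjugacy classes. -/
theorem result {G : Type*} [Group G] [Finite G] (K H : Subgroup G) [K.Normal] (hKH : K ⊓ H = ⊥) (hKH' : K ⊔ H = ⊤) (hfpf : ∀ h ∈ H, h ≠ 1 → ∀ k ∈ K, h * k = k * h → k = 1) : Nat.card H * Nat.card (ConjClasses G) + 1 = Nat.card H * Nat.card (ConjClasses H) + Nat.card (ConjClasses K) := by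
  have h1 := card_irr_not_le_charKer (centralizer_le_of_fpf hKH' hfpf)
  have hc := Solv.isComplement'_of_inf_eq_bot_of_sup_eq_top hKH hKH'
  have h2 := card_irr_le_charKer (QuotientGroup.mk' K) (QuotientGroup.mk'_surjective K)
  rw [QuotientGroup.ker_mk'] at h2
  have h3 : Nat.card (Cfsg.IrrCharacter (G ⧸ K)) = Nat.card (Cfsg.IrrCharacter H) := by
    let e := hc.symm.QuotientMulEquiv
    exact Nat.card_congr ⟨fun χ => ⟨_, χ.2.comp_equiv e.symm⟩, fun χ => ⟨_, χ.2.comp_equiv e⟩,
      fun χ => Subtype.ext (by simp), fun χ => Subtype.ext (by simp)⟩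
  classical
  have h4 := Nat.card_congr
    (Equiv.sumCompl fun χ : Cfsg.IrrCharacter G => K ≤ charKer (χ : G → ℂ))
  rw [Nat.card_sum, h2, h3] at h4
  simp only [← card_irr_eq_card_conjClasses]
  rw [← h4, ← h1, Solv.IsComplement'.card_eq_index hc]
  ring

end Cfsg.Agent.S0172
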