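import Cfsg.Statements.S0175
import Cfsg.Agent.Lib.Char.Misc

set_option autoImplicit false
open Cfsg

namespace Cfsg.Agent.S0175

open Cfsg.Agent.Char

/-- Taketa's Theorem on M-groups: if every irreducible complex character of a finite group is induced from a linear character (a homomorphism to ℂˣ) of some subgroup, the group is solvable. -/
theorem result {G : Type*} [Group G] [Fintype G] (hM : ∀ χ : G → ℂ, Cfsg.IsIrrCharacter G χ → ∃ (H : Subgroup G) (lam : H →* ℂˣ), χ = Cfsg.indFun H (fun h => (lam h : ℂ))) : Group.IsSolvable G := by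
  have key : ∀ d : ℕ, ∀ χ, Cfsg.IsIrrCharacter G χ → χ 1 = d → derivedSeries G d ≤ charKer χ := by
    intro d
    induction d using Nat.strong_induction_on with
    | _ d ih =>
    intro χ hχ hd
    obtain ⟨H, lam, rfl⟩ := hM χ hχ
    have hd' : H.index = d := by simpa [indFun_one] using hd
    obtain ⟨e, rfl⟩ : ∃ e, d = e + 1 :=
      ⟨d - 1, by have := H.index_ne_zero_of_finite; omega⟩
    have := Fintype.ofFinite H
    have h1 : derivedSeries G e ≤ H := by
      rcases e.eq_zero_or_pos with rfl | he
      · rw [Subgroup.index_eq_one.1 hd']; exact le_top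
      have hπ : Cfsg.IsCharacter G (Cfsg.indFun H fun _ => 1) := isCharacter_one.ind
      refine le_trans (fun g hg => hπ.mem_charKer_of_forall_constituent fun ψ hψ h2 => ?_)
        (charKer_indFun_le isCharacter_one isIrrCharacter_one.ne_zero)
      obtain ⟨c, hc0, hc⟩ := hψ.exists_degree
      have h3 : c ≤ e := by
        by_contra h3
        obtain ⟨m, hm⟩ := hπ.classInner_eq_nat hψ.isCharacter
        have h4 := hπ.mul_degree_le hψ hm hc (n := e + 1) (by simp [indFun_one, hd'])
        have : m ≠ 0 := by rintro rfl; simp [hm] at h2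
        obtain rfl : c = e + 1 := by nlinarith [Nat.pos_of_ne_zero this]
        have h5 := hπ.eq_of_constituent_of_apply_one hψ h2 (by simp [indFun_one, hd', hc])
        have h6 : ψ = fun _ => 1 := hψ.eq_of_classInner_ne_zero isIrrCharacter_one (by
          rw [← h5, frobenius_left _ _ (Cfsg.IsClassFunction.const 1),
            isIrrCharacter_one.classInner_self]; simp)
        rw [h6] at hc
        have : e + 1 = 1 := Nat.cast_eq_one.1 (hc.symm : ((e + 1 : ℕ) : ℂ) = 1)
        omega
      exact ih c (by omega) ψ hψ hc (derivedSeries_antitone G h3 hg)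
    refine le_charKer_indFun ((derivedSeries_antitone G e.le_succ).trans h1)
      (isIrrCharacter_units lam).isCharacter fun x hx => ?_
    have h2 : derivedSeries G (e + 1) ≤ (commutator H).map H.subtype := by
      rw [H.map_subtype_commutator]
      exact Subgroup.commutator_mono h1 h1
    obtain ⟨y, hy, h3⟩ := h2 hx
    rw [← Subtype.ext h3, show lam y = 1 from Abelianization.commutator_subset_ker lam hy]
    simp
  refine ⟨⟨Nat.card G, eq_bot_iff.2 fun g hg => ?_⟩⟩
  by_contra h
  obtain ⟨χ, hχ, h1⟩ := exists_irr_apply_ne h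
  obtain ⟨d, -, hd⟩ := hχ.exists_degree
  exact h1 (hχ.isCharacter.mem_charKer.1 (key d χ hχ hd (derivedSeries_antitone G
    (Nat.le_of_dvd Nat.card_pos (hχ.degree_dvd_card hd)) hg)))

end Cfsg.Agent.S0175
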