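import Cfsg.Statements.S0177
import Cfsg.Agent.Lib.Char.Artin

set_option autoImplicit false
open Cfsg

namespace Cfsg.Agent.S0177

open Cfsg.Agent.Char

/-- The Artin induction Theorem: for a character χ of a finite group, |G| • χ is a ℤ-linear combination of functions induced from homomorphisms of cyclic subgroups into ℂˣ. -/
theorem result {G : Type*} [Group G] [Fintype G] (χ : G → ℂ) (hχ : Cfsg.IsCharacter G χ) : ∃ l : List ((A : Subgroup G) × ((A →* ℂˣ) × ℤ)), (∀ t ∈ l, IsCyclic t.1) ∧ (Nat.card G : ℂ) • χ = (l.map fun t => (t.2.2 : ℂ) • Cfsg.indFun t.1 (fun a => (t.2.1 a : ℂ))).sum := by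
  have h := artin hχ
  generalize (Nat.card G : ℂ) • χ = φ at h
  induction h using AddSubgroup.closure_induction with
  | mem x hx =>
    obtain ⟨E, hE, lam, rfl⟩ := hx
    exact ⟨[⟨E, lam, 1⟩], by simpa using hE, by simp⟩
  | zero => exact ⟨[], by simp, by simp⟩
  | add x y _ _ h1 h2 =>
    obtain ⟨a, ha, rfl⟩ := h1
    obtain ⟨b, hb, rfl⟩ := h2
    exact ⟨a ++ b, fun t ht => (List.mem_append.1 ht).elim (ha t) (hb t), by simp⟩
  | neg x _ h =>
    obtain ⟨a, ha, rfl⟩ := h
    refine ⟨a.map fun t => ⟨t.1, t.2.1, -t.2.2⟩, fun t ht => ?_, ?_⟩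
    · obtain ⟨s, hs, rfl⟩ := List.mem_map.1 ht
      exact ha s hs
    · rw [List.sum_neg, List.map_map, List.map_map]
      congr 2
      ext t; simp

end Cfsg.Agent.S0177
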