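import Cfsg.Statements.S0178
import Cfsg.Agent.Lib.Char.Misc

set_option autoImplicit false
open Cfsg

namespace Cfsg.Agent.S0178

open Cfsg.Agent.Char

/-- The degree of an irreducible complex representation of a finite group is at most the index of any abelian subgroup. -/
theorem result {G : Type*} [Group G] [Finite G] {V : Type*} [AddCommGroup V] [Module ℂ V] [FiniteDimensional ℂ V] (ρ : Representation ℂ G V) [ρ.IsIrreducible] (A : Subgroup G) (hA : ∀ a ∈ A, ∀ b ∈ A, a * b = b * a) : Module.finrank ℂ V ≤ A.index := by
  have := Fintype.ofFinite A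
  have h := isIrrCharacter_rep ρ
  obtain ⟨θ, hθ, h1⟩ := h.exists_irr_under A
  obtain ⟨e, he⟩ := (h.isCharacter.res A).classInner_eq_nat hθ.isCharacter
  have h2 := h.degree_le_index_mul hθ.isCharacter he (Representation.char_one ρ) (d := 1)
    (by simpa using hθ.apply_one_of_comm fun a b => Subtype.ext (hA a a.2 b b.2))
  have : e ≠ 0 := by rintro rfl; simp [he] at h1
  nlinarith [Nat.pos_of_ne_zero this]

end Cfsg.Agent.S0178
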