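import Cfsg.Statements.S0184
import Cfsg.Agent.Lib.Char.Misc

set_option autoImplicit false
open Cfsg

namespace Cfsg.Agent.S0184

open Cfsg.Agent.Char

/-- A finite p-group admits a faithful irreducible complex representation if and only if its centre is cyclic. -/
theorem result {G : Type*} [Group G] [Finite G] (p : ℕ) [Fact p.Prime] (hG : IsPGroup p G) : (∃ (n : ℕ) (ρ : Representation ℂ G (Fin n → ℂ)), ρ.IsIrreducible ∧ Function.Injective ρ) ↔ IsCyclic (Subgroup.center G) := by
  constructor
  · rintro ⟨n, ρ, h1, h2⟩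
    have h := isIrrCharacter_rep ρ
    obtain ⟨lam, h3⟩ := h.isCharacter.exists_units_of_le_charCenter h.apply_one_ne_zero
      h.center_le_charCenter
    refine isCyclic_of_injective_ringHom ((Units.coeHom ℂ).comp lam)
      ((injective_iff_map_eq_one _).2 fun z hz => ?_)
    have h4 : (z : G) ∈ charKer ρ.character := fun x => by
      rw [h3, show (lam z : ℂ) = 1 from hz, one_mul]
    rw [charKer_rep, (MonoidHom.ker_eq_bot_iff ρ).2 h2] at h4
    exact Subtype.ext h4
  · intro hc
    suffices h : ∃ χ, Cfsg.IsIrrCharacter G χ ∧ charKer χ = ⊥ by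
      obtain ⟨χ, ⟨n, ρ, h1, rfl⟩, h2⟩ := h
      exact ⟨n, ρ, h1, (MonoidHom.ker_eq_bot_iff ρ).1 (charKer_rep ρ ▸ h2)⟩
    rcases subsingleton_or_nontrivial G with h | h
    · exact ⟨_, isIrrCharacter_one, Subsingleton.elim _ _⟩
    have hp : p.Prime := Fact.out
    have key : ∀ K : Subgroup G, K ≤ Subgroup.center G → K ≠ ⊥ →
        ∀ z : Subgroup.center G, z ^ p = 1 → (z : G) ∈ K := by
      classical
      intro K hK hK1 z hz
      have := Fintype.ofFinite (Subgroup.center G)
      obtain ⟨k, hk⟩ := (hG.to_subgroup K).exists_card_eq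
      obtain ⟨w, hw⟩ := exists_prime_orderOf_dvd_card' (G := K) p (by
        rw [hk]; exact dvd_pow_self p (by rintro rfl; exact hK1 (Subgroup.card_eq_one.1 hk)))
      let w' : Subgroup.center G := ⟨w, hK w.2⟩
      have hw' : orderOf w' = p := by
        rw [← hw, ← Subgroup.orderOf_coe, ← Subgroup.orderOf_coe w]
      have h1 : (Finset.univ.filter (· ∈ Subgroup.zpowers w')) =
          Finset.univ.filter fun a : Subgroup.center G => a ^ p = 1 := by
        refine Finset.eq_of_subset_of_card_le (fun a ha => ?_)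
          ((IsCyclic.card_pow_eq_one_le hp.pos).trans ?_)
        · simp only [Finset.mem_filter, Finset.mem_univ, true_and] at ha ⊢
          rw [← orderOf_dvd_iff_pow_eq_one, ← hw']
          exact orderOf_dvd_of_mem_zpowers ha
        · rw [← Fintype.card_subtype, Fintype.card_eq_nat_card, Nat.card_zpowers, hw']
      have h2 : z ∈ Finset.univ.filter (· ∈ Subgroup.zpowers w') := by simpa [h1] using hz
      obtain ⟨i, rfl⟩ := (Finset.mem_filter.1 h2).2
      exact K.zpow_mem w.2 i
    have := hG.isNilpotent
    obtain ⟨k, hk⟩ := (hG.to_subgroup (Subgroup.center G)).exists_card_eq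
    obtain ⟨z, hz⟩ := exists_prime_orderOf_dvd_card' (G := Subgroup.center G) p (by
      rw [hk]; exact dvd_pow_self p (by
        rintro rfl; exact Group.IsNilpotent.center_ne_bot G (Subgroup.card_eq_one.1 hk)))
    obtain ⟨χ, hχ, h1⟩ := exists_irr_apply_ne (g := (z : G)) (by
      intro h
      rw [show z = 1 from Subtype.ext h, orderOf_one] at hz
      exact hp.one_lt.ne hz)
    refine ⟨χ, hχ, by_contra fun h2 => h1 (hχ.isCharacter.mem_charKer.1 ?_)⟩
    have := hχ.isCharacter.normal_charKer
    have h3 := Solv.inf_centralizer_ne_bot_of_nilpotent (L := ⊤) inferInstance le_top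
      Subgroup.le_normalizer_of_normal h2
    rw [Subgroup.coe_top, Subgroup.centralizer_univ] at h3
    exact (key _ inf_le_right h3 z (hz ▸ pow_orderOf_eq_one z)).1

end Cfsg.Agent.S0184
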