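import Cfsg.Statements.S0185
import Cfsg.Agent.Lib.Char.Misc

set_option autoImplicit false
open Cfsg

namespace Cfsg.Agent.S0185

open Cfsg.Agent.Char

/-- If a finite group has a faithful complex representation of degree less than the smallest prime dividing its order, the group is abelian. -/
theorem result {G : Type*} [Group G] [Finite G] {V : Type*} [AddCommGroup V] [Module ℂ V] [FiniteDimensional ℂ V] (ρ : Representation ℂ G V) (hfaithful : Function.Injective ρ) (hdeg : ∀ p : ℕ, p.Prime → p ∣ Nat.card G → Module.finrank ℂ V < p) (a b : G) : a * b = b * a := by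
  have := Fintype.ofFinite G
  have h := isCharacter_rep ρ
  have h1 : a * b * a⁻¹ * b⁻¹ ∈ charKer ρ.character := h.mem_charKer_of_forall_constituent fun χ hχ h1 => by
    refine hχ.apply_one_eq_one_iff.1 ?_
      (Subgroup.commutator_mem_commutator (Subgroup.mem_top a) (Subgroup.mem_top b))
    obtain ⟨d, hd0, hd⟩ := hχ.exists_degree
    obtain ⟨m, hm⟩ := h.classInner_eq_nat hχ.isCharacter
    have h2 := h.mul_degree_le hχ hm hd (Representation.char_one ρ)
    have : m ≠ 0 := by rintro rfl; simp [hm] at h1
    by_contra h3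
    obtain ⟨p, hp, h4⟩ := Nat.exists_prime_and_dvd (n := d) (by rintro rfl; simp [hd] at h3)
    have := hdeg p hp (h4.trans (hχ.degree_dvd_card hd))
    have := Nat.le_of_dvd hd0 h4
    nlinarith [Nat.pos_of_ne_zero ‹m ≠ 0›]
  rw [charKer_rep, (MonoidHom.ker_eq_bot_iff ρ).2 hfaithful] at h1
  exact commutatorElement_eq_one_iff_mul_comm.1 h1

end Cfsg.Agent.S0185
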