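import Cfsg.Statements.S0186
import Cfsg.Agent.Lib.Char.Degree

set_option autoImplicit false
open Cfsg

namespace Cfsg.Agent.S0186

open Cfsg.Agent.Char

/-- Let G be a finite simple group of order n and p a prime dividing n. If G has more than n / p^2 conjugacy classes, then every Sylow p-subgroup of G is abelian. -/
theorem result {G : Type*} [Group G] [Finite G] [IsSimpleGroup G] (p : ℕ) [Fact p.Prime] (hp : p ∣ Nat.card G) (hmany : Nat.card G < p ^ 2 * Nat.card (ConjClasses G)) (P : Sylow p G) (a b : G) (ha : a ∈ P) (hb : b ∈ P) : a * b = b * a := by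
  have hp' : p.Prime := Fact.out
  by_contra hne
  classical
  have := Fintype.ofFinite (P : Subgroup G)
  obtain ⟨k, hk⟩ := IsPGroup.iff_card.1 P.isPGroup'
  have h1 : p ^ 2 ∣ Nat.card G := by
    refine Dvd.dvd.trans ?_ (Subgroup.card_subgroup_dvd_card (P : Subgroup G))
    rw [hk]
    refine pow_dvd_pow p (not_lt.1 fun h => hne ?_)
    have : IsCyclic (P : Subgroup G) := isCyclic_of_card_dvd_prime (p := p) (by
      rw [hk]; simpa using pow_dvd_pow p (Nat.le_of_lt_succ h))
    exact congrArg Subtype.val ((IsCyclic.commGroup (α := (P : Subgroup G))).mul_comm ⟨a, ha⟩ ⟨b, hb⟩)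
  obtain ⟨χ, h2, h3⟩ : ∃ χ : IrrCharacter G, χ ≠ irrOne G ∧ charDegree χ.1 < p := by
    by_contra h2
    push Not at h2
    have h3 := sum_charDegree_sq (G := G)
    rw [← Finset.add_sum_erase _ _ (Finset.mem_univ (irrOne G))] at h3
    have h4 := Finset.card_nsmul_le_sum (Finset.univ.erase (irrOne G)) (fun χ => charDegree χ.1 ^ 2)
      (p ^ 2) fun χ hχ => Nat.pow_le_pow_left (h2 χ (Finset.ne_of_mem_erase hχ)) 2
    have h5 : charDegree (irrOne G).1 = 1 := by
      have := (irrOne G).2.isCharacter.cast_charDegree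
      rw [irrOne_apply] at this
      exact_mod_cast this
    rw [Finset.card_erase_of_mem (Finset.mem_univ _), Finset.card_univ, ← Nat.card_eq_fintype_card,
      card_irr_eq_card_conjClasses, smul_eq_mul] at h4
    obtain ⟨c, hc⟩ := h1
    rw [hc] at hmany h3
    have h6 := Nat.lt_of_mul_lt_mul_left hmany
    have h7 : c ≤ Nat.card (ConjClasses G) - 1 := by omega
    have := Nat.mul_le_mul_left (p ^ 2) h7
    rw [h5] at h3
    nlinarith
  have h4 := (χ.2.isCharacter.normal_charKer.eq_bot_or_eq_top).resolve_right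
    (χ.2.charKer_ne_top fun h => h2 (Subtype.ext h))
  have h := χ.2.isCharacter.res P
  have h5 : (⟨a, ha⟩ * ⟨b, hb⟩ * (⟨a, ha⟩ : (P : Subgroup G))⁻¹ * (⟨b, hb⟩ : (P : Subgroup G))⁻¹) ∈
      charKer fun x : (P : Subgroup G) => χ.1 x :=
    h.mem_charKer_of_forall_constituent fun ψ hψ h1 => by
    refine hψ.apply_one_eq_one_iff.1 ?_
      (Subgroup.commutator_mem_commutator (Subgroup.mem_top _) (Subgroup.mem_top _))
    obtain ⟨d, hd0, hd⟩ := hψ.exists_degree
    obtain ⟨m, hm⟩ := h.classInner_eq_nat hψ.isCharacter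
    have h2 := h.mul_degree_le hψ hm hd χ.2.isCharacter.cast_charDegree.symm
    have : m ≠ 0 := by rintro rfl; simp [hm] at h1
    obtain ⟨i, -, rfl⟩ := (Nat.dvd_prime_pow hp').1 (hk ▸ hψ.degree_dvd_card hd)
    rcases i with _ | i
    · simpa using hd
    · have := Nat.le_self_pow (n := i + 1) (by simp) p
      nlinarith [Nat.pos_of_ne_zero ‹m ≠ 0›]
  have h6 := χ.2.isCharacter.mem_charKer.2 (h.mem_charKer.1 h5)
  rw [h4] at h6
  exact hne (commutatorElement_eq_one_iff_mul_comm.1 h6)

end Cfsg.Agent.S0186
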