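import Cfsg.Statements.S0187
import Cfsg.Agent.Lib.Char.Kernel

set_option autoImplicit false
open Cfsg

namespace Cfsg.Agent.S0187

open Cfsg.Agent.Char

/-- A finite group is commutative if and only if every irreducible complex character has degree 1. -/
theorem result {G : Type*} [Group G] [Finite G] : (∀ a b : G, a * b = b * a) ↔ ∀ χ : Cfsg.IrrCharacter G, (χ : G → ℂ) 1 = 1 := by
  refine ⟨fun h χ => χ.2.apply_one_of_comm h, fun h a b => ?_⟩
  by_contra hab
  have h1 : a * b * a⁻¹ * b⁻¹ ≠ 1 := by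
    rwa [Ne, mul_inv_eq_one, mul_inv_eq_iff_eq_mul]
  obtain ⟨χ, hχ, h2⟩ := exists_irr_apply_ne h1
  refine h2 (hχ.isCharacter.mem_charKer.1 (hχ.apply_one_eq_one_iff.1 (h ⟨χ, hχ⟩) ?_))
  exact Subgroup.commutator_mem_commutator (Subgroup.mem_top a) (Subgroup.mem_top b)

end Cfsg.Agent.S0187
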