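import Cfsg.Statements.S0189
import Cfsg.Agent.Lib.Char.Kernel

set_option autoImplicit false
open Cfsg

namespace Cfsg.Agent.S0189

open Cfsg.Agent.Char

/-- If a complex character of a finite group vanishes at every non-identity element of a Sylow p-subgroup P, then |P| divides its degree. -/
theorem result {G : Type*} [Group G] [Finite G] (p : ℕ) [Fact p.Prime] (P : Sylow p G) (χ : G → ℂ) (hχ : Cfsg.IsCharacter G χ) (hvan : ∀ g : G, g ∈ P → g ≠ 1 → χ g = 0) : ∃ k : ℕ, χ 1 = (Nat.card P : ℂ) * k := by
  classical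
  have := Fintype.ofFinite P
  obtain ⟨k, hk⟩ := (hχ.res P).classInner_eq_nat isCharacter_one
  refine ⟨k, ?_⟩
  rw [classInner_one_right, Finset.sum_eq_single (1 : (P : Subgroup G))
    (fun b _ hb => hvan b b.2 (by simpa using hb))
    (by simp), inv_mul_eq_iff_eq_mul₀ (card_ne_zero' _)] at hk
  exact hk

end Cfsg.Agent.S0189
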