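import Cfsg.Statements.S0192
import Cfsg.Agent.Lib.Char.Misc

set_option autoImplicit false
open Cfsg

namespace Cfsg.Agent.S0192

open Cfsg.Agent.Char

/-- Brauer's generation criterion. Let G be a finite simple group, H₁ and H₂ subgroups, and χ a non-principal irreducible character. If the multiplicity of the principal character in χ restricted to H₁ ⊓ H₂ is less than the sum of the corresponding multiplicities for H₁ and H₂, then H₁ and H₂ do not generate G. -/
theorem result {G : Type*} [Group G] [Fintype G] [IsSimpleGroup G] (H₁ H₂ : Subgroup G) [Fintype H₁] [Fintype H₂] [Fintype ↥(H₁ ⊓ H₂)] (χ : G → ℂ) (hχ : Cfsg.IsIrrCharacter G χ) (hχ1 : χ ≠ fun _ => 1) (hlt : (Cfsg.classInner (fun x : ↥(H₁ ⊓ H₂) => χ x) (fun _ => 1)).re < (Cfsg.classInner (fun x : H₁ => χ x) (fun _ => 1)).re + (Cfsg.classInner (fun x : H₂ => χ x) (fun _ => 1)).re) : H₁ ⊔ H₂ ≠ ⊤ := by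
  intro htop
  obtain ⟨n, ρ, hρ, rfl⟩ := hχ
  have e : ∀ (H : Subgroup G) [Fintype H], Cfsg.classInner (fun x : H => ρ.character x)
      (fun _ => 1) = Module.finrank ℂ (Representation.invariants (ρ.comp H.subtype)) :=
    fun H _ => classInner_rep_one (ρ.comp H.subtype)
  rw [e, e, e] at hlt
  simp only [Complex.natCast_re, ← Nat.cast_add, Nat.cast_lt] at hlt
  rw [← Submodule.finrank_sup_add_finrank_inf_eq] at hlt
  have h1 := Submodule.finrank_mono (show Representation.invariants (ρ.comp H₁.subtype) ⊔
      Representation.invariants (ρ.comp H₂.subtype) ≤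
      Representation.invariants (ρ.comp (H₁ ⊓ H₂).subtype) from
    sup_le (fun v hv g => hv ⟨g, g.2.1⟩) (fun v hv g => hv ⟨g, g.2.2⟩))
  have h2 := Submodule.finrank_mono (show Representation.invariants (ρ.comp H₁.subtype) ⊓
      Representation.invariants (ρ.comp H₂.subtype) ≤ ρ.invariants from fun v hv g => by
    have : g ∈ H₁ ⊔ H₂ := htop ▸ Subgroup.mem_top g
    rw [Subgroup.sup_eq_closure] at this
    induction this using Subgroup.closure_induction with
    | mem x hx => exact hx.elim (fun h => hv.1 ⟨x, h⟩) (fun h => hv.2 ⟨x, h⟩)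
    | one => simp
    | mul x y _ _ h1 h2 => rw [map_mul, Module.End.mul_apply, h2, h1]
    | inv x _ h => conv_lhs => rw [← h]
                   rw [← Module.End.mul_apply, ← map_mul, inv_mul_cancel, map_one]; rfl)
  have h3 := (isIrrCharacter_rep ρ).classInner_of_ne isIrrCharacter_one hχ1
  rw [classInner_rep_one, Nat.cast_eq_zero] at h3
  omega

end Cfsg.Agent.S0192
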