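import Cfsg.Statements.S0201
import Cfsg.Agent.Lib.Transfer.ZStar

set_option autoImplicit false
open Cfsg

namespace Cfsg.Agent.S0201

set_option linter.unusedSectionVars false
set_option linter.unusedVariables false
set_option linter.style.haveILetI false
set_option linter.unusedSimpArgs false

open Subgroup Cfsg.Agent.Transfer

/-- Brauer–Suzuki Theorem: if a Sylow 2-subgroup of a finite group is generalized quaternion (of order at least 8) and the group has no nontrivial normal subgroup of odd order, then its centre has order 2. -/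
theorem result {G : Type*} [Group G] [Finite G] (S : Sylow 2 G) (n : ℕ) (e : (S : Subgroup G) ≃* QuaternionGroup (2 ^ (n + 1))) (hO : ∀ N : Subgroup G, N.Normal → Odd (Nat.card N) → N = ⊥) : Nat.card (Subgroup.center G) = 2 := by
  obtain ⟨a, b, h, hq⟩ := invData_of_quaternion (isSyl_top S) (by omega) e
  have hO' := oddCore_eq_bot_iff.2 hO
  have h1 := zstar_center (isolated_of_uniq (h.uniq hq) h.ord_t) hO'
  rw [← h.ord_t, ← Nat.card_zpowers]
  congr 2
  refine le_antisymm (le_of_forall_primePow_mem fun q hq1 _ x hx ⟨k, hk⟩ => ?_) (zpowers_le.2 h1)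
  haveI : (zpowers x).Normal := Char.normal_of_le_center (zpowers_le.2 hx)
  by_cases h2 : q = 2
  · subst h2
    have h3 : x ∈ (S : Subgroup G) := (isSyl_top S).le_of_normal (isPGroup_zpowers hk) le_top
      (by rw [normalizer_eq_top]) (mem_zpowers x)
    have h4 := h.central h3 fun s _ => mem_center_iff.1 hx s
    by_cases h5 : x = 1
    · exact h5 ▸ one_mem _
    · exact h.invol_eq hq h3 (orderOf_eq_two h4 h5) ▸ mem_zpowers _
  · have := hO (zpowers x) inferInstance (by
      rw [Nat.card_zpowers]
      exact Odd.of_dvd_nat (hq1.odd_of_ne_two h2).pow (orderOf_dvd_of_pow_eq_one hk))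
    rw [zpowers_eq_bot.1 this]; exact one_mem _

end Cfsg.Agent.S0201
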