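import Cfsg.Statements.S0208
import Cfsg.Agent.Lib.Transfer.Cyc2

set_option autoImplicit false
open Cfsg

namespace Cfsg.Agent.S0208

set_option linter.unusedSectionVars false
set_option linter.unusedVariables false
set_option linter.style.haveILetI false
set_option linter.unusedSimpArgs false

open Subgroup Cfsg.Agent.Transfer

/-- If x, y are involutions and xy has odd order, then some element of the subgroup generated by x and y conjugates x to y. -/
theorem result {G : Type*} [Group G] [Finite G] (x y : G) (hx : orderOf x = 2) (hy : orderOf y = 2) (hodd : Odd (orderOf (x * y))) : ∃ d ∈ Subgroup.closure ({x, y} : Set G), d * x * d⁻¹ = y := by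
  obtain ⟨c, hc, h⟩ := exists_conj_of_odd' (mul_self_of_orderOf hx) (mul_self_of_orderOf hy) hodd
  refine ⟨c, ?_, h⟩
  exact zpowers_le.2 (mul_mem (subset_closure (by simp)) (subset_closure (by simp))) hc

end Cfsg.Agent.S0208
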