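import Cfsg.Statements.S0210
import Cfsg.Agent.Lib.Transfer.Cyc2

set_option autoImplicit false
open Cfsg

namespace Cfsg.Agent.S0210

set_option linter.unusedSectionVars false
set_option linter.unusedVariables false
set_option linter.style.haveILetI false
set_option linter.unusedSimpArgs false

open Subgroup Cfsg.Agent.Transfer

/-- If x, y are involutions whose product has even order, no element of the subgroup generated by x and y conjugates x to y. -/
theorem result {G : Type*} [Group G] [Finite G] (x y : G) (hx : orderOf x = 2) (hy : orderOf y = 2) (heven : Even (orderOf (x * y))) (d : G) (hd : d ∈ Subgroup.closure ({x, y} : Set G)) : d * x * d⁻¹ ≠ y := by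
  have hx2 := mul_self_of_orderOf hx
  have hy2 := mul_self_of_orderOf hy
  have key : ∀ i : ℤ, (x * y) ^ i * x * ((x * y) ^ i)⁻¹ ≠ y := by
    intro i h
    rw [conj_eq_of_inverts (conj_zpow_of_inverts (inverts_mul_left hx2 hy2) i)] at h
    have h2 : (x * y) ^ (2 * i + 1) = 1 := by
      rw [zpow_add, zpow_one, two_mul, zpow_add, ← mul_assoc, h, hy2]
    rw [← orderOf_dvd_iff_zpow_eq_one] at h2
    obtain ⟨m, hm⟩ := heven
    rw [hm] at h2
    obtain ⟨c, hc⟩ := h2
    have : (2 : ℤ) ∣ 2 * i + 1 := ⟨m * c, by rw [hc]; push_cast; ring⟩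
    omega
  obtain ⟨i, rfl | rfl⟩ := (mem_closure_invol_iff hx2 hy2).1 hd
  · exact key i
  · intro h
    apply key i
    refine Eq.trans ?_ h
    group

end Cfsg.Agent.S0210
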