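import Cfsg.Statements.S0211
import Cfsg.Agent.Lib.Transfer.Cyc2

set_option autoImplicit false
open Cfsg

namespace Cfsg.Agent.S0211

set_option linter.unusedSectionVars false
set_option linter.unusedVariables false
set_option linter.style.haveILetI false
set_option linter.unusedSimpArgs false

open Subgroup Cfsg.Agent.Transfer

/-- Let x, y be involutions with xy of even order n and z = (xy)^(n/2). Then xz is conjugate to x by an element of the subgroup generated by x, y if and only if 4 divides n. -/
theorem result {G : Type*} [Group G] [Finite G] (x y : G) (hx : orderOf x = 2) (hy : orderOf y = 2) (heven : Even (orderOf (x * y))) : (∃ d ∈ Subgroup.closure ({x, y} : Set G), d * x * d⁻¹ = x * (x * y) ^ (orderOf (x * y) / 2)) ↔ 4 ∣ orderOf (x * y) := by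
  have hx2 := mul_self_of_orderOf hx
  have hy2 := mul_self_of_orderOf hy
  have hz := commute_of_inverts_of_sq (conj_pow_of_inverts (inverts_mul_left hx2 hy2) _)
      (mul_self_of_orderOf (orderOf_pow_half heven))
  obtain ⟨m, hm⟩ := heven
  have hm2 : orderOf (x * y) / 2 = m := by omega
  rw [hm2] at hz ⊢
  rw [← hz.eq]
  constructor
  · have key : ∀ i : ℤ, (x * y) ^ i * x * ((x * y) ^ i)⁻¹ = (x * y) ^ m * x → 4 ∣ orderOf (x * y) := by
      intro i h
      rw [conj_eq_of_inverts (conj_zpow_of_inverts (inverts_mul_left hx2 hy2) i),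
        mul_left_inj, ← zpow_add, ← zpow_natCast, zpow_eq_zpow_iff_modEq, hm] at h
      obtain ⟨c, hc⟩ := h.dvd
      have : (2 : ℤ) ∣ m := ⟨m * c + i, by push_cast at hc; linear_combination hc⟩
      omega
    rintro ⟨d, hd, h⟩
    obtain ⟨i, rfl | rfl⟩ := (mem_closure_invol_iff hx2 hy2).1 hd
    · exact key i h
    · apply key i
      refine Eq.trans ?_ h
      group
  · rintro ⟨k, hk⟩
    refine ⟨(x * y) ^ k, pow_mem (mul_mem (subset_closure (by simp)) (subset_closure (by simp))) _, ?_⟩
    rw [conj_eq_of_inverts (conj_pow_of_inverts (inverts_mul_left hx2 hy2) k), ← pow_add]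
    congr 2
    omega

end Cfsg.Agent.S0211
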