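import Cfsg.Statements.S0212
import Cfsg.Agent.Lib.Transfer.Count

set_option autoImplicit false
open Cfsg

namespace Cfsg.Agent.S0212

set_option linter.unusedSectionVars false
set_option linter.unusedVariables false
set_option linter.style.haveILetI false
set_option linter.unusedSimpArgs false

open Subgroup Cfsg.Agent.Transfer

/-- The Brauer–Fowler bound: if G is a finite simple group and t an involution of G whose centralizer has order n, then |G| ≤ (2n^2)!. -/
theorem result {G : Type*} [Group G] [Finite G] [IsSimpleGroup G] (t : G) (ht : orderOf t = 2) : Nat.card G ≤ Nat.factorial (2 * (Nat.card (Subgroup.centralizer ({t} : Set G))) ^ 2) := by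
  set n := Nat.card (centralizer ({t} : Set G)) with hn
  have hn0 : 0 < n := Nat.card_pos
  rcases IsSimpleGroup.eq_bot_or_eq_top_of_normal (center G) inferInstance with hZ | hZ
  · obtain ⟨H, hH, h⟩ := brauer_fowler_index (G := G) fun z hz _ => by rwa [hZ, mem_bot] at hz
    refine (Nat.le_of_dvd (Nat.factorial_pos _)
      (card_dvd_factorial_of_normalCore (normalCore_eq_bot_of_simple hH))).trans
      (Nat.factorial_le ?_)
    rcases h with h | h
    · rw [h]; nlinarith
    · have h1 := card_le_card_invol_mul ht
      rw [← hn] at h1
      set m := Nat.card {t : G // orderOf t = 2}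
      have h2 : Nat.card G * (Nat.card G + m) ≤ (m * n) * (m * n + m) := by gcongr
      have h3 : 2 * H.index * m ^ 2 < (n * (n + 1)) * m ^ 2 := by nlinarith
      have h4 := Nat.lt_of_mul_lt_mul_right h3
      nlinarith
  · have : centralizer ({t} : Set G) = ⊤ := by
      rw [eq_top_iff]
      intro g _
      exact mem_centralizer_singleton_iff.2 (mem_center_iff.1 (hZ ▸ mem_top t) g)
    have h1 : n = Nat.card G := by rw [hn, this, card_top]
    rw [← h1]
    exact le_trans (by nlinarith) (Nat.self_le_factorial _)

end Cfsg.Agent.S0212
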