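import Cfsg.Statements.S0213
import Cfsg.Agent.Lib.Transfer.Count

set_option autoImplicit false
open Cfsg

namespace Cfsg.Agent.S0213

set_option linter.unusedSectionVars false
set_option linter.unusedVariables false
set_option linter.style.haveILetI false
set_option linter.unusedSimpArgs false

open Subgroup Cfsg.Agent.Transfer

/-- Thompson Order Formula, two-class case: if every involution of the finite group G is conjugate to exactly one of the non-conjugate involutions x₁, x₂, and nᵢ is the number of pairs (u, v) with u conjugate to x₁, v conjugate to x₂ and xᵢ in the cyclic group generated by uv, then |G| = |C(x₂)| n₁ + |C(x₁)| n₂. -/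
theorem result {G : Type*} [Group G] [Finite G] (x₁ x₂ : G) (h₁ : orderOf x₁ = 2) (h₂ : orderOf x₂ = 2) (hnc : ¬ IsConj x₁ x₂) (hall : ∀ t : G, orderOf t = 2 → IsConj x₁ t ∨ IsConj x₂ t) : Nat.card G = Nat.card (Subgroup.centralizer ({x₂} : Set G)) * Nat.card {p : G × G // IsConj x₁ p.1 ∧ IsConj x₂ p.2 ∧ x₁ ∈ Subgroup.zpowers (p.1 * p.2)} + Nat.card (Subgroup.centralizer ({x₁} : Set G)) * Nat.card {p : G × G // IsConj x₁ p.1 ∧ IsConj x₂ p.2 ∧ x₂ ∈ Subgroup.zpowers (p.1 * p.2)} := by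
  have key : ∀ x : G, (orderOf x = 2 → Nat.card {p : G × G // (IsConj x₁ p.1 ∧ IsConj x₂ p.2) ∧
      ∃ z, IsConj x z ∧ z ∈ zpowers (p.1 * p.2)} * 1 = Nat.card {z // IsConj x z} *
      Nat.card {p : G × G // IsConj x₁ p.1 ∧ IsConj x₂ p.2 ∧ x ∈ zpowers (p.1 * p.2)}) := by
    intro x
    have h2 : ∀ z, IsConj x z → Nat.card {p : G × G // ((IsConj x₁ p.1 ∧ IsConj x₂ p.2) ∧
      ∃ z, IsConj x z ∧ z ∈ zpowers (p.1 * p.2)) ∧ z ∈ zpowers (p.1 * p.2)} =
      Nat.card {p : G × G // IsConj x₁ p.1 ∧ IsConj x₂ p.2 ∧ x ∈ zpowers (p.1 * p.2)} := by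
      intro z hz
      obtain ⟨g, rfl⟩ := isConj_iff.1 hz
      refine (cnt_eq_of_bij (fun p => (g * p.1 * g⁻¹, g * p.2 * g⁻¹)) ?_ ?_ ?_).symm
      · rintro ⟨u, v⟩ ⟨hu, hv, h⟩
        have : g * x * g⁻¹ ∈ zpowers (g * u * g⁻¹ * (g * v * g⁻¹)) := by
          rw [conj_mul, ← cj_zpowers]; exact conj_mem_cj h
        exact ⟨⟨⟨hu.trans (isConj_conj g u), hv.trans (isConj_conj g v)⟩, _, hz, this⟩, this⟩
      · rintro ⟨u, v⟩ ⟨u', v'⟩ - - h
        have h1 : g * u * g⁻¹ = g * u' * g⁻¹ := congrArg Prod.fst h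
        have h2 : g * v * g⁻¹ = g * v' * g⁻¹ := congrArg Prod.snd h
        rw [mul_left_inj, mul_right_inj] at h1 h2
        rw [h1, h2]
      · rintro ⟨u, v⟩ ⟨⟨⟨hu, hv⟩, -⟩, h⟩
        refine ⟨(g⁻¹ * u * g⁻¹⁻¹, g⁻¹ * v * g⁻¹⁻¹), ⟨hu.trans (isConj_conj _ u),
          hv.trans (isConj_conj _ v), ?_⟩, Prod.ext (by simp only; group) (by simp only; group)⟩
        simp only
        rw [conj_mul, ← cj_zpowers, mem_cj, inv_inv]
        exact h
    intro hx
    refine cnt_mul_eq (p := fun p : G × G => (IsConj x₁ p.1 ∧ IsConj x₂ p.2) ∧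
      ∃ z, IsConj x z ∧ z ∈ zpowers (p.1 * p.2)) (q := fun z => IsConj x z)
      (fun p z => z ∈ zpowers (p.1 * p.2)) ?_ h2
    · rintro p ⟨-, z, hz, hz'⟩
      rw [← cnt_eq_one z]
      refine cnt_congr fun y => ⟨fun hy => ?_, fun h => by rw [h]; exact ⟨hz, hz'⟩⟩
      exact invol_eq_of_mem_zpowers hy.2 hz' (by rw [IsConj.orderOf_eq' hy.1, hx])
        (by rw [IsConj.orderOf_eq' hz, hx])
  have e1 := key x₁ h₁
  have e2 := key x₂ h₂
  have e3 : Nat.card {z // IsConj x₁ z} * Nat.card {z // IsConj x₂ z} =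
      Nat.card {p : G × G // (IsConj x₁ p.1 ∧ IsConj x₂ p.2) ∧
        ∃ z, IsConj x₁ z ∧ z ∈ zpowers (p.1 * p.2)} +
      Nat.card {p : G × G // (IsConj x₁ p.1 ∧ IsConj x₂ p.2) ∧
        ∃ z, IsConj x₂ z ∧ z ∈ zpowers (p.1 * p.2)} := by
    rw [← cnt_prod, ← cnt_or]
    · refine cnt_congr fun p => ⟨fun ⟨hu, hv⟩ => ?_, fun h => h.elim And.left And.left⟩
      have hu2 : orderOf p.1 = 2 := by rw [IsConj.orderOf_eq' hu, h₁]
      have hv2 : orderOf p.2 = 2 := by rw [IsConj.orderOf_eq' hv, h₂]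
      have he : Even (orderOf (p.1 * p.2)) := by
        rw [← Nat.not_odd_iff_even]
        intro ho
        obtain ⟨c, -, hc⟩ := exists_conj_of_odd' (mul_self_of_orderOf hu2) (mul_self_of_orderOf hv2) ho
        exact hnc ((hu.trans (isConj_iff.2 ⟨c, hc⟩)).trans hv.symm)
      obtain ⟨z, hz, hz2⟩ := exists_invol_mem_zpowers he
      rcases hall z hz2 with h | h
      · exact Or.inl ⟨⟨hu, hv⟩, z, h, hz⟩
      · exact Or.inr ⟨⟨hu, hv⟩, z, h, hz⟩
    · rintro p ⟨-, z, hz, hz'⟩ ⟨-, y, hy, hy'⟩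
      have := invol_eq_of_mem_zpowers hz' hy' (by rw [IsConj.orderOf_eq' hz, h₁])
        (by rw [IsConj.orderOf_eq' hy, h₂])
      subst this
      exact hnc (hz.trans hy.symm)
  have c1 := card_isConj_mul x₁
  have c2 := card_isConj_mul x₂
  rw [mul_one] at e1 e2
  rw [e1, e2] at e3
  apply Nat.eq_of_mul_eq_mul_left (Nat.card_pos (α := G))
  generalize Nat.card {p : G × G // IsConj x₁ p.1 ∧ IsConj x₂ p.2 ∧ x₁ ∈ zpowers (p.1 * p.2)} = n1 at *
  generalize Nat.card {p : G × G // IsConj x₁ p.1 ∧ IsConj x₂ p.2 ∧ x₂ ∈ zpowers (p.1 * p.2)} = n2 at *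
  generalize Nat.card {z // IsConj x₁ z} = k1 at *
  generalize Nat.card {z // IsConj x₂ z} = k2 at *
  generalize Nat.card (centralizer ({x₁} : Set G)) = a1 at *
  generalize Nat.card (centralizer ({x₂} : Set G)) = a2 at *
  calc Nat.card G * Nat.card G = (k1 * a1) * (k2 * a2) := by rw [c1, c2]
    _ = (k1 * k2) * (a1 * a2) := by ring
    _ = (k1 * a1) * (a2 * n1) + (k2 * a2) * (a1 * n2) := by rw [e3]; ring
    _ = _ := by rw [c1, c2]; ring

end Cfsg.Agent.S0213
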