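import Cfsg.Statements.S0214
import Cfsg.Agent.Lib.Transfer.Invol

set_option autoImplicit false
open Cfsg

namespace Cfsg.Agent.S0214

set_option linter.unusedSectionVars false
set_option linter.unusedVariables false
set_option linter.style.haveILetI false
set_option linter.unusedSimpArgs false

open Subgroup Cfsg.Agent.Transfer

/-- Let H be a proper subgroup of the finite group G and P a nontrivial Sylow 2-subgroup of H. Then H is strongly embedded in G if and only if N_G(X) ≤ H for every nontrivial subgroup X of P. -/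
theorem result {G : Type*} [Group G] [Finite G] (H : Subgroup G) (hH : H ≠ ⊤) (P : Sylow 2 ↥H) (hP : (P : Subgroup ↥H) ≠ ⊥) : Cfsg.IsStronglyEmbedded H ↔ (∀ X : Subgroup ↥H, X ≤ (P : Subgroup ↥H) → X ≠ ⊥ → Subgroup.normalizer ((X.map H.subtype : Subgroup G) : Set G) ≤ H) := by
  have hS := isSyl_map_subtype P
  constructor
  · intro h X hX hX1
    refine se_normalizer_le h (map_subtype_le _) ?_
    rw [card_subtype, even_iff_two_dvd]
    exact (P.2.to_le hX).card_eq_or_dvd.resolve_left (by rwa [card_eq_one])
  · intro h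
    have h' : ∀ X : Subgroup G, X ≤ (P : Subgroup H).map H.subtype → X ≠ ⊥ →
        normalizer (X : Set G) ≤ H := by
      intro X hX hX1
      have hXH : X ≤ H := hX.trans (map_subtype_le _)
      have := h (X.subgroupOf H) (fun x hx => by
        obtain ⟨y, hy, he⟩ := hX hx
        rwa [← Subtype.ext he]) (by
        rw [Ne, subgroupOf_eq_bot, disjoint_iff, inf_eq_left.2 hXH]; exact hX1)
      rwa [map_subgroupOf_eq_of_le hXH] at this
    have hP1 : (P : Subgroup H).map H.subtype ≠ ⊥ := by
      rwa [Ne, map_eq_bot_iff_of_injective _ H.subtype_injective]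
    have h'' : ∀ X : Subgroup G, IsPGroup 2 X → X ≤ H → X ≠ ⊥ → normalizer (X : Set G) ≤ H := by
      intro X hX hXH hX1 g hg
      obtain ⟨k, hk, hle⟩ := hS.exists_cj_le hX hXH
      have := h' _ hle (by rwa [Ne, cj_eq_bot_iff]) (by
        rw [← cj_normalizer]; exact conj_mem_cj hg)
      simpa [mul_assoc] using mul_mem (mul_mem (inv_mem hk) this) hk
    refine ⟨hH, ?_, fun g hg => ?_⟩
    · rw [even_iff_two_dvd]
      by_contra hn
      exact hP1 (hS.eq_bot_iff.2 hn)
    · obtain ⟨R, hR⟩ := exists_isSyl 2 (H ⊓ cj g H)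
      rw [← Nat.not_even_iff_odd, even_iff_two_dvd, ← hR.eq_bot_iff]
      by_contra hR1
      have hN : normalizer (R : Set G) ≤ H ⊓ cj g H := by
        refine le_inf (h'' R hR.pgroup (hR.le.trans inf_le_left) hR1) ?_
        rw [le_cj_iff_cj_inv_le, cj_normalizer]
        exact h'' _ (IsPGroup.cj hR.pgroup _) (le_cj_iff_cj_inv_le.1 (hR.le.trans inf_le_right))
          (by rwa [Ne, cj_eq_bot_iff])
      have hT := hR.top_of_normalizer_le hN
      have h1 : IsSyl 2 R H := hT.mono (hR.le.trans inf_le_left) le_top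
      have h2 : IsSyl 2 (cj g⁻¹ R) H := by
        have := (hT.mono (hR.le.trans inf_le_right) le_top).cj g⁻¹
        rwa [cj_inv_cj] at this
      obtain ⟨k, hk, he⟩ := h1.exists_cj_eq h2
      rw [cj_cj, ← mem_normalizer_iff_cj] at he
      have := (mem_inf.1 (hN he)).1
      exact hg (by simpa using mul_mem (inv_mem this) hk)

end Cfsg.Agent.S0214
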