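import Cfsg.Statements.S0218
import Cfsg.Agent.Lib.Transfer.Cyc2

set_option autoImplicit false
open Cfsg

namespace Cfsg.Agent.S0218

set_option linter.unusedSectionVars false
set_option linter.unusedVariables false
set_option linter.style.haveILetI false
set_option linter.unusedSimpArgs false

open Subgroup Cfsg.Agent.Transfer

/-- The generalized quaternion group of order 2^(n+3) contains exactly one element of order 2. -/
theorem result (n : ℕ) : Nat.card {x : QuaternionGroup (2 ^ (n + 1)) // orderOf x = 2} = 1 := by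
  rw [Nat.card_eq_one_iff_exists]
  have ho : orderOf (QuaternionGroup.a 1 : QuaternionGroup (2 ^ (n + 1))) = 2 * 2 ^ (n + 1) :=
    QuaternionGroup.orderOf_a_one
  have he : Even (orderOf (QuaternionGroup.a 1 : QuaternionGroup (2 ^ (n + 1)))) := by
    rw [ho]; exact even_two_mul _
  obtain ⟨t, ht, ht2⟩ := exists_invol_mem_zpowers he
  refine ⟨⟨t, ht2⟩, ?_⟩
  rintro ⟨i | i, hy⟩
  · refine Subtype.ext (invol_eq_of_mem_zpowers ?_ ht hy ht2)
    change QuaternionGroup.a i ∈ _
    rw [← ZMod.natCast_zmod_val i, ← QuaternionGroup.a_one_pow]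
    exact pow_mem (mem_zpowers _) _
  · rw [QuaternionGroup.orderOf_xa] at hy
    omega

end Cfsg.Agent.S0218
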