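import Cfsg.Statements.S0220
import Cfsg.Agent.Lib.Transfer.Count

set_option autoImplicit false
open Cfsg

namespace Cfsg.Agent.S0220

set_option linter.unusedSectionVars false
set_option linter.unusedVariables false
set_option linter.style.haveILetI false
set_option linter.unusedSimpArgs false

open Subgroup Cfsg.Agent.Transfer

/-- If x is an involution of a finite group G and a Sylow 2-subgroup of the centralizer of x is cyclic, then G has a subgroup of index 2; in particular G is not simple unless it has order 2. -/
theorem result {G : Type*} [Group G] [Finite G] (x : G) (hx : orderOf x = 2) (S : Sylow 2 ↥(Subgroup.centralizer ({x} : Set G))) (hS : IsCyclic (S : Subgroup ↥(Subgroup.centralizer ({x} : Set G)))) : ∃ H : Subgroup G, H.index = 2 := by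
  have hS1 := isSyl_map_subtype S
  set R := (S : Subgroup (centralizer ({x} : Set G))).map (centralizer ({x} : Set G)).subtype
  have hR : IsCyclic R := isCyclic_of_surjective _ (equivMapOfInjective _ _ (subtype_injective _)).surjective
  obtain ⟨a, ha⟩ := (Subgroup.isCyclic_iff_exists_zpowers_eq_top R).1 hR
  have hx1 : x ∈ R := hS1.le_of_normal (isPGroup_two_zpowers (mul_self_of_orderOf hx))
    (zpowers_le.2 (mem_centralizer_singleton'.2 (Commute.refl x)))
    (fun g hg => centralizer_le_normalizer _ (mem_centralizer_zpowers.2
      (mem_centralizer_singleton'.1 hg))) (mem_zpowers x)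
  have hT := hS1.top_of_normalizer_le fun g hg => mem_centralizer_singleton'.2 (commute_iff_conj.2
    (invol_eq_of_mem_zpowers (a := a) (ha ▸ conj_mem_of_mem_normalizer hg hx1) (ha ▸ hx1)
      (by rw [orderOf_conj, hx]) hx))
  obtain ⟨T, hT⟩ := hT.exists_sylow
  refine exists_index_two_of_hasNPC (even_iff_two_dvd.2 (hx ▸ orderOf_dvd_natCard x))
    (hasNPC_two_of_isCyclic T (by rw [← hT] at hR; exact hR))

end Cfsg.Agent.S0220
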