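import Cfsg.Statements.S0221
import Cfsg.Agent.Lib.Transfer.Tet

set_option autoImplicit false
open Cfsg

namespace Cfsg.Agent.S0221

set_option linter.unusedSectionVars false
set_option linter.unusedVariables false
set_option linter.style.haveILetI false
set_option linter.unusedSimpArgs false

open Subgroup Transfer MS

/-- Let G be a finite group with no subgroup of index 2 whose 2-rank is at least 3 (it contains an elementary abelian subgroup of order 8). Then the centralizer of every involution of G also contains an elementary abelian subgroup of order 8. -/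
theorem result {G : Type*} [Group G] [Finite G] (hno : ∀ H : Subgroup G, H.index ≠ 2) (hrank : ∃ E : Subgroup G, Nat.card E = 8 ∧ ∀ e ∈ E, e ^ 2 = 1) (x : G) (hx : orderOf x = 2) : ∃ E : Subgroup G, E ≤ Subgroup.centralizer ({x} : Set G) ∧ Nat.card E = 8 ∧ ∀ e ∈ E, e ^ 2 = 1 := by
  obtain ⟨E, hE, hE2⟩ := hrank
  have h1 : IsElementaryAbelian 2 E := elem_two_of_mul_self fun e he => (sq e).symm.trans (hE2 e he)
  obtain ⟨S, hS⟩ := (IsPGroup.of_card (p := 2) (n := 3) hE).exists_le_sylow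
  obtain ⟨U, h2, h3, h4, h5, h6⟩ : ∃ U ≤ (S : Subgroup G), #U = 2 ^ 2 ∧ IsMulCommutative U ∧ (∀ x ∈ U, x ^ 2 = 1) ∧
      (S : Subgroup G) ≤ NN U := by
    by_contra e
    have h2 : ∀ A ≤ E, IsCyclic A → #A ≤ 2 := fun A hA hc => by
      rw [← IsCyclic.exponent_eq_card]
      exact Nat.le_of_dvd two_pos (Monoid.exponent_dvd_of_forall_pow_eq_one fun c => Subtype.ext (hE2 c (hA c.2)))
    obtain ⟨a, b, m, a1, a2, a3, a4, -⟩ := Solv.two_group_normal_form S.isPGroup' (fun A hA h2 h3 => by_contra fun h4 => by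
      obtain ⟨U, h5, h6⟩ := Solv.exists_normal_elementary_sq_of_abelian (nil_of_pg S.isPGroup') h3
        (S.isPGroup'.to_le hA) hA h2 h4
      exact e ⟨U, h5.trans hA, h6⟩) fun e => by have := h2 E le_rfl (cyc_mono e hS); omega
    have a5 : Ix2 S (zpowers a) := ix2_of_card (a3 ▸ le_sup_left) (by rw [a4, Nat.card_zpowers, a1, ← pow_succ'])
    obtain ⟨s, hs, hs'⟩ := SetLike.not_le_iff_exists.1 fun e : E ≤ zpowers a => by
      have := h2 E le_rfl (cyc_mono (cyc_zpowers a) e); omega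
    have := (a5.inf hS hs hs').card
    have := h2 _ inf_le_left (cyc_mono (cyc_zpowers a) (inf_le_right (a := E)))
    omega
  have hU : IsElementaryAbelian 2 U := ⟨h4, h5⟩
  have key : ∀ y, y * y = 1 → y ∈ CC U → y ∉ U → ∃ A : Subgroup G, U ≤ A ∧ y ∈ A ∧ IsElementaryAbelian 2 A ∧ #A = 8 :=
    fun y a b c => ⟨_, le_sup_left, mem_sup_right (mem_zpowers y), elem_sup_zpowers hU b ((sq y).trans a),
      by rw [card_sup_zpowers_of_commute b a c, h3]; rfl⟩
  have h7 : (CC U).relIndex S ≤ 2 := BG.relIndex_Ct_le S.isPGroup' (S.isPGroup'.to_le h2) h6 h3.le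
  obtain ⟨g, hg⟩ : ∃ g, g * x * g⁻¹ ∈ CC U := by
    obtain ⟨y, hy, a1, a2⟩ := exists_conj_invol_mem_sylow S hx
    obtain ⟨c, rfl⟩ := isConj_iff.1 a2.symm
    by_cases e : (S : Subgroup G) ≤ CC U
    · exact ⟨c, e hy⟩
    have a3 : ((S : Subgroup G) ⊓ CC U).relIndex S = 2 := by
      have := mt relIndex_eq_one.1 e
      have : (CC U).relIndex S ≠ 0 := index_ne_zero_of_finite
      rw [inf_relIndex_left]; omega
    obtain ⟨M, -, e, -⟩ | ⟨g, hg⟩ := thompson_transfer (odd_index_sylow_two S) a3 ((sq _).trans (mul_self_of_orderOf a1)) hy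
    exacts [absurd e (hno M), ⟨g * c, by simpa only [mul_assoc, mul_inv_rev] using (mem_inf.1 hg).2⟩]
  obtain ⟨A, a1, a2, a3⟩ : ∃ A : Subgroup G, g * x * g⁻¹ ∈ A ∧ IsElementaryAbelian 2 A ∧ #A = 8 := by
    by_cases e : g * x * g⁻¹ ∈ U
    · by_cases e1 : E ⊓ CC U ≤ U
      · have b1 := card_mul_relIndex (H := E ⊓ CC U) (K := E) inf_le_left
        have b2 : (CC U).relIndex E ≤ 2 := BG.relIndex_Ct_le (S.isPGroup'.to_le hS) (S.isPGroup'.to_le h2) (hS.trans h6) h3.le
        rw [inf_relIndex_left, hE] at b1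
        exact ⟨E, ((eq_of_card_le e1 (by rw [h3]; nlinarith)).ge e).1, h1, hE⟩
      · obtain ⟨y, hy, hy'⟩ := SetLike.not_le_iff_exists.1 e1
        obtain ⟨A, b1, -, b2⟩ := key y (elem_mul_self h1 hy.1) hy.2 hy'
        exact ⟨A, b1 e, b2⟩
    · obtain ⟨A, -, b⟩ := key _ (conj_mul_self (mul_self_of_orderOf hx) g) hg e
      exact ⟨A, b⟩
  refine ⟨cj g⁻¹ A, ?_, by rw [card_cj, a3], (elem_map a2 _).2⟩
  rw [cj_le_iff_le_cj_inv, inv_inv, cj_centralizer_singleton]
  exact (ab_cc a2.1).trans (cc_le_C1 a1)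

end Cfsg.Agent.S0221
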