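import Cfsg.Statements.S0223
import Cfsg.Agent.Lib.Transfer.Invol

set_option autoImplicit false
open Cfsg

namespace Cfsg.Agent.S0223

set_option linter.unusedSectionVars false
set_option linter.unusedVariables false
set_option linter.style.haveILetI false
set_option linter.unusedSimpArgs false

open Subgroup Cfsg.Agent.Transfer

/-- Let H be a proper subgroup of even order of the finite group G. Then H is strongly embedded if and only if (i) C_G(t) ≤ H for every involution t of H and (ii) H controls fusion of its involutions: involutions of H conjugate in G are conjugate in H. -/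
theorem result {G : Type*} [Group G] [Finite G] (H : Subgroup G) (hH : H ≠ ⊤) (heven : Even (Nat.card H)) : Cfsg.IsStronglyEmbedded H ↔ ((∀ t ∈ H, orderOf t = 2 → Subgroup.centralizer ({t} : Set G) ≤ H) ∧ (∀ t ∈ H, ∀ s ∈ H, orderOf t = 2 → orderOf s = 2 → IsConj t s → ∃ h ∈ H, h * t * h⁻¹ = s)) := by
  constructor
  · intro h
    refine ⟨fun t ht h2 g hg => se_mem_of_commute h ht h2 (mem_centralizer_singleton'.1 hg),
      fun t ht s hs h2 _ hc => ?_⟩
    obtain ⟨g, hg⟩ := isConj_iff.1 hc
    exact ⟨g, se_mem h ht h2 (hg ▸ hs), hg⟩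
  · rintro ⟨h1, h2⟩
    refine stronglyEmbedded_iff.2 ⟨hH, heven, fun t ht ht2 g hg => ?_⟩
    obtain ⟨k, hk, he⟩ := h2 t ht _ hg ht2 (by rw [orderOf_conj, ht2]) (isConj_iff.2 ⟨g, rfl⟩)
    have : k⁻¹ * g ∈ H := h1 t ht ht2 (mem_centralizer_singleton'.2 (commute_iff_conj.2 (by
      calc _ = k⁻¹ * (g * t * g⁻¹) * k := by group
        _ = t := by rw [← he]; group)))
    simpa using mul_mem hk this

end Cfsg.Agent.S0223
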