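import Cfsg.Statements.S0226
import Cfsg.Agent.Lib.Transfer.Cyc2

set_option autoImplicit false
open Cfsg

namespace Cfsg.Agent.S0226

set_option linter.unusedSectionVars false
set_option linter.unusedVariables false
set_option linter.style.haveILetI false
set_option linter.unusedSimpArgs false

open Subgroup Cfsg.Agent.Transfer

/-- A finite group of even order has an odd number of involutions. -/
theorem result {G : Type*} [Group G] [Finite G] (heven : Even (Nat.card G)) : Odd (Nat.card {t : G // orderOf t = 2}) := by
  classical
  haveI := Fintype.ofFinite G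
  have h1 : Nat.card G ≡ Nat.card {x : G // x⁻¹ = x} [MOD 2] := by
    have := Equiv.Perm.card_fixedPoints_modEq (f := (Equiv.inv G : G → G)) (p := 2) (n := 1) (by
      funext x; exact inv_inv x)
    rw [Nat.card_eq_fintype_card, Nat.card_eq_fintype_card]
    convert this
    exact Iff.rfl
  have h2 : Nat.card {x : G // x⁻¹ = x} = Nat.card {t : G // orderOf t = 2} + 1 := by
    rw [Nat.card_eq_fintype_card, Nat.card_eq_fintype_card, Fintype.card_subtype, Fintype.card_subtype,
      ← Finset.card_insert_of_notMem (a := 1) (by simp)]
    congr 1
    ext x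
    simp only [Finset.mem_filter, Finset.mem_univ, true_and, Finset.mem_insert, invol_iff,
      inv_eq_iff_mul_eq_one]
    by_cases h : x = 1 <;> simp [h]
  rw [h2] at h1
  rw [Nat.odd_iff]
  rw [Nat.even_iff] at heven
  unfold Nat.ModEq at h1
  omega

end Cfsg.Agent.S0226
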