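import Cfsg.Statements.S0227
import Cfsg.Agent.Lib.Transfer.AutS

set_option autoImplicit false
open Cfsg

namespace Cfsg.Agent.S0227

set_option linter.unusedSectionVars false
set_option linter.unusedVariables false
set_option linter.style.haveILetI false
set_option linter.unusedSimpArgs false

open Subgroup Transfer MS

/-- Let G be a finite group with no nontrivial normal subgroup of odd order, S a Sylow 2-subgroup, and C the group of automorphisms of G that fix every element of S. Then every Sylow 2-subgroup of C is abelian and has a normal complement in C; in particular C is solvable. -/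
theorem result {G : Type*} [Group G] [Finite G] (hO : ∀ N : Subgroup G, N.Normal → Odd (Nat.card N) → N = ⊥) (S : Sylow 2 G) (C : Subgroup (MulAut G)) (hC : ∀ φ : MulAut G, φ ∈ C ↔ ∀ s : G, s ∈ S → φ s = s) : (∀ T : Sylow 2 ↥C, (∀ a b : ↥T, a * b = b * a) ∧ ∃ N : Subgroup ↥C, N.Normal ∧ Subgroup.IsComplement' N (T : Subgroup ↥C)) ∧ Group.IsSolvable ↥C := by
  have hO' := oddCore_eq_bot_iff.2 hO
  have h1 := hasNPC_cent_syl hO' S (C := C) fun φ h s hs => (hC φ).1 h s hs
  refine ⟨fun T => ⟨fun a b => ?_, (hasNPC_iff_sylow T).1 h1⟩, sol_of_hasNPC_two h1⟩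
  have hT := isSyl_map_subtype T
  have h2 := hol_cent_syl hO' S (fun φ h s hs => (hC φ).1 h s hs) hT
    (⟨hT.le (mem_map_of_mem _ b.2), le_nn _ (mem_map_of_mem _ b.2)⟩)
  exact Subtype.ext (Subtype.ext (mem_CC.1 h2 _ (mem_map_of_mem _ a.2)))

end Cfsg.Agent.S0227
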