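import Cfsg.Statements.S0230
import Cfsg.Agent.Lib.Transfer.Count

set_option autoImplicit false
open Cfsg

namespace Cfsg.Agent.S0230

set_option linter.unusedSectionVars false
set_option linter.unusedVariables false
set_option linter.style.haveILetI false
set_option linter.unusedSimpArgs false

open Subgroup Cfsg.Agent.Transfer

/-- Let G be a finite group with two non-conjugate involutions, and let t be an involution whose centralizer has maximal order among centralizers of involutions. Then |G| < |C_G(t)|^3. -/
theorem result {G : Type*} [Group G] [Finite G] (s t : G) (hs : orderOf s = 2) (ht : orderOf t = 2) (hnc : ¬ IsConj s t) (hmax : ∀ u : G, orderOf u = 2 → Nat.card (Subgroup.centralizer ({u} : Set G)) ≤ Nat.card (Subgroup.centralizer ({t} : Set G))) : Nat.card G < Nat.card (Subgroup.centralizer ({t} : Set G)) ^ 3 := by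
  set c := Nat.card (centralizer ({t} : Set G))
  have h1 : Nat.card {y // IsConj s y} ≤
      Nat.card {z : G // orderOf z = 2 ∧ z ∈ centralizer ({t} : Set G)} * c := by
    refine cnt_le_mul (fun y z => Commute y z) (fun y hy => ?_) fun z hz => ?_
    · have hy2 : orderOf y = 2 := by rw [IsConj.orderOf_eq' hy, hs]
      have he : Even (orderOf (y * t)) := by
        rw [← Nat.not_odd_iff_even]
        intro ho
        obtain ⟨c, -, hc⟩ := exists_conj_of_odd' (mul_self_of_orderOf hy2) (mul_self_of_orderOf ht) ho
        exact hnc (hy.trans (isConj_iff.2 ⟨c, hc⟩))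
      obtain ⟨z, -, hz, h1, h2⟩ := exists_invol_of_even (mul_self_of_orderOf hy2)
        (mul_self_of_orderOf ht) he
      exact ⟨z, ⟨hz, mem_centralizer_singleton'.2 h2⟩, h1.symm⟩
    · exact le_trans (cnt_mono fun y hy => mem_centralizer_singleton'.2 hy.2) (hmax z hz.1)
  have h2 := card_invol_add_one_le (centralizer ({t} : Set G))
  have h3 := card_isConj_mul s
  have h4 := hmax s hs
  have h0 : 0 < c := Nat.card_pos
  rw [← h3]
  calc _ ≤ (Nat.card {z : G // orderOf z = 2 ∧ z ∈ centralizer ({t} : Set G)} * c) * c := by gcongr
    _ < (c * c) * c := by gcongr; exact h2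
    _ = c ^ 3 := by ring

end Cfsg.Agent.S0230
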