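import Cfsg.Statements.S0231
import Cfsg.Agent.Lib.Transfer.Invol

set_option autoImplicit false
open scoped Pointwise
open Cfsg

namespace Cfsg.Agent.S0231

set_option linter.unusedSectionVars false
set_option linter.unusedVariables false
set_option linter.style.haveILetI false
set_option linter.unusedSimpArgs false

open Subgroup Cfsg.Agent.Transfer

/-- Let T be a Sylow 2-subgroup of the finite group G which is not normal and which intersects every other Sylow 2-subgroup trivially. Then G has a single conjugacy class of involutions. -/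
theorem result {G : Type*} [Group G] [Finite G] (T : Sylow 2 G) (hnn : ¬ (T : Subgroup G).Normal) (hTI : ∀ g : G, MulAut.conj g • (T : Subgroup G) ≠ T → MulAut.conj g • (T : Subgroup G) ⊓ T = ⊥) (s t : G) (hs : orderOf s = 2) (ht : orderOf t = 2) : IsConj s t := by
  refine se_isConj (H := normalizer ((T : Subgroup G) : Set G)) (stronglyEmbedded_iff.2
    ⟨by rwa [Ne, normalizer_eq_top_iff], ?_, fun t ht h2 g hg => ?_⟩) hs ht
  · refine even_iff_two_dvd.2 ((?_ : 2 ∣ Nat.card T).trans (card_dvd_of_le le_normalizer))
    refine T.2.card_eq_or_dvd.resolve_left fun h1 => hnn ?_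
    rw [card_eq_one.1 h1]; infer_instance
  · have key : ∀ t ∈ normalizer ((T : Subgroup G) : Set G), orderOf t = 2 → t ∈ (T : Subgroup G) :=
      fun t ht h2 => (isSyl_top T).le_of_le_normalizer (isPGroup_two_zpowers (mul_self_of_orderOf h2))
        le_top (zpowers_le.2 ht) (mem_zpowers t)
    rw [mem_normalizer_iff_cj]
    by_contra hne
    have := hTI g hne
    rw [← cj_eq_smul] at this
    have h3 : g * t * g⁻¹ ∈ cj g T ⊓ T :=
      mem_inf.2 ⟨conj_mem_cj (key t ht h2), key _ hg (by rw [orderOf_conj, h2])⟩
    rw [this, mem_bot] at h3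
    exact ne_one_of_orderOf (by rw [orderOf_conj, h2]) h3

end Cfsg.Agent.S0231
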