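import Cfsg.Statements.S0232
import Cfsg.Agent.Lib.Transfer.Count

set_option autoImplicit false
open Cfsg

namespace Cfsg.Agent.S0232

set_option linter.unusedSectionVars false
set_option linter.unusedVariables false
set_option linter.style.haveILetI false
set_option linter.unusedSimpArgs false

open Subgroup Cfsg.Agent.Transfer

theorem aux (n : ℕ) : ∀ (G : Type*) [Group G] [Finite G], Nat.card G = n → Even (Nat.card G) →
    2 < Nat.card G → ∃ H : Subgroup G, H ≠ ⊤ ∧ Nat.card G < (Nat.card H) ^ 3 := by
  induction n using Nat.strong_induction_on with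
  | _ n ih =>
  intro G _ _ hn heven hgt
  by_cases h2 : ∃ H : Subgroup G, H.index = 2
  · obtain ⟨H, hH⟩ := h2
    refine ⟨H, by rintro rfl; simp at hH, ?_⟩
    have h1 := H.index_mul_card
    rw [hH] at h1
    rw [← h1] at hgt ⊢
    have : 2 ≤ Nat.card H := by omega
    calc 2 * Nat.card H < 2 * 2 * Nat.card H := by omega
      _ ≤ Nat.card H * Nat.card H * Nat.card H := by gcongr
      _ = _ := by ring
  by_cases hZ : ∀ z ∈ center G, z * z = 1 → z = 1
  · haveI : Nontrivial G := Finite.one_lt_card_iff_nontrivial.1 (by omega)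
    obtain ⟨H, hH, h⟩ := brauer_fowler_index hZ
    have h := h.resolve_left fun h => h2 ⟨H, h⟩
    obtain ⟨t, ht⟩ := exists_prime_orderOf_dvd_card' (G := G) 2 (even_iff_two_dvd.1 heven)
    have hC : centralizer ({t} : Set G) ≠ ⊤ := fun h => ne_one_of_orderOf ht (hZ t (by
      rw [mem_center_iff]
      intro g
      exact mem_centralizer_singleton'.1 (h ▸ mem_top g)) (mul_self_of_orderOf ht))
    have h1 := card_le_card_invol_mul ht
    set c := Nat.card (centralizer ({t} : Set G)) with hc
    set m := Nat.card {t : G // orderOf t = 2}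
    have h3 : Nat.card G * (Nat.card G + m) ≤ (m * c) * (m * c + m) := by gcongr
    have h4 : 2 * H.index * m ^ 2 < (c * (c + 1)) * m ^ 2 := by nlinarith
    have h5 := Nat.lt_of_mul_lt_mul_right h4
    have hc0 : 0 < c := Nat.card_pos
    have h6 : H.index < c * c := by nlinarith
    have hH0 : 0 < Nat.card H := Nat.card_pos
    rw [← H.index_mul_card]
    rcases le_total c (Nat.card H) with h7 | h7
    · refine ⟨H, hH, ?_⟩
      calc H.index * Nat.card H < c * c * Nat.card H := by gcongr
        _ ≤ Nat.card H * Nat.card H * Nat.card H := by gcongr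
        _ = _ := by ring
    · refine ⟨_, hC, ?_⟩
      calc H.index * Nat.card H < c * c * Nat.card H := by gcongr
        _ ≤ c * c * c := by gcongr
        _ = _ := by ring
  push Not at hZ
  obtain ⟨z, hz, hz2, hz1⟩ := hZ
  haveI : (zpowers z).Normal := ⟨fun n hn g => by
    rw [mem_center_iff.1 (zpowers_le.2 hz hn) g, mul_inv_cancel_right]; exact hn⟩
  have hc : Nat.card G = Nat.card (G ⧸ zpowers z) * 2 := by
    rw [card_eq_card_quotient_mul_card_subgroup (zpowers z), Nat.card_zpowers, orderOf_eq_two hz2 hz1]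
  have he : Even (Nat.card (G ⧸ zpowers z)) := by
    by_contra hodd
    obtain ⟨P⟩ : Nonempty (Sylow 2 G) := inferInstance
    refine h2 (exists_index_two_of_hasNPC heven (hasNPC_two_of_isCyclic P ?_))
    have : IsSyl 2 (zpowers z) ⊤ := ⟨le_top, isPGroup_two_zpowers hz2, by
      rw [relIndex_top_right, index_eq_card, ← even_iff_two_dvd]; exact hodd⟩
    rw [(this.eq_of_le P.2 le_top ((isSyl_top P).le_of_normal this.pgroup le_top (by
      rw [normalizer_eq_top])))]
    infer_instance
  by_cases h4 : 2 < Nat.card (G ⧸ zpowers z)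
  · obtain ⟨H, hH, h⟩ := ih _ (by omega) (G ⧸ zpowers z) rfl he h4
    refine ⟨H.comap (QuotientGroup.mk' _), fun h' => hH ?_, ?_⟩
    · rw [← map_comap_eq_self_of_surjective (QuotientGroup.mk'_surjective _) H, h', ← MonoidHom.range_eq_map,
        QuotientGroup.range_mk']
    · have h5 := (H.comap (QuotientGroup.mk' (zpowers z))).index_mul_card
      rw [index_comap_of_surjective _ (QuotientGroup.mk'_surjective _), hc, ← H.index_mul_card,
        mul_assoc] at h5
      have h6 := Nat.eq_of_mul_eq_mul_left (Nat.pos_of_ne_zero FiniteIndex.index_ne_zero) h5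
      rw [h6, hc, mul_pow]
      omega
  · exact absurd ⟨zpowers z, by rw [index_eq_card]; obtain ⟨k, hk⟩ := he; omega⟩ h2

/-- A finite group G of even order greater than 2 has a proper subgroup H with |G| < |H|^3. -/
theorem result {G : Type*} [Group G] [Finite G] (heven : Even (Nat.card G)) (hgt : 2 < Nat.card G) : ∃ H : Subgroup G, H ≠ ⊤ ∧ Nat.card G < (Nat.card H) ^ 3 := by
  exact aux _ G rfl heven hgt

end Cfsg.Agent.S0232
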