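import Cfsg.Statements.S0234
import Cfsg.Agent.Lib.Transfer.Count

set_option autoImplicit false
open Cfsg

namespace Cfsg.Agent.S0234

set_option linter.unusedSectionVars false
set_option linter.unusedVariables false
set_option linter.style.haveILetI false
set_option linter.unusedSimpArgs false

open Subgroup Cfsg.Agent.Transfer

/-- In a finite simple group G of even order greater than 2, the number n of involutions satisfies 3n < |G|. -/
theorem result {G : Type*} [Group G] [Finite G] [IsSimpleGroup G] (heven : Even (Nat.card G)) (hgt : 2 < Nat.card G) : 3 * Nat.card {t : G // orderOf t = 2} < Nat.card G := by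
  have h2 : ∀ H : Subgroup G, H.index ≠ 2 := by
    intro H hH
    rcases IsSimpleGroup.eq_bot_or_eq_top_of_normal H (normal_of_index_eq_two hH) with h | h
    · rw [h, index_bot] at hH; omega
    · rw [h, index_top] at hH; omega
  have hN : ¬ HasNormalPComplement 2 G := fun h => by
    obtain ⟨H, hH⟩ := exists_index_two_of_hasNPC heven h
    exact h2 H hH
  obtain ⟨P⟩ : Nonempty (Sylow 2 G) := inferInstance
  have hZ : center G = ⊥ := by
    refine (IsSimpleGroup.eq_bot_or_eq_top_of_normal (center G) inferInstance).resolve_right fun h => ?_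
    haveI : IsMulCommutative G := ⟨⟨fun a b => mem_center_iff.1 (h ▸ mem_top b) a⟩⟩
    exact hN (hasNPC_of_normalizer_le_centralizer P fun a _ b _ => mem_center_iff.1 (h ▸ mem_top a) b)
  obtain ⟨H, hH, h⟩ := brauer_fowler_index (G := G) fun z hz _ => by rwa [hZ, mem_bot] at hz
  have h := h.resolve_left (h2 H)
  by_contra hc
  push Not at hc
  set m := Nat.card {t : G // orderOf t = 2} with hm
  have h3 : Nat.card G * (Nat.card G + m) ≤ (3 * m) * (3 * m + m) := by gcongr
  have h4 : 2 * H.index * m ^ 2 < 12 * m ^ 2 := by nlinarith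
  have h5 := Nat.lt_of_mul_lt_mul_right h4
  have h6 := (two_mul_card_dvd_factorial_of_normalCore (normalCore_eq_bot_of_simple hH) hH h2).trans
    (Nat.factorial_dvd_factorial (show H.index ≤ 5 by omega))
  have h7 : Nat.card G ∣ 60 := Nat.dvd_of_mul_dvd_mul_left (by decide : 0 < 2) h6
  have hP : ¬ IsCyclic P := fun h => hN (hasNPC_two_of_isCyclic P h)
  have h8 : Nat.card P = 4 := by
    obtain ⟨k, hk⟩ := P.2.exists_card_eq
    have h9 : 2 ^ k ∣ 60 := hk ▸ (card_subgroup_dvd_card _).trans h7
    have : k < 3 := by
      by_contra hk3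
      exact absurd ((pow_dvd_pow 2 (not_lt.1 hk3)).trans h9) (by decide)
    interval_cases k
    · exact absurd (by haveI := (Nat.card_eq_one_iff_unique.1 hk).1; infer_instance) hP
    · exact absurd (isCyclic_of_prime_card (p := 2) hk) hP
    · exact hk
  have hK : IsKleinFour (P : Subgroup G) := by
    refine ⟨h8, ?_⟩
    exact (not_isCyclic_iff_exponent_eq_prime Nat.prime_two h8).1 hP
  obtain ⟨a, b, ha, -, -, -, -, hmem⟩ := exists_klein_elems hK
  have h9 : m ≤ Nat.card {y // IsConj a y} := cnt_mono fun t ht => klein_sylow_isConj P hK hN ha ht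
  have h10 := card_isConj_mul a
  have h11 : 4 ≤ Nat.card (centralizer ({a} : Set G)) := by
    rw [← h8]
    refine card_le_of_le fun x hx => mem_centralizer_singleton_iff.2 ?_
    exact congrArg Subtype.val ((klein_isMulCommutative hK).is_comm.comm (⟨x, hx⟩ : (P : Subgroup G))
      ⟨a, (hmem a).2 (by simp)⟩)
  nlinarith

end Cfsg.Agent.S0234
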