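import Cfsg.Statements.S0239
import Cfsg.Agent.Lib.Transfer.Count

set_option autoImplicit false
open Cfsg

namespace Cfsg.Agent.S0239

set_option linter.unusedSectionVars false
set_option linter.unusedVariables false
set_option linter.style.haveILetI false
set_option linter.unusedSimpArgs false

open Subgroup Cfsg.Agent.Transfer

/-- If some nontrivial element x of a finite group G is conjugate to x⁻¹, then |G| is even. -/
theorem result {G : Type*} [Group G] [Finite G] (x : G) (hx : x ≠ 1) (hreal : IsConj x x⁻¹) : Even (Nat.card G) := by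
  rw [← Nat.not_odd_iff_even]
  intro ho
  obtain ⟨g, hg⟩ := isConj_iff.1 hreal
  have h1 : Commute g x := commute_of_commute_sq_of_odd (ho.of_dvd_nat (orderOf_dvd_natCard g))
    (commute_iff_conj.2 (by
      calc g * g * x * (g * g)⁻¹ = g * (g * x * g⁻¹) * g⁻¹ := by group
        _ = x := by rw [hg, ← conj_inv, hg, inv_inv]))
  rw [commute_iff_conj.1 h1] at hg
  exact hx (eq_one_of_odd_of_mul_self (ho.of_dvd_nat (orderOf_dvd_natCard x))
    (mul_eq_one_iff_eq_inv.2 hg))

end Cfsg.Agent.S0239
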