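import Cfsg.Statements.S0240
import Cfsg.Agent.Lib.Transfer.Count

set_option autoImplicit false
open Cfsg

namespace Cfsg.Agent.S0240

set_option linter.unusedSectionVars false
set_option linter.unusedVariables false
set_option linter.style.haveILetI false
set_option linter.unusedSimpArgs false

open Subgroup Cfsg.Agent.Transfer

/-- Let G be a finite group with n involutions and H a subgroup with |H|·(n+1) > |G|. Then some nontrivial h ∈ H is strongly real in G: an involution t of G satisfies t h t⁻¹ = h⁻¹. -/
theorem result {G : Type*} [Group G] [Finite G] (H : Subgroup G) (hH : Nat.card G < Nat.card H * (Nat.card {t : G // orderOf t = 2} + 1)) : ∃ h : G, h ∈ H ∧ h ≠ 1 ∧ ∃ t : G, orderOf t = 2 ∧ t * h * t⁻¹ = h⁻¹ := by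
  by_contra hc
  push Not at hc
  have h1 := cnt_le_of_injOn (p := fun t : G => orderOf t = 2 ∨ t = 1) (q := fun _ : G ⧸ H => True)
    (fun t => (t : G ⧸ H)) (fun _ _ => trivial) (by
      intro a b ha hb h
      have hab := QuotientGroup.eq.1 h
      by_contra hne
      have h1 : a⁻¹ * b ≠ 1 := fun h' => hne (inv_mul_eq_one.1 h')
      rcases ha with ha | rfl
      · rw [inv_eq_of_orderOf ha] at hab h1
        refine hc _ hab h1 a ha (inverts_mul_left (mul_self_of_orderOf ha) ?_)
        rcases hb with hb | rfl
        · exact mul_self_of_orderOf hb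
        · simp
      · rcases hb with hb | rfl
        · rw [inv_one, one_mul] at hab h1
          exact hc _ hab h1 b hb (by rw [mul_inv_cancel_right, inv_eq_of_orderOf hb])
        · exact hne rfl)
  rw [cnt_insert (by simp), cnt_true, ← index_eq_card] at h1
  rw [← H.card_mul_index] at hH
  exact absurd (Nat.lt_of_mul_lt_mul_left hH) (not_lt.2 h1)

end Cfsg.Agent.S0240
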