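import Cfsg.Statements.S0241
import Cfsg.Agent.Lib.Transfer.Count

set_option autoImplicit false
open Cfsg

namespace Cfsg.Agent.S0241

set_option linter.unusedSectionVars false
set_option linter.unusedVariables false
set_option linter.style.haveILetI false
set_option linter.unusedSimpArgs false

open Subgroup Cfsg.Agent.Transfer

/-- If x ≠ 1 is conjugate to x⁻¹ in a finite group G and |C_G(x)| is odd, then some involution t satisfies t x t⁻¹ = x⁻¹. -/
theorem result {G : Type*} [Group G] [Finite G] (x : G) (hx : x ≠ 1) (hreal : IsConj x x⁻¹) (hodd : Odd (Nat.card (Subgroup.centralizer ({x} : Set G)))) : ∃ t : G, orderOf t = 2 ∧ t * x * t⁻¹ = x⁻¹ := by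
  obtain ⟨g, hg⟩ := isConj_iff.1 hreal
  have hx2 : x * x ≠ 1 := fun h => hx (eq_one_of_odd_of_mul_self (odd_orderOf_of_mem hodd
    (mem_centralizer_singleton'.2 (Commute.refl x))) h)
  have h1 : Commute (g * g) x := commute_iff_conj.2 (by
    calc g * g * x * (g * g)⁻¹ = g * (g * x * g⁻¹) * g⁻¹ := by group
      _ = x := by rw [hg, ← conj_inv, hg, inv_inv])
  obtain ⟨m, hm⟩ := odd_orderOf_of_mem hodd (mem_centralizer_singleton'.2 h1)
  have h2 : g ^ (2 * m + 1) * x * (g ^ (2 * m + 1))⁻¹ = x⁻¹ := by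
    rw [pow_succ', pow_mul, pow_two]
    calc _ = g * ((g * g) ^ m * x * ((g * g) ^ m)⁻¹) * g⁻¹ := by group
      _ = _ := by rw [commute_iff_conj.1 (h1.pow_left m), hg]
  refine ⟨g ^ (2 * m + 1), orderOf_eq_two ?_ fun h => hx2 ?_, h2⟩
  · rw [← Commute.mul_pow (Commute.refl g), ← hm, pow_orderOf_eq_one]
  · rw [h, one_mul, inv_one, mul_one] at h2
    exact mul_eq_one_iff_eq_inv.2 h2

end Cfsg.Agent.S0241
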