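import Cfsg.Statements.S0250
import Mathlib
import Cfsg.Agent.Lib.Perm.Dick5

set_option autoImplicit false
open Cfsg

namespace Cfsg.Agent.S0250

open Cfsg.Agent.Perm.GL2

/-- SL_2(2) is isomorphic to S_3. -/
theorem result {F : Type*} [Field F] [Fintype F] (hF : Fintype.card F = 2) : Nonempty (Matrix.SpecialLinearGroup (Fin 2) F ≃* Equiv.Perm (Fin 3)) := by
  have h2 : (2 : F) = 0 := two_eq_zero_of_even (by rw [hF])
  obtain ⟨e⟩ := iso_PGL2_perm (F := F) (Or.inl hF)
  rw [hF] at e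
  exact ⟨(toPEquiv h2).trans (psEquiv.trans ((MulEquiv.subgroupCongr (PS_eq_top h2)).trans
    (Subgroup.topEquiv.trans e)))⟩

end Cfsg.Agent.S0250
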