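import Cfsg.Statements.S0254
import Mathlib
import Cfsg.Agent.Lib.Perm.Dick9

set_option autoImplicit false
open Cfsg

namespace Cfsg.Agent.S0254

open Cfsg.Agent.Perm Cfsg.Agent.Perm.GL2 Cfsg.Agent.Perm.Tri Subgroup MulAction

/-- PSL_2(9) is isomorphic to A_6. -/
theorem result {F : Type*} [Field F] [Fintype F] (hF : Fintype.card F = 9) : Nonempty (Matrix.ProjectiveSpecialLinearGroup (Fin 2) F ≃* alternatingGroup (Fin 6)) := by
  obtain ⟨X, ⟨e⟩⟩ := exists_A5' (F := F) (five_dvd_oP.2 (by omega))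
  obtain ⟨H, ⟨e'⟩⟩ := exists_PSL_of_le (A5_le_PS e) ⟨e⟩
  have h1 := card_PSL2_mul (F := F)
  have h2 := H.card_mul_index
  rw [hF] at h1
  simp only [Nat.reduceSub, Nat.reduceGcd] at h1
  rw [Nat.card_congr e'.toEquiv, card_A5] at h2
  haveI : IsSimpleGroup (PSL2 F) := Matrix.ProjectiveSpecialLinearGroup.rank_two_simple (by
    rw [Nat.card_eq_fintype_card]; omega)
  have h3 : H.index = 6 := by omega
  refine Small.iso_alt_of_faithful (α := PSL2 F ⧸ H) h3 (fun g hg => ?_) (by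
    change 2 * Nat.card (PSL2 F) = 720; omega)
  rcases H.normalCore_normal.eq_bot_or_eq_top with h | h
  · rw [← mem_bot, ← h, normalCore_eq_ker, MonoidHom.mem_ker]; exact Equiv.ext hg
  · rw [show H = ⊤ from top_le_iff.1 (h ▸ H.normalCore_le), index_top] at h3; omega

end Cfsg.Agent.S0254
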