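import Cfsg.Statements.S0255
import Cfsg.Agent.Lib.Classical.Small1
import Cfsg.Agent.S0243

set_option autoImplicit false
open Cfsg

namespace Cfsg.Agent.S0255
open Cfsg.Agent.Classical

def M7 : Fin 3 → Fin 3 → Matrix (Fin 2) (Fin 2) (ZMod 7) :=
  ![![1, !![0, 1; 6, 0], !![2, 4; 4, 5]], ![!![1, 3; 4, 6], 1, !![1, 1; 5, 6]], ![!![1, 2; 6, 6], !![2, 3; 3, 5], 1]]

theorem M7_det : ∀ i j, (M7 i j).det = 1 := by
  simp only [Matrix.det_fin_two]; decide

theorem r1 : ∀ i j : Fin 3, i ≠ j → M7 i j * M7 i j = 1 ∨ M7 i j * M7 i j = -1 := by decide +kernel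
theorem r2 : ∀ i j k l : Fin 3, i ≠ j → k ≠ l → j ≠ k → i ≠ l →
    M7 i j * M7 k l = M7 k l * M7 i j ∨ M7 i j * M7 k l = -(M7 k l * M7 i j) := by decide +kernel
theorem r3 : ∀ i j k : Fin 3, i ≠ j → j ≠ k → i ≠ k →
    M7 i j * M7 j k = M7 i k * M7 j k * M7 i j ∨ M7 i j * M7 j k = -(M7 i k * M7 j k * M7 i j) := by decide +kernel

def N7 (i j : Fin 3) : Matrix.SpecialLinearGroup (Fin 2) (ZMod 7) := ⟨M7 i j, M7_det i j⟩


/-- PSL_2(7) is isomorphic to PSL_3(2). -/
theorem result {F K : Type*} [Field F] [Fintype F] [Field K] [Fintype K] (hF : Fintype.card F = 7) (hK : Fintype.card K = 2) : Nonempty (Matrix.ProjectiveSpecialLinearGroup (Fin 2) F ≃* Matrix.ProjectiveSpecialLinearGroup (Fin 3) K) := by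
  haveI : Fact (Nat.Prime 7) := ⟨by norm_num⟩
  let f := (ZMod.ringEquivOfPrime F (by norm_num) hF).toRingHom
  let θ : Matrix.SpecialLinearGroup (Fin 2) (ZMod 7) →* Matrix.ProjectiveSpecialLinearGroup (Fin 2) F :=
    (QuotientGroup.mk' _).comp (Matrix.SpecialLinearGroup.map f)
  have hθ : ∀ A B : Matrix.SpecialLinearGroup (Fin 2) (ZMod 7), A.1 = B.1 ∨ A.1 = -B.1 → θ A = θ B := by
    rintro A B (h | h)
    · rw [Subtype.ext h]
    · have : A = -1 * B := Subtype.ext (by rw [h]; simp)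
      rw [this, map_mul, mul_eq_right]
      refine (QuotientGroup.eq_one_iff _).2 (Matrix.SpecialLinearGroup.mem_center_iff.2 ⟨-1, by simp, ?_⟩)
      ext i j; fin_cases i <;> fin_cases j <;> simp
  obtain ⟨φ, hφ⟩ := Pres.lift_two hK (fun i j => θ (N7 i j)) (by decide)
    (fun i j e => by rw [← map_mul, ← map_one θ]; exact hθ _ _ (r1 i j e))
    (fun i j k l a b c d => by rw [← map_mul, ← map_mul]; exact hθ _ _ (r2 i j k l a b c d))
    (fun i j k a b c => by rw [← map_mul, ← map_mul, ← map_mul]; exact hθ _ _ (r3 i j k a b c))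
  haveI := Pres.simple_SL_two (ι := Fin 3) hK (by simp)
  have hi := Pres.inj_of_simple φ (a := Matrix.SpecialLinearGroup.transvection (show (0 : Fin 3) ≠ 1 by decide) 1) (by
    rw [hφ]
    intro h
    obtain ⟨r, -, h2⟩ := Matrix.SpecialLinearGroup.mem_center_iff.1 ((QuotientGroup.eq_one_iff _).1 h)
    have : (0 : F) = f (M7 0 1 0 1) := (by simp : (0 : F) = Matrix.scalar (Fin 2) r 0 1).trans
      (congrFun (congrFun h2 0) 1)
    simp [M7] at this)
  have h1 := S0242.result hK 3 (by norm_num)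
  have h2 := S0243.result hF 2 (by norm_num)
  simp only [Fin.prod_univ_three, Fin.prod_univ_two] at h1 h2
  norm_num at h1 h2
  haveI : Finite (Matrix.ProjectiveSpecialLinearGroup (Fin 2) F) := Nat.finite_of_card_ne_zero (by omega)
  exact ⟨((Pres.pslTwo hK).trans (MulEquiv.ofBijective φ
    ((Nat.bijective_iff_injective_and_card _).2 ⟨hi, by omega⟩))).symm⟩

end Cfsg.Agent.S0255
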