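import Cfsg.Statements.S0257
import Mathlib
import Cfsg.Agent.Lib.Perm.Dick5

set_option autoImplicit false
open Cfsg

namespace Cfsg.Agent.S0257

open Cfsg.Agent.Perm.GL2 Subgroup

/-- SL_2(3) has a normal subgroup of index 3 isomorphic to the quaternion group of order 8, and its centre has order 2. -/
theorem result {F : Type*} [Field F] [Fintype F] (hF : Fintype.card F = 3) : (∃ Q : Subgroup (Matrix.SpecialLinearGroup (Fin 2) F), Q.Normal ∧ Q.index = 3 ∧ Nonempty (Q ≃* QuaternionGroup 2)) ∧ Nat.card (Subgroup.center (Matrix.SpecialLinearGroup (Fin 2) F)) = 2 := by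
  have h2 : (2 : F) ≠ 0 := two_ne_zero_of_odd (by rw [hF]; decide)
  refine ⟨?_, card_center_SL_odd h2⟩
  obtain ⟨i, j, hi, hj, hij⟩ := exists_quat h2
  obtain ⟨e⟩ := quat_closure h2 hi hij
  have hc : Nat.card (closure ({i, j} : Set (SL2 F))) = 8 := by
    rw [Nat.card_congr e.toEquiv, Nat.card_eq_fintype_card, QuaternionGroup.card]
  have hG : Nat.card (SL2 F) = 24 := by rw [card_SL2, hF]
  have hi3 : (closure ({i, j} : Set (SL2 F))).index = 3 := by
    have := (closure ({i, j} : Set (SL2 F))).card_mul_index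
    rw [hc, hG] at this; omega
  refine ⟨_, ?_, hi3, ⟨e⟩⟩
  obtain ⟨e2⟩ := iso_PSL2_three hF
  let φ : SL2 F →* alternatingGroup (Fin 4) := e2.toMonoidHom.comp toP
  have hs : Function.Surjective φ := e2.surjective.comp toP_surjective
  let V := alternatingGroup.kleinFour (Fin 4)
  have hV : Nat.card V = 4 := alternatingGroup.kleinFour_card_of_card_eq_four (by simp)
  haveI : V.Normal := alternatingGroup.normal_kleinFour (by simp)
  have hVi : (V.comap φ).index = 3 := by
    rw [index_comap_of_surjective _ hs]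
    have := V.card_mul_index
    rw [hV, Cfsg.Agent.Perm.Tri.card_A4] at this; omega
  have hVc : Nat.card (V.comap φ) = 8 := by
    have := (V.comap φ).card_mul_index
    rw [hVi, hG] at this; omega
  let P : Sylow 2 (SL2 F) := (IsPGroup.of_card (n := 3) hc).toSylow (by rw [hi3]; decide)
  let Q : Sylow 2 (SL2 F) := (IsPGroup.of_card (n := 3) hVc).toSylow (by rw [hVi]; decide)
  haveI := Sylow.unique_of_normal Q (inferInstanceAs (V.comap φ).Normal)
  have : closure ({i, j} : Set (SL2 F)) = V.comap φ := congrArg Sylow.toSubgroup (Subsingleton.elim P Q)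
  rw [this]; infer_instance

end Cfsg.Agent.S0257
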