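import Cfsg.Statements.S0258
import Mathlib
import Cfsg.Agent.Lib.Perm.Dick5

set_option autoImplicit false
open Cfsg

namespace Cfsg.Agent.S0258

open Cfsg.Agent.Perm.GL2 Subgroup

/-- GL_2(q), q a power of the prime p, has exactly q + 1 Sylow p-subgroups. -/
theorem result {F : Type*} [Field F] [Fintype F] {q : ℕ} (hF : Fintype.card F = q) (p : ℕ) [Fact p.Prime] [CharP F p] : Nat.card (Sylow p (Matrix.GeneralLinearGroup (Fin 2) F)) = q + 1 := by
  subst hF
  rw [Sylow.card_eq_index_normalizer (sylG F p), show ((sylG F p : Sylow p _) : Set (GL (Fin 2) F)) = UG F from rfl, normalizer_UG]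
  have := (Cfsg.upperTriangularGL 2 F).card_mul_index
  rw [card_B, card_GL2] at this
  apply Nat.eq_of_mul_eq_mul_left (Nat.mul_pos (Fintype.card_pos (α := F)) (pow_pos (card_sub_one_pos (F := F)) 2))
  rw [this]; ring

end Cfsg.Agent.S0258
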