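import Cfsg.Statements.S0259
import Mathlib
import Cfsg.Agent.Lib.Perm.Dick5

set_option autoImplicit false
open Cfsg

namespace Cfsg.Agent.S0259

open Cfsg.Agent.Perm.GL2 Subgroup

/-- Distinct Sylow p-subgroups of GL_2(q), p the characteristic, intersect trivially. -/
theorem result {F : Type*} [Field F] [Fintype F] (p : ℕ) [Fact p.Prime] [CharP F p] (P Q : Sylow p (Matrix.GeneralLinearGroup (Fin 2) F)) (h : P ≠ Q) : (P : Subgroup (Matrix.GeneralLinearGroup (Fin 2) F)) ⊓ (Q : Subgroup (Matrix.GeneralLinearGroup (Fin 2) F)) = ⊥ := by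
  rw [eq_bot_iff]
  intro a ha
  by_contra h1
  obtain ⟨⟨b, hb, hj⟩, hP⟩ := sylG_jord P ha.1 h1
  obtain ⟨-, hQ⟩ := sylG_jord Q ha.2 h1
  have hs : ¬ IsScal (a : M2 F) := fun e => hj.not_scal (isScal_of_isConj hb e)
  have hn : (P : Subgroup _) ≤ normalizer ((Q : Subgroup (GL (Fin 2) F)) : Set _) :=
    le_trans (fun g hg => mem_centralizer_iff.2 fun x hx => cent_comm hs (hQ hx) (hP hg)) (centralizer_le_normalizer _)
  have := IsPGroup.to_sup_of_normal_right' P.isPGroup' Q.isPGroup' hn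
  apply h
  apply Sylow.ext
  exact (P.3 this le_sup_left).symm.trans (Q.3 this le_sup_right)

end Cfsg.Agent.S0259
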