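import Cfsg.Statements.S0260
import Mathlib
import Cfsg.Agent.Lib.Perm.Dick5

set_option autoImplicit false
open Cfsg

namespace Cfsg.Agent.S0260

open Cfsg.Agent.Perm.GL2 Subgroup

/-- Any two distinct Sylow p-subgroups of SL_2(q), p the characteristic, generate SL_2(q). -/
theorem result {F : Type*} [Field F] [Fintype F] (p : ℕ) [Fact p.Prime] [CharP F p] (P Q : Sylow p (Matrix.SpecialLinearGroup (Fin 2) F)) (h : P ≠ Q) : (P : Subgroup (Matrix.SpecialLinearGroup (Fin 2) F)) ⊔ (Q : Subgroup (Matrix.SpecialLinearGroup (Fin 2) F)) = ⊤ := by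
  obtain ⟨c, hc⟩ := exists_sylS P
  obtain ⟨d, hd⟩ := exists_sylS Q
  have he : ((c⁻¹ * d : SL2 F) : M2 F) 1 0 ≠ 0 := fun he => h (SetLike.ext fun g => by
    rw [hc, hd, ← conj_mem_US he]; simp [mul_assoc])
  have := eq_top_of_conj (cjs c⁻¹ ((P : Subgroup _) ⊔ Q)) (fun b => mem_cjs.2 (mem_sup_left ((hc _).2 (by
    simpa [mul_assoc] using upS_mem_US b)))) he (fun b => mem_cjs.2 (mem_sup_right ((hd _).2 (by
    simpa [mul_assoc] using upS_mem_US b))))
  rw [← cjs_cjs_inv c ((P : Subgroup _) ⊔ Q), this, cjs_normal]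

end Cfsg.Agent.S0260
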