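import Cfsg.Statements.S0263
import Cfsg.Agent.Lib.Classical.Cnt2

set_option autoImplicit false
open Cfsg

namespace Cfsg.Agent.S0263
open Cfsg.Agent.Classical


/-- A Sylow p-subgroup of GL_n(q), p the characteristic, has order q^(n(n-1)/2). -/
theorem result {F : Type*} [Field F] [Fintype F] {q : ℕ} (hF : Fintype.card F = q) (p : ℕ) [Fact p.Prime] [CharP F p] (n : ℕ) (P : Sylow p (Matrix.GeneralLinearGroup (Fin n) F)) : Nat.card P = q ^ (n * (n - 1) / 2) := by
  classical
  obtain ⟨f, -, hf⟩ := FiniteField.card F p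
  have hp : p.Prime := Fact.out
  have h := prod_sub_shift
  have k : Nat.card (GL (Fin n) F) = q ^ (n * (n - 1) / 2) * ∏ i : Fin n, (q ^ (n - i) - 1) := by
    rw [Matrix.card_GL_field, hF, ← Finset.sum_range_id, Finset.sum_range, ← Finset.prod_pow_eq_pow_sum,
      ← Finset.prod_mul_distrib]
    refine Finset.prod_congr rfl fun i _ => ?_
    rw [mul_tsub, ← pow_add, mul_one, Nat.add_sub_cancel' i.2.le]
  have k1 : p.Coprime (∏ i : Fin n, (q ^ (n - i) - 1)) := Nat.Coprime.prod_right fun i _ => by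
    rw [← hF, hf, ← pow_mul]
    obtain ⟨r, hr⟩ : ∃ r, (f : ℕ) * (n - i) = r + 1 := Nat.exists_eq_add_one.2 (Nat.mul_pos f.2 (by have := i.2; omega))
    rw [hr, pow_succ, Nat.coprime_comm]
    exact (Nat.coprime_self_sub_left (Nat.one_le_iff_ne_zero.2 (by simp [hp.ne_zero]))).2 (Nat.coprime_one_left _) |>.symm.coprime_dvd_left (Dvd.intro_left _ rfl) |>.symm
  rw [P.card_eq_multiplicity, k, ← hF, hf, ← pow_mul, Nat.factorization_mul_of_coprime, Finsupp.add_apply,
    Nat.factorization_eq_zero_of_not_dvd (n := ∏ _ : Fin n, _) (hp.coprime_iff_not_dvd.1 (by rwa [← hf, hF]))]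
  · simp [hp.factorization_pow]
  · exact Nat.Coprime.pow_left _ (by rwa [← hf, hF])

end Cfsg.Agent.S0263
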