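import Cfsg.Statements.S0264
import Cfsg.Agent.Lib.Classical.Lin1

set_option autoImplicit false
open Cfsg

namespace Cfsg.Agent.S0264
open Cfsg.Agent.Classical


/-- GL_n(F)' = SL_n(F) (as the kernel of det), for every field F and every n, except n = 2 over the field of two elements. -/
theorem result {F : Type*} [Field F] (n : ℕ) (h : n = 2 → ∃ a : F, a ≠ 0 ∧ a ≠ 1) : commutator (Matrix.GeneralLinearGroup (Fin n) F) = (Matrix.GeneralLinearGroup.det : Matrix.GeneralLinearGroup (Fin n) F →* Fˣ).ker := by
  refine le_antisymm (Abelianization.commutator_subset_ker _) fun g hg => ?_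
  let s : Matrix.SpecialLinearGroup (Fin n) F := ⟨g, congrArg Units.val hg⟩
  rw [show g = Matrix.SpecialLinearGroup.toGL s from Units.ext rfl]
  rcases lt_trichotomy n 2 with hn | rfl | hn
  · haveI : Subsingleton (Fin n) := Fin.subsingleton_iff_le_one.2 (by omega)
    rw [Subsingleton.elim s 1, map_one]; exact one_mem _
  · obtain ⟨a, a0, a1⟩ := h rfl
    have := sub_ne_zero.2 a1
    refine Lin.transvection_induction (fun s => Matrix.SpecialLinearGroup.toGL s ∈ commutator _) (fun i j hij c => ?_)
      (fun _ _ a b => by rw [map_mul]; exact mul_mem a b) s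
    convert Subgroup.commutator_mem_commutator (Subgroup.mem_top (Matrix.GeneralLinearGroup.mkOfDetNeZero
      (Matrix.diagonal (Function.update 1 i a)) (by simp [Finset.prod_update_of_mem, a0])))
      (Subgroup.mem_top (Matrix.SpecialLinearGroup.toGL (Matrix.SpecialLinearGroup.transvection hij (c / (a - 1))))) using 1
    · rfl
    rw [commutatorElement_def, eq_mul_inv_iff_mul_eq, eq_mul_inv_iff_mul_eq]
    ext x y
    fin_cases i <;> fin_cases j <;> fin_cases x <;> fin_cases y <;>
      simp [Matrix.SpecialLinearGroup.transvection_coe, Matrix.mul_apply, Matrix.one_apply] at hij ⊢ <;>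
      field_simp <;> ring
  · have : s ∈ commutator _ := Lin.commutator_SL (ι := Fin n) (F := F) (by simp; omega) ▸ trivial
    exact (Subgroup.map_commutator _ _ _).le.trans (Subgroup.commutator_mono le_top le_top) ⟨s, this, rfl⟩

end Cfsg.Agent.S0264
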