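import Cfsg.Statements.S0265
import Cfsg.Agent.S0242

set_option autoImplicit false
open Cfsg

namespace Cfsg.Agent.S0265


/-- |PGL_n(q)| = |SL_n(q)|: GL_n modulo its centre (the q-1 non-zero scalars) has the same order as the kernel of det. -/
theorem result {F : Type*} [Field F] [Fintype F] (n : ℕ) : Nat.card (Matrix.ProjGenLinGroup (Fin n) F) = Nat.card (Matrix.SpecialLinearGroup (Fin n) F) := by
  classical
  rcases Nat.eq_zero_or_pos n with rfl | hn
  · haveI : Subsingleton (Matrix.ProjGenLinGroup (Fin 0) F) := Matrix.ProjGenLinGroup.mk_surjective.subsingleton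
    rw [Nat.card_unique, Nat.card_unique]
  haveI : Nonempty (Fin n) := ⟨⟨0, hn⟩⟩
  have h1 := S0242.result (F := F) rfl n hn
  have h2 := Subgroup.card_eq_card_quotient_mul_card_subgroup (Subgroup.center (GL (Fin n) F))
  have h3 : Nat.card (Subgroup.center (GL (Fin n) F)) = Fintype.card F - 1 := by
    rw [Matrix.GeneralLinearGroup.center_eq_range_scalar, ← Nat.card_congr (MonoidHom.ofInjective fun a b h =>
      Units.ext (Matrix.scalar_inj.1 (congrArg Units.val h))).toEquiv, Nat.card_units, Nat.card_eq_fintype_card]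
  rw [Matrix.card_GL_field, ← h1, h3, mul_comm] at h2
  exact (Nat.eq_of_mul_eq_mul_right (Nat.sub_pos_of_lt Fintype.one_lt_card) h2).symm

end Cfsg.Agent.S0265
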