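import Cfsg.Statements.S0266
import Mathlib
import Cfsg.Agent.Lib.Perm.Dick5

set_option autoImplicit false
open scoped MatrixGroups
open Cfsg

namespace Cfsg.Agent.S0266

open Cfsg.Agent.Perm.GL2 Subgroup OnePoint MulAction

/-- PGL_2(F) is sharply 3-transitive on the projective line: it is 3-transitive and the stabiliser of three distinct points is trivial. -/
theorem result {F : Type*} [Field F] : MulAction.IsMultiplyPretransitive (Matrix.ProjGenLinGroup (Fin 2) F) (Projectivization F (Fin 2 → F)) 3 ∧ ∀ (g : Matrix.ProjGenLinGroup (Fin 2) F) (a b c : Projectivization F (Fin 2 → F)), a ≠ b → a ≠ c → b ≠ c → g • a = a → g • b = b → g • c = c → g = 1 := by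
  classical
  have key : ∀ (g : PGL2 F) (x : OnePoint F), equivProjectivization F (g • x) = g • equivProjectivization F x := by
    intro g x
    obtain ⟨g, rfl⟩ := mkP_surj g
    exact equivProjectivization_smul x
  refine ⟨?_, fun g a b c h1 h2 h3 ha hb hc => ?_⟩
  · rw [isMultiplyPretransitive_iff]
    intro x y
    have t : ∀ x : Fin 3 ↪ Projectivization F (Fin 2 → F), ∃ g : PGL2 F, g • equivProjectivization F ∞ = x 0 ∧
        g • equivProjectivization F (0 : F) = x 1 ∧ g • equivProjectivization F (1 : F) = x 2 := fun x => by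
      obtain ⟨g, a, b, c⟩ := exists_three (x := (equivProjectivization F).symm (x 0))
        (y := (equivProjectivization F).symm (x 1)) (z := (equivProjectivization F).symm (x 2))
        (by simp) (by simp) (by simp)
      exact ⟨g, by rw [← key, a]; simp, by rw [← key, b]; simp, by rw [← key, c]; simp⟩
    obtain ⟨g, a, b, c⟩ := t x
    obtain ⟨h, a', b', c'⟩ := t y
    refine ⟨h * g⁻¹, Function.Embedding.ext fun i => ?_⟩
    fin_cases i <;> simp [← a, ← b, ← c, ← a', ← b', ← c', mul_smul]
  · obtain ⟨a, rfl⟩ := (equivProjectivization F).surjective a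
    obtain ⟨b, rfl⟩ := (equivProjectivization F).surjective b
    obtain ⟨c, rfl⟩ := (equivProjectivization F).surjective c
    rw [← key, Equiv.apply_eq_iff_eq] at ha hb hc
    exact eq_one_of_fix_three (fun e => h1 (by rw [e])) (fun e => h2 (by rw [e])) (fun e => h3 (by rw [e])) ha hb hc

end Cfsg.Agent.S0266
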