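import Cfsg.Statements.S0267
import Mathlib
import Cfsg.Agent.Lib.Perm.Dick5
import Cfsg.Agent.S0266

set_option autoImplicit false
open Cfsg

namespace Cfsg.Agent.S0267

open Cfsg.Agent.Perm.GL2 Subgroup OnePoint MulAction

/-- SL_2(q) is 3-transitive on the q+1 points of the projective line if and only if q is even. -/
theorem result {F : Type*} [Field F] [Fintype F] : MulAction.IsMultiplyPretransitive (Matrix.SpecialLinearGroup (Fin 2) F) (Projectivization F (Fin 2 → F)) 3 ↔ ringChar F = 2 := by
  have key : ∀ (g : SL2 F) (x : Projectivization F (Fin 2 → F)),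
      g • x = mkP (Matrix.SpecialLinearGroup.toGL g) • x := by
    intro g x
    induction x using Projectivization.ind with
    | h v hv => rfl
  obtain ⟨h3, hs⟩ := S0266.result (F := F)
  rw [isMultiplyPretransitive_iff] at h3 ⊢
  constructor
  · intro h
    by_contra h2
    classical
    let x : Fin 3 ↪ Projectivization F (Fin 2 → F) :=
      ⟨fun i => equivProjectivization F (![∞, (0 : F), (1 : F)] i), fun i j hij => by
        have := (equivProjectivization F).injective hij
        fin_cases i <;> fin_cases j <;> simp at this ⊢⟩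
    have ht : PS F = ⊤ := eq_top_iff.2 fun g _ => by
      obtain ⟨s, hs2⟩ := h x (g • x)
      have e : ∀ i, (g⁻¹ * mkP (Matrix.SpecialLinearGroup.toGL s)) • x i = x i := fun i => by
        rw [mul_smul, inv_smul_eq_iff, ← key]; exact congrArg (fun f : Fin 3 ↪ _ => f i) hs2
      have := hs _ (x 0) (x 1) (x 2) (by simp) (by simp) (by simp) (e 0) (e 1) (e 2)
      exact ⟨s, (inv_mul_eq_one.1 this).symm⟩
    have := index_PS (F := F)
    rw [ht, index_top, gcd_odd (Nat.odd_iff.2 (FiniteField.odd_card_of_char_ne_two h2))] at this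
    omega
  · intro h x y
    obtain ⟨g, hg⟩ := h3 x y
    have h2 : (2 : F) = 0 := by
      have := ringChar.Nat.cast_ringChar (R := F)
      rwa [h] at this
    obtain ⟨s, rfl⟩ : g ∈ PS F := by rw [PS_eq_top h2]; trivial
    exact ⟨s, Function.Embedding.ext fun i => by
      rw [← hg]; exact key s (x i)⟩

end Cfsg.Agent.S0267
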