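import Cfsg.Statements.S0272
import Mathlib
import Cfsg.Agent.Lib.Perm.Dick5

set_option autoImplicit false
open Cfsg

namespace Cfsg.Agent.S0272

open Cfsg.Agent.Perm.GL2 Subgroup

/-- The normaliser in GL_2(q) of a Sylow p-subgroup, p the characteristic, has order q (q-1)^2. -/
theorem result {F : Type*} [Field F] [Fintype F] {q : ℕ} (hF : Fintype.card F = q) (p : ℕ) [Fact p.Prime] [CharP F p] (P : Sylow p (Matrix.GeneralLinearGroup (Fin 2) F)) : Nat.card (Subgroup.normalizer ((P : Subgroup (Matrix.GeneralLinearGroup (Fin 2) F)) : Set (Matrix.GeneralLinearGroup (Fin 2) F))) = q * (q - 1) ^ 2 := by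
  subst hF
  have h1 := Sylow.card_eq_index_normalizer P
  rw [Sylow.card_eq_index_normalizer (sylG F p), show ((sylG F p : Sylow p _) : Set (GL (Fin 2) F)) = UG F from rfl,
    normalizer_UG] at h1
  have h2 := (Cfsg.upperTriangularGL 2 F).card_mul_index
  have h3 := (normalizer ((P : Subgroup (GL (Fin 2) F)) : Set (GL (Fin 2) F))).card_mul_index
  rw [← card_B]
  rw [← h2, h1] at h3
  exact Nat.eq_of_mul_eq_mul_right (Nat.pos_of_ne_zero FiniteIndex.index_ne_zero) h3

end Cfsg.Agent.S0272
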