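import Cfsg.Statements.S0274
import Mathlib
import Cfsg.Agent.Lib.Perm.Dick9

set_option autoImplicit false
open Cfsg

namespace Cfsg.Agent.S0274

open Cfsg.Agent.Perm Cfsg.Agent.Perm.GL2 Cfsg.Agent.Perm.Tri Subgroup MulAction

/-- Dickson's Theorem for SL_2: if p is odd and H is a subgroup of SL_2(q), q a power of p, with more than one Sylow p-subgroup, then H contains a copy of SL_2(p). -/
theorem result {F : Type*} [Field F] [Fintype F] (p : ℕ) [Fact p.Prime] [CharP F p] (hp : p ≠ 2) (H : Subgroup (Matrix.SpecialLinearGroup (Fin 2) F)) (hH : 1 < Nat.card (Sylow p H)) : ∃ K : Subgroup (Matrix.SpecialLinearGroup (Fin 2) F), K ≤ H ∧ Nonempty (K ≃* Matrix.SpecialLinearGroup (Fin 2) (ZMod p)) := by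
  have h2 : (2 : F) ≠ 0 := two_ne_of_char hp
  have hpp : p.Prime := Fact.out
  have hd : p ∣ Nat.card H := by
    by_contra hd
    have : ∀ P : Sylow p H, (P : Subgroup H) = ⊥ := fun P => by
      rw [← card_eq_one, P.card_eq_multiplicity, Nat.factorization_eq_zero_of_not_dvd hd, pow_zero]
    haveI : Subsingleton (Sylow p H) := ⟨fun P Q => Sylow.ext ((this P).trans (this Q).symm)⟩
    have := Finite.card_le_one_iff_subsingleton.2 this
    omega
  obtain ⟨g, hg⟩ := exists_prime_orderOf_dvd_card' p hd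
  have hneg : ∀ k, (-1 : SL2 F) ^ p ^ k ≠ 1 := fun k => by
    rw [(hpp.odd_of_ne_two hp).pow.neg_one_pow]; exact neg_one_ne_one_SL h2
  have hg2 : orderOf (⟨ph g, mem_map_of_mem _ g.2⟩ : H.map ph) = p := by
    rw [orderOf_mk]
    have h1 : (g : SL2 F) ^ p = 1 := congrArg Subtype.val (orderOf_dvd_iff_pow_eq_one.1 hg.dvd)
    refine orderOf_eq_prime (by rw [← map_pow, h1, map_one]) fun e => ?_
    rcases ph_eq_one.1 e with e | e
    · rw [show g = 1 from Subtype.ext e, orderOf_one] at hg; exact hpp.one_lt.ne hg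
    · exact hneg 1 (by rwa [pow_one, ← e])
  have hd2 : p ∣ Nat.card (H.map ph) := hg2 ▸ _root_.orderOf_dvd_natCard _
  have fin : ∀ c, cjs c (RS (pf F p)) ≤ H.map ph →
      ∃ K : Subgroup (SL2 F), K ≤ H ∧ Nonempty (K ≃* SL2 (ZMod p)) := fun c hc =>
    exists_SL_sub _ (neg_mem_of_even h2 ((two_dvd_card_RS _ c (by
      rw [Nat.card_zmod]; have := hpp.two_le; omega)).trans (card_dvd_of_le hc))) hc
  rcases dickson p (H.map ph) with h | h | ⟨-, x, hx⟩ | h | ⟨h, ⟨e⟩⟩ | ⟨L, c, -, h⟩
  · exact absurd hd2 h.2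
  · exact absurd h (not_dih hp hg2)
  · exfalso
    have key : ∀ (P : Sylow p H), ∀ a ∈ P, ∃ k, (a : SL2 F) ^ p ^ k = 1 := fun P a ha => by
      obtain ⟨k, hk⟩ := P.isPGroup' ⟨a, ha⟩
      exact ⟨k, congrArg (fun z : (P : Subgroup H) => ((z : H) : SL2 F)) hk⟩
    haveI : Subsingleton (Sylow p H) := ⟨fun P Q => by
      have hn : (P : Subgroup H) ≤ normalizer ((Q : Subgroup H) : Set H) :=
        le_trans (fun a ha => mem_centralizer_iff.2 fun b hb => by
          obtain ⟨k, hk⟩ := key P a ha
          obtain ⟨l, hl⟩ := key Q b hb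
          have := comm_of_fix (p := p) x (ph a) (ph b) (hx _ (mem_map_of_mem _ a.2)) (hx _ (mem_map_of_mem _ b.2))
            (pow_eq_one_of_pow (by rw [← map_pow, hk, map_one])) (pow_eq_one_of_pow (by rw [← map_pow, hl, map_one]))
          rw [← mul_inv_eq_one, ← map_mul, ← map_mul, ← map_inv, ← map_mul, ph_eq_one] at this
          rcases this with e | e
          · exact Subtype.ext (mul_inv_eq_one.1 e).symm
          · exfalso
            apply hneg l
            have e2 : (a : SL2 F) * b * (a : SL2 F)⁻¹ = -1 * b := by rw [← e]; group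
            have := congrArg (· ^ p ^ l) e2
            simp only [conj_pow, hl] at this
            rw [(Commute.neg_one_left _).mul_pow, hl] at this
            simpa using this.symm) (centralizer_le_normalizer _)
      have := IsPGroup.to_sup_of_normal_right' P.isPGroup' Q.isPGroup' hn
      exact Sylow.ext ((P.3 this le_sup_left).symm.trans (Q.3 this le_sup_right))⟩
    have := Finite.card_le_one_iff_subsingleton.2 this
    omega
  · exact absurd hd2 h.1
  · obtain rfl : p = 3 := h.resolve_left (not_not.2 hd2)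
    obtain ⟨Y, h1, ⟨e'⟩⟩ := exists_sub_iso e A4_le_A5
    obtain ⟨c, hc⟩ := A4_le_pf (p := 3) h2 e'
    refine fin c ((eq_of_le_of_card_ge hc ?_).ge.trans h1)
    have := card_RS' (pf F 3) c
    rw [Nat.card_zmod, show oP 3 = 24 from rfl, show Nat.gcd 2 (3 - 1) = 2 from rfl] at this
    rw [Nat.card_congr e'.toEquiv, card_A4]; omega
  · refine fin c ((cjs_mono c (RS_pf_le L.subtype)).trans ?_)
    rcases h with h | h
    · rw [h]; exact cjs_mono c (RS_le_RG _)
    · exact h.ge

end Cfsg.Agent.S0274
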