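import Cfsg.Statements.S0275
import Mathlib
import Cfsg.Agent.Lib.Perm.Dick9
import Cfsg.Agent.S0274

set_option autoImplicit false
open Cfsg

namespace Cfsg.Agent.S0275

open Cfsg.Agent.Perm Cfsg.Agent.Perm.GL2 Cfsg.Agent.Perm.Tri Subgroup MulAction

/-- If p is odd and H is a subgroup of SL_2(q), q a power of p, with more than one Sylow p-subgroup, then the Sylow 2-subgroups of H are generalised quaternion. -/
theorem result {F : Type*} [Field F] [Fintype F] (p : ℕ) [Fact p.Prime] [CharP F p] (hp : p ≠ 2) (H : Subgroup (Matrix.SpecialLinearGroup (Fin 2) F)) (hH : 1 < Nat.card (Sylow p H)) (S : Sylow 2 H) : ∃ k : ℕ, 1 ≤ k ∧ Nonempty ((S : Subgroup H) ≃* QuaternionGroup (2 ^ k)) := by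
  have h2 : (2 : F) ≠ 0 := two_ne_of_char hp
  obtain ⟨K, hK, ⟨e⟩⟩ := S0274.result p hp H hH
  have h2' : (2 : ZMod p) ≠ 0 := two_ne_of_char hp
  obtain ⟨i, j, hi, -, hij⟩ := exists_quat h2'
  let φ : SL2 (ZMod p) →* H := (inclusion hK).comp e.symm.toMonoidHom
  have hφ : Function.Injective φ := (inclusion_injective hK).comp e.symm.injective
  exact sylow_quat h2 H.subtype H.subtype_injective (i := φ i) (j := φ j) (trace_of_orderOf_four h2 (by
    rw [orderOf_injective _ H.subtype_injective, orderOf_injective _ hφ, orderOf_eq_four h2' hi]))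
    (by rw [← map_inv, ← map_inv, ← map_mul, ← map_mul, hij]) S

end Cfsg.Agent.S0275
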