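import Cfsg.Statements.S0276
import Mathlib
import Cfsg.Agent.Lib.Perm.Dick9

set_option autoImplicit false
open Cfsg

namespace Cfsg.Agent.S0276

open Cfsg.Agent.Perm Cfsg.Agent.Perm.GL2 Cfsg.Agent.Perm.Tri Subgroup MulAction

/-- For q = 3 or 5 mod 8 the Sylow 2-subgroups of PSL_2(q) are elementary abelian of order 4. -/
theorem result {F : Type*} [Field F] [Fintype F] {q : ℕ} (hF : Fintype.card F = q) (hq : q % 8 = 3 ∨ q % 8 = 5) (P : Sylow 2 (Matrix.ProjectiveSpecialLinearGroup (Fin 2) F)) : IsKleinFour (P : Subgroup (Matrix.ProjectiveSpecialLinearGroup (Fin 2) F)) := by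
  subst hF
  have hodd : Odd (Fintype.card F) := Nat.odd_iff.2 (by omega)
  obtain ⟨V, h1, h2⟩ := exists_klein (F := F) (two_ne_zero_of_odd hodd)
  have h3 : IsKleinFour (V.comap io) :=
    isKleinFour_of_equiv ((ioEquiv _).trans (MulEquiv.subgroupCongr (map_comap_io h1))).symm h2
  have h4 := (V.comap io).card_mul_index
  have h5 := card_PSL2_mul (F := F)
  rw [gcd_odd hodd, ← h4, h3.card_four] at h5
  let Q : Sylow 2 (PSL2 F) := (IsPGroup.of_card (n := 2) h3.card_four).toSylow (by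
    rintro ⟨k, hk⟩
    rw [hk] at h5
    obtain ⟨a, ha⟩ : ∃ a, Fintype.card F = 8 * a + 3 ∨ Fintype.card F = 8 * a + 5 := ⟨Fintype.card F / 8, by omega⟩
    rcases ha with ha | ha <;> rw [ha] at h5
    · rw [show 8 * a + 3 - 1 = 8 * a + 2 by omega] at h5; ring_nf at h5; omega
    · rw [show 8 * a + 5 - 1 = 8 * a + 4 by omega] at h5; ring_nf at h5; omega)
  exact isKleinFour_of_equiv (Q.equiv P) h3

end Cfsg.Agent.S0276
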