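import Cfsg.Statements.S0281
import Cfsg.Agent.Lib.Classical.Klein2

set_option autoImplicit false
open Cfsg

namespace Cfsg.Agent.S0281
open Cfsg.Agent.Classical

open Matrix

theorem mem_SU {F : Type*} [Field F] [Fintype F] {q n : ℕ} (hF : Fintype.card F = q ^ 2) {g : SpecialLinearGroup (Fin n) F} :
    g ∈ SU n F q ↔ g.1ᵀ * g.1.map (frobq hF) = 1 := by
  have k : ∀ u v, hermForm n F q (g.1 *ᵥ u) (g.1 *ᵥ v) = u ⬝ᵥ (g.1ᵀ * g.1.map (frobq hF)) *ᵥ (frobq hF ∘ v) := fun u v => by
    rw [← mulVec_mulVec, dotProduct_mulVec, vecMul_transpose]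
    exact Finset.sum_congr rfl fun i _ => congrArg _ (RingHom.map_mulVec (frobq hF) _ _ _)
  refine ⟨fun h => ext fun i j => ?_, fun h u v => (k u v).trans (by rw [h, one_mulVec]; rfl)⟩
  have := (k _ _).symm.trans (h (Pi.single i 1) (Pi.single j 1))
  rw [show frobq hF ∘ Pi.single j 1 = Pi.single j 1 from funext fun x => Pi.apply_single (fun _ => frobq hF) (fun _ => map_zero _) _ _ _
    |>.trans (by simp)] at this
  have h0 : q ≠ 0 := by rintro rfl; simp at hF
  simpa [hermForm, one_apply, Pi.single_apply, h0, eq_comm] using this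


/-- SU_2(q) is isomorphic to SL_2(q). -/
theorem result {F K : Type*} [Field F] [Fintype F] [Field K] [Fintype K] {q : ℕ} (hF : Fintype.card F = q ^ 2) (hK : Fintype.card K = q) : Nonempty (Cfsg.SU 2 F q ≃* Matrix.SpecialLinearGroup (Fin 2) K) := by
  subst hK
  obtain ⟨_, h2⟩ := exists_algebra_of_card hF
  obtain ⟨σ, σσ, σc, fx, hσ⟩ := exists_conj h2
  obtain rfl : σ = frobq hF := RingHom.ext fun x => by rw [hσ, Nat.card_eq_fintype_card]; rfl
  obtain ⟨c, hc⟩ := norm_surj_fixed _ (frobq_ne_id hF) σσ (-1) (by simp only [map_neg, map_one])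
  obtain ⟨θ, hθ⟩ : ∃ θ, frobq hF θ - θ ≠ 0 := by
    simpa only [sub_ne_zero, RingHom.id_apply] using DFunLike.ne_iff.1 (frobq_ne_id hF)
  have k0 := @mem_SU F _ _ _ 2 hF
  generalize frobq hF = σ at *
  have c0 : c ≠ 0 := by rintro rfl; simp at hc
  let P := GeneralLinearGroup.mkOfDetNeZero !![1, θ; σ c, σ c * σ θ] (by
    simpa [← mul_sub, mul_comm θ, c0] using hθ)
  let w : GL (Fin 2) F := GeneralLinearGroup.mkOfDetNeZero !![0, -c; c, 0] (by simpa)
  have hP : P.1.map σ = w.1 * P.1 := by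
    ext i j; fin_cases i <;> fin_cases j <;> simp [P, w, σσ] <;> grind
  have k1 : ∀ g : SpecialLinearGroup (Fin 2) F, g ∈ SU 2 F (Fintype.card K) ↔ g.1.map σ * w.1 = w.1 * g.1 := fun g => by
    have : g.1ᵀ * (w.1 * g.1) = w.1 := by
      have := g.2
      rw [det_fin_two] at this
      ext i j; fin_cases i <;> fin_cases j <;> simp [w, mul_apply, vecMul, vecHead, vecTail] <;>
        first | ring1 | linear_combination c * this | linear_combination (-c) * this
    rw [k0, ← (w.mul_left_inj), ← (SpecialLinearGroup.toGL g.transpose).mul_right_inj (b := g.1.map σ * w.1), one_mul, mul_assoc]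
    exact Eq.congr_right this.symm
  have k2 : ∀ (g : SpecialLinearGroup (Fin 2) F) (h : Matrix (Fin 2) (Fin 2) F), g.1 * P.1 = P.1 * h →
      (g ∈ SU 2 F (Fintype.card K) ↔ h.map σ = h) := fun g h e => by
    have := congrArg (·.map σ) e
    simp only [Matrix.map_mul, hP] at this
    rw [k1, ← P.mul_left_inj, mul_assoc, this, mul_assoc, mul_assoc, e, w.mul_right_inj, P.mul_right_inj]
  let f : SpecialLinearGroup (Fin 2) K →* SpecialLinearGroup (Fin 2) F := MonoidHom.mk' (fun g =>
    ⟨P.1 * g.1.map (algebraMap K F) * (P⁻¹).1, by rw [det_units_conj, ← RingHom.mapMatrix_apply, ← RingHom.map_det, g.2, map_one]⟩)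
    fun a b => Subtype.ext (by
      show P.1 * (a.1 * b.1).map _ * _ = P.1 * _ * _ * (P.1 * _ * _)
      simp only [Matrix.map_mul, mul_assoc, Units.inv_mul_cancel_left])
  have hf : Function.Injective f := fun a b h => Subtype.ext (Matrix.map_injective (algebraMap K F).injective
    (P.mul_right_inj.1 ((P⁻¹).mul_left_inj.1 (congrArg Subtype.val h))))
  refine ⟨(MulEquiv.subgroupCongr (Subgroup.ext fun g => ⟨fun h => ?_, ?_⟩)).trans (MonoidHom.ofInjective hf).symm⟩
  · choose a ha using fun i j => fx (congrFun (congrFun ((k2 g ((P⁻¹).1 * g.1 * P.1) (by simp [mul_assoc])).1 h) i) j)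
    have : (of a).map (algebraMap K F) = (P⁻¹).1 * g.1 * P.1 := ext ha
    refine ⟨⟨of a, (algebraMap K F).injective ?_⟩, Subtype.ext ?_⟩
    · rw [RingHom.map_det, RingHom.mapMatrix_apply, this, det_units_conj', g.2, map_one]
    · show P.1 * (of a).map _ * _ = _
      rw [this]; simp [mul_assoc]
  · rintro ⟨g, rfl⟩
    exact (k2 _ (g.1.map (algebraMap K F)) (Units.inv_mul_cancel_right _ _)).2 (ext fun i j => σc _)

end Cfsg.Agent.S0281
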