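import Cfsg.Statements.S0827
import Cfsg.Agent.Lib.Classical.SpUE
import Cfsg.Agent.S0280
import Cfsg.Agent.S0281
import Cfsg.Agent.Lib.Transfer.Cyc2
import Cfsg.Agent.Lib.Solv.Basic

set_option autoImplicit false
open Cfsg

namespace Cfsg.Agent.S0827
open Cfsg.Agent.Classical Matrix

open Subgroup in
theorem aux {P : Type*} [Group P] (hP : Nat.card P = 72) {x y i j : P} (x3 : x ^ 3 = 1) (x1 : x ≠ 1) (xy : Commute x y)
    (h1 : i * x * i⁻¹ = y) (h2 : i * y * i⁻¹ = x * x) (h3 : j * x * j⁻¹ = x * y) (h4 : j * y * j⁻¹ = x * y * y)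
    (h5 : j ^ 2 = i ^ 2) (h6 : j * i * j⁻¹ = i⁻¹) :
    ∃ (N : Subgroup P) (_ : N.Normal), Nat.card N = 9 ∧ (∀ x ∈ N, x ^ 3 = 1) ∧ Nonempty (P ⧸ N ≃* QuaternionGroup 2) := by
  haveI : Finite P := Nat.finite_of_card_ne_zero (by omega)
  haveI : Fact (Nat.Prime 3) := ⟨by norm_num⟩
  have ox := orderOf_eq_prime x3 x1
  have oy : orderOf y = 3 := by rw [← h1, ← ox]; exact orderOf_injective (MulAut.conj i).toMonoidHom (MulAut.conj i).injective x
  have y3 : y ^ 3 = 1 := oy ▸ pow_orderOf_eq_one y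
  have i2 : i ^ 2 ≠ 1 := fun h => x1 (by
    have : i ^ 2 * x * (i ^ 2)⁻¹ = x * x := by rw [← h2, ← h1, sq]; group
    simpa [h] using this)
  have i4 : i ^ 4 = 1 := by
    have : j * i ^ 2 * j⁻¹ = i⁻¹ ^ 2 := by rw [← h6, conj_pow]
    rw [← h5, show j * j ^ 2 * j⁻¹ = j ^ 2 by group, h5, inv_pow, eq_inv_iff_mul_eq_one, ← pow_add] at this
    exact this
  have oi : orderOf i = 2 * 2 := orderOf_eq_prime_pow (p := 2) (n := 1) i2 i4
  obtain ⟨e⟩ := Transfer.nonempty_quaternion_closure oi h6 h5 (by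
    rintro ⟨k, rfl⟩
    exact i2 (by rw [sq, ← eq_inv_iff_mul_eq_one, ← h6]; group))
  have n1 : zpowers x ≤ normalizer (zpowers y : Set P) := zpowers_le.2 (centralizer_le_normalizer _ (by
    rintro _ ⟨k, rfl⟩; exact (xy.symm.zpow_left k).eq))
  have c1 : Nat.card (zpowers x ⊔ zpowers y : Subgroup P) = 9 := by
    rw [Solv.card_sup_of_disjoint n1, Nat.card_zpowers, Nat.card_zpowers, ox, oy]
    haveI : Fact (Nat.card (zpowers y)).Prime := ⟨by rw [Nat.card_zpowers, oy]; norm_num⟩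
    refine disjoint_iff.1 (subgroupOf_eq_bot.1 (((zpowers x).subgroupOf
      (zpowers y)).eq_bot_or_eq_top_of_prime_card.resolve_right fun h => ?_))
    classical
    obtain ⟨k, hk, e⟩ := Finset.mem_image.1 (mem_zpowers_iff_mem_range_orderOf.1 (subgroupOf_eq_top.1 h (mem_zpowers y)))
    rw [← e, ← conj_pow, h1, ← e, ← pow_mul, ← sq x, pow_inj_mod, ox] at h2
    rw [ox, Finset.mem_range] at hk
    interval_cases k <;> simp at h2
  have mx : x ∈ zpowers x ⊔ zpowers y := mem_sup_left (mem_zpowers x)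
  have my : y ∈ zpowers x ⊔ zpowers y := mem_sup_right (mem_zpowers y)
  have n2 : closure {i, j} ≤ normalizer ((zpowers x ⊔ zpowers y : Subgroup P) : Set P) := (closure_le _).2 (by
    rintro g (rfl | rfl) <;> refine mem_normalizer_fintype (show zpowers x ⊔ zpowers y ≤
      comap (MulAut.conj g).toMonoidHom (zpowers x ⊔ zpowers y) from
      sup_le (zpowers_le.2 ?_) (zpowers_le.2 ?_)) <;> simp [*, mul_mem])
  have c2 : Nat.card (closure {i, j} : Subgroup P) = 8 := by rw [Nat.card_congr e.toEquiv]; simp [QuaternionGroup.card]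
  have d : closure {i, j} ⊓ (zpowers x ⊔ zpowers y) = ⊥ := disjoint_iff.1 (disjoint_of_coprime_natCard (by rw [c1, c2]; decide))
  have t := eq_top_of_card_eq _ ((Solv.card_sup_of_disjoint n2 d).trans (by rw [c1, c2, hP]))
  haveI : (zpowers x ⊔ zpowers y).Normal := normalizer_eq_top_iff.1 (eq_top_iff.2 (t.ge.trans (sup_le n2 le_normalizer)))
  refine ⟨_, this, c1, fun g hg => ?_, ⟨(isComplement'_of_coprime (by rw [c1, c2, hP])
    (by rw [c1, c2]; decide)).QuotientMulEquiv.trans e⟩⟩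
  obtain ⟨_, ⟨a, rfl⟩, _, ⟨b, rfl⟩, rfl⟩ := (Solv.mem_sup_of_le_normalizer n1).1 hg
  rw [(xy.zpow_zpow a b).mul_pow, ← zpow_natCast, ← zpow_natCast, zpow_comm, zpow_comm y]
  simp [x3, y3]


/-- U_3(2) ≅ 3².Q_8: PSU_3(2) (form over the field with 4 elements) has a normal subgroup N which is elementary abelian of order 9 such that the quotient by N is isomorphic to the quaternion group of order 8. -/
theorem result {F : Type*} [Field F] [Fintype F] (hF : Fintype.card F = 4) : ∃ (N : Subgroup (Cfsg.PSU 3 F 2)) (_ : N.Normal), Nat.card N = 9 ∧ (∀ x ∈ N, x ^ 3 = 1) ∧ Nonempty (Cfsg.PSU 3 F 2 ⧸ N ≃* QuaternionGroup 2) := by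
  classical
  have hF' : Fintype.card F = 2 ^ 2 := hF
  have h2 : (2 : F) = 0 := by
    have := FiniteField.cast_card_eq_zero F
    rw [hF'] at this; simpa using (show (2 : F) ^ 2 = 0 by exact_mod_cast this)
  obtain ⟨w, -, hw⟩ := Finset.exists_mem_notMem_of_card_lt_card (s := {0, 1}) (t := (Finset.univ : Finset F))
    (Finset.card_le_two.trans_lt (by simp [hF]))
  have w3 : w ^ 2 + w + 1 = 0 := by
    have := FiniteField.pow_card w
    simp at hw; rw [hF] at this; grind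
  have k : ∀ M : Matrix (Fin 3) (Fin 3) F, M.det = 1 ∧ Mᵀ * M.map (frobq hF') = 1 → ∃ g : SU 3 F 2, g.1.1 = M :=
    fun M h => ⟨⟨⟨M, h.1⟩, (S0281.mem_SU hF').2 h.2⟩, rfl⟩
  obtain ⟨⟨x, hx⟩, ⟨y, hy⟩, ⟨z, hz⟩, ⟨i, hi⟩, ⟨j, hj⟩⟩ : (∃ g : SU 3 F 2, g.1.1 = !![1, 0, 0; 0, w, 0; 0, 0, w ^ 2]) ∧
      (∃ g : SU 3 F 2, g.1.1 = !![0, 1, 0; 0, 0, 1; 1, 0, 0]) ∧ (∃ g : SU 3 F 2, g.1.1 = !![w, 0, 0; 0, w, 0; 0, 0, w]) ∧
      (∃ g : SU 3 F 2, g.1.1 = !![1, 1, 1; 1, w, w ^ 2; 1, w ^ 2, w]) ∧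
      ∃ g : SU 3 F 2, g.1.1 = !![1, w ^ 2, w ^ 2; w, w, w ^ 2; w, w ^ 2, w] := by
    refine ⟨k _ ⟨?_, ?_⟩, k _ ⟨?_, ?_⟩, k _ ⟨?_, ?_⟩, k _ ⟨?_, ?_⟩, k _ ⟨?_, ?_⟩⟩ <;>
      first | (simp [det_fin_three] <;> grind) |
        (ext a b; fin_cases a <;> fin_cases b <;> simp [mul_apply, Fin.sum_univ_three] <;> grind)
  have z1 : (QuotientGroup.mk z : PSU 3 F 2) = 1 := (QuotientGroup.eq_one_iff _).2 (Subgroup.mem_center_iff.2 fun g =>
    Subtype.ext (Subtype.ext (show g.1.1 * z.1.1 = z.1.1 * g.1.1 by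
      ext a b; fin_cases a <;> fin_cases b <;> simp [hz, mul_apply, Fin.sum_univ_three, mul_comm])))
  have r : x * x * x = 1 ∧ y * x = x * y * z ∧ i * x = y * i ∧ i * y = x * x * i ∧ j * x = x * y * j * z * z ∧
      j * y = x * y * y * j * z ∧ j * j = i * i ∧ i * j * i = j := by
    have e : ∀ a b : SU 3 F 2, a = b ↔ a.1.1 = b.1.1 := fun a b => ⟨fun h => by rw [h], fun h => Subtype.ext (Subtype.ext h)⟩
    have e1 : ∀ a b : SU 3 F 2, (a * b).1.1 = a.1.1 * b.1.1 := fun _ _ => rfl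
    have e2 : (1 : SU 3 F 2).1.1 = !![1, 0, 0; 0, 1, 0; 0, 0, 1] := one_fin_three
    simp only [e, e1, e2]
    rw [hx, hy, hz, hi, hj]
    clear k hw hx hy hz hi hj z1 e e1 e2
    simp only [mul_fin_three, EmbeddingLike.apply_eq_iff_eq, vecCons_inj]
    grind
  obtain ⟨r1, r2, r3, r4, r5, r6, r7, r8⟩ := r
  replace r := fun a b (h : a = b) => congrArg (QuotientGroup.mk' (Subgroup.center (SU 3 F 2))) h
  have := S0280.result hF' 3 (by simp)
  refine aux (x := QuotientGroup.mk x) (y := QuotientGroup.mk y) (i := QuotientGroup.mk i) (j := QuotientGroup.mk j)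
    (by simp [Finset.prod_range_succ, show ¬ Even 1 by decide, -Nat.card_eq_fintype_card] at this; omega) (by simpa [pow_succ] using r _ _ r1) (fun h => ?_)
    (show _ = _ by simpa [z1] using (r _ _ r2).symm) (by simpa [mul_inv_eq_iff_eq_mul] using r _ _ r3)
    (by simpa [mul_inv_eq_iff_eq_mul] using r _ _ r4) (by simpa [mul_inv_eq_iff_eq_mul, z1] using r _ _ r5)
    (by simpa [mul_inv_eq_iff_eq_mul, z1] using r _ _ r6) (by simpa [sq] using r _ _ r7)
    (by rw [mul_inv_eq_iff_eq_mul, eq_inv_mul_iff_mul_eq, ← mul_assoc]; exact r _ _ r8)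
  have := congrArg (·.1.1 0 1) (Subgroup.mem_center_iff.1 ((QuotientGroup.eq_one_iff _).1 h) y)
  simp [hx, hy, mul_apply, Fin.sum_univ_three] at this hw
  exact hw.2 this

end Cfsg.Agent.S0827
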