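import Cfsg.Statements.S0284
import Cfsg.Agent.Lib.Classical.SpU

set_option autoImplicit false
open Cfsg

namespace Cfsg.Agent.S0284
open Cfsg.Agent.Classical


/-- The standard Hermitian form on F^n, |F| = q^2, has exactly q^(n-1) (q^n - (-1)^n) vectors of norm 1. -/
theorem result {F : Type*} [Field F] [Fintype F] {q : ℕ} (hF : Fintype.card F = q ^ 2) (n : ℕ) : Nat.card {v : Fin n → F // Cfsg.hermForm n F q v v = 1} = (if Even n then q ^ (n - 1) * (q ^ n - 1) else q ^ (n - 1) * (q ^ n + 1)) := by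
  have h := unit_cnt_ne hF one_ne_zero (one_pow q) n _ (uForm_nondeg hF n) (by simp)
  have hq := two_le_of_card_sq hF
  have hq0 : (q : ℤ) ≠ 0 := by positivity
  show (uForm hF n).cnt 1 = _
  rcases n with _ | n
  · have : ((uForm hF 0).cnt 1 : ℤ) = 0 := mul_left_cancel₀ hq0 (by rw [h]; ring)
    simpa using this
  zify
  apply mul_left_cancel₀ hq0
  rw [h]
  have e1 : 1 ≤ q ^ (n + 1) := Nat.one_le_pow _ _ (by omega)
  split_ifs with he
  · rw [he.neg_one_pow]; push_cast [Nat.cast_sub e1]; ring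
  · rw [(Nat.not_even_iff_odd.1 he).neg_one_pow]; push_cast; ring

end Cfsg.Agent.S0284
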