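import Cfsg.Statements.S0286
import Cfsg.Agent.Lib.Classical.Orth2

set_option autoImplicit false
open Cfsg

namespace Cfsg.Agent.S0286
open Cfsg.Agent.Classical


/-- |GO_{2m+1}(q)| = 2 q^(m^2) prod_{i=1}^{m} (q^(2i) - 1) for q odd. -/
theorem result {F : Type*} [Field F] [Fintype F] {q : ℕ} (hF : Fintype.card F = q) (hodd : Odd q) (m : ℕ) : Nat.card (Cfsg.isometryGroup F (Cfsg.quadFormOdd m F)) = 2 * q ^ (m ^ 2) * ∏ i ∈ Finset.range m, (q ^ (2 * (i + 1)) - 1) := by
  have h2 : (2 : F) ≠ 0 := fun h => by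
    have : CharP F 2 := (CharP.charP_iff_prime_eq_zero Nat.prime_two).2 (by exact_mod_cast h)
    have := FiniteField.even_card_of_char_two (F := F) (ringChar.eq F 2)
    rw [hF] at this
    exact (Nat.not_even_iff_odd.2 hodd) (Nat.even_iff.2 this)
  rw [← oddForm_N, Nat.card_congr (orthEquiv (oddForm m F)).toEquiv,
    card_orth_odd m _ (oddForm_nondeg m h2) (by simp; omega), Nat.card_eq_fintype_card, hF]

end Cfsg.Agent.S0286
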