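import Cfsg.Statements.S0287
import Cfsg.Agent.Lib.Classical.Orth2

set_option autoImplicit false
open Cfsg

namespace Cfsg.Agent.S0287
open Cfsg.Agent.Classical


/-- |GO^+_{2m}(q)| = 2 q^(m(m-1)) (q^m - 1) prod_{i=1}^{m-1} (q^(2i) - 1), m at least 1, all q. -/
theorem result {F : Type*} [Field F] [Fintype F] {q : ℕ} (hF : Fintype.card F = q) (m : ℕ) (hm : 1 ≤ m) : Nat.card (Cfsg.isometryGroup F (Cfsg.quadFormPlus m F)) = 2 * q ^ (m * (m - 1)) * (q ^ m - 1) * ∏ i ∈ Finset.range (m - 1), (q ^ (2 * (i + 1)) - 1) := by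
  obtain ⟨m, rfl⟩ : ∃ k, m = k + 1 := ⟨m - 1, by omega⟩
  have h := card_orth_even (Or.inl rfl) m _ (plusForm_nondeg (m + 1)) (plusForm_isType (F := F) (m + 1))
  rw [← plusForm_N, Nat.card_congr (orthEquiv (plusForm (m + 1) F)).toEquiv]
  rw [Nat.card_eq_fintype_card (α := F), hF] at h
  have hq : 0 < q := hF ▸ Fintype.card_pos
  have e1 : ∀ k, 1 ≤ q ^ k := fun k => Nat.one_le_pow _ _ hq
  zify [e1]
  rw [h]; simp

end Cfsg.Agent.S0287
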