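import Cfsg.Statements.S0289
import Cfsg.Agent.Lib.Classical.Orth2

set_option autoImplicit false
open Cfsg

namespace Cfsg.Agent.S0289
open Cfsg.Agent.Classical


/-- The hyperbolic quadratic form on F^(2m), m at least 1, has q^(2m-1) + q^m - q^(m-1) zeros (that is, (q^m - 1)(q^(m-1) + 1) non-zero isotropic vectors). -/
theorem result {F : Type*} [Field F] [Fintype F] {q : ℕ} (hF : Fintype.card F = q) (m : ℕ) (hm : 1 ≤ m) : Nat.card {v : Fin m ⊕ Fin m → F // Cfsg.quadFormPlus m F v = 0} = q ^ (2 * m - 1) + q ^ m - q ^ (m - 1) := by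
  obtain ⟨m, rfl⟩ : ∃ k, m = k + 1 := ⟨m - 1, by omega⟩
  have h := (plusForm_isType (F := F) (m + 1)).2
  rw [Nat.card_eq_fintype_card (α := F), hF] at h
  have hq : 0 < q := hF ▸ Fintype.card_pos
  show (plusForm (m + 1) F).cnt 0 = _
  have e1 : q ^ m ≤ q ^ (2 * (m + 1) - 1) + q ^ (m + 1) :=
    le_add_left (Nat.pow_le_pow_right hq (by omega))
  rw [Nat.add_sub_cancel]
  zify [e1]
  apply mul_left_cancel₀ (show (q : ℤ) ≠ 0 by positivity)
  rw [h, show 2 * (m + 1) - 1 = 2 * m + 1 by omega]; ring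

end Cfsg.Agent.S0289
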