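import Cfsg.Statements.S0304
import Cfsg.Agent.Lib.Classical.Bridge

set_option autoImplicit false
open Cfsg

namespace Cfsg.Agent.S0304
open Cfsg.Agent.Classical

open Matrix
variable {F : Type*} [Field F] [CharP F 2] {m : ℕ}

theorem B_eq (u v : Unit ⊕ (Fin m ⊕ Fin m) → F) :
    (oddForm m F).B u v = sympForm m F (u ∘ Sum.inr) (v ∘ Sum.inr) := by
  simp [oddForm_B, sympForm_eq, CharTwo.two_eq_zero, CharTwo.sub_eq_add, add_comm]

theorem blocks (g : isometryGroup F (quadFormOdd m F)) : g.1.1.toBlocks₂₁ = 0 ∧ g.1.1.toBlocks₁₁ = 1 := by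
  have h := (mem_isometryGroup_iff (oddForm m F)).1 g.2
  have h1 : (g.1.1 *ᵥ Pi.single (.inl ()) 1) ∘ Sum.inr = 0 := spForm_nondeg m _ fun u => by
    obtain ⟨w, hw⟩ := (glEquiv g.1).surjective (Sum.elim 0 u)
    have := h.1 w (Pi.single (.inl ()) 1)
    rw [hw, B_eq, B_eq] at this
    exact this.trans (by simp [sympForm_eq])
  have h2 := mem_isometryGroup.1 g.2 (Pi.single (.inl ()) 1)
  have h3 : ∀ i, g.1.1 (.inr i) (.inl ()) = 0 := fun i => by simpa using congrFun h1 i
  refine ⟨ext fun i _ => h3 i, ext fun _ _ => ?_⟩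
  simpa [quadFormOdd, h3, CharTwo.neg_eq, toBlocks₁₁] using h2

theorem act (g : isometryGroup F (quadFormOdd m F)) (v : Unit ⊕ (Fin m ⊕ Fin m) → F) :
    (g.1.1 *ᵥ v) ∘ Sum.inr = g.1.1.toBlocks₂₂ *ᵥ (v ∘ Sum.inr) := by
  conv_lhs => rw [← g.1.1.fromBlocks_toBlocks, (blocks g).1, fromBlocks_mulVec]
  simp

/-- restriction to the quotient by the radical -/
def phi : isometryGroup F (quadFormOdd m F) →* symplecticGroup (Fin m) F :=
  MonoidHom.mk' (fun g => ⟨g.1.1.toBlocks₂₂, (mem_symplecticGroup_iff_form m).2 fun u v => by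
    have := ((mem_isometryGroup_iff (oddForm m F)).1 g.2).1 (Sum.elim 0 u) (Sum.elim 0 v)
    simpa [B_eq, act] using this⟩) fun a b => Subtype.ext (matrix_ext_mulVec fun v => by
      have := act (a * b) (Sum.elim 0 v)
      rw [Subgroup.coe_mul, Units.val_mul, ← mulVec_mulVec, act, act, mulVec_mulVec] at this
      exact this.symm)


/-- In characteristic 2, O_{2m+1}(q) is isomorphic to Sp_{2m}(q). -/
theorem result {F : Type*} [Field F] [Fintype F] [CharP F 2] (m : ℕ) : Nonempty (Cfsg.isometryGroup F (Cfsg.quadFormOdd m F) ≃* Matrix.symplecticGroup (Fin m) F) := by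
  have Q : ∀ v, quadFormOdd m F v = v (.inl ()) ^ 2 + quadFormPlus m F (v ∘ Sum.inr) := fun _ => rfl
  refine ⟨MulEquiv.ofBijective phi ⟨(injective_iff_map_eq_one _).2 fun g h => ?_, fun A => ?_⟩⟩
  · have h1 : g.1.1.toBlocks₂₂ = 1 := congrArg Subtype.val h
    have h2 : g.1.1.toBlocks₁₂ = 0 := ext fun _ j => by
      have := mem_isometryGroup.1 g.2 (Pi.single (.inr j) 1)
      rw [Q, Q, act, h1, one_mulVec] at this
      simpa [toBlocks₁₂] using this
    refine Subtype.ext (Units.ext ?_)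
    rw [← g.1.1.fromBlocks_toBlocks, h1, h2, (blocks g).1, (blocks g).2, fromBlocks_one]; rfl
  let D : (Fin m ⊕ Fin m → F) →+ F := AddMonoidHom.mk' (fun v => (plusForm m F).N (A.1 *ᵥ v) + (plusForm m F).N v) fun u v => by
    have a := (mem_symplecticGroup_iff_form m).1 A.2 u v
    have b : ∀ u v, (plusForm m F).N (u + v) = (plusForm m F).N u + (plusForm m F).N v + sympForm m F u v := fun u v => by
      have := (plusForm m F).orth_B u v
      have e := B_eq (Sum.elim 0 u) (Sum.elim 0 v)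
      rw [oddForm_B] at e
      rw [plusForm_B] at this
      simp at e; linear_combination e - this
    rw [mulVec_add, b, b, a]
    linear_combination (sympForm m F u v) * CharTwo.two_eq_zero (R := F)
  choose l hl using fun j => (frobeniusEquiv F 2).surjective (D (Pi.single j 1))
  have k : ∀ v, (l ⬝ᵥ v) ^ 2 = D v := fun v => by
    conv_rhs => rw [pi_eq_sum_univ' v, map_sum]
    rw [dotProduct, sum_pow_char]
    refine Finset.sum_congr rfl fun j _ => ?_
    rw [mul_pow, show l j ^ 2 = _ from hl j]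
    simp only [D, AddMonoidHom.mk'_apply, mulVec_smul, Form.N_smul, Kind.orth_σ, RingHom.id_apply]; ring
  refine ⟨⟨GeneralLinearGroup.mkOfDetNeZero (fromBlocks 1 (of fun _ => l) 0 A.1)
    (by simp [SymplecticGroup.det_eq_one A.2]), mem_isometryGroup.2 fun v => ?_⟩, rfl⟩
  have := k (v ∘ Sum.inr)
  simp only [D, AddMonoidHom.mk'_apply, plusForm_N] at this
  rw [Q, Q, GeneralLinearGroup.val_mkOfDetNeZero, fromBlocks_mulVec, Sum.elim_comp_inr, zero_mulVec, zero_add, one_mulVec]
  show (v (.inl ()) + l ⬝ᵥ (v ∘ Sum.inr)) ^ 2 + _ = _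
  rw [add_pow_char]
  linear_combination this + (quadFormPlus m F (A.1 *ᵥ (v ∘ Sum.inr))) * CharTwo.two_eq_zero (R := F)

end Cfsg.Agent.S0304
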