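import Cfsg.Statements.S0305
import Cfsg.Agent.Lib.Classical.Orth2

set_option autoImplicit false
open Cfsg

namespace Cfsg.Agent.S0305
open Cfsg.Agent.Classical


/-- GO^+_2(q) is dihedral of order 2(q-1). -/
theorem result {F : Type*} [Field F] [Fintype F] {q : ℕ} (hF : Fintype.card F = q) : Nonempty (Cfsg.isometryGroup F (Cfsg.quadFormPlus 1 F) ≃* DihedralGroup (q - 1)) := by
  have hq : 1 < q := hF ▸ Fintype.one_lt_card
  have : NeZero (q - 1) := ⟨by omega⟩
  let Φ := plusForm 1 F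
  let e : Fin 1 ⊕ Fin 1 → F := Pi.single (.inl 0) 1
  let f : Fin 1 ⊕ Fin 1 → F := Pi.single (.inr 0) 1
  have h : Φ.IsHyp e f := ⟨by simp [Φ, e, plusForm_N, Cfsg.quadFormPlus],
    by simp [Φ, f, plusForm_N, Cfsg.quadFormPlus], by simp [Φ, e, f, plusForm_B]⟩
  obtain ⟨ζ, hζ⟩ := IsCyclic.exists_ofOrder_eq_natCard (α := Fˣ)
  rw [Nat.card_units, Nat.card_eq_fintype_card, hF] at hζ
  let d : Fˣ →* Φ.Isom := MonoidHom.mk' (fun l => ⟨Φ.dil e f h l, Φ.dil_mem _ _ _ _⟩)
    fun a b => Subtype.ext (Φ.dil_mul _ _ h _ _).symm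
  have hd : ∀ l, (d l).1 e = (l : F) • e := fun l => Φ.dil_e _ _ h _
  have hd' : ∀ l, (d l).1 f = (l : F)⁻¹ • f := fun l => Φ.dil_f _ _ h _
  have hdi : Function.Injective d := fun a b hab => by
    have := hd a
    rw [hab, hd] at this
    exact Units.ext (smul_left_injective F h.e_ne this).symm
  obtain ⟨s, hs, hs1, hs2⟩ := (plusForm_nondeg 1).exists_isom_hyp h h.swap
  simp only [Kind.orth_ε, one_smul] at hs2
  have hext : ∀ a b : Φ.Isom, a.1 e = b.1 e → a.1 f = b.1 f → a = b := by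
    intro a b h1 h2
    ext1; ext1 x
    have : x = x (.inl 0) • e + x (.inr 0) • f := by
      ext (i | i) <;> fin_cases i <;> simp [e, f]
    rw [this]; simp [h1, h2]
  have hc := card_orth_even (Or.inl rfl) 0 _ (plusForm_nondeg 1) (plusForm_isType (F := F) 1)
  rw [Nat.card_eq_fintype_card (α := F), hF] at hc
  obtain ⟨φ⟩ := nonempty_dihedral_of_card (n := q - 1) (d ζ) ⟨s, hs⟩
    (by rw [orderOf_injective _ hdi, hζ]) (hext _ _ (by simp [hs1, hs2]) (by simp [hs1, hs2]))
    (by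
      rw [← map_inv]
      apply hext
      · simp [-map_inv, hs1, hs2, hd, hd']
      · simp [-map_inv, hs1, hs2, hd, hd'])
    (by
      rw [← MonoidHom.map_zpowers]
      rintro ⟨l, -, hl⟩
      have := hd l
      rw [hl] at this
      have h2 := congrFun (hs1.symm.trans this) (.inr 0)
      simp [e, f] at h2)
    (by zify [hq.le]; rw [hc]; simp)
  exact ⟨(orthEquiv Φ).trans φ⟩

end Cfsg.Agent.S0305
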