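import Cfsg.Statements.S0307
import Cfsg.Agent.Lib.Classical.SpUE

set_option autoImplicit false
open Cfsg

namespace Cfsg.Agent.S0307
open Cfsg.Agent.Classical


/-- PSL_n(q) is normal in PGL_n(q) with cyclic quotient of order gcd(n, q-1): the image of the natural map PSL_n → PGL_n is the kernel of a surjective homomorphism onto the cyclic group of that order. -/
theorem result {F : Type*} [Field F] [Fintype F] {q : ℕ} (hF : Fintype.card F = q) (n : ℕ) (hn : 1 ≤ n) : ∃ g : Matrix.ProjGenLinGroup (Fin n) F →* Multiplicative (ZMod (Nat.gcd n (q - 1))), Function.Surjective g ∧ g.ker = (Matrix.ProjectiveSpecialLinearGroup.toPGL : Matrix.ProjectiveSpecialLinearGroup (Fin n) F →* Matrix.ProjGenLinGroup (Fin n) F).range := by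
  classical
  haveI : Nonempty (Fin n) := ⟨⟨0, hn⟩⟩
  obtain rfl : q = Nat.card F := by rw [← hF, Nat.card_eq_fintype_card]
  rw [← Nat.card_units]
  obtain ⟨ψ, h1, h2⟩ := exists_hom_zmod_gcd (C := Fˣ) n
  refine ⟨Matrix.ProjGenLinGroup.lift (ψ.comp Matrix.GeneralLinearGroup.det) (MonoidHom.ext fun u =>
    (h2.ge ⟨u, by ext; simp⟩ : _ ∈ ψ.ker)), fun x => ?_, ?_⟩
  · obtain ⟨g, rfl⟩ := (h1.comp (Matrix.GeneralLinearGroup.det_surjective (n := Fin n))) x
    exact ⟨Matrix.ProjGenLinGroup.mk g, rfl⟩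
  ext g
  induction g using Matrix.ProjGenLinGroup.induction_on with | mk g =>
  refine ⟨fun h => ?_, ?_⟩
  · obtain ⟨r, hr⟩ := h2.le (x := g.det) h
    refine ⟨QuotientGroup.mk ⟨(r⁻¹).1 • g.1, by
      simpa [inv_mul_eq_one₀] using congrArg Units.val hr⟩, Matrix.ProjGenLinGroup.mk_eq_mk_iff.2 ⟨r, ?_⟩⟩
    ext i j; simp [Matrix.scalar_apply]
    show (r : F)⁻¹ * g i j * r = _
    field_simp
  · rintro ⟨s, hs⟩
    induction s using QuotientGroup.induction_on with | H s =>
    rw [← hs]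
    show ψ (Matrix.GeneralLinearGroup.det (Matrix.SpecialLinearGroup.toGL s)) = 1
    simp

end Cfsg.Agent.S0307
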