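import Cfsg.Statements.S0309
import Cfsg.Agent.Lib.Chev.BN

set_option autoImplicit false
open Cfsg

namespace Cfsg.Agent.S0309

/-- Bruhat decomposition, uniqueness part: for `n, n' ∈ N` the double cosets `B n B` and `B n' B` coincide
exactly when `n` and `n'` have the same image in `W = N / (B ⊓ N)`. -/
theorem result {G : Type*} [Group G] (P : Cfsg.BNPair G) {n n' : G}
    (hn : n ∈ P.N) (hn' : n' ∈ P.N) :
    DoubleCoset.doubleCoset n (P.B : Set G) P.B = DoubleCoset.doubleCoset n' (P.B : Set G) P.B ↔ n⁻¹ * n' ∈ P.B := by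
  rw [← Chev.BN.pr_eq_iff P ⟨n, hn⟩ ⟨n', hn'⟩]
  constructor
  · intro h
    have h1 := Chev.BN.mem_C_self (P := P) ⟨n', hn'⟩
    have h2 : n' ∈ Chev.BN.C P (Chev.BN.pr P ⟨n, hn⟩) := by
      rw [Chev.BN.mem_C_iff_dc]
      change n' ∈ DoubleCoset.doubleCoset n (P.B : Set G) P.B
      rw [h]; exact DoubleCoset.mem_doubleCoset_self _ _ _
    exact Chev.BN.eq_of_mem_C h2 h1
  · intro h
    ext g
    have h1 := Chev.BN.mem_C_iff_dc (P := P) (g := g) ⟨n, hn⟩
    have h2 := Chev.BN.mem_C_iff_dc (P := P) (g := g) ⟨n', hn'⟩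
    rw [h] at h1
    exact h1.symm.trans h2

end Cfsg.Agent.S0309
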