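import Cfsg.Statements.S0310
import Cfsg.Agent.Lib.Chev.BN

set_option autoImplicit false
open Cfsg

namespace Cfsg.Agent.S0310

/-- For a set `J` of distinguished generators, the subgroup generated by `B` and `J` is exactly the union of
the double cosets `B n B` with `n` in the subgroup generated by `J` (so `B W_J B` is a subgroup). -/
theorem result {G : Type*} [Group G] (P : Cfsg.BNPair G) {J : Set G}
    (hJ : J ⊆ P.S) (g : G) :
    g ∈ P.parabolic J ↔ ∃ n ∈ Subgroup.closure J, g ∈ DoubleCoset.doubleCoset n (P.B : Set G) P.B := by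
  rw [Chev.BN.mem_parabolic_iff hJ]
  constructor
  · rintro ⟨ω, a, h⟩
    refine ⟨((Chev.wp (Chev.BN.sN P) ω : P.N) : G), ?_, ?_⟩
    · clear h
      induction ω with
      | nil => simp
      | cons i ω ih =>
        rw [Chev.wp_cons]
        exact Subgroup.mul_mem _ (Subgroup.subset_closure (a i (by simp)))
          (ih fun j hj => a j (by simp [hj]))
    · rw [← Chev.BN.mem_C_iff_dc, Chev.map_wp]; exact h
  · rintro ⟨n, hn, h⟩
    obtain ⟨hN, ω, a, e⟩ := Chev.BN.exists_word_of_mem_closure P hJ hn
    exact ⟨ω, a, by rw [e, Chev.BN.mem_C_iff_dc]; exact h⟩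

end Cfsg.Agent.S0310
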