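import Cfsg.Statements.S0321
import Cfsg.Agent.Lib.Chev.BN

set_option autoImplicit false
open Cfsg

namespace Cfsg.Agent.S0321

/-- For `n ∈ N` not in `B`, the union `B ∪ B n B` is (the underlying set of) a subgroup exactly when `n` agrees
modulo `B ⊓ N` with one of the distinguished representatives; thus the distinguished involutions are
determined by `B` and `N`. -/
theorem result {G : Type*} [Group G] (P : Cfsg.BNPair G) {n : G}
    (hn : n ∈ P.N) (hnB : n ∉ P.B) :
    (∃ H : Subgroup G, (H : Set G) = (P.B : Set G) ∪ DoubleCoset.doubleCoset n (P.B : Set G) P.B) ↔ ∃ s ∈ P.S, s⁻¹ * n ∈ P.B := by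
  constructor
  · rintro ⟨H, hH⟩
    obtain ⟨ω, hr, e⟩ := (Chev.BN.invGen P).exists_red (Chev.BN.pr P ⟨n, hn⟩)
    have hB : P.B ≤ H := fun b hb => by
      change b ∈ (H : Set G); rw [hH]; exact Or.inl hb
    have hnH : n ∈ H := by
      change n ∈ (H : Set G); rw [hH]; exact Or.inr (DoubleCoset.mem_doubleCoset_self _ _ _)
    have hl := Chev.BN.letters_mem' H hB ω hr (e ▸ Chev.BN.mem_C_self (P := P) ⟨n, hn⟩) hnH
    rcases ω with _ | ⟨i, ω⟩
    · exact absurd ((Chev.BN.pr_eq_one_iff P _).1 e.symm) hnB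
    · have hi : (i : G) ∈ (H : Set G) := hl i (by simp)
      rw [hH] at hi
      rcases hi with hi | hi
      · exact absurd hi (Chev.BN.not_mem_B P i)
      · have h2 := (Chev.BN.mem_C_iff_dc (P := P) ⟨n, hn⟩).2 hi
        have := Chev.BN.eq_of_mem_C (Chev.BN.simple_mem_C i) h2
        exact ⟨i, i.2, (Chev.BN.pr_eq_iff P _ _).1 this⟩
  · rintro ⟨s, hs, h⟩
    have e : Chev.BN.pr P ⟨n, hn⟩ = Chev.BN.s P ⟨s, hs⟩ :=
      ((Chev.BN.pr_eq_iff P (Chev.BN.sN P ⟨s, hs⟩) ⟨n, hn⟩).2 h).symm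
    refine ⟨P.parabolic {s}, ?_⟩
    ext g
    simp only [SetLike.mem_coe, Set.mem_union]
    rw [Chev.BN.mem_parabolic_iff (by simpa using hs), ← Chev.BN.mem_C_iff_dc (P := P) ⟨n, hn⟩, e]
    constructor
    · rintro ⟨ω, a, hg⟩
      have : Chev.wp (Chev.BN.s P) ω = 1 ∨ Chev.wp (Chev.BN.s P) ω = Chev.BN.s P ⟨s, hs⟩ := by
        clear hg
        induction ω with
        | nil => simp
        | cons i ω ih =>
          have hi : i = ⟨s, hs⟩ := Subtype.ext (a i (by simp))
          rcases ih (fun j hj => a j (by simp [hj])) with h | h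
          · right; simp [h, hi]
          · left; simp [h, hi, Chev.BN.s_sq]
      rcases this with h | h
      · left; rw [h] at hg; exact Chev.BN.mem_C_one.1 hg
      · right; rwa [h] at hg
    · rintro (h | h)
      · exact ⟨[], by simp, Chev.BN.mem_C_one.2 h⟩
      · exact ⟨[⟨s, hs⟩], by simp, by simpa using h⟩

end Cfsg.Agent.S0321
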