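import Cfsg.Statements.S0322
import Cfsg.Agent.Lib.Chev.BN

set_option autoImplicit false
open Cfsg

namespace Cfsg.Agent.S0322

/-- A group with a (B,N)-pair of rank one acts doubly transitively on the left cosets of `B`. -/
theorem result {G : Type*} [Group G] (P : Cfsg.BNPair G) (h : P.rank = 1) : MulAction.IsMultiplyPretransitive G (G ⧸ P.B) 2 := by
  obtain ⟨i, hi⟩ := (Nat.card_eq_one_iff_exists).1 h
  have cell : ∀ g : G, g ∉ P.B → g ∈ Chev.BN.C P (Chev.BN.s P i) := by
    intro g hg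
    obtain ⟨w, hw⟩ := Chev.BN.exists_mem_C P g
    obtain ⟨ω, rfl⟩ := (Chev.BN.invGen P).gen w
    have : Chev.wp (Chev.BN.s P) ω = 1 ∨ Chev.wp (Chev.BN.s P) ω = Chev.BN.s P i := by
      clear hw
      induction ω with
      | nil => simp
      | cons j ω ih =>
        rcases ih with h | h
        · right; simp [h, hi j]
        · left; simp [h, hi j, Chev.BN.s_sq]
    rcases this with h | h
    · rw [h] at hw; exact absurd (Chev.BN.mem_C_one.1 hw) hg
    · rwa [h] at hw
  have key : ∀ a b : G ⧸ P.B, a ≠ b → ∃ g : G, g • a = ((1 : G) : G ⧸ P.B) ∧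
      g • b = ((i : G) : G ⧸ P.B) := by
    intro a b hab
    obtain ⟨a, rfl⟩ := QuotientGroup.mk_surjective a
    obtain ⟨b, rfl⟩ := QuotientGroup.mk_surjective b
    have : a⁻¹ * b ∉ P.B := fun h => hab (QuotientGroup.eq.2 h)
    obtain ⟨b1, h1, b2, h2, e⟩ := (Chev.BN.mem_C_iff (Chev.BN.sN P i) rfl).1 (cell _ this)
    refine ⟨b1⁻¹ * a⁻¹, ?_, ?_⟩
    · rw [MulAction.Quotient.smul_mk, QuotientGroup.eq]
      simpa using h1
    · rw [MulAction.Quotient.smul_mk, QuotientGroup.eq, smul_eq_mul, mul_assoc, e]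
      simpa [Chev.BN.sN, mul_assoc] using h2
  rw [MulAction.is_two_pretransitive_iff]
  intro a b c d hab hcd
  obtain ⟨g, h1, h2⟩ := key a b hab
  obtain ⟨g', h1', h2'⟩ := key c d hcd
  exact ⟨g'⁻¹ * g, by rw [mul_smul, h1, ← h1', inv_smul_smul], by rw [mul_smul, h2, ← h2', inv_smul_smul]⟩

end Cfsg.Agent.S0322
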