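import Cfsg.Statements.S0323


set_option autoImplicit false
open scoped Pointwise
open Cfsg

namespace Cfsg.Agent.S0323

/-- A doubly transitive action on a set with at least three points yields a (B,N)-pair of rank one:
`B` is the stabiliser of a point `x`, `N` the setwise stabiliser of a pair `{x, y}`. -/
theorem result {G Ω : Type*} [Group G] [MulAction G Ω]
    (h2 : MulAction.IsMultiplyPretransitive G Ω 2) {x y z : Ω} (hxy : x ≠ y) (hyz : y ≠ z) (hxz : x ≠ z) :
    ∃ P : Cfsg.BNPair G, P.B = MulAction.stabilizer G x ∧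
      P.N = MulAction.stabilizer G ({x, y} : Set Ω) ∧ P.rank = 1 := by
  rw [MulAction.is_two_pretransitive_iff] at h2
  obtain ⟨s, hs1, hs2⟩ := h2 hxy hxy.symm
  have memN : ∀ n : G, n ∈ MulAction.stabilizer G ({x, y} : Set Ω) ↔
      (n • x = x ∧ n • y = y) ∨ (n • x = y ∧ n • y = x) := by
    intro n
    rw [MulAction.mem_stabilizer_iff, Set.smul_set_insert, Set.smul_set_singleton,
      Set.pair_eq_pair_iff]
  have dc : ∀ n g : G, n • x ≠ x → g • x ≠ x →
      g ∈ DoubleCoset.doubleCoset n (MulAction.stabilizer G x : Set G) (MulAction.stabilizer G x) := by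
    intro n g hn hg
    obtain ⟨b, hb1, hb2⟩ := h2 hn.symm hg.symm
    refine DoubleCoset.mem_doubleCoset.2 ⟨b, hb1, (b * n)⁻¹ * g, ?_, by group⟩
    change ((b * n)⁻¹ * g) • x = x
    rw [mul_smul, ← hb2, ← mul_smul b n, inv_smul_smul]
  have dc1 : ∀ n g : G, n • x = x → g • x = x →
      g ∈ DoubleCoset.doubleCoset n (MulAction.stabilizer G x : Set G) (MulAction.stabilizer G x) := by
    intro n g hn hg
    refine DoubleCoset.mem_doubleCoset.2 ⟨1, Subgroup.one_mem _, n⁻¹ * g, ?_, by group⟩
    change (n⁻¹ * g) • x = x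
    rw [mul_smul, hg, inv_smul_eq_iff, hn]
  refine ⟨⟨MulAction.stabilizer G x, MulAction.stabilizer G ({x, y} : Set Ω), {s}, ?_, ?_, ?_, ?_,
    ?_, ?_, ?_, ?_⟩, rfl, rfl, ?_⟩
  · rw [eq_top_iff]
    intro g _
    by_cases hg : g • x = x
    · exact (le_sup_left : MulAction.stabilizer G x ≤ _) hg
    · obtain ⟨b, hb, b', hb', rfl⟩ := DoubleCoset.mem_doubleCoset.1
        (dc s g (by rw [hs1]; exact hxy.symm) hg)
      exact Subgroup.mul_mem _ (Subgroup.mul_mem _ ((le_sup_left : MulAction.stabilizer G x ≤ _) hb)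
        ((le_sup_right : MulAction.stabilizer G ({x, y} : Set Ω) ≤ _) ((memN s).2 (Or.inr ⟨hs1, hs2⟩))))
        ((le_sup_left : MulAction.stabilizer G x ≤ _) hb')
  · intro n hn t ht
    have ht1 : t • x = x := ht.1
    have ht2 : t • y = y := by
      rcases (memN t).1 ht.2 with h | h
      · exact h.2
      · exact absurd (ht1.symm.trans h.1) hxy
    change (n * t * n⁻¹) • x = x
    rcases (memN n).1 hn with h | h
    · have : n⁻¹ • x = x := by rw [inv_smul_eq_iff, h.1]
      rw [mul_smul, mul_smul, this, ht1, h.1]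
    · have : n⁻¹ • x = y := by rw [inv_smul_eq_iff, h.2]
      rw [mul_smul, mul_smul, this, ht2, h.2]
  · rintro _ rfl; exact (memN _).2 (Or.inr ⟨hs1, hs2⟩)
  · rintro _ rfl
    change (_ * _) • x = x
    rw [mul_smul, hs1, hs2]
  · rintro _ rfl _ rfl _; rfl
  · apply le_antisymm
    · refine sup_le ?_ inf_le_right
      rw [Subgroup.closure_le]
      rintro _ rfl; exact (memN _).2 (Or.inr ⟨hs1, hs2⟩)
    · intro n hn
      rcases (memN n).1 hn with h | h
      · exact Subgroup.mem_sup_right ⟨h.1, hn⟩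
      · have : n = s * (s⁻¹ * n) := by group
        rw [this]
        refine Subgroup.mul_mem _ ((le_sup_left : Subgroup.closure {s} ≤ _)
          (Subgroup.subset_closure rfl)) (Subgroup.mem_sup_right ⟨?_, ?_⟩)
        · change (s⁻¹ * n) • x = x
          rw [mul_smul, h.1, inv_smul_eq_iff, hs1]
        · exact Subgroup.mul_mem _ (Subgroup.inv_mem _ ((memN _).2 (Or.inr ⟨hs1, hs2⟩))) hn
  · intro s' hs' n hn b hb
    obtain rfl : s = s' := hs'.symm
    have hb' : b • x = x := hb
    rcases (memN n).1 hn with h | h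
    · left
      refine dc _ _ ?_ ?_
      · rw [mul_smul, h.1, hs1]; exact hxy.symm
      · rw [mul_smul, mul_smul, h.1, hb', hs1]; exact hxy.symm
    · by_cases h3 : (s * b * n) • x = x
      · left
        exact dc1 _ _ (by rw [mul_smul, h.1, hs2]) h3
      · right
        exact dc _ _ (by rw [h.1]; exact hxy.symm) h3
  · intro s' hs' e
    obtain rfl : s = s' := hs'.symm
    obtain ⟨b, hb1, hb2⟩ := h2 hxy hxz
    have : s * b * s ∈ (MulAction.stabilizer G x : Set G) := by
      rw [← e]; exact ⟨b, hb1, rfl⟩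
    have h3 : (s * b * s) • x = x := this
    rw [mul_smul, mul_smul, hs1, hb2] at h3
    exact hyz (smul_left_cancel _ (hs2.trans h3.symm))
  · simp [Cfsg.BNPair.rank]

end Cfsg.Agent.S0323
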