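import Cfsg.Statements.S0326
import Cfsg.Agent.Lib.Sz.Main

set_option autoImplicit false
open Cfsg

namespace Cfsg.Agent.S0326

open Suz

/-- The Suzuki–Tits ovoid over a finite field with `q` elements has `q² + 1` points. -/
theorem result {F : Type*} [Field F] [Fintype F] (m : ℕ) :
    Nat.card (Cfsg.suzukiOvoid F m) = Fintype.card F ^ 2 + 1 := by
  let f : Option (F × F) → Fin 4 → F := fun p => p.elim ![1, 0, 0, 0]
    fun a => ![a.1 * a.2 + a.1 ^ (2 ^ (m + 1) + 2) + a.2 ^ (2 ^ (m + 1)), a.2, a.1, 1]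
  have h0 : ∀ p, f p ≠ 0 := by
    rintro (_ | a) h
    exacts [by simpa [f] using congrFun h 0, by simpa [f] using congrFun h 3]
  rw [← Nat.card_eq_fintype_card, sq, ← Nat.card_prod, ← Finite.card_option]
  refine (Nat.card_congr (Equiv.ofBijective (fun p => (⟨.mk F _ (h0 p), _, h0 p, rfl, ?_⟩ : Cfsg.suzukiOvoid F m))
    ⟨fun p q e => ?_, ?_⟩)).symm
  · rcases p with _ | a
    exacts [.inl rfl, .inr ⟨_, _, rfl⟩]
  · obtain ⟨c, h⟩ := (Projectivization.mk_eq_mk_iff' ..).1 (congrArg Subtype.val e)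
    have h0 := congrFun h 0
    have h1 := congrFun h 1
    have h2 := congrFun h 2
    have h3 := congrFun h 3
    rcases p with _ | ⟨a, b⟩ <;> rcases q with _ | ⟨a', b'⟩ <;> simp [f] at h0 h1 h2 h3
    · rfl
    · simp [h3] at h0
    · simp [h3, ← h1, ← h2]
  · rintro ⟨_, _, hv, rfl, rfl | ⟨x, y, rfl⟩⟩
    exacts [⟨none, rfl⟩, ⟨some (x, y), rfl⟩]

end Cfsg.Agent.S0326
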