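import Cfsg.Statements.S0340
import Cfsg.Agent.Lib.Char.RankOne5

set_option autoImplicit false
open Cfsg

namespace Cfsg.Agent.S0340

open Cfsg.Agent.Char

/-- Classification of Zassenhaus groups, simple case, order-level form: a finite simple Zassenhaus group is
isomorphic to `PSL₂(F)` for some finite field `F` or is simple of Suzuki order. -/
theorem result {G Ω : Type*} [Group G] [Finite G] [MulAction G Ω]
    [Finite Ω] (hZ : Cfsg.IsZassenhausGroup G Ω) [IsSimpleGroup G] :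
    (∃ (F : Type) (_ : Field F) (_ : Fintype F), Nonempty (G ≃* Matrix.ProjectiveSpecialLinearGroup (Fin 2) F)) ∨ Cfsg.IsSuzuki G := by
  have := Zass.finite hZ
  obtain ⟨-, -, a, b, hab, -⟩ := hZ.2.2.2.1
  by_cases h : Nat.card Ω - 2 ≤ 2 * Nat.card (Zass.E G a b)
  · obtain ⟨F, _, _, -, h⟩ := Zass.psl_of_simple hZ hab h
    exact Or.inl ⟨F, inferInstance, inferInstance, h⟩
  obtain ⟨U, hK⟩ := Zass.exists_ZK hZ a
  obtain ⟨hU2, ⟨u, v, h1⟩, -⟩ := (Zass.feit_zass hab _ G U rfl hK (Nat.not_even_iff_odd.1 fun e =>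
    h (Zass.le_two_mul_of_even hZ hab e))).resolve_left (by omega)
  obtain ⟨t, -, hS, h2, hD⟩ := RankOne.setup_of_zk hK (even_iff_two_dvd.2 (Solv.dvd_card_of_isPGroup hU2 hK.ne_bot)) hab
  exact Or.inr (RankOne.isSuzuki_zass hS h2 hU2 ⟨u, u.2, v, v.2, fun e => h1 (Subtype.ext e)⟩ hD)

end Cfsg.Agent.S0340
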