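import Cfsg.Statements.S0345
import Cfsg.Agent.Lib.Char.Zass8

set_option autoImplicit false
open Cfsg

namespace Cfsg.Agent.S0345

open Cfsg.Agent.Char

/-- In a finite simple Zassenhaus group the stabiliser `H` of two points `a ≠ b` is cyclic, and some involution
interchanging `a` and `b` inverts every element of `H`. -/
theorem result {G Ω : Type*} [Group G] [Finite G] [MulAction G Ω] [Finite Ω]
    (hZ : Cfsg.IsZassenhausGroup G Ω) [IsSimpleGroup G]
    {a b : Ω} (hab : a ≠ b) :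
    IsCyclic ↥(MulAction.stabilizer G a ⊓ MulAction.stabilizer G b) ∧
      ∃ v : G, orderOf v = 2 ∧ v • a = b ∧ v • b = a ∧ ∀ h ∈ MulAction.stabilizer G a ⊓ MulAction.stabilizer G b, v * h * v⁻¹ = h⁻¹ := by
  open Zass in
  obtain ⟨v, h1, h2, h3⟩ := exists_swap hZ hab
  rcases Nat.even_or_odd (Nat.card (E G a b)) with he | ho
  · have hc := (cases_of_le hZ hab (le_two_mul_of_even hZ hab he)).resolve_left
      fun hc => not_simple hZ hab hc he inferInstance
    have h4 := inverts_of_half hZ hab hc h2 h3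
    obtain ⟨H, hK⟩ := exists_ZK hZ a
    have hX : Transfer.FC.FR (E G a b) := .of_fpf (hK.normalizer_eq ▸ inf_le_left) hK.ne_bot
      ((E G a b).one_lt_card_iff_ne_bot.1 (one_lt_card_E hZ hab)) (hK.fpf hab)
    exact ⟨hX.cyc_top ⟨⟨fun x y => Subtype.ext (Coord.comm h4 _ x.2 _ y.2)⟩⟩, v, h1, h2, h3, h4⟩
  · exact ⟨(inverts_simple hZ hab ho).1, v, h1, h2, h3, (inverts_simple hZ hab ho).2 v h2 h3⟩

end Cfsg.Agent.S0345
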