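import Cfsg.Statements.S0353
import Cfsg.Agent.Lib.Steiner.Code

set_option autoImplicit false
open Cfsg

namespace Cfsg.Agent.S0353

set_option linter.unusedSectionVars false
set_option linter.unusedVariables false
set_option linter.style.haveILetI false
set_option linter.unusedSimpArgs false

open Cfsg.Agent.Steiner Cfsg.Agent.Spor Finset

/-- In an S(5, 8, 24), the symmetric difference of two blocks meeting in four points is a block. -/
theorem result {α : Type*} [Fintype α] [DecidableEq α] (hα : Fintype.card α = 24) {B : Set (Finset α)} (hB : Cfsg.IsSteinerSystem 5 8 B) {b c : Finset α} (hb : b ∈ B) (hc : c ∈ B) (h4 : (b ∩ c).card = 4) : symmDiff b c ∈ B := by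
  obtain ⟨j, h⟩ := emb24 hα hB
  have h1 := card_symmDiff' b c
  rw [hB.1 b hb, hB.1 c hc] at h1
  rw [h.mem, union_empty, mem_octads] at hb hc ⊢
  refine ⟨?_, by rw [card_map]; omega⟩
  rw [map_eq_image, image_symmDiff _ _ j.injective, ← map_eq_image, ← map_eq_image]
  exact symmDiff_mem_gC hb.1 hc.1

end Cfsg.Agent.S0353
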