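import Cfsg.Statements.S0358
import Cfsg.Agent.Lib.Spor.Trans

set_option autoImplicit false
open Cfsg

namespace Cfsg.Agent.S0358

open Cfsg.Agent.Spor Cfsg.Agent.PC

/-- The length-24 code built from the squares modulo 23 has dimension 12 over the field with two elements. -/
theorem result : Module.finrank (ZMod 2) Cfsg.golayCode = 12 := by
  have h : Nat.card Cfsg.golayCode = 4096 := by
    have e : (Cfsg.golayCode : Set (Cfsg.GolayPt → ZMod 2)) = (fun k => wd (cw k)) '' Set.Iio 4096 := by
      ext w
      exact ⟨fun h => exists_cw_of_mem h, fun ⟨k, hk, e⟩ => e ▸ wd_cw hk⟩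
    have hi : Inj (fun k => wd (cw k)) 4096 := fun i hi j hj h =>
      cwd_inj i hi j hj (by rw [cwd, cwd, ← support_wd, ← support_wd]; exact congrArg _ h)
    rw [← hi.ncard_Iio, ← e]; rfl
  have h2 := Module.natCard_eq_pow_finrank (K := ZMod 2) (V := Cfsg.golayCode)
  rw [h, Nat.card_zmod] at h2
  exact (Nat.pow_right_injective (a := 2) le_rfl (show 2 ^ 12 = _ from h2)).symm

end Cfsg.Agent.S0358
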