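import Cfsg.Statements.S0362
import Cfsg.Agent.Lib.Spor.Key2

set_option autoImplicit false
open Cfsg

namespace Cfsg.Agent.S0362

open Cfsg.Agent.Spor Cfsg.Agent.PC
theorem sum_wd (a b : ℕ) : ∑ i, wd a i * wd b i = ((bset a ∩ bset b).card : ZMod 2) := by
  rw [← bset_and, bset, Finset.card_filter, Nat.cast_sum]
  refine Finset.sum_congr rfl fun p _ => ?_
  simp only [wd, Nat.testBit_and]
  cases a.testBit (gi p) <;> cases b.testBit (gi p) <;> simp

/-- The length-24 code is self-orthogonal: the dot product over ZMod 2 of any two of its words vanishes (with dimension 12 this makes it self-dual). -/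
theorem result (v w : Cfsg.GolayPt → ZMod 2) (hv : v ∈ Cfsg.golayCode) (hw : w ∈ Cfsg.golayCode) : ∑ i, v i * w i = 0 := by
  obtain ⟨a, -, rfl⟩ := exists_wd v
  obtain ⟨b, -, rfl⟩ := exists_wd w
  rw [← support_mem_gC, support_wd] at hv hw
  have h1 := card_symmDiff (bset a) (bset b)
  have h2 := card_of_mem_gC hv
  have h3 := card_of_mem_gC hw
  have h4 := card_of_mem_gC (symmDiff_mem_gC hv hw)
  rw [sum_wd, ZMod.natCast_eq_zero_iff]
  omega

end Cfsg.Agent.S0362
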