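import Cfsg.Statements.S0369
import Cfsg.Agent.Lib.Spor.Trans

set_option autoImplicit false
open Cfsg

namespace Cfsg.Agent.S0369

open Cfsg.Agent.Spor Cfsg.Agent.PC MulAction
open scoped Pointwise

/-- The group of the length-24 code coincides with the automorphism group of its octad system. -/
theorem result : Cfsg.M24 = Cfsg.setSystemAut Cfsg.octads := by
  ext g
  constructor
  · intro h
    rw [mem_stabilizer_iff]
    refine Set.eq_of_subset_of_ncard_le ?_ ?_ (Set.toFinite _)
    · rintro _ ⟨s, hs, rfl⟩; exact (smul_mem_octads ⟨g, h⟩).mpr hs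
    · rw [Set.ncard_smul_set]
  · intro h
    refine mem_M24_of_basis fun b hb => ?_
    have : bset b ∈ Cfsg.octads := bset_oct (by revert b; decide +kernel)
    rw [← mem_stabilizer_iff.mp h] at this
    rw [mem_stabilizer_iff] at h
    have h2 : g • bset b ∈ Cfsg.octads := by
      rw [← h]; exact Set.smul_mem_smul_set (h ▸ this)
    exact h2.1

end Cfsg.Agent.S0369
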