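import Cfsg.Statements.S0371
import Cfsg.Agent.Lib.Spor.Key2

set_option autoImplicit false
open Cfsg

namespace Cfsg.Agent.S0371

open Cfsg.Agent.Spor Cfsg.Agent.PC
theorem pm_beta : pm 0xbd6717b56939461b52507314831040 = Equiv.optionCongr (Units.mulLeft (Units.mkOfMulEqOne (2 : ZMod 23) 12 (by decide))) := by
  have h : Valid 0xbd6717b56939461b52507314831040 := by unfold Valid; decide +kernel
  ext1 p; rw [h.pm_apply]; revert p; decide +kernel

/-- Multiplication by a nonzero square residue modulo 23, fixing the extra point, lies in the group of the length-24 code. -/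
theorem result (u : (ZMod 23)ˣ) (hu : IsSquare u) : Equiv.optionCongr (Units.mulLeft u) ∈ Cfsg.M24 := by
  let b : (ZMod 23)ˣ := Units.mkOfMulEqOne (2 : ZMod 23) 12 (by decide)
  have hb : Equiv.optionCongr (Units.mulLeft b) ∈ Cfsg.M24 := pm_beta ▸ mem_of_okE (by decide +kernel)
  have hk : ∀ k : ℕ, Equiv.optionCongr (Units.mulLeft (b ^ k)) ∈ Cfsg.M24 := by
    intro k
    induction k with
    | zero =>
      have : Equiv.optionCongr (Units.mulLeft (b ^ 0)) = 1 := by ext1 p; cases p <;> simp
      rw [this]; exact one_mem _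
    | succ k ih =>
      have : Equiv.optionCongr (Units.mulLeft (b ^ (k + 1))) =
          Equiv.optionCongr (Units.mulLeft (b ^ k)) * Equiv.optionCongr (Units.mulLeft b) := by
        ext1 p; cases p <;> simp [pow_succ, mul_assoc]
      rw [this]; exact mul_mem ih hb
  obtain ⟨r, rfl⟩ := hu
  have h : ∀ x : ZMod 23, x ≠ 0 → ∃ k < 11, x * x = 2 ^ k := by decide +kernel
  have : Fact (1 < 23) := ⟨by norm_num⟩
  obtain ⟨k, -, e⟩ := h r r.ne_zero
  have : r * r = b ^ k := Units.ext (by simpa [b] using e)
  rw [this]; exact hk k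

end Cfsg.Agent.S0371
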