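import Cfsg.Statements.S0379
import Cfsg.Agent.Lib.Spor.Trans

set_option autoImplicit false
open Cfsg

namespace Cfsg.Agent.S0379

open Cfsg.Agent.Spor Cfsg.Agent.PC

/-- A two-point stabiliser in the group of the length-24 code is simple. -/
theorem result (p q : Cfsg.GolayPt) (hpq : p ≠ q) : IsSimpleGroup ↥(MulAction.stabilizer Cfsg.M24 p ⊓ MulAction.stabilizer Cfsg.M24 q) := by
  obtain ⟨g, rfl, rfl⟩ := map2 (a := gp 23) (b := gp 0) (by decide) hpq
  have := simple22
  exact (conjEquiv g (H := MulAction.stabilizer Cfsg.M24 (gp 23) ⊓ MulAction.stabilizer Cfsg.M24 (gp 0))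
    fun a => by simp only [Subgroup.mem_inf, conj_mem_stab]).symm.isSimpleGroup

end Cfsg.Agent.S0379
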