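import Cfsg.Statements.S0380
import Cfsg.Agent.Lib.Spor.Iso2

set_option autoImplicit false
open Cfsg

namespace Cfsg.Agent.S0380

set_option linter.unusedSectionVars false
set_option linter.unusedVariables false
set_option linter.style.haveILetI false
set_option linter.unusedSimpArgs false

open Cfsg.Agent.Spor Cfsg.Agent.PC MulAction Finset Matrix
abbrev F4 : Type := QuadraticAlgebra (ZMod 2) 1 1
instance : Fact (∀ r : ZMod 2, r ^ 2 ≠ 1 + 1 * r) := ⟨by decide⟩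
instance : Fintype F4 := Fintype.ofEquiv _ (QuadraticAlgebra.equivProd 1 1).symm
instance : DecidableEq F4 := (QuadraticAlgebra.equivProd 1 1).decidableEq
def w : F4 := ⟨0, 1⟩
def v : F4 := ⟨1, 1⟩
def C (j : ℕ) : ℕ := cds (nat_lit 0xbd2cf185ae41ccc82ea59093124d40bc4d23bcb422d0c1b95614db04d420ba4ceaa20f8b68c90cab3ceca20820bce11b4a952a4cc58dc8235e750820b95467c9a39922c5d4e84d2ce80820bd1d68ca696d5ec59208194ca38820bc269ac9d65448c5be8831c6d28820) j
theorem C_ok : FamI C 7 := by decide +kernel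
def cV0 (i : ℕ) : ℕ := Nat.land (Nat.shiftRight (nat_lit 0x1465a4d56185e26da69676258d499881) (Nat.mul (nat_lit 6) i)) (nat_lit 63)
def cV1 (i : ℕ) : ℕ := Nat.land (Nat.shiftRight (nat_lit 0xc6185d05913966135d965a3e16a0040) (Nat.mul (nat_lit 6) i)) (nat_lit 63)
def cV2 (i : ℕ) : ℕ := Nat.land (Nat.shiftRight (nat_lit 0xb90400) (Nat.mul (nat_lit 5) i)) (nat_lit 31)
def cV3 (i : ℕ) : ℕ := Nat.land (Nat.shiftRight (nat_lit 0x8c62f0fc5e7561308c42000000) (Nat.mul (nat_lit 5) i)) (nat_lit 31)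
noncomputable def cL : List Lev := [⟨nat_lit 0, nat_lit 21, nat_lit 6, cV0⟩, ⟨nat_lit 1, nat_lit 20, nat_lit 5, cV1⟩, ⟨nat_lit 2, nat_lit 3, nat_lit 4, cV2⟩, ⟨nat_lit 5, nat_lit 16, nat_lit 0, cV3⟩]
def T0_t : TN := (TN.node (TN.node (TN.leaf (nat_lit 0x41ee6d2728a0e62b16a49062080a63a12a5b1ae7c2329d0831040d73e1194e8531d0952d8418820)) (TN.leaf (nat_lit 0x11b431e6f0c065945027012c))) (TN.node (TN.leaf (nat_lit 0x52c221916c4aa72a45ed740c541c148ce4c4ad4829cd06bdc220c207360f94693315075258b20c41)) (TN.leaf (nat_lit 0x0))))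
noncomputable def T0 (i : ℕ) : ℕ := get2 T0_t (nat_lit 5) (nat_lit 31) i
noncomputable def T (j c : ℕ) : ℕ := T0 (Nat.add (Nat.mul (nat_lit 21) j) c)
def σ (i : ℕ) : ℕ := Nat.land (Nat.shiftRight (nat_lit 0x76ba89890c554e16abc725a041) (Nat.mul (nat_lit 5) i)) (nat_lit 31)
def ι (i : ℕ) : ℕ := Nat.land (Nat.shiftRight (nat_lit 0x20f1511e934a601ae02a358e28400) (Nat.mul (nat_lit 5) i)) (nat_lit 31)
def ML : List (Matrix (Fin 3) (Fin 3) F4) := [!![1, 0, 0; 1, 1, 0; v, 0, 1], !![1, 0, 0; v, 1, 0; v, 0, 1], !![1, 0, 0; 1, 1, 0; 0, 0, 1], !![1, 0, 0; 1, 1, 0; w, 0, 1], !![1, 0, 0; w, w, 0; 1, 0, v], !![1, w, 0; w, 0, 0; v, v, w], !![1, v, 1; w, v, 1; 1, v, w]]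
def VL : List (Fin 3 → F4) := [![0, 0, 1], ![0, 1, 0], ![0, 1, 1], ![0, 1, w], ![0, 1, v], ![1, 0, 0], ![1, 0, 1], ![1, 0, w], ![1, 0, v], ![1, 1, 0], ![1, 1, 1], ![1, 1, w], ![1, 1, v], ![1, w, 0], ![1, w, 1], ![1, w, w], ![1, w, v], ![1, v, 0], ![1, v, 1], ![1, v, w], ![1, v, v]]

/-- A three-point stabiliser in the group of the length-24 code is isomorphic to PSL(3, F) for the field F with 4 elements. -/
theorem result (p q r : Cfsg.GolayPt) (hpq : p ≠ q) (hpr : p ≠ r) (hqr : q ≠ r) (F : Type) [Field F] [Fintype F] (hF : Fintype.card F = 4) : Nonempty (↥(MulAction.stabilizer Cfsg.M24 p ⊓ MulAction.stabilizer Cfsg.M24 q ⊓ MulAction.stabilizer Cfsg.M24 r) ≃* Matrix.ProjectiveSpecialLinearGroup (Fin 3) F) := by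
  have hv : ∀ c, VL.getD c 1 ≠ 0 := getD_prop (P := (· ≠ 0)) (by decide +kernel)
  have hM : ∀ j, (ML.getD j 1).det = 1 := getD_all (det · = 1) (by decide +kernel)
  have c := S0243.result hF 3 (by norm_num)
  let f : F4 ≃+* F := FiniteField.ringEquivOfCardEq (hF ▸ rfl)
  obtain ⟨a, a1, a2, a3⟩ := map3 (a := gp 23) (b := gp 0) (c := gp 12) (by decide) (by decide) (by decide) hpq hpr hqr
  obtain ⟨e⟩ := iso_cert (C_ok.ok.repsP.res σ 21 T (by decide +kernel)) (psl_reps f.toRingHom hv hM (by decide +kernel))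
    (gp_inj.res σ ι 21 (by decide +kernel)) (psl_inj f hv (by decide +kernel)) 7 cL (k := 20160) (by decide +kernel)
    (le_inf (le_inf (gen_le_stabP C_ok.ok 23 (by norm_num) (by decide +kernel)) (gen_le_stabP C_ok.ok 0 (by norm_num)
      (by decide +kernel))) (gen_le_stabP C_ok.ok 12 (by norm_num) (by decide +kernel))) card21 (by
      norm_num [Fin.prod_univ_three] at c; omega) (by norm_num)
  exact ⟨(conjEquiv a fun g => and_congr (and_congr (cst a1) (cst a2)) (cst a3)).symm.trans e⟩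

end Cfsg.Agent.S0380
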