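import Cfsg.Statements.S0381
import Cfsg.Agent.Lib.Spor.Six

set_option autoImplicit false
open Cfsg

namespace Cfsg.Agent.S0381

set_option linter.unusedSectionVars false
set_option linter.unusedVariables false
set_option linter.style.haveILetI false
set_option linter.unusedSimpArgs false

open Cfsg.Agent.Spor Cfsg.Agent.PC in

/-- The pointwise stabiliser of an octad in the group of the length-24 code has order 16 and every element of it squares to the identity. -/
theorem result (o : Finset Cfsg.GolayPt) (ho : o ∈ Cfsg.octads) : Nat.card ↥(Cfsg.M24 ⊓ fixingSubgroup (Equiv.Perm Cfsg.GolayPt) (o : Set Cfsg.GolayPt)) = 16 ∧ ∀ g ∈ Cfsg.M24 ⊓ fixingSubgroup (Equiv.Perm Cfsg.GolayPt) (o : Set Cfsg.GolayPt), g * g = 1 := by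
  refine ⟨(Nat.card_congr (Equiv.subtypeEquivRight fun g => ?_)).trans ((card_M24_sub fun g => ∀ p ∈ o, g p = p).trans
    (card_fix_oct ho)), fun g hg => ?_⟩
  · rw [Subgroup.mem_inf, mem_fixingSubgroup_iff]; rfl
  · have s : o ⊆ Fx ⟨g, hg.1⟩ := fun p hp => mem_Fx.2 ((mem_fixingSubgroup_iff _).1 hg.2 p hp)
    have c := (mem_octads.1 ho).2 ▸ Finset.card_le_card s
    rcases fix5 (g := ⟨g, hg.1⟩) (by omega) with e | e | e
    · rw [show g = 1 from congrArg Subtype.val e, one_mul]
    · exact congrArg Subtype.val e.2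
    · omega

end Cfsg.Agent.S0381
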