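import Cfsg.Statements.S0385
import Cfsg.Agent.Lib.Spor.M12

set_option autoImplicit false
open Cfsg

namespace Cfsg.Agent.S0385

open Cfsg.Agent.Spor Cfsg.Agent.PC MulAction
open scoped Pointwise

/-- The 6-point intersections of octads with a fixed dodecad form a Steiner system S(5, 6, 12) on the dodecad. -/
theorem result (d : Finset Cfsg.GolayPt) (hd : d ∈ Cfsg.dodecads) : Cfsg.IsSteinerSystem 5 6 {h : Finset {p : Cfsg.GolayPt // p ∈ d} | ∃ o ∈ Cfsg.octads, (o ∩ d).card = 6 ∧ h = Finset.subtype (fun p => p ∈ d) o} := by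
  refine ⟨?_, fun s hs => ?_⟩
  · rintro _ ⟨o, -, h, rfl⟩
    rw [Finset.card_subtype, Finset.filter_mem_eq_inter, h]
  · obtain ⟨o, ⟨ho, h⟩, hu⟩ := steiner_octads.2 (s.map (Function.Embedding.subtype _)) (by simpa using hs)
    have h5 : 5 ≤ (o ∩ d).card := by
      rw [← hs, ← Finset.card_map (Function.Embedding.subtype _)]
      refine Finset.card_le_card (Finset.subset_inter h ?_)
      intro p hp
      obtain ⟨q, -, rfl⟩ := Finset.mem_map.mp hp
      exact q.2
    have h1 := card_symmDiff o d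
    have h2 := card_of_mem_gC (symmDiff_mem_gC ho.1 hd.1)
    have h3 := Finset.card_le_card (Finset.inter_subset_left (s₁ := o) (s₂ := d))
    rw [ho.2, hd.2] at h1
    rw [ho.2] at h3
    refine ⟨_, ⟨⟨o, ho, by omega, rfl⟩, fun p hp => ?_⟩, ?_⟩
    · rw [Finset.mem_subtype]; exact h (Finset.mem_map_of_mem _ hp)
    · rintro _ ⟨⟨o', ho', -, rfl⟩, h'⟩
      rw [hu o' ⟨ho', fun p hp => ?_⟩]
      obtain ⟨q, hq, rfl⟩ := Finset.mem_map.mp hp
      exact Finset.mem_subtype.mp (h' hq)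

end Cfsg.Agent.S0385
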