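import Cfsg.Statements.S0386
import Cfsg.Agent.Lib.Spor.Key2

set_option autoImplicit false
open Cfsg

namespace Cfsg.Agent.S0386

open Cfsg.Agent.Spor Cfsg.Agent.PC MulAction
open scoped Pointwise

/-- For a fixed dodecad, 132 octads meet it in 6 points, 132 in 2 points and 495 in 4 points. -/
theorem result (d : Finset Cfsg.GolayPt) (hd : d ∈ Cfsg.dodecads) : {o : Finset Cfsg.GolayPt | o ∈ Cfsg.octads ∧ (o ∩ d).card = 6}.ncard = 132 ∧ {o : Finset Cfsg.GolayPt | o ∈ Cfsg.octads ∧ (o ∩ d).card = 2}.ncard = 132 ∧ {o : Finset Cfsg.GolayPt | o ∈ Cfsg.octads ∧ (o ∩ d).card = 4}.ncard = 495 := by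
  obtain ⟨a, rfl⟩ := dod_trans (bset_dod (n := 340831) (by decide +kernel)) hd
  refine ⟨?_, ?_, ?_⟩
  · rw [ncard_pre a]
    refine cntC 8 0 0 340831 0 6 0 (by norm_num) (by norm_num) (fun s => ?_) (by decide +kernel)
    simp only [Set.mem_setOf_eq, smul_mem_octads, smul_mem_dodecads, ← Finset.smul_finset_inter, Finset.card_smul_finset, Finset.smul_mem_smul_finset_iff]
    rw [Finset.inter_comm]
    simp only [mem_octads, mem_dodecads, J11, J10, J1, J0, inter_bset_zero, bset_zero_inter, and_assoc, true_and, and_true]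
  · rw [ncard_pre a]
    refine cntC 8 0 0 340831 0 2 0 (by norm_num) (by norm_num) (fun s => ?_) (by decide +kernel)
    simp only [Set.mem_setOf_eq, smul_mem_octads, smul_mem_dodecads, ← Finset.smul_finset_inter, Finset.card_smul_finset, Finset.smul_mem_smul_finset_iff]
    rw [Finset.inter_comm]
    simp only [mem_octads, mem_dodecads, J11, J10, J1, J0, inter_bset_zero, bset_zero_inter, and_assoc, true_and, and_true]
  · rw [ncard_pre a]
    refine cntC 8 0 0 340831 0 4 0 (by norm_num) (by norm_num) (fun s => ?_) (by decide +kernel)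
    simp only [Set.mem_setOf_eq, smul_mem_octads, smul_mem_dodecads, ← Finset.smul_finset_inter, Finset.card_smul_finset, Finset.smul_mem_smul_finset_iff]
    rw [Finset.inter_comm]
    simp only [mem_octads, mem_dodecads, J11, J10, J1, J0, inter_bset_zero, bset_zero_inter, and_assoc, true_and, and_true]

end Cfsg.Agent.S0386
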