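import Cfsg.Statements.S0388
import Cfsg.Agent.Lib.Spor.M12

set_option autoImplicit false
open scoped Pointwise
open Cfsg

namespace Cfsg.Agent.S0388

open Cfsg.Agent.Spor Cfsg.Agent.PC MulAction
open scoped Pointwise

/-- The stabiliser of a dodecad and a point on it is simple. -/
theorem result (d : Finset Cfsg.GolayPt) (hd : d ∈ Cfsg.dodecads) (p : Cfsg.GolayPt) (hp : p ∈ d) : IsSimpleGroup ↥(MulAction.stabilizer Cfsg.M24 d ⊓ MulAction.stabilizer Cfsg.M24 p) := by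
  obtain ⟨q, hq, r, hr, h1, h2, h3⟩ : ∃ q ∈ d, ∃ r ∈ d, p ≠ q ∧ p ≠ r ∧ q ≠ r := by
    obtain ⟨q, hq, r, hr, h⟩ := Finset.one_lt_card.mp (show 1 < (d.erase p).card by rw [Finset.card_erase_of_mem hp, hd.2]; norm_num)
    rw [Finset.mem_erase] at hq hr
    exact ⟨q, hq.2, r, hr.2, hq.1.symm, hr.1.symm, h⟩
  obtain ⟨a, rfl, rfl, -, -⟩ := m12_map3 hd hp hq hr h1 h2 h3
  have := simple11
  exact (conjEquiv a (H := stabilizer Cfsg.M24 (bset 340831) ⊓ stabilizer Cfsg.M24 (gp 0))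
    (fun b => and_congr (conj_mem_stab a b _) (conj_mem_stab a b _))).symm.isSimpleGroup

end Cfsg.Agent.S0388
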