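import Cfsg.Statements.S0389
import Cfsg.Agent.Lib.Spor.M12

set_option autoImplicit false
open scoped Pointwise
open Cfsg

namespace Cfsg.Agent.S0389

open Cfsg.Agent.Spor Cfsg.Agent.PC MulAction
open scoped Pointwise

/-- The stabiliser of a dodecad and a point on it is 3-transitive on the complementary dodecad. -/
theorem result (d : Finset Cfsg.GolayPt) (hd : d ∈ Cfsg.dodecads) (p : Cfsg.GolayPt) (hp : p ∈ d) (x y : Fin 3 ↪ Cfsg.GolayPt) (hx : ∀ i, x i ∉ d) (hy : ∀ i, y i ∉ d) : ∃ g ∈ MulAction.stabilizer Cfsg.M24 d ⊓ MulAction.stabilizer Cfsg.M24 p, ∀ i, (g : Equiv.Perm Cfsg.GolayPt) (x i) = y i := by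
  obtain ⟨q, hq, r, hr, h1, h2, h3⟩ : ∃ q ∈ d, ∃ r ∈ d, p ≠ q ∧ p ≠ r ∧ q ≠ r := by
    obtain ⟨q, hq, r, hr, h⟩ := Finset.one_lt_card.mp (show 1 < (d.erase p).card by rw [Finset.card_erase_of_mem hp, hd.2]; norm_num)
    rw [Finset.mem_erase] at hq hr
    exact ⟨q, hq.2, r, hr.2, hq.1.symm, hr.1.symm, h⟩
  obtain ⟨a, rfl, rfl, -, -⟩ := m12_map3 hd hp hq hr h1 h2 h3
  obtain ⟨g, hg, h⟩ := m11_trans3 (trE a⁻¹ x) (trE a⁻¹ y) (fun i h => hx i (Finset.inv_smul_mem_iff.mp h))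
    (fun i h => hy i (Finset.inv_smul_mem_iff.mp h))
  refine ⟨a * g * a⁻¹, ⟨(conj_mem_stab a g _).mpr hg.1, (conj_mem_stab a g _).mpr hg.2⟩, fun i => ?_⟩
  have := h i
  rw [trE_apply, trE_apply] at this
  show (a * g * a⁻¹) • x i = y i
  rw [mul_smul, mul_smul, this, smul_inv_smul]

end Cfsg.Agent.S0389
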