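import Cfsg.Statements.S0412
import Cfsg.Agent.Lib.Steiner.Aut

set_option autoImplicit false
open Cfsg

namespace Cfsg.Agent.S0412

set_option linter.unusedSectionVars false
set_option linter.unusedVariables false
set_option linter.style.haveILetI false
set_option linter.unusedSimpArgs false

open Cfsg.Agent.Steiner Cfsg.Agent.Spor Finset

/-- Aut of an S(5, 8, 24) is simple of order 244823040 and 5-transitive on points. -/
theorem result {α : Type*} [Fintype α] [DecidableEq α] (hα : Fintype.card α = 24) {B : Set (Finset α)} (hB : Cfsg.IsSteinerSystem 5 8 B) : Cfsg.IsM24 (Cfsg.setSystemAut B) ∧ MulAction.IsMultiplyPretransitive (Cfsg.setSystemAut B) α 5 := by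
  obtain ⟨j, h⟩ := emb24 hα hB
  obtain ⟨e⟩ := h.equiv' (empty_subset _) ⊤ (by simp)
  have e' := Subgroup.topEquiv.symm.trans e
  have := simple24
  exact ⟨⟨e'.symm.isSimpleGroup, by rw [← Nat.card_congr e'.toEquiv, card_M24]⟩, h.trans (by simp)⟩

end Cfsg.Agent.S0412
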