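import Cfsg.Statements.S0423
import Cfsg.Agent.Lib.J2.Mod

set_option autoImplicit false
open Cfsg

namespace Cfsg.Agent.S0423
open scoped Pointwise

set_option linter.unusedSectionVars false
set_option linter.unusedVariables false
set_option linter.style.haveILetI false
set_option linter.unusedSimpArgs false

/-- Existence of a simple group of order 604800. -/
theorem result : ∃ G : Subgroup (Equiv.Perm (Fin 100)), Cfsg.IsJ2 G := by
  obtain ⟨h, -⟩ := J2.ch.quot rfl J2.hs rfl
  generalize MulAction.stabilizer Cfsg.Spor.J2 (J2.pt2 J2.l0.β) = H at h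
  have := J2.simple
  have e : (Cfsg.Spor.J2 ⧸ H) ≃ Fin 100 := Finite.equivFinOfCardEq h
  let φ : Cfsg.Spor.J2 →* Equiv.Perm (Fin 100) := e.permCongrHom.toMonoidHom.comp (MulAction.toPermHom _ (Cfsg.Spor.J2 ⧸ H))
  have hφ : Function.Injective φ := by
    refine e.permCongrHom.injective.comp ((MonoidHom.ker_eq_bot_iff _).1 ?_)
    rw [← Subgroup.normalCore_eq_ker]
    refine (Subgroup.normalCore_normal H).eq_bot_or_eq_top.resolve_right fun t => ?_
    rw [show H = ⊤ from eq_top_iff.2 (t ▸ H.normalCore_le), Subgroup.index_top] at h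
    norm_num at h
  have i := MonoidHom.ofInjective hφ
  exact ⟨φ.range, i.symm.isSimpleGroup, (Nat.card_congr i.symm.toEquiv).trans J2.card⟩

end Cfsg.Agent.S0423
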