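import Cfsg.Statements.S0427
import Cfsg.Agent.Lib.Steiner.HS

set_option autoImplicit false
open Cfsg

namespace Cfsg.Agent.S0427

set_option linter.unusedSectionVars false
set_option linter.unusedVariables false
set_option linter.style.haveILetI false
set_option linter.unusedSimpArgs false

open Cfsg.Agent.Steiner

/-- The block graph (adjacent = disjoint) of an S(3, 6, 22) is strongly regular with parameters (77, 16, 0, 4). -/
theorem result {α : Type*} [Fintype α] (hα : Fintype.card α = 22) {B : Set (Finset α)} (hB : Cfsg.IsSteinerSystem 3 6 B) [Fintype B] [DecidableRel (Cfsg.blockGraph B).Adj] : (Cfsg.blockGraph B).IsSRGWith 77 16 0 4 := by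
  classical
  refine srg_of ?_ (fun b => ?_) fun b c h => ?_
  · rw [← n77 hα hB, ← ncard_sub]; simp
  · simp only [blockGraph_adj hB]
    exact (ncard_sub (Disjoint b.1 ·)).trans (n16 hα hB b.2)
  · simp only [blockGraph_adj hB]
    refine (ncard_sub fun d => Disjoint b.1 d ∧ Disjoint c.1 d).trans ?_
    rw [n2i hα hB b.2 c.2 fun h' => h (Subtype.ext h')]

end Cfsg.Agent.S0427
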