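import Cfsg.Statements.S0432
import Cfsg.Agent.Lib.Spor.Key2

set_option autoImplicit false
open Cfsg

namespace Cfsg.Agent.S0432

open Cfsg.Agent.Spor Cfsg.Agent.PC
open scoped Pointwise

/-- Coordinate permutations from the code's group preserve the lattice. -/
theorem result (σ : Equiv.Perm Cfsg.GolayPt) (hσ : σ ∈ Cfsg.M24) (x : Cfsg.GolayPt → ℤ) (hx : x ∈ Cfsg.leechLattice) : (fun i => x (σ i)) ∈ Cfsg.leechLattice := by
  induction hx using AddSubgroup.closure_induction with
  | mem x hx =>
    obtain ⟨m, h1, h2, h3⟩ := hx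
    refine AddSubgroup.subset_closure ⟨m, fun i => h1 _, ?_, fun k => ?_⟩
    · rwa [Equiv.sum_comp σ x]
    · have := smul_mem_gC (inv_mem hσ) (h3 k)
      convert this using 1
      ext p
      rw [Finset.mem_inv_smul_finset_iff]
      simp
  | zero => exact zero_mem _
  | add x y _ _ hx hy => exact add_mem hx hy
  | neg x _ hx => exact neg_mem hx

end Cfsg.Agent.S0432
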