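import Cfsg.Statements.S0439

set_option autoImplicit false
open Cfsg

namespace Cfsg.Agent.S0439

open Equiv Equiv.Perm in
theorem swap_mul_swap_pow {α : Type*} [Fintype α] [DecidableEq α] {a b c : α} (h1 : a ≠ b) (h2 : a ≠ c) :
    (swap a b * swap a c) ^ 3 = 1 ∨ (swap a b * swap a c) ^ 2 = 1 := by
  by_cases h : b = c
  · subst h; right; simp
  · left
    rw [← (isThreeCycle_swap_mul_swap_same h1 h2 h).orderOf, pow_orderOf_eq_one]


/-- In the symmetric group of degree n ≥ 2, the set of transpositions is a conjugacy class of 3-transpositions which generates the group. -/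
theorem result (n : ℕ) (hn : 2 ≤ n) : Cfsg.IsThreeTranspositionClass {σ : Equiv.Perm (Fin n) | σ.IsSwap} := by
  refine ⟨⟨fun d hd => ?_, ?_⟩, ⟨Equiv.swap ⟨0, by omega⟩ ⟨1, by omega⟩, ⟨_, _, by simp, rfl⟩, ?_⟩, Equiv.Perm.closure_isSwap⟩
  · obtain ⟨a, b, h, rfl⟩ := hd
    exact orderOf_eq_prime (by simp [pow_two]) (by simpa using h)
  · rintro _ ⟨a, b, h, rfl⟩ _ ⟨c, d, h', rfl⟩
    by_cases h1 : a = c
    · subst h1; exact (swap_mul_swap_pow h h').symm
    by_cases h2 : a = d
    · subst h2; rw [Equiv.swap_comm c]; exact (swap_mul_swap_pow h h'.symm).symm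
    by_cases h3 : b = c
    · subst h3; rw [Equiv.swap_comm a]; exact (swap_mul_swap_pow h.symm h').symm
    by_cases h4 : b = d
    · subst h4; rw [Equiv.swap_comm a, Equiv.swap_comm c]; exact (swap_mul_swap_pow h.symm h'.symm).symm
    left
    have : Commute (Equiv.swap a b) (Equiv.swap c d) :=
      (Equiv.Perm.disjoint_swap_swap (by simp [h, h', h1, h2, h3, h4])).commute
    rw [this.mul_pow]
    simp [pow_two]
  · ext σ
    constructor
    · rintro ⟨a, b, h, rfl⟩
      exact Equiv.Perm.isConj_swap (by simp) h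
    · intro h
      obtain ⟨g, rfl⟩ := isConj_iff.1 h
      exact ⟨_, _, g.injective.ne (by simp), (Equiv.swap_apply_apply g _ _).symm⟩

end Cfsg.Agent.S0439
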