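import Cfsg.Statements.S0441
import Cfsg.Agent.Lib.Tr3.Rank

set_option autoImplicit false
open Cfsg

namespace Cfsg.Agent.S0441

set_option linter.unusedSectionVars false
set_option linter.unusedVariables false
set_option linter.style.haveILetI false
set_option linter.unusedSimpArgs false

open Cfsg.Agent.Tr3 Cfsg.Agent.Comp Subgroup

/-- Fischer's rank-three property. Let a finite group be generated by a conjugacy class D of 3-transpositions, with non-abelian simple commutator subgroup. Then for a in D there are members of D other than a commuting with a and members not commuting with a, and the centraliser of a acts transitively on each of these two sets. -/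
theorem result {G : Type*} [Group G] [Finite G] {D : Set G} (hD : Cfsg.IsThreeTranspositionClass D) (hsimple : IsSimpleGroup (commutator G)) (hnonab : ∃ x y : commutator G, x * y ≠ y * x) {a : G} (ha : a ∈ D) : (∃ b ∈ D, b ≠ a ∧ Commute a b) ∧ (∃ c ∈ D, ¬ Commute a c) ∧ (∀ b ∈ D, ∀ b' ∈ D, b ≠ a → b' ≠ a → Commute a b → Commute a b' → ∃ g : G, Commute g a ∧ g * b * g⁻¹ = b') ∧ (∀ c ∈ D, ∀ c' ∈ D, ¬ Commute a c → ¬ Commute a c' → ∃ g : G, Commute g a ∧ g * c * g⁻¹ = c') := by
  have hN : ∀ N, N ≤ commutator G → commutator G ≤ normalizer (N : Set G) → N = commutator G ∨ N = ⊥ := by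
    intro N h1 h2
    rcases hsimple.eq_bot_or_eq_top_of_normal (N.subgroupOf (commutator G))
      ((normal_subgroupOf_iff_le_normalizer h1).2 h2) with e | e
    · exact Or.inr ((subgroupOf_eq_bot.1 e).eq_bot_of_le h1)
    · exact Or.inl (le_antisymm h1 (subgroupOf_eq_top.1 e))
  have hna : ¬ commutator G ≤ centralizer (commutator G : Set G) := fun hab => by
    obtain ⟨x, y, h⟩ := hnonab
    exact h (Subtype.ext (mem_centralizer_iff.1 (hab y.2) x x.2))
  have hq : QS (commutator G) := by
    refine ⟨(hN _ (commutator_le_left _ _) (le_normalizer_normal _ _)).resolve_right fun e =>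
      hna (commutator_eq_bot_iff_le_centralizer.1 e), fun e => hna (e ▸ bot_le), fun N h1 h2 =>
      (hN N h1 h2).imp_right fun e => e.le.trans bot_le⟩
  have h : PW D := pw_of_qs hD hq (by
    rw [← centralizer_univ, ← coe_top, ← commutator_eq_bot_iff_le_centralizer, eq_bot_iff,
      ← (hN (centralizer (commutator G : Set G) ⊓ commutator G) inf_le_right (le_normalizer_normal _ _)).resolve_left
        fun e => hna (e.ge.trans inf_le_left)]
    exact le_inf (commutator_le_left _ _) (commutator_mono le_top le_rfl))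
  refine ⟨?_, ?_, fun b hb b' hb' h1 h2 h3 h4 => ?_, fun c hc c' hc' h1 h2 => ?_⟩
  · obtain ⟨x, hx, y, hy, h1, h2⟩ := h.w
    obtain ⟨g, rfl⟩ := cls_conj hD hx ha
    exact ⟨_, h.tt.conj g y hy, fun e => h1 (conj_inj'.1 e).symm, commute_conj_iff.2 h2⟩
  · obtain ⟨c, hc, h1⟩ := exists_nc hD h.prim.2.1 ha
    exact ⟨c, hc, fun e => h1 e.symm⟩
  · obtain ⟨g, hg, e⟩ := h.transD ha ⟨hb, h1, h3⟩ ⟨hb', h2, h4⟩
    exact ⟨g, closure_comm (fun x hx => hx.2.2) g hg, e⟩
  · obtain ⟨g, hg, e⟩ := h.transA ha hc hc' h1 h2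
    exact ⟨g, closure_comm (fun x hx => hx.2) g hg, e⟩

end Cfsg.Agent.S0441
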