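import Cfsg.Statements.S0444
import Cfsg.Agent.Lib.PermCert.Cox
import Cfsg.Agent.Lib.Fischer.Fac

set_option autoImplicit false
open Cfsg

namespace Cfsg.Agent.S0444

/-- Two members of a set of 3-transpositions which do not commute generate a subgroup isomorphic to the symmetric group on three letters. -/
theorem result {G : Type*} [Group G] {E : Set G} (hE : Cfsg.IsThreeTranspositionSet E) {d e : G} (hd : d ∈ E) (he : e ∈ E) (h : ¬ Commute d e) : Nonempty (Subgroup.closure ({d, e} : Set G) ≃* Equiv.Perm (Fin 3)) := by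
  obtain ⟨φ, hφ⟩ := PC.CoxA.hom (s := fun i => if i = 0 then d else e) (m := 2)
    ⟨fun i _ => by split_ifs; exacts [Fi.ts_sq hE hd, Fi.ts_sq hE he],
      fun i hi => by obtain rfl : i = 0 := by omega
                     exact Fi.ts_braid hE hd he h, fun i j a b => by omega⟩
  have h0 : φ (PC.sw 2 0) = d := hφ 0 (by omega)
  have h1 : φ (PC.sw 2 1) = e := hφ 1 (by omega)
  have hi := PC.hom_inj (m := 0) φ (by rw [h0, h1]; rintro rfl; exact h (Commute.refl _)) fun h => by omega
  have : φ.range = Subgroup.closure {d, e} := by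
    rw [MonoidHom.range_eq_map, ← PC.gen_sw, PC.gen, MonoidHom.map_closure, Set.image_image]
    congr 1; ext x; constructor
    · rintro ⟨i, hi, rfl⟩
      have : i < 2 := hi
      interval_cases i <;> simp [h0, h1]
    · rintro (rfl | rfl); exacts [⟨0, by simp, h0⟩, ⟨1, by simp, h1⟩]
  exact ⟨this ▸ (MonoidHom.ofInjective hi).symm⟩

end Cfsg.Agent.S0444
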