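import Cfsg.Statements.S0445
import Cfsg.Agent.Lib.PU.Tv1

set_option autoImplicit false
open Cfsg

namespace Cfsg.Agent.S0445

/-- In the special linear group of dimension 5 over the field with two elements, the centraliser of a transvection has order 21504 = 2 ^ 7 · 168 (it is an extension of an extraspecial group of order 2 ^ 7 by the simple group of order 168). -/
theorem result (s : Matrix.SpecialLinearGroup (Fin 5) (ZMod 2)) (hs : (s : Matrix (Fin 5) (Fin 5) (ZMod 2)) = Matrix.transvection 0 1 1) : Nat.card (Subgroup.centralizer ({s} : Set (Matrix.SpecialLinearGroup (Fin 5) (ZMod 2)))) = 21504 := by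
  have h01 : (0 : Fin 5) ≠ 1 := by decide
  have : s = PU.Tv.tv h01 := Subtype.ext hs
  subst this
  have h3 : Fintype.card (PU.Tv.Mid (0 : Fin 5) 1) = 3 := by
    have := PU.Tv.card_mid h01
    rw [Fintype.card_fin] at this; omega
  have h4 := S0242.result (F := ZMod 2) (q := 2) (ZMod.card 2) 3 (by norm_num)
  rw [PU.Tv.card_C PU.Tv.two_zmod h01,
    Nat.card_congr (PU.Tv.slCongr (Fintype.equivFinOfCardEq h3)).toEquiv, h3]
  simp only [Fin.prod_univ_three] at h4
  norm_num at h4
  rw [Nat.card_eq_fintype_card, h4]; norm_num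

end Cfsg.Agent.S0445
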