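import Cfsg.Statements.S0447
import Mathlib
import Cfsg.Agent.Lib.Perm.Spin1
import Cfsg.Agent.Lib.Perm.Dick3

set_option autoImplicit false
open Cfsg

namespace Cfsg.Agent.S0447

open Cfsg.Agent.Perm.Spin Subgroup Equiv Equiv.Perm

theorem inv {K : Type*} [Group K] {s t : K} (e1 : s ^ 2 = 1) (e2 : (s * t) ^ 2 = 1) :
    s * t * s⁻¹ = t⁻¹ := by
  rw [pow_two] at e1 e2
  rw [inv_eq_of_mul_eq_one_right e1, eq_inv_iff_mul_eq_one, mul_assoc (s * t), e2]

theorem split {H G : Type*} [Group H] [Group G] [Finite H] (π : H →* G) (hπ : Function.Surjective π)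
    (hk : π.ker = center H) (h2 : Nat.card (center H) = 2) (hl : ∀ x, π x ^ 2 = 1 → x ^ 2 = 1)
    {r a : G} {m : ℕ} (ho : orderOf r = 2 * m) (h1 : a ^ 2 = 1) (h3 : (a * r) ^ 2 = 1)
    (h4 : a ∉ zpowers r) {k : ℕ} (hc : Nat.card G = 4 * m * k) (hodd : Odd k) :
    ∃ L, (center H).IsComplement' L := by
  classical
  haveI : Finite G := Finite.of_surjective π hπ
  obtain ⟨R, rfl⟩ := hπ r
  obtain ⟨A, rfl⟩ := hπ a
  have A2 := hl A h1
  have AR := inv A2 (hl (A * R) (by rwa [map_mul]))
  have Rm : R ^ (2 * m) = 1 := by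
    rw [mul_comm, pow_mul]; apply hl; rw [map_pow, ← pow_mul, mul_comm, ← ho, pow_orderOf_eq_one]
  set D := closure ({R, A} : Set H)
  have hD : ∀ z ∈ center H, z ∈ D → z = 1 := by
    intro z hz hzD
    rw [← hk, MonoidHom.mem_ker] at hz
    rcases (Perm.GL2.mem_dih AR A2).1 hzD with ⟨i, rfl⟩ | ⟨i, hi⟩
    · simp only [map_zpow] at hz ⊢
      rw [← orderOf_dvd_iff_zpow_eq_one] at hz ⊢
      rw [ho] at hz
      exact (Int.natCast_dvd_natCast.2 (orderOf_dvd_of_pow_eq_one Rm)).trans hz
    · exact absurd ⟨i, by simpa [hz] using congrArg π hi⟩ h4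
  obtain ⟨z, hz1, hz⟩ := (Nat.card_eq_two_iff' (1 : center H)).1 h2
  have zc : ∀ g : H, g * z = z * g := mem_center_iff.1 z.2
  have zD : z.1 ∉ D := fun h => hz1 (Subtype.ext (hD _ z.2 h))
  have zz : z.1 * z = 1 := by
    by_contra h
    have := hz (z * z) (fun e => h (congrArg Subtype.val e))
    exact hz1 (by simpa using this)
  let K : Subgroup H :=
    { carrier := {x | x ∈ D ∨ x * z ∈ D}
      one_mem' := Or.inl (one_mem _)
      mul_mem' := by
        rintro x y (hx | hx) (hy | hy)
        · exact Or.inl (mul_mem hx hy)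
        · exact Or.inr (mul_assoc x y z ▸ mul_mem hx hy)
        · refine Or.inr ?_
          rw [mul_assoc, zc y, ← mul_assoc]; exact mul_mem hx hy
        · refine Or.inl ?_
          have := mul_mem hx hy
          rwa [mul_assoc, zc y, ← mul_assoc z.1, zz, one_mul] at this
      inv_mem' := by
        rintro x (hx | hx)
        · exact Or.inl (inv_mem hx)
        · refine Or.inr ?_
          have := inv_mem hx
          rwa [mul_inv_rev, inv_eq_of_mul_eq_one_right zz, ← zc] at this }
  have nb : ∀ x, x ∈ D → x * z ∉ D := fun x h1 h2 => zD (by simpa using mul_mem (inv_mem h1) h2)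
  let f : K →* ℤˣ := MonoidHom.mk' (fun x => if x.1 ∈ D then 1 else -1) (by
    rintro ⟨x, hx⟩ ⟨y, hy⟩
    by_cases a : x ∈ D <;> by_cases b : y ∈ D
    · simp [a, b, mul_mem a b]
    · have : x * y ∉ D := fun h => b ((mul_mem_cancel_left a).1 h)
      simp [a, b, this]
    · have : x * y ∉ D := fun h => a ((mul_mem_cancel_right b).1 h)
      simp [a, b, this]
    · have := mul_mem (hx.resolve_left a) (hy.resolve_left b)
      rw [mul_assoc, zc y, ← mul_assoc z.1, zz, one_mul] at this
      simp [a, b, this])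
  have hK : Odd K.index := by
    have e1 : π.ker ≤ K := fun x hx => by
      rw [hk] at hx
      by_cases h : x = 1
      · rw [h]; exact one_mem _
      · have := congrArg Subtype.val (hz ⟨x, hx⟩ fun e => h (congrArg Subtype.val e))
        simp only at this
        exact Or.inr (by rw [this, zz]; exact one_mem _)
    rw [← index_map_eq K hπ e1]
    have e2 : closure {π R, π A} ≤ K.map π := by
      rw [closure_le]
      rintro _ (rfl | rfl)
      · exact ⟨R, Or.inl (subset_closure (by simp)), rfl⟩
      · exact ⟨A, Or.inl (subset_closure (by simp)), rfl⟩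
    refine Odd.of_dvd_nat hodd ?_
    have e3 := (closure {π R, π A}).card_mul_index
    rw [Perm.GL2.card_dih (inv h1 h3) h1 h4, ho, hc, ← mul_assoc] at e3
    have : 0 < m := by have := orderOf_pos (π R); omega
    rw [← Nat.eq_of_mul_eq_mul_left (by omega) e3]
    exact index_dvd_of_le e2
  have tz : MonoidHom.transfer f z.1 = -1 := by
    rw [MonoidHom.transfer_eq_pow f z.1 (fun k g _ => by
      rw [mul_assoc, ← (show Commute g z.1 from zc g).pow_right k]; simp)]
    have : z.1 ^ K.index = z := by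
      obtain ⟨j, hj⟩ := hK
      rw [hj, pow_succ, pow_mul, pow_two, zz, one_pow, one_mul]
    change (if z.1 ^ K.index ∈ D then 1 else -1) = _
    rw [this, if_neg zD]
  refine ⟨(MonoidHom.transfer f).ker, isComplement'_of_disjoint_and_mul_eq_univ ?_ ?_⟩
  · rw [disjoint_def]
    intro x hx h
    by_contra e
    have := congrArg Subtype.val (hz ⟨x, hx⟩ fun e' => e (congrArg Subtype.val e'))
    simp only at this
    rw [this, MonoidHom.mem_ker, tz] at h
    exact absurd h (by decide)
  · rw [Set.eq_univ_iff_forall]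
    intro x
    rcases Int.units_eq_one_or (MonoidHom.transfer f x) with h | h
    · exact ⟨1, one_mem _, x, h, one_mul x⟩
    · exact ⟨z, z.2, z * x, by simp [MonoidHom.mem_ker, h, tz], by simp [← mul_assoc, zz]⟩

theorem inv_conj {n : ℕ} (hn : n ≤ 7) {s t : alternatingGroup (Fin n)} (hs : orderOf s = 2)
    (ht : orderOf t = 2) : IsConj s t := by
  have ct : ∀ u : alternatingGroup (Fin n), orderOf u = 2 → u.1.cycleType = {2, 2} := by
    intro u hu
    rw [← Subgroup.orderOf_coe] at hu
    obtain ⟨k, hk⟩ := cycleType_prime_order (hu ▸ Nat.prime_two)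
    rw [hu] at hk
    have h1 := u.1.sum_cycleType_le
    have h2 := mem_alternatingGroup.1 u.2
    rw [sign_of_cycleType, neg_one_pow_eq_one_iff_even (by decide), Nat.even_iff] at h2
    simp only [hk, Multiset.sum_replicate, Multiset.card_replicate, smul_eq_mul, Fintype.card_fin] at h1 h2
    obtain rfl : k = 1 := by omega
    exact hk
  by_cases h4 : n = 4
  · subst h4
    have : ∀ s t : Perm (Fin 4), s ≠ 1 → t ≠ 1 → s * s = 1 → t * t = 1 → sign s = 1 → sign t = 1 →
        ∃ g : Perm (Fin 4), sign g = 1 ∧ g * s = t * g := by decide +kernel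
    have q : ∀ u : alternatingGroup (Fin 4), orderOf u = 2 → u.1 ≠ 1 ∧ u.1 * u.1 = 1 := fun u hu =>
      ⟨fun e => by rw [show u = 1 from Subtype.ext e] at hu; simp at hu,
        by rw [← pow_two, ← hu, ← Subgroup.coe_pow, pow_orderOf_eq_one]; rfl⟩
    obtain ⟨g, h1, h2⟩ := this s t (q s hs).1 (q t ht).1 (q s hs).2 (q t ht).2 s.2 t.2
    exact isConj_iff.2 ⟨⟨g, h1⟩, Subtype.ext (mul_inv_eq_iff_eq_mul.2 h2)⟩
  obtain ⟨g, hg⟩ := isConj_iff.1 (isConj_iff_cycleType_eq.2 ((ct s hs).trans (ct t ht).symm))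
  rcases Int.units_eq_one_or (sign g) with a | a
  · exact isConj_iff.2 ⟨⟨g, a⟩, Subtype.ext hg⟩
  have : ¬ centralizer {s.1} ≤ alternatingGroup (Fin n) := fun h => by
    have := (centralizer_le_alternating_iff.1 h).1 2 (by simp [ct s hs])
    exact absurd this (by decide)
  obtain ⟨k, hk, hk'⟩ := SetLike.not_le_iff_exists.1 this
  have b := (Int.units_eq_one_or (sign k)).resolve_left hk'
  refine isConj_iff.2 ⟨⟨g * k, by simp [a, b]⟩, Subtype.ext ?_⟩
  change g * k * s * (g * k)⁻¹ = t
  rw [← hg, mul_assoc g, mem_centralizer_singleton_iff.1 hk]; group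

theorem cardA (n : ℕ) (h : 2 ≤ n) : 2 * Nat.card (alternatingGroup (Fin n)) = n.factorial := by
  haveI : Nontrivial (Fin n) := Fin.nontrivial_iff_two_le.2 h
  rw [two_mul_nat_card_alternatingGroup, Nat.card_perm, Nat.card_fin]

theorem data {n : ℕ} (h4 : 4 ≤ n) (hn : n ≤ 7) : ∃ (r a : alternatingGroup (Fin n)) (m k : ℕ),
    orderOf r = 2 * m ∧ a ^ 2 = 1 ∧ (a * r) ^ 2 = 1 ∧ a ∉ zpowers r ∧
      Nat.card (alternatingGroup (Fin n)) = 4 * m * k ∧ Odd k := by
  have c := cardA n (by omega)
  have nm : ∀ {G : Type} [Group G] [Finite G] {r a : G}, r ^ 4 = 1 → (∀ i < 4, r ^ i ≠ a) → a ∉ zpowers r := by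
    intro G _ _ r a h1 h2 h
    rw [← mem_powers_iff_mem_zpowers] at h
    obtain ⟨i, rfl⟩ := h
    exact h2 (i % 4) (Nat.mod_lt _ (by norm_num)) (pow_eq_pow_mod i h1).symm
  interval_cases n
  · refine ⟨⟨swap 0 1 * swap 2 3, mem_alternatingGroup.2 (by decide)⟩, ⟨swap 0 2 * swap 1 3, mem_alternatingGroup.2 (by decide)⟩, 1, 3,
      orderOf_eq_prime (p := 2) (by decide) (by decide), by decide, by decide, nm (by decide) (by decide),
      by simp [Nat.factorial] at c ⊢; omega, by decide⟩
  · refine ⟨⟨swap 0 1 * swap 2 3, mem_alternatingGroup.2 (by decide)⟩, ⟨swap 0 2 * swap 1 3, mem_alternatingGroup.2 (by decide)⟩, 1, 15,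
      orderOf_eq_prime (p := 2) (by decide) (by decide), by decide, by decide, nm (by decide) (by decide),
      by simp [Nat.factorial] at c ⊢; omega, by decide⟩
  · refine ⟨⟨swap 0 2 * swap 4 5 * (swap 0 1 * swap 2 3), mem_alternatingGroup.2 (by decide)⟩, ⟨swap 0 2 * swap 4 5, mem_alternatingGroup.2 (by decide)⟩, 2, 45,
      orderOf_eq_prime_pow (p := 2) (n := 1) (by decide) (by decide), by decide, by decide,
      nm (by decide) (by decide), by simp [Nat.factorial] at c ⊢; omega, by decide⟩
  · refine ⟨⟨swap 0 2 * swap 4 5 * (swap 0 1 * swap 2 3), mem_alternatingGroup.2 (by decide)⟩, ⟨swap 0 2 * swap 4 5, mem_alternatingGroup.2 (by decide)⟩, 2, 315,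
      orderOf_eq_prime_pow (p := 2) (n := 1) (by decide) (by decide), by decide, by decide,
      nm (by decide) (by decide), by simp [Nat.factorial] at c ⊢; omega, by decide⟩

/-- Involutions in double covers of alternating groups: for n ≤ 7, a finite non-split double cover of the alternating group of degree n has exactly one element of order 2 (the central one); for degree 8 there is a non-split double cover with two distinct involutions. -/
theorem result : (∀ (n : ℕ) (H : Type) (_ : Group H) (_ : Finite H), n ≤ 7 → Cfsg.IsNonsplitDoubleCover H (alternatingGroup (Fin n)) → ∀ x y : H, orderOf x = 2 → orderOf y = 2 → x = y) ∧ ∃ (H : Type) (_ : Group H) (_ : Finite H), Cfsg.IsNonsplitDoubleCover H (alternatingGroup (Fin 8)) ∧ ∃ x y : H, x ≠ y ∧ orderOf x = 2 ∧ orderOf y = 2 := by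
  constructor
  · rintro n H _ _ hn ⟨h2, ⟨e⟩, hns⟩
    let π : H →* alternatingGroup (Fin n) := e.toMonoidHom.comp (QuotientGroup.mk' _)
    have hπ : Function.Surjective π := e.surjective.comp (QuotientGroup.mk'_surjective _)
    have hk : π.ker = center H := by
      ext x; simp [π, MonoidHom.mem_ker]
    obtain ⟨z, hz1, hz⟩ := (Nat.card_eq_two_iff' (1 : center H)).1 h2
    have key : ∀ x : H, orderOf x = 2 → x = z := by
      intro x hx
      have x2 : x ^ 2 = 1 := hx ▸ pow_orderOf_eq_one x
      have x1 : x ≠ 1 := by rintro rfl; simp at hx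
      by_cases h : π x = 1
      · have h' : x ∈ center H := hk ▸ h
        exact congrArg Subtype.val (hz ⟨x, h'⟩ fun e => x1 (congrArg Subtype.val e))
      exfalso
      have o : orderOf (π x) = 2 := orderOf_eq_prime (by rw [← map_pow, x2, map_one]) h
      have cz : ∀ w, π w = 1 → w ^ 2 = 1 ∧ ∀ g, g * w = w * g := fun w hw => by
        have h' : w ∈ center H := hk ▸ hw
        refine ⟨?_, mem_center_iff.1 h'⟩
        have := pow_card_eq_one' (x := (⟨w, h'⟩ : center H))
        rw [h2] at this
        exact congrArg Subtype.val this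
      have hl : ∀ y, π y ^ 2 = 1 → y ^ 2 = 1 := by
        intro y hy
        by_cases h1 : π y = 1
        · exact (cz y h1).1
        obtain ⟨g, hg⟩ := isConj_iff.1 (inv_conj hn o (orderOf_eq_prime hy h1))
        obtain ⟨g, rfl⟩ := hπ g
        obtain ⟨c1, c2⟩ := cz ((g * x * g⁻¹)⁻¹ * y) (by rw [map_mul, ← hg, map_inv, map_mul, map_mul, map_inv, inv_mul_cancel])
        have : y = g * x * g⁻¹ * ((g * x * g⁻¹)⁻¹ * y) := by group
        rw [this, Commute.mul_pow (c2 _), c1, conj_pow, x2]; simp
      have h4 : 4 ≤ n := by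
        have := two_dvd_card_support (σ := (π x).1) (by rw [← Subgroup.coe_pow, ← o, pow_orderOf_eq_one]; rfl)
        have b := (π x).1.support.card_le_univ
        rw [Fintype.card_fin] at b
        by_contra h4
        have n0 : (π x).1.support.card ≠ 0 := by
          rw [Ne, Finset.card_eq_zero, support_eq_empty_iff]
          exact fun e => h (Subtype.ext e)
        have := (card_support_eq_two.1 (show (π x).1.support.card = 2 by omega)).sign_eq
        rw [mem_alternatingGroup.1 (π x).2] at this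
        exact absurd this (by decide)
      obtain ⟨r, a, m, k, d1, d2, d3, d4, d5, d6⟩ := data h4 hn
      obtain ⟨L, hL⟩ := split π hπ hk h2 hl d1 d2 d3 d4 d5 d6
      exact hns L hL
    intro x y hx hy
    rw [key x hx, key y hy]
  · have hc : center (ACov 8) = zpowers (zA 8) := by
      refine le_antisymm (fun x hx => ?_) (zpowers_le_of_mem zA_center)
      rw [← ker_prA, MonoidHom.mem_ker, ← mem_bot,
        ← alternatingGroup.center_eq_bot (α := Fin 8) (by simp), mem_center_iff]
      intro g
      obtain ⟨g, rfl⟩ := prA_surj g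
      rw [← map_mul, ← map_mul, mem_center_iff.1 hx]
    refine ⟨ACov 8, inferInstance, inferInstance, ⟨by rw [hc, Nat.card_zpowers, orderOf_zA],
      ⟨(QuotientGroup.quotientMulEquivOfEq (hc.trans ker_prA.symm)).trans
        (QuotientGroup.quotientKerEquivOfSurjective _ prA_surj)⟩, fun L hL => ?_⟩, zA 8, ?_⟩
    · have i2 : L.index = 2 := by rw [hL.index_eq_card, hc, Nat.card_zpowers, orderOf_zA]
      haveI := normal_of_index_eq_two i2
      have : commutator (ACov 8) ≤ L := by
        rw [Normal.quotient_commutative_iff_commutator_le.symm]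
        haveI : Fact (Nat.Prime 2) := ⟨Nat.prime_two⟩
        haveI := isCyclic_of_prime_card (α := ACov 8 ⧸ L) (p := 2) i2
        exact IsCyclic.commutative
      have h1 := disjoint_def.1 hL.disjoint zA_center (this (zA_comm (n := 4)))
      exact zz_ne (congrArg Subtype.val h1)
    · have e1 : ((1 : Fin 8) : ℕ) = (0 : Fin 8).val + 1 := rfl
      have e2 : ((3 : Fin 8) : ℕ) = (2 : Fin 8).val + 1 := rfl
      have e3 : ((5 : Fin 8) : ℕ) = (4 : Fin 8).val + 1 := rfl
      have e4 : ((7 : Fin 8) : ℕ) = (6 : Fin 8).val + 1 := rfl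
      have p : prj 8 (TT e1 * TT e2 * (TT e3 * TT e4)) = swap 0 1 * swap 2 3 * (swap 4 5 * swap 6 7) := rfl
      let y : ACov 8 := ⟨TT e1 * TT e2 * (TT e3 * TT e4), by rw [mem_comap, p, mem_alternatingGroup]; decide⟩
      have ny : prA 8 y ≠ 1 := fun h => absurd (p.symm.trans (congrArg Subtype.val h)) (by decide)
      refine ⟨y, fun h => ny (prA_eq_one.2 (Or.inr h.symm)), orderOf_zA,
        orderOf_eq_prime ?_ fun h => ny (prA_eq_one.2 (Or.inl h))⟩
      refine Subtype.ext ?_
      change (TT e1 * TT e2 * (TT e3 * TT e4)) ^ 2 = 1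
      have s1 : TT e1 * TT e2 * (TT e1 * TT e2) = zz 8 :=
        dbl_sq (n := 4) (a := 0) (b := 1) (c := 2) (d := 3) (by decide) (by decide) (by decide)
          (by decide) (by decide) (by decide) rfl
      have s2 : TT e3 * TT e4 * (TT e3 * TT e4) = zz 8 :=
        dbl_sq (n := 4) (a := 4) (b := 5) (c := 6) (d := 7) (by decide) (by decide) (by decide)
          (by decide) (by decide) (by decide) rfl
      have an : ∀ {u v w : Cov 8}, u * v = zz 8 * (v * u) → u * w = zz 8 * (w * u) →
          Commute u (v * w) := fun {u v w} h1 h2 => by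
        change u * (v * w) = _
        rw [← mul_assoc, h1, mul_assoc, mul_assoc, h2, ← mul_assoc v, zz_comm, mul_assoc,
          ← mul_assoc (zz 8), zz_sq, one_mul, mul_assoc]
      rw [Commute.mul_pow (Commute.mul_left
        (an (TT_anti e1 e3 (by decide)) (TT_anti e1 e4 (by decide)))
        (an (TT_anti e2 e3 (by decide)) (TT_anti e2 e4 (by decide)))), pow_two, pow_two, s1, s2, zz_sq]

end Cfsg.Agent.S0447
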