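import Cfsg.Statements.S0458
import Cfsg.Agent.Lib.Cert.J3.M

set_option autoImplicit false
open Cfsg

namespace Cfsg.Agent.S0458

/-- Janko's third group exists as a transitive permutation group of degree 6156 with point stabiliser of order 8160: a simple group of order 50232960. -/
theorem result : ∃ H : Subgroup (Equiv.Perm (Fin 6156)), Cfsg.IsJ3 H ∧ MulAction.IsPretransitive H (Fin 6156) ∧ Nat.card (MulAction.stabilizer H (0 : Fin 6156)) = 8160 := by
  have t : MulAction.IsPretransitive Ct.J3.P (Fin 6156) := (MulAction.isPretransitive_iff_orbit_eq_univ _).mpr ((Ct.J3.ch.orb rfl).trans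
    (Set.eq_univ_of_forall fun x => (PC.finLab 6155).surj x))
  refine ⟨PC.gen Ct.J3.pf 4, ⟨Ct.J3.simple, Ct.J3.card⟩, t, ?_⟩
  have h := (MulAction.stabilizer Ct.J3.P (0 : Fin 6156)).index_mul_card
  rw [MulAction.index_stabilizer_of_transitive, Ct.J3.card, Nat.card_fin] at h
  exact Nat.eq_of_mul_eq_mul_left (by decide) h

end Cfsg.Agent.S0458
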