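import Cfsg.Statements.S0460
import Cfsg.Agent.Lib.Cert.ON.E
import Cfsg.Agent.Lib.Cert.Emb2

set_option autoImplicit false
open Cfsg

namespace Cfsg.Agent.S0460

/-- The O'Nan group exists as a transitive permutation group of degree 122760: simple of order 460815505920, point stabiliser of order 3753792, and containing simple subgroups of orders 175560 and 7920. -/
theorem result : ∃ H : Subgroup (Equiv.Perm (Fin 122760)), Cfsg.IsON H ∧ MulAction.IsPretransitive H (Fin 122760) ∧ Nat.card (MulAction.stabilizer H (0 : Fin 122760)) = 3753792 ∧ (∃ K : Subgroup H, Cfsg.IsJ1 K) ∧ (∃ K : Subgroup H, Cfsg.IsM11 K) := by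
  have i : Function.Injective Ct.ON.exh.choose := (injective_iff_map_eq_one _).mpr fun a h => Ct.ON.md0.base a fun b _ => Equiv.congr_fun h _
  obtain ⟨e⟩ : Nonempty (MulAction.stabilizer Spor.ON (Ct.ON.pt Ct.ON.l0.β) ≃* MulAction.stabilizer Ct.ON.exh.choose.range (0 : Fin 122760)) := Ct.real _ i 0
  let f := MonoidHom.ofInjective i
  exact ⟨_, ⟨f.symm.isSimpleGroup, (Nat.card_congr f.toEquiv).symm.trans Ct.ON.card⟩,
    Ct.real_tr _ (Ct.ON.ch.tr rfl (PC.finLab 122759).surj), (Nat.card_congr e.toEquiv).symm.trans Ct.ON.ch.stab.2,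
    Ct.sub_map f (Ct.ON.be.imp fun _ h => h.1) Ct.J1.card, Ct.sub_map f (Ct.ON.ce.imp fun _ h => h.1) Ct.N11.card⟩

end Cfsg.Agent.S0460
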