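import Cfsg.Statements.S0462
import Cfsg.Agent.Lib.Cert.He.E
import Cfsg.Agent.Lib.Cert.Emb2

set_option autoImplicit false
open Cfsg

namespace Cfsg.Agent.S0462

/-- The Held group exists as a transitive permutation group of degree 2058: simple of order 4030387200, with point stabiliser containing, with index 2, a copy of the 4-dimensional symplectic group over the field with four elements. -/
theorem result : ∃ H : Subgroup (Equiv.Perm (Fin 2058)), Cfsg.IsHe H ∧ MulAction.IsPretransitive H (Fin 2058) ∧ ∃ (F : Type) (_ : Field F) (_ : Fintype F), Fintype.card F = 4 ∧ ∃ N : Subgroup (MulAction.stabilizer H (0 : Fin 2058)), N.index = 2 ∧ Nonempty (N ≃* Matrix.symplecticGroup (Fin 2) F) := by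
  have i : Function.Injective Ct.He.exh.choose := (injective_iff_map_eq_one _).mpr fun a h => Ct.He.md0.base a fun b _ => Equiv.congr_fun h _
  obtain ⟨e⟩ : Nonempty (MulAction.stabilizer Spor.He (Ct.He.pt Ct.He.l0.β) ≃* MulAction.stabilizer Ct.He.exh.choose.range (0 : Fin 2058)) := Ct.real _ i 0
  obtain ⟨φ, j, l⟩ := Ct.He.ae
  let f := MonoidHom.ofInjective i
  have l2 : φ.range ≤ MulAction.stabilizer Spor.He (Ct.He.pt Ct.He.l0.β) := l.trans (Ct.gen_fix Ct.He.rg (by decide +kernel))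
  obtain ⟨N, h1, ⟨h2⟩⟩ := Ct.idx_k (k := 2) ⟨φ, j, l2⟩ (Ct.S44.iso (F := Ct.K4) rfl) (by rw [Ct.He.ch.stab.2, Ct.S44.card]; rfl)
  exact ⟨_, ⟨f.symm.isSimpleGroup, (Nat.card_congr f.toEquiv).symm.trans Ct.He.card⟩,
    Ct.real_tr _ (Ct.He.ch.tr rfl (PC.finLab 2057).surj), Ct.K4, inferInstance, inferInstance, rfl, N.map e.toMonoidHom,
    (N.index_map_equiv e).trans h1, ⟨(e.subgroupMap N).symm.trans h2⟩⟩

end Cfsg.Agent.S0462
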