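import Cfsg.Statements.S0472
import Cfsg.Agent.Lib.Fischer.Ex23
import Cfsg.Agent.Lib.Fischer.Ex2

set_option autoImplicit false
open Cfsg

namespace Cfsg.Agent.S0472

/-- The Fischer group of order 4089470473293004800 exists as a 3-transposition group: a simple group of that order generated by a conjugacy class of 31671 3-transpositions, the centraliser of each being a non-split double cover of a simple group of order 64561751654400. -/
theorem result : ∃ (G : Type) (_ : Group G) (_ : Finite G), Cfsg.IsFi23 G ∧ ∃ D : Set G, Cfsg.IsThreeTranspositionClass D ∧ Nat.card D = 31671 ∧ ∀ d ∈ D, ∃ (K : Type) (_ : Group K), Cfsg.IsFi22 K ∧ Cfsg.IsNonsplitDoubleCover (Subgroup.centralizer ({d} : Set G)) K := by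
  obtain ⟨G, _, _, -, D, rt, h, -⟩ := Fi.ex23
  obtain ⟨h1, h2⟩ := Fi.class_of h.1 (by norm_num) h.trK1
  refine ⟨G, _, ‹_›, h.isFi, D, h1, h2, fun d hd => ?_⟩
  obtain ⟨qt, rfl, h'⟩ := h.at hd
  obtain ⟨K, _, _, E, pt, h3, h4⟩ := h'.nsc
  exact ⟨K, _, h3.isFi, h4⟩

end Cfsg.Agent.S0472
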