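import Cfsg.Statements.S0478
import Cfsg.Agent.Lib.Cert.J3.U

set_option autoImplicit false
open Cfsg

namespace Cfsg.Agent.S0478

/-- A triple cover of Janko's third group inside a unitary group: for a field F with four elements, the special unitary group of dimension 9 (with respect to the form with q = 2) has a subgroup whose centre has order 3 and whose quotient by its centre is simple of order 50232960. -/
theorem result : ∃ (F : Type) (_ : Field F) (_ : Fintype F), Fintype.card F = 4 ∧ ∃ H : Subgroup (Cfsg.SU 9 F 2), Nat.card (Subgroup.center H) = 3 ∧ Cfsg.IsJ3 (H ⧸ Subgroup.center H) := by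
  obtain ⟨K, ⟨e⟩⟩ := Ct.J3.su
  obtain ⟨f⟩ := Ct.J3.iso' (RingHom.id Ct.K4)
  have g := f.trans (QuotientGroup.congr _ (Subgroup.center K) e (Subgroup.ext fun y => ⟨fun ⟨x, hx, h⟩ => h ▸ (Subgroup.centerCongr e ⟨x, hx⟩).2,
    fun h => ⟨_, ((Subgroup.centerCongr e).symm ⟨y, h⟩).2, e.apply_symm_apply y⟩⟩))
  exact ⟨Ct.K4, inferInstance, inferInstance, rfl, K, (Nat.card_congr (Subgroup.centerCongr e).toEquiv).symm.trans (Ct.J3.cardZ _ rfl),
    g.symm.isSimpleGroup, (Nat.card_congr g.toEquiv).symm.trans Ct.J3.card⟩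

end Cfsg.Agent.S0478
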