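import Cfsg.Statements.S0481
import Cfsg.Agent.Lib.Transfer.Basic

set_option autoImplicit false
open Cfsg

namespace Cfsg.Agent.S0481

open Subgroup Transfer

/-- Large extraspecial subgroups: let z be an involution of a finite group G whose centraliser C contains a normal 2-subgroup Q with centre of order 2 and all squares central, such that every element of G centralising Q lies in Q. Then C contains a Sylow 2-subgroup of G, and any involution of G whose centraliser contains a Sylow 2-subgroup of G is conjugate to z. -/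
theorem result {G : Type*} [Group G] [Finite G] (z : G) (hz : orderOf z = 2) (Q : Subgroup G) (hQC : Q ≤ Subgroup.centralizer ({z} : Set G)) (hQn : ∀ g ∈ Subgroup.centralizer ({z} : Set G), ∀ q ∈ Q, g * q * g⁻¹ ∈ Q) (hQ2 : IsPGroup 2 Q) (hZ : Nat.card (Subgroup.center Q) = 2) (hsq : ∀ x : Q, x ^ 2 ∈ Subgroup.center Q) (hlarge : Subgroup.centralizer (Q : Set G) ≤ Q) : (∃ P : Sylow 2 G, (P : Subgroup G) ≤ Subgroup.centralizer ({z} : Set G)) ∧ ∀ u : G, orderOf u = 2 → (∃ P : Sylow 2 G, (P : Subgroup G) ≤ Subgroup.centralizer ({u} : Set G)) → IsConj z u := by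
  have z1 : z ≠ 1 := fun e => by simp [e] at hz
  have hzC : z ∈ centralizer (Q : Set G) := fun q hq => mem_centralizer_singleton_iff.1 (hQC hq)
  have k : ∀ u ∈ centralizer (Q : Set G), u ≠ 1 → u = z := fun u hu u1 => by
    obtain ⟨y, -, hy⟩ := (Nat.card_eq_two_iff' (1 : center Q)).1 hZ
    have c : ∀ u (hu : u ∈ centralizer (Q : Set G)), (⟨u, hlarge hu⟩ : Q) ∈ center Q := fun u hu =>
      mem_center_iff.2 fun q => Subtype.ext (hu q q.2)
    exact congrArg (fun x : center Q => x.1.1) ((hy ⟨_, c u hu⟩ fun e => u1 (congrArg (fun x => x.1.1) e)).trans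
      (hy ⟨_, c z hzC⟩ fun e => z1 (congrArg (fun x => x.1.1) e)).symm)
  obtain ⟨T, hT, hQT⟩ := exists_isSyl_ge hQ2 hQC
  obtain ⟨P, hP⟩ := hT.pgroup.exists_le_sylow
  have e : T = P := by_contra fun e => by
    refine (lt_inf_normalizer P.2 (hP.lt_of_ne e)).ne' (hT.eq_of_le (P.2.to_le inf_le_left) (fun g hg => ?_)
      (le_inf hP le_normalizer))
    refine mem_centralizer_singleton_iff.2 (mul_inv_eq_iff_eq_mul.1 (k _ (fun q hq => ?_) (by simpa using z1)))
    calc _ = g * (g⁻¹ * q * g * z) * g⁻¹ := by group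
      _ = _ := by
        rw [mem_centralizer_singleton_iff.1 (hT.le (inv_conj_mem_of_mem_normalizer hg.2 (hQT hq)))]; group
  refine ⟨⟨P, e ▸ hT.le⟩, fun u hu ⟨R, hR⟩ => ?_⟩
  obtain ⟨g, hg⟩ := exists_cj_sylow_eq R P
  refine (isConj_iff.2 ⟨g, k _ (fun q hq => ?_) fun e => ?_⟩).symm
  · exact mem_centralizer_singleton_iff.1 (cj_centralizer_singleton g u ▸ cj_mono g hR (hg ▸ hP (hQT hq)))
  · simp [show u = 1 by simpa using e] at hu

end Cfsg.Agent.S0481
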