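import Cfsg.Statements.S0497
import Mathlib
import Cfsg.Agent.Lib.Perm.Br12
import Cfsg.Agent.S0254

set_option autoImplicit false
open Cfsg

namespace Cfsg.Agent.S0497

open Subgroup Cfsg.Agent.Char Cfsg.Agent.Perm Cfsg.Agent.Perm.Br
open scoped ComplexConjugate

theorem d1 : ∀ n ∈ dvs 9 72, n % 5 = 1 → n = 1 ∨ n = 6 ∨ n = 36 := by decide +kernel

theorem d2 : ∀ n ∈ dvs 9 72, ∀ m ∈ dvs 9 72, (n % 5 = 1 → 1 < n → m ≠ n + 1) ∧
    (n % 5 = 4 → n = m + 1 → n = 4 ∨ n = 9) := by
  decide +kernel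

theorem d3 : ∀ n ∈ dvs 9 40, n % 3 = 1 → n = 1 ∨ n = 4 ∨ n = 10 ∨ n = 40 := by decide +kernel

open scoped _root_.Classical

/-- A simple group of order 360 is isomorphic to the alternating group of degree 6. -/
theorem result {G : Type*} [Group G] [Finite G] [IsSimpleGroup G]
    (h : Nat.card G = 360) : Nonempty (G ≃* alternatingGroup (Fin 6)) := by
  have : Fact (Nat.Prime 5) := ⟨by norm_num⟩
  have hnc := noncomm_of_card (G := G) (by rw [h]; norm_num)
  obtain ⟨P⟩ : Nonempty (Sylow 5 G) := inferInstance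
  have hP := SylNum.card_sylow_eq_prime (m := 72) h (by norm_num) P
  obtain ⟨e, X, Y, δ, ε, S, hb⟩ := exists_bd (perf_of_simple hnc) P hP
  obtain ⟨w, -, hw, hw1, hw2⟩ := hb.exists_w
  have he := hb.one_lt_e
  have te := hb.cardY
  have h1 := one_lt_syl hnc (p := 5) (by rw [h]; norm_num)
  have h2 : Nat.card (Sylow 5 G) % 5 = 1 := card_sylow_modEq_one 5 G
  rw [← SylNum.card_syl P, h] at hw
  rcases d1 _ ((mem_dvs (by norm_num) (by norm_num)).2 ⟨e * w, by linarith⟩) h2 with h3 | h3 | h3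
  · omega
  · exact Small.iso_alt_of_faithful h3 (syl_faithful hnc (by rw [h]; norm_num)) (by rw [h]; rfl)
  obtain ⟨rfl, rfl⟩ : e = 2 ∧ w = 1 := by
    rw [h3] at hw
    have : e ∣ 2 := ⟨w, by linarith⟩
    obtain rfl : e = 2 := by have := Nat.le_of_dvd two_pos this; omega
    omega
  have hC := hw1.1 rfl
  obtain ⟨θ, hθ⟩ := hb.Y_ne
  obtain ⟨χ, rfl, rfl, h5⟩ := hb.two hθ
  have hχ := Finset.mem_singleton_self χ
  have hχ' := Finset.mem_union_left Y hχ
  have h6 := d2 _ ((mem_dvs (by norm_num) (by norm_num)).2 (by simpa only [h] using hb.dg_dvd' hχ')) _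
    ((mem_dvs (by norm_num) (by norm_num)).2 (by simpa only [h] using hb.dg_dvd' (Finset.mem_union_right _ hθ)))
  have h12 : ∀ v : G, orderOf v = 2 → Nat.card (centralizer ({v} : Set G)) = 8 := fun v hv => by
    obtain ⟨u, hu, h9⟩ := hb.conj_of_two hC (by norm_num) rfl hv
    obtain ⟨k, -, h10, h11⟩ := hb.two_count hC hθ hu (by
      obtain ⟨c, rfl⟩ := isConj_iff.1 h9; exact hv ▸ (MulAut.conj c).orderOf_eq v)
    rw [card_cent_conj h9]
    have := hb.dvdX hχ
    have := two_le_dg hb.perf (hb.ne_one hχ')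
    rw [← Int.natCast_natAbs] at h10
    rw [h] at h11
    rcases hb.sgn χ hχ with h7 | h7
    · omega
    rcases h6.2 (by omega) (by omega) with h8 | h8
    · rw [h8, show dg θ = 3 by omega, show k = 1 by omega] at h11
      have : Nat.card (centralizer ({u} : Set G)) < 10 := by nlinarith
      interval_cases Nat.card (centralizer ({u} : Set G)) <;> omega
    · rw [h8, show dg θ = 8 by omega, show k = 2 by omega] at h11
      refine (Nat.pow_left_injective two_ne_zero) ?_
      dsimp only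
      omega
  obtain ⟨T⟩ : Nonempty (Sylow 3 G) := inferInstance
  have hT : Nat.card T = 9 := by rw [T.card_eq_multiplicity, h]; decide +kernel
  have h14 := (T : Subgroup G).card_mul_index
  have h15 := SylNum.card_eq_mul T
  have hc := IsPGroup.isMulCommutative_of_card_eq_prime_sq (p := 3) (G := T) hT
  have h16 : Nat.card (Sylow 3 G) = 10 := by
    rcases d3 _ ((mem_dvs (by norm_num) (by norm_num)).2 ((show (T : Subgroup G).index = 40 by
      rw [hT, h] at h14; omega) ▸ T.card_dvd_index)) (card_sylow_modEq_one 3 G) with h16 | h16 | h16 | h16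
    · have := one_lt_syl hnc (p := 3) (by rw [h]; norm_num); omega
    · have := two_mul_dvd hnc (normalizer ((T : Subgroup G) : Set G)) fun e => by
        rw [SylNum.card_syl T, e] at h16; simp at h16
      rw [← SylNum.card_syl T, h16, h] at this
      exact absurd this (by decide)
    · exact h16
    · refine absurd ?_ (not_burnside hnc T (by rw [h]; norm_num))
      rw [← eq_of_le_of_card_ge le_normalizer (by rw [h16, h] at h15; omega)]
      exact fun a ha b hb => congrArg Subtype.val (hc.1.1 ⟨b, hb⟩ ⟨a, ha⟩)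
  rw [h16, h] at h15
  have h13 : ∀ v ∈ T, v ≠ 1 → centralizer ({v} : Set G) = T := fun v hv hv1 => by
    have h17 : (T : Subgroup G) ≤ centralizer {v} := fun x hx =>
      mem_centralizer_singleton_iff.2 (congrArg Subtype.val (hc.1.1 ⟨x, hx⟩ ⟨v, hv⟩))
    have h18 : orderOf v ∣ 9 := hT ▸ orderOf_dvd_natCard (T : Subgroup G) hv
    have h19 : ∀ r : ℕ, r.Prime → (∀ y, orderOf y = r → Commute y v → orderOf v ∣ 40) →
        ¬ r ∣ Nat.card (centralizer ({v} : Set G)) := fun r hr h1 h2 => by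
      have := Fact.mk hr
      obtain ⟨⟨y, hy⟩, h3⟩ := exists_prime_orderOf_dvd_card' r h2
      exact hv1 (orderOf_eq_one_iff.1 (Nat.eq_one_of_dvd_coprimes (by norm_num) h18
        (h1 y ((Subgroup.orderOf_coe _).trans h3) (mem_centralizer_singleton_iff.1 hy))))
    have h20 := h19 2 Nat.prime_two fun y hy hc => (h12 y hy ▸ orderOf_dvd_natCard _
      (mem_centralizer_singleton_iff.2 hc.symm)).trans (by norm_num)
    have h21 := h19 5 hb.prime fun y hy hc =>
      (orderOf_dvd_of_pow_eq_one (pow_eq_one_of_comm hP hC hy hc)).trans (by norm_num)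
    refine (eq_of_le_of_card_ge h17 (hT ▸ Nat.le_of_dvd (by norm_num) ?_)).symm
    exact Nat.Coprime.dvd_of_dvd_mul_left (m := 2 ^ 3 * 5) (Nat.Coprime.mul_right (Nat.Coprime.pow_right _
      ((Nat.prime_two.coprime_iff_not_dvd).2 h20).symm) ((hb.prime.coprime_iff_not_dvd).2 h21).symm)
      (h ▸ card_subgroup_dvd_card _ :)
  obtain ⟨hZ, U, hU, h17⟩ := zass_syl T h13 (by omega) (by omega) (fun e => by rw [e] at h15; omega)
    fun R hR h _ => by rcases hR.eq_bot_or_eq_top with rfl | rfl <;> simp at h <;> omega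
  rw [hT] at h17
  obtain ⟨F, _, _, h18, ⟨e⟩⟩ := Zass.psl_of_simple hZ hU (by omega)
  exact ⟨e.trans (S0254.result (by omega)).some⟩

end Cfsg.Agent.S0497
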