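import Cfsg.Statements.S0499
import Mathlib
import Cfsg.Agent.Lib.Perm.SylNum3
import Cfsg.Agent.Lib.Perm.Br4
import Cfsg.Agent.S0071

set_option autoImplicit false
open Cfsg

namespace Cfsg.Agent.S0499



/-- A non-abelian finite simple group of even order has order divisible by 12, 16 or 56. -/
theorem result {G : Type*} [Group G] [Finite G] [IsSimpleGroup G]
    (hG : ¬ IsMulCommutative G) (h2 : Even (Nat.card G)) :
    12 ∣ Nat.card G ∨ 16 ∣ Nat.card G ∨ 56 ∣ Nat.card G := by
  open Perm Perm.Br Subgroup in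
  obtain ⟨P⟩ : Nonempty (Sylow 2 G) := inferInstance
  have h0 := P.ne_bot_of_dvd_card h2.two_dvd
  have h1 := mt (S0071.result P).2 (by
    rintro ⟨N, hN, h⟩
    rcases hN.eq_bot_or_eq_top with rfl | rfl
    · exact h0 (normal_eq hG (isComplement'_bot_left.1 h ▸ inferInstance) P.2)
    · exact h0 (isComplement'_top_left.1 h))
  push Not at h1
  obtain ⟨Q, hQ, g, hg, h3, h4⟩ := h1
  obtain ⟨r, y, hr, hd, hy, h5, h6⟩ : ∃ (r : ℕ) (y : G), r.Prime ∧ r ∣ orderOf g ∧ y ∈ normalizer (Q : Set G) ∧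
      IsPGroup r (zpowers y) ∧ y ∉ centralizer (Q : Set G) := by
    by_contra! h
    refine h4 ?_
    generalize hm : orderOf g = m
    have : ∀ y ∈ zpowers g, y ∈ centralizer (Q : Set G) := fun y hy => by
      generalize hm : orderOf y = m
      induction m using Nat.strong_induction_on generalizing y with
      | _ m ih =>
        by_cases h1 : y = 1
        · simp [h1]
        obtain ⟨r, hr, hd⟩ := Nat.exists_prime_and_dvd (mt orderOf_eq_one_iff.1 h1)
        have := Fact.mk hr
        obtain ⟨x, hx⟩ := Blk.exists_isPPart r y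
        rw [← mul_inv_cancel_left x y]
        exact mul_mem (h r x hr (hd.trans (orderOf_dvd_of_mem_zpowers hy)) (hx.mem (zpowers_le.2 hg hy)) hx.isPGroup)
          (ih _ (hm ▸ lt_of_le_of_ne (Nat.le_of_dvd (orderOf_pos y) (orderOf_dvd_of_mem_zpowers hx.reg_mem_zpowers))
            fun e => hx.preg (e ▸ hd)) _ (mul_mem (inv_mem (hx.mem hy)) hy) rfl)
    exact this g (mem_zpowers g)
  have := Fact.mk hr
  have h7 := SylNum.card_modEq_inf_cent h5 (zpowers_le.2 hy)
  have h8 : Q ⊓ centralizer (zpowers y : Set G) < Q := lt_of_le_of_ne inf_le_left fun e => h6 fun x hx =>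
    ((e.ge hx).2 y (mem_zpowers y)).symm
  obtain ⟨a, ha⟩ := (P.2.to_le hQ).exists_card_eq
  obtain ⟨b, hb⟩ := (P.2.to_le (h8.le.trans hQ)).exists_card_eq
  have h9 := lt_of_le_of_ne (card_le_of_le h8.le) fun e => h8.ne (eq_of_le_of_card_ge h8.le e.ge)
  have h10 := ha ▸ card_subgroup_dvd_card Q
  have h11 := hd.trans (orderOf_dvd_natCard g)
  have h12 : ¬ r ∣ 2 := fun e => hr.one_lt.ne' (Nat.eq_one_of_dvd_coprimes h3 hd e)
  rw [ha, hb] at h7 h9
  replace h7 := (Nat.modEq_iff_dvd' h9.le).1 h7.symm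
  rw [Nat.pow_lt_pow_iff_right (by norm_num)] at h9
  by_cases h13 : 4 ≤ a
  · exact Or.inr (Or.inl ((Nat.pow_dvd_pow 2 h13).trans h10))
  have h14 : r ≤ 7 := (Nat.le_of_dvd (by interval_cases a <;> interval_cases b <;> norm_num) h7).trans (by
    interval_cases a <;> interval_cases b <;> norm_num)
  have := hr.two_le
  interval_cases a <;> interval_cases b <;> interval_cases r <;> first | omega | norm_num at hr

end Cfsg.Agent.S0499
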