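import Cfsg.Statements.S0514
import Cfsg.Agent.Lib.Transfer.BS

set_option autoImplicit false
open Cfsg

namespace Cfsg.Agent.S0514

open Subgroup Cfsg.Agent.Transfer in
theorem aux {X : Type*} [Group X] [Finite X] {B T : Subgroup X} (hB : IsPGroup 2 B) (h1 : T ≤ B)
    (h2 : T.relIndex B ≤ 2) {g : X} (hg : (orderOf g).Coprime 2) (hn : g ∈ normalizer (B : Set X))
    (hc : g ∈ centralizer (T : Set X)) : g ∈ centralizer (B : Set X) := by
  rcases h1.eq_or_lt with e | hlt
  · exact e ▸ hc
  have h3 : (T.subgroupOf B).index = 2 := by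
    have a1 := relIndex_pos T B
    have a2 : T.relIndex B ≠ 1 := fun e => hlt.not_ge (relIndex_eq_one.1 e)
    change T.relIndex B = 2
    omega
  have hT : zpowers g ≤ normalizer (T : Set X) := zpowers_le.2 (centralizer_le_normalizer _ hc)
  rw [← Solv.zpowers_le_centralizer_iff] at hc ⊢
  refine Solv.coprime_le_centralizer_of_commutator_le ?_ ?_ hc
  · obtain ⟨k, hk⟩ := IsPGroup.iff_card.1 (hB.to_le h1)
    rw [hk, Nat.card_zpowers]; exact hg.pow_right _
  · rw [Subgroup.commutator_le]
    intro b hb a ha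
    have hb' : a * b⁻¹ * a⁻¹ ∈ B := conj_mem_of_mem_normalizer (zpowers_le.2 hn ha) (inv_mem hb)
    have := (mul_mem_iff_of_index_two h3 (a := ⟨b, hb⟩) (b := ⟨_, hb'⟩)).2 (by
      simp only [mem_subgroupOf]
      rw [← mem_normalizer_iff.1 (hT ha), inv_mem_iff])
    rw [mem_subgroupOf] at this
    simpa [commutatorElement_def, mul_assoc] using this

/-- In a finite group whose Sylow 2-subgroups are dihedral of order at least 4, the centralizer of any involution has a
normal subgroup of odd order whose index in the centralizer is a power of 2. -/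
theorem result {X : Type*} [Group X] [Finite X]
    (S : Sylow 2 X) (n : ℕ) (hn : 2 ≤ n) (hS : Nonempty ((S : Subgroup X) ≃* DihedralGroup n)) (t : X)
    (ht : orderOf t = 2) :
    ∃ N : Subgroup (Subgroup.centralizer ({t} : Set X)), N.Normal ∧ Odd (Nat.card N) ∧ ∃ k : ℕ, N.index = 2 ^ k := by
  open Subgroup Transfer in
  suffices h : HasNormalPComplement 2 (centralizer ({t} : Set X)) by
    obtain ⟨k, hk⟩ := hasNPC_iff_index.1 h
    exact ⟨_, inferInstance, odd_iff_coprime_two.2 (Solv.coprime_card_pPrimeCore 2), k, hk⟩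
  obtain ⟨e⟩ := hS
  have : NeZero n := ⟨by omega⟩
  have key : ∀ (S : Subgroup X), IsPGroup 2 S → Nonempty (S ≃* DihedralGroup n) → ∀ B ≤ S, t ∈ B →
      ∀ g : X, Commute g t → g ∈ normalizer (B : Set X) → (orderOf g).Coprime 2 →
      g ∈ centralizer (B : Set X) := by
    intro S hSp ⟨e⟩ B hBS htB g hgt hn hg
    obtain ⟨a, s, -, h1, h2, h3, rfl⟩ := exists_gens_of_dihedral e
    have hs := mem_normalizer_zpowers_of_inv h1
    have hs2 : s ^ 2 ∈ zpowers a := h2 ▸ one_mem _
    have hB := hSp.to_le hBS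
    have hi : (zpowers a ⊓ B).relIndex B ≤ 2 := by
      rw [inf_relIndex_right, ← relIndex_sup_zpowers hs hs2 h3, ← closure_pair_eq]
      exact relIndex_le_of_le_right hBS (relIndex_pos _ _).ne'
    have hD : IsCyclic (zpowers a ⊓ B : Subgroup X) := isCyclic_of_le (inf_le_left)
    obtain ⟨d, hd⟩ := (Subgroup.isCyclic_iff_exists_zpowers_eq_top _).1 hD
    by_cases hd2 : d * d = 1
    · refine aux hB (zpowers_le.2 htB) ?_ hg hn (mem_centralizer_zpowers.2 hgt)
      have a1 := card_mul_relIndex (zpowers_le.2 htB)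
      have a2 := card_mul_relIndex (inf_le_right : zpowers a ⊓ B ≤ B)
      have a3 : Nat.card (zpowers a ⊓ B : Subgroup X) ≤ 2 := by
        rw [← hd, Nat.card_zpowers]
        exact Nat.le_of_dvd two_pos (orderOf_dvd_of_pow_eq_one (by rwa [pow_two]))
      rw [Nat.card_zpowers, ht] at a1
      nlinarith
    · have hdm : d ∈ zpowers a ⊓ B := hd ▸ mem_zpowers d
      refine aux hB inf_le_right hi hg hn ?_
      rw [← hd, mem_centralizer_zpowers]
      obtain ⟨k, hk⟩ := IsPGroup.iff_orderOf.1 hB ⟨d, hdm.2⟩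
      rw [orderOf_mk] at hk
      refine (commute_of_odd_of_normalizes hk (mem_normalizer_zpowers ?_) (odd_iff_coprime_two.2 hg))
      rw [hd]
      have hm := conj_mem_of_mem_normalizer hn hdm.2
      refine ⟨?_, hm⟩
      obtain ⟨i, hi | hi⟩ := (mem_closure_pair_iff hs hs2).1 (hBS hm)
      · exact hi ▸ zpow_mem (mem_zpowers a) i
      · exfalso
        apply hd2
        have := mul_self_of_inverts (conj_zpow_of_inverts h1 i)
        rw [← hi, ← pow_two s, h2] at this
        calc d * d = g⁻¹ * (g * d * g⁻¹ * (g * d * g⁻¹)) * g := by group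
          _ = 1 := by rw [this]; group
  refine hasNPC_sub_of_forall fun B hB hBp _ g hg hn hc => ?_
  have hT : B ≤ normalizer (zpowers t : Set X) := by
    refine le_trans ?_ (centralizer_le_normalizer _)
    exact fun x hx => mem_centralizer_zpowers.2 (mem_centralizer_singleton'.1 (hB hx))
  have hp : IsPGroup 2 (B ⊔ zpowers t : Subgroup X) :=
    hBp.to_sup_of_normal_right' (isPGroup_two_zpowers (mul_self_of_orderOf ht)) hT
  obtain ⟨c, hc'⟩ := exists_cj_le_sylow S hp
  have := key (cj c⁻¹ S) (IsPGroup.cj S.isPGroup' _) ⟨(cjEquiv c⁻¹ _).symm.trans e⟩ _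
    (cj_le_iff_le_cj_inv.1 hc') (mem_sup_right (mem_zpowers t)) g (mem_centralizer_singleton'.1 hg)
    (mem_normalizer_sup hn (centralizer_le_normalizer _
      (mem_centralizer_zpowers.2 (mem_centralizer_singleton'.1 hg)))) hc
  exact fun x hx => this x (mem_sup_left hx)

end Cfsg.Agent.S0514
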