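import Cfsg.Statements.S0508
import Cfsg.Agent.Lib.Ez.A11
import Cfsg.Agent.S0514
import Cfsg.Agent.Lib.Transfer.Dih

set_option autoImplicit false
open Cfsg

namespace Cfsg.Agent.S0508

open Subgroup Cfsg.Agent.Comp Cfsg.Agent.Ez

theorem cyc_out {G : Type*} [Group G] [Finite G] {S : Subgroup G} {a b c s : G} {n : ℕ}
    (h : Transfer.DH S a b n) (hc : c ∈ S) (h2 : (zpowers c).relIndex S = 2) (hs : s ∈ S)
    (h3 : s ∉ zpowers c) : s * s = 1 ∧ s * c * s⁻¹ = c⁻¹ := by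
  have h4 := relIndex_mul_card (zpowers_le.2 hc)
  rw [h2, h.card, Nat.card_zpowers, pow_succ' 2 (n + 1)] at h4
  have h5 := Nat.eq_of_mul_eq_mul_left two_pos h4
  by_cases e : c ∈ zpowers a
  · rw [eq_of_le_of_card_ge (zpowers_le.2 e) (by simp [h5, h.ord])] at h3
    exact ⟨(h.out' hs h3).sq1, (h.out' hs h3).inv' e⟩
  have h6 : ∀ x ∈ S, x * x = 1 := fun x hx => (em (x ∈ zpowers a)).elim (fun e' => by
    rw [← pow_two, ← orderOf_dvd_iff_pow_eq_one, ← (h.out' hc e).ord_b, h5, ← h.ord]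
    exact orderOf_dvd_of_mem_zpowers e') fun e' => (h.out' hx e').sq1
  refine ⟨h6 s hs, ?_⟩
  rw [inv_eq_of_mul_eq_one_right (h6 s hs), eq_inv_iff_mul_eq_one, ← h6 _ (mul_mem hs hc)]
  group

/-- Let G be a finite simple group with a dihedral Sylow 2-subgroup S (of order at least 4), t an involution in the
centre of S, C the centralizer of t and O the core of C (its largest normal subgroup of odd order). Suppose that: if O
is nontrivial then the centralizer of O in S is cyclic of index 2 in S; every element of S not centralizing O inverts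
every element of O; and the normalizer of every nontrivial subgroup of O lies in C. Then G is isomorphic to a projective
special linear group of dimension 2 over a field of odd order. -/
theorem result {G : Type*} [Group G] [Finite G] [IsSimpleGroup G] (S : Sylow 2 G) (n : ℕ)
    (hn : 2 ≤ n) (hS : Nonempty ((S : Subgroup G) ≃* DihedralGroup n)) (t : G) (ht : orderOf t = 2)
    (htS : t ∈ (S : Subgroup G))
    (htZ : ∀ s ∈ (S : Subgroup G), s * t = t * s) (O : Subgroup G)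
    (hO : O = (Cfsg.oddCore (Subgroup.centralizer ({t} : Set G))).map (Subgroup.centralizer ({t} : Set G)).subtype)
    (ha : O ≠ ⊥ → IsCyclic ((S : Subgroup G) ⊓ Subgroup.centralizer (O : Set G) : Subgroup G) ∧
      ((S : Subgroup G) ⊓ Subgroup.centralizer (O : Set G)).relIndex (S : Subgroup G) = 2)
    (hb : ∀ s ∈ (S : Subgroup G), s ∉ Subgroup.centralizer (O : Set G) → ∀ y ∈ O, s * y * s⁻¹ = y⁻¹)
    (hc : ∀ Y : Subgroup G, Y ≤ O → Y ≠ ⊥ → Subgroup.normalizer (Y : Set G) ≤ Subgroup.centralizer ({t} : Set G)) :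
    ∃ (F : Type) (_ : Field F) (_ : Fintype F), Odd (Fintype.card F) ∧ Nonempty (G ≃* Matrix.ProjectiveSpecialLinearGroup (Fin 2) F) := by
  obtain ⟨e⟩ := hS
  obtain ⟨a, b, k, h⟩ := Transfer.dh_of S.isPGroup' hn e
  rw [map_pPrimeCore] at hO
  have hSC : (S : Subgroup G) ≤ centralizer {t} := fun s hs => mem_C1.2 (htZ s hs).symm
  have hOC : O ≤ centralizer {t} := hO ▸ Opp_le 2 _
  have hodd : Odd (Nat.card O) := Nat.coprime_two_right.1 (hO ▸ coprime_Opp 2 _)
  have hCN : centralizer {t} ≤ normalizer (O : Set G) := hO ▸ le_normalizer_Opp_of_le le_rfl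
  have hsup : O ⊔ S = centralizer {t} := by
    obtain ⟨N, _, h1, j, h2⟩ := S0514.result S n hn ⟨e⟩ t ht
    refine hO ▸ (BG.hasNPC_iff_sup (sylIn_of_sylow_le S hSC)).1 (Transfer.hasNPC_iff_index.2 ?_)
    obtain ⟨i, -, h3⟩ := (Nat.dvd_prime_pow Nat.prime_two).1
      (h2 ▸ index_dvd_of_le (Transfer.le_oddCore h1))
    exact ⟨i, h3⟩
  have hi : ∀ c : G, orderOf c = 2 ^ (k + 1) → c ∈ S → (zpowers c).relIndex S = 2 := fun c h1 h2 => by
    have := relIndex_mul_card (zpowers_le.2 h2)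
    rw [h.card, Nat.card_zpowers, pow_succ' 2 (k + 1), h1] at this
    exact Nat.eq_of_mul_eq_mul_right (by positivity) this
  have hone := fun u v => one_class_of_cyc (simple_facts (G := G) fun e => by
    have := card_subgroup_dvd_card (S : Subgroup G)
    rw [h.card, e, pow_add] at this
    exact absurd (Nat.le_of_dvd two_pos (dvd_of_mul_left_dvd this)) (by norm_num)).1 S
    (hi a h.ord h.mem_a) (u := u) (v := v)
  obtain ⟨c, h1, h2, h3, h4, h5⟩ : ∃ c ∈ S, (zpowers c).relIndex S = 2 ∧ t ∈ zpowers c ∧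
      zpowers c ≤ centralizer (O : Set G) ∧
      ∀ s ∈ S, s ∉ zpowers c → ∀ y ∈ O, s * y * s⁻¹ = y⁻¹ := by
    by_cases h0 : O = ⊥
    · by_cases h1 : t ∈ zpowers a
      · exact ⟨a, h.mem_a, hi a h.ord h.mem_a, h1, by simp [h0, mem_C1], by simp [h0]⟩
      refine ⟨t, htS, hi t ?_ htS, mem_zpowers t, by simp [h0, mem_C1], by simp [h0]⟩
      have h2 := (h.out' htS h1).inv
      rw [← htZ a h.mem_a, mul_inv_cancel_right, eq_inv_iff_mul_eq_one] at h2
      rw [ht, ← h.ord, ord_of_mul_self h2 fun e => h.z_ne (by simp [e])]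
    obtain ⟨h1, h2⟩ := ha h0
    obtain ⟨c, hc⟩ := (Subgroup.isCyclic_iff_exists_zpowers_eq_top _).1 h1
    exact ⟨c, (hc.le (mem_zpowers c)).1, hc ▸ h2, hc.ge ⟨htS, le_centralizer_singleton_iff.1 hOC⟩,
      hc.le.trans inf_le_right, fun s a b => hb s a fun d => b (hc.ge ⟨a, d⟩)⟩
  obtain ⟨s, hs, h6⟩ := SetLike.not_le_iff_exists.1 (mt relIndex_eq_one.2 (by omega : ¬ (zpowers c).relIndex S = 1))
  obtain ⟨h7, h8⟩ := cyc_out h h1 h2 hs h6
  have hcS := zpowers_le.2 h1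
  have hOS : O ⊓ S = ⊥ := by
    obtain ⟨j, hj⟩ := S.isPGroup'.exists_card_eq
    exact eq_bot_of_coprime (hj ▸ (Nat.coprime_two_right.2 hodd).pow_right j)
  have hm : ∀ x ∈ O ⊔ zpowers c, ∃ y ∈ O, ∃ z ∈ zpowers c, y * z = x := fun x =>
    (mem_sup_of_le_normalizer' (hcS.trans (hSC.trans hCN))).1
  have hi : ∀ w ∈ S, w ∉ zpowers c → ∀ x ∈ O ⊔ zpowers c, w * x * w⁻¹ = x⁻¹ := fun w a b x hx => by
    obtain ⟨y, hy, z, hz, rfl⟩ := hm x hx
    rw [← conj_mul, h5 w a b y hy, Transfer.inverts_of_mem_zpowers (cyc_out h h1 h2 a b).2 hz,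
      h4 hz y hy, mul_inv_rev]
  have hcm : ∀ x ∈ O ⊔ zpowers c, ∀ y ∈ O ⊔ zpowers c, x * y = y * x := fun x hx y hy => by
    have := hi s hs h6 _ (mul_mem hx hy)
    rw [← conj_mul, hi s hs h6 x hx, hi s hs h6 y hy, ← mul_inv_rev] at this
    exact (inv_injective this).symm
  have ht' : ∀ x ∈ O ⊔ zpowers c, x * x = 1 → x ∈ zpowers t := fun x hx h9 => by
    obtain ⟨y, hy, z, hz, rfl⟩ := hm x hx
    have a1 : y * y = (z * z)⁻¹ := eq_inv_of_mul_eq_one_left (by
      rw [← h9, mul_assoc y z, ← mul_assoc z y, ← h4 hz y hy]; group)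
    have a2 := mem_bot.1 (hOS.le ⟨mul_mem hy hy, a1 ▸ hcS (inv_mem (mul_mem hz hz))⟩)
    rw [sq_inj_of_odd (odd_orderOf_of_mem hodd hy) (y := 1) (by simp) (by simpa using a2), one_mul] at h9 ⊢
    by_cases a : z = 1
    · exact a ▸ one_mem _
    · exact invol_unique_zpowers h3 hz ht (ord_of_mul_self h9 a) ▸ mem_zpowers t
  have hK : O ⊔ zpowers c ≤ centralizer {t} := sup_le hOC (hcS.trans hSC)
  have htK : t ∈ O ⊔ zpowers c := mem_sup_right h3
  have := Fintype.ofFinite G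
  refine (BSW.mk ht ⟨⟨fun x y => Subtype.ext (hcm _ x.2 _ y.2)⟩⟩ hK htK
    (ord_of_mul_self h7 fun e => h6 (e ▸ one_mem _)) (hSC hs) (fun e => ?_) ?_
    (le_antisymm (fun x hx => ht' x hx.1 ?_) (zpowers_le.2 ⟨htK, mem_C1.2 (htZ s hs)⟩))
    (hi s hs h6) (fun g hg => ?_) hone).concl.elim fun Q hQ => hQ.elim fun D hQ => hQ.psl
  · obtain ⟨y, hy, z, hz, rfl⟩ := hm s e
    exact h6 (by rwa [mem_bot.1 (hOS.le ⟨hy, (mul_mem_cancel_right (hcS hz)).1 hs⟩), one_mul])
  · rw [sup_assoc, ← hsup, eq_of_le_of_card_ge (sup_le hcS (zpowers_le.2 hs)) (by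
      rw [Transfer.card_sup_zpowers (Transfer.mem_normalizer_zpowers_of_inv h8)
        (by rw [pow_two, h7]; exact one_mem _) h6, ← relIndex_mul_card hcS, h2])]
  · rw [← eq_inv_iff_mul_eq_one, ← hi s hs h6 x hx.1, mem_C1.1 hx.2, mul_inv_cancel_right]
  by_contra h9
  obtain ⟨r, hr, h10⟩ := Nat.exists_prime_and_dvd (mt card_eq_one.1 h9)
  have := Fact.mk hr
  obtain ⟨x, ⟨a1, a2⟩, a3⟩ := exists_mem_orderOf_eq h10
  have a4 : x ≠ 1 := fun e => hr.one_lt.ne' (by rw [← a3, e, orderOf_one])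
  have a5 : ∀ x ∈ O ⊔ zpowers c, orderOf x = 2 → x = t := fun x a b =>
    invol_unique_zpowers (ht' x a (mul_self_of_ord b)) (mem_zpowers t) b ht
  have a6 : g * t * g⁻¹ ≠ t := fun e => hg (mem_C1.2 (mul_inv_eq_iff_eq_mul.1 e).symm)
  have a7 : orderOf (g * t * g⁻¹) = 2 := by rw [ord_conj, ht]
  have a8 : x * (g * t * g⁻¹) = g * t * g⁻¹ * x := by
    calc _ = g * (g⁻¹ * x * g * t) * g⁻¹ := by group
      _ = _ := by rw [hcm _ (mem_cj.1 a2) t htK]; group
  rcases hr.eq_two_or_odd' with rfl | a9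
  · obtain rfl := a5 x a1 a3
    exact a6 (by nth_rw 1 [← a5 _ (mem_cj.1 a2) (by simpa using (ord_conj g⁻¹ x).trans ht)]; group)
  have b1 : x ∈ O := le_of_coprime_relIndex le_sup_left (zpowers_le.2 a1)
    ((zpowers_le.2 a1).trans (hK.trans hCN)) (by
      obtain ⟨j, hj⟩ := (S.isPGroup'.to_le hcS).exists_card_eq
      rw [Nat.card_zpowers, a3]
      exact ((Nat.coprime_two_right.2 a9).pow_right j).coprime_dvd_right
        (hj ▸ relIndex_sup_dvd_card' (hcS.trans (hSC.trans hCN)))) (mem_zpowers x)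
  obtain ⟨y, hy, w, hw, b2⟩ := (mem_sup_of_le_normalizer' (hSC.trans hCN)).1 (hsup.ge (hc _
    (zpowers_le.2 b1) (zpowers_ne_bot.2 a4) (centralizer_le_normalizer _
      (centralizer_zpowers x ▸ mem_C1.2 a8))))
  by_cases b3 : w ∈ zpowers c
  · exact a6 (a5 _ (b2 ▸ mul_mem_sup hy b3) a7)
  have b4 : x = x⁻¹ := by
    calc x = y⁻¹ * (y * w * x * (y * w)⁻¹) * y := by
          rw [b2, ← a8, mul_inv_cancel_right, mul_assoc, hcm x a1 y (mem_sup_left hy)]; group
      _ = _ := by rw [← hi w hw b3 x a1]; group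
  exact a4 (sq_inj_of_odd (a3 ▸ a9) (by simp) (by simpa using eq_inv_iff_mul_eq_one.1 b4))

end Cfsg.Agent.S0508
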