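import Cfsg.Statements.S3757
import Cfsg.Agent.Lib.SSF.Final

set_option autoImplicit false
open Cfsg

namespace Cfsg.Agent.S3757

open Cfsg.Agent.Sg Cfsg.Agent.MS Cfsg.Agent.Transfer Subgroup

/-- Let A and G be subgroups of a finite group with A an elementary abelian p-group of rank at least 3 (order at least p³) normalizing G, and G of order prime to p. If C_G(a) is solvable for every non-identity a ∈ A, then G is solvable. -/
theorem result {X : Type*} [Group X] [Finite X] {p : ℕ} [Fact p.Prime] (A G : Subgroup X) (hA : Cfsg.IsElementaryAbelian p A) (hrank : p ^ 3 ≤ Nat.card A) (hAG : A ≤ Subgroup.normalizer (G : Set X)) (hG : (Nat.card G).Coprime p) (hsol : ∀ a ∈ A, a ≠ 1 → Group.IsSolvable ↥(G ⊓ Subgroup.centralizer ({a} : Set X))) : Group.IsSolvable G := by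
  have h : Comp.SSF p A fun a => G ⊓ C1 a := ⟨hA, fun a _ _ => inf_le_right,
    fun a _ _ => hG.coprime_dvd_left (card_dvd inf_le_left),
    fun a ha _ => nn_inf hAG (nn_C1 (Comp.IsElementaryAbelian.le_centralizer_singleton hA ha)),
    fun a _ _ b _ _ => inf_le_inf_right _ inf_le_left, hsol⟩
  exact sol_mono (ssft h hrank).solv (Comp.le_of_forall_centralizer hA
    ((Nat.pow_le_pow_right (Fact.out : p.Prime).pos (by norm_num)).trans hrank) hAG hG fun a ha h0 =>
      le_iSup (fun a : {a : X // a ∈ A ∧ a ≠ 1} => G ⊓ C1 (a : X)) ⟨a, ha, h0⟩)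

end Cfsg.Agent.S3757
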