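import Cfsg.Statements.S0521
import Cfsg.Agent.Lib.BG.Sec1
import Cfsg.Agent.Lib.Solv.Frattini
import Cfsg.Agent.Lib.Solv.Super

set_option autoImplicit false
open Cfsg

namespace Cfsg.Agent.S0521

open Cfsg.Agent.Char

open Subgroup Cfsg.Agent.Solv in
theorem aux {X : Type*} [Group X] [Finite X] [Group.IsSolvable X]
    (hX : Odd (Nat.card X)) (p : ℕ) [hp : Fact p.Prime] (S : Subgroup X) (hSp : IsPGroup p S)
    (hS : IsCyclic (⁅S, S⁆ : Subgroup X)) (hm : pCore p X ≤ S) (h2 : p ≠ 2)
    (h0 : pPrimeCore p X = ⊥) : S ≤ pCore p X := by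
  let f := QuotientGroup.mk' (frattini X)
  have hF := fitting_eq_pCore h0
  have hFq := fitting_quotient_of_le_frattini (le_refl (frattini X))
  set B := fittingSubgroup (X ⧸ frattini X) with hB
  have hBp : IsPGroup p B := by rw [hFq, hF]; exact (isPGroup_pCore p X).map _
  have hBe : ∀ x ∈ B, x ^ p = 1 := by
    rw [hFq, hF]
    rintro _ ⟨x, hx, rfl⟩
    rw [← map_pow]
    exact (QuotientGroup.eq_one_iff _).2
      (map_frattini_le_frattini _ (pow_mem_map_frattini (isPGroup_pCore p X) hx))
  have hBS : B ≤ S.map f := by rw [hFq, hF]; exact map_mono hm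
  have hY : ⁅B, S.map f⁆ ≤ B := commutator_le_left_of_le_normalizer le_normalizer_of_normal
  have hYc : IsCyclic (⁅B, S.map f⁆ : Subgroup _) := by
    refine BG.isCyclic_of_le (K := (⁅S, S⁆ : Subgroup X).map f) ?_ (BG.isCyclic_map f hS)
    rw [map_commutator]; exact commutator_mono hBS le_rfl
  have hq : ⁅⁅B, S.map f⁆, S.map f⁆ = ⊥ := by
    have hd : Nat.card (⁅B, S.map f⁆ : Subgroup _) ∣ p := by
      rw [← IsCyclic.exponent_eq_card]
      exact Monoid.exponent_dvd_of_forall_pow_eq_one fun g => Subtype.ext (hBe _ (hY g.2))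
    rcases (Nat.dvd_prime hp.out).1 hd with h | h
    · rw [card_eq_one.1 h, commutator_bot_left]
    · rw [Comp.commutator_eq_bot_iff']
      refine le_centralizer_of_card_prime_of_coprime hp.out h
        (le_sup_right.trans (Comp.sup_le_normalizer_commutator _ _)) ?_
      obtain ⟨k, hk⟩ := IsPGroup.iff_card.1 (hSp.map f)
      rw [hk]
      refine Nat.Coprime.pow_left _ ?_
      have := hp.out.one_lt
      rw [show p = (p - 1) + 1 by omega]; simp
  have ho : Odd (Nat.card (⊤ : Subgroup (X ⧸ frattini X))) := by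
    rw [card_top]; exact hX.of_dvd_nat (card_quotient_dvd_card _)
  have h3 := BG.le_Op_of_quadratic h2 ho hBp le_normalizer_of_normal le_top hq
    (hBp.to_le (inf_le_right.trans centralizer_fitting_le))
  rw [Comp.Op_top] at h3
  rw [← comap_mk_pCore (N := frattini X) ((isPGroup_pCore p X).to_le (hF ▸ frattini_le_fitting))]
  exact map_le_iff_le_comap.1 h3

/-- Let X be a finite solvable group of odd order, p a prime and S a Sylow p-subgroup of X whose commutator subgroup is
cyclic. Then the product of the largest normal subgroup of X of order prime to p with S is a normal subgroup of X. -/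
theorem result {X : Type*} [Group X] [Finite X] [Group.IsSolvable X]
    (hX : Odd (Nat.card X)) (p : ℕ) [Fact p.Prime] (S : Sylow p X) (hS : IsCyclic (commutator (S : Subgroup X))) :
    (Cfsg.pPrimeCore p X ⊔ (S : Subgroup X)).Normal := by
  by_cases h2 : p = 2
  · subst h2
    have : pPrimeCore 2 X = ⊤ := top_le_iff.1 (Solv.le_pPrimeCore (by
      rw [Subgroup.card_top]; exact Nat.coprime_two_right.2 hX))
    rw [this, top_sup_eq]; infer_instance
  let f := QuotientGroup.mk' (pPrimeCore p X)
  have h1 : (S : Subgroup X).map f = pCore p _ := by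
    have hle : pCore p _ ≤ (S : Subgroup X).map f :=
      Solv.pCore_le_sylow (S.mapSurjective (QuotientGroup.mk'_surjective _))
    refine le_antisymm (aux (hX.of_dvd_nat (Subgroup.card_quotient_dvd_card _)) p _
      (S.isPGroup'.map f) ?_ hle h2 Solv.pPrimeCore_quotient_pPrimeCore) hle
    rw [← Subgroup.map_commutator, ← Transfer.map_commutator_eq']
    exact BG.isCyclic_map f (BG.isCyclic_map _ (H := commutator (S : Subgroup X)) hS)
  rw [sup_comm, ← Solv.comap_map_mk, h1]
  infer_instance

end Cfsg.Agent.S0521
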