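import Cfsg.Statements.S0522
import Cfsg.Agent.Lib.BG.Sec6
import Cfsg.Agent.Lib.FT.Final

set_option autoImplicit false
open Cfsg

namespace Cfsg.Agent.S0522

open Cfsg.Agent.Char

/-- Transitivity Theorem (odd-order setting). Let X be a finite group of odd order in which the normalizer of every
nontrivial p-subgroup is solvable, P a Sylow p-subgroup, and B an abelian subgroup of P, normalized by P, with
C_P(B) = B and containing an elementary abelian subgroup of order p^3. Then for every prime q ≠ p, any two q-subgroups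
that are maximal among the q-subgroups normalized by B are conjugate by an element of the centralizer of B. -/
theorem result {X : Type*} [Group X] [Finite X] (hX : Odd (Nat.card X)) (p : ℕ)
    [Fact p.Prime] (hloc : ∀ T : Subgroup X, IsPGroup p T → T ≠ ⊥ → Group.IsSolvable (Subgroup.normalizer (T : Set X)))
    (P : Sylow p X) (B : Subgroup X) (hBP : B ≤ (P : Subgroup X))
    (hBn : ∀ x ∈ (P : Subgroup X), ∀ b ∈ B, x * b * x⁻¹ ∈ B) (hBa : IsMulCommutative B)
    (hBc : (P : Subgroup X) ⊓ Subgroup.centralizer (B : Set X) = B)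
    (hB3 : ∃ E : Subgroup X, E ≤ B ∧ (∀ e ∈ E, e ^ p = 1) ∧ p ^ 3 ≤ Nat.card E)
    (q : ℕ) [Fact q.Prime] (hqp : q ≠ p) (Q₁ Q₂ : Subgroup X)
    (h₁ : IsPGroup q Q₁ ∧ B ≤ Subgroup.normalizer (Q₁ : Set X) ∧
      ∀ R : Subgroup X, IsPGroup q R → B ≤ Subgroup.normalizer (R : Set X) → Q₁ ≤ R → R = Q₁)
    (h₂ : IsPGroup q Q₂ ∧ B ≤ Subgroup.normalizer (Q₂ : Set X) ∧
      ∀ R : Subgroup X, IsPGroup q R → B ≤ Subgroup.normalizer (R : Set X) → Q₂ ≤ R → R = Q₂) :
    ∃ c ∈ Subgroup.centralizer (B : Set X), Q₂ = Q₁.map (MulAut.conj c).toMonoidHom := by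
  open Subgroup Comp BG in
  have hs : Group.IsSolvable (⊤ : Subgroup X) := by have := PF.odd_solvable hX; infer_instance
  have ho : Odd (Nat.card (⊤ : Subgroup X)) := by rwa [card_top]
  have hPB : (P : Subgroup X) ≤ normalizer (B : Set X) := fun x hx =>
    mem_normalizer_of_conj_mem (hBn x hx)
  have hB := le_Oppp_of_comm hs ho (sylIn_top P) hBP hBa hPB
  have hBp : IsPGroup p B := P.isPGroup'.to_le hBP
  have hscn : IsSCN (P : Subgroup X) B := ⟨hBP, hPB, hBc⟩
  have key : ∀ Q : Subgroup X, IsPGroup q Q → B ≤ normalizer (Q : Set X) → Q ≤ Opp p ⊤ := by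
    intro Q hQ hn
    have hQc : (Nat.card Q).Coprime p := by
      obtain ⟨k, hk⟩ := IsPGroup.iff_card.1 hQ
      rw [hk]; exact ((Nat.coprime_primes Fact.out Fact.out).2 hqp).pow_left _
    have hc : (Nat.card B).Coprime (Nat.card Q) := by
      obtain ⟨k, hk⟩ := IsPGroup.iff_card.1 hBp
      rw [hk]; exact hQc.symm.pow_left _
    rw [← commutator_sup_Ct hn hc (Or.inl (isSolvable_of_isPGroup hBp))]
    refine sup_le (le_Opp_of_le_Oppp ?_ (coprime_of_le hQc (commutator_le_left_of_le_normalizer hn))) ?_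
    · exact (commutator_mono le_top hB).trans
        (commutator_le_right_of_le_normalizer (le_normalizer_Oppp_self ⊤))
    · refine le_trans ?_ (Opp_inf_Ct_le hs hBp le_top)
      exact le_Opp_of_hasNPC (hscn.hasNPC (sylIn_top P)) (le_inf le_top inf_le_right)
        (coprime_of_le hQc inf_le_left)
  have hc : (Nat.card B).Coprime (Nat.card (Opp p (⊤ : Subgroup X))) := by
    obtain ⟨k, hk⟩ := IsPGroup.iff_card.1 hBp
    rw [hk]; exact (coprime_Opp p _).symm.pow_left _
  have hn : B ≤ normalizer (Opp p (⊤ : Subgroup X) : Set X) := le_normalizer_Opp_of_le le_top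
  have hsB := Or.inl (b := Group.IsSolvable (Opp p (⊤ : Subgroup X))) (isSolvable_of_isPGroup hBp)
  obtain ⟨R₁, a1, a2, a3⟩ := Solv.coprime_exists_sylowIn_ge hn hc hsB (key _ h₁.1 h₁.2.1) h₁.1 h₁.2.1
  obtain ⟨R₂, b1, b2, b3⟩ := Solv.coprime_exists_sylowIn_ge hn hc hsB (key _ h₂.1 h₂.2.1) h₂.1 h₂.2.1
  obtain ⟨c, hc1, hc2⟩ := Solv.coprime_sylowIn_conj hn hc hsB a1 b1 a3 b3
  rw [h₁.2.2 _ a1.2 a3 a2, h₂.2.2 _ b1.2 b3 b2] at hc2
  exact ⟨c, hc1.2, hc2.symm⟩

end Cfsg.Agent.S0522
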