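import Cfsg.Statements.S0529
import Cfsg.Agent.Lib.Solv.Super

set_option autoImplicit false
open Cfsg

namespace Cfsg.Agent.S0529

/-- A finite supersolvable group has a chain of normal subgroups, from the trivial subgroup to the whole group, in which every step has prime index and the primes occurring are non-increasing as one goes up the chain. -/
theorem result {G : Type*} [Group G] [Finite G] (hG : Cfsg.IsSupersolvable G) : ∃ (n : ℕ) (H : Fin (n + 1) → Subgroup G), H 0 = ⊥ ∧ H (Fin.last n) = ⊤ ∧ (∀ i, (H i).Normal) ∧ (∀ i : Fin n, H i.castSucc ≤ H i.succ ∧ ((H i.castSucc).relIndex (H i.succ)).Prime) ∧ ∀ i j : Fin n, i ≤ j → (H j.castSucc).relIndex (H j.succ) ≤ (H i.castSucc).relIndex (H i.succ) := by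
  open Pointwise commutatorElement Subgroup Cfsg.Agent.Solv in
  obtain ⟨n, H, h0, h1, h2, h3, h4⟩ := exists_chain_of_step
    (R := fun N K : Subgroup G => (N.relIndex K).Prime ∧ ∀ q : ℕ, q.Prime → q ∣ N.index → q ≤ N.relIndex K)
    (fun N hN h => by
      obtain ⟨p, hp, h1, h2⟩ := exists_max_prime_dvd (n := N.index) index_ne_zero_of_finite
        (fun e => h (index_eq_one.1 e))
      obtain ⟨K, hK, h3⟩ := ss_exists_normal_card_max (ss_quotient hG N) p hp h1 h2
      have h4 : N.relIndex (K.comap (QuotientGroup.mk' N)) = p := by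
        rw [← card_map_mk_eq_relIndex, map_comap_mk, h3]
      refine ⟨K.comap (QuotientGroup.mk' N), lt_of_le_of_ne (le_comap_mk N K) fun e => ?_,
        inferInstance, h4 ▸ hp, h4 ▸ h2⟩
      rw [← e, relIndex_self] at h4
      exact hp.ne_one h4.symm) ⊥ inferInstance
  refine ⟨n, H, h0, h1, h2, fun i => ⟨h4.monotone (Fin.castSucc_lt_succ (i := i)).le, (h3 i).1⟩,
    fun i j hij => (h3 i).2 _ (h3 j).1 ?_⟩
  have := h2 j.castSucc
  have h5 := relIndex_dvd_index_of_normal (H j.castSucc) (H j.succ)
  exact h5.trans (index_dvd_of_le (h4.monotone (Fin.castSucc_le_castSucc_iff.2 hij)))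

end Cfsg.Agent.S0529
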