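import Cfsg.Statements.S0530
import Cfsg.Agent.Lib.Solv.Super

set_option autoImplicit false
open Cfsg

namespace Cfsg.Agent.S0530
section
open Pointwise commutatorElement Subgroup Cfsg.Agent.Solv
theorem aux (G : Type*) [Group G] [Finite G] : ∀ P : Subgroup G, Group.IsNilpotent P → P.index ∣ 2 →
    IsSupersolvable G := by
  refine card_induction (P := fun G _ _ => ∀ P : Subgroup G, Group.IsNilpotent P → P.index ∣ 2 →
    IsSupersolvable G) (fun G _ _ ih P hP h => ?_) G
  rcases (Nat.dvd_prime Nat.prime_two).1 h with h1 | h1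
  · rw [index_eq_one] at h1
    subst h1
    exact ss_of_nilpotent (Group.nilpotent_of_mulEquiv topEquiv)
  have hq : ∀ x : G, x ≠ 1 → (zpowers x).Normal → IsSupersolvable G := fun x hx hn =>
    ss_of_isCyclic_of_quotient (zpowers x) inferInstance (ih _ (card_quotient_lt
      (fun e => hx (zpowers_eq_bot.1 e))) _ (isNilpotent_map _ hP) ((index_map_mk_dvd _ P).trans h))
  by_cases h0 : P = ⊥
  · rw [h0, index_bot] at h1
    have := Fact.mk Nat.prime_two
    have := isCyclic_of_prime_card h1
    exact ss_of_isCyclic_of_quotient ⊤ (isCyclic_top_iff.2 this)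
      (@ss_of_subsingleton _ _ QuotientGroup.subsingleton_quotient_top)
  have hn := normal_of_index_eq_two h1
  obtain ⟨x, hx, hx1, h2⟩ := exists_central_mod (N := ⊥) hP le_rfl le_normalizer (fun e => h0 (le_bot_iff.1 e))
  simp only [mem_bot, commutatorElement_eq_one_iff_mul_comm] at h2 hx1
  obtain ⟨t, -, ht⟩ := SetLike.not_le_iff_exists.1 (show ¬ ⊤ ≤ P from fun e => by
    rw [top_le_iff.1 e, index_top] at h1; omega)
  have h3 : P ⊔ zpowers t = ⊤ := sup_zpowers_eq_of_relIndex_prime le_top
    (by rw [relIndex_top_right, h1]; exact Nat.prime_two) trivial ht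
  have h4 : ∀ g ∈ P, Commute (t * x * t⁻¹) g := fun g hg => by
    have := h2 _ (hn.conj_mem' g hg t)
    calc t * x * t⁻¹ * g = t * (x * (t⁻¹ * g * t)) * t⁻¹ := by group
      _ = _ := by rw [this]; group
  have h5 : t * (t * x * t⁻¹) * t⁻¹ = x := by
    have := h2 _ (mul_self_mem_of_index_two h1 t)
    calc _ = (t * t) * x * (t * t)⁻¹ := by group
      _ = _ := by rw [← this]; group
  by_cases h6 : x * (t * x * t⁻¹) = 1
  · refine hq x hx1 (normal_iff_top_le_normalizer.2 (h3 ▸ sup_le (fun g hg => mem_normalizer_zpowers ?_)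
      (zpowers_le.2 (mem_normalizer_zpowers ?_))))
    · rw [← h2 g hg]; simp
    · rw [eq_inv_of_mul_eq_one_right h6]; simp
  · refine hq _ h6 (normal_iff_top_le_normalizer.2 (h3 ▸ sup_le (fun g hg => mem_normalizer_zpowers ?_)
      (zpowers_le.2 (mem_normalizer_zpowers ?_))))
    · rw [← (Commute.mul_left (h2 g hg) (h4 g hg)).eq]; simp
    · rw [← conj_mul, h5, (h4 x hx).eq]; simp
end

/-- A finite group whose order is twice a prime power is supersolvable. -/
theorem result {G : Type*} [Group G] [Finite G] (p n : ℕ) (hp : p.Prime) (hG : Nat.card G = 2 * p ^ n) : Cfsg.IsSupersolvable G := by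
  open Pointwise commutatorElement Subgroup Cfsg.Agent.Solv in
  have := Fact.mk hp
  obtain ⟨P, hP⟩ := Sylow.exists_subgroup_card_pow_prime (G := G) p (n := n) (hG ▸ dvd_mul_left _ _)
  refine aux G P (IsPGroup.of_card hP).isNilpotent ?_
  have := P.index_mul_card
  rw [hP, hG] at this
  rw [Nat.eq_of_mul_eq_mul_right (pow_pos hp.pos n) this]

end Cfsg.Agent.S0530
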