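import Cfsg.Statements.S0532
import Cfsg.Agent.Lib.Solv.Super

set_option autoImplicit false
open Cfsg

namespace Cfsg.Agent.S0532
section
open Pointwise commutatorElement Subgroup Cfsg.Agent.Solv
theorem aux (G : Type*) [Group G] [Finite G] : (∀ H : Subgroup G, HasSubgroupOfEveryOrder H) →
    ∀ (p : ℕ) [Fact p.Prime], (∀ q : ℕ, q.Prime → q ∣ Nat.card G → q ≤ p) → ∀ P : Sylow p G,
    (P : Subgroup G).Normal := by
  refine card_induction (P := fun G _ _ => (∀ H : Subgroup G, HasSubgroupOfEveryOrder H) →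
    ∀ (p : ℕ) [Fact p.Prime], (∀ q : ℕ, q.Prime → q ∣ Nat.card G → q ≤ p) → ∀ P : Sylow p G,
    (P : Subgroup G).Normal) (fun G _ _ ih h p hp hmax P => ?_) G
  by_cases hG : IsPGroup p G
  · rw [(isSylowIn_top P).eq_of_le (hG.to_subgroup ⊤) le_rfl le_top |>.symm]; infer_instance
  obtain ⟨q, hq, h1, h2⟩ : ∃ q : ℕ, q.Prime ∧ q ∣ Nat.card G ∧ q ≠ p := by
    by_contra hc
    push Not at hc
    exact hG (isPGroup_of_forall_prime_dvd hc)
  have hne : Nat.card G ≠ 1 := fun e => hq.ne_one (Nat.dvd_one.1 (e ▸ h1))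
  have h3 := Nat.minFac_dvd (Nat.card G)
  have h4 := Nat.minFac_prime hne
  obtain ⟨K, hK⟩ := h ⊤ (Nat.card G / (Nat.card G).minFac) (by
    rw [card_top]; exact Nat.div_dvd_of_dvd h3)
  set L := K.map (⊤ : Subgroup G).subtype
  have h5 : L.index = (Nat.card G).minFac := by
    have := L.index_mul_card
    rw [card_map_of_injective (subtype_injective _), hK] at this
    nth_rw 3 [← Nat.mul_div_cancel' h3] at this
    exact Nat.eq_of_mul_eq_mul_right (Nat.div_pos (Nat.minFac_le Nat.card_pos) h4.pos) this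
  have hL := normal_of_index_eq_minFac_card h5
  have h6 : (Nat.card G).minFac < p :=
    lt_of_le_of_lt (Nat.minFac_le_of_dvd hq.two_le h1) (lt_of_le_of_ne (hmax q hq h1) h2)
  have h7 : (P : Subgroup G) ≤ L := le_of_coprime_index (coprime_card_of_isPGroup P.2 (by
    rw [h5]; exact Nat.not_dvd_of_pos_of_lt h4.pos h6))
  have h8 := ih L (card_lt_of_ne_top fun e => by rw [e, index_top] at h5; exact h4.ne_one h5.symm)
    (fun H d hd => by
      obtain ⟨M, hM⟩ := h (H.map L.subtype) d (by rwa [card_map_of_injective (subtype_injective _)])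
      exact ⟨M.map (H.equivMapOfInjective _ (subtype_injective _)).symm.toMonoidHom, by
        rw [card_map_of_injective (MulEquiv.injective _), hM]⟩)
    p (fun r hr h => hmax r hr (h.trans (card_subgroup_dvd_card L))) (P.subtype h7)
  exact normal_of_isSylowIn_of_le_normalizer (isSylowIn_of_le P h7)
    ((normal_subgroupOf_iff_le_normalizer h7).1 h8)
end

/-- If each subgroup of a finite group satisfies the converse of Lagrange's theorem, then a Sylow subgroup for the largest prime dividing the group order is normal. -/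
theorem result {G : Type*} [Group G] [Finite G] (h : ∀ H : Subgroup G, Cfsg.HasSubgroupOfEveryOrder H) (p : ℕ) [Fact p.Prime] (hdvd : p ∣ Nat.card G) (hmax : ∀ q : ℕ, q.Prime → q ∣ Nat.card G → q ≤ p) (P : Sylow p G) : (P : Subgroup G).Normal := by
  open Pointwise commutatorElement Subgroup Cfsg.Agent.Solv in
  exact aux G h p hmax P

end Cfsg.Agent.S0532
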