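import Cfsg.Statements.S0533
import Cfsg.Agent.Lib.Solv.Super
import Cfsg.Agent.S0532

set_option autoImplicit false
open Cfsg

namespace Cfsg.Agent.S0533
section
open Pointwise commutatorElement Subgroup Cfsg.Agent.Solv
theorem clt_map {G : Type*} [Group G] (L : Subgroup G) (h : ∀ H : Subgroup G, HasSubgroupOfEveryOrder H)
    (H : Subgroup L) : HasSubgroupOfEveryOrder H := fun d hd => by
  obtain ⟨M, hM⟩ := h (H.map L.subtype) d (by rwa [card_map_of_injective (subtype_injective _)])
  exact ⟨M.map (H.equivMapOfInjective _ (subtype_injective _)).symm.toMonoidHom, by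
    rw [card_map_of_injective (MulEquiv.injective _), hM]⟩

theorem aux (G : Type*) [Group G] [Finite G] : (∀ H : Subgroup G, HasSubgroupOfEveryOrder H) →
    IsSupersolvable G := by
  refine card_induction (P := fun G _ _ => (∀ H : Subgroup G, HasSubgroupOfEveryOrder H) →
    IsSupersolvable G) (fun G _ _ ih h => ?_) G
  rcases subsingleton_or_nontrivial G with h1 | h1
  · exact ss_of_subsingleton
  obtain ⟨p, hp, h2, h3⟩ := exists_max_prime_dvd (n := Nat.card G) Nat.card_pos.ne' Finite.one_lt_card.ne'
  have := Fact.mk hp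
  obtain ⟨P⟩ : Nonempty (Sylow p G) := inferInstance
  have hPn := S0532.aux G h p h3 P
  obtain ⟨K, hK⟩ := h ⊤ (Nat.card G / p) (by rw [card_top]; exact Nat.div_dvd_of_dvd h2)
  set L := K.map (⊤ : Subgroup G).subtype
  have h5 : L.index = p := by
    have := L.index_mul_card
    rw [card_map_of_injective (subtype_injective _), hK] at this
    nth_rw 2 [← Nat.mul_div_cancel' h2] at this
    exact Nat.eq_of_mul_eq_mul_right (Nat.div_pos (Nat.le_of_dvd Nat.card_pos h2) hp.pos) this
  have hL := ih L (card_lt_of_ne_top fun e => by rw [e, index_top] at h5; exact hp.ne_one h5.symm)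
    (clt_map L h)
  have h6 : ¬ (P : Subgroup G) ≤ L := fun e => P.not_dvd_index (h5.symm.dvd.trans (index_dvd_of_le e))
  have h7 : (P : Subgroup G) ⊔ L = ⊤ :=
    sup_comm L P ▸ sup_eq_top_of_not_le_coatom (isCoatom_of_index_prime (by rwa [h5])) h6
  have h8 : ((P : Subgroup G) ⊓ L).relIndex P = p := by
    rw [inf_relIndex_left]
    refine (IsProd.relIndex_eq_index ?_).trans h5
    rw [← h7, sup_comm]
    exact (isProd_sup_of_le_normalizer (le_top.trans (normal_iff_top_le_normalizer.1 hPn))).symm
  have hN : ((P : Subgroup G) ⊓ L).Normal := normal_iff_top_le_normalizer.2 (h7 ▸ sup_le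
    (le_normalizer_of_relIndex_prime P.2 inf_le_left h8)
    (le_normalizer_inf (le_top.trans (normal_iff_top_le_normalizer.1 hPn)) le_normalizer))
  refine ss_of_quotient_of_step (P ⊓ L) ?_
    (ss_step_of_supplement P.2.isNilpotent h7 inf_le_left inf_le_right hL)
  refine ss_of_isCyclic_of_quotient ((P : Subgroup G).map (QuotientGroup.mk' _))
    (isCyclic_of_card_prime (by rwa [card_map_mk_eq_relIndex, h8])) ?_
  refine ss_of_surjective hL (f := (QuotientGroup.mk' _).comp ((QuotientGroup.mk' _).comp L.subtype)) ?_
  rw [← MonoidHom.range_eq_top, MonoidHom.range_comp, MonoidHom.range_comp, range_subtype, eq_top_iff,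
    ← map_top_mk, map_mk_le_map_mk_iff, ← Subgroup.map_sup, sup_comm, h7, map_top_mk]
end

/-- If every subgroup of a finite group has subgroups of all orders dividing its order, then the group is supersolvable. -/
theorem result {G : Type*} [Group G] [Finite G] (h : ∀ H : Subgroup G, Cfsg.HasSubgroupOfEveryOrder H) : Cfsg.IsSupersolvable G := by
  open Pointwise commutatorElement Subgroup Cfsg.Agent.Solv in
  exact aux G h

end Cfsg.Agent.S0533
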