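import Cfsg.Statements.S0534
import Cfsg.Agent.Lib.Solv.Super

set_option autoImplicit false
open Cfsg

namespace Cfsg.Agent.S0534

/-- Let G be a finite solvable group and A a finite abelian group such that every prime dividing the order of A divides the order of G and, for each prime p dividing the order of G, the exponent of p in the order of A is one less than its exponent in the order of G. Then G × A has a subgroup of every order dividing its order. -/
theorem result {G A : Type*} [Group G] [CommGroup A] [Finite G] [Finite A] [Group.IsSolvable G] (hA : ∀ p : ℕ, p.Prime → p ∣ Nat.card A → p ∣ Nat.card G) (hexp : ∀ p : ℕ, p.Prime → p ∣ Nat.card G → (Nat.card A).factorization p + 1 = (Nat.card G).factorization p) : Cfsg.HasSubgroupOfEveryOrder (G × A) := by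
  open Pointwise commutatorElement Subgroup Cfsg.Agent.Solv in
  intro d hd
  rw [Nat.card_prod] at hd
  have hd0 : d ≠ 0 := fun e => by
    rw [e, zero_dvd_iff] at hd; exact (mul_ne_zero Nat.card_pos.ne' Nat.card_pos.ne') hd
  obtain ⟨H, hH⟩ := hall_exists (G := G) {p | (Nat.card G).factorization p ≤ d.factorization p}
  have h1 : ∀ q : ℕ, q.Prime → (Nat.card H).factorization q =
      if (Nat.card G).factorization q ≤ d.factorization q then (Nat.card G).factorization q else 0 := by
    intro q hq
    split_ifs with h
    · exact factorization_card_of_not_dvd_index fun e => hH.2 q hq h e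
    · exact Nat.factorization_eq_zero_of_not_dvd fun e => h (hH.1 q hq e)
  have h2 : Nat.card H ∣ d := (Nat.factorization_prime_le_iff_dvd Nat.card_pos.ne' hd0).1 fun q hq => by
    rw [h1 q hq]; split_ifs <;> omega
  obtain ⟨e, rfl⟩ := h2
  have he : e ≠ 0 := right_ne_zero_of_mul hd0
  have h3 : e ∣ Nat.card A := (Nat.factorization_prime_le_iff_dvd he Nat.card_pos.ne').1 fun q hq => by
    have h4 := (Nat.factorization_prime_le_iff_dvd hd0 (mul_ne_zero Nat.card_pos.ne' Nat.card_pos.ne')).2 hd q hq
    have h5 := h1 q hq
    simp only [Nat.factorization_mul Nat.card_pos.ne' he, Nat.factorization_mul Nat.card_pos.ne' Nat.card_pos.ne',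
      Finsupp.add_apply] at h4 h5
    by_cases h6 : q ∣ Nat.card G
    · have := hexp q hq h6
      split_ifs at h5 <;> omega
    · have := Nat.factorization_eq_zero_of_not_dvd h6
      split_ifs at h5 <;> omega
  obtain ⟨B, hB⟩ := ss_hasSubgroup (ss_of_nilpotent (G := A) inferInstance) e h3
  exact ⟨H.prod B, by rw [Nat.card_congr (prodEquiv H B).toEquiv, Nat.card_prod, hB]⟩

end Cfsg.Agent.S0534
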