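import Cfsg.Statements.S0535
import Cfsg.Agent.Lib.Solv.Super

set_option autoImplicit false
open Cfsg

namespace Cfsg.Agent.S0535

/-- Suppose that for every nontrivial subgroup H of a finite group and every prime p dividing the order of H there is a proper subgroup of H whose index in H is a power of p. Then the group is solvable. -/
theorem result {G : Type*} [Group G] [Finite G] (h : ∀ H : Subgroup G, H ≠ ⊥ → ∀ p : ℕ, p.Prime → p ∣ Nat.card H → ∃ K : Subgroup H, K ≠ ⊤ ∧ ∃ k : ℕ, K.index = p ^ k) : Group.IsSolvable G := by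
  open Pointwise commutatorElement Subgroup Cfsg.Agent.Solv in
  refine isSolvable_of_complements_aux G fun p hp => ?_
  obtain ⟨K, -, ⟨k, hk⟩, h1⟩ := exists_minimal_le (P := fun K : Subgroup G => ∃ k, K.index = p ^ k)
    (N := ⊤) ⟨0, by simp⟩
  have h2 : ¬ p ∣ Nat.card K := fun hd => by
    obtain ⟨L, hL, j, hj⟩ := h K (fun e => by simp [e, hp.ne_one] at hd) p hp hd
    have h3 := h1 (L.map K.subtype) ⟨j + k, by rw [index_map_subtype, hj, hk, pow_add]⟩ (map_subtype_le L)
    exact hL (by rw [← map_subtype_subgroupOf K L, h3, subgroupOf_self])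
  refine ⟨K, ?_⟩
  rw [← K.index_mul_card, Nat.factorization_mul index_ne_zero_of_finite Nat.card_pos.ne', Finsupp.add_apply,
    Nat.factorization_eq_zero_of_not_dvd h2, hk, hp.factorization_pow]
  simp

end Cfsg.Agent.S0535
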