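import Cfsg.Statements.S0537
import Cfsg.Agent.Lib.Solv.Schmidt

set_option autoImplicit false
open Cfsg

namespace Cfsg.Agent.S0537

/-- A finite non-abelian group in which every proper subgroup is abelian is either of prime-power order, or is generated by a cyclic Sylow p-subgroup and a normal Sylow q-subgroup that is elementary abelian, for distinct primes p and q. -/
theorem result {G : Type*} [Group G] [Finite G] (hna : ¬ IsMulCommutative G) (h : ∀ H : Subgroup G, H ≠ ⊤ → IsMulCommutative H) : (∃ p : ℕ, p.Prime ∧ IsPGroup p G) ∨ ∃ p q : ℕ, p.Prime ∧ q.Prime ∧ p ≠ q ∧ ∃ (P : Sylow p G) (Q : Sylow q G), IsCyclic P ∧ (Q : Subgroup G).Normal ∧ Cfsg.IsElementaryAbelian q (Q : Subgroup G) ∧ (P : Subgroup G) ⊔ Q = ⊤ := by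
  open Pointwise commutatorElement Subgroup Cfsg.Agent.Solv in
  by_cases hG : Group.IsNilpotent G
  · left
    by_contra hc
    push Not at hc
    refine hna (IsMulCommutative.of_comm fun x y => ?_)
    have h1 : ∀ p : ℕ, p.Prime → ∀ P : Subgroup G, IsSylowIn p P ⊤ → ⊤ ≤ centralizer (P : Set G) := fun p hp P hP =>
      le_of_forall_isSylowIn fun q hq _ => by
        have := Fact.mk hp
        have := Fact.mk hq
        by_cases e : q = p
        · subst e
          have := h P fun e => hc q hq (isPGroup_of_forall_prime_dvd fun r hr hd =>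
            eq_of_isPGroup_of_dvd hP.2 hr (by rwa [e, card_top]))
          exact ⟨P, hP, le_centralizer P⟩
        · obtain ⟨Q, hQ⟩ := exists_isSylowIn q (⊤ : Subgroup G)
          exact ⟨Q, hQ, le_centralizer_of_nilpotent_of_coprime (isNilpotent_top_iff.2 hG) le_top le_top
            (coprime_card_of_isPGroup_ne e hQ.2 hP.2)⟩
    have h2 : (⊤ : Subgroup G) ≤ centralizer ((⊤ : Subgroup G) : Set G) := le_of_forall_isSylowIn fun q hq _ => by
      have := Fact.mk hq
      obtain ⟨Q, hQ⟩ := exists_isSylowIn q (⊤ : Subgroup G)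
      exact ⟨Q, hQ, le_centralizer_iff.1 (h1 q hq Q hQ)⟩
    exact mem_centralizer_iff.1 (h2 (mem_top y)) x trivial
  right
  obtain ⟨p, q, hp, hq, h1, Q, g, h2, h3, h4, h6, h5⟩ := schmidt hG
    fun H hH => isNilpotent_of_isMulCommutative (h H hH)
  have := Fact.mk hp
  have := Fact.mk hq
  obtain ⟨P, hP⟩ := h3.exists_sylow_top
  obtain ⟨Q, rfl⟩ := h2.exists_sylow_top
  have hQ := h Q fun e => hG (isNilpotent_top_iff.1 (e ▸ Q.2.isNilpotent))
  refine ⟨p, q, hp, hq, h1, P, Q, by show IsCyclic (P : Subgroup G); rw [hP]; infer_instance, h4, ⟨hQ, ?_⟩, hP ▸ h5⟩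
  have hc := coprime_card_of_isPGroup_ne h1 h3.2 Q.2
  have h7 : zpowers g ≤ normalizer ((omegaAb q (Q : Subgroup G) hQ : Subgroup G) : Set G) :=
    le_normalizer_of_omega le_normalizer_of_normal' fun x => mem_omegaAb
  by_cases h8 : omegaAb q (Q : Subgroup G) hQ ⊔ zpowers g = ⊤
  · have h9 := dedekind (fun x hx => (mem_omegaAb.1 hx).1 : omegaAb q (Q : Subgroup G) hQ ≤ (Q : Subgroup G)) h7
    rw [h8, top_inf_eq, inf_eq_bot_of_coprime' hc, sup_bot_eq] at h9
    exact fun a ha => (mem_omegaAb.1 (h9 ▸ ha)).2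
  refine absurd (coprime_abelian_le_centralizer hQ le_normalizer_of_normal' hc (fun v hv h9 a ha => ?_)
    (mem_zpowers g)) h6
  refine Solv.isMulCommutative_iff.1 (h _ h8) _ (mem_sup_right ha) _ (mem_sup_left (mem_omegaAb.2 ⟨hv, ?_⟩))
  rw [← eq_of_isPGroup_of_dvd Q.2 h9 (orderOf_dvd_card_of_mem hv), pow_orderOf_eq_one]

end Cfsg.Agent.S0537
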