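import Cfsg.Statements.S0541
import Cfsg.Agent.Lib.Solv.Zip

set_option autoImplicit false
open Pointwise
open Cfsg

namespace Cfsg.Agent.S0541

/-- Let Z and Y be subgroups of a finite group G and p a prime. Suppose that for every g in G the subgroup generated by the conjugates of g Z g⁻¹ under Y is a p-group. Then there is a Sylow p-subgroup P of G such that Y normalizes the subgroup generated by all conjugates of Z contained in P. -/
theorem result {G : Type*} [Group G] [Finite G] (p : ℕ) [Fact p.Prime] (Z Y : Subgroup G) (h : ∀ g : G, IsPGroup p ↥(⨆ y ∈ Y, MulAut.conj (y * g) • Z)) : ∃ P : Sylow p G, Y ≤ Subgroup.normalizer ((⨆ g ∈ {g : G | MulAut.conj g • Z ≤ (P : Subgroup G)}, MulAut.conj g • Z : Subgroup G) : Set G) := by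
  open Pointwise commutatorElement Subgroup Cfsg.Agent.Solv in
  obtain ⟨U, -, ⟨hU, hYU, hUw⟩, hmax⟩ := exists_maximal_ge (P := fun U : Subgroup G => IsPGroup p U ∧
    Y ≤ normalizer (U : Set G) ∧ U ≤ sSup {B | (∃ g : G, B = MulAut.conj g • Z) ∧ B ≤ U}) (N := ⊥)
    ⟨IsPGroup.of_bot, le_normalizer_of_normal, bot_le⟩
  have hUw' : sSup {B | (∃ g : G, B = MulAut.conj g • Z) ∧ B ≤ U} = U :=
    le_antisymm (sSup_le fun B hB => hB.2) hUw
  obtain ⟨P, hP⟩ := hU.exists_le_sylow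
  refine ⟨P, ?_⟩
  by_cases h1 : {B | (∃ g : G, B = MulAut.conj g • Z) ∧ B ≤ U} =
      {B | (∃ g : G, B = MulAut.conj g • Z) ∧ B ≤ P}
  · convert hYU using 3
    rw [← hUw', h1]
    refine le_antisymm (iSup₂_le fun g hg => le_sSup ⟨⟨g, rfl⟩, hg⟩) (sSup_le ?_)
    rintro _ ⟨⟨g, rfl⟩, hg⟩
    exact le_iSup₂_of_le (f := fun g (_ : g ∈ {g : G | MulAut.conj g • Z ≤ (P : Subgroup G)}) =>
      MulAut.conj g • Z) g hg le_rfl
  exfalso
  obtain ⟨_, ⟨⟨g, rfl⟩, h2⟩, h3, h4⟩ := exists_le_normalizer_sSup (P : Subgroup G)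
    {B | (∃ g : G, B = MulAut.conj g • Z) ∧ B ≤ P} _
    (fun B hB => Comp.subnIn_of_isNilpotent P.2.isNilpotent hB.2)
    (by
      rintro _ ⟨⟨g, rfl⟩, hg⟩ x hx
      exact ⟨⟨x * g, conj_smul_conj_smul _ _ _⟩, conj_smul_le_of_mem hg hx⟩)
    (ssubset_of_subset_of_ne (fun B hB => ⟨hB.1, hB.2.trans hP⟩) h1)
  rw [hUw'] at h4
  set L := ⨆ y ∈ Y, MulAut.conj (y * g) • Z with hL
  have h5 : ∀ y ∈ Y, MulAut.conj (y * g) • Z ≤ L := fun y hy =>
    le_iSup₂_of_le (f := fun y (_ : y ∈ Y) => MulAut.conj (y * g) • Z) y hy le_rfl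
  have h6 : L ≤ normalizer (U : Set G) := iSup₂_le fun y hy => by
    rw [← conj_smul_conj_smul]
    exact conj_smul_le_of_mem h4 (hYU hy)
  have h7 : Y ≤ normalizer (L : Set G) := fun y hy => conj_smul_eq_self_iff.1
    (eq_of_le_of_card_le (by
      refine map_le_iff_le_comap.2 (iSup₂_le fun z hz => map_le_iff_le_comap.1 ?_)
      refine le_trans (le_of_eq ?_) (h5 _ (mul_mem hy hz))
      rw [mul_assoc, ← conj_smul_conj_smul y]; rfl) (card_conj_smul _ _).ge)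
  have h8 := hmax (L ⊔ U) ⟨isPGroup_sup (h g) hU h6, le_normalizer_sup h7 hYU, sup_le
    (iSup₂_le fun y hy => le_sSup ⟨⟨_, rfl⟩, (h5 y hy).trans le_sup_left⟩)
    (hUw.trans (sSup_le_sSup fun B hB => ⟨hB.1, hB.2.trans le_sup_right⟩))⟩ le_sup_right
  refine h3 ⟨⟨g, rfl⟩, le_trans ?_ (le_sup_left.trans h8.le)⟩
  simpa using h5 1 (one_mem Y)

end Cfsg.Agent.S0541
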