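import Cfsg.Statements.S0546
import Cfsg.Agent.Lib.BG.Sys

set_option autoImplicit false
open Cfsg

namespace Cfsg.Agent.S0546

/-- The normal closure of a system normalizer of a finite solvable group is the whole group. -/
theorem result {G : Type*} [Group G] [Finite G] [Group.IsSolvable G] (K : Nat.Primes → Subgroup G) (hK : Cfsg.IsComplementSystem K) : Subgroup.normalClosure ((Cfsg.systemNormalizer K : Subgroup G) : Set G) = ⊤ := by
  open Pointwise commutatorElement Subgroup in
  open Cfsg.Agent.Comp Cfsg.Agent.BG Subgroup in
  by_contra h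
  obtain ⟨V, h1, h2⟩ := exists_chief_below (X := ⊤) (le_Nm_top _) le_normalizer_of_normal (lt_top_iff_ne_top.2 h)
  haveI := normal_iff_top_le_normalizer.2 h2.nV
  exact h2.lt.not_ge ((Sys.cover hK (h2.commutator_le h2.nV inferInstance)).trans (sup_le le_rfl (le_normalClosure.trans h1)))

end Cfsg.Agent.S0546
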