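import Cfsg.Statements.S0548
import Cfsg.Agent.Lib.Solv.Prim

set_option autoImplicit false
open Cfsg

namespace Cfsg.Agent.S0548
section
open Pointwise commutatorElement Subgroup Cfsg.Agent.Solv
theorem core_eq_bot {G : Type*} [Group G] {Ω : Type*} [MulAction G Ω] [FaithfulSMul G Ω]
    [MulAction.IsPretransitive G Ω] (ω : Ω) : (MulAction.stabilizer G ω).normalCore = ⊥ :=
  eq_bot_iff_forall _ |>.2 fun x hx => eq_of_smul_eq_smul (α := Ω) fun a => by
    obtain ⟨g, rfl⟩ := MulAction.exists_smul_eq G ω a
    have := hx g⁻¹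
    rw [MulAction.mem_stabilizer_iff, inv_inv, mul_smul, mul_smul, inv_smul_eq_iff] at this
    rw [this, one_smul]

theorem coatom {G : Type*} [Group G] {Ω : Type*} [MulAction G Ω] [FaithfulSMul G Ω]
    [MulAction.IsPreprimitive G Ω] {M : Subgroup G} (hM : M ≠ ⊥) (ω : Ω) : IsCoatom (MulAction.stabilizer G ω) := by
  rcases subsingleton_or_nontrivial Ω with h | h
  · exact absurd (eq_bot_iff_forall _ |>.2 fun x _ => eq_of_smul_eq_smul (α := Ω) fun a => Subsingleton.elim _ _) hM
  · exact MulAction.IsPreprimitive.isCoatom_stabilizer_of_isPreprimitive G ω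
end

/-- Let a finite solvable group G act faithfully and primitively on a set, let M be a minimal normal subgroup and H the stabilizer of a point. Then H is a complement to M, no non-identity element of H centralizes M, and the only subgroups of M normalized by H are the trivial subgroup and M. -/
theorem result {G : Type*} [Group G] [Finite G] [Group.IsSolvable G] {Ω : Type*} [MulAction G Ω] [FaithfulSMul G Ω] (hprim : MulAction.IsPreprimitive G Ω) (M : Subgroup G) [M.Normal] (hM : M ≠ ⊥) (hmin : ∀ K : Subgroup G, K.Normal → K ≤ M → K = ⊥ ∨ K = M) (ω : Ω) : Subgroup.IsComplement' M (MulAction.stabilizer G ω) ∧ MulAction.stabilizer G ω ⊓ Subgroup.centralizer (M : Set G) = ⊥ ∧ ∀ K : Subgroup G, K ≤ M → MulAction.stabilizer G ω ≤ Subgroup.normalizer (K : Set G) → K = ⊥ ∨ K = M := by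
  open Pointwise commutatorElement Subgroup Cfsg.Agent.Solv in
  have h1 := core_eq_bot (G := G) ω
  have h2 := coatom hM ω
  obtain ⟨hc, -⟩ := minimal_normal_elementary M inferInstance hM hmin
  have h3 := centralizer_inf_eq_bot_of_core h2 h1 hM
  have h4 := sup_eq_top_of_core h2 h1 hM
  refine ⟨isComplement'_of_inf_eq_bot_of_sup_eq_top (le_bot_iff.1 (h3 ▸ inf_le_inf_right _ (le_centralizer M))) h4,
    inf_comm _ _ |>.trans h3, fun K h5 h6 => hmin K (normal_iff_top_le_normalizer.2 (h4 ▸ sup_le
      (((le_centralizer M).trans (centralizer_anti h5)).trans (centralizer_le_normalizer _)) h6)) h5⟩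

end Cfsg.Agent.S0548
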