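import Cfsg.Statements.S0547
import Cfsg.Agent.Lib.Solv.Prim
import Cfsg.Agent.S0548

set_option autoImplicit false
open Cfsg

namespace Cfsg.Agent.S0547

/-- Let a finite solvable group G act faithfully and primitively on a set, and let M be a minimal normal subgroup of G. Then M is transitive with trivial point stabilizers, and the number of points equals the order of M, which is a prime power p ^ d with d ≥ 1. -/
theorem result {G : Type*} [Group G] [Finite G] [Group.IsSolvable G] {Ω : Type*} [Nonempty Ω] [MulAction G Ω] [FaithfulSMul G Ω] (hprim : MulAction.IsPreprimitive G Ω) (M : Subgroup G) [M.Normal] (hM : M ≠ ⊥) (hmin : ∀ K : Subgroup G, K.Normal → K ≤ M → K = ⊥ ∨ K = M) : MulAction.IsPretransitive M Ω ∧ (∀ ω : Ω, MulAction.stabilizer M ω = ⊥) ∧ ∃ p d : ℕ, p.Prime ∧ 0 < d ∧ Nat.card Ω = p ^ d ∧ Nat.card M = p ^ d := by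
  open Pointwise commutatorElement Subgroup Cfsg.Agent.Solv in
  obtain ⟨ω⟩ := ‹Nonempty Ω›
  obtain ⟨-, p, hp, he⟩ := minimal_normal_elementary M inferInstance hM hmin
  have := Fact.mk hp
  have h := fun ω => (S0548.result hprim M hM hmin ω).1
  obtain ⟨d, hd⟩ := (isPGroup_of_pow_eq_one he).exists_card_eq
  refine ⟨⟨fun a b => ?_⟩, fun a => eq_bot_iff_forall _ |>.2 fun x hx => Subtype.ext
    (mem_bot.1 (IsComplement'.inf_eq_bot (h a) ▸ mem_inf.2 ⟨x.2, hx⟩)), p, d, hp,
    Nat.pos_of_ne_zero fun e => hM (card_eq_one.1 (by rw [hd, e, pow_zero])), ?_, hd⟩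
  · obtain ⟨g, rfl⟩ := MulAction.exists_smul_eq G a b
    obtain ⟨m, hm, s, hs, rfl⟩ := IsComplement'.exists_mul (h a) g
    exact ⟨⟨m, hm⟩, by rw [mul_smul, MulAction.mem_stabilizer_iff.1 hs]; rfl⟩
  · rw [← hd, IsComplement'.card_eq_index (h ω).symm, MulAction.index_stabilizer_of_transitive]

end Cfsg.Agent.S0547
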