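import Cfsg.Statements.S0550
import Cfsg.Agent.Lib.Solv.Prim

set_option autoImplicit false
open Cfsg

namespace Cfsg.Agent.S0550

/-- Let U be a maximal subgroup with trivial normal core in a finite group G, and A ≠ B two minimal normal subgroups. Then A is the centralizer of B and B that of A, U complements each of them, A and B are non-abelian, and A, B and (A ⊔ B) ∩ U are pairwise isomorphic. -/
theorem result {G : Type*} [Group G] [Finite G] (U : Subgroup G) (hU : IsCoatom U) (hcore : U.normalCore = ⊥) (A B : Subgroup G) [A.Normal] [B.Normal] (hA : A ≠ ⊥) (hB : B ≠ ⊥) (hAmin : ∀ K : Subgroup G, K.Normal → K ≤ A → K = ⊥ ∨ K = A) (hBmin : ∀ K : Subgroup G, K.Normal → K ≤ B → K = ⊥ ∨ K = B) (hAB : A ≠ B) : Subgroup.centralizer (B : Set G) = A ∧ Subgroup.centralizer (A : Set G) = B ∧ Subgroup.IsComplement' A U ∧ Subgroup.IsComplement' B U ∧ ¬ IsMulCommutative A ∧ Nonempty (A ≃* B) ∧ Nonempty (A ≃* ↥((A ⊔ B) ⊓ U)) := by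
  open Pointwise commutatorElement Subgroup Cfsg.Agent.Solv in
  have h1 : A ⊓ B = ⊥ := (hAmin _ inferInstance inf_le_left).resolve_right fun e =>
    hAB ((hBmin A inferInstance (inf_eq_left.1 e)).resolve_left hA)
  have h2 := le_centralizer_of_inf_eq_bot le_normalizer_of_normal' le_normalizer_of_normal' h1
  have h3 := eq_centralizer_of_core hU hcore hB hA h2
  have h4 := eq_centralizer_of_core hU hcore hA hB (le_centralizer_iff.1 h2)
  have h5 : A ⊓ U = ⊥ := h3 ▸ centralizer_inf_eq_bot_of_core hU hcore hB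
  have h6 : B ⊓ U = ⊥ := h4 ▸ centralizer_inf_eq_bot_of_core hU hcore hA
  have h7 := dedekind (le_sup_left : A ≤ A ⊔ B) (le_normalizer_of_normal' : U ≤ _)
  have h8 := dedekind (le_sup_right : B ≤ A ⊔ B) (le_normalizer_of_normal' : U ≤ _)
  rw [sup_eq_top_of_core hU hcore hA, top_inf_eq, inf_comm U] at h7
  rw [sup_eq_top_of_core hU hcore hB, top_inf_eq, inf_comm U] at h8
  obtain ⟨e1⟩ := nonempty_equiv_of_sup_eq (A := A) (B := B) (D := (A ⊔ B) ⊓ U) (inf_comm A B ▸ h1)
    (le_bot_iff.1 (h5 ▸ le_inf inf_le_right (inf_le_left.trans inf_le_right))) ((sup_comm _ _).trans (h7.trans (sup_comm _ _)))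
  obtain ⟨e2⟩ := nonempty_equiv_of_sup_eq (A := B) (B := A) (D := (A ⊔ B) ⊓ U) h1
    (le_bot_iff.1 (h6 ▸ le_inf inf_le_right (inf_le_left.trans inf_le_right))) (h8.trans (sup_comm _ _))
  refine ⟨h3.symm, h4.symm, isComplement'_of_inf_eq_bot_of_sup_eq_top h5 (sup_eq_top_of_core hU hcore hA),
    isComplement'_of_inf_eq_bot_of_sup_eq_top h6 (sup_eq_top_of_core hU hcore hB), fun hc => hA ?_,
    ⟨e2.trans e1.symm⟩, ⟨e2⟩⟩
  rw [← h1, inf_eq_left.2 (h4 ▸ le_centralizer A)]

end Cfsg.Agent.S0550
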