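import Cfsg.Statements.S0551
import Cfsg.Agent.Lib.Solv.Prim

set_option autoImplicit false
open Pointwise
open Cfsg

namespace Cfsg.Agent.S0551

/-- In a finite solvable group all core-free maximal subgroups are conjugate. -/
theorem result {G : Type*} [Group G] [Finite G] [Group.IsSolvable G] (U V : Subgroup G) (hU : IsCoatom U) (hV : IsCoatom V) (hUc : U.normalCore = ⊥) (hVc : V.normalCore = ⊥) : ∃ g : G, MulAut.conj g • U = V := by
  open Pointwise commutatorElement Subgroup Cfsg.Agent.Solv in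
  have : Nontrivial G := top_ne_bot_iff.1 fun e => hU.1 (top_le_iff.1 (e ▸ bot_le))
  obtain ⟨N, -, hN, h0, hmin⟩ := exists_minimal_normal_le (⊤ : Subgroup G) (top_ne_bot_iff.2 this)
  obtain ⟨hc, p, hp, he⟩ := minimal_normal_elementary N inferInstance h0 hmin
  have h1 := eq_centralizer_of_core hU hUc h0 h0 (le_centralizer N)
  have h2 : N ⊓ U = ⊥ := h1 ▸ centralizer_inf_eq_bot_of_core hU hUc h0
  have h3 : N ⊓ V = ⊥ := h1 ▸ centralizer_inf_eq_bot_of_core hV hVc h0
  by_cases h4 : N = ⊤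
  · rw [h4, top_inf_eq] at h2 h3
    exact ⟨1, by rw [conj_one_smul, h2, h3]⟩
  have : Nontrivial (G ⧸ N) := QuotientGroup.nontrivial_iff.2 h4
  obtain ⟨K, -, hK, h5, hmin'⟩ := exists_minimal_normal_le (⊤ : Subgroup (G ⧸ N)) (top_ne_bot_iff.2 this)
  obtain ⟨-, q, hq, he'⟩ := minimal_normal_elementary K inferInstance h5 hmin'
  have := Fact.mk hp
  have := Fact.mk hq
  have h6 : ¬ K.comap (QuotientGroup.mk' N) ≤ N := fun e => h5 (by
    rw [← map_comap_mk N K, map_mk_eq_bot_iff]; exact e)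
  have h7 : q ≠ p := by
    rintro rfl
    exact h6 ((le_pCore (isPGroup_comap_mk (isPGroup_of_pow_eq_one he) (isPGroup_of_pow_eq_one he'))).trans
      (pCore_le_fitting.trans (h1 ▸ fitting_le_centralizer_of_minimal_normal N hmin)))
  have key : ∀ W : Subgroup G, IsCoatom W → W.normalCore = ⊥ → N ⊓ W = ⊥ →
      IsSylowIn q (W ⊓ K.comap (QuotientGroup.mk' N)) (K.comap (QuotientGroup.mk' N)) ∧
      normalizer ((W ⊓ K.comap (QuotientGroup.mk' N) : Subgroup G) : Set G) = W := fun W h8 h9 h10 => by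
    have h11 := dedekind (le_comap_mk N K) (le_normalizer_of_normal' : W ≤ _)
    rw [sup_eq_top_of_core h8 h9 h0, top_inf_eq] at h11
    refine ⟨(isSylowIn_of_sup_eq h7 (isPGroup_of_pow_eq_one fun x hx => mem_bot.1 (h10 ▸ mem_inf.2
      ⟨(QuotientGroup.eq_one_iff _).1 (he' _ hx.2), pow_mem hx.1 q⟩)) (isPGroup_of_pow_eq_one he)
      le_normalizer_of_normal' (by rw [sup_comm, ← h11])).1, normalizer_eq_of_core h8 h9 inf_le_left
      (fun e => h6 (by rw [h11, e, sup_bot_eq])) (le_normalizer_inf le_normalizer le_normalizer_of_normal')⟩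
  obtain ⟨a1, a2⟩ := key U hU hUc h2
  obtain ⟨b1, b2⟩ := key V hV hVc h3
  obtain ⟨g, -, hg⟩ := a1.exists_conj b1
  exact ⟨g, by rw [← a2, ← b2, ← hg, normalizer_conj_smul]⟩

end Cfsg.Agent.S0551
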