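import Cfsg.Statements.S0553
import Cfsg.Agent.Lib.Solv.Prim

set_option autoImplicit false
open Cfsg

namespace Cfsg.Agent.S0553

/-- Let G be a nontrivial finite solvable group in which every maximal subgroup has order coprime to its index. Then for some prime p dividing the order of G the Sylow p-subgroups of G are normal. -/
theorem result {G : Type*} [Group G] [Finite G] [Group.IsSolvable G] [Nontrivial G] (h : ∀ M : Subgroup G, IsCoatom M → (Nat.card M).Coprime M.index) : ∃ p : ℕ, p.Prime ∧ p ∣ Nat.card G ∧ ∀ P : Sylow p G, (P : Subgroup G).Normal := by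
  open Pointwise commutatorElement Subgroup Cfsg.Agent.Solv in
  obtain ⟨M, hM, h1⟩ : ∃ M : Subgroup G, IsCoatom M ∧ ¬ fittingSubgroup G ≤ M := by
    by_contra hc
    push Not at hc
    exact fitting_not_le_frattini (le_frattini_iff.2 hc)
  obtain ⟨⟨p, hp⟩, h2⟩ : ∃ p : Nat.Primes, ¬ pCore (p : ℕ) G ≤ M := by
    by_contra hc
    push Not at hc
    exact h1 (by rw [fitting_eq_iSup]; exact iSup_le hc)
  have := Fact.mk hp
  have h3 : IsProd ⊤ M (pCore p G) :=
    sup_eq_top_of_not_le_coatom hM h2 ▸ isProd_sup_of_le_normalizer le_normalizer_of_normal'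
  obtain ⟨q, hq, h4⟩ := Nat.exists_prime_and_dvd (fun e => hM.1 (index_eq_one.1 e))
  obtain rfl := eq_of_isPGroup_of_dvd (isPGroup_pCore p G) hq (h4.trans h3.symm.index_dvd_card)
  have h5 : IsSylowIn q (pCore q G) ⊤ := ⟨le_top, isPGroup_pCore q G, fun e => by
    rw [relIndex_top_right] at e
    exact hq.coprime_iff_not_dvd.1 ((h M hM).symm.coprime_dvd_left h4) (e.trans h3.index_dvd_card)⟩
  exact ⟨q, hq, h4.trans M.index_dvd_card, fun P =>
    h5.eq_of_le P.2 le_top (pCore_le_sylow P) ▸ inferInstance⟩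

end Cfsg.Agent.S0553
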