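import Cfsg.Statements.S0554
import Cfsg.Agent.Lib.Solv.Prim

set_option autoImplicit false
open Cfsg

namespace Cfsg.Agent.S0554
section
open Pointwise commutatorElement Subgroup Cfsg.Agent.Solv
theorem absorb {G : Type*} [Group G] (N : Subgroup G) [hN : N.Normal] : ∀ (t : ℕ) (S : Fin t → Subgroup G) (i : Fin t),
    N ≤ S i → ∀ n ∈ N, ∀ s : Fin t → G, (∀ j, s j ∈ S j) →
    ∃ s' : Fin t → G, (∀ j, s' j ∈ S j) ∧ n * (List.ofFn s).prod = (List.ofFn s').prod := by
  intro t
  induction t with
  | zero => exact fun _ i => i.elim0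
  | succ t ih =>
    intro S i h n hn s hs
    induction i using Fin.cases with
    | zero =>
      exact ⟨Fin.cons (n * s 0) (Fin.tail s), fun j => Fin.cases (mul_mem (h hn) (hs 0)) (fun k => hs k.succ) j,
        by simp [List.ofFn_succ, mul_assoc, Fin.tail]⟩
    | succ i =>
      obtain ⟨s', h1, h2⟩ := ih (Fin.tail S) i h _ (hN.conj_mem' n hn (s 0)) (Fin.tail s) fun j => hs j.succ
      refine ⟨Fin.cons (s 0) s', fun j => Fin.cases (hs 0) (fun k => h1 k) j, ?_⟩
      simp only [List.ofFn_succ, List.prod_cons, Fin.cons_zero, Fin.cons_succ, ← h2]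
      simp [mul_assoc]; rfl

theorem aux (G : Type*) [Group G] [Finite G] (t : ℕ) (p : Fin t → ℕ) (hp : ∀ i, (p i).Prime) :
    Group.IsSolvable G → (∀ q : ℕ, q.Prime → q ∣ Nat.card G → ∃ i, p i = q) → ∀ S : Fin t → Subgroup G,
    (∀ i, IsSylowIn (p i) (S i) ⊤) → ∀ g : G, ∃ s : Fin t → G, (∀ i, s i ∈ S i) ∧ g = (List.ofFn s).prod := by
  refine card_induction (P := fun G _ _ => Group.IsSolvable G → (∀ q : ℕ, q.Prime → q ∣ Nat.card G → ∃ i, p i = q) →
    ∀ S : Fin t → Subgroup G, (∀ i, IsSylowIn (p i) (S i) ⊤) → ∀ g : G, ∃ s : Fin t → G, (∀ i, s i ∈ S i) ∧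
    g = (List.ofFn s).prod) (fun G _ _ ih hs h S hS g => ?_) G
  rcases subsingleton_or_nontrivial G with h1 | h1
  · exact ⟨1, fun i => one_mem _, Subsingleton.elim _ _⟩
  obtain ⟨N, -, hN, h0, hmin⟩ := exists_minimal_normal_le (⊤ : Subgroup G) (top_ne_bot_iff.2 h1)
  obtain ⟨-, q, hq, he⟩ := minimal_normal_elementary N inferInstance h0 hmin
  have := Fact.mk hq
  obtain ⟨i, rfl⟩ := h q hq ((dvd_card_of_isPGroup (isPGroup_of_pow_eq_one he) h0).trans (card_subgroup_dvd_card N))
  obtain ⟨s, h2, h3⟩ := ih _ (card_quotient_lt h0) inferInstance (fun q hq hd => h q hq (hd.trans N.index_dvd_card))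
    (fun j => (S j).map (QuotientGroup.mk' N)) (fun j => by
      have := Fact.mk (hp j)
      exact map_top_mk N ▸ (hS j).map _) (QuotientGroup.mk' N g)
  choose s' h4 h5 using h2
  obtain ⟨s'', h6, h7⟩ := absorb N t S i ((hS i).le_of_le_normalizer (isPGroup_of_pow_eq_one he) le_top
    le_normalizer_of_normal') (g * ((List.ofFn s').prod)⁻¹) (by
      rw [← QuotientGroup.eq_one_iff]
      show QuotientGroup.mk' N _ = 1
      rw [map_mul, map_inv, h3, map_list_prod, List.map_ofFn, show _ ∘ s' = s from funext h5, mul_inv_cancel]) s' h4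
  exact ⟨s'', h6, by rw [← h7, inv_mul_cancel_right]⟩
end

/-- Let G be a finite solvable group and let S assign to each of t distinct primes, including every prime divisor of the order of G, a Sylow subgroup of G. Then every element of G is a product s_0 s_1 ⋯ s_(t-1) with s_i in S i, the factors taken in the given order. -/
theorem result {G : Type*} [Group G] [Finite G] [Group.IsSolvable G] (t : ℕ) (p : Fin t → ℕ) (hp : ∀ i, (p i).Prime) (hinj : Function.Injective p) (hall : ∀ q : ℕ, q.Prime → q ∣ Nat.card G → ∃ i, p i = q) (S : (i : Fin t) → Sylow (p i) G) : ∀ g : G, ∃ s : (i : Fin t) → G, (∀ i, s i ∈ (S i : Subgroup G)) ∧ g = (List.ofFn s).prod := by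
  open Pointwise commutatorElement Subgroup Cfsg.Agent.Solv in
  exact aux G t p hp inferInstance hall (fun i => S i) fun i => have := Fact.mk (hp i); isSylowIn_top (S i)

end Cfsg.Agent.S0554
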