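import Cfsg.Statements.S0555
import Cfsg.Agent.Lib.Solv.Prim

set_option autoImplicit false
open Cfsg

namespace Cfsg.Agent.S0555

/-- Let i ≥ 1. If in the derived series of a group the quotient of the i-th term by the (i+1)-st and the quotient of the (i+1)-st by the (i+2)-nd are both cyclic, then the (i+1)-st and (i+2)-nd terms coincide. -/
theorem result {G : Type*} [Group G] (i : ℕ) (hi : 1 ≤ i) (h₁ : IsCyclic (↥(derivedSeries G i) ⧸ (derivedSeries G (i + 1)).subgroupOf (derivedSeries G i))) (h₂ : IsCyclic (↥(derivedSeries G (i + 1)) ⧸ (derivedSeries G (i + 2)).subgroupOf (derivedSeries G (i + 1)))) : derivedSeries G (i + 1) = derivedSeries G (i + 2) := by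
  open Pointwise commutatorElement Subgroup Cfsg.Agent.Solv in
  obtain ⟨a, ha, h1⟩ := exists_le_sup_zpowers_of_isCyclic_quotient h₁
  obtain ⟨b, hb, h2⟩ := exists_le_sup_zpowers_of_isCyclic_quotient h₂
  refine le_antisymm ?_ (derivedSeries_antitone G (Nat.le_succ _))
  set f := QuotientGroup.mk' (derivedSeries G (i + 2))
  have h3 : IsCyclic ((derivedSeries G (i + 1)).map f) := isCyclic_iff_exists_le_zpowers.2
    ⟨f b, mem_map_of_mem f hb, by
      rw [← MonoidHom.map_zpowers, map_mk_le_map_mk_iff, sup_comm]; exact h2⟩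
  have h4 : (derivedSeries G i).map f ≤ centralizer ((derivedSeries G (i + 1)).map f : Subgroup _) :=
    le_trans (by
      rw [← map_top_mk, ← map_commutator]
      exact map_mono (derivedSeries_antitone G hi)) (commutator_le_centralizer_of_isCyclic h3 (L := ⊤)
      le_normalizer_of_normal')
  have h5 := isMulCommutative_of_le (map_mono (f := f) h1) (by
    rw [Subgroup.map_sup, MonoidHom.map_zpowers]
    exact isMulCommutative_sup_zpowers inferInstance (h4 (mem_map_of_mem f ha)))
  rw [← map_mk_eq_bot_iff]
  show Subgroup.map f ⁅derivedSeries G i, derivedSeries G i⁆ = ⊥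
  rw [map_commutator, commutator_eq_bot_iff_le_centralizer]
  exact le_centralizer _

end Cfsg.Agent.S0555
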