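import Cfsg.Statements.S0556
import Cfsg.Agent.Lib.Solv.Prim

set_option autoImplicit false
open Cfsg

namespace Cfsg.Agent.S0556
section
open Pointwise commutatorElement Subgroup Cfsg.Agent.Solv
theorem aux {G : Type*} [Group G] {K A : Subgroup G} [K.Normal] (hK : IsMulCommutative K)
    (hA : IsMulCommutative A) (h : K ⊔ A = ⊤) : derivedSeries G 2 = ⊥ :=
  ito_derivedSeries hA hK (by rw [← h, sup_comm]; exact isProd_sup_of_le_normalizer le_normalizer_of_normal')
end

/-- If a finite group has a maximal subgroup that is abelian, then the third term of its derived series is trivial (so the group is solvable of derived length at most three). -/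
theorem result {G : Type*} [Group G] [Finite G] (A : Subgroup G) (hA : IsCoatom A) [IsMulCommutative A] : derivedSeries G 3 = ⊥ := by
  open Pointwise commutatorElement Subgroup Cfsg.Agent.Solv in
  by_cases hn : A.Normal
  · obtain ⟨x, -, hx⟩ := SetLike.not_le_iff_exists.1 (fun e => hA.1 (top_le_iff.1 e))
    exact le_bot_iff.1 (aux (K := A) (A := zpowers x) inferInstance inferInstance
      (sup_eq_top_of_not_le_coatom hA fun e => hx (zpowers_le.1 e)) ▸ derivedSeries_antitone G (by omega))
  have h1 : normalizer (A : Set G) = A := (le_normalizer.eq_or_lt.resolve_right fun e =>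
    hn (normalizer_eq_top_iff.1 (hA.2 _ e))).symm
  have h2 : center G ≤ A := h1 ▸ center_le_normalizer _
  have h3 : IsFrobeniusComplement (A.map (QuotientGroup.mk' (center G))) := by
    refine ⟨fun e => hn (normal_of_le_center ((map_mk_eq_bot_iff _).1 e)), (isCoatom_map_mk hA h2).1, fun g hg => ?_⟩
    obtain ⟨g, rfl⟩ := QuotientGroup.mk'_surjective _ g
    have h4 : A ⊔ MulAut.conj g • A = ⊤ := sup_eq_top_of_not_le_coatom hA fun e => hg (mem_map_of_mem _
      (h1 ▸ conj_smul_eq_self_iff.1 (eq_of_le_of_card_le e (card_conj_smul g A).ge)))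
    rw [← map_conj_smul, eq_bot_iff_forall]
    rintro _ ⟨⟨a, ha, rfl⟩, h5⟩
    have h6 : a ∈ MulAut.conj g • A := by
      have := (comap_map_mk (center G) _).le h5
      rwa [sup_eq_left.2] at this
      rw [← conj_smul_eq_self_iff.2 (le_normalizer_of_normal' (mem_top g) : g ∈ normalizer (center G : Set G))]
      exact conj_smul_mono g h2
    have h7 : IsMulCommutative (MulAut.conj g • A : Subgroup G) := by rw [conj_smul_eq_map]; infer_instance
    have h8 : ⊤ ≤ centralizer ({a} : Set G) := h4 ▸ sup_le
      (fun x hx => mem_centralizer_singleton.2 (Solv.isMulCommutative_iff.1 inferInstance a ha x hx))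
      (fun x hx => mem_centralizer_singleton.2 (Solv.isMulCommutative_iff.1 h7 a h6 x hx))
    exact (QuotientGroup.eq_one_iff _).2 (mem_center_iff.2 fun x => (mem_centralizer_singleton.1 (h8 (mem_top x))).symm)
  obtain ⟨K, -, h4, h5, h6, h7⟩ := exists_frobenius_kernel h3
  have h8 := thompson_fpf le_normalizer_of_normal' h3.1 h7
  have h9 : ⁅K, K⁆ = ⊥ := by
    by_contra h10
    have h11 := dedekind (commutator_le_left K K) (le_normalizer_of_normal' : A.map (QuotientGroup.mk' (center G)) ≤ _)
    rw [sup_comm, sup_eq_top_of_not_le_coatom (isCoatom_map_mk hA h2) (fun e => h10 (le_bot_iff.1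
      (IsComplement'.inf_eq_bot h5 ▸ le_inf (commutator_le_left K K) e))), top_inf_eq, inf_comm,
      IsComplement'.inf_eq_bot h5, sup_bot_eq] at h11
    exact h6 (eq_bot_of_le_commutator_of_nilpotent h8 le_rfl le_rfl h11.le)
  have h10 := aux (le_centralizer_iff_isMulCommutative.1 (commutator_eq_bot_iff_le_centralizer.1 h9))
    inferInstance h5.sup_eq_top
  rw [← map_derivedSeries_eq (QuotientGroup.mk'_surjective _), map_mk_eq_bot_iff] at h10
  rw [derivedSeries_succ, commutator_eq_bot_iff_le_centralizer]
  exact h10.trans (center_le_centralizer _)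

end Cfsg.Agent.S0556
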