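import Cfsg.Statements.S0557
import Cfsg.Agent.Lib.Solv.Schmidt

set_option autoImplicit false
open Cfsg

namespace Cfsg.Agent.S0557

/-- Let H be a subgroup of a finite group G with order coprime to its index. If iterating the focal-subgroup construction starting from H reaches the trivial subgroup after finitely many steps, then H has a normal complement in G. -/
theorem result {G : Type*} [Group G] [Finite G] (H : Subgroup G) (hHall : (Nat.card H).Coprime H.index) (n : ℕ) (hfoc : (fun K : Subgroup G => Subgroup.focalSubgroup K)^[n] H = ⊥) : ∃ N : Subgroup G, N.Normal ∧ Subgroup.IsComplement' N H := by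
  open Pointwise commutatorElement Subgroup Cfsg.Agent.Solv in
  refine Transfer.exists_normal_complement_of_forall_hasNPC hHall fun p hp hd => ?_
  have := Fact.mk hp
  obtain ⟨P, hP⟩ := exists_isSylowIn p H
  have h1 : IsSylowIn p P ⊤ := isSylowIn_of_card le_top (by
    rw [hP.card_eq, card_top, factorization_card_of_not_dvd_index
      (hp.coprime_iff_not_dvd.1 (hHall.coprime_dvd_left hd))])
  have h2 := (h1.inf_normal le_top (le_normalizer_of_normal' (N := pResidual p G))).toSyl.inf_commutator_sup_res_le
    (Q₁ := (P ⊓ pResidual p G).focalSubgroup) fun x hx k _ h => Transfer.mem_focalSubgroup hx h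
  rw [Transfer.res_pResidual, inf_eq_left.2 (inf_le_right.trans le_sup_right)] at h2
  have h3 : ∀ n, P ⊓ pResidual p G ≤ (fun K : Subgroup G => Subgroup.focalSubgroup K)^[n] H := by
    intro n
    induction n with
    | zero => exact inf_le_left.trans hP.1
    | succ n ih =>
      rw [Function.iterate_succ_apply']
      exact h2.trans (closure_mono fun g ⟨h4, x, hx, h5⟩ => ⟨ih h4, x, ih hx, h5⟩)
  obtain ⟨P, rfl⟩ := h1.exists_sylow_top
  exact (Transfer.hasNPC_iff_inf_eq_bot P).2 (le_bot_iff.1 (hfoc ▸ h3 n))

end Cfsg.Agent.S0557
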