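import Cfsg.Statements.S0558
import Cfsg.Agent.Lib.Solv.Schmidt

set_option autoImplicit false
open Cfsg

namespace Cfsg.Agent.S0558

/-- Let H be a subgroup of a finite group G that is not a Sylow subgroup of G for any prime, and suppose that for every prime p dividing the order of H and every Sylow p-subgroup P of H the normalizer of P in G is exactly H. Then some normal subgroup of G is a complement to H. -/
theorem result {G : Type*} [Group G] [Finite G] (H : Subgroup G) (hnot : ∀ p : ℕ, p.Prime → ∀ P : Sylow p G, (P : Subgroup G) ≠ H) (hnorm : ∀ p : ℕ, p.Prime → p ∣ Nat.card H → ∀ P : Sylow p H, Subgroup.normalizer (((P : Subgroup H).map H.subtype : Subgroup G) : Set G) = H) : ∃ N : Subgroup G, N.Normal ∧ Subgroup.IsComplement' N H := by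
  open Pointwise commutatorElement Subgroup Cfsg.Agent.Solv in
  have h1 : ∀ p : ℕ, p.Prime → p ∣ Nat.card H → ∀ P, IsSylowIn p P H → normalizer (P : Set G) = H := by
    intro p hp hd P hP
    have := Fact.mk hp
    obtain ⟨Q, rfl⟩ := hP.exists_sylow_map
    exact hnorm p hp hd Q
  have h2 : ∀ p : ℕ, p.Prime → p ∣ Nat.card H → ∀ P, IsSylowIn p P H → IsSylowIn p P ⊤ := by
    intro p hp hd P hP
    have := Fact.mk hp
    exact IsSylowIn.of_normalizer le_top (by rwa [inf_top_eq, h1 p hp hd P hP])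
  have h3 : Group.IsNilpotent H := isNilpotent_of_forall_sylowIn fun p hp hd => by
    have := Fact.mk hp
    obtain ⟨P, hP⟩ := exists_isSylowIn p H
    exact ⟨P, hP, (h1 p hp hd P hP).ge⟩
  refine Transfer.exists_normal_complement_of_forall_hasNPC (Nat.coprime_of_dvd fun p hp hd h => ?_) fun p hp hd => ?_
  · have := Fact.mk hp
    obtain ⟨P, hP⟩ := exists_isSylowIn p H
    exact (h2 p hp hd P hP).3 (by rw [relIndex_top_right]; exact h.trans (index_dvd_of_le hP.1))
  have := Fact.mk hp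
  obtain ⟨P, hP⟩ := exists_isSylowIn p H
  obtain ⟨P, rfl⟩ := (h2 p hp hd P hP).exists_sylow_top
  obtain ⟨q, hq, h4, h5⟩ : ∃ q : ℕ, q.Prime ∧ q ∣ Nat.card H ∧ q ≠ p := by
    by_contra hc
    push Not at hc
    exact hnot p hp P (hP.eq_of_le (isPGroup_of_forall_prime_dvd hc) le_rfl hP.1).symm
  have := Fact.mk hq
  obtain ⟨Q, hQ⟩ := exists_isSylowIn q H
  refine Transfer.hasNPC_of_res_normalizer_le P fun B hB _ => Transfer.res_le_iff.2 fun g hg h6 => ?_
  have h7 : Q ≤ centralizer (B : Set G) := le_centralizer_of_nilpotent_of_coprime h3 hQ.1 (hB.trans hP.1)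
    (coprime_card_of_isPGroup_ne h5 hQ.2 (P.2.to_le hB))
  obtain ⟨k, hk, h8⟩ := ((h2 q hq h4 Q hQ).of_le h7 le_top).frattini_elt (normalizer_le_normalizer_centralizer B hg)
  rw [h1 q hq h4 Q hQ] at h8
  obtain ⟨n, hn⟩ := exists_pow_coprime_orderOf hp (k⁻¹ * g)
  have h9 : (k⁻¹ * g) ^ p ^ n ∈ centralizer (B : Set G) := zpowers_le.1 (le_centralizer_of_nilpotent_of_coprime h3
    (zpowers_le.2 (pow_mem h8 _)) (hB.trans hP.1) (coprime_card_of_isPGroup' (P.2.to_le hB) (by rwa [Nat.card_zpowers])))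
  have hk' := centralizer_le_normalizer _ hk
  have h10 : ∀ (x : G) (hx : x ∈ normalizer (B : Set G)), x ∈ centralizer (B : Set G) ↔
      B.normalizerMonoidHom ⟨x, hx⟩ = 1 := fun x hx => by
    rw [← MonoidHom.mem_ker, normalizerMonoidHom_ker, mem_subgroupOf]
  refine mem_of_pow_mem_of_coprime_orderOf (n := p ^ n) ((h10 _ (pow_mem hg _)).2 ?_) (h6.pow_right n)
  have h11 := (h10 _ (pow_mem (mul_mem (inv_mem hk') hg) _)).1 h9
  have h12 : (⟨(k⁻¹ * g) ^ p ^ n, pow_mem (mul_mem (inv_mem hk') hg) _⟩ : normalizer (B : Set G)) =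
    ((⟨k, hk'⟩ : normalizer (B : Set G))⁻¹ * ⟨g, hg⟩) ^ p ^ n := rfl
  rw [h12, map_pow, map_mul, map_inv, (h10 k hk').1 hk, inv_one, one_mul, ← map_pow] at h11
  exact h11

end Cfsg.Agent.S0558
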