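import Cfsg.Statements.S0560
import Cfsg.Agent.Lib.Solv.Fact

set_option autoImplicit false
open Pointwise
open Cfsg

namespace Cfsg.Agent.S0560

/-- Let the finite group G be the product HK of two subgroups and p a prime. Then there are Sylow p-subgroups P of H and Q of K and a Sylow p-subgroup R of G whose underlying set is the product set of P and Q. -/
theorem result {G : Type*} [Group G] [Finite G] (H K : Subgroup G) (hHK : ∀ g : G, ∃ h ∈ H, ∃ k ∈ K, g = h * k) (p : ℕ) [Fact p.Prime] : ∃ (P : Sylow p H) (Q : Sylow p K) (R : Sylow p G), ((R : Subgroup G) : Set G) = (((P : Subgroup H).map H.subtype : Subgroup G) : Set G) * (((Q : Subgroup K).map K.subtype : Subgroup G) : Set G) := by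
  open Pointwise commutatorElement Subgroup Cfsg.Agent.Solv in
  have hp : p.Prime := Fact.out
  have h := isProd_top.2 hHK
  obtain ⟨P, hP⟩ := exists_isSylowIn p H
  obtain ⟨Q, hQ⟩ := exists_isSylowIn p K
  obtain ⟨R, hR, hPR⟩ := exists_isSylowIn_ge hP.isPGroup (le_top : P ≤ ⊤)
  obtain ⟨g, -, hg⟩ := hR.exists_le_conj hQ.isPGroup le_top
  obtain ⟨a, ha, b, hb, e⟩ := h g⁻¹ trivial
  have hP' := hP.conj_smul_of_mem (inv_mem ha)
  have hQ' := hQ.conj_smul_of_mem hb
  have hR' := hR.conj_smul_of_mem (mem_top a⁻¹)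
  have h1 : MulAut.conj a⁻¹ • P ≤ MulAut.conj a⁻¹ • R := conj_smul_mono _ hPR
  have h2 : MulAut.conj b • Q ≤ MulAut.conj a⁻¹ • R := by
    refine (conj_smul_mono _ hg).trans (le_of_eq ?_)
    rw [conj_smul_conj_smul, ← inv_inv g, e]; simp
  obtain ⟨P', hP''⟩ := hP'.exists_sylow_map
  obtain ⟨Q', hQ''⟩ := hQ'.exists_sylow_map
  obtain ⟨R', hR''⟩ := hR'.exists_sylow_top
  refine ⟨P', Q', R', ?_⟩
  rw [hP'', hQ'', hR'']
  refine (isProd_of_card_le h1 h2 ?_).coe_eq h1 h2
  have := Fact.mk hp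
  obtain ⟨k, hk⟩ := IsPGroup.iff_card.1 (hP'.isPGroup.to_le (inf_le_left (b := MulAut.conj b • Q)))
  have h3 : k ≤ (Nat.card (H ⊓ K : Subgroup G)).factorization p := by
    rw [← hp.pow_dvd_iff_le_factorization Nat.card_pos.ne', ← hk]
    exact card_dvd_of_le (inf_le_inf hP'.le hQ'.le)
  have h4 := congrArg (fun n => n.factorization p) (h.card_mul le_top le_top)
  rw [Nat.factorization_mul Nat.card_pos.ne' Nat.card_pos.ne',
    Nat.factorization_mul Nat.card_pos.ne' Nat.card_pos.ne', Finsupp.add_apply, Finsupp.add_apply] at h4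
  rw [hk, hP'.card_eq, hQ'.card_eq, hR'.card_eq, ← pow_add, ← pow_add]
  exact Nat.pow_le_pow_right hp.pos (by omega)

end Cfsg.Agent.S0560
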