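import Cfsg.Statements.S0561
import Cfsg.Agent.Lib.Solv.Prim

set_option autoImplicit false
open Pointwise
open Cfsg

namespace Cfsg.Agent.S0561

/-- Let the finite solvable group G be the product HK of subgroups, and let A be normal in H and B normal in K, where A and B are Hall subgroups of G (order coprime to index). Then for all x, y the product set of xAx⁻¹ and yBy⁻¹ is a subgroup of G. -/
theorem result {G : Type*} [Group G] [Finite G] [Group.IsSolvable G] (H K A B : Subgroup G) (hHK : ∀ g : G, ∃ h ∈ H, ∃ k ∈ K, g = h * k) (hA : A ≤ H) (hAn : (A.subgroupOf H).Normal) (hB : B ≤ K) (hBn : (B.subgroupOf K).Normal) (hAh : (Nat.card A).Coprime A.index) (hBh : (Nat.card B).Coprime B.index) (x y : G) : ∃ S : Subgroup G, (S : Set G) = ((MulAut.conj x • A : Subgroup G) : Set G) * ((MulAut.conj y • B : Subgroup G) : Set G) := by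
  open Pointwise commutatorElement Subgroup Cfsg.Agent.Solv in
  have hA' := (normal_subgroupOf_iff_le_normalizer hA).1 hAn
  have hB' := (normal_subgroupOf_iff_le_normalizer hB).1 hBn
  suffices ∃ S : Subgroup G, A ≤ S ∧ B ≤ S ∧ IsProd S A B by
    obtain ⟨S, h1, h2, h3⟩ := this
    obtain ⟨h, hh, k, hk, e⟩ := hHK (x⁻¹ * y)
    have h4 : MulAut.conj x • A = MulAut.conj (x * h) • A := by
      rw [← conj_smul_conj_smul, conj_smul_eq_self_iff.2 (hA' hh)]
    have h5 : MulAut.conj y • B = MulAut.conj (x * h) • B := by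
      rw [show y = x * h * k by rw [mul_assoc, ← e]; group, ← conj_smul_conj_smul, conj_smul_eq_self_iff.2 (hB' hk)]
    rw [h4, h5]
    exact ⟨_, (h3.conj_smul _).coe_eq (conj_smul_mono _ h1) (conj_smul_mono _ h2)⟩
  obtain ⟨S, hS, h1⟩ := exists_isPiHall_ge (π := {q | q ∣ Nat.card A ∨ q ∣ Nat.card B}) (K := A) fun q _ h => Or.inl h
  obtain ⟨T, hT, h2⟩ := exists_isPiHall_ge (π := {q | q ∣ Nat.card A ∨ q ∣ Nat.card B}) (K := B) fun q _ h => Or.inr h
  obtain ⟨g, rfl⟩ := isPiHall_conj hS hT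
  obtain ⟨h, hh, k, hk, e⟩ := hHK g⁻¹
  have h3 : A ≤ MulAut.conj h⁻¹ • S := conj_smul_eq_self_iff.2 (hA' (inv_mem hh)) ▸ conj_smul_mono _ h1
  have h4 : B ≤ MulAut.conj h⁻¹ • S := by
    have := conj_smul_mono k h2
    rwa [conj_smul_eq_self_iff.2 (hB' hk), conj_smul_conj_smul, show k * g = h⁻¹ by
      rw [← inv_inv g, e]; group] at this
  refine ⟨_, h3, h4, isProd_of_coprime h3 h4 (Nat.coprime_of_dvd fun q hq h5 h6 => ?_)⟩
  rcases (isPiHall_conj_smul hS h⁻¹).1 q hq (h5.trans (relIndex_dvd_card _ _)) with h7 | h7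
  · exact hq.coprime_iff_not_dvd.1 (hAh.coprime_dvd_left h7) (h5.trans (relIndex_dvd_index_of_le h3))
  · exact hq.coprime_iff_not_dvd.1 (hBh.coprime_dvd_left h7) (h6.trans (relIndex_dvd_index_of_le h4))

end Cfsg.Agent.S0561
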