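import Cfsg.Statements.S0562
import Cfsg.Agent.Lib.Solv.Fact

set_option autoImplicit false
open Cfsg

namespace Cfsg.Agent.S0562

/-- Let the finite group G be the product HK of subgroups, A normal in H, B normal in K, and L the normalizer of the subgroup generated by A and B. Then every element of L is a product of an element of L ∩ H and an element of L ∩ K. -/
theorem result {G : Type*} [Group G] [Finite G] (H K A B : Subgroup G) (hHK : ∀ g : G, ∃ h ∈ H, ∃ k ∈ K, g = h * k) (hA : A ≤ H) (hAn : (A.subgroupOf H).Normal) (hB : B ≤ K) (hBn : (B.subgroupOf K).Normal) : ∀ g ∈ Subgroup.normalizer ((A ⊔ B : Subgroup G) : Set G), ∃ h ∈ Subgroup.normalizer ((A ⊔ B : Subgroup G) : Set G) ⊓ H, ∃ k ∈ Subgroup.normalizer ((A ⊔ B : Subgroup G) : Set G) ⊓ K, g = h * k := by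
  open Pointwise commutatorElement Subgroup Cfsg.Agent.Solv in
  intro g hg
  obtain ⟨h, hh, k, hk, rfl⟩ := hHK g
  have h1 : h ∈ normalizer (A : Set G) := (normal_subgroupOf_iff_le_normalizer hA).1 hAn hh
  have h2 : k ∈ normalizer (B : Set G) := (normal_subgroupOf_iff_le_normalizer hB).1 hBn hk
  have h3 : k ∈ normalizer ((A ⊔ B : Subgroup G) : Set G) := by
    have e1 : MulAut.conj k • (A ⊔ B) = MulAut.conj h⁻¹ • (A ⊔ B) := by
      rw [← conj_smul_eq_self_iff.2 hg, conj_smul_conj_smul h⁻¹, inv_mul_cancel_left,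
        conj_smul_eq_self_iff.2 hg]
    rw [← conj_smul_eq_self_iff]
    refine (eq_of_le_of_card_le (sup_le ?_ ?_) (card_conj_smul _ _).le).symm
    · rw [e1, smul_sup, conj_smul_eq_self_iff.2 (inv_mem h1)]; exact le_sup_left
    · rw [smul_sup, conj_smul_eq_self_iff.2 h2]; exact le_sup_right
  exact ⟨h, mem_inf.2 ⟨(mul_mem_cancel_right h3).1 hg, hh⟩, k, mem_inf.2 ⟨h3, hk⟩, rfl⟩

end Cfsg.Agent.S0562
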