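import Cfsg.Statements.S0563
import Cfsg.Agent.Lib.BG.KW

set_option autoImplicit false
open Pointwise
open Cfsg

namespace Cfsg.Agent.S0563

/-- If a finite group G is the product AB of two nilpotent subgroups of coprime orders, then G is solvable, and for every Sylow p-subgroup P of A and Sylow q-subgroup Q of B the product set PQ is a subgroup. -/
theorem result {G : Type*} [Group G] [Finite G] (A B : Subgroup G) (hA : Group.IsNilpotent A) (hB : Group.IsNilpotent B) (hcop : (Nat.card A).Coprime (Nat.card B)) (hAB : ∀ g : G, ∃ a ∈ A, ∃ b ∈ B, g = a * b) : Group.IsSolvable G ∧ ∀ (p q : ℕ) [Fact p.Prime] [Fact q.Prime] (P : Sylow p A) (Q : Sylow q B), ∃ S : Subgroup G, (S : Set G) = (((P : Subgroup A).map A.subtype : Subgroup G) : Set G) * (((Q : Subgroup B).map B.subtype : Subgroup G) : Set G) := by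
  open Pointwise commutatorElement Subgroup in
  open Cfsg.Agent.Comp Cfsg.Agent.BG Subgroup in
  have h : KW.Pair A B := ⟨hA, hB, Solv.isProd_top.2 hAB, hcop⟩
  have hs := KW.kw G A B hA hB h.prod
  refine ⟨hs, fun p q hp hq P Q => ?_⟩
  have hP := sylIn_sylow P
  have hQ := sylIn_sylow Q
  rw [hP.eq_Op (hP.le_normalizer_of_isNilpotent hA), hQ.eq_Op (hQ.le_normalizer_of_isNilpotent hB)]
  by_cases h1 : p ∣ Nat.card A
  swap
  · exact ⟨Op q B, by rw [(sylIn_Op_of_isNilpotent hA).eq_bot_iff.2 h1]; simp⟩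
  by_cases h2 : q ∣ Nat.card B
  swap
  · exact ⟨Op p A, by rw [(sylIn_Op_of_isNilpotent hB).eq_bot_iff.2 h2]; simp⟩
  obtain ⟨H, hH⟩ := exists_hallIn (Solv.isSolvable_top_iff.2 hs) {p, q}
  obtain ⟨u, -, hu⟩ := hH.exists_cj_le inferInstance le_top (isPi_of_isPGroup (isPGroup_Op p A) (.inl rfl))
  obtain ⟨v, -, hv⟩ := hH.exists_cj_le inferInstance le_top (isPi_of_isPGroup (isPGroup_Op q B) (.inr rfl))
  obtain ⟨g, g1, g2⟩ := h.prod.exists_conj u v
  rw [smul_eq_cj, smul_eq_cj] at g1 g2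
  rw [cj_Op, g1, ← cj_Op, cj_le_iff] at hu
  rw [cj_Op, g2, ← cj_Op, cj_le_iff] at hv
  refine ⟨_, (((h.sylIn h1).of_le hu le_top).hallIn.isProd (((h.symm.sylIn h2).of_le hv le_top).hallIn.congr
    fun r hr hd => ⟨fun a b => h.not_dvd hp.out h1 (by rw [← show r = p from b, show r = q from a]; exact h2),
      fun a => (hH.isPi.cj _ r hr hd).resolve_left a⟩)).coe_eq hu hv⟩

end Cfsg.Agent.S0563
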