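import Cfsg.Statements.S0565
import Cfsg.Agent.Lib.BG.KW
import Cfsg.Agent.Lib.BG.Carter

set_option autoImplicit false
open Cfsg

namespace Cfsg.Agent.S0565
section
open Pointwise commutatorElement Subgroup
universe u
open Cfsg.Agent.Comp Cfsg.Agent.BG Subgroup in
theorem aux (G : Type u) [Group G] [Finite G] : ∀ A B : Subgroup G, Group.IsNilpotent A → Group.IsNilpotent B →
    Solv.IsProd ⊤ A B → (A ≠ ⊤ ∨ B ≠ ⊤) → ∃ N : Subgroup G, N.Normal ∧ N ≠ ⊤ ∧ (A ≤ N ∨ B ≤ N) := by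
  induction G, ‹Group G›, ‹Finite G› using Solv.card_induction' with | h G ih => ?_
  intro A B hA hB h h0
  haveI := KW.kw G A B hA hB h
  have k : ∀ A B : Subgroup G, Group.IsNilpotent A → A = ⊤ → B ≠ ⊤ → ∃ N : Subgroup G, N.Normal ∧ N ≠ ⊤ ∧ B ≤ N := by
    rintro _ B h rfl h1
    haveI := Solv.isNilpotent_top_iff.1 h
    obtain ⟨M, m1, m2⟩ := Solv.exists_coatom_ge h1
    exact ⟨M, Solv.coatom_normal_of_nilpotent m1, m1.1, m2⟩
  by_cases a : A = ⊤
  · exact (k A B hA a (h0.resolve_left (not_not.2 a))).imp fun N h => ⟨h.1, h.2.1, .inr h.2.2⟩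
  by_cases b : B = ⊤
  · exact (k B A hB b a).imp fun N h => ⟨h.1, h.2.1, .inl h.2.2⟩
  by_cases e : ∃ N : Subgroup G, N.Normal ∧ N ≠ ⊥ ∧ (A ⊔ N ≠ ⊤ ∨ B ⊔ N ≠ ⊤)
  · obtain ⟨N, _, n1, n2⟩ := e
    have t : ∀ X : Subgroup G, X ⊔ N ≠ ⊤ → X.map (QuotientGroup.mk' N) ≠ ⊤ := fun X h e => h (by
      rw [← Solv.comap_map_mk, e, comap_top])
    obtain ⟨M, _, m1, m2⟩ := ih _ (Solv.card_quotient_lt n1) _ _ (Comp.isNilpotent_map _ hA) (Comp.isNilpotent_map _ hB)
      (h.map_mk N) (n2.imp (t A) (t B))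
    exact ⟨M.comap (QuotientGroup.mk' N), inferInstance, fun e => m1 (by
      rw [← Solv.map_comap_mk N M, e, map_top_of_surjective _ (QuotientGroup.mk'_surjective N)]),
      m2.imp map_le_iff_le_comap.1 map_le_iff_le_comap.1⟩
  push Not at e
  obtain ⟨N, -, n1, n2, n3⟩ := Solv.exists_minimal_normal_le (⊤ : Subgroup G) fun e => a (top_le_iff.1 (e.le.trans bot_le))
  obtain ⟨-, p, hp, n4⟩ := Solv.minimal_normal_elementary N inferInstance n2 n3
  obtain ⟨n5, -⟩ := Solv.minimal_normal_elementary N inferInstance n2 n3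
  haveI := Fact.mk hp
  have hN := Solv.isPGroup_of_pow_eq_one n4
  have k2 : ∀ A : Subgroup G, Group.IsNilpotent A → A ≠ ⊤ → (∀ N : Subgroup G, N.Normal → N ≠ ⊥ → A ⊔ N = ⊤) →
      ¬ p ∣ Nat.card A := fun A hA a e => by
    rw [← (sylIn_Op_of_isNilpotent hA).eq_bot_iff]
    by_contra h1
    have h2 := IsPGroup.to_sup_of_normal_right (isPGroup_Op p A) hN
    have h3 := (n3 (N ⊓ Ct(Op p A)) (normal_iff_top_le_normalizer.2 ((e N n1 n2).ge.trans (sup_le (le_normalizer_inf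
      le_normalizer_of_normal (le_normalizer_centralizer (le_normalizer_Op le_normalizer)))
      ((comm_iff_le.1 n5).trans ((centralizer_mono inf_le_left).trans (Ct_le_Nm _)))))) inf_le_left).resolve_left fun e' =>
      inf_centralizer_ne_bot_of_isNilpotent h2.isNilpotent le_sup_right le_normalizer_of_normal n2
        (le_bot_iff.1 (e' ▸ inf_le_inf_left _ (centralizer_mono le_sup_left)))
    exact a ((sup_eq_left.2 (Op_le p A)).symm.trans (e _ (normal_iff_top_le_normalizer.2 ((e N n1 n2).ge.trans (sup_le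
      (le_normalizer_Op le_normalizer) ((h3.ge.trans inf_le_right).trans (Ct_le_Nm _))))) h1))
  exact absurd (hp.dvd_mul.1 (((dvd_card_of_isPGroup hN n2).trans (card_dvd_of_le le_top)).trans (h.card_dvd le_top le_top)))
    (not_or.2 ⟨k2 A hA a fun N a b => (e N a b).1, k2 B hB b fun N a b => (e N a b).2⟩)
end

/-- Let the finite group G be the product AB of nilpotent subgroups A and B, not both equal to G. Then there is a proper normal subgroup of G containing A or containing B. -/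
theorem result {G : Type*} [Group G] [Finite G] (A B : Subgroup G) (hA : Group.IsNilpotent A) (hB : Group.IsNilpotent B) (hAB : ∀ g : G, ∃ a ∈ A, ∃ b ∈ B, g = a * b) (hproper : A ≠ ⊤ ∨ B ≠ ⊤) : ∃ N : Subgroup G, N.Normal ∧ N ≠ ⊤ ∧ (A ≤ N ∨ B ≤ N) := by
  open Pointwise commutatorElement Subgroup in
  exact aux G A B hA hB (Solv.isProd_top.2 hAB) hproper

end Cfsg.Agent.S0565
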