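import Cfsg.Statements.S0567
import Cfsg.Agent.Lib.Solv.Zip

set_option autoImplicit false
open Cfsg

namespace Cfsg.Agent.S0567

/-- A subgroup H of a group G is subnormal exactly when, for some m, the subgroup obtained from G by taking the commutator with H m times in succession is contained in H. -/
theorem result {G : Type*} [Group G] (H : Subgroup G) : H.IsSubnormal ↔ ∃ m : ℕ, (fun K : Subgroup G => ⁅K, H⁆)^[m] ⊤ ≤ H := by
  open Pointwise commutatorElement Subgroup Cfsg.Agent.Solv in
  constructor
  · intro h
    have : ∀ {H M : Subgroup G}, Comp.SubnIn H M → ∃ m : ℕ, (fun K : Subgroup G => ⁅K, H⁆)^[m] M ≤ H := by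
      intro H M h
      induction h with
      | refl M => exact ⟨0, le_rfl⟩
      | step H K M h1 h2 _ ih =>
        obtain ⟨m, hm⟩ := ih
        have : ∀ n : ℕ, (fun L : Subgroup G => ⁅L, H⁆)^[n] M ≤ (fun L : Subgroup G => ⁅L, K⁆)^[n] M := by
          intro n
          induction n with
          | zero => exact le_rfl
          | succ n ih =>
            rw [Function.iterate_succ_apply', Function.iterate_succ_apply']
            exact commutator_mono ih h1
        refine ⟨m + 1, ?_⟩
        rw [Function.iterate_succ_apply']
        exact (commutator_mono ((this m).trans hm) le_rfl).trans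
          (le_normalizer_iff_commutator_le_right.1 h2)
    exact this (Comp.SubnIn.of_isSubnormal h)
  · rintro ⟨m, hm⟩
    have : ∀ n : ℕ, Comp.SubnIn (H ⊔ (fun L : Subgroup G => ⁅L, H⁆)^[n] ⊤) ⊤ := by
      intro n
      induction n with
      | zero => simpa using Comp.SubnIn.refl _
      | succ n ih =>
        rw [Function.iterate_succ_apply']
        refine Comp.SubnIn.step _ _ _ (sup_le le_sup_left ((commutator_mono le_sup_right le_sup_left).trans
          (commutator_le_self _))) (sup_le (le_sup_left.trans le_normalizer) ?_) ih
        rw [commutator_comm]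
        exact Comp.le_normalizer_sup_commutator _ _
    have h1 := this m
    rw [sup_of_le_left hm] at h1
    exact h1.isSubnormal

end Cfsg.Agent.S0567
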