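import Cfsg.Statements.S0569
import Cfsg.Agent.Lib.BG.Carter

set_option autoImplicit false
open Cfsg

namespace Cfsg.Agent.S0569

/-- In a finite solvable group: each nilpotent self-normalizing subgroup contains the system normalizer of some Hall complement system, and the system normalizer of any Hall complement system lies in some nilpotent self-normalizing subgroup. -/
theorem result {G : Type*} [Group G] [Finite G] [Group.IsSolvable G] : (∀ C : Subgroup G, Cfsg.IsCarterSubgroup C → ∃ K : Nat.Primes → Subgroup G, Cfsg.IsComplementSystem K ∧ Cfsg.systemNormalizer K ≤ C) ∧ ∀ K : Nat.Primes → Subgroup G, Cfsg.IsComplementSystem K → ∃ C : Subgroup G, Cfsg.IsCarterSubgroup C ∧ Cfsg.systemNormalizer K ≤ C := by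
  open Pointwise commutatorElement Subgroup in
  open Cfsg.Agent.Sys Cfsg.Agent.Comp in
  have h : ∀ C : Subgroup G, Cfsg.IsCarterSubgroup C → ∃ K : Nat.Primes → Subgroup G, Cfsg.IsComplementSystem K ∧
      Cfsg.systemNormalizer K ≤ C := fun C hC =>
    (exists_cs_red C).imp fun K h => ⟨h.1, sn_le_car_aux G ‹_› C K hC h.1 h.2⟩
  refine ⟨h, fun K hK => ?_⟩
  obtain ⟨C, hC⟩ := exists_car (G := G)
  obtain ⟨L, h1, h2⟩ := h C hC
  obtain ⟨g, hg⟩ := sn_conj h1 hK
  exact ⟨_, car_cj hC g, hg ▸ cj_mono g h2⟩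

end Cfsg.Agent.S0569
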