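import Cfsg.Statements.S0573
import Cfsg.Agent.Lib.Solv.Super

set_option autoImplicit false
open Cfsg

namespace Cfsg.Agent.S0573
section
open Pointwise commutatorElement Subgroup Cfsg.Agent.Solv
theorem aux1 {G : Type*} [Group G] {A B : Subgroup G} (hA : IsMulCommutative A)
    (h : IsProd ⊤ A B) (h1 : ∀ N : Subgroup G, N.Normal → N ≤ A → N = ⊥) {a : G} (ha : a ∈ A)
    (h2 : a ∈ centralizer (B : Set G)) : a = 1 := by
  have h3 : a ∈ center G := mem_center_iff.2 fun g => by
    obtain ⟨x, hx, y, hy, rfl⟩ := isProd_top.1 h g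
    rw [mul_assoc, mem_centralizer_iff.1 h2 y hy, ← mul_assoc, Solv.isMulCommutative_iff.1 hA x hx a ha,
      mul_assoc]
  exact zpowers_eq_bot.1 (h1 _ ⟨fun n hn g => by
    rwa [mem_center_iff.1 (zpowers_le.2 h3 hn) g, mul_inv_cancel_right]⟩ (zpowers_le.2 ha))

theorem aux2 {G : Type*} [Group G] {A B : Subgroup G} (hA : IsMulCommutative A) (hB : IsMulCommutative B)
    (h : IsProd ⊤ A B) (h1 : ∀ N : Subgroup G, N.Normal → N ≤ A → N = ⊥)
    (h2 : ∀ N : Subgroup G, N.Normal → N ≤ B → N = ⊥) (hD : IsMulCommutative (commutator G)) :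
    A ⊓ centralizer (commutator G : Set G) = ⊥ := by
  have hn : (A ⊔ commutator G).Normal := normal_iff_top_le_normalizer.2
    (le_normalizer_of_commutator_le_of_le (N := commutator G) (commutator_mono le_top le_top) le_sup_right)
  have h3 := h1 ((A ⊔ commutator G) ⊓ centralizer ((A ⊔ commutator G : Subgroup G) : Set G)) inferInstance
    fun z hz => by
      obtain ⟨a, ha, b, hb, e⟩ := isProd_top.1 h z
      have h4 : b ∈ centralizer (A : Set G) := by
        rw [show b = a⁻¹ * z by rw [e]; group]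
        exact mul_mem (inv_mem (le_centralizer A ha)) (centralizer_le (SetLike.coe_subset_coe.2 le_sup_left) hz.2)
      rw [e, aux1 hB h.symm h2 hb h4, mul_one]; exact ha
  refine le_bot_iff.1 (h3 ▸ le_inf (inf_le_left.trans le_sup_left) ?_)
  rw [le_centralizer_iff]
  exact sup_le (le_centralizer_iff.1 (inf_le_left.trans (le_centralizer A))) (le_centralizer_iff.1 inf_le_right)

theorem aux3 {G : Type*} [Group G] [Finite G] {A B : Subgroup G} (hA : IsMulCommutative A)
    (hB : IsMulCommutative B) (h : IsProd ⊤ A B) (h1 : A ⊓ B = ⊥) {p : ℕ} [Fact p.Prime] :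
    A ⊓ (B ⊔ pCore p G) ≤ pCore p G := by
  have hQ := normal_iff_top_le_normalizer.1 (inferInstance : (pCore p G).Normal)
  have h2 := (h.symm.inf_right le_top (le_sup_left : B ≤ B ⊔ pCore p G)).card_mul le_sup_left inf_le_right
  rw [← inf_assoc, inf_comm B, h1, bot_inf_eq, card_bot, mul_one] at h2
  have h3 := card_sup_dvd (le_top.trans hQ : B ≤ _)
  rw [h2] at h3
  obtain ⟨k, hk⟩ := (isPGroup_pCore p G).exists_card_eq
  have h4 : IsPGroup p (A ⊓ (B ⊔ pCore p G) : Subgroup G) :=
    IsPGroup.of_card_dvd_pow (hk ▸ Nat.dvd_of_mul_dvd_mul_left Nat.card_pos h3)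
  have h5 : A ⊓ (B ⊔ pCore p G) ≤ centralMod ⊤ (pCore p G) := fun x hx => mem_centralMod.2 ⟨hQ trivial, by
    intro g _
    obtain ⟨a, ha, b, hb, rfl⟩ := isProd_top.1 h g
    obtain ⟨y, hy, z, hz, e⟩ := (mem_sup_of_le_normalizer (le_top.trans hQ)).1 hx.2
    rw [← QuotientGroup.eq_one_iff]
    show QuotientGroup.mk' _ _ = 1
    rw [map_commutatorElement, commutatorElement_eq_one_iff_commute, map_mul]
    refine Commute.mul_right (Commute.map (Solv.isMulCommutative_iff.1 hA _ hx.1 _ ha) _) ?_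
    rw [e, map_mul, show QuotientGroup.mk' _ z = 1 from (QuotientGroup.eq_one_iff z).2 hz, mul_one]
    exact Commute.map (Solv.isMulCommutative_iff.1 hB _ hy _ hb) _⟩
  have h6 : ((A ⊓ (B ⊔ pCore p G)) ⊔ pCore p G).Normal := normal_iff_top_le_normalizer.2
    (le_normalizer_of_commutator_le_of_le ((commutator_mono (sup_le h5 (le_centralMod hQ)) le_rfl).trans
      commutator_centralMod_le) le_sup_right)
  exact le_sup_left.trans (le_pCore (isPGroup_sup h4 (isPGroup_pCore p G) (le_top.trans hQ)))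

theorem aux4 {G : Type*} [Group G] [Finite G] {A B : Subgroup G} (hA : IsMulCommutative A)
    (hB : IsMulCommutative B) (h : IsProd ⊤ A B) (h1 : A ⊓ B = ⊥) {p : ℕ} [Fact p.Prime]
    (hD : IsMulCommutative (commutator G)) {z a b : G} (hz : z ∈ pCore p G)
    (hz' : z ∈ centralizer (pCore p G : Set G)) (ha : a ∈ A) (hb : b ∈ B) (e : a = z * b) :
    a ∈ centralizer (commutator G : Set G) := by
  have h2 : a ∈ pCore p G := aux3 hA hB h h1 ⟨ha, e ▸ mul_mem (mem_sup_right hz) (mem_sup_left hb)⟩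
  rw [← zpowers_le_centralizer_iff, le_centralizer_iff]
  refine le_of_forall_isSylowIn fun q hq _ => ?_
  have := Fact.mk hq
  obtain ⟨R, hR⟩ := exists_isSylowIn q (commutator G)
  have hn := hR.normal_of_nilpotent (isNilpotent_of_isMulCommutative hD)
  refine ⟨R, hR, le_centralizer_iff.1 (zpowers_le.2 ?_)⟩
  by_cases e1 : q = p
  · subst e1
    refine mem_centralizer_iff.2 fun r hr => ?_
    obtain ⟨x, hx, y, hy, rfl⟩ := isProd_top.1 h r
    have h3 := le_pCore hR.2 hr
    have h4 : x ∈ pCore q G := aux3 hA hB h h1 ⟨hx, by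
      simpa using mul_mem (mem_sup_right h3) (mem_sup_left (inv_mem hy))⟩
    have h5 : y ∈ pCore q G := by simpa using mul_mem (inv_mem h4) h3
    refine Commute.mul_left (Solv.isMulCommutative_iff.1 hA _ hx _ ha) (e ▸ Commute.mul_right
      (mem_centralizer_iff.1 hz' y h5) (Solv.isMulCommutative_iff.1 hB _ hy _ hb))
  · exact centralizer_le (SetLike.coe_subset_coe.2 (le_pCore hR.2)) (pCore_le_centralizer_pCore e1 h2)
end

/-- If a nontrivial finite group G is the product AB of abelian subgroups A and B, then some nontrivial normal subgroup of G is contained in A or in B. -/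
theorem result {G : Type*} [Group G] [Finite G] [Nontrivial G] (A B : Subgroup G) [IsMulCommutative A] [IsMulCommutative B] (hAB : ∀ g : G, ∃ a ∈ A, ∃ b ∈ B, g = a * b) : ∃ N : Subgroup G, N.Normal ∧ N ≠ ⊥ ∧ (N ≤ A ∨ N ≤ B) := by
  open Pointwise commutatorElement Subgroup Cfsg.Agent.Solv in
  by_contra hcon
  push Not at hcon
  have hA : IsMulCommutative A := inferInstance
  have hB : IsMulCommutative B := inferInstance
  have h := isProd_top.2 hAB
  have h1 : ∀ N : Subgroup G, N.Normal → N ≤ A → N = ⊥ := fun N hN h => by_contra fun e => (hcon N hN e).1 h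
  have h2 : ∀ N : Subgroup G, N.Normal → N ≤ B → N = ⊥ := fun N hN h => by_contra fun e => (hcon N hN e).2 h
  have h3 : A ⊓ B = ⊥ := eq_bot_iff_forall _ |>.2 fun x hx => aux1 hA h h1 hx.1 (le_centralizer B hx.2)
  have ht : A ⊔ B = ⊤ := top_le_iff.1 h.le_sup
  have hD : IsMulCommutative (commutator G) := isMulCommutative_of_le
    (by rw [_root_.commutator_def, ← ht]; exact commutator_sup_le_of_abelian hA hB) (ito_commutator hA hB (ht ▸ h))
  have h4 := aux2 hA hB h h1 h2 hD
  have h5 := aux2 hB hA h.symm h2 h1 hD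
  have h6 : commutator G ≠ ⊥ := fun e => by
    simp only [e, coe_bot, centralizer_eq_top_iff_subset.2 (by simp : ({1} : Set G) ⊆ center G), inf_top_eq] at h4 h5
    simp [h4, h5] at ht
  obtain ⟨N, hN, hn, h0, hmin⟩ := exists_minimal_normal_le _ h6
  obtain ⟨-, p, hp, he⟩ := minimal_normal_elementary N
    (isSolvable_of_isMulCommutative (isMulCommutative_of_le hN hD)) h0 hmin
  have := Fact.mk hp
  obtain ⟨z, hz, hz1⟩ := exists_ne_one_of_ne_bot h0
  have h7 : z ∈ pCore p G := le_pCore (isPGroup_of_pow_eq_one he) hz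
  have h8 : z ∈ centralizer (pCore p G : Set G) :=
    le_centralizer_iff.1 (pCore_le_fitting.trans (fitting_le_centralizer_of_minimal_normal N hmin)) hz
  obtain ⟨a, ha, b, hb, e⟩ := hAB z
  have h9 : a = 1 := mem_bot.1 (h4 ▸ mem_inf.2 ⟨ha, aux4 hA hB h h3 hD h7 h8 ha (inv_mem hb) (by simp [e])⟩)
  have h10 : b⁻¹ = 1 := mem_bot.1 (h5 ▸ mem_inf.2 ⟨inv_mem hb, aux4 hB hA h.symm (inf_comm A B ▸ h3) hD
    (inv_mem h7) (inv_mem h8) (inv_mem hb) ha (by simp [e])⟩)
  exact hz1 (by rw [e, h9, inv_eq_one.1 h10, mul_one])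

end Cfsg.Agent.S0573
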