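import Cfsg.Statements.S0571
import Cfsg.Agent.Lib.Solv.Super
import Cfsg.Agent.S0573

set_option autoImplicit false
open Cfsg

namespace Cfsg.Agent.S0571
section
open Pointwise commutatorElement Subgroup Cfsg.Agent.Solv
theorem aux (G : Type*) [Group G] [Finite G] : ∀ A B : Subgroup G, IsCyclic A → IsCyclic B →
    IsProd ⊤ A B → IsSupersolvable G := by
  refine card_induction (P := fun G _ _ => ∀ A B : Subgroup G, IsCyclic A → IsCyclic B →
    IsProd ⊤ A B → IsSupersolvable G) (fun G _ _ ih A B hA hB h => ?_) G
  rcases subsingleton_or_nontrivial G with h1 | h1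
  · exact ss_of_subsingleton
  obtain ⟨N, hN, h0, h2⟩ := S0573.result A B (isProd_top.1 h)
  exact ss_of_isCyclic_of_quotient N (h2.elim (fun e => Subgroup.isCyclic_of_le e) (fun e => Subgroup.isCyclic_of_le e))
    (ih _ (card_quotient_lt h0) _ _ (isCyclic_of_surjective _ ((QuotientGroup.mk' N).subgroupMap_surjective A))
      (isCyclic_of_surjective _ ((QuotientGroup.mk' N).subgroupMap_surjective B)) (h.map_mk N))
end

/-- If a finite group G is the product AB of two cyclic subgroups (every element is a product ab), then G is supersolvable. -/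
theorem result {G : Type*} [Group G] [Finite G] (A B : Subgroup G) [IsCyclic A] [IsCyclic B] (hAB : ∀ g : G, ∃ a ∈ A, ∃ b ∈ B, g = a * b) : Cfsg.IsSupersolvable G := by
  open Pointwise commutatorElement Subgroup Cfsg.Agent.Solv in
  exact aux G A B inferInstance inferInstance (isProd_top.2 hAB)

end Cfsg.Agent.S0571
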