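import Cfsg.Statements.S0577
import Cfsg.Agent.Lib.Solv.Schmidt

set_option autoImplicit false
open Cfsg

namespace Cfsg.Agent.S0577

/-- Let G be a finite minimal non-nilpotent group and Q a normal Sylow q-subgroup of G, and let D be the commutator subgroup of Q regarded in G (a normal subgroup). Then G modulo D is non-abelian and all its proper subgroups are abelian. -/
theorem result {G : Type*} [Group G] [Finite G] (hG : Cfsg.IsMinimalNonNilpotent G) (q : ℕ) [Fact q.Prime] (hq : q ∣ Nat.card G) (Q : Sylow q G) (hQ : (Q : Subgroup G).Normal) (D : Subgroup G) [D.Normal] (hD : D = (commutator ↥(Q : Subgroup G)).map (Q : Subgroup G).subtype) : ¬ IsMulCommutative (G ⧸ D) ∧ ∀ K : Subgroup (G ⧸ D), K ≠ ⊤ → IsMulCommutative K := by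
  open Pointwise commutatorElement Subgroup Cfsg.Agent.Solv in
  obtain ⟨p, r, hp, hr, h1, R, g, h2, h3, h4, h6, h5⟩ := schmidt hG.1 hG.2
  have := Fact.mk hp
  have := Fact.mk hr
  have hD' : D = ⁅(Q : Subgroup G), (Q : Subgroup G)⁆ := by
    rw [hD, _root_.commutator_def, map_commutator, ← MonoidHom.range_eq_map, range_subtype]
  obtain rfl : q = r := by
    by_contra e
    have h7 := card_sup_dvd (le_normalizer_of_normal' : zpowers g ≤ normalizer (R : Set G))
    rw [h5, card_top] at h7
    obtain rfl : q = p := ((Nat.Prime.dvd_mul Fact.out).1 (hq.trans h7)).elim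
      (eq_of_isPGroup_of_dvd h3.2 Fact.out) fun h => absurd (eq_of_isPGroup_of_dvd h2.2 Fact.out h) e
    have h8 := h3.eq_of_le Q.2 le_top ((isSylowIn_top Q).le_of_le_normalizer' h3.2 le_top le_normalizer_of_normal')
    exact h6 (le_centralizer_of_inf_eq_bot le_normalizer_of_normal' (h8 ▸ le_normalizer_of_normal')
      (inf_eq_bot_of_coprime' (coprime_card_of_isPGroup_ne h1 h3.2 h2.2)) (mem_zpowers g))
  obtain rfl : R = Q := (isSylowIn_top Q).eq_of_le h2.2 le_top (h2.le_of_le_normalizer' Q.2 le_top le_normalizer_of_normal')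
  refine ⟨fun hc => hG.1 (isNilpotent_of_quotient_le_frattini (B := D) (hD' ▸ (commutator_le_map_frattini
    Q.2.isNilpotent).trans (map_frattini_le_frattini _)) (isNilpotent_top_iff.1 (isNilpotent_of_isMulCommutative inferInstance))), fun K hK => ?_⟩
  have h7 := hG.2 (K.comap (QuotientGroup.mk' D)) fun e => hK (by rw [← map_comap_mk D K, e, map_top_mk])
  rw [← map_comap_mk D K]
  generalize K.comap (QuotientGroup.mk' D) = L at h7
  obtain ⟨S, hS⟩ := exists_isSylowIn p L
  obtain ⟨x, -, hx⟩ := h3.exists_le_conj hS.2 le_top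
  have h8 : IsMulCommutative S := isMulCommutative_of_le hx (by
    rw [conj_smul_eq_map, MonoidHom.map_zpowers]; infer_instance)
  have h9 : L ≤ S ⊔ L ⊓ Q := le_of_forall_isSylowIn fun r hr hd => by
    have h10 := card_sup_dvd (le_normalizer_of_normal' : zpowers g ≤ normalizer ((Q : Subgroup G) : Set G))
    rw [h5, card_top] at h10
    rcases hr.dvd_mul.1 ((hd.trans (card_subgroup_dvd_card L)).trans h10) with h | h
    · obtain rfl := eq_of_isPGroup_of_dvd h3.2 hr h
      exact ⟨S, hS, le_sup_left⟩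
    · obtain rfl := eq_of_isPGroup_of_dvd Q.2 hr h
      obtain ⟨T, hT⟩ := exists_isSylowIn r L
      exact ⟨T, hT, le_sup_of_le_right (le_inf hT.1
        (h2.le_of_le_normalizer' hT.2 le_top le_normalizer_of_normal'))⟩
  have h10 := le_centralizer_of_nilpotent_of_coprime h7 hS.1 (inf_le_left : L ⊓ Q ≤ L)
    ((coprime_card_of_isPGroup_ne h1 hS.2 Q.2).coprime_dvd_right (card_dvd_of_le inf_le_right))
  refine Solv.isMulCommutative_iff.2 ?_
  rintro _ ⟨a, ha, rfl⟩ _ ⟨b, hb, rfl⟩
  obtain ⟨s, hs, u, hu, rfl⟩ := (mem_sup_of_le_normalizer (h10.trans (centralizer_le_normalizer _))).1 (h9 ha)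
  obtain ⟨t, ht, v, hv, rfl⟩ := (mem_sup_of_le_normalizer (h10.trans (centralizer_le_normalizer _))).1 (h9 hb)
  simp only [map_mul]
  refine Commute.mul_left (Commute.mul_right (Commute.map (Solv.isMulCommutative_iff.1 h8 s hs t ht) _)
    (Commute.map (mem_centralizer_iff.1 (h10 hs) v hv).symm _))
    (Commute.mul_right (Commute.map (mem_centralizer_iff.1 (h10 ht) u hu) _) ?_)
  rw [← commutatorElement_eq_one_iff_commute, ← map_commutatorElement]
  exact (QuotientGroup.eq_one_iff _).2 (hD' ▸ commutator_mem_commutator hu.2 hv.2)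

end Cfsg.Agent.S0577
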