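import Cfsg.Statements.S0578
import Cfsg.Agent.Lib.Solv.Schmidt

set_option autoImplicit false
open Cfsg

namespace Cfsg.Agent.S0578
section
open Pointwise commutatorElement Subgroup Cfsg.Agent.Solv
theorem aux (G : Type*) [Group G] [Finite G] : (∀ A : Subgroup G, IsMulCommutative A →
    normalizer (A : Set G) ≤ centralizer (A : Set G)) → IsMulCommutative G := by
  refine card_induction (P := fun G _ _ => (∀ A : Subgroup G, IsMulCommutative A →
    normalizer (A : Set G) ≤ centralizer (A : Set G)) → IsMulCommutative G) (fun G _ _ ih h => ?_) G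
  have h1 : ∀ H : Subgroup G, H ≠ ⊤ → IsMulCommutative H := fun H hH => ih _ (card_lt_of_ne_top hH)
    fun A hA x hx => mem_centralizer_iff.2 fun a ha => Subtype.ext (mem_centralizer_iff.1
      (h (A.map H.subtype) inferInstance (le_normalizer_map _ (mem_map_of_mem _ hx))) a (mem_map_of_mem _ ha))
  have h2 := isSolvable_of_forall_nilpotent fun H hH => isNilpotent_of_isMulCommutative (h1 H hH)
  rcases subsingleton_or_nontrivial G with h3 | h3
  · infer_instance
  obtain ⟨M, hM, h4⟩ := exists_coatom_ge (IsSolvable.commutator_lt_top_of_nontrivial G).ne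
  have hn : M.Normal := normal_iff_top_le_normalizer.2 (le_normalizer_of_commutator_le_of_le
    (commutator_mono le_top le_rfl) h4)
  obtain ⟨x, -, hx⟩ := SetLike.not_le_iff_exists.1 (fun e => hM.1 (top_le_iff.1 e))
  have h5 := isMulCommutative_sup_zpowers (h1 M hM.1) (h M (h1 M hM.1) (le_normalizer_of_normal' (mem_top x)))
  rw [sup_eq_top_of_not_le_coatom hM (fun e => hx (zpowers_le.1 e))] at h5
  exact IsMulCommutative.of_comm fun a b => Solv.isMulCommutative_iff.1 h5 a trivial b trivial
end

/-- If in a finite group the normalizer of each abelian subgroup coincides with its centralizer, then the group is abelian. -/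
theorem result {G : Type*} [Group G] [Finite G] (h : ∀ A : Subgroup G, IsMulCommutative A → Subgroup.normalizer (A : Set G) = Subgroup.centralizer (A : Set G)) : IsMulCommutative G := by
  open Pointwise commutatorElement Subgroup Cfsg.Agent.Solv in
  exact aux G fun A hA => (h A hA).le

end Cfsg.Agent.S0578
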