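import Cfsg.Statements.S0582
import Cfsg.Agent.Lib.Solv.Super

set_option autoImplicit false
open Pointwise
open Cfsg

namespace Cfsg.Agent.S0582
section
open Pointwise commutatorElement Subgroup Cfsg.Agent.Solv
theorem aux (G : Type*) [Group G] [Finite G] : ∀ H K : Subgroup G, IsSupersolvable H → IsSupersolvable K →
    Nat.card H = Nat.card K → (Nat.card H).Coprime H.index → ∃ x : G, MulAut.conj x • H = K := by
  refine card_induction (P := fun G _ _ => ∀ H K : Subgroup G, IsSupersolvable H → IsSupersolvable K →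
    Nat.card H = Nat.card K → (Nat.card H).Coprime H.index → ∃ x : G, MulAut.conj x • H = K)
    (fun G _ _ ih H K hH hK h1 h2 => ?_) G
  by_cases h0 : Nat.card H = 1
  · exact ⟨1, by rw [conj_one_smul, card_eq_one.1 h0, card_eq_one.1 (h1.symm.trans h0)]⟩
  obtain ⟨p, hp, h3, h4⟩ := exists_max_prime_dvd (n := Nat.card H) Nat.card_pos.ne' h0
  have := Fact.mk hp
  have key : ∀ L : Subgroup G, Nat.card L = Nat.card H → IsSupersolvable L →
      ∃ P, IsSylowIn p P ⊤ ∧ P ≤ L ∧ L ≤ normalizer (P : Set G) := fun L hL hs => by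
    obtain ⟨P, hP⟩ := exists_isSylowIn p L
    refine ⟨P, isSylowIn_of_card le_top ?_, hP.1, ss_le_normalizer_of_isSylowIn hs (hL ▸ h4) hP⟩
    rw [hP.card_eq, hL, card_top, factorization_card_of_not_dvd_index
      (hp.coprime_iff_not_dvd.1 (h2.coprime_dvd_left h3))]
  obtain ⟨Q, hQ, h5, h6⟩ := key K h1.symm hK
  obtain ⟨P, hP, h7, h8⟩ := key H rfl hH
  obtain ⟨g, -, rfl⟩ := hQ.exists_conj hP
  suffices ∃ x : G, MulAut.conj x • H = MulAut.conj g • K by
    obtain ⟨x, hx⟩ := this
    exact ⟨g⁻¹ * x, by rw [← conj_smul_conj_smul, hx, conj_inv_smul_conj_smul]⟩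
  have h9 := conj_smul_mono g h5
  have h10 := conj_smul_mono g h6
  rw [← normalizer_conj_smul] at h10
  have hK' : IsSupersolvable (MulAut.conj g • K : Subgroup G) := conj_smul_eq_map g K ▸ ss_map _ hK
  rw [← card_conj_smul g K] at h1
  generalize MulAut.conj g • K = K' at *
  generalize MulAut.conj g • Q = P at *
  by_cases hn : normalizer (P : Set G) = ⊤
  · have := normalizer_eq_top_iff.1 hn
    obtain ⟨x, hx⟩ := ih (G ⧸ P) (card_quotient_lt (hP.ne_bot (card_top (G := G) ▸ h3.trans (card_subgroup_dvd_card H))))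
      _ _ (ss_map (QuotientGroup.mk' P) hH) (ss_map (QuotientGroup.mk' P) hK') (by
        rw [card_map_mk_eq_relIndex, card_map_mk_eq_relIndex]
        exact Nat.eq_of_mul_eq_mul_left Nat.card_pos
          ((card_mul_relIndex h7).trans (h1.trans (card_mul_relIndex h9).symm)))
      ((h2.coprime_dvd_left (card_map_dvd _ _)).coprime_dvd_right (index_map_mk_dvd P H))
    obtain ⟨x, rfl⟩ := QuotientGroup.mk'_surjective P x
    rw [← map_conj_smul] at hx
    have h11 := congrArg (comap (QuotientGroup.mk' P)) hx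
    rw [comap_map_mk, comap_map_mk, sup_eq_left.2 h9, sup_eq_left.2] at h11
    · exact ⟨x, h11⟩
    · rw [← conj_smul_eq_self_iff.2 (hn ▸ mem_top x : x ∈ normalizer (P : Set G))]
      exact conj_smul_mono x h7
  · obtain ⟨x, hx⟩ := ih _ (card_lt_of_ne_top hn) _ _ (ss_subgroupOf hH _) (ss_subgroupOf hK' _)
      (by rw [card_subgroupOf_of_le h8, card_subgroupOf_of_le h10, h1])
      (by rw [card_subgroupOf_of_le h8]; exact h2.coprime_dvd_right (relIndex_dvd_index_of_le h8))
    exact ⟨x, conj_of_conj_subgroupOf h8 h10 x hx⟩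
end

/-- Let H and K be supersolvable subgroups of a finite group G of the same order, that order being coprime to their index. Then H and K are conjugate in G. -/
theorem result {G : Type*} [Group G] [Finite G] (H K : Subgroup G) (hH : Cfsg.IsSupersolvable H) (hK : Cfsg.IsSupersolvable K) (hcard : Nat.card H = Nat.card K) (hHall : (Nat.card H).Coprime H.index) : ∃ x : G, MulAut.conj x • H = K := by
  open Pointwise commutatorElement Subgroup Cfsg.Agent.Solv in
  exact aux G H K hH hK hcard hHall

end Cfsg.Agent.S0582
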