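import Cfsg.Statements.S0586
import Cfsg.Agent.Lib.Solv.Frattini

set_option autoImplicit false
open Cfsg

namespace Cfsg.Agent.S0586

/-- If the Frattini subgroup of a finite group G is trivial, then the Fitting subgroup of G equals the join of all abelian minimal normal subgroups of G. -/
theorem result {G : Type*} [Group G] [Finite G] (hΦ : frattini G = ⊥) : Cfsg.fittingSubgroup G = sSup {N : Subgroup G | N.Normal ∧ N ≠ ⊥ ∧ IsMulCommutative N ∧ ∀ K : Subgroup G, K.Normal → K ≤ N → K = ⊥ ∨ K = N} := by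
  apply le_antisymm
  · set S := sSup {N : Subgroup G | N.Normal ∧ N ≠ ⊥ ∧ IsMulCommutative N ∧
      ∀ K : Subgroup G, K.Normal → K ≤ N → K = ⊥ ∨ K = N} with hS
    have hF := Solv.isMulCommutative_fitting_of_frattini_eq_bot hΦ
    have hSF : S ≤ fittingSubgroup G := sSup_le fun N hN =>
      have := hN.1
      Solv.le_fitting (Solv.isNilpotent_of_isMulCommutative hN.2.2.1)
    have hSn : S.Normal := Subgroup.sSup_normal _ fun _ h => h.1
    obtain ⟨H, hH⟩ := Solv.exists_complement_of_inf_frattini_eq_bot S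
      (Solv.isMulCommutative_of_le hSF hF) (by rw [hΦ, inf_bot_eq])
    have h1 := Solv.dedekind (B := H) hSF Subgroup.le_normalizer_of_normal
    rw [hH.sup_eq_top, top_inf_eq] at h1
    have h2 : (H ⊓ fittingSubgroup G).Normal := Solv.normal_inf_of_sup_eq_top hF (by
      rw [eq_top_iff, ← hH.sup_eq_top, sup_comm]; exact sup_le_sup_left hSF H)
    by_cases hb : H ⊓ fittingSubgroup G = ⊥
    · rw [h1, hb, sup_bot_eq]
    · obtain ⟨M, hM, hMn, hMb, hmin⟩ := Solv.exists_minimal_normal_le _ hb
      have : M ≤ S := le_sSup ⟨hMn, hMb, Solv.isMulCommutative_of_le (hM.trans inf_le_right) hF, hmin⟩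
      exact absurd (eq_bot_iff.2 (Solv.IsComplement'.inf_eq_bot hH ▸
        le_inf this (hM.trans inf_le_left))) hMb
  · exact sSup_le fun N hN =>
      have := hN.1
      Solv.le_fitting (Solv.isNilpotent_of_isMulCommutative hN.2.2.1)

end Cfsg.Agent.S0586
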