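import Cfsg.Statements.S0587
import Cfsg.Agent.Lib.Solv.Prim

set_option autoImplicit false
open Cfsg

namespace Cfsg.Agent.S0587

/-- Let G be a finite group whose largest normal p-subgroup L is nontrivial, and M a maximal subgroup of G with trivial normal core. Then L is elementary abelian, M is a complement to L, L is a minimal normal subgroup of G, the centralizer of L is L, and for every prime q such that the largest normal q-subgroup of M is nontrivial, the order of L is congruent to 1 modulo q and q ≠ p. -/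
theorem result {G : Type*} [Group G] [Finite G] (p : ℕ) [Fact p.Prime] (hL : Cfsg.pCore p G ≠ ⊥) (M : Subgroup G) (hM : IsCoatom M) (hcore : M.normalCore = ⊥) : Cfsg.IsElementaryAbelian p (Cfsg.pCore p G) ∧ Subgroup.IsComplement' (Cfsg.pCore p G) M ∧ (∀ K : Subgroup G, K.Normal → K ≤ Cfsg.pCore p G → K = ⊥ ∨ K = Cfsg.pCore p G) ∧ Subgroup.centralizer ((Cfsg.pCore p G : Subgroup G) : Set G) = Cfsg.pCore p G ∧ ∀ (q : ℕ) [Fact q.Prime], Cfsg.pCore q ↥M ≠ ⊥ → Nat.card (Cfsg.pCore p G) % q = 1 % q ∧ q ≠ p := by
  open Pointwise commutatorElement Subgroup Cfsg.Agent.Solv in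
  obtain ⟨N, h1, hN, h0, hmin⟩ := exists_minimal_normal_le _ hL
  have := (isPGroup_pCore p G).isNilpotent
  obtain ⟨hc, r, hr, he⟩ := minimal_normal_elementary N (isSolvable_of_le h1 inferInstance) h0 hmin
  have h2 := eq_centralizer_of_core hM hcore h0 h0 (le_centralizer N)
  obtain rfl : N = pCore p G := le_antisymm h1
    (pCore_le_fitting.trans (h2 ▸ fitting_le_centralizer_of_minimal_normal N hmin))
  obtain rfl : r = p := by
    obtain ⟨x, hx, hx1⟩ := exists_ne_one_of_ne_bot h0
    have := Fact.mk hr
    exact eq_of_isPGroup_of_dvd (isPGroup_pCore p G) hr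
      (orderOf_eq_prime (he x hx) hx1 ▸ orderOf_dvd_card_of_mem hx)
  have h3 := centralizer_inf_eq_bot_of_core hM hcore h0
  have h4 := sup_eq_top_of_core hM hcore h0
  refine ⟨⟨hc, he⟩, isComplement'_of_inf_eq_bot_of_sup_eq_top (h2 ▸ h3) h4, hmin, h2.symm, fun q _ h5 => ?_⟩
  have h6 := card_modEq_card_inf_centralizer (K := pCore r G) (isPGroup_map_subtype_pCore (p := q) M)
    le_normalizer_of_normal'
  rcases hmin (pCore r G ⊓ centralizer (((pCore q M).map M.subtype : Subgroup G) : Set G))
    (normal_iff_top_le_normalizer.2 (h4 ▸ sup_le (((le_centralizer _).trans (centralizer_anti inf_le_left)).trans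
      (centralizer_le_normalizer _)) (le_normalizer_inf le_normalizer_of_normal' (le_normalizer_centralizer
      (le_normalizer.trans (normalizer_le_normalizer_map_pCore M)))))) inf_le_left with e | e
  · rw [e, card_bot] at h6
    refine ⟨h6, fun e1 => ?_⟩
    subst e1
    exact hr.ne_one (Nat.dvd_one.1 ((h6.dvd_iff dvd_rfl).1 (dvd_card_of_isPGroup (isPGroup_pCore q G) h0)))
  · exact absurd ((map_eq_bot_iff_of_injective _ M.subtype_injective).1 (le_bot_iff.1
      (h3 ▸ le_inf (le_centralizer_iff.1 (inf_eq_left.1 e)) (map_subtype_le _)))) h5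

end Cfsg.Agent.S0587
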