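import Cfsg.Statements.S0588
import Cfsg.Agent.Lib.Solv.Schmidt

set_option autoImplicit false
open Cfsg

namespace Cfsg.Agent.S0588

/-- If a subgroup H of a finite group G contains the centralizer of every non-identity element of H, then the order of H is coprime to its index. -/
theorem result {G : Type*} [Group G] [Finite G] (H : Subgroup G) (h : ∀ x ∈ H, x ≠ 1 → Subgroup.centralizer ({x} : Set G) ≤ H) : (Nat.card H).Coprime H.index := by
  open Pointwise commutatorElement Subgroup Cfsg.Agent.Solv in
  refine Nat.coprime_of_dvd fun p hp hd h1 => ?_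
  have := Fact.mk hp
  obtain ⟨x, hx, h2⟩ := exists_subgroup_card_prime hp hd
  have h3 : IsPGroup p (zpowers x) := IsPGroup.of_card (n := 1) (by rw [Nat.card_zpowers, h2, pow_one])
  obtain ⟨S, hS⟩ := h3.exists_le_sylow
  have hx1 := ne_one_of_orderOf_prime (h2 ▸ hp)
  obtain ⟨z, hz, h4⟩ := exists_ne_one_of_ne_bot (Transfer.inf_centralizer_ne_bot S.2 le_rfl le_normalizer
    fun e => hx1 (mem_bot.1 (e ▸ hS (mem_zpowers x))))
  have h5 := h x hx hx1 (mem_centralizer_singleton.2 (mem_centralizer_iff.1 hz.2 x (hS (mem_zpowers x))))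
  exact S.not_dvd_index (h1.trans (index_dvd_of_le fun s hs => h z h5 h4
    (mem_centralizer_singleton.2 (mem_centralizer_iff.1 hz.2 s hs).symm)))

end Cfsg.Agent.S0588
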