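import Cfsg.Statements.S0589
import Cfsg.Agent.Lib.Solv.Schmidt

set_option autoImplicit false
open Pointwise
open Cfsg

namespace Cfsg.Agent.S0589

/-- Let H be a Frobenius complement in a finite group G and L a subgroup of G whose order divides the order of H. Then L is contained in some conjugate of H. -/
theorem result {G : Type*} [Group G] [Finite G] (H : Subgroup G) (hH : Cfsg.IsFrobeniusComplement H) (L : Subgroup G) (hL : Nat.card L ∣ Nat.card H) : ∃ x : G, L ≤ MulAut.conj x • H := by
  open Pointwise commutatorElement Subgroup Cfsg.Agent.Solv in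
  obtain ⟨K, -, h2, h3, -, h4⟩ := exists_frobenius_kernel hH
  have hc := coprime_of_fpf le_normalizer_of_normal' h4
  have := thompson_fpf le_normalizer_of_normal' hH.1 h4
  obtain ⟨k, -, hk⟩ := sz_le_conj (B := L) le_normalizer_of_normal' hc (Or.inr inferInstance)
    (inf_eq_bot_of_coprime' (hc.symm.coprime_dvd_right hL)) (h3.sup_eq_top ▸ le_top)
  exact ⟨k, hk⟩

end Cfsg.Agent.S0589
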