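import Cfsg.Statements.S0592
import Cfsg.Agent.Lib.Transfer.Quad

set_option autoImplicit false
open Cfsg

namespace Cfsg.Agent.S0592

set_option linter.unusedSectionVars false
set_option linter.unusedVariables false
set_option linter.style.haveILetI false
set_option linter.unusedSimpArgs false

open Subgroup Cfsg.Agent.Transfer

/-- Two quadratically acting generators of a linear group that is not a p-group, with the p'-part of the order of their product dividing q - 1, give a homomorphism onto a subgroup of SL(2, q) that is not a p-group. -/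
theorem result {K : Type*} [Field K] [Fintype K] {p : ℕ} [Fact p.Prime] [CharP K p] {W : Type*} [AddCommGroup W] [Module K W] [FiniteDimensional K W] [Finite W] [Nontrivial W] (H : Subgroup (W ≃ₗ[K] W)) (a b : W ≃ₗ[K] W) (hH : H = Subgroup.closure {a, b}) (ha : ∀ w : W, a (a w - w) = a w - w) (hb : ∀ w : W, b (b w - w) = b w - w) (hnp : ¬ IsPGroup p H) (hk : ∃ e k : ℕ, orderOf (a * b) = p ^ e * k ∧ k ∣ Fintype.card K - 1) : ∃ φ : H →* Matrix.SpecialLinearGroup (Fin 2) K, ¬ IsPGroup p φ.range := by
  have haH : a ∈ H := hH ▸ subset_closure (by simp)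
  have hbH : b ∈ H := hH ▸ subset_closure (by simp)
  let ρ : H →* Module.End K W :=
    (LinearEquiv.automorphismGroup.toLinearMapMonoidHom).comp H.subtype
  have hρ : Function.Injective ρ := fun x y h => Subtype.ext (LinearEquiv.toLinearMap_injective h)
  obtain ⟨e, k, h1, h2⟩ := hk
  have hq : 1 < Fintype.card K := Fintype.one_lt_card
  obtain ⟨μ, hμ, φ, h3, h4, -⟩ := exists_hom_sl2_of_splits ρ (closure_pair_subgroupOf haH hbH hH) ha hb
    (f := (Polynomial.X ^ Fintype.card K - Polynomial.X) ^ p ^ e)
    ((Polynomial.splits_iff_card_roots.2 (by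
      rw [FiniteField.roots_X_pow_card_sub_X, FiniteField.X_pow_card_sub_X_natDegree_eq K hq]
      rfl)).pow _)
    (pow_ne_zero _ (FiniteField.X_pow_card_sub_X_ne_zero K hq))
    (by
      rw [sub_pow_char_pow, map_sub, map_pow, map_pow, map_pow, Polynomial.aeval_X, ← map_pow,
        ← map_pow, ← map_pow, sub_eq_zero]
      congr 1
      apply Subtype.ext
      change ((a * b) ^ Fintype.card K) ^ p ^ e = (a * b) ^ p ^ e
      obtain ⟨m, hm⟩ := h2
      rw [show Fintype.card K = k * m + 1 by omega, ← pow_mul, add_mul, pow_add, one_mul,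
        show k * m * p ^ e = p ^ e * k * m by ring, pow_mul, ← h1, pow_orderOf_eq_one, one_pow, one_mul])
    (by
      by_contra hc
      push Not at hc
      refine hnp fun g => ?_
      obtain ⟨j, hj⟩ := exists_pow_eq_one_of_isNilpotent (K := K) (c := ρ g) p (hc g)
      exact ⟨j, hρ (by rw [map_pow, hj, map_one])⟩)
  refine ⟨φ, fun h => ?_⟩
  have := sl2_normal_pgroup h hμ (le_normalizer ⟨_, h3⟩) (le_normalizer ⟨_, h4⟩)
  exact one_ne_zero (upU_eq_one.1 (mem_bot.1 (this.le ⟨_, h3⟩)))

end Cfsg.Agent.S0592
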