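import Cfsg.Statements.S0594
import Cfsg.Agent.Lib.Transfer.Quad

set_option autoImplicit false
open Cfsg

namespace Cfsg.Agent.S0594

set_option linter.unusedSectionVars false
set_option linter.unusedVariables false
set_option linter.style.haveILetI false
set_option linter.unusedSimpArgs false

open Subgroup Cfsg.Agent.Transfer
open scoped commutatorElement

/-- For odd p, two quadratic generators of a faithful group that is not a p-group, one of which acts nontrivially on a normal subgroup of order prime to p, force p = 3 and a section isomorphic to SL(2,3). -/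
theorem result {G : Type*} [Group G] [Finite G] {p : ℕ} [Fact p.Prime] (hp : p ≠ 2) (V H : Subgroup G) (hV : Cfsg.IsElementaryAbelian p V) (hHV : H ≤ Subgroup.normalizer (V : Set G)) (hf : H ⊓ Subgroup.centralizer (V : Set G) = ⊥) (a b : G) (hab : H = Subgroup.closure {a, b}) (ha : ⁅⁅V, Subgroup.zpowers a⁆, Subgroup.zpowers a⁆ = ⊥) (hb : ⁅⁅V, Subgroup.zpowers b⁆, Subgroup.zpowers b⁆ = ⊥) (hnp : ¬ IsPGroup p H) (Q : Subgroup G) (hQH : Q ≤ H) (hQn : H ≤ Subgroup.normalizer (Q : Set G)) (hQ : (Nat.card Q).Coprime p) (hQa : ⁅Q, Subgroup.zpowers a⁆ ≠ ⊥) : p = 3 ∧ ∃ (K L : Subgroup G) (hL : (L.subgroupOf K).Normal), K ≤ H ∧ Nonempty ((K ⧸ L.subgroupOf K) ≃* Matrix.SpecialLinearGroup (Fin 2) (ZMod 3)) := by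
  have haH : a ∈ H := hab ▸ subset_closure (by simp)
  obtain ⟨x, hx, h⟩ : ∃ x ∈ Q, ⁅x, a⁆ ∉ (⊥ : Subgroup G) := by
    by_contra hc
    push Not at hc
    exact hQa (commutator_eq_bot_iff_le_centralizer.2 fun x hx => mem_centralizer_zpowers.2
      (commutatorElement_eq_one_iff_commute.1 (mem_bot.1 (hc x hx))))
  obtain ⟨h1, K, L, hL, h2, h3⟩ := sl2_three_of_quadratic hp (elem_isPGroup hV) hHV
    (N := ⊥) le_normalizer_of_normal hQn hf.le (fun n hn => ⟨0, by rw [mem_bot.1 hn]; simp⟩) hQ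
    (fun r hr => orderOf_dvd_iff_pow_eq_one.1 (orderOf_dvd_card_of_mem hr)) haH (hQH hx) hx ha h
  refine ⟨h1, K, L, hL, h2.trans ((closure_le _).2 ?_), h3⟩
  rintro _ (rfl | rfl)
  exacts [haH, mul_mem (mul_mem (hQH hx) haH) (inv_mem (hQH hx))]

end Cfsg.Agent.S0594
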