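import Cfsg.Statements.S0595
import Cfsg.Agent.Lib.Transfer.Quad

set_option autoImplicit false
open Cfsg

namespace Cfsg.Agent.S0595

set_option linter.unusedSectionVars false
set_option linter.unusedVariables false
set_option linter.style.haveILetI false
set_option linter.unusedSimpArgs false

open Subgroup Cfsg.Agent.Transfer

/-- For odd p, a faithful action on an elementary abelian p-group that is not p-stable forces non-abelian Sylow 2-subgroups. -/
theorem result {G : Type*} [Group G] [Finite G] {p : ℕ} [Fact p.Prime] (hp : p ≠ 2) (V H : Subgroup G) (hV : Cfsg.IsElementaryAbelian p V) (hHV : H ≤ Subgroup.normalizer (V : Set G)) (hf : H ⊓ Subgroup.centralizer (V : Set G) = ⊥) (a : G) (haH : a ∈ H) (hq : ⁅⁅V, Subgroup.zpowers a⁆, Subgroup.zpowers a⁆ = ⊥) (hna : a ∉ (Cfsg.pCore p H).map H.subtype) (T : Sylow 2 H) : ¬ IsMulCommutative T := by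
  intro hT
  refine hna ⟨⟨a, haH⟩, mem_pCore_of_pairs fun g => ?_, rfl⟩
  have h1 : closure {a, g * a * g⁻¹} ≤ H := (closure_le _).2 (by
    rintro _ (rfl | rfl)
    exacts [haH, mul_mem (mul_mem g.2 haH) (inv_mem g.2)])
  have h2 := res_le_centralizer_of_quadratic hp (elem_isPGroup hV) (h1.trans hHV) rfl hq
    (quad_cj (hHV g.2) hq) default (comm_sylow_of_le h1 T hT _)
  have h3 : IsPGroup p (closure ({a, g * a * g⁻¹} : Set G)) :=
    isPGroup_iff_res_eq_bot.2 (le_bot_iff.1 (hf ▸ le_inf ((res_le _).trans h1) h2))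
  refine (h3.comap_subtype (K := H)).to_le ((closure_le _).2 ?_)
  rintro _ (rfl | rfl) <;> exact subset_closure (by simp)

end Cfsg.Agent.S0595
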