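import Cfsg.Statements.S0600
import Cfsg.Agent.Lib.Transfer.Thom
import Cfsg.Agent.Lib.Transfer.Quad

set_option autoImplicit false
open Cfsg

namespace Cfsg.Agent.S0600

set_option linter.unusedSectionVars false
set_option linter.unusedVariables false
set_option linter.style.haveILetI false
set_option linter.unusedSimpArgs false

open Subgroup Cfsg.Agent.Transfer

/-- A normal elementary abelian p-subgroup generated by the fixed points of the Sylow p-subgroups admits no nontrivial normal p-subgroup of G modulo its centralizer. -/
theorem result {G : Type*} [Group G] [Finite G] {p : ℕ} [Fact p.Prime] (V : Subgroup G) [V.Normal] (hV : Cfsg.IsElementaryAbelian p V) (hgen : V = ⨆ S : Sylow p G, V ⊓ Subgroup.centralizer ((S : Subgroup G) : Set G)) : Cfsg.pCore p (G ⧸ Subgroup.centralizer (V : Set G)) = ⊥ := by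
  rw [← map_comap_eq_self_of_surjective (QuotientGroup.mk'_surjective _) (pCore p _), Solv.map_mk_eq_bot_iff]
  have h1 : res p ((pCore p (G ⧸ centralizer (V : Set G))).comap (QuotientGroup.mk' _)) ≤
      centralizer (V : Set G) := by
    have := (isPGroup_map_iff_res_le (QuotientGroup.mk' (centralizer (V : Set G)))).1
      ((Solv.isPGroup_pCore p _).to_le (map_comap_le _ _))
    rwa [QuotientGroup.ker_mk'] at this
  rw [le_centralizer_iff]
  refine hgen.le.trans (iSup_le fun S => le_centralizer_iff.1 ?_)
  exact (isSyl_top S).le_of_res_le le_top le_normalizer_of_normal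
    (h1.trans (centralizer_le fun _ h => h.1)) (inf_le_left.trans (le_centralizer_iff.1 inf_le_right))

end Cfsg.Agent.S0600
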