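import Cfsg.Statements.S0602
import Cfsg.Agent.Lib.Transfer.Thom

set_option autoImplicit false
open Cfsg

namespace Cfsg.Agent.S0602

set_option linter.unusedSectionVars false
set_option linter.unusedVariables false
set_option linter.style.haveILetI false
set_option linter.unusedSimpArgs false

open Subgroup Cfsg.Agent.Transfer

/-- The Thompson subgroup is characteristic, and nontrivial as soon as p divides the group order. -/
theorem result {G : Type*} [Group G] [Finite G] {p : ℕ} [Fact p.Prime] : (Cfsg.thompsonSubgroup p G).Characteristic ∧ (p ∣ Nat.card G → Cfsg.thompsonSubgroup p G ≠ ⊥) := by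
  refine ⟨inferInstance, fun h hb => ?_⟩
  have S : Sylow p G := default
  have := (isSyl_top S).J_le
  rw [J_top, hb, le_bot_iff] at this
  exact J_ne_bot (Or.inl rfl) S.isPGroup' (mt (isSyl_top S).eq_bot_iff.1 (by simpa using h)) this

end Cfsg.Agent.S0602
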