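import Cfsg.Statements.S0614
import Cfsg.Agent.Lib.Transfer.FF2

set_option autoImplicit false
open Cfsg

namespace Cfsg.Agent.S0614

set_option linter.unusedSectionVars false
set_option linter.unusedVariables false
set_option linter.style.haveILetI false
set_option linter.unusedSimpArgs false

open Subgroup Transfer MS

theorem aux : ∃ a b : Matrix.SpecialLinearGroup (Fin 2) (ZMod 3), a ^ 4 = 1 ∧ b ^ 4 = 1 ∧ a * b ≠ b * a :=
  ⟨⟨!![0, 2; 1, 0], by decide⟩, ⟨!![1, 1; 1, 2], by decide⟩, by decide, by decide, by decide⟩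

/-- The commutator of the p'-core with a minimal nontrivially-acting best offender is a 3-group (when p = 2) or a non-abelian 2-group (when p = 3). -/
theorem result {G : Type*} [Group G] [Finite G] {p : ℕ} [Fact p.Prime] (V H : Subgroup G) (hV : Cfsg.IsElementaryAbelian p V) (hHV : H ≤ Subgroup.normalizer (V : Set G)) (hf : H ⊓ Subgroup.centralizer (V : Set G) = ⊥) (hS1 : Subgroup.centralizer (Cfsg.pPrimeCore p ↥H : Set ↥H) ≤ Cfsg.pPrimeCore p ↥H) (hS3 : H = ⨆ A : {A : Subgroup G // A ≤ H ∧ Cfsg.IsBestOffenderOn p V A}, (A : Subgroup G)) (hH1 : H ≠ ⊥) (A : Subgroup G) (hAH : A ≤ H) (hA : Cfsg.IsBestOffenderOn p V A) (hAV : ⁅V, A⁆ ≠ ⊥) (hmin : ∀ B : Subgroup G, B ≤ A → Cfsg.IsBestOffenderOn p V B → ⁅V, B⁆ ≠ ⊥ → B = A) : (p = 2 ∧ IsPGroup 3 ↥(⁅((Cfsg.pPrimeCore p ↥H).map H.subtype), A⁆)) ∨ (p = 3 ∧ IsPGroup 2 ↥(⁅((Cfsg.pPrimeCore p ↥H).map H.subtype), A⁆) ∧ ¬ IsMulCommutative ↥(⁅((Cfsg.pPrimeCore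 p ↥H).map H.subtype), A⁆)) := by
  have h := ffp_of hV hHV hf hS1
  have hT := h.tv_of_min hAH hA hAV hmin
  rw [map_pPrimeCore]
  have h1 := (h.card_EA hT).symm.trans (h.card_EA' hT)
  obtain rfl | rfl := (h.card_ge hT).1
  · exact .inl ⟨rfl, pg_of_card (by omega)⟩
  refine .inr ⟨rfl, IsPGroup.of_card (n := 3) (by omega), fun hab => ?_⟩
  obtain ⟨e⟩ := h.EA_iso hT
  have h2 : (⁅O {3}ᶜ H, A⁆.subgroupOf (EA 3 H A)).index = 3 := by
    have := card_mul_relIndex (H := ⁅O {3}ᶜ H, A⁆) (K := EA 3 H A) le_sup_left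
    rw [h.card_EA hT] at this
    exact Nat.eq_of_mul_eq_mul_left Nat.card_pos this
  haveI : (⁅O {3}ᶜ H, A⁆.subgroupOf (EA 3 H A)).Normal :=
    normal_subgroupOf_of_le_normalizer (sup_le (le_nn _) (right_nn_comm _ _))
  have h3 : ∀ x : SL2 (ZMod 3), x ^ 4 = 1 → (e.symm x : G) ∈ ⁅O {3}ᶜ H, A⁆ := fun x hx => by
    have h4 := inv_mem ((⁅O {3}ᶜ H, A⁆.subgroupOf (EA 3 H A)).pow_index_mem (e.symm x))
    rw [h2, ← map_pow, ← map_inv, show (x ^ 3)⁻¹ = x from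
      inv_eq_of_mul_eq_one_right ((pow_succ x 3).symm.trans hx)] at h4
    exact h4
  obtain ⟨a, b, ha, hb, hne⟩ := aux
  have h4 : e.symm a * e.symm b = e.symm b * e.symm a := Subtype.ext (ab_cc hab (h3 b hb) _ (h3 a ha))
  rw [← map_mul, ← map_mul] at h4
  exact hne (e.symm.injective h4)

end Cfsg.Agent.S0614
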