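import Cfsg.Statements.S0615
import Cfsg.Agent.Lib.Transfer.FF2

set_option autoImplicit false
open Cfsg

namespace Cfsg.Agent.S0615

set_option linter.unusedSectionVars false
set_option linter.unusedVariables false
set_option linter.style.haveILetI false
set_option linter.unusedSimpArgs false

open Subgroup Transfer MS

/-- Two subnormal subgroups acting irreducibly on their incomparable commutator modules, in a faithful group with trivial largest normal p-subgroup, generate their direct product, and the commutator module splits accordingly. -/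
theorem result {G : Type*} [Group G] [Finite G] {p : ℕ} [Fact p.Prime] (V E E₁ E₂ : Subgroup G) (hV : Cfsg.IsElementaryAbelian p V) (hEV : E ≤ Subgroup.normalizer (V : Set G)) (hf : E ⊓ Subgroup.centralizer (V : Set G) = ⊥) (hgen : E = E₁ ⊔ E₂) (hs₁ : (E₁.subgroupOf E).IsSubnormal) (hs₂ : (E₂.subgroupOf E).IsSubnormal) (hOp : Cfsg.pCore p ↥E = ⊥) (hirr₁ : (∀ U : Subgroup G, U ≤ ⁅V, E₁⁆ → E₁ ≤ Subgroup.normalizer (U : Set G) → U = ⊥ ∨ U = ⁅V, E₁⁆)) (hirr₂ : (∀ U : Subgroup G, U ≤ ⁅V, E₂⁆ → E₂ ≤ Subgroup.normalizer (U : Set G) → U = ⊥ ∨ U = ⁅V, E₂⁆)) (h12 : ¬ ⁅V, E₁⁆ ≤ ⁅V, E₂⁆) (h21 : ¬ ⁅V, E₂⁆ ≤ ⁅V, E₁⁆) (hc₁ : 2 < Nat.card E₁) (hc₂ : 2 < Nat.card E₂) : ⁅E₁, E₂⁆ = ⊥ ∧ E₁ ⊓ E₂ = ⊥ ∧ ⁅V, E₁⁆ ⊓ ⁅V, E₂⁆ = ⊥ ∧ ⁅V, E⁆ = ⁅V, E₁⁆ ⊔ ⁅V, E₂⁆ := by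
  have h : FS p V E := ⟨hV, hEV, hf, by rw [← map_pCore, hOp, Subgroup.map_bot]⟩
  have h1 : IrS V E E₁ := ⟨Comp.subnIn_iff.2 ⟨le_sup_left.trans hgen.ge, hs₁⟩, hirr₁, hc₁⟩
  have h2 : IrS V E E₂ := ⟨Comp.subnIn_iff.2 ⟨le_sup_right.trans hgen.ge, hs₂⟩, hirr₂, hc₂⟩
  have a := h.irs_main _ le_rfl h1 h2 h12 h21
  have b := h.irs_main _ le_rfl h2 h1 h21 h12
  refine ⟨eq_bot_iff.2 ((comm_le_O_of_subn h.pg h.norm h.faith h1.subn h2.subn a).trans h.op.le),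
    inf_bot_mono (h.faith' h1.subn) le_rfl (cc_symm a), inf_bot_mono (h.W_inf h1) le_rfl b, ?_⟩
  rw [hgen]; exact comm_sup_eq (h1.subn.le.trans hEV) (h2.subn.le.trans hEV)

end Cfsg.Agent.S0615
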