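import Cfsg.Statements.S0618
import Cfsg.Agent.Lib.Transfer.FF3

set_option autoImplicit false
open Cfsg

namespace Cfsg.Agent.S0618

set_option linter.unusedSectionVars false
set_option linter.unusedVariables false
set_option linter.style.haveILetI false
set_option linter.unusedSimpArgs false

open Subgroup Transfer MS

/-- A p-separable group with trivial p'-core in which the Thompson factorization fails has p = 2 or 3, and J(G) induces on the normal closure of Ω₁(Z(S)) a group containing a normal SL(2, p). -/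
theorem result {G : Type*} [Group G] [Finite G] {p : ℕ} [Fact p.Prime] (hsep : Cfsg.IsPSolvable p G) (hO : Cfsg.pPrimeCore p G = ⊥) (hnf : ¬ Cfsg.IsThompsonFactorizable p G) : (p = 2 ∨ p = 3) ∧ ∃ E : Subgroup G, Subgroup.centralizer ((⨆ S : Sylow p G, Cfsg.omegaOne p ((S : Subgroup G) ⊓ Subgroup.centralizer ((S : Subgroup G) : Set G))) : Set G) ≤ E ∧ E ≤ Cfsg.thompsonSubgroup p G ⊔ Subgroup.centralizer ((⨆ S : Sylow p G, Cfsg.omegaOne p ((S : Subgroup G) ⊓ Subgroup.centralizer ((S : Subgroup G) : Set G))) : Set G) ∧ Cfsg.thompsonSubgroup p G ⊔ Subgroup.centralizer ((⨆ S : Sylow p G, Cfsg.omegaOne p ((S : Subgroup G) ⊓ Subgroup.centralizer ((S : Subgroup G) : Set G))) : Set G) ≤ Subgroup.normalizer (E : Set G) ∧ ∃ hn : ((Subgroup.centralizer ((⨆ S : Sylow p G, Cfsg.omegaOne p ((S : Subgroup G) ⊓ Subgroup.centralizer ((S : Subgroup G) : Set G))) : Set G)).subgroupOf E).Normal, Nonempty ((↥E ⧸ (Subgroup.centralizer ((⨆ S : Sylow p G,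 Cfsg.omegaOne p ((S : Subgroup G) ⊓ Subgroup.centralizer ((S : Subgroup G) : Set G))) : Set G)).subgroupOf E) ≃* Matrix.SpecialLinearGroup (Fin 2) (ZMod p)) := by
  have e : centralizer (⨆ S : Sylow p G, (omegaOne p ((S : Subgroup G) ⊓ CC (S : Subgroup G)) : Set G)) = CC (ZV p G) :=
    le_antisymm (le_cc_iSup fun S => centralizer_le (le_iSup (fun S : Sylow p G => (OZ p (S : Subgroup G) : Set G)) S))
      (centralizer_le (iSup_le fun S => OZ_le_ZV S))
  rw [e]
  have h : TF p (ZV p G) ⊤ := ⟨elem_ZV (psol_charP (Comp.pSol_top_of_isPSolvable hsep) hO), le_top, nn_normal,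
    Comp.pSol_top_of_isPSolvable hsep, fun D _ h2 h3 => by
      haveI := normal_of_top_le fun g => h2 (mem_top g)
      exact le_centralizer_ZV (res_le_of_pow h3)⟩
  rw [← J_top]
  obtain ⟨A, hA⟩ := h.exists_tv fun hJ => hnf (factorizable_of_J_le (J_top (n := p) (G := G) ▸ hJ))
  obtain ⟨B, hB, e1, h1⟩ := exists_im ((h.ffpJ.EA_le hA).trans (Transfer.im_mono (le_sup_left (b := CC (ZV p G)))))
  obtain ⟨φ⟩ := h.ffpJ.EA_iso hA
  have hBV : B ≤ NN (ZV p G) := nn_normal
  have h2 : ∀ g ∈ thompsonSubgroupOf p ⊤ ⊔ CC (ZV p G), rho _ ⟨g, nn_normal (mem_top g)⟩ ∈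
      NN (EA p (Transfer.im (ZV p G) (thompsonSubgroupOf p ⊤)) A) → g ∈ NN B := fun g hg h3 =>
    mem_normalizer_of_conj_mem fun b hb => h1 (⟨g, nn_normal (mem_top g)⟩ * ⟨b, hBV hb⟩ * ⟨g, nn_normal (mem_top g)⟩⁻¹)
      (mul_mem (mul_mem hg (hB hb)) (inv_mem hg)) (by
        rw [map_mul, map_mul, map_inv]; exact conj_mem_of_mem_normalizer h3 (e1 ▸ rho_mem_im hb))
  let f : B →* SL2 (ZMod p) := φ.toMonoidHom.comp
    (((rho _).comp (inclusion hBV)).codRestrict _ fun d => e1 ▸ rho_mem_im d.2)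
  have h3 : Function.Surjective f := by
    refine φ.surjective.comp ?_
    rintro ⟨y, hy⟩
    obtain ⟨d, hd, rfl⟩ := e1.ge hy
    exact ⟨⟨d, hd⟩, rfl⟩
  have h4 : (CC (ZV p G)).subgroupOf B = f.ker := by
    ext d
    rw [MonoidHom.mem_ker, mem_subgroupOf]
    exact (φ.map_eq_one_iff.trans (Subtype.ext_iff.trans (rho_eq_one (a := inclusion hBV d)))).symm
  refine ⟨(h.ffpJ.card_ge hA).1, B, fun c hc => h1 ⟨c, cc_le_nn _ hc⟩ (mem_sup_right hc)
    ((rho_eq_one (a := ⟨c, cc_le_nn _ hc⟩)).2 hc ▸ one_mem _), hB, sup_le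
    (fun g hg => h2 g (mem_sup_left hg) (h.ffpJ.nn_EA h.gen hA (rho_mem_im hg)))
    (fun g hg => h2 g (mem_sup_right hg) ((rho_eq_one (a := ⟨g, _⟩)).2 hg ▸ one_mem _)), inferInstance,
    ⟨(QuotientGroup.quotientMulEquivOfEq h4).trans (QuotientGroup.quotientKerEquivOfSurjective f h3)⟩⟩

end Cfsg.Agent.S0618
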