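import Cfsg.Statements.S0619
import Cfsg.Agent.Lib.Transfer.FF3

set_option autoImplicit false
open Cfsg

namespace Cfsg.Agent.S0619

set_option linter.unusedSectionVars false
set_option linter.unusedVariables false
set_option linter.style.haveILetI false
set_option linter.unusedSimpArgs false

open Subgroup Transfer MS

/-- For a p-separable group and a normal elementary abelian p-subgroup V with no nontrivial normal p-subgroup modulo its centralizer C, the Thompson subgroup J(G) moves Ω₁(Z(J(C))) only inside V. -/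
theorem result {G : Type*} [Group G] [Finite G] {p : ℕ} [Fact p.Prime] (hsep : Cfsg.IsPSolvable p G) (V : Subgroup G) [V.Normal] (hV : Cfsg.IsElementaryAbelian p V) (hO : Cfsg.pCore p (G ⧸ Subgroup.centralizer (V : Set G)) = ⊥) : ⁅Cfsg.omegaOne p (Cfsg.centerThompsonOf p (Subgroup.centralizer (V : Set G))), Cfsg.thompsonSubgroup p G⁆ ≤ V := by
  have h : TF p V ⊤ := ⟨hV, le_top, nn_normal, Comp.pSol_top_of_isPSolvable hsep, fun D _ h2 h3 x hx => by
    haveI := normal_of_top_le fun g => h2 (mem_top g)
    have := mk_mem_pCore_of hx (res_le_of_pow h3)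
    rwa [hO, mem_bot, QuotientGroup.eq_one_iff] at this⟩
  rw [← J_top, J_eq, sSup_eq_iSup', Subgroup.commutator_comm]
  refine Comp.commutator_iSup_left_le (fun _ => nn_normal) fun ⟨A, hA⟩ => ?_
  have h1 := (h.maxE_sup hA).mono (sup_le inf_le_right (ab_cc hV.1)) le_top
  have h2 : omegaOne p (centerThompsonOf p (CC V)) ≤ A ⊓ CC V ⊔ V := omegaOne_le_iff.2 fun x hx h3 =>
    h1.mem_of_J (ZJ_le _ hx) hx.2 h3
  refine (commutator_mono le_rfl h2).trans (comm_sup_r nn_normal nn_normal ?_ (comm_le_right nn_normal))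
  exact (comm_eq_bot.2 (ab_le_cc hA.elem.1 le_rfl inf_le_left)).le.trans bot_le

end Cfsg.Agent.S0619
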