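import Cfsg.Statements.S0620
import Cfsg.Agent.Lib.Transfer.FF3

set_option autoImplicit false
open Cfsg

namespace Cfsg.Agent.S0620

set_option linter.unusedSectionVars false
set_option linter.unusedVariables false
set_option linter.style.haveILetI false
set_option linter.unusedSimpArgs false

open Subgroup Transfer MS

/-- Under coprime action of an elementary abelian q-group X on a p-separable group K with trivial p'-core, K is generated by the normalizer of J(S), the centralizer of Ω₁(Z(S)) and the fixed points of X. -/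
theorem result {G : Type*} [Group G] [Finite G] {p : ℕ} [Fact p.Prime] {q : ℕ} [Fact q.Prime] (K X : Subgroup G) (hXK : X ≤ Subgroup.normalizer (K : Set G)) (hX : Cfsg.IsElementaryAbelian q X) (hq : ¬ q ∣ Nat.card K) (hsep : Cfsg.IsPSolvable p ↥K) (hO : Cfsg.pPrimeCore p ↥K = ⊥) (S : Sylow p ↥K) : (Subgroup.normalizer (Cfsg.thompsonSubgroupOf p (S : Subgroup ↥K) : Set ↥K) ⊔ Subgroup.centralizer (Cfsg.omegaOne p ((S : Subgroup ↥K) ⊓ Subgroup.centralizer ((S : Subgroup ↥K) : Set ↥K)) : Set ↥K) ⊔ (Subgroup.centralizer (X : Set G)).subgroupOf K) = ⊤ := by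
  have hS := isSyl_map_subtype S
  have hf := inf_ker_eq_bot_of_injective K.subtype_injective
  refine eq_top_iff.2 fun x _ => (mem_map_iff_mem K.subtype_injective).1 ((tf_ZV hsep hO).le_of_gen
    (hXK.trans (normalizer_le_normalizer_map_of_characteristic _)) hXK
    (pg_coprime (elem_isPGroup hX) (pi_compl_iff.2 hq) (by simp)) (sol_of_ab hX.1) hS (map_subtype_le _) ?_ ?_ ?_ x.2)
  · rintro g ⟨hg, h1⟩
    refine ⟨⟨g, hg⟩, mem_sup_left (mem_sup_left (mem_normalizer_of_conj_mem fun y hy => ?_)), rfl⟩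
    rw [← map_J (hf _)] at h1
    exact (mem_map_iff_mem K.subtype_injective).1 (conj_mem_of_mem_normalizer h1 (mem_map_of_mem _ hy))
  · rintro g ⟨hg, h1⟩
    exact ⟨⟨g, hg⟩, mem_sup_left (mem_sup_right (cc_anti (OZ_le_ZV S) (mem_cc_map_subtype.1 h1))), rfl⟩
  · rintro g ⟨hg, h1⟩
    exact ⟨⟨g, hg⟩, mem_sup_right h1, rfl⟩

end Cfsg.Agent.S0620
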