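import Cfsg.Statements.S0621
import Cfsg.Agent.Lib.Transfer.FF3

set_option autoImplicit false
open Cfsg

namespace Cfsg.Agent.S0621

set_option linter.unusedSectionVars false
set_option linter.unusedVariables false
set_option linter.style.haveILetI false
set_option linter.unusedSimpArgs false

open Subgroup Transfer MS

/-- Let K be p-separable with O_p'(K) = 1, normalized by an elementary abelian q-group X for a prime q not dividing the order of K. If the Thompson factorization fails in K, then p is 2 or 3 and the fixed points of X contain a plane W of order p² and a subgroup inducing SL(2, p) on it. -/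
theorem result {G : Type*} [Group G] [Finite G] {p : ℕ} [Fact p.Prime] {q : ℕ} [Fact q.Prime] (K X : Subgroup G) (hXK : X ≤ Subgroup.normalizer (K : Set G)) (hX : Cfsg.IsElementaryAbelian q X) (hq : ¬ q ∣ Nat.card K) (hsep : Cfsg.IsPSolvable p ↥K) (hO : Cfsg.pPrimeCore p ↥K = ⊥) (hnf : ¬ Cfsg.IsThompsonFactorizable p ↥K) : (p = 2 ∨ p = 3) ∧ ∃ W D : Subgroup G, W ≤ K ⊓ Subgroup.centralizer (X : Set G) ∧ D ≤ K ⊓ Subgroup.centralizer (X : Set G) ∧ Cfsg.IsElementaryAbelian p W ∧ Nat.card W = p ^ 2 ∧ D ≤ Subgroup.normalizer (W : Set G) ∧ ∃ hn : ((Subgroup.centralizer (W : Set G)).subgroupOf D).Normal, Nonempty ((↥D ⧸ (Subgroup.centralizer (W : Set G)).subgroupOf D) ≃* Matrix.SpecialLinearGroup (Fin 2) (ZMod p)) := by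
  have h := tf_ZV hsep hO
  obtain ⟨h0, W, D, h1, h2, h3, h4, f, h5, h6⟩ := h.exists_WD
    (hXK.trans (normalizer_le_normalizer_map_of_characteristic _)) hXK
    (pg_coprime (elem_isPGroup hX) (pi_compl_iff.2 hq) (by simp)) (sol_of_ab hX.1)
    fun hJ => hnf (factorizable_of_J_le fun x hx => mem_cc_map_subtype.1 (hJ (mem_map_of_mem _ hx)))
  haveI hn : ((CC W).subgroupOf D).Normal := h6 ▸ f.normal_ker
  exact ⟨h0, W, D, h1.trans (inf_le_inf_right _ h.le), h2, elem_mono h.elem (h1.trans inf_le_left), h3, h4,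
    hn, ⟨(QuotientGroup.quotientMulEquivOfEq h6.symm).trans
      (QuotientGroup.quotientKerEquivOfSurjective f h5)⟩⟩

end Cfsg.Agent.S0621
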