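import Cfsg.Statements.S0628
import Cfsg.Agent.Lib.Transfer.Stab

set_option autoImplicit false
open Cfsg

namespace Cfsg.Agent.S0628

set_option linter.unusedSectionVars false
set_option linter.unusedVariables false
set_option linter.style.haveILetI false
set_option linter.unusedSimpArgs false

open Subgroup Transfer MS

/-- The normal p-complement Theorem of Thompson in the form with W(S): for odd p, G has a normal p-complement as soon as the normalizer of the characteristic subgroup W(S) of a Sylow p-subgroup S has one. -/
theorem result {G : Type*} [Group G] [Finite G] {p : ℕ} [Fact p.Prime] (hp : p ≠ 2) (S : Sylow p G) (hN : Cfsg.HasNormalPComplement p ↥(Subgroup.normalizer (((Cfsg.stableNormalClosure p ↥(S : Subgroup G)).map (S : Subgroup G).subtype) : Set G))) : Cfsg.HasNormalPComplement p G := by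
  exact npc_of_functor hp (fun S => WS p S) (fun _ _ h => map_WS h) (fun _ => map_subtype_le _)
    (fun S h1 h2 e => by
      haveI := (nontrivial_iff_ne_bot S).2 h2
      exact snc_ne_bot h1 ((map_eq_bot_iff_of_injective _ S.subtype_injective).1 e))
    (fun _ _ _ P h1 h2 => WS_normal (actionStable_of_abelian hp h2) h1 P) S hN

end Cfsg.Agent.S0628
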