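import Cfsg.Statements.S0629
import Cfsg.Agent.Lib.BG.PLen

set_option autoImplicit false
open Cfsg

namespace Cfsg.Agent.S0629

/-- A group in which the centralizer of a Sylow p-subgroup of O_{p',p}(G) is p-solvable is p-constrained. -/
theorem result {G : Type*} [Group G] [Finite G] {p : ℕ} [Fact p.Prime] (P : Sylow p ↥(Cfsg.pPrimePCore p G)) (hsol : Cfsg.IsPSolvable p ↥(Subgroup.centralizer (((P : Subgroup ↥(Cfsg.pPrimePCore p G)).map (Cfsg.pPrimePCore p G).subtype : Subgroup G) : Set G))) : Cfsg.IsPConstrained p G := by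
  open Pointwise commutatorElement Subgroup in
  open Subgroup Cfsg.Agent.Comp in
  set T := (P : Subgroup (pPrimePCore p G)).map (pPrimePCore p G).subtype
  have hT : SylIn p T (Oppp p ⊤) := by rw [Oppp_top]; exact sylIn_sylow P
  have h1 := Transfer.psol_of_sub hsol
  refine isPConstrained_iff.2 (PLay_eq_bot_of_charP_map (QuotientGroup.mk' (pPrimeCore p G))
    (by rw [top_inf_eq, QuotientGroup.ker_mk']; exact Solv.coprime_card_pPrimeCore p) ?_)
  have hk : ⊤ ⊓ (QuotientGroup.mk' (pPrimeCore p G)).ker = Opp p (⊤ : Subgroup G) := by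
    rw [top_inf_eq, QuotientGroup.ker_mk', Opp_top]
  have h2 : T.map (QuotientGroup.mk' (pPrimeCore p G)) = Op p ⊤ := by
    rw [← Solv.map_top_mk, ← map_Oppp_eq_Op _ hk, ← hT.Opp_sup_eq_Oppp, Subgroup.map_sup, ← hk,
      (Subgroup.map_eq_bot_iff _).2 inf_le_right, bot_sup_eq]
  have h3 := map_inf_centralizer (QuotientGroup.mk' (pPrimeCore p G)) (M := ⊤) (A := T) le_normalizer_of_normal
    (by rw [hk]; exact coprime_card_of_isPGroup hT.isP (coprime_Opp p _)) (Or.inl (isSolvable_of_isPGroup hT.isP))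
  rw [top_inf_eq, h2, Solv.map_top_mk] at h3
  rw [Solv.map_top_mk]
  refine CharP.of_inf_centralizer (isPGroup_Op p ⊤) le_top (le_normalizer_Op_of_le le_rfl) ?_
  refine PSol.charP (h3 ▸ h1.map _) (eq_bot_iff.2 ?_)
  rw [top_inf_eq, Op_top]
  exact (Solv.map_subtype_pPrimeCore_le _).trans Solv.pPrimeCore_quotient_pPrimeCore.le

end Cfsg.Agent.S0629
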