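import Cfsg.Statements.S0630
import Cfsg.Agent.Lib.BG.PLen

set_option autoImplicit false
open Cfsg

namespace Cfsg.Agent.S0630

/-- p-constraint passes to and from the quotient by the largest normal subgroup of order prime to p. -/
theorem result {G : Type*} [Group G] [Finite G] {p : ℕ} [Fact p.Prime] : Cfsg.IsPConstrained p G ↔ Cfsg.IsPConstrained p (G ⧸ Cfsg.pPrimeCore p G) := by
  open Pointwise commutatorElement Subgroup in
  open Subgroup Cfsg.Agent.Comp in
  rw [isPConstrained_iff, isPConstrained_iff]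
  have hk : ⊤ ⊓ (QuotientGroup.mk' (pPrimeCore p G)).ker = Opp p (⊤ : Subgroup G) := by
    rw [top_inf_eq, QuotientGroup.ker_mk', Opp_top]
  refine ⟨fun h => ?_, fun h => PLay_eq_bot_of_charP_map _ (hk ▸ coprime_Opp p _) ?_⟩
  · have := (charP_map_of_PLay_eq_bot _ hk h).PLay_eq_bot
    rwa [Solv.map_top_mk] at this
  · rw [Solv.map_top_mk]
    exact charP_iff_PLay_Opp.2 ⟨h, by rw [Opp_top, Solv.pPrimeCore_quotient_pPrimeCore]⟩

end Cfsg.Agent.S0630
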