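import Cfsg.Statements.S0633
import Cfsg.Agent.Lib.BG.HH

set_option autoImplicit false
open Cfsg

namespace Cfsg.Agent.S0633

/-- Theorem B of Hall and Higman on the minimal polynomial of a p-element of order p^n in a p-solvable linear group on a nonzero vector space in characteristic p with no nontrivial normal p-subgroup: its degree is p^n, except when some p^n₀ - 1 (n₀ ≤ n) is a power of a prime q for which the Sylow q-subgroups are non-abelian, in which case the degree is at least p^(n-n₀)(p^n₀ - 1). -/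
theorem result {F : Type*} [Field F] {p : ℕ} [Fact p.Prime] [CharP F p] {V : Type*} [AddCommGroup V] [Module F V] [FiniteDimensional F V] [Nontrivial V] (H : Subgroup (V ≃ₗ[F] V)) [Finite H] (hsol : Cfsg.IsPSolvable p H) (hOp : Cfsg.pCore p H = ⊥) (x : V ≃ₗ[F] V) (hx : x ∈ H) (n : ℕ) (hn : orderOf x = p ^ n) (r : ℕ) (hr : minpoly F (x : Module.End F V) = (Polynomial.X - 1) ^ r) : r = p ^ n ∨ ∃ n₀ q m : ℕ, 1 ≤ n₀ ∧ n₀ ≤ n ∧ q.Prime ∧ 1 ≤ m ∧ p ^ n₀ - 1 = q ^ m ∧ (∀ Q : Sylow q H, ¬ IsMulCommutative Q) ∧ p ^ (n - n₀) * (p ^ n₀ - 1) ≤ r := by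
  open Pointwise commutatorElement Subgroup in
  open Module Cfsg.Agent.HH in
  have hp : p.Prime := Fact.out
  let K := AlgebraicClosure F
  let j : End F V →+* End K (Fin (finrank F V) → K) :=
    ((Matrix.toLinAlgEquiv' (R := K) (n := Fin (finrank F V))).toRingEquiv.toRingHom.comp
      (algebraMap F K).mapMatrix).comp (LinearMap.toMatrixAlgEquiv (finBasis F V)).toRingEquiv.toRingHom
  have hj : Function.Injective j := (Matrix.toLinAlgEquiv' (R := K)).injective.comp
    ((Matrix.map_injective (algebraMap F K).injective).comp (LinearMap.toMatrixAlgEquiv (finBasis F V)).injective)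
  let ρ : Representation K H (Fin (finrank F V) → K) :=
    j.toMonoidHom.comp (LinearEquiv.automorphismGroup.toLinearMapMonoidHom.comp H.subtype)
  haveI : Nonempty (Fin (finrank F V)) := ⟨⟨0, finrank_pos⟩⟩
  have h1 : ∀ k, r ≤ k → (ρ ⟨x, hx⟩ - 1) ^ k = 0 := fun k hk => by
    have := minpoly.aeval F (x : End F V)
    rw [hr, map_pow, map_sub, Polynomial.aeval_X, map_one] at this
    refine pow_eq_zero_of_le hk ?_
    rw [← j.map_one, ← j.map_zero, ← this, map_pow, map_sub]; rfl
  have h2 : r ≤ p ^ n := by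
    have := Polynomial.natDegree_le_of_dvd (minpoly.dvd F (x : End F V) (p := (Polynomial.X - 1) ^ p ^ n) (by
      rw [map_pow, map_sub, Polynomial.aeval_X, map_one, sub_pow_char' (F := F), ← hn, sub_eq_zero]
      exact (map_pow LinearEquiv.automorphismGroup.toLinearMapMonoidHom x _).symm.trans
        (by rw [pow_orderOf_eq_one, map_one]))) (pow_ne_zero _ (Polynomial.X_sub_C_ne_zero 1))
    rwa [hr, ← Polynomial.C_1, Polynomial.natDegree_pow, Polynomial.natDegree_pow, Polynomial.natDegree_X_sub_C,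
      mul_one, mul_one] at this
  refine (thmB p ρ (hj.comp (LinearEquiv.toLinearMap_injective.comp H.subtype_injective))
    (Comp.pSol_top_of_isPSolvable hsol) hOp (x := ⟨x, hx⟩) (n := n) (by rwa [← Subgroup.orderOf_coe])).imp
    (fun h => ?_) fun ⟨n₀, q, m, a, b, c, d, e, f, g⟩ => ⟨n₀, q, m, a, b, c, d, e, f, ?_⟩
  · have := mt (h1 _) h; omega
  · have := mt (h1 _) g; omega

end Cfsg.Agent.S0633
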