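import Cfsg.Statements.S0634
import Cfsg.Agent.Lib.BG.PLen

set_option autoImplicit false
open Cfsg

namespace Cfsg.Agent.S0634

/-- In a p-soluble group each p-factor of the upper p-series contains its own centralizer in the corresponding quotient. -/
theorem result {G : Type*} [Group G] [Finite G] {p : ℕ} [Fact p.Prime] (hsol : Cfsg.IsPSolvable p G) (k : ℕ) : Subgroup.centralizer ((((Cfsg.upperPSeries p G (2 * k + 2)).1.map (QuotientGroup.mk' (Cfsg.upperPSeries p G (2 * k + 1)).1)) : Subgroup (G ⧸ (Cfsg.upperPSeries p G (2 * k + 1)).1)) : Set (G ⧸ (Cfsg.upperPSeries p G (2 * k + 1)).1)) ≤ (Cfsg.upperPSeries p G (2 * k + 2)).1.map (QuotientGroup.mk' (Cfsg.upperPSeries p G (2 * k + 1)).1) := by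
  open Pointwise commutatorElement Subgroup in
  open Subgroup Cfsg.Agent.PL in
  have hf := QuotientGroup.mk'_surjective (U p G (2 * k + 1))
  have h1 : (U p G (2 * k + 2)).map (QuotientGroup.mk' (U p G (2 * k + 1))) = pCore p _ := by
    rw [U_odd (n := 2 * k + 1) (by simp), map_comap_eq_self_of_surjective hf]
  rw [h1]
  refine Transfer.psol_charP (Transfer.psol_surj hf (Comp.pSol_top_of_isPSolvable hsol)) ?_
  have := comap_le_odd (p := p) (QuotientGroup.mk' (U p G (2 * k + 1))) (a := k) (QuotientGroup.ker_mk' _).le 0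
  rw [zero_add, U_one] at this
  exact eq_bot_iff.2 fun x hx => by
    obtain ⟨x, rfl⟩ := hf x
    exact (QuotientGroup.eq_one_iff _).2 (this hx)

end Cfsg.Agent.S0634
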