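import Cfsg.Statements.S0638
import Cfsg.Agent.Lib.Solv.PGrp

set_option autoImplicit false
open Cfsg

namespace Cfsg.Agent.S0638

/-- For odd p, in a non-cyclic metacyclic p-group the elements of order dividing p generate an elementary abelian subgroup of order p². -/
theorem result {R : Type*} [Group R] [Finite R] {p : ℕ} [Fact p.Prime] (hp : p ≠ 2) (hR : IsPGroup p R) (hm : Cfsg.IsMetacyclic R) (hnc : ¬ IsCyclic R) : Cfsg.IsElementaryAbelian p (Cfsg.omegaOne p (⊤ : Subgroup R)) ∧ Nat.card ↥(Cfsg.omegaOne p (⊤ : Subgroup R)) = p ^ 2 := by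
  open Pointwise commutatorElement Subgroup Cfsg.Agent.Solv in
  obtain ⟨N, hN, hNc, hQ⟩ := hm
  have hp' : p.Prime := Fact.out
  obtain ⟨E, -, h2, h3, h4, -⟩ := exists_normal_elementary_sq (L := ⊤) hp
    (hR.to_subgroup ⊤).isNilpotent (hR.to_subgroup ⊤) le_top le_normalizer_of_normal
    fun h => hnc (isCyclic_of_surjective _ topEquiv.surjective)
  have hE := not_isCyclic_of_card_sq hp' h2 h4
  obtain ⟨x, hx, hxN⟩ : ∃ x ∈ E, x ∉ N := by
    by_contra h
    push Not at h
    exact hE (isCyclic_of_le (show E ≤ N from h))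
  have hi := relIndex_sup_zpowers_of_prime hp' (le_normalizer_of_normal (mem_top x)) hxN
    (h4 x hx ▸ one_mem N)
  have key : ∀ y : R, y ^ p = 1 → y ∈ N ⊔ zpowers x := by
    intro y hy
    by_cases hyN : y ∈ N
    · exact mem_sup_left hyN
    have e1 : orderOf (x : R ⧸ N) = p := orderOf_eq_prime
      (by rw [← QuotientGroup.mk_pow, h4 x hx]; rfl) fun h => hxN ((QuotientGroup.eq_one_iff _).1 h)
    have e2 : orderOf (y : R ⧸ N) = p := orderOf_eq_prime
      (by rw [← QuotientGroup.mk_pow, hy]; rfl) fun h => hyN ((QuotientGroup.eq_one_iff _).1 h)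
    have e3 : zpowers (y : R ⧸ N) = zpowers (x : R ⧸ N) := 
      eq_of_isCyclic_of_card_eq (C := ⊤) inferInstance le_top le_top (by rw [Nat.card_zpowers, Nat.card_zpowers, e1, e2])
    obtain ⟨k, hk⟩ := (e3 ▸ mem_zpowers (y : R ⧸ N) :)
    simp only at hk
    rw [← QuotientGroup.mk_zpow, QuotientGroup.eq] at hk
    rw [show y = x ^ k * ((x ^ k)⁻¹ * y) by group]
    exact mul_mem (mem_sup_right (zpow_mem (mem_zpowers x) k)) (mem_sup_left hk)
  obtain ⟨F, h5, h6, h7⟩ := omega_of_cyclic_index_odd hp (hR.to_subgroup _) le_sup_left hNc hi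
    fun h => hE (isCyclic_of_le (show E ≤ N ⊔ zpowers x from fun y hy => key y (h4 y hy)))
  have : Cfsg.omegaOne p (⊤ : Subgroup R) = F := by
    refine le_antisymm (closure_le _ |>.2 fun y hy => (h7 y).2 ⟨key y hy.2, hy.2⟩)
      fun y hy => subset_closure ⟨trivial, ((h7 y).1 hy).2⟩
  rw [this]
  exact ⟨⟨h6, fun y hy => ((h7 y).1 hy).2⟩, h5⟩

end Cfsg.Agent.S0638
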