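import Cfsg.Statements.S0639
import Cfsg.Agent.Lib.BG.Meta

set_option autoImplicit false
open Cfsg

namespace Cfsg.Agent.S0639

/-- Huppert's criterion: for p greater than 3, a p-group whose elements of order dividing p generate a subgroup of order at most p² is metacyclic. -/
theorem result {R : Type*} [Group R] [Finite R] {p : ℕ} [Fact p.Prime] (hp : 3 < p) (hR : IsPGroup p R) (hO : Nat.card ↥(Cfsg.omegaOne p (⊤ : Subgroup R)) ≤ p ^ 2) : Cfsg.IsMetacyclic R := by
  open Pointwise commutatorElement Subgroup in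
  open Cfsg.Agent.BG Cfsg.Agent.Comp in
  obtain ⟨a, b, c, d⟩ := huppert hp (hR.to_subgroup ⊤) hO
  haveI : (Subgroup.zpowers a).Normal := normal_iff_top_le_normalizer.2
    (d.ge.trans (sup_le Subgroup.le_normalizer (Subgroup.zpowers_le_of_mem c)))
  refine ⟨Subgroup.zpowers a, this, inferInstance, Cfsg.Agent.Solv.isCyclic_top_iff.1 ?_⟩
  rw [← Cfsg.Agent.Solv.map_top_mk, ← d, Subgroup.map_sup, (Cfsg.Agent.Solv.map_mk_eq_bot_iff _).2 le_rfl, bot_sup_eq]
  exact isCyclic_map _ inferInstance

end Cfsg.Agent.S0639
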