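import Cfsg.Statements.S0640
import Cfsg.Agent.Lib.BG.Extra
import Cfsg.Agent.Lib.Transfer.Hol

set_option autoImplicit false
open Cfsg

namespace Cfsg.Agent.S0640

/-- For odd p, a prime q ≠ p dividing the order of the automorphism group of a p-group of rank at most 2 divides p² - 1 and is less than p. -/
theorem result {R : Type*} [Group R] [Finite R] {p : ℕ} [Fact p.Prime] (hp : p ≠ 2) (hR : IsPGroup p R) (hrk : Cfsg.PRankLE p 2 R) (q : ℕ) (hq : q.Prime) (hqp : q ≠ p) (hdvd : q ∣ Nat.card (MulAut R)) : q ∣ p ^ 2 - 1 ∧ q < p := by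
  open Pointwise commutatorElement Subgroup in
  open Cfsg.Agent.BG Cfsg.Agent.Comp Cfsg.Agent.Transfer in
  haveI := Fact.mk hq
  obtain ⟨a, ha⟩ := exists_prime_orderOf_dvd_card' q hdvd
  have h : q ∣ p ^ 2 - 1 := (narrow_of_prank_le (R := (⊤ : Subgroup R).map hl) (by
      rw [prank_map_of_disjoint _ (by rw [(MonoidHom.ker_eq_bot_iff _).2 hl_injective, inf_bot_eq])]
      exact prank_top_le_iff.2 hrk)).dvd_of_not_le_Ct hp ((hR.to_subgroup ⊤).map _)
    (isPGroup_zpowers_of_orderOf_eq ((orderOf_injective hr hr_injective a).trans ha))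
    (zpowers_le_of_mem (hr_mem_normalizer_char a ⊤)) hqp fun e =>
      ne_one_of_orderOf_eq ha (hr_eq_one_of_mem_centralizer (e (mem_zpowers _)))
  exact ⟨h, lt_of_dvd_sq_sub_one hq hp h⟩

end Cfsg.Agent.S0640
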