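import Cfsg.Statements.S0642
import Cfsg.Agent.Lib.BG.Reg

set_option autoImplicit false
open Cfsg

namespace Cfsg.Agent.S0642

/-- Among finite 2-groups the regular ones are exactly the abelian ones. -/
theorem result {G : Type*} [Group G] [Finite G] (hG : IsPGroup 2 G) : Cfsg.IsRegularPGroup 2 G ↔ ∀ a b : G, a * b = b * a := by
  open Pointwise commutatorElement Subgroup in
  open Cfsg.Agent.Reg in
  haveI : Fact (Nat.Prime 2) := ⟨Nat.prime_two⟩
  refine ⟨fun h a b => ?_, fun h => ⟨hG, fun a b n => ⟨1, one_mem _, by
    rw [mul_one, Commute.mul_pow (h a b)]⟩⟩⟩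
  let K := cl2 a b
  have hK : W 2 K := (W_of_reg h).of_inj K.subtype_injective
  let N := powerClosure 2 1 (_root_.commutator K)
  have hQ := hK.of_surj (QuotientGroup.mk'_surjective N)
  have h1 : _root_.commutator K ≤ N := by
    rw [_root_.commutator_def, commutator_le]
    intro x _ y _
    have := hQ.mul_pow 1 (a := QuotientGroup.mk' N x) (b := QuotientGroup.mk' N y) (by
      rw [← map_commutatorElement, ← map_pow]
      exact (QuotientGroup.eq_one_iff _).2 (pow_mem_pc (commutator_mem_commutator (mem_top _) (mem_top _))))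
    rw [← QuotientGroup.eq_one_iff]
    change QuotientGroup.mk' N _ = 1
    rw [map_commutatorElement, commutatorElement_eq_one_iff_mul_comm]
    simp only [pow_one, pow_two, mul_assoc, mul_right_inj] at this
    simp only [← mul_assoc, mul_left_inj] at this
    exact this.symm
  have h2 : (⊥ : Subgroup K) = _root_.commutator K := Solv.eq_of_sup_map_frattini bot_le (by
    rw [bot_sup_eq]
    exact h1.trans (pc_le.2 fun x hx => by
      rw [pow_one]; exact Solv.pow_mem_map_frattini (hK.1.to_subgroup _) hx))
  have h3 : ⁅(⟨a, left_mem a b⟩ : K), (⟨b, right_mem a b⟩ : K)⁆ = 1 :=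
    mem_bot.1 (h2.ge (commutator_mem_commutator (mem_top _) (mem_top _)))
  exact congrArg Subtype.val (commutatorElement_eq_one_iff_mul_comm.1 h3)

end Cfsg.Agent.S0642
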