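import Cfsg.Statements.S0644
import Cfsg.Agent.Lib.BG.Reg

set_option autoImplicit false
open Cfsg

namespace Cfsg.Agent.S0644

/-- In a regular p-group the p^n-th powers of the elements of any subgroup H form a subgroup, whose derived subgroup is contained in the subgroup generated by the p^n-th powers of elements of the derived subgroup of H. -/
theorem result {G : Type*} [Group G] [Finite G] {p : ℕ} [Fact p.Prime] (hG : Cfsg.IsRegularPGroup p G) (H : Subgroup G) (n : ℕ) : {y : G | ∃ x ∈ H, y = x ^ (p ^ n)} = (Cfsg.powerClosure p n H : Set G) ∧ ⁅Cfsg.powerClosure p n H, Cfsg.powerClosure p n H⁆ ≤ Cfsg.powerClosure p n ⁅H, H⁆ := by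
  open Pointwise commutatorElement Subgroup in
  open Cfsg.Agent.Reg in
  have h := W_of_reg hG
  refine ⟨Set.Subset.antisymm subset_closure fun c hc => h.B n hc, commutator_le.2 fun x hx y hy => ?_⟩
  obtain ⟨x, hx', rfl⟩ := h.B n hx
  have hy' := pc_le_self _ _ hy
  have hK : W p H := h.of_inj H.subtype_injective
  let N := powerClosure p n (_root_.commutator H)
  have h1 := ((hK.of_surj (QuotientGroup.mk'_surjective N)).comm_iff n (QuotientGroup.mk' N ⟨x, hx'⟩)
    (QuotientGroup.mk' N ⟨y, hy'⟩)).2 (by
      rw [← map_commutatorElement, ← map_pow]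
      exact (QuotientGroup.eq_one_iff _).2 (pow_mem_pc (commutator_mem_commutator (mem_top _) (mem_top _))))
  rw [← commutatorElement_eq_one_iff_commute, ← map_pow, ← map_commutatorElement, QuotientGroup.mk'_apply,
    QuotientGroup.eq_one_iff] at h1
  rw [← map_subtype_commutator, ← map_pc]
  exact ⟨_, h1, rfl⟩

end Cfsg.Agent.S0644
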