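import Cfsg.Statements.S0645
import Cfsg.Agent.Lib.Solv.PGrp

set_option autoImplicit false
open Cfsg

namespace Cfsg.Agent.S0645

/-- Classification of p-groups with a cyclic maximal subgroup, odd p: a non-abelian one of order p^n has generators a of order p^(n-1) and b of order p, b outside the cyclic subgroup generated by a, with b a b⁻¹ = a^(1 + p^(n-2)). -/
theorem result {G : Type*} [Group G] [Finite G] {p : ℕ} [Fact p.Prime] (hp : p ≠ 2) (n : ℕ) (hn : 3 ≤ n) (hG : Nat.card G = p ^ n) (C : Subgroup G) (hC : IsCyclic C) (hCi : C.index = p) (hna : ∃ x y : G, x * y ≠ y * x) : ∃ a b : G, orderOf a = p ^ (n - 1) ∧ orderOf b = p ∧ b ∉ Subgroup.zpowers a ∧ b * a * b⁻¹ = a ^ (1 + p ^ (n - 2)) := by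
  open Pointwise commutatorElement Subgroup Cfsg.Agent.Solv in
  have hG' : IsPGroup p G := IsPGroup.of_card hG
  have hp' : p.Prime := Fact.out
  obtain ⟨x, y, hxy⟩ := hna
  obtain ⟨a, b, m, rfl, ha, -, hba, h1, h2, hs⟩ := exists_gens_of_cyclic_index_odd hp (B := ⊤)
    (hG'.to_subgroup ⊤) le_top hC (by rwa [relIndex_top_right]) fun h =>
      hxy (isMulCommutative_iff.1 (inferInstance : IsMulCommutative (⊤ : Subgroup G)) x trivial y trivial)
  have hn' : n = m + 2 := by
    have := (zpowers a).card_mul_index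
    rw [hCi, Nat.card_zpowers, ha, hG, ← pow_succ] at this
    exact (Nat.pow_right_injective hp'.two_le this).symm
  subst hn'
  have hc : ¬ Commute b a := fun h =>
    hxy (Solv.isMulCommutative_iff.1 (hs ▸ isMulCommutative_zpowers_sup h.symm) x (mem_top x) y (mem_top y))
  obtain ⟨h3, h4⟩ := modular_of_odd hp' hp ha h1 (by rw [h2]; exact Commute.one_left a)
  set c := b * a * b⁻¹ * a⁻¹ with hc'
  have hc1 : c ≠ 1 := fun h => hc (by
    rw [hc', mul_inv_eq_one, mul_inv_eq_iff_eq_mul] at h; exact h)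
  have hz : orderOf (a ^ p ^ m) = p := by
    rw [orderOf_pow_of_dvd (pow_ne_zero _ hp'.ne_zero) (ha ▸ pow_dvd_pow p m.le_succ), ha, pow_succ',
      Nat.mul_div_cancel _ (pow_pos hp'.pos m)]
  have h5 := eq_of_card_prime_of_mem hp' (by rw [Nat.card_zpowers, hz]) h4 hc1
  obtain ⟨j, hj⟩ := mem_powers_iff_mem_zpowers.2 (h5 ▸ mem_zpowers (a ^ p ^ m))
  simp only at hj
  have hbc : Commute b c := Commute.of_mem_zpowers h3 (mem_zpowers b) h4
  have hac : Commute a c := Commute.of_mem_zpowers (Commute.self_pow a _) (mem_zpowers a) h4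
  have h6 := pow_mul_of_comm (x := a) hbc (by rw [(hac.mul_left hbc).eq, hc']; group) j
  have h7 : b ^ j * a * (b ^ j)⁻¹ = a ^ (1 + p ^ m) := by
    rw [h6, hj, mul_assoc a, (h3.pow_left j).eq, pow_add, pow_one]; group
  have h8 : b ^ j ∉ zpowers a := fun h => by
    rw [(commute_of_mem_zpowers h).eq, mul_inv_cancel_right, pow_add, pow_one, left_eq_mul] at h7
    rw [h7, orderOf_one] at hz
    exact hp'.one_lt.ne hz
  exact ⟨a, b ^ j, ha, orderOf_eq_prime (by rw [← pow_mul, mul_comm, pow_mul, h2, one_pow])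
    fun h => h8 (h ▸ one_mem _), h8, h7⟩

end Cfsg.Agent.S0645
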