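import Cfsg.Statements.S0647
import Cfsg.Agent.Lib.Transfer.Thom

set_option autoImplicit false
open Cfsg

namespace Cfsg.Agent.S0647

set_option linter.unusedSectionVars false
set_option linter.unusedVariables false
set_option linter.style.haveILetI false
set_option linter.unusedSimpArgs false

open Subgroup Cfsg.Agent.Transfer

/-- For a nonempty family of maximal abelian subgroups of a finite group, the intersection of the family is the centre of the subgroup it generates, which is also the full centralizer of that subgroup. -/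
theorem result {S : Type*} [Group S] [Finite S] (𝒜 : Set (Subgroup S)) (hne : 𝒜.Nonempty) (hab : ∀ A ∈ 𝒜, IsMulCommutative A) (hmax : ∀ A ∈ 𝒜, ∀ B : Subgroup S, IsMulCommutative B → A ≤ B → B = A) : sInf 𝒜 = sSup 𝒜 ⊓ Subgroup.centralizer ((sSup 𝒜 : Subgroup S) : Set S) ∧ sInf 𝒜 = Subgroup.centralizer ((sSup 𝒜 : Subgroup S) : Set S) := by
  have h1 : sInf 𝒜 = centralizer ((sSup 𝒜 : Subgroup S) : Set S) := by
    apply le_antisymm
    · rw [le_centralizer_iff]
      exact sSup_le fun A hA => (comm_iff_le_centralizer.1 (hab A hA)).trans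
        (centralizer_le (sInf_le hA : sInf 𝒜 ≤ A))
    · refine le_sInf fun A hA x hx => ?_
      rw [← hmax A hA _ (Solv.isMulCommutative_sup_zpowers (hab A hA)
        (centralizer_le (le_sSup hA : A ≤ sSup 𝒜) hx)) le_sup_left]
      exact mem_sup_right (mem_zpowers x)
  obtain ⟨A, hA⟩ := hne
  exact ⟨le_antisymm (le_inf ((sInf_le hA).trans (le_sSup hA)) h1.le) (inf_le_right.trans h1.ge), h1⟩

end Cfsg.Agent.S0647
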