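import Cfsg.Statements.S0652
import Cfsg.Agent.Lib.Transfer.ZJ

set_option autoImplicit false
open Cfsg

namespace Cfsg.Agent.S0652

set_option linter.unusedSectionVars false
set_option linter.unusedVariables false
set_option linter.style.haveILetI false
set_option linter.unusedSimpArgs false

open Subgroup Cfsg.Agent.Transfer

/-- For odd p and D normal in the p-group S, the elementary abelian subgroups of D of largest order satisfy the replacement property for class-2 normal subgroups of S. -/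
theorem result {S : Type*} [Group S] [Finite S] {p : ℕ} [Fact p.Prime] (hS : IsPGroup p S) (hp : p ≠ 2) (D : Subgroup S) [D.Normal] : ∀ (B : Subgroup S) [B.Normal], ⁅⁅B, B⁆, B⁆ = ⊥ → (∃ U ∈ (Set.image (fun A : Subgroup ↥D => A.map D.subtype) (Cfsg.maxElementaryAbelianSubgroups p ↥D)), ⁅B, B⁆ ≤ U ∧ ¬ B ≤ U) → ∃ A ∈ (Set.image (fun A : Subgroup ↥D => A.map D.subtype) (Cfsg.maxElementaryAbelianSubgroups p ↥D)), ⁅B, B⁆ ≤ A ∧ ¬ B ≤ A ∧ B ≤ Subgroup.normalizer (A : Set S) := by
  rintro B _ - ⟨U, hU, h1, h2⟩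
  obtain ⟨A, hA, h⟩ := MaxE.exists_normalized hp (Or.inl rfl) (hS.to_subgroup ⊤) le_top
    le_normalizer_of_normal le_top le_normalizer_of_normal (Q := fun A => ¬ B ≤ A)
    (fun A A' _ _ h _ h' h'' => h (h''.trans h')) (mem_image_max_iff.1 hU) h1 h2
  exact ⟨A, mem_image_max_iff.2 hA, h⟩

end Cfsg.Agent.S0652
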