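import Cfsg.Statements.S0655
import Cfsg.Agent.Lib.Transfer.Thom

set_option autoImplicit false
open Cfsg

namespace Cfsg.Agent.S0655

set_option linter.unusedSectionVars false
set_option linter.unusedVariables false
set_option linter.style.haveILetI false
set_option linter.unusedSimpArgs false

open Subgroup Cfsg.Agent.Transfer

/-- In a p-group the intersection of all elementary abelian subgroups of largest order is the subgroup generated by the elements of order dividing p in the centre (equivalently the centralizer) of the elementary-version Thompson subgroup. -/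
theorem result {S : Type*} [Group S] [Finite S] {p : ℕ} [Fact p.Prime] (hS : IsPGroup p S) : sInf (Cfsg.maxElementaryAbelianSubgroups p S) = Cfsg.omegaCenterThompson p S ∧ Cfsg.omegaCenterThompson p S = Cfsg.omegaOne p (Subgroup.centralizer (Cfsg.thompsonSubgroup p S : Set S)) := by
  have h1 : omegaOne p (centralizer (thompsonSubgroup p S : Set S)) ≤
      sInf (maxElementaryAbelianSubgroups p S) := le_sInf fun A hA =>
    omegaOne_le_iff.2 fun x h1 h2 => (maxE_top.2 hA).mem_of_J (mem_top x) (by rwa [J_top]) h2
  have h2 : sInf (maxElementaryAbelianSubgroups p S) ≤ omegaCenterThompson p S := by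
    obtain ⟨A, hA⟩ := exists_maxE p (⊤ : Subgroup S)
    have h3 := sInf_le (maxE_top.1 hA)
    refine le_omegaOne_of_elem (elem_mono hA.elem h3) (le_inf (h3.trans (le_sSup (maxE_top.1 hA))) ?_)
    rw [le_centralizer_iff]
    exact sSup_le fun B hB => (comm_iff_le_centralizer.1 hB.1.1).trans
      (centralizer_le (sInf_le hB : _ ≤ B))
  have h3 : omegaCenterThompson p S ≤ omegaOne p (centralizer (thompsonSubgroup p S : Set S)) :=
    omegaOne_mono inf_le_right
  exact ⟨le_antisymm h2 (h3.trans h1), le_antisymm h3 (h1.trans h2)⟩

end Cfsg.Agent.S0655
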