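import Cfsg.Statements.S0656
import Cfsg.Agent.Lib.Fusion.Qd2

set_option autoImplicit false
open Cfsg

namespace Cfsg.Agent.S0656

open Subgroup Transfer

/-- For odd p, a faithful group on an elementary abelian p-group with no nontrivial normal p-subgroup in which some nontrivial p-element acts quadratically has a section isomorphic to SL(2, p). -/
theorem result {G : Type*} [Group G] [Finite G] {p : ℕ} [Fact p.Prime] (hp : p ≠ 2) (V H : Subgroup G) (hV : Cfsg.IsElementaryAbelian p V) (hHV : H ≤ Subgroup.normalizer (V : Set G)) (hf : H ⊓ Subgroup.centralizer (V : Set G) = ⊥) (hO : Cfsg.pCore p ↥H = ⊥) (x : G) (hxH : x ∈ H) (hx1 : x ≠ 1) (hxp : ∃ k : ℕ, orderOf x = p ^ k) (hq : ⁅⁅V, Subgroup.zpowers x⁆, Subgroup.zpowers x⁆ = ⊥) : ∃ (K L : Subgroup G) (hL : (L.subgroupOf K).Normal), K ≤ H ∧ Nonempty ((K ⧸ L.subgroupOf K) ≃* Matrix.SpecialLinearGroup (Fin 2) (ZMod p)) := by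
  by_contra hn
  refine hx1 (congrArg Subtype.val (mem_bot.1 (hO.le (mem_pCore_of_pairs (a := ⟨x, hxH⟩) fun g => ?_))))
  have h1 : closure {x, g.1 * x * g.1⁻¹} ≤ H := (closure_le _).2 (by
    rintro _ (rfl | rfl)
    exacts [hxH, mul_mem (mul_mem g.2 hxH) (inv_mem g.2)])
  have h2 : IsPGroup p (closure {x, g.1 * x * g.1⁻¹} : Subgroup G) := by
    rw [isPGroup_iff_res_eq_bot, eq_bot_iff, ← hf]
    refine le_inf (le_trans (res_le _) h1) (by_contra fun h => hn ?_)
    obtain ⟨K, L, a, b, c⟩ := Qd.sl2_of_quad hp (fun x => ⟨1, Subtype.ext (by simpa using hV.2 _ x.2)⟩) (h1.trans hHV) (subset_closure (by simp))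
      (subset_closure (by simp)) rfl hq (quad_cj (hHV g.2) hq) h
    exact ⟨K, L, a, b.trans h1, c⟩
  refine (h2.comap_of_injective H.subtype H.subtype_injective).to_le ((closure_le _).2 ?_)
  rintro _ (rfl | rfl) <;> exact subset_closure (by simp)

end Cfsg.Agent.S0656
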