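import Cfsg.Statements.S0657
import Cfsg.Agent.Lib.Fusion.PStab

set_option autoImplicit false
open Cfsg

namespace Cfsg.Agent.S0657

open Subgroup Fusion Transfer

/-- For odd p, a group that fails to be p-stable modulo its largest normal subgroup of order prime to p, and whose upper p-series does not stop there, has a section isomorphic to SL(2, p). -/
theorem result {G : Type*} [Group G] [Finite G] {p : ℕ} [Fact p.Prime] (hp : p ≠ 2) (hO : Cfsg.pPrimeCore p G < Cfsg.pPrimePCore p G) (hns : ¬ Cfsg.IsPStable p (G ⧸ Cfsg.pPrimeCore p G)) : ∃ (K L : Subgroup G) (hL : (L.subgroupOf K).Normal), K ≤ ⊤ ∧ Nonempty ((K ⧸ L.subgroupOf K) ≃* Matrix.SpecialLinearGroup (Fin 2) (ZMod p)) := by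
  by_contra h
  have hf : ¬ Involves (qd p) (G ⧸ pPrimeCore p G) := fun hi => by
    obtain ⟨K, R, hR, e⟩ := Involves.of_surjective (Involves.trans Qd.involves_sl2 hi) _
      (QuotientGroup.mk'_surjective _)
    exact h ⟨K, R, hR, le_top, e⟩
  refine hns (pstable_iff.2 ⟨(Fact.out : p.Prime).odd_of_ne_two hp, fun e => hO.ne' ?_,
    fun A P h1 h2 h3 _ _ h6 => ?_⟩)
  · rw [pPrimePCore, e]; exact QuotientGroup.ker_mk' _
  · refine (inOp_iff h3).1 ?_
    rintro _ ⟨a, ha, rfl⟩
    exact Qd.stable_of_free hp hf P h2 a a.2 (quad_mono le_rfl (zpowers_le.2 ha) h6)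

end Cfsg.Agent.S0657
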