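import Cfsg.Statements.S0658
import Cfsg.Agent.Lib.Transfer.Stab

set_option autoImplicit false
open Cfsg

namespace Cfsg.Agent.S0658

set_option linter.unusedSectionVars false
set_option linter.unusedVariables false
set_option linter.style.haveILetI false
set_option linter.unusedSimpArgs false

open Subgroup Transfer MS

/-- In a group of characteristic p type all of whose p-locals are p-stable (p odd), the normalizer of Z(J(P)) contains the normalizer of every nontrivial subgroup of the Sylow p-subgroup P. -/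
theorem result {G : Type*} [Group G] [Finite G] {p : ℕ} [Fact p.Prime] (hp : p ≠ 2) (hloc : ∀ Q : Subgroup G, IsPGroup p Q → Q ≠ ⊥ → Cfsg.pPrimeCore p ↥(Subgroup.normalizer (Q : Set G)) = ⊥ ∧ Cfsg.IsPConstrained p ↥(Subgroup.normalizer (Q : Set G)) ∧ Cfsg.IsPStable p ↥(Subgroup.normalizer (Q : Set G))) (P : Sylow p G) (Q : Subgroup G) (hQP : Q ≤ (P : Subgroup G)) (hQ1 : Q ≠ ⊥) : Subgroup.normalizer (Q : Set G) ≤ Subgroup.normalizer (Cfsg.centerThompsonAOf ((P : Subgroup G)) : Set G) := by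
  rw [ZJA_eq]
  set M := NN (centerThompsonOf 0 (P : Subgroup G))
  have hPM : IsSyl p (P : Subgroup G) M := (isSyl_top P).mono ((le_nn _).trans (normalizer_le_normalizer_ZJ _)) le_top
  have key : ∀ n, ∀ R Q : Subgroup G, #G - #R = n → R ≤ P → Q ≤ R → Q ≠ ⊥ → R ≤ NN Q → NN Q ≤ M := by
    intro n
    induction n using Nat.strong_induction_on with
    | _ n ih =>
    intro R Q hn hR hQ h0 hN
    have ih' : ∀ R' Q' : Subgroup G, #R < #R' → R' ≤ P → Q' ≤ R' → Q' ≠ ⊥ → R' ≤ NN Q' → NN Q' ≤ M :=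
      fun R' Q' h => ih _ (by have := card_le_card_group R'; omega) R' Q' rfl
    have hRp := P.2.to_le hR
    obtain ⟨T, hT, hRT⟩ := exists_isSyl_ge hRp (le_inf hN (hR.trans hPM.le))
    rcases hRT.eq_or_lt with rfl | hlt
    · have ih2 : ∀ X ≤ R, X ≠ ⊥ → NN R ≤ NN X → R = P ∨ NN X ≤ M := fun X h1 h2 h3 =>
        hR.eq_or_lt.imp_right fun h => ih' _ X (card_lt_of_lt (lt_inf_normalizer P.2 h)) inf_le_left
          (h1.trans (lt_inf_normalizer P.2 h).le) h2 (inf_le_right.trans h3)
      have hR0 : R ≠ ⊥ := fun e => h0 (eq_bot_iff.2 (e ▸ hQ))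
      have h1 : IsSyl p R (NN Q) := by
        rcases ih2 R le_rfl hR0 le_rfl with e | h
        · exact (e ▸ isSyl_top P).mono hN le_top
        · exact syl_of_nn hN (hT.mono (le_inf hN (le_nn R)) (inf_le_inf_left _ h))
      obtain ⟨a1, a2, a3⟩ := hloc Q (hRp.to_le hQ) h0
      obtain ⟨S, hS⟩ := h1.exists_sylow_map
      have h2 := ZJ_normal_of_pstable hp (Or.inr rfl) (charP_of_constrained a2 a1) a3 S
      have h3 := (normal_subgroupOf_iff_le_normalizer (map_subtype_le (centerThompsonOf 0 (S : Subgroup (NN Q))))).1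
        (by rwa [subgroupOf, comap_map_eq_self_of_injective (subtype_injective _)])
      rw [map_ZJ (inf_ker_eq_bot_of_injective (subtype_injective _) _), hS] at h3
      rcases ih2 _ (ZJ_le R) (ZJ_ne_bot (Or.inr rfl) hRp hR0) (normalizer_le_normalizer_ZJ R) with e | h
      · rw [e] at h3; exact h3
      · exact h3.trans h
    · obtain ⟨m, hm, h1⟩ := hPM.exists_cj_le hT.pgroup (hT.le.trans inf_le_right)
      have := ih' (cj m T) (cj m Q) (by rw [card_cj]; exact card_lt_of_lt hlt) h1 (cj_mono m (hQ.trans hRT))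
        (by rwa [Ne, cj_eq_bot_iff]) (nn_cj (hT.le.trans inf_le_left) m)
      rwa [← cj_normalizer, ← cj_eq_of_mem hm, cj_le_cj_iff] at this
  exact key _ Q Q rfl hQP le_rfl hQ1 (le_nn Q)

end Cfsg.Agent.S0658
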