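import Cfsg.Statements.S0661
import Cfsg.Agent.Lib.BG.Pgp

set_option autoImplicit false
open Cfsg

namespace Cfsg.Agent.S0661

/-- If, modulo the largest normal subgroup of order prime to p, the largest normal p-subgroup contains its centralizer, then for every p-subgroup P the p'-core of N_G(P) is just O_p'(G) ∩ N_G(P). -/
theorem result {G : Type*} [Group G] [Finite G] {p : ℕ} [Fact p.Prime] (hc : Subgroup.centralizer (Cfsg.pCore p (G ⧸ Cfsg.pPrimeCore p G) : Set (G ⧸ Cfsg.pPrimeCore p G)) ≤ Cfsg.pCore p (G ⧸ Cfsg.pPrimeCore p G)) (P : Subgroup G) (hP : IsPGroup p P) : (Cfsg.pPrimeCore p ↥(Subgroup.normalizer (P : Set G))).map (Subgroup.normalizer (P : Set G)).subtype = Cfsg.pPrimeCore p G ⊓ Subgroup.normalizer (P : Set G) := by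
  open Pointwise commutatorElement Subgroup in
  open Cfsg.Agent.BG Cfsg.Agent.Comp in
  have h0 : PLay p (⊤ : Subgroup G) = ⊥ := by
    refine PLay_eq_bot_of_charP_map (QuotientGroup.mk' (Cfsg.pPrimeCore p G)) ?_ ?_
    · rw [top_inf_ker_mk_pPrimeCore]; exact coprime_Opp p _
    · rw [Subgroup.map_top_of_surjective _ (QuotientGroup.mk'_surjective _)]
      unfold Cfsg.Agent.Comp.CharP
      rw [Op_top]; simpa using hc
  rw [map_pPrimeCore, ← Opp_top]
  refine le_antisymm (le_inf ?_ (Opp_le p _)) ?_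
  · exact (local_of_PLay_eq_bot h0 hP le_normalizer (inf_le_right.trans (Ct_le_Nm P)) le_top le_rfl).2
  · have := Opi_inf_le (π := {p}ᶜ) (le_top (a := Subgroup.normalizer (P : Set G)))
    simpa [Opi_compl_singleton] using this

end Cfsg.Agent.S0661
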