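import Cfsg.Statements.S0662
import Cfsg.Agent.Lib.Solv.MaxCl

set_option autoImplicit false
open Cfsg

namespace Cfsg.Agent.S0662

/-- In a p-group of maximal class of order at least p³ the normal subgroups of index at least p² are exactly the terms of the lower central series, and there are exactly p + 1 normal subgroups of index p. -/
theorem result {G : Type*} [Group G] [Finite G] {p : ℕ} [Fact p.Prime] (n : ℕ) (hG : Nat.card G = p ^ n) (hcl : Group.nilpotencyClass G = n - 1) (hn : 3 ≤ n) : (∀ (N : Subgroup G) [N.Normal] (r : ℕ), 2 ≤ r → N.index = p ^ r → N = (⊤ : Subgroup G).lowerCentralSeries (r - 1)) ∧ Nat.card {N : Subgroup G // N.Normal ∧ N.index = p} = p + 1 := by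
  open Pointwise commutatorElement Subgroup Cfsg.Agent.Solv in
  open Cfsg.Agent.Transfer in
  have hp : p.Prime := Fact.out
  refine ⟨fun N _ r hr h => eq_lcs_of_maxClass hG hcl N hr h, ?_⟩
  have hG' := IsPGroup.of_card hG
  have h1 : Nat.card (G ⧸ _root_.commutator G) = p ^ 2 := index_commutator_of_maxClass hG hcl hn
  have h2 : ¬ IsCyclic (G ⧸ _root_.commutator G) := fun h => not_comm_of_maxClass hG hcl hn
    (isCyclic_of_quotient_le_frattini (commutator_le_frattini_of_isPGroup hG') h).isMulCommutative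
  have h3 := (not_isCyclic_iff_exponent_eq_prime hp h1).1 h2
  have h4 := card_cyclic_mul (G := G ⧸ _root_.commutator G) p
  have h5 := cnt_erase (p := fun _ : G ⧸ _root_.commutator G => True) (a := 1) trivial
  haveI : Nontrivial (G ⧸ _root_.commutator G) := Finite.one_lt_card_iff_nontrivial.1
    (h1 ▸ Nat.one_lt_pow two_ne_zero hp.one_lt)
  rw [cnt_true, h1, cnt_congr (q := fun u => orderOf u = p) (fun u => ⟨fun h => (Monoid.exponent_eq_prime_iff hp).1 h3 u h.2,
    fun h => ⟨trivial, fun h6 => hp.ne_one (by rw [← h, h6, orderOf_one])⟩⟩), ← h4, Nat.totient_prime hp] at h5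
  have h6 : ∀ K : Subgroup (G ⧸ _root_.commutator G), Nat.card K = p ↔ K.index = p := fun K => by
    have := K.card_mul_index
    rw [h1, pow_two] at this
    exact ⟨fun h => Nat.eq_of_mul_eq_mul_left hp.pos (h ▸ this), fun h => Nat.eq_of_mul_eq_mul_right hp.pos (h ▸ this)⟩
  rw [cnt_eq_of_bij (q := fun N : Subgroup G => N.Normal ∧ N.index = p) (fun K => K.comap (QuotientGroup.mk' _))
    (fun K hK => ⟨Normal.of_commutator_le G (le_comap_mk _ K), by rw [index_comap_mk, (h6 K).1 hK.1]⟩)
    (fun _ _ _ _ h => comap_injective (QuotientGroup.mk'_surjective _) h) fun N hN => ?_] at h5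
  · obtain ⟨q, rfl⟩ := Nat.exists_eq_add_of_le' hp.pos
    refine Nat.eq_of_mul_eq_mul_right (m := q) (Nat.pos_of_ne_zero fun h => hp.ne_one (by rw [h])) ?_
    rw [Nat.add_sub_cancel] at h5
    nlinarith
  · haveI := hN.1
    have h7 := commutator_le_of_index_prime (hN.2 ▸ hp)
    have h8 := (h6 (N.map (QuotientGroup.mk' _))).2 (by rw [index_map_mk, sup_eq_left.2 h7, hN.2])
    exact ⟨N.map (QuotientGroup.mk' _), ⟨h8, isCyclic_of_prime_card h8⟩, by rw [comap_map_mk, sup_eq_left.2 h7]⟩

end Cfsg.Agent.S0662
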