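import Cfsg.Statements.S0663
import Cfsg.Agent.Lib.BG.Unis

set_option autoImplicit false
open Cfsg

namespace Cfsg.Agent.S0663

/-- A p-group acts uniserially on a p-group N of order p^n exactly when the iterated commutator chain from N has length n; in that case the chain terms are all the invariant subgroups of N and they are normal in N. -/
theorem result {L : Type*} [Group L] [Finite L] {p : ℕ} [Fact p.Prime] (N G : Subgroup L) (hN : IsPGroup p N) (hG : IsPGroup p G) (hGN : G ≤ Subgroup.normalizer (N : Set L)) (n : ℕ) (hn : Nat.card N = p ^ n) : ((∀ H : Subgroup L, H ≤ N → G ≤ Subgroup.normalizer (H : Set L) → H ≠ ⊥ → (⁅H, G⁆).relIndex H = p) ↔ Cfsg.iterCommutator N G (n - 1) ≠ ⊥ ∨ n = 0) ∧ ((∀ H : Subgroup L, H ≤ N → G ≤ Subgroup.normalizer (H : Set L) → H ≠ ⊥ → (⁅H, G⁆).relIndex H = p) → ∀ H : Subgroup L, H ≤ N → G ≤ Subgroup.normalizer (H : Set L) → (∃ i ≤ n, H = Cfsg.iterCommutator N G i) ∧ N ≤ Subgroup.normalizer (H : Set L)) := by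
  open Pointwise commutatorElement Subgroup in
  open Cfsg.Agent.Comp Cfsg.Agent.BG Cfsg.Agent.Unis Subgroup commutatorElement in
  have hp : p.Prime := Fact.out
  have a : (∀ H : Subgroup L, H ≤ N → G ≤ Nm(H) → H ≠ ⊥ → (⁅H, G⁆).relIndex H = p) → iterCommutator N G (n - 1) ≠ ⊥ ∨ n = 0 := by
    intro h
    have b : ∀ i ≤ n, iterCommutator N G i ≤ N ∧ G ≤ Nm(iterCommutator N G i) ∧ Nat.card (iterCommutator N G i) = p ^ (n - i) := by
      intro i
      induction i with
      | zero => exact fun _ => ⟨le_rfl, hGN, hn⟩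
      | succ i ih =>
        intro hi
        obtain ⟨b1, b2, b3⟩ := ih (by omega)
        have c := Solv.commutator_le_left_of_le_normalizer b2
        refine ⟨c.trans b1, le_Nm _ _, Nat.eq_of_mul_eq_mul_right hp.pos ?_⟩
        have d := Solv.card_mul_relIndex c
        rw [h _ b1 b2 fun e => by
          rw [e, card_bot] at b3
          exact (Nat.one_lt_pow (by omega) hp.one_lt).ne b3] at d
        rw [← pow_succ, show n - (i + 1) + 1 = n - i by omega, ← b3, ← d]
        rfl
    refine or_iff_not_imp_right.2 fun e t => ?_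
    have := (b (n - 1) (by omega)).2.2
    rw [t, card_bot] at this
    exact (Nat.one_lt_pow (by omega) hp.one_lt).ne this
  refine ⟨⟨a, fun h H h1 h2 => ?_⟩, fun h H h1 h2 => ?_⟩
  · obtain ⟨i, -, -, -, e⟩ := eq_iter hG h2 n N hGN hn h h1
    exact e
  obtain ⟨i, i1, i2, i3, -⟩ := eq_iter hG h2 n N hGN hn (a h) h1
  refine ⟨⟨i, i1, i2⟩, ?_⟩
  obtain ⟨K, k1, k2, k3⟩ := Solv.exists_normal_card (L := G ⊔ N) (IsPGroup.to_sup_of_normal_right' hG hN hGN).isNilpotent hN
    le_sup_right (sup_le hGN le_normalizer) (n - i) (hn ▸ Nat.pow_le_pow_right hp.pos (Nat.sub_le _ _))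
  obtain ⟨j, j1, j2, j3, -⟩ := eq_iter hG (le_sup_left.trans k3) n N hGN hn (a h) k1
  obtain rfl : i = j := by
    have := Nat.pow_right_injective hp.two_le (k2.symm.trans j3)
    omega
  rw [i2, ← j2]
  exact le_sup_right.trans k3

end Cfsg.Agent.S0663
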