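import Cfsg.Statements.S0666
import Cfsg.Agent.Lib.Solv.Frob3

set_option autoImplicit false
open Cfsg

namespace Cfsg.Agent.S0666

/-- A Frobenius group acting on a nontrivial abelian group of order prime to that of its kernel, with the kernel acting without nontrivial fixed points, has a complement with a nontrivial fixed point. -/
theorem result {G : Type*} [Group G] [Finite G] (V F : Subgroup G) (hVab : IsMulCommutative V) (hV1 : V ≠ ⊥) (hFV : F ≤ Subgroup.normalizer (V : Set G)) (H : Subgroup ↥F) (hH : Cfsg.IsFrobeniusComplement H) (hcop : (Nat.card V).Coprime (Nat.card (Cfsg.frobeniusKernel H))) (hCK : V ⊓ Subgroup.centralizer (Subtype.val '' Cfsg.frobeniusKernel H : Set G) = ⊥) : V ⊓ Subgroup.centralizer ((H.map F.subtype : Subgroup G) : Set G) ≠ ⊥ := by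
  open Pointwise commutatorElement Subgroup Cfsg.Agent.Solv in
  obtain ⟨K, h1, _, hc, -, hf⟩ := exists_frobenius_kernel hH
  intro h
  apply hV1
  rw [← h1] at hcop hCK
  rw [← hCK, eq_comm, inf_eq_left]
  refine frobenius_abelian_le_centralizer (K := K.map F.subtype) (H := H.map F.subtype) ?_ ?_ hVab
    ((map_subtype_le _).trans hFV) ((map_subtype_le _).trans hFV)
    (by rw [card_map_of_injective F.subtype_injective]; exact hcop.symm) h
  · exact (map_subtype_le _).trans (by
      rw [← normal_subgroupOf_iff_le_normalizer (map_subtype_le _), ← comap_subtype,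
        comap_map_eq_self_of_injective F.subtype_injective]; infer_instance)
  · rintro _ ⟨x, hx, rfl⟩ hx1
    rw [fpf_iff]
    rintro _ ⟨k, hk, rfl⟩ hxk
    exact congrArg Subtype.val (eq_one_of_fpf (hf x hx fun e => hx1 (by simp [e])) hk (Subtype.ext hxk))

end Cfsg.Agent.S0666
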