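import Cfsg.Statements.S0667
import Cfsg.Agent.Lib.Transfer.Stab

set_option autoImplicit false
open Cfsg

namespace Cfsg.Agent.S0667

set_option linter.unusedSectionVars false
set_option linter.unusedVariables false
set_option linter.style.haveILetI false
set_option linter.unusedSimpArgs false

open Subgroup Transfer MS

/-- Glauberman's Theorem in the p-constrained, p-stable vocabulary: for odd p such a group is the product of its largest normal subgroup of order prime to p with the normalizer of Z(J(P)), and Z(J(P)) is normal when that p'-subgroup is trivial. -/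
theorem result {G : Type*} [Group G] [Finite G] {p : ℕ} [Fact p.Prime] (hp : p ≠ 2) (hc : Cfsg.IsPConstrained p G) (hs : Cfsg.IsPStable p G) (P : Sylow p G) : Cfsg.pPrimeCore p G ⊔ Subgroup.normalizer (Cfsg.centerThompsonAOf ((P : Subgroup G)) : Set G) = ⊤ ∧ (Cfsg.pPrimeCore p G = ⊥ → (Cfsg.centerThompsonAOf ((P : Subgroup G))).Normal) := by
  rw [ZJA_eq]
  refine ⟨sup_normalizer_eq_top coprime_pPrimeCore (P.2.to_le (ZJ_le _)) ?_,
    fun h => ZJ_normal_of_pstable hp (Or.inr rfl) (charP_of_constrained hc h) hs P⟩
  rw [map_ZJ (inf_ker_mk_eq_bot coprime_pPrimeCore P.2)]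
  exact ZJ_normal_of_pstable hp (Or.inr rfl) (charP_quot_of_constrained hc) ((pstable_quot_iff hs.2.1).1 hs)
    (P.mapSurjective (QuotientGroup.mk'_surjective _))

end Cfsg.Agent.S0667
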