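import Cfsg.Statements.S0668
import Mathlib
import Cfsg.Agent.Lib.Perm.Mod1

set_option autoImplicit false
open Cfsg

namespace Cfsg.Agent.S0668

open MulAction

/-- The equivariant linear maps between the permutation modules of two finite `G`-sets form a space whose dimension is the number of `G`-orbits on the product of the two sets. -/
theorem result {G : Type*} [Group G] {K : Type*} [Field K] {Ω₁ Ω₂ : Type*} [Fintype Ω₁] [Fintype Ω₂] [MulAction G Ω₁] [MulAction G Ω₂] : Module.finrank K ((Cfsg.permRep K G Ω₁).linHom (Cfsg.permRep K G Ω₂)).invariants = Nat.card (MulAction.orbitRel.Quotient G (Ω₁ × Ω₂)) := by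
  classical
  let Φ : (orbitRel.Quotient G (Ω₁ × Ω₂) → K) →ₗ[K] ((Ω₁ → K) →ₗ[K] (Ω₂ → K)) :=
    (Matrix.toLin' (R := K)).toLinearMap ∘ₗ
      { toFun := fun c => Matrix.of fun y x => c (Quotient.mk'' (x, y))
        map_add' := fun _ _ => rfl
        map_smul' := fun _ _ => rfl }
  have hΦ : ∀ c f y, Φ c f y = ∑ x, c (Quotient.mk'' (x, y)) * f x := fun c f y => by
    simp [Φ, Matrix.mulVec, dotProduct]; rfl
  have h1 : Function.Injective Φ := (injective_iff_map_eq_zero _).2 fun c h => funext fun q => by
    induction q using Quotient.inductionOn' with | h q => ?_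
    simpa [h, Pi.single_apply, eq_comm] using hΦ c (Pi.single q.1 1) q.2
  have h2 : LinearMap.range Φ = ((permRep K G Ω₁).linHom (permRep K G Ω₂)).invariants := by
    ext S
    refine Iff.trans ⟨?_, ?_⟩ (Representation.mem_linHom_invariants_iff_isIntertwining S).symm
    · rintro ⟨c, rfl⟩
      refine ⟨fun g v => funext fun y => ?_⟩
      change Φ c (fun x => v (g⁻¹ • x)) y = Φ c v (g⁻¹ • y)
      rw [hΦ, hΦ, ← Perm.Md.sum_smul_eq g⁻¹ fun x => c (Quotient.mk'' (x, g⁻¹ • y)) * v x]
      refine Finset.sum_congr rfl fun x _ => ?_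
      congr 2
      exact Quotient.sound' ⟨g, by simp⟩
    · intro h
      refine ⟨Quotient.lift (fun q => S (Pi.single q.1 1) q.2) ?_, LinearMap.ext fun v => funext fun y => ?_⟩
      · rintro _ ⟨x, y⟩ ⟨g, rfl⟩
        have := congrFun (h.1 g (Pi.single x 1)) (g • y)
        change S (fun z => (Pi.single x 1 : Ω₁ → K) (g⁻¹ • z)) _ = S _ (g⁻¹ • g • y) at this
        rw [inv_smul_smul] at this
        rw [← this]
        refine congrFun (congrArg S (funext fun z => ?_)) _
        simp [Pi.single_apply, inv_smul_eq_iff]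
      · rw [hΦ]
        conv_rhs => rw [← Finset.univ_sum_single v, map_sum, Finset.sum_apply]
        refine Finset.sum_congr rfl fun x _ => ?_
        rw [show Pi.single x (v x) = v x • (Pi.single x 1 : Ω₁ → K) by simp [← Pi.single_smul], map_smul, mul_comm]
        rfl
  have := Fintype.ofFinite (orbitRel.Quotient G (Ω₁ × Ω₂))
  rw [← h2, LinearMap.finrank_range_of_inj h1, Module.finrank_fintype_fun_eq_card, Nat.card_eq_fintype_card]

end Cfsg.Agent.S0668
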