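import Cfsg.Statements.S0677
import Mathlib
import Cfsg.Agent.Lib.Perm.Mod3

set_option autoImplicit false
open Cfsg

namespace Cfsg.Agent.S0677

open MulAction Subgroup Cfsg.Agent.Perm Cfsg.Agent.Perm.Md

theorem aux2 : ∀ c d : ZMod 2, c * 0 + d ≠ c * 1 + d → c = 1 := by decide

/-- In a transitive permutation group of prime degree `p` whose Sylow `p`-normaliser has even order, the point stabilisers are the only subgroups of index `p`. -/
theorem result {α : Type*} [Fintype α] [DecidableEq α] {p : ℕ} [Fact p.Prime] (hα : Fintype.card α = p) (G : Subgroup (Equiv.Perm α)) [MulAction.IsPretransitive G α] (P : Sylow p G) (heven : Even (Nat.card (Subgroup.normalizer ((P : Subgroup G) : Set G)))) (H : Subgroup G) (hH : H.index = p) : ∃ a : α, H = MulAction.stabilizer G a := by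
  classical
  have hp : p.Prime := Fact.out
  have hα' := Nat.card_eq_fintype_card.trans hα
  obtain ⟨e, τ, hP, hτ⟩ := coord_syl hα' P
  suffices ∃ a : α, H ≤ stabilizer G a by
    obtain ⟨a, ha⟩ := this
    refine ⟨a, eq_of_le_of_card_ge ha (Nat.eq_of_mul_eq_mul_left hp.pos ?_).le⟩
    conv_rhs => rw [← hH, index_mul_card, card_eq_mul_stab a, hα']
  have h1 : ¬ p ∣ Nat.card H := fun h => P.not_dvd_index (by
    have := (P : Subgroup G).card_mul_index.trans H.index_mul_card.symm
    rw [card_syl hα', hH] at this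
    exact Nat.eq_of_mul_eq_mul_left hp.pos this ▸ h)
  have h2 : ∀ g ∈ H, ∀ b, (∀ x, e (g • x) = e x + b) → b = 0 := fun g hg b h => by
    by_contra hb
    have h3 : ∀ (n : ℕ) x, e (g ^ n • x) = e x + n * b := fun n x => by
      induction n with
      | zero => simp
      | succ n ih => rw [pow_succ', mul_smul, h, ih]; push_cast; ring
    have h4 := h3 (Nat.card H) (e.symm 0)
    rw [show g ^ Nat.card H = 1 from congrArg Subtype.val (pow_card_eq_one' (x := (⟨g, hg⟩ : H)))] at h4
    exact h1 ((ZMod.natCast_eq_zero_iff _ _).1 (by simpa [hb] using h4))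
  rcases aff_or_two hτ with h | h
  · by_cases h0 : H = ⊥
    · exact ⟨e.symm 0, h0 ▸ bot_le⟩
    obtain ⟨⟨k, hk⟩, hk1⟩ := ne_bot_iff_exists_ne_one.1 h0
    obtain ⟨a, b, h3⟩ := h k
    have h4 : 1 - a ≠ 0 := fun h4 => by
      obtain rfl := sub_eq_zero.1 h4
      obtain rfl := h2 k hk b (by simpa using h3)
      exact hk1 (Subtype.ext (eq_of_smul_eq_smul fun x : α => e.injective (by simp [h3])))
    refine ⟨e.symm (b / (1 - a)), fun g hg => e.injective ?_⟩
    obtain ⟨c, d, h5⟩ := h g
    have h6 := h2 _ (H.mul_mem (H.mul_mem (H.mul_mem hg hk) (H.inv_mem hg)) (H.inv_mem hk))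
      (c * b + d - a * d - b) fun x => by
        obtain ⟨y, rfl⟩ := (toPerm (k * g)).surjective x
        simp only [toPerm_apply, mul_smul, inv_smul_smul, h3, h5]; ring
    rw [h5, e.apply_symm_apply]
    field_simp
    linear_combination h6
  by_cases hp2 : p = 2
  · subst hp2
    refine ⟨e.symm 0, fun g hg => e.injective ?_⟩
    obtain ⟨c, d, h5⟩ := aff_of_le (e := e) (by norm_num) g
    have : c = 1 := by
      have := e.injective.ne ((toPerm g).injective.ne (e.symm.injective.ne zero_ne_one))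
      simp only [toPerm_apply, h5, e.apply_symm_apply] at this
      exact aux2 c d this
    simp [h5, h2 g hg d (by simpa [this] using h5)]
  have h4 : (2 : ZMod p) ≠ 0 := by exact_mod_cast cast_ne (n := 2) (p := p) two_pos (by have := hp.two_le; omega)
  have hd : ∀ g : G, ∃ j : ZMod p, (τ ^ j.val)⁻¹ * g ∈ H := fun g => by
    have := Fintype.ofFinite (G ⧸ H)
    obtain ⟨x, hx, h3⟩ := syl_trans (f := 1) (Ω := G ⧸ H) (by rw [pow_one, ← Nat.card_eq_fintype_card]; exact hH) P
      ((1 : G) : G ⧸ H) (g : G ⧸ H)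
    rw [← hP, ← mem_powers_iff_mem_zpowers] at hx
    obtain ⟨n, rfl⟩ := hx
    refine ⟨n, ?_⟩
    rw [show τ ^ (n : ZMod p).val = τ ^ n from eq_of_smul_eq_smul fun x : α => e.injective (by simp [e_pow hτ])]
    simpa [QuotientGroup.eq] using h3
  have hi : ∀ (j : ZMod p) x, e ((τ ^ j.val)⁻¹ • x) = e x - j := fun j x => by
    simpa [eq_sub_iff_add_eq] using (e_val hτ j ((τ ^ j.val)⁻¹ • x)).symm
  let β : α → Prop := fun x => x ∈ orbit H (e.symm 0)
  have hβ : ∀ g ∈ H, ∀ x, β (g • x) ↔ β x := fun g hg x =>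
    ⟨fun h => inv_smul_smul g x ▸ mem_orbit_of_mem_orbit (⟨g, hg⟩ : H)⁻¹ h, mem_orbit_of_mem_orbit (⟨g, hg⟩ : H)⟩
  let F : α → α → ZMod 2 := fun x y => ∑ i : ZMod p, if β (e.symm (e x - i)) ∧ β (e.symm (e y - i)) then 1 else 0
  have hF : ∀ (s : G) x y, F (s • x) (s • y) = F x y := fun s x y => by
    choose σ hσ using fun i : ZMod p => hd (s * τ ^ i.val)
    have h5 : ∀ i x, β (e.symm (e (s • x) - σ i)) ↔ β (e.symm (e x - i)) := fun i x => by
      rw [← hβ _ (hσ i) (e.symm (e x - i)), ← hi, ← hi]; simp [mul_smul]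
    refine (Fintype.sum_bijective σ (Finite.injective_iff_bijective.1 fun i j hij => ?_) _ _ fun i => by
      simp only [h5]).symm
    have h6 := H.mul_mem (H.inv_mem (hσ i)) (hij ▸ hσ j)
    exact (sub_eq_zero.1 (h2 _ h6 (j - i) fun x => by simp [mul_smul, hi, e_val hτ]; ring)).symm
  obtain ⟨u, hu⟩ := exists_neg hτ hp2 (hP ▸ heven) 0
  obtain ⟨j, hj⟩ := hd u
  have h5 : ∀ k, β (e.symm (-j - k)) ↔ β (e.symm k) := fun k => by
    rw [← hβ _ hj (e.symm k), mul_smul, iff_iff_eq]
    exact congrArg β (e.symm_apply_eq.2 (by rw [hi, hu]; simp; ring))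
  have h6 : ∀ k, F (e.symm (2 * k + j)) (e.symm 0) = if β (e.symm k) then 1 else 0 := fun k => by
    simp only [F, e.apply_symm_apply]
    rw [← Finset.add_sum_erase _ _ (Finset.mem_univ (k + j)), Finset.sum_involution (fun i _ => 2 * (k + j) - i)]
    · rw [show 0 - (k + j) = -j - k by ring, show 2 * k + j - (k + j) = k by ring, h5]; simp
    · intro i _
      rw [show 2 * k + j - (2 * (k + j) - i) = -j - (0 - i) by ring,
        show 0 - (2 * (k + j) - i) = -j - (2 * k + j - i) by ring, h5, h5, if_congr and_comm rfl rfl,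
        CharTwo.add_self_eq_zero]
    · exact fun i hi _ h => (Finset.mem_erase.1 hi).1 (mul_left_cancel₀ h4 (by linear_combination -h))
    · exact fun i hi => Finset.mem_erase.2 ⟨fun h => (Finset.mem_erase.1 hi).1 (by linear_combination -h),
        Finset.mem_univ _⟩
    · intro i _; ring
  have h7 : ∀ k k', k ≠ -j / 2 → k' ≠ -j / 2 → β (e.symm k) → β (e.symm k') := fun k k' hk hk' h8 => by
    have h9 : ∀ k, k ≠ -j / 2 → e.symm (2 * k + j) ≠ e.symm 0 := fun k hk h => hk (by
      rw [eq_div_iff h4]; linear_combination e.symm.injective h)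
    obtain ⟨s, h10, h11⟩ := two_trans_iff.1 h _ _ _ _ (h9 k hk) (h9 k' hk')
    have := hF s (e.symm (2 * k + j)) (e.symm 0)
    rw [h10, h11, h6, h6, if_pos h8] at this
    by_contra h12
    simp [h12] at this
  refine ⟨e.symm (-j / 2), fun g hg => ?_⟩
  by_contra h8
  have h9 : e (g • e.symm (-j / 2)) ≠ -j / 2 := fun h => h8 (e.eq_symm_apply.2 h)
  have h10 : ∀ k, β (e.symm k) := fun k => by
    have h11 : β (g • e.symm (-j / 2)) := by
      by_cases h0 : 0 = -j / 2
      · exact (hβ g hg _).2 (h0 ▸ mem_orbit_self _)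
      · simpa using h7 0 _ h0 h9 (mem_orbit_self _)
    by_cases h0 : k = -j / 2
    · exact h0 ▸ (hβ g hg _).1 h11
    · exact h7 _ k h9 h0 (by simpa using h11)
  refine h1 ⟨Nat.card (stabilizer H (e.symm 0)), ?_⟩
  rw [← card_orbit_mul_stab (e.symm 0), Set.eq_univ_of_forall fun x => show x ∈ orbit H (e.symm 0) by
    simpa using h10 (e x), Nat.card_univ, hα']

end Cfsg.Agent.S0677
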