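import Cfsg.Statements.S0680
import Mathlib
import Cfsg.Agent.Lib.Perm.Prim

set_option autoImplicit false
open Cfsg

namespace Cfsg.Agent.S0680

open Cfsg.Agent.Perm MulAction

/-- The structure of a finite sharply 2-transitive group: the fixed-point-free elements with
the identity form an elementary abelian regular normal subgroup. -/
theorem exists_kernel {G α : Type*} [Group G] [Finite α] [Nontrivial α] [MulAction G α]
    (h2 : IsMultiplyPretransitive G α 2)
    (hs : ∀ a b : α, a ≠ b → ∀ g : G, g • a = a → g • b = b → g = 1) :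
    ∃ (p : ℕ) (K : Subgroup G), p.Prime ∧ p ∣ Nat.card α ∧ K.Normal ∧ (∀ x ∈ K, ∀ y ∈ K, x * y = y * x) ∧
      (∀ x ∈ K, x ^ p = 1) ∧ Nat.card K = Nat.card α ∧ IsPretransitive K α ∧
      (∀ a : α, stabilizer K a = ⊥) ∧ (∀ a : α, Nat.card (stabilizer G a) = Nat.card α - 1) ∧
      ∀ g : G, g ∈ K ↔ g = 1 ∨ ∀ a : α, g • a ≠ a := by
  classical
  have htr : IsPretransitive G α := isPretransitive_of_is_two_pretransitive
  obtain ⟨a₀, b₀, hab⟩ := exists_pair_ne α
  have hfaith : FaithfulSMul G α := ⟨fun {g k} h => by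
    have := hs a₀ b₀ hab (k⁻¹ * g) (by rw [mul_smul, h, inv_smul_smul]) (by rw [mul_smul, h, inv_smul_smul])
    exact (inv_mul_eq_one.1 this).symm⟩
  have hfin : Finite G := Finite.of_injective _ (toPerm_injective (α := G) (β := α))
  have hst : ∀ a : α, Nat.card (stabilizer G a) = Nat.card α - 1 := by
    intro a
    obtain ⟨b, hb⟩ := exists_ne a
    rw [← SubMulAction.nat_card_ofStabilizer_eq G a]
    refine Nat.card_congr (Equiv.ofBijective (fun g => ⟨(g : G) • b, fun h => hb ?_⟩) ⟨?_, ?_⟩)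
    · have h' : (g : G) • b = a := h
      exact smul_left_cancel _ (h'.trans (mem_stabilizer_iff.1 g.2).symm)
    · intro g k h
      have h' : (g : G) • b = (k : G) • b := congrArg Subtype.val h
      have := hs a b hb.symm ((k : G)⁻¹ * g) (k⁻¹ * g).2 (by rw [mul_smul, h', inv_smul_smul])
      exact Subtype.ext (inv_mul_eq_one.1 this).symm
    · rintro ⟨c, hc⟩
      obtain ⟨g, h1, h2⟩ := two_trans_iff.1 h2 a b a c hb.symm (Ne.symm hc)
      exact ⟨⟨g, h1⟩, Subtype.ext h2⟩
  have hn : 1 < Nat.card α := Finite.one_lt_card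
  have hG : Nat.card G = Nat.card α * (Nat.card α - 1) := by rw [card_eq_mul_stab a₀, hst]
  have hp := Nat.minFac_prime hn.ne'
  set p := (Nat.card α).minFac
  have hpn : p ∣ Nat.card α := Nat.minFac_dvd _
  have := Fact.mk hp
  obtain ⟨u, hu⟩ := exists_prime_orderOf_dvd_card' (G := G) p (hG ▸ hpn.mul_right _)
  have hu1 : u ≠ 1 := by
    rintro rfl
    rw [orderOf_one] at hu
    exact hp.one_lt.ne hu
  have hufpf : ∀ a : α, u • a ≠ a := by
    intro a ha
    have h1 := Subgroup.orderOf_dvd_natCard (stabilizer G a) ha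
    rw [hu, hst] at h1
    have := (Nat.dvd_sub hpn h1)
    rw [show Nat.card α - (Nat.card α - 1) = 1 by omega] at this
    exact hp.one_lt.ne' (Nat.dvd_one.1 this)
  set K := Subgroup.centralizer ({u} : Set G) with hK
  have hKsub : ∀ g ∈ K, g = 1 ∨ ∀ a : α, g • a ≠ a := by
    intro g hg
    by_cases h : ∀ a : α, g • a ≠ a
    · exact Or.inr h
    push Not at h
    obtain ⟨a, ha⟩ := h
    refine Or.inl (hs a (u • a) (hufpf a).symm g ha ?_)
    rw [← mul_smul, Subgroup.mem_centralizer_singleton_iff.1 hg, mul_smul, ha]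
  set F : Set G := {g : G | ∀ a : α, g • a ≠ a} with hF
  have hFc : Nat.card F + 1 = Nat.card α := card_fpf_of_frobenius hs
  have h1F : (1 : G) ∉ F := fun h => h a₀ (one_smul _ _)
  have hKF : (K : Set G) ⊆ insert 1 F := fun g hg => hKsub g hg
  have hins : (insert 1 F).ncard = Nat.card α := by
    rw [Set.ncard_insert_of_notMem h1F, ← hFc, Nat.card_coe_set_eq]
  have hKle : Nat.card K ≤ Nat.card α := by
    rw [← hins]; exact Set.ncard_le_ncard hKF
  have hcl : orbit (ConjAct G) u ⊆ F := by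
    rintro _ ⟨g, rfl⟩ a ha
    simp only [ConjAct.smul_def, mul_smul] at ha
    apply hufpf ((ConjAct.ofConjAct g)⁻¹ • a)
    rw [eq_inv_smul_iff, ha]
  have hcc : Nat.card (orbit (ConjAct G) u) * Nat.card K = Nat.card G := by
    rw [hK, Subgroup.nat_card_centralizer_nat_card_stabilizer]
    exact card_orbit_mul_stab u
  have hcle : Nat.card (orbit (ConjAct G) u) ≤ Nat.card α - 1 := by
    have := Set.ncard_le_ncard hcl
    rw [← Nat.card_coe_set_eq, ← Nat.card_coe_set_eq] at this
    omega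
  have hKc : Nat.card K = Nat.card α := by
    by_contra h
    have h1 : Nat.card K < Nat.card α := lt_of_le_of_ne hKle h
    have : Nat.card (orbit (ConjAct G) u) * Nat.card K < (Nat.card α - 1) * Nat.card α :=
      Nat.mul_lt_mul_of_le_of_lt hcle h1 (by omega)
    rw [hcc, hG, mul_comm] at this
    exact lt_irrefl _ this
  have hce : orbit (ConjAct G) u = F := by
    apply Set.eq_of_subset_of_ncard_le hcl
    rw [hKc, hG, mul_comm] at hcc
    have := Nat.eq_of_mul_eq_mul_left (by omega) hcc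
    rw [← Nat.card_coe_set_eq, ← Nat.card_coe_set_eq]
    omega
  have hKe : (K : Set G) = insert 1 F := by
    apply Set.eq_of_subset_of_ncard_le hKF
    rw [hins, ← hKc]; rfl
  have hmem : ∀ g : G, g ∈ K ↔ g = 1 ∨ ∀ a : α, g • a ≠ a := fun g => by
    rw [← SetLike.mem_coe, hKe]; rfl
  have hnorm : K.Normal := ⟨fun x hx g => by
    rw [hmem] at hx ⊢
    rcases hx with rfl | hx
    · simp
    · right
      intro a ha
      apply hx (g⁻¹ • a)
      rw [eq_inv_smul_iff, ← mul_smul, ← mul_smul, ha]⟩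
  have hconj : ∀ x ∈ K, x = 1 ∨ ∃ g : G, x = g * u * g⁻¹ := by
    intro x hx
    refine ((hmem x).1 hx).imp id fun h => ?_
    have : x ∈ orbit (ConjAct G) u := hce ▸ h
    obtain ⟨g, rfl⟩ := this
    exact ⟨ConjAct.ofConjAct g, rfl⟩
  have hreg : ∀ a : α, stabilizer K a = ⊥ := by
    intro a
    rw [eq_bot_iff]
    intro g hg
    rcases (hmem g).1 g.2 with h | h
    · exact Subtype.ext h
    · exact absurd hg (h a)
  refine ⟨p, K, hp, hpn, hnorm, ?_, ?_, hKc, ?_, hreg, hst, hmem⟩
  · intro x hx y hy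
    rcases hconj x hx with rfl | ⟨g, rfl⟩
    · simp
    · have := Subgroup.mem_centralizer_singleton_iff.1 (hnorm.conj_mem y hy g⁻¹)
      calc g * u * g⁻¹ * y = g * (u * (g⁻¹ * y * g⁻¹⁻¹)) * g⁻¹ := by group
        _ = _ := by rw [← this]; group
  · intro x hx
    rcases hconj x hx with rfl | ⟨g, rfl⟩
    · simp
    · rw [conj_pow, ← hu, pow_orderOf_eq_one]; simp
  · rw [isPretransitive_iff_orbit_eq_univ a₀]
    apply Set.eq_of_subset_of_ncard_le (Set.subset_univ _)
    have := card_orbit_mul_stab (G := K) a₀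
    rw [hreg, Subgroup.card_bot, mul_one, hKc, Nat.card_coe_set_eq] at this
    rw [this, Set.ncard_univ]

/-- A finite sharply doubly transitive permutation group has degree a prime power `p ^ j`; a Sylow `p`-subgroup is normal, elementary abelian and regular, and consists of the identity together with the elements without fixed points. (Frobenius' Theorem is not needed.) -/
theorem result {α : Type*} [Fintype α] [DecidableEq α] (G : Subgroup (Equiv.Perm α)) [MulAction.IsMultiplyPretransitive G α 2] (hsharp : ∀ x : Fin 2 ↪ α, MulAction.stabilizer G x = ⊥) (h2 : 2 ≤ Fintype.card α) : ∃ p j : ℕ, p.Prime ∧ 1 ≤ j ∧ Fintype.card α = p ^ j ∧ ∀ (hp : Fact p.Prime) (P : Sylow p G), (P : Subgroup G).Normal ∧ IsMulCommutative (P : Subgroup G) ∧ (∀ x ∈ (P : Subgroup G), x ^ p = 1) ∧ MulAction.IsPretransitive (P : Subgroup G) α ∧ (∀ a : α, MulAction.stabilizer (P : Subgroup G) a = ⊥) ∧ ∀ g : G, g ∈ (P : Subgroup G) ↔ g = 1 ∨ ∀ a : α, g • a ≠ a := by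
  have : Nontrivial α := Fintype.one_lt_card_iff_nontrivial.1 h2
  obtain ⟨p, K, hp, hpn, hn, hc, he, hcard, htr, hreg, hst, hmem⟩ :=
    exists_kernel (G := G) (α := α) inferInstance (sharp2_iff.1 hsharp)
  have := Fact.mk hp
  have hK : IsPGroup p K := fun x => ⟨1, Subtype.ext (by simpa using he x x.2)⟩
  obtain ⟨j, hj⟩ := IsPGroup.iff_card.1 hK
  rw [hcard, Nat.card_eq_fintype_card] at hj
  refine ⟨p, j, hp, ?_, hj, fun _ P => ?_⟩
  · rcases j with _ | j
    · simp at hj; omega
    · omega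
  have hPK : (P : Subgroup G) ≤ K := by
    intro g hg
    rw [hmem]
    by_cases h : ∀ a : α, g • a ≠ a
    · exact Or.inr h
    push Not at h
    obtain ⟨a, ha⟩ := h
    left
    have h1 := Subgroup.orderOf_dvd_natCard (stabilizer G a) ha
    obtain ⟨k, hk⟩ := IsPGroup.iff_orderOf.1 P.isPGroup' ⟨g, hg⟩
    rw [← Subgroup.orderOf_coe] at hk
    rcases k with _ | k
    · simpa using hk
    · exfalso
      rw [hst, hk] at h1
      have h3 : p ∣ Nat.card α - 1 := (dvd_pow_self p k.succ_ne_zero).trans h1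
      have := (Nat.dvd_sub hpn h3)
      rw [Nat.card_eq_fintype_card, show Fintype.card α - (Fintype.card α - 1) = 1 by omega] at this
      exact hp.one_lt.ne' (Nat.dvd_one.1 this)
  have : K = P := P.is_maximal' hK hPK
  rw [← this]
  exact ⟨hn, ⟨⟨fun x y => Subtype.ext (hc x x.2 y y.2)⟩⟩, he, htr, hreg, hmem⟩

end Cfsg.Agent.S0680
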