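import Cfsg.Statements.S0681
import Mathlib
import Cfsg.Agent.Lib.Perm.Prim

set_option autoImplicit false
open Cfsg

namespace Cfsg.Agent.S0681

open Cfsg.Agent.Perm MulAction

section
variable {F : Type*} [Cfsg.NearField F]

theorem zero_mul' (a : F) : 0 * a = 0 := by
  have := NearField.right_distrib (0 : F) 0 a
  rw [add_zero] at this
  exact (add_eq_left.1 this.symm)

theorem neg_mul' (x a : F) : (-x) * a = -(x * a) := by
  rw [eq_neg_iff_add_eq_zero, ← NearField.right_distrib, neg_add_cancel, zero_mul']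

theorem mul_ne_zero' {a b : F} (ha : a ≠ 0) (hb : b ≠ 0) : a * b ≠ 0 := by
  intro h
  obtain ⟨c, hc, -⟩ := NearField.exists_inv b hb
  apply ha
  rw [← mul_one a, ← hc, ← mul_assoc, h, zero_mul']

theorem exists_perm {a : F} (ha : a ≠ 0) (b : F) : ∃ σ : Equiv.Perm F, ∀ x, σ x = x * a + b := by
  obtain ⟨c, h1, h2⟩ := NearField.exists_inv a ha
  exact ⟨⟨fun x => x * a + b, fun x => (x + -b) * c, fun x => by simp [mul_assoc, h1],
    fun x => by simp [mul_assoc, h2]⟩, fun _ => rfl⟩

end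

/-- The affine maps `x ↦ x * a + b`, `a ≠ 0`, of a near-field form a sharply doubly transitive permutation group. -/
theorem result {F : Type*} [Cfsg.NearField F] : ∃ H : Subgroup (Equiv.Perm F), (∀ σ : Equiv.Perm F, σ ∈ H ↔ ∃ a b : F, a ≠ 0 ∧ ∀ x : F, σ x = x * a + b) ∧ MulAction.IsMultiplyPretransitive H F 2 ∧ ∀ x : Fin 2 ↪ F, MulAction.stabilizer H x = ⊥ := by
  let H : Subgroup (Equiv.Perm F) :=
    { carrier := {σ | ∃ a b : F, a ≠ 0 ∧ ∀ x : F, σ x = x * a + b}
      one_mem' := ⟨1, 0, NearField.zero_ne_one.symm, fun x => by simp⟩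
      mul_mem' := by
        rintro σ τ ⟨a, b, ha, h1⟩ ⟨c, d, hc, h2⟩
        refine ⟨c * a, d * a + b, mul_ne_zero' hc ha, fun x => ?_⟩
        rw [Equiv.Perm.mul_apply, h2, h1, NearField.right_distrib, mul_assoc, add_assoc]
      inv_mem' := by
        rintro σ ⟨a, b, ha, h1⟩
        obtain ⟨c, h2, h3⟩ := NearField.exists_inv a ha
        refine ⟨c, (-b) * c, ?_, fun x => ?_⟩
        · rintro rfl
          rw [NearField.mul_zero] at h2
          exact NearField.zero_ne_one h2
        · rw [Equiv.Perm.inv_eq_iff_eq, h1, ← NearField.right_distrib, mul_assoc, h3]; simp }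
  refine ⟨H, fun σ => Iff.rfl, ?_, ?_⟩
  · rw [two_trans_iff]
    intro u v w z huv hwz
    have h0 : u + -v ≠ 0 := by rwa [← sub_eq_add_neg, sub_ne_zero]
    have h0' : w + -z ≠ 0 := by rwa [← sub_eq_add_neg, sub_ne_zero]
    obtain ⟨c, h1, h2⟩ := NearField.exists_inv _ h0
    have hc : c ≠ 0 := by
      rintro rfl
      rw [NearField.mul_zero] at h1
      exact NearField.zero_ne_one h1
    obtain ⟨σ, hσ⟩ := exists_perm (mul_ne_zero' hc h0') (-(u * (c * (w + -z))) + w)
    refine ⟨⟨σ, _, _, mul_ne_zero' hc h0', hσ⟩, ?_, ?_⟩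
    · show σ u = w
      rw [hσ]; simp
    · show σ v = z
      have h3 : (u + -v) * (c * (w + -z)) = w + -z := by rw [← mul_assoc, h1, one_mul]
      rw [NearField.right_distrib, neg_mul'] at h3
      rw [hσ, ← add_assoc, ← neg_neg (v * _ + _), neg_add_rev, neg_neg, h3]
      simp
  · refine sharp2_iff.2 ?_
    rintro u v huv ⟨σ, a, b, ha, hσ⟩ h1 h2
    have h0 : u + -v ≠ 0 := by rwa [← sub_eq_add_neg, sub_ne_zero]
    obtain ⟨c, h3, h4⟩ := NearField.exists_inv _ h0
    have h1' : u * a + b = u := (hσ u).symm.trans h1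
    have h2' : v * a + b = v := (hσ v).symm.trans h2
    have h5 : (u + -v) * a = u + -v := by
      rw [NearField.right_distrib, neg_mul']
      conv_rhs => rw [← h1', ← h2']
      simp [add_assoc]
    have h6 : a = 1 := by rw [← one_mul a, ← h4, mul_assoc, h5]
    subst h6
    rw [mul_one, add_eq_left] at h1'
    ext x
    simp [hσ, h1']

end Cfsg.Agent.S0681
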