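import Cfsg.Statements.S0682
import Mathlib
import Cfsg.Agent.Lib.Perm.Prim
import Cfsg.Agent.S0681

set_option autoImplicit false
open Cfsg

namespace Cfsg.Agent.S0682

open Cfsg.Agent.Perm MulAction

/-- A finite near-field has prime-power order; its additive group is commutative of prime exponent. -/
theorem result {F : Type*} [Cfsg.NearField F] [Finite F] : ∃ p j : ℕ, p.Prime ∧ 1 ≤ j ∧ Nat.card F = p ^ j ∧ (∀ x y : F, x + y = y + x) ∧ ∀ x : F, p • x = 0 := by
  have : Nontrivial F := ⟨⟨0, 1, NearField.zero_ne_one⟩⟩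
  obtain ⟨p, hp, h1, h2⟩ := elemAb_of_aut_trans (N := Multiplicative F) (by
    intro x y hx hy
    obtain ⟨c, h1, h2⟩ := NearField.exists_inv x.toAdd hx
    have hc : c ≠ 0 := by
      rintro rfl
      rw [NearField.mul_zero] at h1
      exact NearField.zero_ne_one h1
    obtain ⟨σ, hσ⟩ := S0681.exists_perm (S0681.mul_ne_zero' hc (show y.toAdd ≠ 0 from hy)) 0
    refine ⟨AddEquiv.toMultiplicative ⟨σ, fun a b => ?_⟩, ?_⟩
    · simp [hσ, NearField.right_distrib]
    · show σ x.toAdd = y.toAdd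
      rw [hσ, ← mul_assoc, h1]; simp)
  have := Fact.mk hp
  have hP : IsPGroup p (Multiplicative F) := fun x => ⟨1, by simpa using h1 x⟩
  obtain ⟨j, hj⟩ := IsPGroup.iff_card.1 hP
  refine ⟨p, j, hp, ?_, hj, fun x y => h2 (Multiplicative.ofAdd x) (Multiplicative.ofAdd y),
    fun x => h1 (Multiplicative.ofAdd x)⟩
  rcases j with _ | j
  · exact absurd hj (Finite.one_lt_card (α := F)).ne'
  · omega

end Cfsg.Agent.S0682
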