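import Cfsg.Statements.S0683
import Mathlib
import Cfsg.Agent.Lib.Perm.Prim
import Cfsg.Agent.S0680

set_option autoImplicit false
open Cfsg

namespace Cfsg.Agent.S0683

open Cfsg.Agent.Perm MulAction

/-- A finite sharply doubly transitive permutation group is the affine group of a near-field: the permuted set carries a near-field structure for which the group consists exactly of the maps `x ↦ x * a + b` with `a ≠ 0`. -/
theorem result {α : Type*} [Fintype α] [DecidableEq α] (H : Subgroup (Equiv.Perm α)) [MulAction.IsMultiplyPretransitive H α 2] (hsharp : ∀ x : Fin 2 ↪ α, MulAction.stabilizer H x = ⊥) (h2 : 2 ≤ Fintype.card α) : ∃ _ : Cfsg.NearField α, ∀ σ : Equiv.Perm α, σ ∈ H ↔ ∃ a b : α, a ≠ 0 ∧ ∀ x : α, σ x = x * a + b := by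
  have : Nontrivial α := Fintype.one_lt_card_iff_nontrivial.1 h2
  have hs := sharp2_iff.1 hsharp
  obtain ⟨p, K, hp, hpn, hn, hc, he, hcard, htr, hreg, hst, hmem⟩ :=
    S0680.exists_kernel (G := H) (α := α) inferInstance hs
  obtain ⟨o, e, hoe⟩ := exists_pair_ne α
  choose t ht using fun x => htr.exists_smul_eq o x
  have tu : ∀ (k : K) x, k • o = x → t x = k := fun k x h =>
    eq_of_smul_eq_of_stab_bot (hreg o) ((ht x).trans h.symm)
  have h2t := two_trans_iff.1 (inferInstance : IsMultiplyPretransitive H α 2)
  choose! m hm1 hm2 using fun a (ha : a ≠ o) => h2t o e o a hoe ha.symm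
  have mu : ∀ (g : H) a, g • o = o → g • e = a → m a = g := by
    intro g a h1 h2
    have ha : a ≠ o := by
      rw [← h1, ← h2]; exact fun h => hoe (smul_left_cancel g h).symm
    have := hs o e hoe (g⁻¹ * m a) (by rw [mul_smul, hm1 a ha, inv_smul_eq_iff, h1])
      (by rw [mul_smul, hm2 a ha, inv_smul_eq_iff, h2])
    exact (inv_mul_eq_one.1 this).symm
  have t0 : t o = 1 := tu 1 o (one_smul _ _)
  have m1 : m e = 1 := mu 1 e (one_smul _ _) (one_smul _ _)
  have mne : ∀ a b, a ≠ o → b ≠ o → m b • a ≠ o := fun a b ha hb h =>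
    ha (smul_left_cancel (m b) (h.trans (hm1 b hb).symm))
  letI : Zero α := ⟨o⟩
  letI : Add α := ⟨fun x y => t y • x⟩
  letI : Neg α := ⟨fun x => (t x)⁻¹ • o⟩
  have add_def : ∀ x y : α, x + y = t y • x := fun _ _ => rfl
  letI ag : AddGroup α := AddGroup.ofLeftAxioms
    (fun x y z => by
      simp only [add_def]
      rw [tu (t z * t y) (t z • y) (by rw [mul_smul, ht]), mul_smul])
    (fun x => ht x) (fun x => smul_inv_smul _ _)
  letI mo : Monoid α :=
    { mul := fun x a => if a = o then o else m a • x
      one := e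
      mul_assoc := fun x a b => by
        show (if b = o then o else m b • (if a = o then o else m a • x)) =
          if (if b = o then o else m b • a) = o then o else m (if b = o then o else m b • a) • x
        by_cases hb : b = o
        · simp [hb]
        by_cases ha : a = o
        · simp [hb, ha, hm1 b hb]
        simp only [ha, hb, if_false, mne a b ha hb]
        rw [mu (m b * m a) (m b • a) (by rw [mul_smul, hm1 a ha, hm1 b hb]) (by rw [mul_smul, hm2 a ha]), mul_smul]
      one_mul := fun a => by
        show (if a = o then o else m a • e) = a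
        split_ifs with h
        · exact h.symm
        · exact hm2 a h
      mul_one := fun a => by
        show (if e = o then o else m e • a) = a
        rw [if_neg hoe.symm, m1, one_smul] }
  have mul_def : ∀ x a : α, x * a = if a = o then o else m a • x := fun _ _ => rfl
  refine ⟨{ ag, mo with
    right_distrib := fun a b c => ?_
    mul_zero := fun a => ?_
    zero_ne_one := hoe
    exists_inv := fun a ha => ?_ }, fun σ => ?_⟩
  · show (a + b) * c = a * c + b * c
    simp only [mul_def, add_def]
    split_ifs with h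
    · rw [ht]
    · rw [tu ⟨m c * t b * (m c)⁻¹, hn.conj_mem _ (t b).2 _⟩ (m c • b) (by
        show (m c * t b * (m c)⁻¹) • o = _
        rw [mul_smul, mul_smul, inv_smul_eq_iff.2 (hm1 c h).symm]
        exact congrArg _ (ht b))]
      show _ = (m c * t b * (m c)⁻¹) • (m c • a)
      rw [mul_smul, mul_smul, inv_smul_smul]; rfl
  · exact if_pos rfl
  · have ha' : a ≠ o := ha
    have hb : (m a)⁻¹ • e ≠ o := by
      rw [Ne, inv_smul_eq_iff, hm1 a ha']; exact hoe.symm
    refine ⟨(m a)⁻¹ • e, ?_, ?_⟩
    · show a * _ = e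
      rw [mul_def, if_neg hb, mu (m a)⁻¹ _ (inv_smul_eq_iff.2 (hm1 a ha').symm) rfl, inv_smul_eq_iff, hm2 a ha']
    · show _ * a = e
      rw [mul_def, if_neg ha', smul_inv_smul]
  · show _ ↔ ∃ a b : α, a ≠ o ∧ ∀ x : α, σ x = t b • (if a = o then o else m a • x)
    constructor
    · intro hσ
      set g : H := ((t (σ o) : K) : H)⁻¹ * ⟨σ, hσ⟩ with hg
      have h1 : g • o = o := by
        rw [hg, mul_smul, inv_smul_eq_iff]; exact (ht _).symm
      have ha : g • e ≠ o := by
        rw [← h1]; exact fun h => hoe (smul_left_cancel g h).symm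
      refine ⟨g • e, σ o, ha, fun x => ?_⟩
      rw [if_neg ha, mu g _ h1 rfl, hg, mul_smul]
      exact (smul_inv_smul ((t (σ o) : K) : H) _).symm
    · rintro ⟨a, b, ha, h⟩
      have : σ = (((t b : K) : H) * m a : H) := by
        ext x
        rw [h, if_neg ha]; rfl
      rw [this]; exact Subtype.property _

end Cfsg.Agent.S0683
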