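import Cfsg.Statements.S0687
import Cfsg.Agent.Lib.Transfer.FC9

set_option autoImplicit false
open Cfsg

namespace Cfsg.Agent.S0687

set_option linter.unusedSectionVars false
set_option linter.unusedVariables false
set_option linter.style.haveILetI false
set_option linter.unusedSimpArgs false

open Subgroup Transfer FC

/-- In a linear group over the prime field that is regular on non-zero vectors and has no irreducible cyclic normal subgroup, a normal subgroup `N` minimal among the non-abelian normal subgroups centralising a maximal normal abelian subgroup `A` is irreducible on `V`, and its centraliser is `A`. -/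
theorem result {p : ℕ} [Fact p.Prime] {V : Type*} [AddCommGroup V] [Module (ZMod p) V] [Finite V] (H : Subgroup (V ≃ₗ[ZMod p] V)) (hreg : ∀ v w : V, v ≠ 0 → w ≠ 0 → ∃! h : H, (h : V ≃ₗ[ZMod p] V) v = w) (hI : ∀ A : Subgroup H, A.Normal → IsCyclic A → ∃ W : Submodule (ZMod p) V, W ≠ ⊥ ∧ W ≠ ⊤ ∧ ∀ a ∈ A, ∀ v ∈ W, ((a : H) : V ≃ₗ[ZMod p] V) v ∈ W) (A : Subgroup H) (hAn : A.Normal) (hAc : IsMulCommutative A) (hAmax : ∀ B : Subgroup H, B.Normal → IsMulCommutative B → A ≤ B → B = A) (N : Subgroup H) (hNn : N.Normal) (hNle : N ≤ Subgroup.centralizer (A : Set H)) (hNna : ¬ IsMulCommutative N) (hNmin : ∀ M : Subgroup H, M.Normal → M ≤ N → ¬ IsMulCommutative M → M = N) : (∀ W : Submodule (ZMod p) V, (∀ n ∈ N, ∀ v ∈ W, ((n : H) : V ≃ₗ[ZMod p] V) v ∈ W) → W = ⊥ ∨ W = ⊤) ∧ Subgroup.centralizer (N : Set H) = A := by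
  obtain ⟨U, h1, h2, -⟩ := hI ⊥ inferInstance inferInstance
  haveI : Finite (V ≃ₗ[ZMod p] V) := Finite.of_injective _ DFunLike.coe_injective
  haveI : Nontrivial V := (Submodule.nontrivial_iff (ZMod p)).1 ⟨U, ⊥, h1⟩
  have h := RG.of_sub hreg
  obtain ⟨W, h3, h4, h5⟩ := h.dim2 hI (h.fr.minN hAc hAmax hNle hNna hNmin)
  refine ⟨fun X hX => by_contra fun e => hNna (h.line_ab (W := X) hX ?_),
    hAmax _ inferInstance (h.line_ab h4 h5) (MS.cc_symm hNle)⟩
  rw [not_or] at e
  obtain ⟨k, h6, h7⟩ := (Nat.dvd_prime_pow h5 (m := 2) (i := Nat.card X)).1 (by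
    rw [pow_two, ← h3]; exact X.toAddSubgroup.card_addSubgroup_dvd_card)
  have h8 := one_lt_card e.1
  have h9 : Nat.card X ≠ Nat.card V := fun e1 => e.2 (Submodule.toAddSubgroup_injective
    (X.toAddSubgroup.eq_top_of_card_eq e1))
  interval_cases k
  · rw [pow_zero] at h7; omega
  · rwa [h7, pow_one]
  · exact absurd (by rw [h7, h3, pow_two]) h9

end Cfsg.Agent.S0687
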