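import Cfsg.Statements.S0689
import Cfsg.Agent.Lib.Transfer.FC9

set_option autoImplicit false
open Cfsg

namespace Cfsg.Agent.S0689

set_option linter.unusedSectionVars false
set_option linter.unusedVariables false
set_option linter.style.haveILetI false
set_option linter.unusedSimpArgs false

open Subgroup Transfer FC

/-- The insoluble sharply doubly transitive groups: a non-solvable linear group over the prime field that is regular on the non-zero vectors of `V` occurs only for `|V| = 11², 29², 59²`, and is `SL(2,5) × C_m` with `m = 1, 7, 29` respectively. -/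
theorem result {p : ℕ} [Fact p.Prime] {V : Type*} [AddCommGroup V] [Module (ZMod p) V] [Finite V] (H : Subgroup (V ≃ₗ[ZMod p] V)) (hreg : ∀ v w : V, v ≠ 0 → w ≠ 0 → ∃! h : H, (h : V ≃ₗ[ZMod p] V) v = w) (hsolv : ¬ Group.IsSolvable H) : (Nat.card V = 121 ∧ Nonempty (H ≃* Matrix.SpecialLinearGroup (Fin 2) (ZMod 5))) ∨ (Nat.card V = 841 ∧ Nonempty (H ≃* Matrix.SpecialLinearGroup (Fin 2) (ZMod 5) × Multiplicative (ZMod 7))) ∨ (Nat.card V = 3481 ∧ Nonempty (H ≃* Matrix.SpecialLinearGroup (Fin 2) (ZMod 5) × Multiplicative (ZMod 29))) := by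
  haveI : Finite (V ≃ₗ[ZMod p] V) := Finite.of_injective _ DFunLike.coe_injective
  haveI : Nontrivial V := not_subsingleton_iff_nontrivial.1 fun h => hsolv (by
    haveI : Subsingleton H := ⟨fun a b => Subtype.ext (LinearEquiv.ext fun _ => Subsingleton.elim _ _)⟩
    infer_instance)
  have h := RG.of_sub hreg
  obtain ⟨S, φ, hS⟩ := h.fr.ns hsolv
  obtain ⟨W, h1, -, h2, h3⟩ := h.ns hS
  obtain ⟨e⟩ := hS.iso
  obtain ⟨f⟩ := iso_prod' (MS.cc_symm (MS.O_le _ _)) hS.inf h2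
  haveI : Fact (Nat.Prime 7) := ⟨by decide⟩
  haveI : Fact (Nat.Prime 29) := ⟨by decide⟩
  rcases h3 with ⟨h4, h5⟩ | ⟨h4, h5⟩ | ⟨h4, h5⟩
  · rw [card_eq_one.1 h5, sup_bot_eq] at h2
    exact Or.inl ⟨by rw [h1, h4], ⟨(topEquiv.symm.trans (MulEquiv.subgroupCongr h2.symm)).trans e⟩⟩
  · exact Or.inr (Or.inl ⟨by rw [h1, h4], ⟨f.trans (e.prodCongr (mulEquivOfPrimeCardEq h5 (by simp)))⟩⟩)
  · exact Or.inr (Or.inr ⟨by rw [h1, h4], ⟨f.trans (e.prodCongr (mulEquivOfPrimeCardEq h5 (by simp)))⟩⟩)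

end Cfsg.Agent.S0689
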