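import Cfsg.Statements.S0690
import Cfsg.Agent.Lib.Transfer.FC5

set_option autoImplicit false
open Cfsg

namespace Cfsg.Agent.S0690

set_option linter.unusedSectionVars false
set_option linter.unusedVariables false
set_option linter.style.haveILetI false
set_option linter.unusedSimpArgs false

open Subgroup Transfer MS FC

/-- Zassenhaus: a perfect non-trivial group of fixed-point-free automorphisms of a finite group is isomorphic to `SL(2,5)`. -/
theorem result {K : Type*} [Group K] [Finite K] (G : Subgroup (MulAut K)) (hfpf : ∀ φ ∈ G, φ ≠ 1 → ∀ k : K, φ k = k → k = 1) (hperf : commutator G = ⊤) (hne : G ≠ ⊥) : Nonempty (G ≃* Matrix.SpecialLinearGroup (Fin 2) (ZMod 5)) := by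
  haveI := (nontrivial_iff_ne_bot G).2 hne
  have hn : ¬ Group.IsSolvable G := fun h => by
    have := Group.IsSolvable.commutator_lt_top_of_nontrivial G
    rw [hperf] at this; exact lt_irrefl _ this
  obtain ⟨t, ht⟩ := exists_prime_orderOf_dvd_card' (G := G) 2 (even_iff_two_dvd.1 (Nat.not_odd_iff_even.1 fun h => hn (PF.odd_solvable h)))
  have t1 : t ≠ 1 := fun e => by simp [e] at ht
  have t2 : t * t = 1 := by rw [← pow_two, ← ht, pow_orderOf_eq_one]
  have hc : ∀ a b : K, Commute a b := MonoidHom.FixedPointFree.commute_all_of_involutive (φ := (t : MulAut K))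
    (hfpf t t.2 fun e => t1 (Subtype.ext e)) fun k => by
      rw [← MulAut.mul_apply, ← Subgroup.coe_mul, t2]; rfl
  haveI : Nontrivial K := not_subsingleton_iff_nontrivial.1 fun h => t1 (Subtype.ext (MulEquiv.ext fun k => Subsingleton.elim _ _))
  have hF : FR G := FR.of_action (Group.isSolvable_of_comm hc) G.subtype fun h h1 => hfpf h h.2 fun e => h1 (Subtype.ext e)
  obtain ⟨S, φ, h⟩ := hF.ns hn
  obtain ⟨e⟩ := h.iso
  exact ⟨(topEquiv.symm.trans (MulEquiv.subgroupCongr (h.eq_top hperf).symm)).trans e⟩

end Cfsg.Agent.S0690
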