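import Cfsg.Statements.S0694
import Mathlib

set_option autoImplicit false
open Cfsg

namespace Cfsg.Agent.S0694

/-- The Dickson pair condition: for a prime power `q` and `n > 1`, (every prime factor of `n` divides `q - 1`, and `4 ∣ n → 4 ∣ q - 1`) holds exactly when `q ^ n ≡ 1` modulo `n * (q - 1)` but `q ^ i` is not, for `0 < i < n`. -/
theorem result (q n : ℕ) (hq : IsPrimePow q) (hn : 1 < n) : ((∀ r : ℕ, r.Prime → r ∣ n → r ∣ q - 1) ∧ (4 ∣ n → 4 ∣ q - 1)) ↔ (q ^ n ≡ 1 [MOD n * (q - 1)] ∧ ∀ i : ℕ, 0 < i → i < n → ¬ q ^ i ≡ 1 [MOD n * (q - 1)]) := by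
  open Pointwise commutatorElement Subgroup in
  have h2 := hq.two_le
  obtain ⟨S, hS⟩ : ∃ S : ℕ → ℕ, ∀ i, S i = ∑ j ∈ Finset.range i, q ^ j := ⟨_, fun _ => rfl⟩
  have e : ∀ i, S i * (q - 1) + 1 = q ^ i := fun i => by
    rw [hS, geom_sum_mul_of_one_le (by omega), Nat.sub_add_cancel (Nat.one_le_pow _ _ (by omega))]
  have m : ∀ i j, q ^ i ≡ q ^ j [MOD n * (q - 1)] ↔ S i ≡ S j [MOD n] := fun i j => by
    rw [← e, ← e]
    exact ⟨fun h => Nat.ModEq.mul_right_cancel' (by omega) (Nat.ModEq.add_right_cancel' 1 h),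
      fun h => (h.mul_right' _).add_right 1⟩
  have S0 : S 0 = 0 := by simp [hS]
  have m1 : ∀ i, q ^ i ≡ 1 [MOD n * (q - 1)] ↔ n ∣ S i := fun i => by
    have := m i 0
    rwa [pow_zero, S0, Nat.modEq_zero_iff_dvd] at this
  have s2 : ∀ i, S (i + 1) = q * S i + 1 := fun i => by rw [hS, hS, Finset.sum_range_succ', Finset.mul_sum]; simp [pow_succ']
  constructor
  · rintro ⟨h1, h4⟩
    have key : ∀ r k i : ℕ, r.Prime → r ^ k ∣ n → (r ^ k ∣ S i ↔ r ^ k ∣ i) := fun r k i hr hk => by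
      obtain rfl | k0 := k.eq_zero_or_pos
      · simp
      have a1 := h1 r hr ((dvd_pow_self r k0.ne').trans hk)
      have a2 : ¬ r ∣ q := fun f => hr.one_lt.ne' (Nat.dvd_one.1 ((Nat.dvd_sub_iff_right (by omega) f).1 a1))
      by_cases h : r = 2 ∧ k = 1
      · obtain ⟨rfl, rfl⟩ := h
        obtain ⟨c, rfl⟩ : ∃ c, q = 2 * c + 1 := ⟨q / 2, by omega⟩
        have : S i % 2 = i % 2 := by
          induction i with
          | zero => rw [S0]
          | succ i ih => rw [s2, add_mul, mul_assoc]; omega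
        omega
      have c1 : ((q - 1 : ℕ) : ℤ) = q - 1 := by push_cast [show 1 ≤ q by omega]; rfl
      have b : emultiplicity (r : ℤ) ((q : ℤ) ^ i - 1 ^ i) = emultiplicity (r : ℤ) ((q : ℤ) - 1) + emultiplicity r i := by
        obtain rfl | o := hr.eq_two_or_odd'
        · have : 4 ∣ n := (pow_dvd_pow 2 (show 2 ≤ k by omega)).trans hk
          rw [← Int.natCast_emultiplicity 2 i]
          exact Int.two_pow_sub_pow' i (c1 ▸ Int.natCast_dvd_natCast.2 (h4 this)) fun f => a2 (Int.natCast_dvd_natCast.1 f)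
        · exact Int.emultiplicity_pow_sub_pow hr o (c1 ▸ Int.natCast_dvd_natCast.2 a1) (fun f => a2 (Int.natCast_dvd_natCast.1 f)) i
      have c2 : (q : ℤ) ^ i - 1 ^ i = ((q - 1) * S i : ℕ) := by
        have := congrArg (Nat.cast : ℕ → ℤ) (e i)
        push_cast at this ⊢
        rw [← this]; ring
      rw [c2, ← c1, Int.natCast_emultiplicity, Int.natCast_emultiplicity, emultiplicity_mul hr.prime] at b
      rw [pow_dvd_iff_le_emultiplicity, pow_dvd_iff_le_emultiplicity, WithTop.add_left_cancel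
        (emultiplicity_lt_top.2 (Nat.finiteMultiplicity_iff.2 ⟨hr.ne_one, by omega⟩)).ne b]
    have k2 : ∀ i, n ∣ S i ↔ n ∣ i := fun i => by
      rw [Nat.dvd_iff_prime_pow_dvd_dvd, Nat.dvd_iff_prime_pow_dvd_dvd i]
      exact forall₄_congr fun r k hr hk => key r k i hr hk
    exact ⟨(m1 n).2 ((k2 n).2 dvd_rfl), fun i a b c => (Nat.le_of_dvd a ((k2 i).1 ((m1 i).1 c))).not_gt b⟩
  · rintro ⟨h1, h3⟩
    have cp : ∀ r : ℕ, r.Prime → r ∣ n → ¬ r ∣ q := fun r hr a b => hr.one_lt.ne' (Nat.dvd_one.1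
      (((h1.of_dvd (a.mul_right _)).dvd_iff dvd_rfl).1 (b.trans (dvd_pow_self q (by omega)))))
    have co : Nat.Coprime (n * (q - 1)) q := by
      refine Nat.Coprime.mul_left (Nat.coprime_of_dvd fun r hr a b => cp r hr a b) ?_
      obtain ⟨c, rfl⟩ : ∃ c, q = c + 1 := ⟨q - 1, by omega⟩
      simp
    have inj : ∀ i j, i < j → j < n → ¬ S i ≡ S j [MOD n] := fun i j a b c => by
      obtain ⟨d, rfl⟩ := Nat.exists_eq_add_of_lt a
      have := (m _ _).2 c
      rw [add_assoc, pow_add] at this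
      nth_rw 1 [← mul_one (q ^ i)] at this
      exact h3 (d + 1) (by omega) (by omega) (Nat.ModEq.cancel_left_of_coprime (co.pow_right i) this).symm
    have sj : ∀ c, ∃ i, S i ≡ c [MOD n] := fun c => by
      let f : Fin n → Fin n := fun i => ⟨S i % n, Nat.mod_lt _ (by omega)⟩
      have : Function.Injective f := fun i j h => by
        have h' : S i ≡ S j [MOD n] := congrArg Fin.val h
        obtain a | a | a := lt_trichotomy i j
        exacts [(inj i j a j.2 h').elim, a, (inj j i a i.2 h'.symm).elim]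
      obtain ⟨i, hi⟩ := Finite.surjective_of_injective this ⟨c % n, Nat.mod_lt _ (by omega)⟩
      exact ⟨i, congrArg Fin.val hi⟩
    refine ⟨fun r hr a => by_contra fun b => ?_, fun a => by_contra fun b => ?_⟩
    · obtain ⟨c, hc⟩ : ∃ c, r ∣ c * (q - 1) + 1 := by
        haveI := Fact.mk hr
        refine ⟨(-((q - 1 : ℕ) : ZMod r)⁻¹).val, (ZMod.natCast_eq_zero_iff _ _).1 ?_⟩
        have : ((q - 1 : ℕ) : ZMod r) ≠ 0 := mt (ZMod.natCast_eq_zero_iff _ _).1 b
        rw [Nat.cast_add, Nat.cast_mul, ZMod.natCast_zmod_val, neg_mul, inv_mul_cancel₀ this, Nat.cast_one, neg_add_cancel]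
      obtain ⟨i, hi⟩ := sj c
      have := ((((hi.of_dvd a).mul_right (q - 1)).add_right 1).dvd_iff dvd_rfl).2 hc
      exact cp r hr a (hr.dvd_of_dvd_pow (e i ▸ this))
    · obtain ⟨i, hi⟩ := sj 2
      have h5 := cp 2 Nat.prime_two ((by norm_num : 2 ∣ 4).trans a)
      obtain ⟨c, rfl⟩ : ∃ c, q = 4 * c + 3 := ⟨q / 4, by omega⟩
      have : ∀ i, S i % 4 = 0 ∨ S i % 4 = 1 := fun i => by
        induction i with
        | zero => rw [S0]; simp
        | succ i ih => rw [s2, add_mul, mul_assoc]; omega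
      have h6 : S i % 4 = 2 % 4 := hi.of_dvd a
      have := this i
      omega

end Cfsg.Agent.S0694
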