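import Cfsg.Statements.S0698
import Mathlib
import Cfsg.Agent.Lib.Perm.PG2

set_option autoImplicit false
open Cfsg

namespace Cfsg.Agent.S0698

open Cfsg.Agent.Perm Cfsg.Agent.Perm.PG MulAction

/-- Jordan's Theorem on normal subgroups of multiply transitive groups: if `G` is `k`-transitive (`k > 1`) of degree greater than `k`, a non-trivial normal subgroup is `(k-1)`-transitive, except possibly for `k = 3` when it may be an elementary abelian 2-group. -/
theorem result {α : Type*} [Fintype α] [DecidableEq α] (G : Subgroup (Equiv.Perm α)) {k : ℕ} (hk : 1 < k) (hdeg : k < Fintype.card α) (hG : MulAction.IsMultiplyPretransitive G α k) (N : Subgroup G) [N.Normal] (hN : N ≠ ⊥) : MulAction.IsMultiplyPretransitive N α (k - 1) ∨ (k = 3 ∧ IsMulCommutative N ∧ ∀ n ∈ N, n ^ 2 = 1) := by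
  obtain ⟨k, rfl⟩ : ∃ j, k = j + 2 := ⟨k - 2, by omega⟩
  have hc := Nat.card_eq_fintype_card (α := α)
  have hp : IsMultiplyPreprimitive G α (k + 1) :=
    isMultiplyPreprimitive_of_isMultiplyPretransitive_succ G α (by
      rw [ENat.card_eq_coe_natCard, hc]; exact_mod_cast hdeg.le)
  have hle : ∀ m ≤ k + 1, IsMultiplyPreprimitive G α m := fun m hm =>
    isMultiplyPreprimitive_of_le G α hp hm (by rw [ENat.card_eq_coe_natCard, hc]; exact_mod_cast (by omega))
  have h1 : IsPreprimitive G α := (is_one_preprimitive_iff G α).1 (hle 1 (by omega))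
  have ht : IsPretransitive N α := normal_trans_of_prim N hN
  show IsMultiplyPretransitive N α (k + 1) ∨ _
  rcases k with _ | k
  · exact Or.inl (is_one_pretransitive_iff.2 ht)
  by_cases hr : ∀ a : α, stabilizer N a = ⊥
  · right
    rcases k with _ | k
    · rcases S0695.result (by omega) hp N ht hr with h | h
      · omega
      · exact ⟨rfl, h.1, h.2.1⟩
    · have := S0696.result (by omega) (hle 3 (by omega)) N ht hr
      omega
  left
  push Not at hr
  obtain ⟨a, ha⟩ := hr
  rcases k with _ | k
  · exact normal_two_trans (by omega) hp N ha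
  by_cases htop : G = ⊤
  · subst htop
    have hn : (N.map (⊤ : Subgroup (Equiv.Perm α)).subtype).Normal :=
      Subgroup.Normal.map ‹_› _ (fun x => ⟨⟨x, trivial⟩, rfl⟩)
    have h2 := Equiv.Perm.alternatingGroup_le_of_normal (α := α) (by omega)
      (N := N.map (⊤ : Subgroup (Equiv.Perm α)).subtype) (by
        rw [Subgroup.nontrivial_iff_ne_bot, Ne, Subgroup.map_eq_bot_iff_of_injective _ (Subgroup.subtype_injective _)]
        exact hN)
    refine mt_of_perm fun s hs σ => ?_
    obtain ⟨g, hg⟩ := mt_perm (alternatingGroup.isMultiplyPretransitive α) (by omega) s (by omega) σ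
    obtain ⟨x, hx, hx2⟩ := h2 g.2
    exact ⟨⟨x, hx⟩, fun y hy => by rw [← hg y hy]; exact congrArg (fun t : Equiv.Perm α => t y) hx2⟩
  · exact normal_mt _ (by omega) hp (fun e => htop (Equiv.Perm.eq_top_of_isMultiplyPretransitive e)) N ha

end Cfsg.Agent.S0698
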