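import Cfsg.Statements.S0699
import Mathlib
import Cfsg.Agent.Lib.Perm.PG2
import Cfsg.Agent.S0698

set_option autoImplicit false
open Cfsg

namespace Cfsg.Agent.S0699

open Cfsg.Agent.Perm Cfsg.Agent.Perm.PG MulAction Equiv
open scoped Pointwise

/-- Wagner's Theorem: a non-trivial normal subgroup of a triply transitive permutation group of odd degree at least 5 is triply transitive. -/
theorem result {α : Type*} [Fintype α] [DecidableEq α] (G : Subgroup (Equiv.Perm α)) (hodd : Odd (Fintype.card α)) (h5 : 5 ≤ Fintype.card α) (hG : MulAction.IsMultiplyPretransitive G α 3) (N : Subgroup G) [N.Normal] (hN : N ≠ ⊥) : MulAction.IsMultiplyPretransitive N α 3 := by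
  have hc := Nat.card_eq_fintype_card (α := α)
  have hG2 : IsMultiplyPretransitive G α 2 := isMultiplyPretransitive_of_le (n := 3) (by omega) (by omega)
  have := isPreprimitive_of_is_two_pretransitive hG2
  have ht : IsPretransitive N α := normal_trans_of_prim N hN
  have hfix : ∀ {H : Type _} [Group H] [MulAction H α], IsPGroup 2 H → ∀ s : Finset α, s.card = 2 →
      (∀ g : H, ∀ x ∉ s, g • x ∉ s) → ∃ x ∉ s, ∀ g : H, g • x = x := by
    intro H _ _ hH s hs h
    refine exists_fix Nat.prime_two hH (S := {x | x ∉ s}) (Set.toFinite _) h ?_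
    have : ({x | x ∉ s} : Set α) = ((sᶜ : Finset α) : Set α) := by ext; simp
    rw [this, Set.ncard_coe_finset, Finset.card_compl, hs]
    obtain ⟨k, hk⟩ := hodd
    omega
  have h2 : IsMultiplyPretransitive N α 2 := by
    rcases S0698.result G (k := 3) (by omega) (by omega) hG N hN with h | ⟨-, -, h⟩
    · exact h
    · exfalso
      obtain ⟨x, -, hx⟩ := exists_fix (G := N) (α := α) Nat.prime_two (fun g => ⟨1, Subtype.ext (h g g.2)⟩) (S := Set.univ)
        (Set.toFinite _) (fun _ _ _ => trivial) (by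
          rw [Set.ncard_univ, hc]; exact hodd.not_two_dvd_nat)
      obtain ⟨y, hy⟩ := Fintype.exists_ne_of_one_lt_card (α := α) (by omega) x
      obtain ⟨g, hg⟩ := exists_smul_eq N x y
      exact hy (hg.symm.trans (hx g))
  have hsw : ∀ a b c : α, a ≠ b → a ≠ c → b ≠ c → ∃ g : N, g • a = b ∧ g • b = a ∧ g • c = c := by
    intro a b c hab hac hbc
    obtain ⟨g, hg1, hg2⟩ := two_trans_iff.1 h2 a b b a hab hab.symm
    obtain ⟨j, m, hm, hjm⟩ := Nat.exists_eq_two_pow_mul_odd (orderOf_pos g).ne'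
    obtain ⟨i, rfl⟩ := hm
    have hsq : ∀ i, (g ^ 2) ^ i • a = a ∧ (g ^ 2) ^ i • b = b := by
      intro i
      constructor <;> apply (stabilizer N _).pow_mem <;> simp [sq, mul_smul, hg1, hg2]
    have h3 : g ^ (2 * i + 1) • a = b := by rw [pow_succ, mul_smul, hg1, pow_mul, (hsq i).2]
    have h4 : g ^ (2 * i + 1) • b = a := by rw [pow_succ, mul_smul, hg2, pow_mul, (hsq i).1]
    have h5 : (g ^ (2 * i + 1)) ^ 2 ^ j = 1 := by rw [← pow_mul, mul_comm, ← hjm, pow_orderOf_eq_one]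
    generalize g ^ (2 * i + 1) = t at *
    obtain ⟨x, hx, hx2⟩ := hfix (isPGroup_zpowers h5) {a, b} (Finset.card_pair hab) (by
      have : Subgroup.zpowers t ≤ stabilizer N ({a, b} : Finset α) := Subgroup.zpowers_le.2 (by
        simp [mem_stabilizer_iff, Finset.smul_finset_insert, h3, h4, Finset.pair_comm])
      intro g x hx e
      have h8 := mem_stabilizer_iff.1 (this g.2)
      rw [← h8] at e
      exact hx ((Finset.smul_mem_smul_finset_iff _).1 e))
    simp only [Finset.mem_insert, Finset.mem_singleton, not_or] at hx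
    obtain ⟨k, hk1, hk2, hk3⟩ := three_trans_iff.1 hG a b x a b c hab (Ne.symm hx.1) (Ne.symm hx.2) hab hac hbc
    have h6 : (t : G) • x = x := hx2 ⟨t, Subgroup.mem_zpowers t⟩
    refine ⟨⟨k * t * k⁻¹, Subgroup.Normal.conj_mem ‹_› _ t.2 k⟩, ?_, ?_, ?_⟩
    · show (k * t * k⁻¹) • a = b
      rw [mul_smul, mul_smul, inv_smul_eq_iff.2 hk1.symm, show (t : G) • a = b from h3, hk2]
    · show (k * t * k⁻¹) • b = a
      rw [mul_smul, mul_smul, inv_smul_eq_iff.2 hk2.symm, show (t : G) • b = a from h4, hk1]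
    · show (k * t * k⁻¹) • c = c
      rw [mul_smul, mul_smul, inv_smul_eq_iff.2 hk3.symm, h6, hk3]
  have hgen : ∀ s : Finset α, s.card = 2 + 1 → ∀ σ : Perm α, (∀ x ∈ s, σ x ∈ s) →
      ∃ g : N, ∀ x ∈ s, g • x = σ x := by
    intro s hs σ hσ
    have key : ∀ τ : Perm s, ∃ g : N, ∀ x : s, g • (x : α) = τ x := by
      intro τ
      induction τ using Perm.swap_induction_on with
      | one => exact ⟨1, by simp⟩
      | swap_mul f x y hxy ih =>
        obtain ⟨g, hg⟩ := ih
        obtain ⟨c, hc⟩ := Finset.card_eq_one.1 (show (s \ {x.1, y.1}).card = 1 by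
          rw [Finset.card_sdiff_of_subset (by simp [Finset.insert_subset_iff]),
            Finset.card_pair (Subtype.coe_ne_coe.2 hxy), hs])
        have hc2 : ∀ z, (z ∈ s ∧ z ≠ x.1 ∧ z ≠ y.1) ↔ z = c := by
          intro z; rw [← Finset.mem_singleton, ← hc]; simp
        obtain ⟨t, h1, h2, h3⟩ := hsw x y c (Subtype.coe_ne_coe.2 hxy) ((hc2 c).2 rfl).2.1.symm ((hc2 c).2 rfl).2.2.symm
        refine ⟨t * g, fun z => ?_⟩
        rw [mul_smul, hg, Perm.mul_apply, swap_apply_def]
        split_ifs with e1 e2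
        · rw [e1, h1]
        · rw [e2, h2]
        · rw [(hc2 (f z)).1 ⟨(f z).2, Subtype.coe_ne_coe.2 e1, Subtype.coe_ne_coe.2 e2⟩, h3]
    obtain ⟨g, hg⟩ := key (σ.subtypePermOfFintype hσ)
    exact ⟨g, fun x hx => hg ⟨x, hx⟩⟩
  obtain ⟨s, -, hs⟩ := Finset.exists_subset_card_eq (s := (Finset.univ : Finset α)) (n := 2) (by simp; omega)
  refine mt_succ h2 s hs fun a ha b hb => ?_
  by_contra hcon
  have hno : ∀ a ∉ s, ∀ b ∉ s, b ∈ orbit (fixingSubgroup N (s : Set α)) a → ∃ g : N, (∀ x ∈ s, g • x = x) ∧ g • a = b := by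
    rintro a ha b hb ⟨g, hg⟩
    exact ⟨g, (mem_fixingSubgroup_iff N).1 g.2, hg⟩
  obtain ⟨i, hi⟩ := gen_orbit h2 hgen Nat.prime_two le_rfl s hs ![a, b] (by
    intro i; fin_cases i <;> simpa) (by
    intro i j hij
    fin_cases i <;> fin_cases j
    · simp at hij
    · exact fun e => hcon (hno a ha b hb e)
    · exact fun e => hcon (hno a ha b hb (mem_orbit_symm.1 e))
    · simp at hij)
  have hi2 : ![a, b] i ∉ s := by fin_cases i <;> simpa
  generalize ![a, b] i = c at hi hi2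
  obtain ⟨Q⟩ : Nonempty (Sylow 2 (fixingSubgroup N (s : Set α))) := inferInstance
  obtain ⟨x, hx, hx2⟩ := hfix Q.isPGroup' s hs (fun g x hx e => by
    have h8 : g⁻¹ • g • x = g • x := (mem_fixingSubgroup_iff N).1 (g⁻¹).1.2 _ e
    rw [inv_smul_smul] at h8
    exact hx (h8 ▸ e))
  have h7 : ¬ 2 ∣ Nat.card (orbit (fixingSubgroup N (s : Set α)) x) := by
    rw [card_orbit_eq_index]
    exact fun e => Q.not_dvd_index (e.trans (Subgroup.index_dvd_of_le fun g hg => hx2 ⟨g, hg⟩))
  obtain ⟨k, hk1, hk2⟩ := mt_move hG (by omega) s (by omega) hx hi2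
  apply h7
  convert hi using 1
  have hcj : ∀ k : G, (∀ x ∈ s, k • x = x) → ∀ x y : α, y ∈ orbit (fixingSubgroup N (s : Set α)) x →
      k • y ∈ orbit (fixingSubgroup N (s : Set α)) (k • x) := by
    rintro k hk x _ ⟨g, rfl⟩
    refine ⟨⟨⟨k * g * k⁻¹, Subgroup.Normal.conj_mem ‹_› _ g.1.2 k⟩, (mem_fixingSubgroup_iff N).2 fun z hz => ?_⟩, ?_⟩
    · show (k * g * k⁻¹) • z = z
      rw [mul_smul, mul_smul, inv_smul_eq_iff.2 (hk z hz).symm,
        show ((g : N) : G) • z = z from (mem_fixingSubgroup_iff N).1 g.2 z hz, hk z hz]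
    · show (k * g * k⁻¹) • k • x = k • ((g : N) : G) • x
      rw [mul_smul, mul_smul, inv_smul_smul]
  refine Nat.card_congr (Equiv.subtypeEquiv (toPerm k) fun y => ⟨fun e => hk2 ▸ hcj k hk1 x y e, fun e => ?_⟩)
  have := hcj k⁻¹ (fun x hx => inv_smul_eq_iff.2 (hk1 x hx).symm) c _ e
  rwa [← hk2, toPerm_apply, inv_smul_smul, inv_smul_smul] at this

end Cfsg.Agent.S0699
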