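import Cfsg.Statements.S0700
import Mathlib
import Cfsg.Agent.Lib.Perm.PG2
import Cfsg.Agent.S0721

set_option autoImplicit false
open Cfsg

namespace Cfsg.Agent.S0700

open Cfsg.Agent.Perm Cfsg.Agent.Perm.PG MulAction Equiv
open scoped Pointwise

/-- Burnside's Theorem on doubly transitive groups: a minimal normal subgroup of a finite doubly transitive permutation group is elementary abelian and regular, or simple and primitive. -/
theorem result {α : Type*} [Fintype α] [DecidableEq α] (G : Subgroup (Equiv.Perm α)) (hG : MulAction.IsMultiplyPretransitive G α 2) (N : Subgroup G) [N.Normal] (hN : N ≠ ⊥) (hmin : ∀ M : Subgroup G, M.Normal → M ≤ N → M = ⊥ ∨ M = N) : (IsMulCommutative N ∧ (∃ p : ℕ, p.Prime ∧ ∀ n ∈ N, n ^ p = 1) ∧ ∀ a : α, MulAction.stabilizer N a = ⊥) ∨ (IsSimpleGroup N ∧ MulAction.IsPreprimitive N α) := by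
  have := isPreprimitive_of_is_two_pretransitive hG
  have ht : IsPretransitive N α := normal_trans_of_prim N hN
  have hnt : Nontrivial α := by
    by_contra h
    rw [not_nontrivial_iff_subsingleton] at h
    exact hN (Subsingleton.elim _ _)
  obtain ⟨a⟩ : Nonempty α := inferInstance
  by_cases hr : ∀ a : α, stabilizer N a = ⊥
  · left
    have : Nontrivial N := (Subgroup.nontrivial_iff_ne_bot N).2 hN
    obtain ⟨p, hp, h1, h2⟩ := elemAb_of_aut_trans (N := N) fun x y hx hy => by
      have h3 : ∀ x : N, x ≠ 1 → a ≠ x • a := fun x hx e => hx (by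
        have : x ∈ stabilizer N a := e.symm
        rwa [hr] at this)
      obtain ⟨g, hg1, hg2⟩ := two_trans_iff.1 hG a (x • a) a (y • a) (h3 x hx) (h3 y hy)
      refine ⟨MulAut.conjNormal g, eq_of_smul_eq_of_stab_bot (hr a) ?_⟩
      show (g * x * g⁻¹) • a = _
      rw [mul_smul, mul_smul, inv_smul_eq_iff.2 hg1.symm]; exact hg2
    exact ⟨⟨⟨h2⟩⟩, ⟨p, hp, fun n hn => congrArg Subtype.val (h1 ⟨n, hn⟩)⟩, hr⟩
  right
  have hprim : IsPreprimitive N α := by
    refine prim_of_rel fun r0 hr0 hi0 => ?_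
    by_contra hcon
    obtain ⟨r, ⟨hre, hri, hr1, hr2⟩, hrm⟩ := exists_minimal_of_wellFoundedLT (fun r : α → α → Prop =>
      Equivalence r ∧ (∀ (g : N) x y, r x y → r (g • x) (g • y)) ∧ (¬ ∀ x y, r x y → x = y) ∧ ¬ ∀ x y, r x y)
      ⟨r0, hr0, hi0, fun h => hcon (Or.inl h), fun h => hcon (Or.inr h)⟩
    have hcj : ∀ (k : G) (g : N) x y, r (k • x) (k • y) → r (k • g • x) (k • g • y) := by
      intro k g x y h
      have := hri (MulAut.conjNormal k g) _ _ h
      have e : ∀ z : α, (MulAut.conjNormal k g) • k • z = k • g • z := fun z => by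
        show (k * g * k⁻¹) • k • z = _
        rw [mul_smul, mul_smul, inv_smul_smul]; rfl
      rwa [e, e] at this
    have key : ∀ (g k : G) x y, x ≠ y → r (g • x) (g • y) → r (k • x) (k • y) →
        ∀ u v, r (g • u) (g • v) → r (k • u) (k • v) := by
      intro g k x y hxy h1 h2 u v h3
      have := hrm (y := fun u v => r u v ∧ r ((k * g⁻¹) • u) ((k * g⁻¹) • v)) ⟨⟨fun x => ⟨hre.refl _, hre.refl _⟩,
        fun h => ⟨hre.symm h.1, hre.symm h.2⟩, fun h h' => ⟨hre.trans h.1 h'.1, hre.trans h.2 h'.2⟩⟩,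
        fun n x y h => ⟨hri n _ _ h.1, hcj _ n _ _ h.2⟩,
        fun h => hxy (smul_left_cancel g (h _ _ ⟨h1, by simpa [mul_smul] using h2⟩)),
        fun h => hr2 fun x y => (h x y).1⟩ (fun u v h => h.1)
      simpa [mul_smul] using (this _ _ h3).2
    push Not at hr1
    obtain ⟨x0, y0, h0, hne⟩ := hr1
    have hex : ∀ x y, x ≠ y → ∃ g : G, r (g • x) (g • y) := fun x y h => by
      obtain ⟨g, h1, h2⟩ := two_trans_iff.1 hG x y x0 y0 h hne
      exact ⟨g, by rw [h1, h2]; exact h0⟩
    have step : ∀ (h : N) a b c, a ≠ b → h • a = a → h • b = b → ∀ g : G, r (g • a) (g • b) →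
        ¬ r (g • a) (g • c) → h • c = c := by
      intro h a b c hab ha hb g h1 h2
      by_contra hc
      have hac : a ≠ c := by rintro rfl; exact h2 (hre.refl _)
      have hbc : b ≠ c := by rintro rfl; exact h2 h1
      obtain ⟨g2, h3⟩ := hex a c hac
      obtain ⟨g3, h4⟩ := hex b c hbc
      have h5 := hcj g2 h _ _ h3
      have h6 := hcj g3 h _ _ h4
      rw [ha] at h5
      rw [hb] at h6
      have h7 := key g3 g2 _ _ hc (hre.trans (hre.symm h6) h4) (hre.trans (hre.symm h5) h3) _ _ h4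
      exact h2 (key g2 g a b hab (hre.trans h3 (hre.symm h7)) h1 _ _ h3)
    obtain ⟨K, hKn, hKN, hK, hK2⟩ := frob_kernel_normal (α := α) N (by
      intro a b hab h hh ha hb
      apply eq_one_of_fix
      intro c
      obtain ⟨g, hg⟩ := hex a b hab
      by_cases h1 : r (g • a) (g • c)
      · by_cases hac : a = c
        · exact hac ▸ ha
        obtain ⟨d, hd⟩ : ∃ d, ¬ r (g • a) (g • d) := by
          by_contra h2
          push Not at h2
          exact hr2 fun x y => by simpa using hre.trans (hre.symm (h2 (g⁻¹ • x))) (h2 (g⁻¹ • y))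
        have had : a ≠ d := by rintro rfl; exact hd (hre.refl _)
        obtain ⟨k, hk⟩ := hex a d had
        exact step ⟨h, hh⟩ a d c had ha (step ⟨h, hh⟩ a b d hab ha hb g hg hd) k hk
          fun e => hd (key k g a c hac e h1 _ _ hk)
      · exact step ⟨h, hh⟩ a b c hab ha hb g hg h1)
    rcases hmin K hKn hKN with rfl | rfl
    · obtain ⟨b, hb⟩ := exists_ne a
      obtain ⟨g, hg⟩ := hK.exists_smul_eq a b
      rw [Subsingleton.elim g 1, one_smul] at hg
      exact hb hg.symm
    · exact hr hK2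
  refine ⟨?_, hprim⟩
  obtain ⟨S, m, f, -, hS, hf, hfr, -⟩ := S0721.exists_prod N hN hmin
  have e : (Fin m → S) ≃* N := (MonoidHom.ofInjective hf).trans (MulEquiv.subgroupCongr hfr)
  rcases m with _ | _ | m
  · exact absurd (eq_bot_iff.2 fun x hx => by
      obtain ⟨y, hy⟩ := e.surjective ⟨x, hx⟩
      rw [Subsingleton.elim y 1, map_one] at hy
      exact congrArg Subtype.val hy.symm) hN
  · exact (e.symm.trans (MulEquiv.funUnique (Fin 1) S)).isSimpleGroup
  exfalso
  have htr : ∀ i, ∀ x y : α, ∃ s : S, e (Pi.mulSingle i s) • x = y := by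
    intro i x y
    have hn : (MonoidHom.mulSingle (fun _ : Fin (m + 2) => S) i).range.Normal := ⟨by
      rintro _ ⟨s, rfl⟩ g
      refine ⟨g i * s * (g i)⁻¹, funext fun j => ?_⟩
      by_cases h : j = i
      · subst h; simp
      · simp [h]⟩
    have := hn.map e.toMonoidHom e.surjective
    obtain ⟨⟨_, _, ⟨s, rfl⟩, rfl⟩, hg⟩ := (normal_trans_of_prim (α := α)
      ((MonoidHom.mulSingle (fun _ : Fin (m + 2) => S) i).range.map e.toMonoidHom) (by
        rw [Ne, Subgroup.map_eq_bot_iff_of_injective _ e.injective, MonoidHom.range_eq_bot_iff]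
        obtain ⟨s, hs⟩ := exists_ne (1 : S)
        exact fun h => hs (by simpa using congrFun (DFunLike.congr_fun h s) i))).exists_smul_eq x y
    exact ⟨s, hg⟩
  have hsr : ∀ i (z : Fin (m + 2) → S), z i = 1 → e z • a = a → z = 1 := by
    intro i z hz h
    apply e.injective
    rw [map_one]
    apply eq_one_of_smul_eq (α := α)
    intro b
    obtain ⟨s, rfl⟩ := htr i a b
    have : z * Pi.mulSingle i s = Pi.mulSingle i s * z := funext fun j => by
      by_cases h : j = i
      · subst h; simp [hz]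
      · simp [h]
    rw [← mul_smul, ← map_mul, this, map_mul, mul_smul, h]
  have hc1 : Nat.card S = Nat.card α := Nat.card_congr (Equiv.ofBijective (fun s => e (Pi.mulSingle 0 s) • a)
    ⟨fun s t h => by
      have := hsr 1 (Pi.mulSingle 0 (t⁻¹ * s)) (by simp) (by
        rw [Pi.mulSingle_mul, Pi.mulSingle_inv, map_mul, map_inv, mul_smul, inv_smul_eq_iff]; exact h)
      simpa [inv_mul_eq_one, eq_comm] using congrFun this 0, fun b => htr 0 a b⟩)
  have hc2 : Nat.card (N.subgroupOf (stabilizer G a)) ∣ Nat.card S := Subgroup.card_dvd_of_injective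
    (MonoidHom.mk' (fun x => e.symm ⟨x.1.1, x.2⟩ 0) fun x y => by
      rw [← Pi.mul_apply, ← map_mul]; rfl) (by
      rw [injective_iff_map_eq_one]
      intro x hx
      have := hsr 0 (e.symm ⟨x.1.1, x.2⟩) hx (by rw [MulEquiv.apply_symm_apply]; exact x.1.2)
      rw [MulEquiv.symm_apply_eq, map_one] at this
      have h9 : x.1.1 = 1 := congrArg Subtype.val this
      exact Subtype.ext (Subtype.ext h9))
  obtain ⟨b, hb⟩ := exists_ne a
  have hidx : ∀ x ≠ a, (stabilizer (N.subgroupOf (stabilizer G a)) x).index =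
      (stabilizer (N.subgroupOf (stabilizer G a)) b).index := by
    intro x hx
    obtain ⟨g, hg1, hg2⟩ := two_trans_iff.1 hG a b a x hb.symm hx.symm
    rw [← card_orbit_eq_index, ← card_orbit_eq_index, ← hg2]
    have := smul_orbit_eq_orbit_smul (N.subgroupOf (stabilizer G a)) b (⟨g, hg1⟩ : stabilizer G a)
    rw [show g • b = (⟨g, hg1⟩ : stabilizer G a) • b from rfl, ← this, Nat.card_coe_set_eq, Nat.card_coe_set_eq,
      Set.ncard_smul_set]
  have hd := dvd_ncard_of_invariant (G := N.subgroupOf (stabilizer G a)) (S := {a}ᶜ) (Set.toFinite _)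
    (fun g x hx e => hx (smul_left_cancel g (e.trans g.1.2.symm))) fun x hx => (hidx x hx).symm.dvd
  have hd2 := ((Subgroup.index_dvd_card (stabilizer (N.subgroupOf (stabilizer G a)) b)).trans hc2)
  rw [hc1, ← Set.ncard_add_ncard_compl {a}, Set.ncard_singleton, Nat.dvd_add_left hd, Nat.dvd_one] at hd2
  refine hr fun c => ?_
  obtain ⟨k, rfl⟩ := exists_smul_eq N a c
  have h3 : stabilizer N a = ⊥ := eq_bot_iff.2 fun g hg => eq_one_of_smul_eq (α := α) fun x => by
    by_cases hx : x = a
    · exact hx ▸ hg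
    · have := hidx x hx
      rw [hd2, Subgroup.index_eq_one] at this
      exact (this ▸ Subgroup.mem_top (⟨⟨g.1, hg⟩, g.2⟩ : N.subgroupOf (stabilizer G a)) :)
  rw [stabilizer_smul_eq_stabilizer_map_conj, h3, Subgroup.map_bot]

end Cfsg.Agent.S0700
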