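import Cfsg.Statements.S0701
import Mathlib
import Cfsg.Agent.Lib.Perm.Basic

set_option autoImplicit false
open Cfsg

namespace Cfsg.Agent.S0701

open Cfsg.Agent.Perm MulAction

/-- The centraliser in the full symmetric group of a transitive permutation group `G` is semiregular, and it is transitive if and only if `G` is regular. -/
theorem result {α : Type*} (G : Subgroup (Equiv.Perm α)) [MulAction.IsPretransitive G α] : (∀ c ∈ Subgroup.centralizer (G : Set (Equiv.Perm α)), ∀ a : α, c a = a → c = 1) ∧ (MulAction.IsPretransitive (Subgroup.centralizer (G : Set (Equiv.Perm α))) α ↔ ∀ a : α, MulAction.stabilizer G a = ⊥) := by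
  refine ⟨fun c hc a ha => comm_perm_eq_one (mem_centralizer_perm.1 hc) ha, ?_, ?_⟩
  · intro h a
    rw [eq_bot_iff]
    intro g hg
    apply eq_one_of_fix
    intro b
    obtain ⟨c, rfl⟩ := h.exists_smul_eq a b
    have := mem_centralizer_perm.1 c.2 g a
    rw [mem_stabilizer_iff.1 hg] at this
    exact this.symm
  · intro h
    refine ⟨fun x y => ?_⟩
    obtain ⟨c, hc1, hc2⟩ := exists_comm_perm (G := G) (x := x) (y := y) (by rw [h, h])
    exact ⟨⟨c, mem_centralizer_perm.2 hc2⟩, hc1⟩

end Cfsg.Agent.S0701
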