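import Cfsg.Statements.S0702
import Mathlib
import Cfsg.Agent.Lib.Perm.Basic

set_option autoImplicit false
open Cfsg

namespace Cfsg.Agent.S0702

open Cfsg.Agent.Perm MulAction

/-- For a transitive permutation group `G` on a finite set, the centraliser of `G` in the symmetric group is isomorphic to `N_G(G_ω)/G_ω`, and its orbit of `ω` is the set of fixed points of `G_ω`. -/
theorem result {α : Type*} [Finite α] (G : Subgroup (Equiv.Perm α)) [MulAction.IsPretransitive G α] (a : α) : Nonempty (Subgroup.centralizer (G : Set (Equiv.Perm α)) ≃* Subgroup.normalizer ((MulAction.stabilizer G a : Subgroup G) : Set G) ⧸ (MulAction.stabilizer G a).subgroupOf (Subgroup.normalizer ((MulAction.stabilizer G a : Subgroup G) : Set G))) ∧ MulAction.orbit (Subgroup.centralizer (G : Set (Equiv.Perm α))) a = MulAction.fixedPoints (MulAction.stabilizer G a) α := by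
  set C := Subgroup.centralizer (G : Set (Equiv.Perm α)) with hC
  set N := Subgroup.normalizer ((MulAction.stabilizer G a : Subgroup G) : Set G) with hN
  have hst : ∀ n : G, n ∈ N ↔ stabilizer G a = stabilizer G (n⁻¹ • a) := by
    intro n
    rw [hN, Subgroup.mem_normalizer_iff, SetLike.ext_iff]
    refine forall_congr' fun g => iff_congr Iff.rfl ?_
    simp only [mem_stabilizer_iff, mul_smul]
    rw [← eq_inv_smul_iff]
  constructor
  · choose c hc1 hc2 using fun n : N => exists_comm_perm ((hst n).1 n.2)
    have uniq : ∀ d e : Equiv.Perm α, d ∈ C → e ∈ C → d a = e a → d = e := by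
      intro d e hd he h
      have : e⁻¹ * d = 1 := comm_perm_eq_one (mem_centralizer_perm.1 (C.mul_mem (C.inv_mem he) hd))
        (a := a) (by simp [h])
      exact (inv_mul_eq_one.1 this).symm
    have hcC : ∀ n, c n ∈ C := fun n => mem_centralizer_perm.2 (hc2 n)
    let φ : N →* C := MonoidHom.mk' (fun n => ⟨c n, hcC n⟩) (by
      intro n m
      apply Subtype.ext
      apply uniq _ _ (hcC _) (C.mul_mem (hcC _) (hcC _))
      show c (n * m) a = c n (c m a)
      rw [hc1, hc1, hc2, hc1]
      simp [mul_smul])
    have hsurj : Function.Surjective φ := by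
      intro d
      obtain ⟨g, hg⟩ := exists_smul_eq G a ((d : Equiv.Perm α) a)
      have hd := mem_centralizer_perm.1 d.2
      have : g⁻¹ ∈ N := by
        rw [hst, inv_inv, hg]
        ext k
        simp only [mem_stabilizer_iff]
        rw [← hd, Equiv.apply_eq_iff_eq]
      refine ⟨⟨g⁻¹, this⟩, Subtype.ext (uniq _ _ (hcC _) d.2 ?_)⟩
      show c _ a = _
      rw [hc1, ← hg]; simp
    have hker : φ.ker = (stabilizer G a).subgroupOf N := by
      ext n
      rw [MonoidHom.mem_ker, Subgroup.mem_subgroupOf, mem_stabilizer_iff]
      constructor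
      · intro h
        have h1 : c n = 1 := congrArg Subtype.val h
        have h2 := hc1 n
        rw [h1, eq_inv_smul_iff] at h2
        exact h2
      · intro h
        apply Subtype.ext
        apply uniq _ _ (hcC _) C.one_mem
        rw [hc1, inv_smul_eq_iff]; exact h.symm
    exact ⟨((QuotientGroup.quotientMulEquivOfEq hker.symm).trans
      (QuotientGroup.quotientKerEquivOfSurjective φ hsurj)).symm⟩
  · ext b
    constructor
    · rintro ⟨c, rfl⟩ g
      have := mem_centralizer_perm.1 c.2 g a
      rw [mem_stabilizer_iff.1 g.2] at this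
      exact this.symm
    · intro hb
      have h1 : stabilizer G a ≤ stabilizer G b := fun g hg => hb ⟨g, hg⟩
      have h2 : stabilizer G a = stabilizer G b :=
        Subgroup.eq_of_le_of_card_ge h1 (card_stab_eq b a).le
      obtain ⟨c, hc1, hc2⟩ := exists_comm_perm h2
      exact ⟨⟨c, mem_centralizer_perm.2 hc2⟩, hc1⟩

end Cfsg.Agent.S0702
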