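import Cfsg.Statements.S0703
import Mathlib
import Cfsg.Agent.Lib.Perm.Count

set_option autoImplicit false
open Cfsg

namespace Cfsg.Agent.S0703

open Cfsg.Agent.Perm MulAction

theorem mem_cent {α : Type*} {G : Subgroup (Equiv.Perm α)} {M : Subgroup G} {c : Equiv.Perm α} :
    c ∈ Subgroup.centralizer ((M.map G.subtype : Subgroup (Equiv.Perm α)) : Set (Equiv.Perm α)) ↔
    ∀ (m : M) (z : α), c (m • z) = m • c z := by
  rw [mem_centralizer_perm]
  constructor
  · intro h m z
    exact h ⟨_, m, m.2, rfl⟩ z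
  · rintro h ⟨_, m, hm, rfl⟩ z
    exact h ⟨m, hm⟩ z

/-- a transitive subgroup commuting with a transitive `M` is its full centraliser -/
theorem cent_eq {α : Type*} {G : Subgroup (Equiv.Perm α)} {M N : Subgroup G}
    (hMt : IsPretransitive M α) (hNt : IsPretransitive N α)
    (hc : ∀ x ∈ M, ∀ y ∈ N, x * y = y * x) :
    Subgroup.centralizer ((M.map G.subtype : Subgroup (Equiv.Perm α)) : Set (Equiv.Perm α)) = N.map G.subtype := by
  have h1 : ∀ n : N, ∀ (m : M) (z : α), n • m • z = m • n • z := fun n m z => by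
    show (n : G) • (m : G) • z = (m : G) • (n : G) • z
    rw [← mul_smul, ← mul_smul, hc _ m.2 _ n.2]
  apply le_antisymm
  · intro c hc'
    by_cases hne : Nonempty α
    swap
    · rw [not_nonempty_iff] at hne
      rw [Subsingleton.elim c 1]; exact Subgroup.one_mem _
    obtain ⟨a⟩ := hne
    obtain ⟨n, hn⟩ := hNt.exists_smul_eq a (c a)
    refine ⟨n, n.2, ?_⟩
    ext z
    obtain ⟨m, rfl⟩ := hMt.exists_smul_eq a z
    rw [mem_cent.1 hc', ← hn]
    exact h1 n m a
  · rintro _ ⟨n, hn, rfl⟩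
    exact mem_cent.2 (h1 ⟨n, hn⟩)

theorem reg_of_comm {α : Type*} {G : Subgroup (Equiv.Perm α)} {M N : Subgroup G}
    (hMt : IsPretransitive M α) (hc : ∀ x ∈ M, ∀ y ∈ N, x * y = y * x) (a : α) :
    stabilizer N a = ⊥ := by
  rw [eq_bot_iff]
  intro n hn
  apply Subtype.ext
  apply eq_one_of_fix
  intro z
  obtain ⟨m, rfl⟩ := hMt.exists_smul_eq a z
  show (n : G) • (m : G) • a = (m : G) • a
  rw [← mul_smul, ← hc _ m.2 _ n.2, mul_smul]
  exact congrArg _ hn

theorem le_of_comm {α : Type*} {G : Subgroup (Equiv.Perm α)} {M N L : Subgroup G}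
    (h : Subgroup.centralizer ((M.map G.subtype : Subgroup (Equiv.Perm α)) : Set (Equiv.Perm α)) = N.map G.subtype)
    (hc : ∀ x ∈ M, ∀ y ∈ L, x * y = y * x) : L ≤ N := by
  intro y hy
  have : (y : Equiv.Perm α) ∈ N.map G.subtype := by
    rw [← h, mem_cent]
    intro m z
    show y • (m : G) • z = (m : G) • y • z
    rw [← mul_smul, ← mul_smul, hc _ m.2 _ hy]
  obtain ⟨n, hn, e⟩ := this
  rwa [← show n = y from Subtype.ext e]

/-- An abelian transitive minimal normal subgroup `M` of a permutation group on a finite set is self-centralising in the symmetric group, regular, elementary abelian, and is the unique minimal normal subgroup. -/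
theorem result {α : Type*} [Finite α] (G : Subgroup (Equiv.Perm α)) (M : Subgroup G) [M.Normal] (hM : M ≠ ⊥) (hmin : ∀ L : Subgroup G, L.Normal → L ≤ M → L = ⊥ ∨ L = M) (hab : IsMulCommutative M) (htrans : MulAction.IsPretransitive M α) : Subgroup.centralizer ((M.map G.subtype : Subgroup (Equiv.Perm α)) : Set (Equiv.Perm α)) = M.map G.subtype ∧ (∀ a : α, MulAction.stabilizer M a = ⊥) ∧ (∃ p : ℕ, p.Prime ∧ ∀ m ∈ M, m ^ p = 1) ∧ ∀ L : Subgroup G, L.Normal → L ≠ ⊥ → (∀ L' : Subgroup G, L'.Normal → L' ≤ L → L' = ⊥ ∨ L' = L) → L = M := by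
  have hc : ∀ x ∈ M, ∀ y ∈ M, x * y = y * x := fun x hx y hy =>
    congrArg Subtype.val (hab.is_comm.comm (⟨x, hx⟩ : M) ⟨y, hy⟩)
  have h1 := cent_eq htrans htrans hc
  refine ⟨h1, reg_of_comm htrans hc, elem_of_minNormal_comm M hM hmin hc, fun L hL hL1 hLmin => ?_⟩
  by_contra hne
  have := le_of_comm h1 (L := L) fun x hx y hy =>
    commute_of_minNormal_ne inferInstance hL hmin hLmin hM (Ne.symm hne) hx hy
  rcases hmin L hL this with h | h
  · exact hL1 h
  · exact hne h

end Cfsg.Agent.S0703
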