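import Cfsg.Statements.S0704
import Mathlib
import Cfsg.Agent.Lib.Perm.Count
import Cfsg.Agent.S0703

set_option autoImplicit false
open Cfsg

namespace Cfsg.Agent.S0704

open Cfsg.Agent.Perm MulAction S0703

/-- Two distinct transitive minimal normal subgroups `M`, `N` of a permutation group are regular, non-abelian, isomorphic, each other's centraliser in the symmetric group, and the only minimal normal subgroups. -/
theorem result {α : Type*} (G : Subgroup (Equiv.Perm α)) (M N : Subgroup G) [M.Normal] [N.Normal] (hM : M ≠ ⊥) (hN : N ≠ ⊥) (hMmin : ∀ L : Subgroup G, L.Normal → L ≤ M → L = ⊥ ∨ L = M) (hNmin : ∀ L : Subgroup G, L.Normal → L ≤ N → L = ⊥ ∨ L = N) (hMN : M ≠ N) (hMt : MulAction.IsPretransitive M α) (hNt : MulAction.IsPretransitive N α) : (∀ a : α, MulAction.stabilizer M a = ⊥) ∧ (∀ a : α, MulAction.stabilizer N a = ⊥) ∧ ¬ IsMulCommutative M ∧ Nonempty (M ≃* N) ∧ Subgroup.centralizer ((M.map G.subtype : Subgroup (Equiv.Perm α)) : Set (Equiv.Perm α)) = N.map G.subtype ∧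 Subgroup.centralizer ((N.map G.subtype : Subgroup (Equiv.Perm α)) : Set (Equiv.Perm α)) = M.map G.subtype ∧ ∀ L : Subgroup G, L.Normal → L ≠ ⊥ → (∀ L' : Subgroup G, L'.Normal → L' ≤ L → L' = ⊥ ∨ L' = L) → L = M ∨ L = N := by
  have hc : ∀ x ∈ M, ∀ y ∈ N, x * y = y * x := fun x hx y hy =>
    commute_of_minNormal_ne inferInstance inferInstance hMmin hNmin hM hMN hx hy
  have hc' : ∀ x ∈ N, ∀ y ∈ M, x * y = y * x := fun x hx y hy => (hc y hy x hx).symm
  have h1 := cent_eq hMt hNt hc
  have h2 := cent_eq hNt hMt hc'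
  have r1 := reg_of_comm hNt hc'
  have r2 := reg_of_comm hMt hc
  refine ⟨r1, r2, fun hab => ?_, ?_, h1, h2, fun L hL hL1 hLmin => ?_⟩
  · have := le_of_comm h1 (L := M) fun x hx y hy =>
      congrArg Subtype.val (hab.is_comm.comm (⟨x, hx⟩ : M) ⟨y, hy⟩)
    rcases hNmin M inferInstance this with h | h
    · exact hM h
    · exact hMN h
  · by_cases hne : Nonempty α
    swap
    · rw [not_nonempty_iff] at hne
      exact absurd (Subsingleton.elim _ _) hM
    obtain ⟨a⟩ := hne
    choose f hf using fun m : M => hNt.exists_smul_eq a (m⁻¹ • a)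
    have key : ∀ (m : M) (n : N) (z : α), n • m • z = m • n • z := fun m n z => by
      show (n : G) • (m : G) • z = (m : G) • (n : G) • z
      rw [← mul_smul, ← mul_smul, hc _ m.2 _ n.2]
    refine ⟨MulEquiv.ofBijective (MonoidHom.mk' f fun x y => ?_) ⟨fun x y h => ?_, fun n => ?_⟩⟩
    · apply eq_of_smul_eq_of_stab_bot (r2 a)
      rw [hf, mul_smul, hf, key, hf, mul_inv_rev, mul_smul]
    · have h' : f x = f y := h
      apply inv_injective
      apply eq_of_smul_eq_of_stab_bot (r1 a)
      rw [← hf, ← hf, h']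
    · obtain ⟨m, hm⟩ := hMt.exists_smul_eq a (n • a)
      refine ⟨m⁻¹, eq_of_smul_eq_of_stab_bot (r2 a) ?_⟩
      show f m⁻¹ • a = _
      rw [hf, inv_inv, hm]
  · by_cases hne : L = M
    · exact Or.inl hne
    have := le_of_comm h1 (L := L) fun x hx y hy =>
      commute_of_minNormal_ne inferInstance hL hMmin hLmin hM (Ne.symm hne) hx hy
    rcases hNmin L hL this with h | h
    · exact absurd h hL1
    · exact Or.inr h

end Cfsg.Agent.S0704
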