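import Cfsg.Statements.S0705
import Mathlib
import Cfsg.Agent.Lib.Perm.Count

set_option autoImplicit false
open scoped Pointwise
open Cfsg

namespace Cfsg.Agent.S0705

open Cfsg.Agent.Perm MulAction

/-- A generously `k`-transitive permutation group (every `(k+1)`-subset has its full symmetric group induced by the setwise stabiliser) of degree greater than `k` is `k`-transitive, and for a `k`-subset the setwise and pointwise stabilisers have the same orbits outside it. -/
theorem result {α : Type*} [Fintype α] [DecidableEq α] (G : Subgroup (Equiv.Perm α)) {k : ℕ} (hk : k < Fintype.card α) (hgen : ∀ s : Finset α, s.card = k + 1 → ∀ σ : Equiv.Perm ↥s, ∃ g ∈ G, ∀ x : ↥s, g (x : α) = σ x) : MulAction.IsMultiplyPretransitive G α k ∧ ∀ s : Finset α, s.card = k → ∀ a b : α, a ∉ s → b ∉ s → (∃ g ∈ G, g • s = s ∧ g a = b) → ∃ g ∈ G, (∀ x ∈ s, g x = x) ∧ g a = b := by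
  have key : ∀ (s : Finset α) (π : Equiv.Perm α), s.card = k + 1 → (∀ x ∈ s, π x ∈ s) → ∃ g ∈ G, ∀ x ∈ s, g x = π x := by
    intro s π hs hπ
    obtain ⟨g, hg, h⟩ := hgen s hs (π.subtypePermOfFintype hπ)
    exact ⟨g, hg, fun x hx => h ⟨x, hx⟩⟩
  constructor
  · apply multTrans_of_update (by rwa [Nat.card_eq_fintype_card])
    intro x hx i c hc
    obtain ⟨g, hg, h⟩ := key (insert c (Finset.univ.image x)) (Equiv.swap (x i) c)
      (by rw [Finset.card_insert_of_notMem (by simpa using hc), Finset.card_image_of_injective _ hx]; simp)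
      (fun y hy => by
        rw [Equiv.swap_apply_def]
        split_ifs <;> simp_all)
    refine ⟨⟨g, hg⟩, ?_, fun j hj => ?_⟩
    · rw [Perm.sub_smul, h _ (by simp), Equiv.swap_apply_left]
    · rw [Perm.sub_smul, h _ (by simp), Equiv.swap_apply_of_ne_of_ne (fun e => hj (hx e)) (fun e => hc ⟨j, e⟩)]
  · rintro s hs a b ha hb ⟨g, hg, hgs, hgab⟩
    have h1 : ∀ x ∈ s, g⁻¹ x ∈ s := fun x hx => by
      rw [← hgs, Finset.mem_smul_finset] at hx
      obtain ⟨y, hy, rfl⟩ := hx
      simpa using hy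
    have h2 : ∀ x ∈ s, Equiv.swap a b (g⁻¹ x) = g⁻¹ x := fun x hx =>
      Equiv.swap_apply_of_ne_of_ne (fun e => ha (e ▸ h1 x hx)) (fun e => hb (e ▸ h1 x hx))
    have h3 : Equiv.swap a b (g⁻¹ b) = b := by rw [← hgab]; simp
    have h4 : ∀ x ∈ s, g x ∈ s := fun x hx => hgs ▸ Finset.smul_mem_smul_finset hx
    obtain ⟨h, hh, h'⟩ := key (insert b s) (Equiv.swap a b * g⁻¹)
      (by rw [Finset.card_insert_of_notMem hb, hs]) (fun x hx => by
        rw [Finset.mem_insert] at hx ⊢
        rcases hx with rfl | hx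
        · exact Or.inl h3
        · right; rw [Equiv.Perm.mul_apply, h2 x hx]; exact h1 x hx)
    refine ⟨h * g, G.mul_mem hh hg, fun x hx => ?_, ?_⟩
    · rw [Equiv.Perm.mul_apply, h' _ (by simp [h4 x hx]), Equiv.Perm.mul_apply, h2 _ (h4 x hx)]; simp
    · rw [Equiv.Perm.mul_apply, hgab, h' _ (by simp), Equiv.Perm.mul_apply, h3]

end Cfsg.Agent.S0705
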