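import Cfsg.Statements.S0708

set_option autoImplicit false
open Cfsg

namespace Cfsg.Agent.S0708

/-- Tits' argument: a sharply 4-transitive group (no finiteness assumed) has finite degree at most 11, and at most 6 when the degree is even. -/
theorem result {G : Type*} [Group G] {Ω : Type*} [MulAction G Ω] (h4 : MulAction.IsMultiplyPretransitive G Ω 4) (hsharp : ∀ x : Fin 4 ↪ Ω, MulAction.stabilizer G x = ⊥) (hne : Nonempty (Fin 4 ↪ Ω)) : Finite Ω ∧ Nat.card Ω ≤ 11 ∧ (Even (Nat.card Ω) → Nat.card Ω ≤ 6) := by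
  open Pointwise commutatorElement Subgroup in
  classical
  have H4 := h4.exists_smul_eq
  have emb : ∀ a b c d : Ω, a ≠ b → a ≠ c → a ≠ d → b ≠ c → b ≠ d → c ≠ d → ∃ x : Fin 4 ↪ Ω,
      x 0 = a ∧ x 1 = b ∧ x 2 = c ∧ x 3 = d := fun a b c d h1 h2 h3 h4 h5 h6 =>
    ⟨⟨![a, b, c, d], fun i j => by
      fin_cases i <;> fin_cases j <;> simp [h1, h2, h3, h4, h5, h6, h1.symm, h2.symm, h3.symm, h4.symm, h5.symm, h6.symm]⟩,
      rfl, rfl, rfl, rfl⟩
  have uq : ∀ (g k : G) (a b c d : Ω), a ≠ b → a ≠ c → a ≠ d → b ≠ c → b ≠ d → c ≠ d →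
      g • a = k • a → g • b = k • b → g • c = k • c → g • d = k • d → g = k := fun g k a b c d h1 h2 h3 h4 h5 h6 e1 e2 e3 e4 => by
    obtain ⟨x, rfl, rfl, rfl, rfl⟩ := emb a b c d h1 h2 h3 h4 h5 h6
    refine (inv_mul_eq_one.1 ((Subgroup.eq_bot_iff_forall _).1 (hsharp x) (k⁻¹ * g) (Function.Embedding.ext fun i => ?_))).symm
    show (k⁻¹ * g) • x i = x i
    rw [mul_smul, inv_smul_eq_iff]
    fin_cases i <;> assumption
  have ex : ∀ a b c d : Ω, a ≠ b → a ≠ c → a ≠ d → b ≠ c → b ≠ d → c ≠ d → ∃ g : G,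
      g • a = a ∧ g • b = b ∧ g • c = d ∧ g • d = c ∧ g * g = 1 := fun a b c d h1 h2 h3 h4 h5 h6 => by
    obtain ⟨x, x0, x1, x2, x3⟩ := emb a b c d h1 h2 h3 h4 h5 h6
    obtain ⟨y, y0, y1, y2, y3⟩ := emb a b d c h1 h3 h2 h5 h4 h6.symm
    obtain ⟨g, e⟩ := H4 x y
    have k : ∀ i, g • x i = y i := fun i => DFunLike.congr_fun e i
    have k0 := k 0; have k1 := k 1; have k2 := k 2; have k3 := k 3
    rw [x0, y0] at k0; rw [x1, y1] at k1; rw [x2, y2] at k2; rw [x3, y3] at k3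
    exact ⟨g, k0, k1, k2, k3, uq _ _ a b c d h1 h2 h3 h4 h5 h6 (by simp [mul_smul, k0]) (by simp [mul_smul, k1])
      (by simp [mul_smul, k2, k3]) (by simp [mul_smul, k2, k3])⟩
  have L3 : ∀ g : G, g ≠ 1 → {y : Ω | g • y = y}.encard ≤ 3 := fun g hg => by
    by_contra e
    obtain ⟨t, ht, h⟩ := Set.exists_subset_encard_eq (k := 4) (Order.add_one_le_of_lt (not_le.1 e))
    obtain ⟨a, b, c, d, h1, h2, h3, h4, h5, h6, rfl⟩ := Set.encard_eq_four.1 h
    exact hg (uq _ _ a b c d h1 h2 h3 h4 h5 h6 (by simpa using ht (by simp : a ∈ _)) (by simpa using ht (by simp : b ∈ _))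
      (by simpa using ht (by simp : c ∈ _)) (by simpa using ht (by simp : d ∈ _)))
  obtain ⟨x⟩ := hne
  obtain ⟨a, b, c, d, ab, ac, ad, bc, bd, cd⟩ : ∃ a b c d : Ω, a ≠ b ∧ a ≠ c ∧ a ≠ d ∧ b ≠ c ∧ b ≠ d ∧ c ≠ d :=
    ⟨x 0, x 1, x 2, x 3, by simp⟩
  obtain ⟨s, sc, sd, sa, sb, ss⟩ := ex c d a b cd ac.symm bc.symm ad.symm bd.symm ab
  have s2 : ∀ y : Ω, s • s • y = y := fun y => by rw [smul_smul, ss, one_smul]
  have fa : ∀ y : Ω, s • y = y → a ≠ y ∧ b ≠ y := fun y h =>
    ⟨fun e => ab (by rw [← sa, e, h]), fun e => ab (by rw [← sb, e, h])⟩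
  have key : ∀ y : Ω, y ≠ a → y ≠ b → s • y ≠ y → ∀ p q : Ω, p ≠ q → s • p = p → s • q = q → ∃ r : G, r • a = a ∧ r • b = b ∧
      (s * r) • y = y ∧ (∀ z : Ω, r • r • z = z) ∧ (∀ z : Ω, s • z = z → s • r • z = r • z) ∧ (r • p ≠ p ∨ r • q ≠ q) := by
    intro y ya yb sy p q pq sp sq
    have y1 : a ≠ s • y := fun e => yb (by rw [← s2 y, ← e, sa])
    have y2 : b ≠ s • y := fun e => ya (by rw [← s2 y, ← e, sb])
    obtain ⟨r, ra, rb, r1, r2, rr⟩ := ex a b y (s • y) ab ya.symm y1 yb.symm y2 sy.symm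
    have cm : s * r = r * s := uq _ _ a b y (s • y) ab ya.symm y1 yb.symm y2 sy.symm (by simp [mul_smul, ra, rb, sa])
      (by simp [mul_smul, ra, rb, sb]) (by simp [mul_smul, r1, r2, s2]) (by simp [mul_smul, r1, r2, s2])
    refine ⟨r, ra, rb, by rw [mul_smul, r1, s2], fun z => by rw [smul_smul, rr, one_smul],
      fun z h => by rw [smul_smul, cm, mul_smul, h], by_contra fun e => ?_⟩
    push Not at e
    have := uq r 1 a b p q ab (fa p sp).1 (fa q sq).1 (fa p sp).2 (fa q sq).2 pq (by simp [ra]) (by simp [rb]) (by simp [e.1])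
      (by simp [e.2])
    exact sy (by rw [← r1, this, one_smul])
  have T : ∀ p q : Ω, p ≠ q → s • p = p → s • q = q → ∃ t : G, s * t ≠ 1 ∧ (∀ r : G, r • a = a → r • b = b → r • p = q →
      r • q = p → r = t) ∧ ∀ z : Ω, (∀ w : Ω, s • w = w → w = p ∨ w = q ∨ w = z) → s • z = z → z ≠ p → z ≠ q → (s * t) • z = z := by
    intro p q pq sp sq
    obtain ⟨t, ta, tb, tp, tq, tt⟩ := ex a b p q ab (fa p sp).1 (fa q sq).1 (fa p sp).2 (fa q sq).2 pq
    have U := fun g k => uq g k a b p q ab (fa p sp).1 (fa q sq).1 (fa p sp).2 (fa q sq).2 pq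
    refine ⟨t, fun e => ab (by rw [← sa, ← ta, smul_smul, e, one_smul, ta]), fun r h1 h2 h3 h4 =>
      U r t (by rw [h1, ta]) (by rw [h2, tb]) (by rw [h3, tp]) (by rw [h4, tq]), fun z h sz zp zq => ?_⟩
    have cm : s * t = t * s := U _ _ (by simp [mul_smul, ta, tb, sa]) (by simp [mul_smul, ta, tb, sb])
      (by simp [mul_smul, tp, sp, sq]) (by simp [mul_smul, tq, sp, sq])
    obtain e | e | e := h (t • z) (by rw [smul_smul, cm, mul_smul, sz])
    · exact (zq (smul_left_cancel t (e.trans tq.symm))).elim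
    · exact (zp (smul_left_cancel t (e.trans tp.symm))).elim
    · rw [mul_smul, e, sz]
  have fin : ∀ n : ℕ, (Set.univ : Set Ω).encard ≤ n → Finite Ω ∧ Nat.card Ω ≤ n := fun n h => by
    have f := Set.finite_of_encard_le_coe h
    haveI := Set.finite_univ_iff.1 f
    refine ⟨this, ?_⟩
    rw [← f.cast_ncard_eq, Set.ncard_univ] at h
    exact_mod_cast h
  by_cases hF : ∀ y : Ω, s • y = y → y = c ∨ y = d
  · obtain ⟨t, t1, t2, -⟩ := T c d cd sc sd
    have : (Set.univ : Set Ω) ⊆ insert a (insert b (insert c (insert d {y | (s * t) • y = y}))) := fun y _ => by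
      by_contra e
      simp only [Set.mem_insert_iff, not_or, Set.mem_setOf_eq] at e
      obtain ⟨r, ra, rb, r1, r2, r3, r4⟩ := key y e.1 e.2.1 (fun f => by have := hF y f; tauto) c d cd sc sd
      have : r • c = d ∧ r • d = c := by
        obtain f | f := r4
        · have := (hF _ (r3 c sc)).resolve_left f
          exact ⟨this, by rw [← this, r2]⟩
        · have := (hF _ (r3 d sd)).resolve_right f
          exact ⟨by rw [← this, r2], this⟩
      exact e.2.2.2.2 (t2 r ra rb this.1 this.2 ▸ r1)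
    have h := (Set.encard_le_encard this).trans ((Set.encard_insert_le _ _).trans (add_le_add_left ((Set.encard_insert_le _ _).trans
      (add_le_add_left ((Set.encard_insert_le _ _).trans (add_le_add_left ((Set.encard_insert_le _ _).trans
        (add_le_add_left (L3 _ t1) 1)) 1)) 1)) 1))
    obtain ⟨h1, h2⟩ := fin 7 (h.trans (by norm_num))
    exact ⟨h1, by omega, fun ⟨k, hk⟩ => by omega⟩
  push Not at hF
  obtain ⟨e, se, ec, ed⟩ := hF
  have hF : ∀ w : Ω, s • w = w → w = c ∨ w = d ∨ w = e := fun w h => by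
    by_contra f
    push Not at f
    have := uq s 1 c d e w cd ec.symm f.1.symm ed.symm f.2.1.symm f.2.2.symm (by simp [sc]) (by simp [sd]) (by simp [se])
      (by simp [h])
    exact ab (by rw [← sa, this, one_smul])
  obtain ⟨t1, a1, a2, a3⟩ := T c d cd sc sd
  obtain ⟨t2, b1, b2, b3⟩ := T c e ec.symm sc se
  obtain ⟨t3, c1, c2, c3⟩ := T d e ed.symm sd se
  have B : ∀ (g : G) (z : Ω), g ≠ 1 → g • z = z → ({y : Ω | g • y = y} \ {z}).encard ≤ 2 := fun g z h1 h2 => by
    have := L3 g h1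
    rw [← Set.encard_diff_singleton_add_one (show z ∈ {y : Ω | g • y = y} from h2)] at this
    exact (ENat.add_le_add_iff_right ENat.one_ne_top).1 (this.trans (by norm_num : (3 : ℕ∞) ≤ 2 + 1))
  have : (Set.univ : Set Ω) ⊆ insert a (insert b (insert c (insert d (insert e ((({y | (s * t1) • y = y} \ {e}) ∪
      ({y | (s * t2) • y = y} \ {d})) ∪ ({y | (s * t3) • y = y} \ {c})))))) := fun y _ => by
    by_contra f
    simp only [Set.mem_insert_iff, not_or, Set.mem_setOf_eq, Set.mem_union, Set.mem_diff, Set.mem_singleton_iff, not_and,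
      not_not] at f
    obtain ⟨f1, f2, f3, f4, f5, ⟨f6, f7⟩, f8⟩ := f
    obtain ⟨r, ra, rb, r1, r2, r3, r4⟩ := key y f1 f2 (fun f => by have := hF y f; tauto) c d cd sc sd
    obtain f | f := r4
    · obtain g | g := (hF _ (r3 c sc)).resolve_left f
      · exact f5 (f6 (a2 r ra rb g (by rw [← g, r2]) ▸ r1))
      · exact f4 (f7 (b2 r ra rb g (by rw [← g, r2]) ▸ r1))
    · obtain g | g | g := hF _ (r3 d sd)
      · exact f5 (f6 (a2 r ra rb (by rw [← g, r2]) g ▸ r1))
      · exact f g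
      · exact f3 (f8 (c2 r ra rb g (by rw [← g, r2]) ▸ r1))
  have h := (Set.encard_le_encard this).trans ((Set.encard_insert_le _ _).trans (add_le_add_left ((Set.encard_insert_le _ _).trans
    (add_le_add_left ((Set.encard_insert_le _ _).trans (add_le_add_left ((Set.encard_insert_le _ _).trans
      (add_le_add_left ((Set.encard_insert_le _ _).trans (add_le_add_left ((Set.encard_union_le _ _).trans (add_le_add
        ((Set.encard_union_le _ _).trans (add_le_add (B _ e a1 (a3 e hF se ec ed))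
          (B _ d b1 (b3 d (fun w h => by have := hF w h; tauto) sd cd.symm ed.symm))))
        (B _ c c1 (c3 c (fun w h => by have := hF w h; tauto) sc cd ec.symm)))) 1)) 1)) 1)) 1)) 1))
  obtain ⟨h1, h2⟩ := fin 11 (h.trans (by norm_num))
  refine ⟨h1, h2, fun ⟨k, hk⟩ => ?_⟩
  exfalso
  haveI := Fintype.ofFinite Ω
  haveI := Fact.mk Nat.prime_two
  have m := Equiv.Perm.card_fixedPoints_modEq (f := (fun y : Ω => s • y : Function.End Ω)) (p := 2) (n := 1) (funext s2)
  have : Function.fixedPoints (fun y : Ω => s • y) = {c, d, e} := Set.ext fun w => ⟨hF w, by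
    rintro (rfl | rfl | rfl) <;> assumption⟩
  rw [← Nat.card_eq_fintype_card, ← Nat.card_eq_fintype_card, hk] at m
  change k + k ≡ (Function.fixedPoints (fun y : Ω => s • y)).ncard [MOD 2] at m
  rw [this, Set.ncard_eq_three.2 ⟨c, d, e, cd, ec.symm, ed.symm, rfl⟩] at m
  unfold Nat.ModEq at m
  omega

end Cfsg.Agent.S0708
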