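import Cfsg.Statements.S0709

set_option autoImplicit false
open Cfsg

namespace Cfsg.Agent.S0709

/-- Witt's Lemma for constructing transitive extensions. Points `q 1, …, q t` (`t ≥ 2`) of a finite set are given; `G` fixes `q i` for `i ≥ 3` and is doubly transitive on the remaining points; `s 1 ∈ G` swaps `q 1, q 2`; for `2 ≤ i ≤ t-1`, `s i` swaps `q i, q (i+1)` and fixes the other `q j`; with `H` the stabiliser of `q 1, q 2` in `G`: `s i ^ 2 ∈ H`, `(s i * s (i+1)) ^ 3 ∈ H`, `(s i * s j) ^ 2 ∈ H` for `j ≥ i + 2`, and `s i` (`i ≥ 2`) normalises the stabiliser of `q 2` in `G`. Then `G` and the `s i` generate a `t`-transitive group whose pointwise stabiliser of the `q`'s is `H`. -/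
theorem result {α : Type*} [Fintype α] [DecidableEq α] (t : ℕ) (ht : 2 ≤ t) (q : ℕ → α) (hq : ∀ i j : ℕ, 1 ≤ i → i ≤ t → 1 ≤ j → j ≤ t → q i = q j → i = j) (G : Subgroup (Equiv.Perm α)) (hfix : ∀ g ∈ G, ∀ i : ℕ, 3 ≤ i → i ≤ t → g (q i) = q i) (h2 : ∀ a b c d : α, (∀ i, 3 ≤ i → i ≤ t → a ≠ q i ∧ b ≠ q i ∧ c ≠ q i ∧ d ≠ q i) → a ≠ b → c ≠ d → ∃ g ∈ G, g a = c ∧ g b = d) (s : ℕ → Equiv.Perm α) (hs1 : s 1 ∈ G) (hs1q : s 1 (q 1) = q 2 ∧ s 1 (q 2) = q 1) (hsq : ∀ i : ℕ, 2 ≤ i → i + 1 ≤ t → s i (q i) = q (i + 1) ∧ s i (q (i + 1)) = q i ∧ ∀ j : ℕ, 1 ≤ j → j ≤ t → j ≠ i → j ≠ i + 1 → s i (q j) = q j) (H : Subgroup (Equiv.Perm α)) (hH : H = G ⊓ MulAction.stabilizer (Equiv.Perm α) (q 1) ⊓ MulAction.stabilizer (Equiv.Perm α) (q 2)) (hsq2 : ∀ i : ℕ, 1 ≤ i → i + 1 ≤ t → s i ^ 2 ∈ H) (hbraid : ∀ i : ℕ, 1 ≤ i → i + 2 ≤ t → (s i * s (i + 1)) ^ 3 ∈ H) (hcomm : ∀ i j : ℕ, 1 ≤ i → i + 2 ≤ j → j + 1 ≤ t → (s i * s j) ^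 2 ∈ H ∧ (s j * s i) ^ 2 ∈ H) (hnorm : ∀ i : ℕ, 2 ≤ i → i + 1 ≤ t → ∀ g ∈ G ⊓ MulAction.stabilizer (Equiv.Perm α) (q 2), s i * g * (s i)⁻¹ ∈ G ⊓ MulAction.stabilizer (Equiv.Perm α) (q 2)) : MulAction.IsMultiplyPretransitive ↥(Subgroup.closure ((G : Set (Equiv.Perm α)) ∪ {x | ∃ i : ℕ, 2 ≤ i ∧ i + 1 ≤ t ∧ x = s i})) α t ∧ Subgroup.closure ((G : Set (Equiv.Perm α)) ∪ {x | ∃ i : ℕ, 2 ≤ i ∧ i + 1 ≤ t ∧ x = s i}) ⊓ fixingSubgroup (Equiv.Perm α) {x | ∃ i : ℕ, 1 ≤ i ∧ i ≤ t ∧ x = q i} = H := by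
  open Pointwise commutatorElement Subgroup in
  open Subgroup MulAction in
  obtain ⟨K, hK⟩ : ∃ K, K = G ⊓ stabilizer (Equiv.Perm α) (q 2) := ⟨_, rfl⟩
  rw [← hK] at hnorm
  obtain ⟨A, hA⟩ : ∃ A : ℕ → Subgroup (Equiv.Perm α), ∀ i, A i = closure ((K : Set (Equiv.Perm α)) ∪
    {x | ∃ j, 1 ≤ j ∧ j + 1 ≤ i ∧ x = s j}) := ⟨_, fun _ => rfl⟩
  have mK : ∀ g, g ∈ K ↔ g ∈ G ∧ g (q 2) = q 2 := fun g => by rw [hK]; rfl
  have mH : ∀ g, g ∈ H ↔ (g ∈ G ∧ g (q 1) = q 1) ∧ g (q 2) = q 2 := fun g => by rw [hH]; rfl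
  have KA : ∀ i, K ≤ A i := fun i g hg => hA i ▸ subset_closure (Or.inl hg)
  have HA : ∀ i, H ≤ A i := fun i g hg => KA i ((mK g).2 ⟨((mH g).1 hg).1.1, ((mH g).1 hg).2⟩)
  have sA : ∀ i j, 1 ≤ j → j + 1 ≤ i → s j ∈ A i := fun i j h1 h2 => hA i ▸ subset_closure (Or.inr ⟨j, h1, h2, rfl⟩)
  have le : ∀ i (B : Subgroup (Equiv.Perm α)), K ≤ B → (∀ j, 1 ≤ j → j + 1 ≤ i → s j ∈ B) → A i ≤ B := fun i B h1 h2 => by
    rw [hA, closure_le]
    rintro x (hx | ⟨j, h3, h4, rfl⟩)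
    exacts [h1 hx, h2 j h3 h4]
  have mono : ∀ i, A i ≤ A (i + 1) := fun i => le i _ (KA _) fun j h1 h2 => sA _ j h1 (by omega)
  have nq : ∀ i j : ℕ, 1 ≤ i → i ≤ t → 1 ≤ j → j ≤ t → i ≠ j → q i ≠ q j := fun i j a b c d e f => e (hq i j a b c d f)
  have fx : ∀ i j, 1 ≤ i → i < j → j ≤ t → ∀ g ∈ A i, g (q j) = q j := fun i j h0 h1 h2 =>
    le i (stabilizer _ (q j)) (fun g hg => by
      obtain rfl | e := (show 2 ≤ j by omega).eq_or_lt
      exacts [((mK g).1 hg).2, hfix g ((mK g).1 hg).1 j e h2]) fun k k1 k2 => by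
      obtain rfl | e := k1.eq_or_lt
      exacts [hfix _ hs1 j (by omega) h2, (hsq k e (by omega)).2.2 j (by omega) h2 (by omega) (by omega)]
  have q12 : ∀ i, 3 ≤ i → i ≤ t → q 1 ≠ q i ∧ q 2 ≠ q i := fun i h1 h2 =>
    ⟨nq _ _ le_rfl (by omega) (by omega) h2 (by omega), nq _ _ (by omega) ht (by omega) h2 (by omega)⟩
  have n12 : q 1 ≠ q 2 := nq _ _ le_rfl (by omega) (by omega) ht (by omega)
  have D2 : ∀ g ∈ G, g ∈ A 1 ∨ ∃ x ∈ A 1, ∃ y ∈ A 1, g = x * s 1 * y := fun g hg => by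
    by_cases e : g (q 2) = q 2
    · exact Or.inl (KA _ ((mK g).2 ⟨hg, e⟩))
    obtain ⟨k, k1, k2, k3⟩ := h2 (q 1) (q 2) (g (q 2)) (q 2) (fun i h1 h3 => ⟨(q12 i h1 h3).1, (q12 i h1 h3).2,
      fun f => (q12 i h1 h3).2 (g.injective (f.trans (hfix g hg i h1 h3).symm)), (q12 i h1 h3).2⟩) n12 e
    refine Or.inr ⟨k, KA _ ((mK k).2 ⟨k1, k3⟩), (k * s 1)⁻¹ * g, KA _ ((mK _).2 ⟨mul_mem (inv_mem (mul_mem k1 hs1)) hg, ?_⟩),
      by group⟩
    rw [Equiv.Perm.mul_apply, Equiv.Perm.inv_eq_iff_eq, Equiv.Perm.mul_apply, hs1q.2, k2]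
  have A2 : A 2 = G := le_antisymm (le 2 G (hK ▸ inf_le_left) fun j h1 h2 => by rwa [show j = 1 by omega]) fun g hg => by
    obtain e | ⟨x, hx, y, hy, rfl⟩ := D2 g hg
    exacts [mono 1 e, mul_mem (mul_mem (mono 1 hx) (sA 2 1 le_rfl le_rfl)) (mono 1 hy)]
  have D : ∀ i, 1 ≤ i → i + 1 ≤ t → ∀ g ∈ A (i + 1), g ∈ A i ∨ ∃ x ∈ A i, ∃ y ∈ A i, g = x * s i * y := by
    intro i hi
    induction i, hi using Nat.le_induction with
    | base => exact fun _ => A2 ▸ D2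
    | succ i hi ih =>
      intro h
      have N : s (i + 1) ∈ normalizer (A i : Set (Equiv.Perm α)) := mem_normalizer_fintype
        (le i ((A i).comap (MulAut.conj (s (i + 1))).toMonoidHom) (fun g hg => KA _ (hnorm _ (by omega) h g hg)) fun j h1 h2 => by
          have := mul_mem (mul_mem (inv_mem (sA i j h1 h2)) (HA _ (hcomm j (i + 1) h1 (by omega) h).1))
            (inv_mem (HA i (hsq2 (i + 1) (by omega) h)))
          show s (i + 1) * s j * (s (i + 1))⁻¹ ∈ A i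
          convert this using 1
          simp only [sq]; group)
      have N1 := fun g hg => mono i ((mem_normalizer_iff.1 N g).1 hg)
      have N2 := fun g hg => mono i ((mem_normalizer_iff''.1 N g).1 hg)
      have s2 := HA (i + 1) (hsq2 (i + 1) (by omega) h)
      have u := sA (i + 1) i hi le_rfl
      have C : ∀ a ∈ A (i + 1), s (i + 1) * a * s (i + 1) ∈ A (i + 1) ∨
          ∃ x ∈ A (i + 1), ∃ y ∈ A (i + 1), s (i + 1) * a * s (i + 1) = x * s (i + 1) * y := fun a ha => by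
        obtain e | ⟨x, hx, y, hy, rfl⟩ := ih (by omega) a ha
        · refine Or.inl ?_
          convert mul_mem (N1 a e) s2 using 1
          simp only [sq]; group
        · refine Or.inr ⟨_, mul_mem (mul_mem (mul_mem (N1 x hx) (inv_mem u)) (HA _ (hbraid i hi h))) (inv_mem s2), _,
            mul_mem (inv_mem u) (N2 y hy), ?_⟩
          simp only [pow_succ, pow_zero]; group
      let S : Subgroup (Equiv.Perm α) :=
        { carrier := {g | g ∈ A (i + 1) ∨ ∃ x ∈ A (i + 1), ∃ y ∈ A (i + 1), g = x * s (i + 1) * y}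
          one_mem' := Or.inl (one_mem _)
          mul_mem' := by
            rintro a b (ha | ⟨x, hx, y, hy, rfl⟩) (hb | ⟨z, hz, w, hw, rfl⟩)
            · exact Or.inl (mul_mem ha hb)
            · exact Or.inr ⟨_, mul_mem ha hz, w, hw, by group⟩
            · exact Or.inr ⟨x, hx, _, mul_mem hy hb, by group⟩
            · have e : x * s (i + 1) * y * (z * s (i + 1) * w) = x * (s (i + 1) * (y * z) * s (i + 1)) * w := by group
              obtain f | ⟨a, ha, b, hb, f⟩ := C _ (mul_mem hy hz)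
              · exact Or.inl (by rw [e]; exact mul_mem (mul_mem hx f) hw)
              · exact Or.inr ⟨_, mul_mem hx ha, _, mul_mem hb hw, by rw [e, f]; group⟩
          inv_mem' := by
            rintro a (ha | ⟨x, hx, y, hy, rfl⟩)
            · exact Or.inl (inv_mem ha)
            · exact Or.inr ⟨_, mul_mem (inv_mem hy) (inv_mem s2), _, inv_mem hx, by simp only [sq]; group⟩ }
      refine le _ S (fun g hg => Or.inl (KA _ hg)) fun j h1 h2 => ?_
      obtain e | e := h2.eq_or_lt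
      · exact Or.inr ⟨1, one_mem _, 1, one_mem _, by rw [one_mul, mul_one, show j = i + 1 by omega]⟩
      · exact Or.inl (sA _ j h1 (by omega))
  have R : ∀ i, 2 ≤ i → i ≤ t → ∀ g ∈ A i, (∀ j, 1 ≤ j → j ≤ i → g (q j) = q j) → g ∈ H := by
    intro i hi
    induction i, hi using Nat.le_induction with
    | base => exact fun _ g hg e => (mH g).2 ⟨⟨A2 ▸ hg, e 1 le_rfl (by omega)⟩, e 2 (by omega) le_rfl⟩
    | succ i hi ih =>
      intro h g hg e
      obtain f | ⟨x, hx, y, hy, rfl⟩ := D i (by omega) h g hg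
      · exact ih (by omega) g f fun j h1 h2 => e j h1 (by omega)
      have f := fx i (i + 1) (by omega) (by omega) h
      have := e (i + 1) (by omega) le_rfl
      rw [Equiv.Perm.mul_apply, Equiv.Perm.mul_apply, f y hy, (hsq i hi h).2.1] at this
      exact (nq i (i + 1) (by omega) (by omega) (by omega) h (by omega) (x.injective (this.trans (f x hx).symm))).elim
  have U : ∀ i, 2 ≤ i → i ≤ t → ∀ y, (∀ j, i < j → j ≤ t → y ≠ q j) → ∃ g ∈ A i, g y = q i := by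
    intro i hi
    induction i, hi using Nat.le_induction with
    | base =>
      intro _ y hy
      by_cases e : y = q 2
      · exact ⟨1, one_mem _, e⟩
      obtain ⟨g, h1, h3, -⟩ := h2 y (q 2) (q 2) (q 1) (fun i h1 h3 => ⟨hy i h1 h3, (q12 i h1 h3).2, (q12 i h1 h3).2,
        (q12 i h1 h3).1⟩) e n12.symm
      exact ⟨g, A2 ▸ h1, h3⟩
    | succ i hi ih =>
      intro h y hy
      by_cases e : y = q (i + 1)
      · exact ⟨1, one_mem _, e⟩
      obtain ⟨g, h1, h3⟩ := ih (by omega) y fun j j1 j2 => by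
        obtain rfl | f := (show i + 1 ≤ j from j1).eq_or_lt
        exacts [e, hy j f j2]
      exact ⟨s i * g, mul_mem (sA _ i (by omega) le_rfl) (mono i h1), by rw [Equiv.Perm.mul_apply, h3, (hsq i hi h).1]⟩
  have T : ∀ i, 2 ≤ i → i ≤ t → ∀ x : ℕ → α, (∀ j k, 1 ≤ j → j < k → k ≤ i → x j ≠ x k) →
      (∀ k j, 1 ≤ k → k ≤ i → i < j → j ≤ t → x k ≠ q j) → ∃ g ∈ A i, ∀ j, 1 ≤ j → j ≤ i → g (x j) = q j := by
    intro i hi
    induction i, hi using Nat.le_induction with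
    | base =>
      intro _ x x1 x2
      obtain ⟨g, h1, h3, h4⟩ := h2 (x 1) (x 2) (q 1) (q 2) (fun i h1 h3 => ⟨x2 1 i le_rfl (by omega) h1 h3,
        x2 2 i (by omega) le_rfl h1 h3, q12 i h1 h3⟩) (x1 1 2 le_rfl (by omega) le_rfl) n12
      refine ⟨g, A2 ▸ h1, fun j j1 j2 => ?_⟩
      interval_cases j <;> assumption
    | succ i hi ih =>
      intro h x x1 x2
      obtain ⟨g, g1, g2⟩ := U (i + 1) (by omega) h (x (i + 1)) fun j => x2 _ j (by omega) le_rfl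
      obtain ⟨k, k1, k2⟩ := ih (by omega) (fun j => g (x j)) (fun j k a b c e => x1 j k a b (by omega) (g.injective e))
        fun k j a b c d e => by
          obtain rfl | f := (show i + 1 ≤ j from c).eq_or_lt
          · exact x1 k (i + 1) a (by omega) le_rfl (g.injective (e.trans g2.symm))
          · exact x2 k j a (by omega) f d (g.injective (e.trans (fx _ j (by omega) f d g g1).symm))
      refine ⟨k * g, mul_mem (mono i k1) g1, fun j j1 j2 => ?_⟩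
      obtain rfl | f := j2.eq_or_lt
      · rw [Equiv.Perm.mul_apply, g2, fx i _ (by omega) (by omega) h k k1]
      · exact k2 j j1 (by omega)
  have E : closure ((G : Set (Equiv.Perm α)) ∪ {x | ∃ i : ℕ, 2 ≤ i ∧ i + 1 ≤ t ∧ x = s i}) = A t := by
    refine le_antisymm ((closure_le _).2 ?_) (le t _ (fun g hg => subset_closure (Or.inl ((mK g).1 hg).1)) fun j h1 h2 => ?_)
    · rintro x (hx | ⟨j, h3, h4, rfl⟩)
      · exact monotone_nat_of_le_succ mono ht (A2.ge hx)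
      · exact sA t j (by omega) h4
    · obtain rfl | e := h1.eq_or_lt
      exacts [subset_closure (Or.inl hs1), subset_closure (Or.inr ⟨j, e, h2, rfl⟩)]
  rw [E]
  refine ⟨⟨fun x y => ?_⟩, le_antisymm (fun g hg => R t ht le_rfl g (mem_inf.1 hg).1 fun j h1 h2 =>
    (mem_fixingSubgroup_iff _).1 (mem_inf.1 hg).2 (q j) (Exists.intro j ⟨h1, h2, rfl⟩)) fun g hg => mem_inf.2 ⟨HA t hg,
      (mem_fixingSubgroup_iff _).2 ?_⟩⟩
  · have W : ∀ x : Fin t ↪ α, ∃ g ∈ A t, ∀ j : Fin t, g (x j) = q (j + 1) := fun x => by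
      obtain ⟨g, h1, h3⟩ := T t ht le_rfl (fun j => if h : j - 1 < t then x ⟨j - 1, h⟩ else q 0) (fun j k a b c e => by
        rw [dif_pos (by omega), dif_pos (by omega)] at e
        have := congrArg Fin.val (x.injective e)
        simp only at this
        omega) fun k j _ _ a b => by omega
      exact ⟨g, h1, fun j => by simpa using h3 (j + 1) (by omega) j.2⟩
    obtain ⟨g, g1, g2⟩ := W x
    obtain ⟨k, k1, k2⟩ := W y
    refine ⟨⟨k⁻¹ * g, mul_mem (inv_mem k1) g1⟩, Function.Embedding.ext fun j => ?_⟩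
    show k⁻¹ (g (x j)) = y j
    rw [Equiv.Perm.inv_eq_iff_eq, g2, k2]
  · rintro _ ⟨j, h1, h3, rfl⟩
    obtain rfl | e := h1.eq_or_lt
    exacts [((mH g).1 hg).1.2, fx 1 j le_rfl e h3 g (HA 1 hg)]

end Cfsg.Agent.S0709
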