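import Cfsg.Statements.S0710
import Mathlib
import Cfsg.Agent.Lib.Perm.Mod3

set_option autoImplicit false
open Cfsg

namespace Cfsg.Agent.S0710



/-- No transitive permutation group on 13 points has order `13 * 12 * 11 * 10 * 9 * 8`. -/
theorem result {α : Type*} [Fintype α] [DecidableEq α] (hα : Fintype.card α = 13) (G : Subgroup (Equiv.Perm α)) [MulAction.IsPretransitive G α] : Nat.card G ≠ 13 * 12 * 11 * 10 * 9 * 8 := by
  have := Fact.mk (by norm_num : Nat.Prime 13)
  obtain ⟨t, n, h1, h2, h3, -⟩ := Perm.Md.syl_data (Nat.card_eq_fintype_card.trans hα) (default : Sylow 13 G)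
  have := Nat.le_of_dvd (by norm_num) h2
  rw [h1]
  unfold Nat.ModEq at h3
  interval_cases t <;> omega

end Cfsg.Agent.S0710
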