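import Cfsg.Statements.S0711
import Mathlib
import Cfsg.Agent.Lib.Perm.PG1

set_option autoImplicit false
open Cfsg

namespace Cfsg.Agent.S0711

open Cfsg.Agent.Perm Cfsg.Agent.Perm.PG MulAction Equiv

/-- A `k`-transitive permutation group (`k ≥ 3`) with a non-identity element of support smaller than `2k - 2` contains a non-identity element of support at most 3, and therefore contains the alternating group. -/
theorem result {α : Type*} [Fintype α] [DecidableEq α] (G : Subgroup (Equiv.Perm α)) {k : ℕ} (hk : 3 ≤ k) (hkn : k ≤ Fintype.card α) (hG : MulAction.IsMultiplyPretransitive G α k) (g : Equiv.Perm α) (hg : g ∈ G) (hg1 : g ≠ 1) (hsupp : g.support.card < 2 * k - 2) : (∃ h : Equiv.Perm α, h ∈ G ∧ h ≠ 1 ∧ h.support.card ≤ 3) ∧ alternatingGroup α ≤ G := by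
  have hc := Nat.card_eq_fintype_card (α := α)
  suffices h : alternatingGroup α ≤ G by
    refine ⟨?_, h⟩
    obtain ⟨a, b, c, -, -, -, hab, hac, hbc⟩ := Finset.two_lt_card_iff.1
      (show 2 < (Finset.univ : Finset α).card by rw [Finset.card_univ]; omega)
    have := Perm.isThreeCycle_swap_mul_swap_same hab hac hbc
    exact ⟨_, h this.mem_alternatingGroup, this.isCycle.ne_one, this.card_support.le⟩
  by_cases hn : Fintype.card α ≤ 5
  · exact _root_.IsMultiplyPretransitive.alternatingGroup_le α G (isMultiplyPretransitive_of_le (n := k) (by omega) (by omega))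
  induction hm : g.support.card using Nat.strong_induction_on generalizing g with
  | _ m ih =>
  by_cases hmk : m ≤ k
  · refine (Perm.alternatingGroup_le_of_normal (N := Subgroup.normalClosure {g}) (by omega) ?_).trans ?_
    · exact (Subgroup.nontrivial_iff_exists_ne_one _).2 ⟨g, Subgroup.subset_normalClosure rfl, hg1⟩
    · refine (Subgroup.closure_le G).2 fun x hx => ?_
      obtain ⟨g', hg', h⟩ := Group.mem_conjugatesOfSet_iff.1 hx
      rw [Set.mem_singleton_iff.1 hg'] at h
      obtain ⟨σ, rfl⟩ := isConj_iff.1 h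
      obtain ⟨t, ht⟩ := mt_perm hG (by omega) g.support (by omega) σ
      suffices e : σ * g * σ⁻¹ = t * g * (t : Perm α)⁻¹ from e ▸ G.mul_mem (G.mul_mem t.2 hg) (G.inv_mem t.2)
      have h1 : Commute (σ⁻¹ * t) g := by
        apply Perm.Disjoint.commute
        intro z
        by_cases hz : g z = z
        · exact Or.inr hz
        · left
          rw [Perm.mul_apply, Perm.inv_eq_iff_eq]
          exact ht z (Perm.mem_support.2 hz)
      calc σ * g * σ⁻¹ = σ * (g * (σ⁻¹ * t)) * (t : Perm α)⁻¹ := by group
        _ = _ := by rw [← h1.eq]; group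
  -- reduction step
  have key : ∀ (t : G) (A B : Finset α), (∀ x ∈ A, t.1 x = x ∧ t.1 (g x) = g x ∧ x ∈ g.support) →
      (∀ x ∈ B, x ∈ g.support ∧ t.1⁻¹ x ∈ g.support) → ¬ Commute t.1 g →
      (m < A.card + B.card ∨ (A.Nonempty ∧ g.support = Finset.univ)) → alternatingGroup α ≤ G := by
    intro t A B hA hB hne hcard
    have h1 : (g⁻¹ * (t * g * t.1⁻¹)).support ⊆ (g.support ∪ (t * g * t.1⁻¹).support) \ A := by
      intro x hx
      refine Finset.mem_sdiff.2 ⟨by simpa using Perm.support_mul_le _ _ hx, fun h => Perm.mem_support.1 hx ?_⟩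
      simp only [Perm.mul_apply]
      rw [Perm.inv_eq_iff_eq.2 (hA x h).1.symm, (hA x h).2.1, Perm.inv_eq_iff_eq]
    have h2 := Finset.card_le_card h1
    rw [Finset.card_sdiff_of_subset (fun x hx => Finset.mem_union_left _ (hA x hx).2.2)] at h2
    have h3 := Finset.card_union_add_card_inter g.support (t * g * t.1⁻¹).support
    have h4 : B.card ≤ (g.support ∩ (t * g * t.1⁻¹).support).card := Finset.card_le_card fun x hx =>
      Finset.mem_inter.2 ⟨(hB x hx).1, by rw [Perm.support_conj]; simpa using (hB x hx).2⟩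
    rw [Perm.card_support_conj, hm] at h3
    have h5 : (g⁻¹ * (t * g * t.1⁻¹)).support.card < m := by
      rcases hcard with h | ⟨h, h'⟩
      · omega
      · have := Finset.card_pos.2 h
        have h6 := Finset.card_le_univ (g.support ∪ (t * g * t.1⁻¹).support)
        rw [h', Finset.card_univ] at hm
        omega
    refine ih _ h5 _ (G.mul_mem (G.inv_mem hg) (G.mul_mem (G.mul_mem t.2 hg) (G.inv_mem t.2))) ?_ (by omega) rfl
    rw [Ne, inv_mul_eq_one, eq_mul_inv_iff_mul_eq]
    exact fun e => hne e.symm
  have hS : ∀ j ≤ m, ∃ S ⊆ g.support, S.card = j ∧ ∀ x ∈ S, ∀ y ∈ S, g x ∉ S → g y ∉ S → x = y := by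
    intro j hj
    induction j with
    | zero => exact ⟨∅, by simp, rfl, by simp⟩
    | succ j ih =>
      obtain ⟨S, h1, h2, h3⟩ := ih (by omega)
      by_cases h : ∃ x ∈ S, g x ∉ S
      · obtain ⟨x, hx, hx2⟩ := h
        refine ⟨insert (g x) S, Finset.insert_subset (Perm.apply_mem_support.2 (h1 hx)) h1,
          by rw [Finset.card_insert_of_notMem hx2, h2], ?_⟩
        have : ∀ y ∈ insert (g x) S, g y ∉ insert (g x) S → y = g x := by
          intro y hy hy2
          rcases Finset.mem_insert.1 hy with h | h
          · exact h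
          · simp only [Finset.mem_insert, not_or] at hy2
            exact absurd (congrArg g (h3 y h x hx hy2.2 hx2)) hy2.1
        intro y hy z hz h4 h5
        rw [this y hy h4, this z hz h5]
      · push Not at h
        obtain ⟨x, hx, hx2⟩ := Finset.exists_mem_notMem_of_card_lt_card (show S.card < g.support.card by omega)
        refine ⟨insert x S, Finset.insert_subset hx h1, by rw [Finset.card_insert_of_notMem hx2, h2], ?_⟩
        have : ∀ y ∈ insert x S, g y ∉ insert x S → y = x := by
          intro y hy hy2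
          rcases Finset.mem_insert.1 hy with h' | h'
          · exact h'
          · exact absurd (Finset.mem_insert_of_mem (h y h')) hy2
        intro y hy z hz h4 h5
        rw [this y hy h4, this z hz h5]
  obtain ⟨S, h1, h2, h3⟩ := hS (k - 1) (by omega)
  by_cases h : ∃ x ∈ S, g x ∉ S
  · obtain ⟨a, ha, ha2⟩ := h
    obtain ⟨c, hc1, hc2⟩ := Finset.exists_mem_notMem_of_card_lt_card
      (show (insert (g a) S).card < g.support.card by rw [Finset.card_insert_of_notMem ha2]; omega)
    simp only [Finset.mem_insert, not_or] at hc2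
    obtain ⟨t, ht1, ht2⟩ := mt_move hG (by omega) S (by omega) ha2 hc2.2
    refine key t (S.erase a) (insert c S) (fun x hx => ?_) (fun x hx => ?_) (fun e => ?_) (Or.inl ?_)
    · rw [Finset.mem_erase] at hx
      exact ⟨ht1 x hx.2, ht1 _ (by by_contra e; exact hx.1 (h3 x hx.2 a ha e ha2)), h1 hx.2⟩
    · rcases Finset.mem_insert.1 hx with rfl | hx
      · exact ⟨hc1, by rw [Perm.inv_eq_iff_eq.2 ht2.symm]; exact Perm.apply_mem_support.2 (h1 ha)⟩
      · exact ⟨h1 hx, by rw [Perm.inv_eq_iff_eq.2 (ht1 x hx).symm]; exact h1 hx⟩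
    · have := congrArg (fun f : Perm α => f a) e.eq
      simp only [Perm.mul_apply] at this
      rw [show t.1 (g a) = c from ht2, show t.1 a = a from ht1 a ha] at this
      exact hc2.1 this
    · rw [Finset.card_erase_of_mem ha, Finset.card_insert_of_notMem hc2.2]; omega
  push Not at h
  by_cases hu : g.support = Finset.univ
  · have hmn : m = Fintype.card α := by rw [← hm, hu, Finset.card_univ]
    obtain ⟨a, ha⟩ := Finset.card_pos.1 (show 0 < S.card by omega)
    obtain ⟨c, -, hc2⟩ := Finset.exists_mem_notMem_of_card_lt_card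
      (show ({a, g a, g⁻¹ a} : Finset α).card < (Finset.univ : Finset α).card from
        lt_of_le_of_lt Finset.card_le_three (by rw [Finset.card_univ]; omega))
    obtain ⟨e, -, he2⟩ := Finset.exists_mem_notMem_of_card_lt_card
      (show ({g c, a, g a, c} : Finset α).card < (Finset.univ : Finset α).card from
        lt_of_le_of_lt Finset.card_le_four (by rw [Finset.card_univ]; omega))
    have hgc : g c ≠ c := Perm.mem_support.1 (hu ▸ Finset.mem_univ c)
    obtain ⟨t, ht1, ht2⟩ := mt_move hG (by omega) {a, g a, c} (lt_of_le_of_lt Finset.card_le_three (by omega))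
      (b := g c) (c := e) (by
        simp only [Finset.mem_insert, Finset.mem_singleton, not_or, Perm.eq_inv_iff_eq] at hc2 ⊢
        exact ⟨hc2.2.2, fun h => hc2.1 (g.injective h), hgc⟩) (fun h => he2 (Finset.mem_insert_of_mem h))
    refine key t {a} ∅ (fun x hx => ?_) (by simp) (fun e' => ?_) (Or.inr ⟨by simp, hu⟩)
    · rw [Finset.mem_singleton.1 hx]
      exact ⟨ht1 a (by simp), ht1 _ (by simp), h1 ha⟩
    · have := congrArg (fun f : Perm α => f c) e'.eq
      simp only [Perm.mul_apply] at this
      rw [show t.1 (g c) = e from ht2, show t.1 c = c from ht1 c (by simp)] at this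
      exact he2 (by simp [this])
  · obtain ⟨c, hc2⟩ : ∃ c, c ∉ g.support := by
      by_contra h; push Not at h; exact hu (Finset.eq_univ_iff_forall.2 h)
    obtain ⟨b, hb, hb2⟩ := Finset.exists_mem_notMem_of_card_lt_card (show S.card < g.support.card by omega)
    obtain ⟨t, ht1, ht2⟩ := mt_move hG (by omega) S (by omega) hb2 (fun e => hc2 (h1 e))
    refine key t S S (fun x hx => ⟨ht1 x hx, ht1 _ (h x hx), h1 hx⟩) (fun x hx => ⟨h1 hx, ?_⟩) (fun e => ?_)
      (Or.inl (by omega))
    · rw [Perm.inv_eq_iff_eq.2 (ht1 x hx).symm]; exact h1 hx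
    · have := congrArg (fun f : Perm α => f b) e.eq
      simp only [Perm.mul_apply] at this
      rw [show t.1 b = c from ht2, Perm.notMem_support.1 hc2, ← show t.1 b = c from ht2] at this
      exact Perm.mem_support.1 hb (t.1.injective this)

end Cfsg.Agent.S0711
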