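import Cfsg.Statements.S0714
import Mathlib
import Cfsg.Agent.Lib.Perm.PG1

set_option autoImplicit false
open Cfsg

namespace Cfsg.Agent.S0714

open Cfsg.Agent.Perm Cfsg.Agent.Perm.PG MulAction Equiv

/-- Over any field, the permutation module of the alternating group of degree at least 5 has exactly four invariant subspaces: zero, the constant functions, the functions with coordinate sum zero, and everything. -/
theorem result {α : Type*} [Fintype α] [DecidableEq α] (hα : 5 ≤ Fintype.card α) {K : Type*} [Field K] (W : Subrepresentation (Cfsg.permRep K (alternatingGroup α) α)) : W.toSubmodule = ⊥ ∨ W = Cfsg.permConstants K (alternatingGroup α) α ∨ W = Cfsg.permSumZero K (alternatingGroup α) α ∨ W.toSubmodule = ⊤ := by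
  have hact : ∀ σ : Perm α, σ.IsThreeCycle → ∀ f ∈ W.toSubmodule, (fun x => f (σ x)) ∈ W.toSubmodule :=
    fun σ h f hf => W.apply_mem_toSubmodule (⟨σ, h.mem_alternatingGroup⟩ : alternatingGroup α)⁻¹ hf
  by_cases hc : W.toSubmodule ≤ (Cfsg.permConstants K (alternatingGroup α) α).toSubmodule
  · rcases eq_or_ne W.toSubmodule ⊥ with h | h
    · exact Or.inl h
    · refine Or.inr (Or.inl (Subrepresentation.ext (le_antisymm hc ?_)))
      obtain ⟨v, hv, hv0⟩ := Submodule.exists_mem_ne_zero_of_ne_bot h
      obtain ⟨c, rfl⟩ := Submodule.mem_span_singleton.1 (hc hv)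
      have hc0 : c ≠ 0 := by rintro rfl; simp at hv0
      refine Submodule.span_le.2 (Set.singleton_subset_iff.2 ?_)
      simpa [smul_smul, hc0] using W.toSubmodule.smul_mem c⁻¹ hv
  obtain ⟨f, hf, hf2⟩ := Set.not_subset.1 hc
  obtain ⟨a, b, hab⟩ : ∃ a b, f a ≠ f b := by
    by_contra h
    push Not at h
    obtain ⟨a⟩ : Nonempty α := Fintype.card_pos_iff.1 (by omega)
    exact hf2 (Submodule.mem_span_singleton.2 ⟨f a, funext fun x => by simp [h a x]⟩)
  have hab' : a ≠ b := by rintro rfl; exact hab rfl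
  obtain ⟨c, d, e, hc, hd, he, hcd, hce, hde⟩ := Finset.two_lt_card_iff.1
    (show 2 < (Finset.univ \ {a, b}).card by
      rw [Finset.card_sdiff_of_subset (Finset.subset_univ _), Finset.card_univ, Finset.card_pair hab']; omega)
  simp only [Finset.mem_sdiff, Finset.mem_univ, Finset.mem_insert, Finset.mem_singleton, true_and, not_or] at hc hd he
  have h1 := W.toSubmodule.sub_mem hf (hact _ (Perm.isThreeCycle_swap_mul_swap_same hab' (Ne.symm hc.1) (Ne.symm hc.2)) f hf)
  have h2 := W.toSubmodule.sub_mem h1 (hact _ (Perm.isThreeCycle_swap_mul_swap_same (Ne.symm hd.2) (Ne.symm he.2) hde) _ h1)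
  have h3 : (Pi.single b 1 - Pi.single d 1 : α → K) ∈ W.toSubmodule := by
    have h4 := W.toSubmodule.smul_mem (f b - f a)⁻¹ h2
    convert h4 using 1
    have h5 : f b - f a ≠ 0 := sub_ne_zero.2 hab.symm
    have u1 : (f - fun x => f ((swap a b * swap a c) x)) b = f b - f a := by
      simp [swap_apply_of_ne_of_ne hab'.symm (Ne.symm hc.2)]
    have u2 : (f - fun x => f ((swap a b * swap a c) x)) d = 0 := by
      simp [swap_apply_of_ne_of_ne hd.1 hcd.symm, swap_apply_of_ne_of_ne hd.1 hd.2]
    have u3 : (f - fun x => f ((swap a b * swap a c) x)) e = 0 := by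
      simp [swap_apply_of_ne_of_ne he.1 hce.symm, swap_apply_of_ne_of_ne he.1 he.2]
    generalize (f - fun x => f ((swap a b * swap a c) x)) = u at *
    ext x
    simp only [Pi.sub_apply, Pi.smul_apply, Perm.mul_apply, smul_eq_mul, Pi.single_apply, swap_apply_def]
    grind
  have h4 : ∀ x y : α, (Pi.single x 1 - Pi.single y 1 : α → K) ∈ W.toSubmodule := by
    intro x y
    by_cases hxy : x = y
    · simp [hxy]
    have := alternatingGroup.isMultiplyPretransitive α
    obtain ⟨g, hg1, hg2⟩ := two_trans_iff.1 (isMultiplyPretransitive_of_le (G := alternatingGroup α) (n := Nat.card α - 2) (m := 2)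
      (by rw [Nat.card_eq_fintype_card]; omega) (by omega)) b d x y (Ne.symm hd.2) hxy
    convert W.apply_mem_toSubmodule g h3 using 1
    ext z
    show _ = (Pi.single b 1 - Pi.single d 1 : α → K) (g⁻¹ • z)
    simp only [Pi.sub_apply, Pi.single_apply, inv_smul_eq_iff, hg1, hg2]
  have h5 : ∀ v : α → K, v - (∑ x, v x) • Pi.single a 1 ∈ W.toSubmodule := by
    intro v
    convert W.toSubmodule.sum_mem (t := Finset.univ) fun x _ => W.toSubmodule.smul_mem (v x) (h4 x a) using 1
    simp only [smul_sub, Finset.sum_sub_distrib, Finset.sum_smul]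
    congr 1
    ext z; simp [Pi.single_apply]
  by_cases h6 : W.toSubmodule ≤ (Cfsg.permSumZero K (alternatingGroup α) α).toSubmodule
  · refine Or.inr (Or.inr (Or.inl (Subrepresentation.ext (le_antisymm h6 fun v hv => ?_))))
    have := h5 v
    rwa [show ∑ x, v x = 0 from hv, zero_smul, sub_zero] at this
  · obtain ⟨w, hw, hw2⟩ := Set.not_subset.1 h6
    have hw3 : ∑ x, w x ≠ 0 := hw2
    refine Or.inr (Or.inr (Or.inr (eq_top_iff.2 fun v _ => ?_)))
    have h7 := W.toSubmodule.smul_mem ((∑ x, v x) * (∑ x, w x)⁻¹) (W.toSubmodule.sub_mem hw (h5 w))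
    rw [sub_sub_cancel, smul_smul, inv_mul_cancel_right₀ hw3] at h7
    simpa using W.toSubmodule.add_mem (h5 v) h7

end Cfsg.Agent.S0714
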