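import Cfsg.Statements.S0715
import Cfsg.Agent.Lib.Char.PermCh

set_option autoImplicit false
open Cfsg

namespace Cfsg.Agent.S0715

open Cfsg.Agent.Char

/-- If a natural number `f` divides the degree of every non-principal irreducible constituent of the permutation character of a transitive group, then `f` divides every non-trivial subdegree. -/
theorem result {G : Type*} [Group G] [Fintype G] {Ω : Type*} [Fintype Ω] [MulAction G Ω] [MulAction.IsPretransitive G Ω] (f : ℕ) (hf : ∀ χ : G → ℂ, Cfsg.IsIrrCharacter G χ → χ ≠ (fun _ => 1) → Cfsg.classInner (fun g : G => (Nat.card (MulAction.fixedBy Ω g) : ℂ)) χ ≠ 0 → ∃ m : ℕ, χ 1 = (f : ℂ) * m) (a b : Ω) (hab : b ≠ a) : f ∣ Nat.card (MulAction.orbit (MulAction.stabilizer G a) b) := by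
  classical
  obtain ⟨F, h1, -, h3, h4, h5⟩ := exists_orbital_fun (G := G)
    (fun x y : Ω => ∃ g : G, g • a = x ∧ g • b = y) (fun g x y => ⟨fun ⟨k, h1, h2⟩ =>
      ⟨g⁻¹ * k, by simp [mul_smul, h1], by simp [mul_smul, h2]⟩, fun ⟨k, h1, h2⟩ =>
      ⟨g * k, by simp [mul_smul, h1], by simp [mul_smul, h2]⟩⟩) a
  rw [show Nat.card {y // ∃ g : G, g • a = a ∧ g • b = y} = Nat.card (MulAction.orbit
    (MulAction.stabilizer G a) b) from Nat.card_congr (Equiv.subtypeEquivRight fun y =>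
      ⟨fun ⟨g, h1, h2⟩ => ⟨⟨g, h1⟩, h2⟩, fun ⟨g, h⟩ => ⟨g, g.2, h⟩⟩)] at h3
  have h6 : ∀ χ : IrrCharacter G, ∃ z, IsIntegral ℤ z ∧ (χ ≠ irrOne G →
      classInner (F 1) χ * χ.1 1 = f * z) := fun χ => by
    by_cases h : classInner (pc G Ω) χ = 0
    · exact ⟨0, isIntegral_zero, fun _ => by simp [((h5 χ χ.2).2 1).1 h]⟩
    by_cases h' : χ = irrOne G
    · exact ⟨0, isIntegral_zero, fun h => absurd h' h⟩
    obtain ⟨m, hm⟩ := hf χ χ.2 (fun h => h' (Subtype.ext h)) h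
    exact ⟨_, (h5 χ χ.2).1.mul (isIntegral_natCast m), fun _ => by rw [hm]; ring⟩
  choose z hz hz' using h6
  have h7 := (h4 1).apply_eq_sum 1
  have : IsEmpty {x : Ω // ∃ g : G, g • a = x ∧ g • b = (1 : G) • x} := ⟨fun ⟨x, g, h1, h2⟩ =>
    hab (MulAction.injective g (by simp [h1, h2]))⟩
  rw [h1, Nat.card_of_isEmpty, ← Finset.add_sum_erase _ _ (Finset.mem_univ (irrOne G)),
    Finset.sum_congr rfl fun χ hχ => hz' χ (Finset.ne_of_mem_erase hχ), ← Finset.mul_sum,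
    coe_irrOne, h3, mul_one, Nat.cast_zero, eq_comm, add_eq_zero_iff_eq_neg] at h7
  rcases f.eq_zero_or_pos with rfl | h
  · simpa using h7
  refine nat_dvd_of_isIntegral_div h.ne' ?_
  rw [h7, ← mul_neg, mul_div_cancel_left₀ _ (Nat.cast_ne_zero.2 h.ne')]
  exact (IsIntegral.sum _ fun χ _ => hz χ).neg

end Cfsg.Agent.S0715
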