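import Cfsg.Statements.S0716
import Cfsg.Agent.Lib.Char.PermCh
import Cfsg.Agent.Lib.Char.Gallagher
import Cfsg.Agent.S0715

set_option autoImplicit false
open Cfsg

namespace Cfsg.Agent.S0716

open Cfsg.Agent.Char

/-- (a) If all non-principal irreducible constituents of the permutation character of a transitive group have the same degree `f`, the character is multiplicity-free and all non-trivial subdegrees equal `f`. (b) A transitive group of rank at most 5 has multiplicity-free permutation character. -/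
theorem result {G : Type*} [Group G] [Fintype G] {Ω : Type*} [Fintype Ω] [MulAction G Ω] [MulAction.IsPretransitive G Ω] (a : Ω) : ((f : ℕ) → (∀ χ : G → ℂ, Cfsg.IsIrrCharacter G χ → χ ≠ (fun _ => 1) → Cfsg.classInner (fun g : G => (Nat.card (MulAction.fixedBy Ω g) : ℂ)) χ ≠ 0 → χ 1 = f) → (∀ χ : G → ℂ, Cfsg.IsIrrCharacter G χ → Cfsg.classInner (fun g : G => (Nat.card (MulAction.fixedBy Ω g) : ℂ)) χ = 0 ∨ Cfsg.classInner (fun g : G => (Nat.card (MulAction.fixedBy Ω g) : ℂ)) χ = 1) ∧ ∀ b : Ω, b ≠ a → Nat.card (MulAction.orbit (MulAction.stabilizer G a) b) = f) ∧ (Nat.card (MulAction.orbitRel.Quotient (MulAction.stabilizer G a) Ω) ≤ 5 → ∀ χ : G → ℂ, Cfsg.IsIrrCharacter G χ → Cfsg.classInner (fun g : G => (Nat.card (MulAction.fixedBy Ω g) : ℂ)) χ = 0 ∨ Cfsg.classInner (fun g : G => (Nat.card (MulAction.fixedBy Ω g) : ℂ)) χ = 1) := by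
  classical
  obtain ⟨c, hc, hc'⟩ := (isCharacter_perm (G := G) Ω).exists_coeff
  have := Fintype.ofFinite (MulAction.orbitRel.Quotient (MulAction.stabilizer G a) Ω)
  have h1 : c (irrOne G) = 1 := (Nat.cast_eq_one (R := ℂ)).1 ((hc (irrOne G)).symm.trans (classInner_pc_one' a))
  have h2 := ((isCharacter_perm Ω).classInner_self_eq_sum hc).symm.trans (classInner_pc_self a)
  rw [Nat.cast_inj, ← Finset.add_sum_erase _ _ (Finset.mem_univ (irrOne G)), h1] at h2
  refine (and_iff_left_of_imp fun h h3 χ hχ => ?_).2 fun f hf => ?_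
  · by_contra! h4
    have h5 : 2 ≤ c ⟨χ, hχ⟩ := by
      rw [hc ⟨χ, hχ⟩, Nat.cast_ne_zero, Nat.cast_ne_one] at h4; omega
    have h6 : (⟨χ, hχ⟩ : IrrCharacter G) ∈ Finset.univ.erase (irrOne G) :=
      Finset.mem_erase.2 ⟨fun h => by rw [h] at h5; omega, Finset.mem_univ _⟩
    refine ((h (charDegree χ) fun ψ hψ h7 h8 => ?_).1 χ hχ).elim h4.1 h4.2
    by_cases h9 : ψ = χ
    · rw [h9, hχ.isCharacter.cast_charDegree]
    rw [hc ⟨ψ, hψ⟩, Nat.cast_ne_zero] at h8
    have := Finset.single_le_sum (f := fun χ => c χ ^ 2) (fun _ _ => Nat.zero_le _)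
      (Finset.mem_erase.2 ⟨fun h : _ = (⟨χ, hχ⟩ : IrrCharacter G) => h9 (congrArg Subtype.val h), Finset.mem_erase.2
        ⟨fun h : _ = irrOne G => h7 (congrArg Subtype.val h), Finset.mem_univ (⟨ψ, hψ⟩ : IrrCharacter G)⟩⟩)
    rw [← Finset.add_sum_erase _ _ h6] at h2
    nlinarith [Nat.pos_of_ne_zero h8]
  have h3 := S0715.result f (fun χ hχ h h' => ⟨1, by simpa using hf χ hχ h h'⟩) a
  rcases f.eq_zero_or_pos with rfl | h0
  · refine ⟨fun χ hχ => or_iff_not_imp_left.2 fun h => ?_, fun b hb => by simpa using h3 b hb⟩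
    obtain rfl : χ = fun _ => 1 := by_contra fun h' => hχ.apply_one_ne_zero (by simpa using hf χ hχ h' h)
    exact classInner_pc_one' a
  have h4 := congrFun hc' 1
  rw [Finset.sum_apply, ← Finset.add_sum_erase _ _ (Finset.mem_univ (irrOne G)), h1,
    Finset.sum_congr rfl fun χ hχ => show ((c χ : ℂ) • χ.1) 1 = (c χ * f : ℕ) by
      rcases eq_or_ne (c χ) 0 with h | h
      · simp [h]
      · simp [hf χ χ.2 (fun h => Finset.ne_of_mem_erase hχ (Subtype.ext h)) (by
          rwa [hc, Nat.cast_ne_zero])], MulAction.fixedBy_one_eq_univ, Nat.card_univ,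
    ← sum_card_orbit (MulAction.stabilizer G a), ← Finset.add_sum_erase _ _
      (Finset.mem_univ (Quotient.mk _ a))] at h4
  have h5 : ∀ b, Quotient.mk (MulAction.orbitRel (MulAction.stabilizer G a) Ω) b = Quotient.mk _ a ↔
      b = a := fun b => ⟨fun h => by obtain ⟨g, rfl⟩ := Quotient.exact h; exact g.2, fun h => h ▸ rfl⟩
  rw [(h5 _).1 (Quotient.out_eq _), show Nat.card (MulAction.orbit (MulAction.stabilizer G a) a) = 1 from
    Nat.card_eq_one_iff_exists.2 ⟨⟨a, MulAction.mem_orbit_self a⟩, fun ⟨_, g, h⟩ =>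
      Subtype.ext (h.symm.trans g.2)⟩] at h4
  simp only [Pi.smul_apply, irrOne_apply, smul_eq_mul] at h4
  norm_cast at h4
  have h6 : ∀ ω ∈ Finset.univ.erase (Quotient.mk (MulAction.orbitRel (MulAction.stabilizer G a) Ω) a),
      f ≤ Nat.card (MulAction.orbit (MulAction.stabilizer G a) ω.out) := fun ω hω =>
    Nat.le_of_dvd (Nat.card_pos_iff.2 ⟨⟨⟨_, MulAction.mem_orbit_self _⟩⟩, inferInstance⟩)
      (h3 _ fun h => Finset.ne_of_mem_erase hω ((Quotient.out_eq ω).symm.trans ((h5 _).2 h)))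
  have h7 := Finset.sum_le_sum h6
  have h8 : ∀ χ ∈ Finset.univ.erase (irrOne G), c χ ≤ c χ ^ 2 := fun χ _ => Nat.le_self_pow two_ne_zero _
  have h9 := Finset.sum_le_sum h8
  have h10 := (Finset.sum_eq_sum_iff_of_le h6).1
  rw [Finset.sum_const, Finset.card_erase_of_mem (Finset.mem_univ _), Finset.card_univ,
    ← Nat.card_eq_fintype_card, ← h2, one_pow, Nat.add_sub_cancel_left, smul_eq_mul] at h7 h10
  rw [← Finset.sum_mul, mul_one, add_right_inj] at h4
  have h11 := h9.antisymm (Nat.le_of_mul_le_mul_right (h7.trans h4.le) h0)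
  refine ⟨fun χ hχ => ?_, fun b hb => ?_⟩
  · rw [hc ⟨χ, hχ⟩, Nat.cast_eq_zero, Nat.cast_eq_one]
    by_cases h : ⟨χ, hχ⟩ = irrOne G
    · exact .inr (h ▸ h1)
    have := (Finset.sum_eq_sum_iff_of_le h8).1 h11 ⟨χ, hχ⟩ (by simpa using h)
    rcases Nat.lt_or_ge 1 (c ⟨χ, hχ⟩) with h | h
    · nlinarith
    · omega
  · rw [h10 (by rw [h4, h11]) (Quotient.mk _ b) (by simpa [h5] using hb),
      (MulAction.orbit_eq_iff (a := Quotient.out _) (b := b)).2 (Quotient.mk_out (s := MulAction.orbitRel _ Ω) b)]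

end Cfsg.Agent.S0716
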