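import Cfsg.Statements.S0717
import Cfsg.Agent.Lib.Char.PermCh
import Cfsg.Agent.Lib.Char.Gallagher

set_option autoImplicit false
open Cfsg

namespace Cfsg.Agent.S0717

open Cfsg.Agent.Char

/-- All suborbits of a transitive group are self-paired (every pair of points is interchanged by some group element) if and only if the permutation character is multiplicity-free and each of its irreducible constituents is real-valued. -/
theorem result {G : Type*} [Group G] [Fintype G] {Ω : Type*} [Fintype Ω] [MulAction G Ω] [MulAction.IsPretransitive G Ω] : (∀ a b : Ω, ∃ g : G, g • a = b ∧ g • b = a) ↔ ∀ χ : G → ℂ, Cfsg.IsIrrCharacter G χ → Cfsg.classInner (fun g : G => (Nat.card (MulAction.fixedBy Ω g) : ℂ)) χ ≠ 0 → Cfsg.classInner (fun g : G => (Nat.card (MulAction.fixedBy Ω g) : ℂ)) χ = 1 ∧ ∀ g : G, (starRingEnd ℂ) (χ g) = χ g := by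
  obtain ⟨c, hc, -⟩ := (isCharacter_perm (G := G) Ω).exists_coeff
  have h1 : ∀ χ : IrrCharacter G, ∃ n : ℤ, fsInd χ.1 = n ∧ n ≤ 1 := fun χ => by
    rcases norm_fsInd_le χ.2 with h | h | h
    exacts [⟨1, by simp [h]⟩, ⟨0, by simp [h]⟩, ⟨-1, by simp [h]⟩]
  choose v hv hv' using h1
  have h2 : fsInd (pc G Ω) = classInner (pc G Ω) (pc G Ω) ↔ ∀ χ, c χ * v χ = c χ ^ 2 := by
    rw [fsInd_eq_sum (isCharacter_perm Ω).isClassFunction, (isCharacter_perm Ω).classInner_self_eq_sum hc]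
    simp only [hc, hv]
    norm_cast
    rw [Nat.cast_sum, Finset.sum_eq_sum_iff_of_le fun χ _ => by
      push_cast; rcases (c χ).eq_zero_or_pos with h | h
      · simp [h]
      · nlinarith [hv' χ]]
    simp
  refine ⟨fun h χ hχ h3 => ?_, fun h a => fsInd_pc_eq_iff.1 (h2.2 fun χ => ?_) a⟩
  · have h4 := h2.1 (fsInd_pc_eq_iff.2 h) ⟨χ, hχ⟩
    rw [hc ⟨χ, hχ⟩, Nat.cast_ne_zero] at h3
    rw [sq, mul_right_inj' (Nat.cast_ne_zero.2 h3)] at h4
    have h5 : c ⟨χ, hχ⟩ = 1 := by have := hv' ⟨χ, hχ⟩; omega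
    refine ⟨by rw [hc ⟨χ, hχ⟩, h5, Nat.cast_one], congrFun (by_contra fun h6 => ?_)⟩
    have := (hv ⟨χ, hχ⟩).symm.trans (hχ.fsInd_eq_zero h6)
    simp [h4, h5] at this
  rcases eq_or_ne (c χ) 0 with h3 | h3
  · simp [h3]
  obtain ⟨h4, h5⟩ := h χ χ.2 (by rwa [hc, Nat.cast_ne_zero])
  have h6 := (hv χ).symm.trans (fsInd_eq_one_of_odd_pc a χ.2 (funext h5) odd_one (h4.trans Nat.cast_one.symm))
  rw [hc, Nat.cast_eq_one] at h4
  simp [h4, show v χ = 1 by exact_mod_cast h6]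

end Cfsg.Agent.S0717
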