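import Cfsg.Statements.S0719
import Cfsg.Agent.Lib.Char.PermCh

set_option autoImplicit false
open Cfsg

namespace Cfsg.Agent.S0719

open Cfsg.Agent.Char

theorem arith {m k r s : ℤ} (h0 : 2 ≤ k) (h1 : k + 3 ≤ 2 * m) (e1 : k + r * (m - 1) + s * m = 0)
    (e2 : k ^ 2 + r ^ 2 * (m - 1) + s ^ 2 * m = 2 * m * k) :
    ∃ a : ℕ, 0 < a ∧ m = 2 * a ^ 2 + 2 * a + 1 ∧ (k = a * (2 * a + 1) ∨ k = (a + 1) * (2 * a + 1)) := by
  obtain ⟨c, rfl⟩ : ∃ c, s = -c - r := ⟨-s - r, by ring⟩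
  obtain rfl : r = k - c * m := by linear_combination -e1
  have e3 : 2 * (k - c * (m - 1)) ^ 2 + c ^ 2 * (m - 1) = 2 * k :=
    mul_left_cancel₀ (show m ≠ 0 by omega) (by linear_combination e2)
  have h2 : c ^ 2 < 2 ^ 2 := by nlinarith [sq_nonneg (k - c * (m - 1))]
  obtain ⟨h3, h4⟩ := abs_lt_of_sq_lt_sq' h2 (by norm_num)
  obtain rfl | rfl | rfl : c = -1 ∨ c = 0 ∨ c = 1 := by omega
  · nlinarith
  · nlinarith
  obtain ⟨v, rfl⟩ : ∃ v, k = v + m - 1 := ⟨k - m + 1, by ring⟩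
  obtain rfl : m = 2 * v ^ 2 - 2 * v + 1 := by linear_combination -e3
  rcases le_or_gt v 0 with h | h
  · obtain ⟨a, rfl⟩ := Int.exists_eq_neg_ofNat h
    exact ⟨a, Nat.pos_of_ne_zero (by rintro rfl; simp at h0), by ring, .inl (by ring)⟩
  · obtain ⟨a, ha⟩ := Int.eq_ofNat_of_zero_le (show 0 ≤ v - 1 by omega)
    obtain rfl : v = a + 1 := by omega
    exact ⟨a, Nat.pos_of_ne_zero (by rintro rfl; simp at h0), by ring, .inr (by ring)⟩

/-- Groups of Wielandt type: if a primitive group of degree `2m` has rank 3 and permutation character `1 + χ₁ + χ₂` with irreducible `χ₁, χ₂` of degrees `m - 1` and `m`, then `m = 2a² + 2a + 1` for some positive integer `a` and the two non-trivial subdegrees are `a(2a+1)` and `(a+1)(2a+1)`. -/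
theorem result {G : Type*} [Group G] [Fintype G] {Ω : Type*} [Fintype Ω] [MulAction G Ω] (hprim : MulAction.IsPreprimitive G Ω) {m : ℕ} (hm : Fintype.card Ω = 2 * m) (a₀ : Ω) (hrank : Nat.card (MulAction.orbitRel.Quotient (MulAction.stabilizer G a₀) Ω) = 3) (χ₁ χ₂ : G → ℂ) (h₁ : Cfsg.IsIrrCharacter G χ₁) (h₂ : Cfsg.IsIrrCharacter G χ₂) (hπ : (fun g : G => (Nat.card (MulAction.fixedBy Ω g) : ℂ)) = fun g => 1 + χ₁ g + χ₂ g) (hd₁ : χ₁ 1 = (m : ℂ) - 1) (hd₂ : χ₂ 1 = m) : ∃ a : ℕ, 0 < a ∧ m = 2 * a ^ 2 + 2 * a + 1 ∧ ∀ b : Ω, b ≠ a₀ → Nat.card (MulAction.orbit (MulAction.stabilizer G a₀) b) = a * (2 * a + 1) ∨ Nat.card (MulAction.orbit (MulAction.stabilizer G a₀) b) = (a + 1) * (2 * a + 1) := by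
  classical
  let H := MulAction.stabilizer G a₀
  have := Fintype.ofFinite (MulAction.orbitRel.Quotient H Ω)
  have hs := sum_card_orbit (Ω := Ω) H
  have hq : ∀ b, Quotient.mk (MulAction.orbitRel H Ω) b = Quotient.mk _ a₀ → b = a₀ := fun b h => by
    obtain ⟨g, rfl⟩ := Quotient.exact h; exact g.2
  have ho : ∀ b, MulAction.orbit H (Quotient.mk (MulAction.orbitRel H Ω) b).out = MulAction.orbit H b :=
    fun b => MulAction.orbit_eq_iff.2 (Quotient.mk_out (s := MulAction.orbitRel H Ω) b)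
  have hp : ∀ b : Ω, 0 < Nat.card (MulAction.orbit H b) := fun b =>
    Nat.card_pos_iff.2 ⟨⟨⟨_, MulAction.mem_orbit_self _⟩⟩, inferInstance⟩
  rw [Nat.card_eq_fintype_card (α := Ω), hm] at hs
  replace hrank : (Finset.univ : Finset (MulAction.orbitRel.Quotient H Ω)).card = 3 := by
    rwa [Nat.card_eq_fintype_card] at hrank
  have h2 : ∀ b, b ≠ a₀ → 2 ≤ Nat.card (MulAction.orbit H b) := fun b hb => by
    by_contra h
    have h3 := (Nat.card_eq_one_iff_unique.1 (show Nat.card (MulAction.orbit H b) = 1 by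
      have := hp b; omega)).1
    have h4 : H = MulAction.stabilizer G b := Subgroup.eq_of_le_of_card_ge (fun g hg => congrArg
      Subtype.val (h3.elim ⟨_, MulAction.mem_orbit b (⟨g, hg⟩ : H)⟩ ⟨_, MulAction.mem_orbit_self _⟩))
      (Nat.eq_of_mul_eq_mul_right (Nat.pos_of_ne_zero Subgroup.index_ne_zero_of_finite) (by
        rw [Subgroup.card_mul_index, MulAction.index_stabilizer_of_transitive G b,
          ← MulAction.index_stabilizer_of_transitive G a₀, Subgroup.card_mul_index])).le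
    have h5 := (Perm.prim_rel (G := G) (fun x y : Ω => MulAction.stabilizer G x = MulAction.stabilizer G y)
      ⟨fun _ => rfl, Eq.symm, Eq.trans⟩ fun g x y h => by
        simp [MulAction.stabilizer_smul_eq_stabilizer_map_conj, h]).resolve_left fun h => hb (h _ _ h4.symm)
    rw [Finset.sum_congr rfl fun ω _ => show _ = 1 from Nat.card_eq_one_iff_exists.2
      ⟨⟨_, MulAction.mem_orbit_self _⟩, fun ⟨_, g, h⟩ => Subtype.ext (h.symm.trans ((h5 a₀ _).le g.2))⟩]
      at hs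
    rw [Finset.sum_const, hrank, smul_eq_mul] at hs; omega
  have h3 : ∀ b, b ≠ a₀ → Nat.card (MulAction.orbit H b) + 3 ≤ 2 * m := fun b hb => by
    have h4 : Quotient.mk (MulAction.orbitRel H Ω) b ∈ Finset.univ.erase (Quotient.mk _ a₀) :=
      Finset.mem_erase.2 ⟨mt (hq b) hb, Finset.mem_univ _⟩
    obtain ⟨ω, hω⟩ := Finset.card_pos.1 (show 0 < ((Finset.univ.erase (Quotient.mk
      (MulAction.orbitRel H Ω) a₀)).erase (Quotient.mk _ b)).card by
        rw [Finset.card_erase_of_mem h4, Finset.card_erase_of_mem (Finset.mem_univ _)]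
        exact (congrArg (· - 1 - 1) hrank).ge)
    rw [← Finset.add_sum_erase _ _ (Finset.mem_univ (Quotient.mk _ a₀)), ← Finset.add_sum_erase _ _ h4,
      ← Finset.add_sum_erase _ _ hω, ho, ho] at hs
    have := h2 ω.out fun h => Finset.ne_of_mem_erase (Finset.mem_of_mem_erase hω)
      (by rw [← h, Quotient.out_eq])
    have := hp a₀
    omega
  have h4 := classInner_pc_one' (G := G) a₀
  have hπ' : pc G Ω = (fun _ => 1) + χ₁ + χ₂ := hπ
  have i1 := isIrrCharacter_one (G := G)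
  have h5 : χ₁ ≠ χ₂ := fun h => one_ne_zero (α := ℂ) (by
    rw [h, hd₂] at hd₁; linear_combination hd₁)
  have h6 : χ₁ ≠ (fun _ => 1) ∧ χ₂ ≠ fun _ => 1 := by
    rw [hπ', classInner_add_left, classInner_add_left, i1.classInner_self, add_assoc, add_eq_left,
      h₁.classInner_eq_ite i1, h₂.classInner_eq_ite i1] at h4
    constructor <;> intro h <;> rw [if_pos h] at h4 <;> split_ifs at h4 <;> norm_num at h4
  have h7 : ∀ χ, IsIrrCharacter G χ → classInner (pc G Ω) χ =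
      if χ = (fun _ => 1) ∨ χ = χ₁ ∨ χ = χ₂ then 1 else 0 := fun χ hχ => by
    rw [hπ', classInner_add_left, classInner_add_left, i1.classInner_eq_ite hχ, h₁.classInner_eq_ite hχ,
      h₂.classInner_eq_ite hχ]
    by_cases a1 : χ = fun _ => 1
    · simp [a1, h6.1, h6.2]
    by_cases a2 : χ = χ₁
    · simp [a2, h6.1.symm, h5.symm]
    by_cases a3 : χ = χ₂
    · simp [a3, h6.2.symm, h5]
    simp [a1, a2, a3, Ne.symm a1, Ne.symm a2, Ne.symm a3]
  have key : ∀ b, b ≠ a₀ → ∃ a : ℕ, 0 < a ∧ (m : ℤ) = 2 * a ^ 2 + 2 * a + 1 ∧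
      ((Nat.card (MulAction.orbit H b) : ℤ) = a * (2 * a + 1) ∨
        (Nat.card (MulAction.orbit H b) : ℤ) = (a + 1) * (2 * a + 1)) := fun b hb => by
    obtain ⟨F, f1, f2, f3, f4, f5⟩ := exists_orbital_fun (G := G)
      (fun x y : Ω => ∃ g : G, g • a₀ = x ∧ g • b = y) (fun g x y => ⟨fun ⟨k, h1, h2⟩ =>
        ⟨g⁻¹ * k, by simp [mul_smul, h1], by simp [mul_smul, h2]⟩, fun ⟨k, h1, h2⟩ =>
        ⟨g * k, by simp [mul_smul, h1], by simp [mul_smul, h2]⟩⟩) a₀
    have e : Nat.card {y // ∃ g : G, g • a₀ = a₀ ∧ g • b = y} = Nat.card (MulAction.orbit H b) :=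
      Nat.card_congr (Equiv.subtypeEquivRight fun y =>
        ⟨fun ⟨g, h1, h2⟩ => ⟨⟨g, h1⟩, h2⟩, fun ⟨g, h⟩ => ⟨g, g.2, h⟩⟩)
    have f6 : ∀ j, F j 1 = classInner (F 1) (fun _ => 1) ^ j + classInner (F 1) χ₁ ^ j * (m - 1) +
        classInner (F 1) χ₂ ^ j * m := fun j => by
      rw [(f4 j).apply_eq_sum, ← Finset.sum_subset (Finset.subset_univ {irrOne G, ⟨χ₁, h₁⟩, ⟨χ₂, h₂⟩})
        fun χ _ h => by rw [((f5 χ χ.2).2 j).1 (by simpa [h7 χ χ.2, Subtype.ext_iff, coe_irrOne] using h), zero_mul],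
        Finset.sum_insert (by simp [Subtype.ext_iff, coe_irrOne, h6.1.symm, h6.2.symm]),
        Finset.sum_pair (by simpa using h5), coe_irrOne, ((f5 _ i1).2 j).2 h4,
        ((f5 _ h₁).2 j).2 (by simp [h7 _ h₁]), ((f5 _ h₂).2 j).2 (by simp [h7 _ h₂])]
      simp only [hd₁, hd₂]
      ring
    have f7 : ∀ χ, IsIrrCharacter G χ → (χ = χ₁ ∨ χ = χ₂) → ∃ r : ℤ, classInner (F 1) χ = r :=
      fun χ hχ h => exists_int_of_forall_ringEquiv (f5 χ hχ).1 fun σ => by
      have g1 := hχ.isCharacter.isGen.classInner_map_ringHom (F 1) σ.toRingHom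
      have g2 := hχ.isCharacter.isGen.classInner_map_ringHom (pc G Ω) σ.toRingHom
      have g3 : σ (χ 1) = χ 1 := by rw [← hχ.isCharacter.cast_charDegree, map_natCast]
      simp only [f1, pc, map_natCast] at g1 g2
      rw [h7 _ (hχ.map_ringHom _), h7 _ hχ, if_pos (c := _ ∨ χ = χ₁ ∨ χ = χ₂) (.inr h), map_one, ite_eq_left_iff] at g2
      refine g1.symm.trans ?_
      congr 1
      · exact funext fun g => (f1 g).symm
      rcases by_contra fun h => zero_ne_one (g2 h) with g4 | g4 | g4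
      · refine absurd (funext fun g => σ.injective ((congrFun g4 g).trans (map_one σ).symm)) ?_
        rcases h with rfl | rfl
        exacts [h6.1, h6.2]
      · rcases h with rfl | rfl
        · exact g4
        · simpa [hd₁, hd₂, eq_sub_iff_add_eq] using g3.symm.trans (congrFun g4 1)
      · rcases h with rfl | rfl
        · simpa [hd₁, hd₂, sub_eq_iff_eq_add] using g3.symm.trans (congrFun g4 1)
        · exact g4
    obtain ⟨r, hr⟩ := f7 _ h₁ (.inl rfl)
    obtain ⟨s, hs⟩ := f7 _ h₂ (.inr rfl)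
    have e1 := f6 1
    have e2 := f6 2
    have : IsEmpty {x : Ω // ∃ g : G, g • a₀ = x ∧ g • b = (1 : G) • x} := ⟨fun ⟨x, g, h1, h2⟩ =>
      hb (MulAction.injective g (by simp [h1, h2]))⟩
    rw [f1, Nat.card_of_isEmpty, f3, e, hr, hs] at e1
    rw [f2, f3, e, hr, hs, Nat.card_eq_fintype_card (α := Ω), hm] at e2
    have h2 := h2 b hb
    have h3 := h3 b hb
    rcases isEmpty_or_nonempty {y // (∃ g : G, g • a₀ = a₀ ∧ g • b = y) ∧ ∃ g : G, g • a₀ = y ∧ g • b = a₀}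
      with h | ⟨⟨y, ⟨g, g1, g2⟩, k, k1, k2⟩⟩
    · rw [Nat.card_of_isEmpty] at e2
      have e2 : (0 : ℤ) = (Nat.card (MulAction.orbit H b) : ℤ) ^ 2 + r ^ 2 * (m - 1) + s ^ 2 * m := by
        exact_mod_cast e2
      nlinarith [sq_nonneg r, sq_nonneg s, mul_nonneg (sq_nonneg r) (show (0 : ℤ) ≤ m - 1 by omega),
        mul_nonneg (sq_nonneg s) (show (0 : ℤ) ≤ m by omega)]
    rw [Nat.card_congr (Equiv.subtypeEquivRight fun z => and_iff_left_of_imp fun ⟨t, t1, t2⟩ =>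
      ⟨t * g⁻¹ * k, by simp [mul_smul, k1, ← g2, t2], by
        rw [mul_smul, mul_smul, k2, inv_smul_eq_iff.2 g1.symm, t1]⟩), e] at e2
    exact arith (r := r) (s := s) (by exact_mod_cast h2) (by exact_mod_cast h3)
      (Int.cast_injective (α := ℂ) (by push_cast at e1 ⊢; linear_combination -e1))
      (Int.cast_injective (α := ℂ) (by push_cast at e2 ⊢; linear_combination -e2))
  have := Fintype.one_lt_card_iff_nontrivial.1 (Nat.lt_of_lt_of_eq (by norm_num) hrank.symm)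
  obtain ⟨ω, hω⟩ := exists_ne (α := MulAction.orbitRel.Quotient H Ω)
    (Quotient.mk (MulAction.orbitRel H Ω) a₀)
  obtain ⟨a, a1, a2, -⟩ := key ω.out fun h => hω (by rw [← h, Quotient.out_eq])
  refine ⟨a, a1, by exact_mod_cast a2, fun b hb => ?_⟩
  obtain ⟨a', -, a3, a4⟩ := key b hb
  obtain rfl : a = a' := by nlinarith [a2.symm.trans a3, sq_nonneg ((a : ℤ) - a')]
  exact_mod_cast a4

end Cfsg.Agent.S0719
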