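import Cfsg.Statements.S0720
import Cfsg.Agent.Lib.Fusion.Wd2

set_option autoImplicit false
open Cfsg

namespace Cfsg.Agent.S0720

open MulAction in
theorem setup {G α : Type*} [Group G] [Fintype α] [MulAction G α] {p : ℕ} [hp : Fact p.Prime]
    (hα : Fintype.card α = 2 * p) {c : G} (hc : orderOf c = p) (fr : ∀ y : α, c • y ≠ y) (a₀ : α) :
    ∃ e : ZMod p × Bool ≃ α, e (0, true) = a₀ ∧ ∀ x r, c • e (x, r) = e (x + 1, r) := by
  let f : ZMod p → G := fun x => c ^ x.val
  have fa : ∀ x y, f (x + y) = f x * f y := fun x y => by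
    simp only [f, ZMod.val_add, ← pow_add]
    conv_lhs => enter [2, 2]; rw [← hc]
    exact pow_mod_orderOf _ _
  have f0 : f 0 = 1 := by simp [f]
  have f1 : f 1 = c := by simp [f, ZMod.val_one]
  have fr' : ∀ x (y : α), f x • y = y → x = 0 := fun x y h => by
    have h1 := pow_smul_eq_iff_period_dvd.1 h
    rcases (Nat.dvd_prime hp.out).1 (hc ▸ period_dvd_orderOf c y) with h2 | h2
    · exact absurd (period_eq_one_iff.1 h2) (fr y)
    · rw [h2] at h1
      exact (ZMod.val_eq_zero x).1 (Nat.eq_zero_of_dvd_of_lt h1 x.val_lt)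
  have sb : ∀ x y (u w : α), f x • u = f y • w → f (x - y) • u = w := fun x y u w h => by
    rw [sub_eq_neg_add, fa, mul_smul, h, ← mul_smul, ← fa, neg_add_cancel, f0, one_smul]
  obtain ⟨b, hb⟩ : ∃ b, ∀ x, f x • a₀ ≠ b := by
    by_contra! h
    have := Fintype.card_le_of_surjective (fun x => f x • a₀) h
    have := hp.out.pos
    rw [ZMod.card] at *
    omega
  refine ⟨Equiv.ofBijective (fun u => f u.1 • if u.2 then a₀ else b)
    ((Fintype.bijective_iff_injective_and_card _).2 ⟨?_, by simp [hα, mul_comm]⟩), by simp [f0],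
    fun x r => by simp [add_comm x, fa, f1, mul_smul]⟩
  rintro ⟨x, r⟩ ⟨y, s⟩ h
  cases r <;> cases s
  · exact Prod.ext (sub_eq_zero.1 (fr' _ _ (sb _ _ _ _ h))) rfl
  · exact absurd (sb _ _ _ _ h.symm) (hb _)
  · exact absurd (sb _ _ _ _ h) (hb _)
  · exact Prod.ext (sub_eq_zero.1 (fr' _ _ (sb _ _ _ _ h))) rfl

/-- Wielandt's Theorem on primitive groups of degree `2p`: such a group is doubly transitive, or it has rank 3, `p = 2a² + 2a + 1`, and subdegrees `a(2a+1)` and `(a+1)(2a+1)`. -/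
theorem result {α : Type*} [Fintype α] [DecidableEq α] {p : ℕ} (hp : p.Prime) (hα : Fintype.card α = 2 * p) (G : Subgroup (Equiv.Perm α)) (hG : MulAction.IsPreprimitive G α) (a₀ : α) : MulAction.IsMultiplyPretransitive G α 2 ∨ (Nat.card (MulAction.orbitRel.Quotient (MulAction.stabilizer G a₀) α) = 3 ∧ ∃ a : ℕ, 0 < a ∧ p = 2 * a ^ 2 + 2 * a + 1 ∧ ∀ b : α, b ≠ a₀ → Nat.card (MulAction.orbit (MulAction.stabilizer G a₀) b) = a * (2 * a + 1) ∨ Nat.card (MulAction.orbit (MulAction.stabilizer G a₀) b) = (a + 1) * (2 * a + 1)) := by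
  classical
  have := Fact.mk hp
  have h2 := hp.two_le
  obtain ⟨c, hc⟩ := exists_prime_orderOf_dvd_card' (G := G) p (by
    rw [← (MulAction.stabilizer G a₀).index_mul_card, MulAction.index_stabilizer_of_transitive,
      Nat.card_eq_fintype_card, hα]
    exact ((dvd_mul_left p 2).mul_right _))
  by_cases fr : ∀ y : α, c • y ≠ y
  · obtain ⟨e, rfl, he⟩ := setup hα hc fr a₀
    by_cases col : ∀ g g' : G, Wd.v e g true * Wd.v e g' false = Wd.v e g false * Wd.v e g' true
    · exact .inr (Wd.colin he col)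
    push Not at col
    obtain ⟨g, g', col⟩ := col
    have key : ∀ a b : α, a ≠ b → ∃ k : G, k • a = e (0, true) ∧ k • b = e (1, true) := fun a b hab => by
      obtain ⟨k, hk⟩ := MulAction.exists_smul_eq G a (e (0, true))
      obtain ⟨t, h1, h2⟩ := Wd.mem_orb.1 (Wd.noncol he col (b := k • b)
        fun q => hab (smul_left_cancel k (hk.trans q.symm)))
      exact ⟨t * k, by rw [mul_smul, hk, h1], by rw [mul_smul, h2]⟩
    refine .inl (MulAction.is_two_pretransitive_iff.2 fun {a b u w} hab huw => ?_)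
    obtain ⟨k, h1, h2⟩ := key a b hab
    obtain ⟨t, h3, h4⟩ := key u w huw
    exact ⟨t⁻¹ * k, by rw [mul_smul, h1, ← h3, inv_smul_smul], by rw [mul_smul, h2, ← h4, inv_smul_smul]⟩
  push Not at fr
  obtain ⟨y, hy⟩ := fr
  have hc' : orderOf (c : Equiv.Perm α) = p := by rw [Subgroup.orderOf_coe, hc]
  have cy : (c : Equiv.Perm α).IsCycle := Equiv.Perm.isCycle_of_prime_order (hc' ▸ hp) (by
    rw [hc', ← hα]
    exact Finset.card_lt_univ_of_notMem (Equiv.Perm.notMem_support.2 hy))
  refine .inl (hG.is_two_pretransitive (n := p - 1) ?_ (by rw [Nat.card_eq_fintype_card]; omega)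
    (Equiv.Perm.isPretransitive_of_isCycle_mem cy c.2))
  have := Set.ncard_add_ncard_compl ((c : Equiv.Perm α).support : Set α)
  rw [Set.ncard_coe_finset, ← cy.orderOf, hc', Nat.card_eq_fintype_card] at this
  omega

end Cfsg.Agent.S0720
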