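import Cfsg.Statements.S0723
import Mathlib
import Cfsg.Agent.S0721
import Cfsg.Agent.S0722

set_option autoImplicit false
open Cfsg

namespace Cfsg.Agent.S0723
section
open Pointwise commutatorElement Subgroup
theorem hom_fac {T : Type*} [Group T] [Finite T] [IsSimpleGroup T] (hT : center T = ⊥) {ι : Type*} [Finite ι] [DecidableEq ι]
    (f : (ι → T) →* T) (hf : Function.Surjective f) : ∃ (i : ι) (σ : T ≃* T), ∀ x, f x = σ (x i) := by
  obtain ⟨i, t, ht⟩ : ∃ i t, f (Pi.mulSingle i t) ≠ 1 := by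
    by_contra h
    push Not at h
    obtain ⟨t, ht⟩ := exists_ne (1 : T)
    obtain ⟨x, rfl⟩ := hf t
    exact ht (DFunLike.congr_fun (MonoidHom.pi_ext (f := f) (g := 1) h) x)
  let g : T →* T := f.comp (MonoidHom.mulSingle (fun _ => T) i)
  have hg : Function.Injective g := (MonoidHom.ker_eq_bot_iff g).1
    ((MonoidHom.normal_ker g).eq_bot_or_eq_top.resolve_right fun e => ht (show t ∈ g.ker from e ▸ mem_top t))
  have hb := hg.bijective_of_finite
  refine ⟨i, MulEquiv.ofBijective g hb, fun x => DFunLike.congr_fun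
    (MonoidHom.pi_ext (f := f) (g := g.comp (Pi.evalMonoidHom (fun _ => T) i)) fun j y => ?_) x⟩
  by_cases h : j = i
  · subst h; simp [g]
  · simp only [MonoidHom.comp_apply, Pi.evalMonoidHom_apply, Pi.mulSingle_eq_of_ne' h, map_one]
    refine mem_bot.1 (hT ▸ mem_center_iff.2 fun z => ?_)
    obtain ⟨z, rfl⟩ := hb.2 z
    exact ((Pi.mulSingle_commute (f := fun _ => T) (Ne.symm h) z y).map f).eq

theorem aut_of_ker {X T : Type*} [Group X] [Group T] (f g : X →* T) (hf : Function.Surjective f)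
    (hg : Function.Surjective g) (h : f.ker = g.ker) : ∃ σ : T ≃* T, ∀ x, σ (f x) = g x :=
  ⟨(QuotientGroup.quotientKerEquivOfSurjective f hf).symm.trans ((QuotientGroup.quotientMulEquivOfEq h).trans
    (QuotientGroup.quotientKerEquivOfSurjective g hg)), fun x => by
    rw [MulEquiv.trans_apply, show f x = QuotientGroup.quotientKerEquivOfSurjective f hf x from rfl,
      MulEquiv.symm_apply_apply]; rfl⟩

theorem scott {N T : Type*} [Group N] [Finite N] [Group T] [IsSimpleGroup T] (hT : _root_.commutator T = ⊤) {ι : Type*} [Fintype ι]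
    [DecidableEq ι] (e : N ≃* (ι → T)) (X : Subgroup N) (h1 : ∀ i t, ∃ x ∈ X, e x i = t)
    (h2 : ∀ i j, (∀ x ∈ X, e x i = 1 ↔ e x j = 1) → i = j) : X = ⊤ := by
  let p : ι → N →* T := fun i => (Pi.evalMonoidHom (fun _ => T) i).comp e.toMonoidHom
  have su : ∀ i, Function.Surjective ((p i).comp X.subtype) := fun i t => by
    obtain ⟨x, hx, e⟩ := h1 i t
    exact ⟨⟨x, hx⟩, e⟩
  have one : ∀ i j, j ≠ i → (X ⊓ (p j).ker).map (p i) = ⊤ := fun i j ji => by
    have : ((X ⊓ (p j).ker).map (p i)).Normal := ⟨by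
      rintro _ ⟨x, hx, rfl⟩ t
      obtain ⟨y, hy, rfl⟩ := h1 i t
      exact ⟨y * x * y⁻¹, ⟨X.mul_mem (X.mul_mem hy hx.1) (X.inv_mem hy), (MonoidHom.normal_ker _).conj_mem x hx.2 y⟩,
        by simp [p]⟩⟩
    refine this.eq_bot_or_eq_top.resolve_left fun e0 => ji (h2 j i fun x hx => ?_)
    have le : ((p j).comp X.subtype).ker ≤ ((p i).comp X.subtype).ker := fun y hy =>
      mem_bot.1 (e0 ▸ mem_map_of_mem (p i) (show (y : N) ∈ X ⊓ (p j).ker from ⟨y.2, hy⟩))
    have := eq_of_le_of_card_ge le (by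
      have a := ((p j).comp X.subtype).ker.card_mul_index
      rw [← ((p i).comp X.subtype).ker.card_mul_index, index_ker, index_ker, MonoidHom.range_eq_top.2 (su i),
        MonoidHom.range_eq_top.2 (su j)] at a
      haveI := Finite.of_surjective _ (su i)
      exact (Nat.eq_of_mul_eq_mul_right Nat.card_pos a).ge)
    exact SetLike.ext_iff.1 this ⟨x, hx⟩
  have all : ∀ i (S : Finset ι), i ∉ S → (X ⊓ ⨅ j ∈ S, (p j).ker).map (p i) = ⊤ := fun i S => by
    induction S using Finset.induction_on with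
    | empty => exact fun _ => eq_top_iff.2 fun t _ => by simpa [p] using h1 i t
    | insert j S _ ih =>
      intro h
      rw [Finset.mem_insert, not_or] at h
      rw [eq_top_iff, ← hT, commutator_def]
      conv_lhs => rw [← ih h.2]; enter [2]; rw [ih h.2, ← one i j (Ne.symm h.1)]
      rw [← map_commutator]
      refine map_mono (commutator_le.2 fun a ha b hb => ⟨X.mul_mem (X.mul_mem (X.mul_mem ha.1 hb.1) (X.inv_mem ha.1))
        (X.inv_mem hb.1), ?_⟩)
      have h3 : a ∈ ⨅ j ∈ S, (p j).ker := ha.2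
      have h4 : p j b = 1 := hb.2
      show ⁅a, b⁆ ∈ ⨅ l ∈ insert j S, (p l).ker
      simp only [mem_iInf, MonoidHom.mem_ker, Finset.mem_insert, forall_eq_or_imp, map_commutatorElement] at h3 ⊢
      exact ⟨by simp [h4], fun l hl => by simp [h3 l hl]⟩
  refine eq_top_iff.2 fun n _ => ?_
  obtain ⟨y, rfl⟩ := e.symm.surjective n
  have : X.comap e.symm.toMonoidHom = ⊤ := by
    rw [eq_top_iff, ← pi_top Set.univ, pi_le_iff]
    rintro i _ ⟨t, -, rfl⟩
    obtain ⟨x, hx, rfl⟩ := (all i (Finset.univ.erase i) (by simp)).ge (mem_top t)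
    have h3 : x ∈ ⨅ j ∈ Finset.univ.erase i, (p j).ker := hx.2
    simp only [mem_iInf, MonoidHom.mem_ker] at h3
    have : (MonoidHom.mulSingle (fun _ => T) i) (p i x) = e x := funext fun l => by
      by_cases h : l = i
      · subst h; simp [p]
      · simpa [p, h] using (h3 l (by simp [h])).symm
    rw [this]
    simpa using hx.1
  exact this.ge (mem_top y)
end

/-- The core of the O'Nan–Scott Theorem. Let `H` be a primitive permutation group on a finite set whose unique minimal normal subgroup `N` is non-abelian, and `K` a point stabiliser. Then there are a non-abelian simple group `T` and an isomorphism `N ≃* T^m` (`m ≥ 1`) under which `K ⊓ N` becomes either a product `∏ K_i` of proper subgroups `K_i < T`, or the set of functions constant on each block of a partition of the index set into blocks of one common size `k ≥ 2`. -/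
theorem result {α : Type*} [Finite α] (H : Subgroup (Equiv.Perm α)) [MulAction.IsPreprimitive H α] (N : Subgroup H) [N.Normal] (hN : N ≠ ⊥) (hmin : ∀ M : Subgroup H, M.Normal → M ≤ N → M = ⊥ ∨ M = N) (huniq : ∀ L : Subgroup H, L.Normal → L ≠ ⊥ → (∀ M : Subgroup H, M.Normal → M ≤ L → M = ⊥ ∨ M = L) → L = N) (hnab : ¬ IsMulCommutative N) (a : α) : ∃ (T : Type) (_ : Group T) (m : ℕ) (e : N ≃* (Fin m → T)), IsSimpleGroup T ∧ ¬ IsMulCommutative T ∧ 0 < m ∧ ((∃ K : Fin m → Subgroup T, (∀ i, K i ≠ ⊤) ∧ ∀ n : N, (n : H) ∈ MulAction.stabilizer H a ↔ ∀ i, e n i ∈ K i) ∨ (∃ (k : ℕ) (c : Fin m → Fin m), 2 ≤ k ∧ (∀ j : Fin m, Nat.card {i : Fin m // c i = j} = k ∨ Nat.card {i : Fin m // c i = j} = 0) ∧ ∀ n : N, (n : H) ∈ MulAction.stabilizer H a ↔ ∀ i j : Fin m, c i = c j → e n i = e n j)) := by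
  open Pointwise commutatorElement Subgroup in
  classical
  haveI : Finite H := inferInstance
  obtain ⟨T, _, m, hs, hm, ⟨e⟩⟩ := S0721.result N hN hmin
  have hT : ¬ IsMulCommutative T := fun _ => hnab ⟨⟨fun a b => e.injective (by rw [map_mul, map_mul, mul_comm'])⟩⟩
  haveI : Finite T := Finite.of_surjective (fun n : N => e n ⟨0, hm⟩) fun t => ⟨e.symm fun _ => t, by simp⟩
  have hZ : center T = ⊥ := (inferInstance : (center T).Normal).eq_bot_or_eq_top.resolve_right fun h =>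
    hT ⟨⟨fun a b => mem_center_iff.1 (h.ge (mem_top b)) a⟩⟩
  have hC : _root_.commutator T = ⊤ := (inferInstance : (_root_.commutator T).Normal).eq_bot_or_eq_top.resolve_left fun h =>
    hT ⟨⟨fun a b => commutatorElement_eq_one_iff_mul_comm.1 (mem_bot.1 (h ▸ commutator_mem_commutator (mem_top a) (mem_top b)))⟩⟩
  obtain ⟨t, t1⟩ := exists_ne (1 : T)
  set K := MulAction.stabilizer H a with hK
  have tr : MulAction.IsPretransitive N α := MulAction.IsQuasiPreprimitive.isPretransitive_of_normal fun h => hN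
    (eq_bot_iff.2 fun n hn => Subtype.ext (Equiv.ext fun x => (h.ge (Set.mem_univ x) : x ∈ MulAction.fixedPoints N α) ⟨n, hn⟩))
  have X0 : K.subgroupOf N ≠ ⊤ := fun h => hN (eq_bot_iff.2 fun n hn => Subtype.ext (Equiv.ext fun x => by
    obtain ⟨g, rfl⟩ := tr.exists_smul_eq a x
    have h1 : g • a = a := h.ge (mem_top g)
    rw [h1]
    exact h.ge (mem_top (⟨n, hn⟩ : N))))
  have : ∀ (k : H) (j : Fin m), ∃ (i : Fin m) (σ : T ≃* T), ∀ n : N, e (MulAut.conjNormal k n) j = σ (e n i) := fun k j => by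
    obtain ⟨i, σ, h⟩ := hom_fac hZ ((Pi.evalMonoidHom (fun _ => T) j).comp
      (e.symm.trans ((MulAut.conjNormal k).trans e)).toMonoidHom)
      ((Function.surjective_eval j).comp (e.symm.trans ((MulAut.conjNormal k).trans e)).surjective)
    exact ⟨i, σ, fun n => by simpa using h (e n)⟩
  choose ρ τ hρ using this
  have cK : ∀ k ∈ K, ∀ n : N, (n : H) ∈ K → ((MulAut.conjNormal k n : N) : H) ∈ K := fun k hk n hn =>
    K.mul_mem (K.mul_mem hk hn) (K.inv_mem hk)
  have mx : ∀ Y : Subgroup N, K.subgroupOf N ≤ Y → (∀ k ∈ K, ∀ n ∈ Y, MulAut.conjNormal k n ∈ Y) → Y ≠ ⊤ →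
      ∀ n : N, (n : H) ∈ K ↔ n ∈ Y := fun Y h1 h2 h3 n => by
    refine ⟨fun h => h1 h, fun h => ?_⟩
    obtain h4 | h4 := S0722.result H N hN hmin a (Y.map N.subtype) (map_subtype_le Y) (fun x hx => ⟨⟨x, hx.2⟩, h1 hx.1, rfl⟩)
      fun k hk => mem_normalizer_iff.2 fun x => ⟨by rintro ⟨y, hy, rfl⟩; exact ⟨_, h2 k hk y hy, rfl⟩, by
        rintro ⟨y, hy, e⟩
        exact ⟨_, h2 k⁻¹ (K.inv_mem hk) y hy, by simp [show (y : H) = k * x * k⁻¹ from e, mul_assoc]⟩⟩
    · exact (h4.le (mem_map_of_mem _ h)).1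
    · exact (h3 (eq_top_iff.2 fun y _ => (mem_map_iff_mem N.subtype_injective).1 (h4.ge y.2))).elim
  have trans : ∀ i j, ∃ k ∈ K, ρ k i = j := fun i j => by
    let M : Subgroup N :=
      { carrier := {n | ∀ k ∈ K, e (MulAut.conjNormal k n) i = 1}
        mul_mem' := fun {x y} hx hy k hk => by simp [hx k hk, hy k hk]
        one_mem' := fun k hk => by simp
        inv_mem' := fun {x} hx k hk => by simp [hx k hk] }
    obtain h | h := hmin (M.map N.subtype) ⟨by
      rintro _ ⟨n, hn, rfl⟩ g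
      obtain ⟨u, hu⟩ := tr.exists_smul_eq a (g • a)
      have hk : (u : H)⁻¹ * g ∈ K := by rw [hK, MulAction.mem_stabilizer_iff, mul_smul, ← hu]; exact inv_smul_smul u a
      refine ⟨MulAut.conjNormal g n, fun k h => ?_, rfl⟩
      have : MulAut.conjNormal k (MulAut.conjNormal g n) = MulAut.conjNormal k u * MulAut.conjNormal (k * (u⁻¹ * g)) n *
        (MulAut.conjNormal k u)⁻¹ := Subtype.ext (by simp [mul_assoc])
      have h5 : e (MulAut.conjNormal (k * ((u : H)⁻¹ * g)) n) i = 1 := hn _ (K.mul_mem h hk)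
      rw [this, map_mul e, map_mul e, map_inv e, Pi.mul_apply, Pi.mul_apply, Pi.inv_apply]
      exact mul_inv_eq_one.2 (mul_eq_left.2 h5)⟩ (map_subtype_le M)
    · by_contra f
      push Not at f
      have : e.symm (Pi.mulSingle j t) ∈ M := fun k hk => by simp [hρ, f k hk]
      have := Subtype.ext (p := (· ∈ N)) (a2 := (1 : N)) (mem_bot.1 (h.le (mem_map_of_mem _ this)))
      exact t1 (by simpa using congrFun (congrArg e this) j)
    · have := (mem_map_iff_mem N.subtype_injective).1 (h.ge (e.symm fun _ => t).2) 1 K.one_mem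
      exact (t1 (by simpa using this)).elim
  let p : Fin m → N →* T := fun i => (Pi.evalMonoidHom (fun _ => T) i).comp e.toMonoidHom
  by_cases hp : ∀ i t, ∃ x ∈ K.subgroupOf N, e x i = t
  swap
  · have ne : ∀ i, (K.subgroupOf N).map (p i) ≠ ⊤ := fun i h => hp fun j s => by
      obtain ⟨k, hk, rfl⟩ := trans i j
      obtain ⟨x, hx, e1⟩ := h.ge (mem_top (τ k i s))
      refine ⟨(MulAut.conjNormal k).symm x, cK k⁻¹ (K.inv_mem hk) x hx, (τ k i).injective ?_⟩
      rw [← hρ, MulEquiv.apply_symm_apply]; exact e1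
    refine ⟨T, _, m, e, hs, hT, hm, .inl ⟨fun i => (K.subgroupOf N).map (p i), ne, fun n => ?_⟩⟩
    rw [mx (⨅ i, ((K.subgroupOf N).map (p i)).comap (p i)) (le_iInf fun i => le_comap_map _ _) (fun k hk n hn => ?_)
      (fun h => ne ⟨0, hm⟩ (eq_top_iff.2 fun s _ => ?_)), mem_iInf]
    · rfl
    · rw [mem_iInf] at hn ⊢
      intro i
      obtain ⟨x, hx, e1⟩ := hn (ρ k i)
      exact ⟨_, cK k hk x hx, (hρ k i x).trans ((congrArg (τ k i) e1).trans (hρ k i n).symm)⟩
    · simpa [p] using mem_iInf.1 (h.ge (mem_top (e.symm fun _ => s))) ⟨0, hm⟩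
  let R : Setoid (Fin m) := ⟨fun i j => ∀ x ∈ K.subgroupOf N, e x i = 1 ↔ e x j = 1,
    fun _ _ _ => Iff.rfl, fun h x hx => (h x hx).symm, fun h1 h2 x hx => (h1 x hx).trans (h2 x hx)⟩
  have Rρ : ∀ k ∈ K, ∀ i j, R i j → R (ρ k i) (ρ k j) := fun k hk i j h x hx => by
    simpa [hρ] using h (MulAut.conjNormal k x) (cK k hk x hx)
  obtain ⟨i₀, j₀, r₀, n₀⟩ : ∃ i j, R i j ∧ i ≠ j := by
    by_contra f
    push Not at f
    exact X0 (scott hC e _ hp f)
  let c : Fin m → Fin m := fun i => (Quotient.mk R i).out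
  have hc : ∀ i j, c i = c j ↔ R i j := fun i j => Quotient.out_inj.trans Quotient.eq
  have su : ∀ i, Function.Surjective ((p i).comp (K.subgroupOf N).subtype) := fun i t => by
    obtain ⟨x, hx, e⟩ := hp i t
    exact ⟨⟨x, hx⟩, e⟩
  choose σ hσ using fun i => aut_of_ker _ _ (su i) (su (c i)) (Subgroup.ext fun x => (Quotient.mk_out (s := R) i x x.2).symm)
  replace hσ : ∀ i, ∀ x ∈ K.subgroupOf N, σ i (e x i) = e x (c i) := fun i x hx => hσ i ⟨x, hx⟩
  have le : ∀ i j, Nat.card {l // R l i} ≤ Nat.card {l // R l j} := fun i j => by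
    obtain ⟨k, hk, rfl⟩ := trans i j
    refine Nat.card_le_card_of_injective (fun l => ⟨ρ k l, Rρ k hk _ _ l.2⟩) fun l l' h => Subtype.ext (by_contra fun f => t1 ?_)
    have h : ρ k l = ρ k l' := congrArg Subtype.val h
    have h1 := hρ k l ((MulAut.conjNormal k).symm (e.symm (Pi.mulSingle l t)))
    have h2 := hρ k l' ((MulAut.conjNormal k).symm (e.symm (Pi.mulSingle l t)))
    simp only [MulEquiv.apply_symm_apply, Pi.mulSingle_eq_same, Pi.mulSingle_eq_of_ne' f] at h1 h2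
    rw [h1, h, (MulEquiv.map_eq_one_iff _).1 h2.symm, map_one]
  refine ⟨T, _, m, e.trans (MulEquiv.piCongrRight σ), hs, hT, hm, .inr ⟨Nat.card {l // R l j₀}, c,
    Finite.one_lt_card_iff_nontrivial.2 ⟨⟨i₀, r₀⟩, ⟨j₀, R.refl _⟩, fun h => n₀ (congrArg Subtype.val h)⟩, fun j => ?_, fun n => ?_⟩⟩
  · by_cases h : ∃ i, c i = j
    · obtain ⟨i, rfl⟩ := h
      exact .inl ((Nat.card_congr (Equiv.subtypeEquivRight fun l => hc l i)).trans ((le _ _).antisymm (le _ _)))
    · haveI : IsEmpty {i // c i = j} := ⟨fun i => h ⟨i, i.2⟩⟩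
      exact .inr Nat.card_of_isEmpty
  let D : Subgroup N :=
    { carrier := {n | ∀ i j, R i j → ∃ x ∈ K.subgroupOf N, e x i = e n i ∧ e x j = e n j}
      mul_mem' := fun {x y} hx hy i j h => by
        obtain ⟨u, h1, h2, h3⟩ := hx i j h
        obtain ⟨v, h4, h5, h6⟩ := hy i j h
        exact ⟨u * v, mul_mem h1 h4, by simp [h2, h5], by simp [h3, h6]⟩
      one_mem' := fun i j _ => ⟨1, one_mem _, rfl, rfl⟩
      inv_mem' := fun {x} hx i j h => by
        obtain ⟨u, h1, h2, h3⟩ := hx i j h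
        exact ⟨u⁻¹, inv_mem h1, by simp [h2], by simp [h3]⟩ }
  refine ⟨fun h i j e1 => ?_, fun h => (mx D (fun x hx i j _ => ⟨x, hx, rfl, rfl⟩) (fun k hk y hy i j r => ?_)
    (fun h => ?_) n).2 fun i j r => ?_⟩
  · exact (hσ i n h).trans (e1 ▸ (hσ j n h).symm)
  · obtain ⟨x, h1, h2, h3⟩ := hy _ _ (Rρ k hk i j r)
    exact ⟨MulAut.conjNormal k x, cK k hk x h1, by rw [hρ, hρ, h2], by rw [hρ, hρ, h3]⟩
  · obtain ⟨x, h1, h2, h3⟩ := h.ge (mem_top (e.symm (Pi.mulSingle i₀ t))) i₀ j₀ r₀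
    simp only [MulEquiv.apply_symm_apply, Pi.mulSingle_eq_same, Pi.mulSingle_eq_of_ne' n₀] at h2 h3
    exact t1 (h2 ▸ (r₀ x h1).2 h3)
  · obtain ⟨x, h1, h2⟩ := hp i (e n i)
    refine ⟨x, h1, h2, (σ j).injective ?_⟩
    rw [hσ j x h1, ← (hc i j).2 r, ← hσ i x h1, h2]
    exact h i j ((hc i j).2 r)

end Cfsg.Agent.S0723
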