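import Cfsg.Statements.S0724
import Mathlib
import Cfsg.Agent.Lib.Perm.Count

set_option autoImplicit false
open Cfsg

namespace Cfsg.Agent.S0724

open Cfsg.Agent.Perm MulAction Polynomial

theorem card_fixedBy_pi {G α : Type*} [Group G] [MulAction G α] (g : G) (j : ℕ) :
    Nat.card (fixedBy (Fin j → α) g) = Nat.card (fixedBy α g) ^ j := by
  rw [show Nat.card (fixedBy α g) ^ j = Nat.card (Fin j → fixedBy α g) by simp [Nat.card_pi]]
  exact Nat.card_congr ⟨fun f i => ⟨f.1 i, congrFun f.2 i⟩, fun f => ⟨fun i => f i, funext fun i => (f i).2⟩,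
    fun _ => rfl, fun _ => rfl⟩

theorem dvd_sum_eval {G α : Type*} [Group G] [Fintype G] [Finite α] [MulAction G α] (P : ℤ[X]) :
    (Nat.card G : ℤ) ∣ ∑ g : G, P.eval (Nat.card (fixedBy α g) : ℤ) := by
  induction P using Polynomial.induction_on' with
  | add p q hp hq =>
    simp only [eval_add, Finset.sum_add_distrib]
    exact dvd_add hp hq
  | monomial j a =>
    simp only [eval_monomial, ← Finset.mul_sum]
    apply Dvd.dvd.mul_left
    have := sum_card_fixedBy (G := G) (α := Fin j → α)
    simp only [card_fixedBy_pi] at this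
    exact_mod_cast Dvd.intro_left _ this.symm

/-- Blichfeldt's Theorem: if a finite set `L` of natural numbers contains the number of fixed points of every non-identity element of a permutation group `G` of degree `n`, then the order of `G` divides `∏ (n - l)` over `l ∈ L`. -/
theorem result {α : Type*} [Fintype α] [DecidableEq α] (G : Subgroup (Equiv.Perm α)) (L : Finset ℕ) (hL : ∀ g ∈ G, g ≠ 1 → Nat.card (MulAction.fixedBy α g) ∈ L) : Nat.card G ∣ ∏ l ∈ L, (Fintype.card α - l) := by
  classical
  by_cases h : ∃ l ∈ L, Fintype.card α ≤ l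
  · obtain ⟨l, hl, hl'⟩ := h
    rw [Finset.prod_eq_zero hl (by omega)]
    exact dvd_zero _
  push Not at h
  have h1 := dvd_sum_eval (G := G) (α := α) (∏ l ∈ L, (X - C (l : ℤ)))
  rw [Finset.sum_eq_single 1] at h1
  · simp only [eval_prod, eval_sub, eval_X, eval_C, fixedBy_one_eq_univ] at h1
    rw [← Int.natCast_dvd_natCast, Nat.cast_prod]
    convert h1 using 2 with l hl
    rw [Nat.cast_sub (h l hl).le]; simp
  · intro g _ hg
    rw [eval_prod]
    exact Finset.prod_eq_zero (hL g g.2 (fun e => hg (Subtype.ext e))) (by rw [eval_sub, eval_X, eval_C]; exact sub_self _)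
  · simp

end Cfsg.Agent.S0724
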