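import Cfsg.Statements.S0727
import Cfsg.Agent.Lib.Char.Zass8

set_option autoImplicit false
open Cfsg

namespace Cfsg.Agent.S0727

open Cfsg.Agent.Char

/-- A sharply triply transitive permutation group of degree `2^f + 1` is isomorphic to the projective general linear group of degree 2 over the field with `2^f` elements. -/
theorem result {α : Type*} [Fintype α] [DecidableEq α] {f : ℕ} (hf : 1 ≤ f) (hα : Fintype.card α = 2 ^ f + 1) (G : Subgroup (Equiv.Perm α)) (h3 : MulAction.IsMultiplyPretransitive G α 3) (hsharp : ∀ x : Fin 3 ↪ α, MulAction.stabilizer G x = ⊥) : ∃ (F : Type) (_ : Field F) (_ : Fintype F), Fintype.card F = 2 ^ f ∧ Nonempty (G ≃* Matrix.ProjGenLinGroup (Fin 2) F) := by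
  open Zass in
  rcases hf.eq_or_lt with rfl | hf
  · exact small_pgl G h3 (Or.inl rfl) hα
  have h1 := Nat.pow_le_pow_right (n := 2) (by norm_num) hf
  have h2 : Nat.card α = 2 ^ f + 1 := Nat.card_eq_fintype_card.trans hα
  have hZ := zass_of_sharp h3 hsharp (by omega)
  obtain ⟨-, -, a, b, hab, -⟩ := hZ.2.2.2.1
  have hc := card_E_of_sharp h3 hsharp hZ hab
  obtain ⟨k, hk⟩ := dvd_pow_self 2 (n := f) (by omega)
  have := simple_of_odd hZ ⟨k, by omega⟩
  obtain ⟨s, -, h4, h5⟩ := exists_swap hZ hab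
  obtain ⟨F, _, _, h6, e⟩ := pgl_of_inv hZ hab hc h4 h5
    ((inverts_simple hZ hab ⟨k - 1, by omega⟩).2 s h4 h5)
  exact ⟨F, _, _, by omega, e⟩

end Cfsg.Agent.S0727
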