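import Cfsg.Statements.S0728
import Mathlib
import Cfsg.Agent.Lib.Perm.Count

set_option autoImplicit false
open Cfsg

namespace Cfsg.Agent.S0728

open Cfsg.Agent.Perm MulAction

/-- In a sharply triply transitive group of even degree at least 6 (degree `q + 1`, `q` odd), a two-point stabiliser has at most one subgroup of order 3. -/
theorem result {α : Type*} [Fintype α] [DecidableEq α] (heven : Even (Fintype.card α)) (h6 : 6 ≤ Fintype.card α) (G : Subgroup (Equiv.Perm α)) (h3 : MulAction.IsMultiplyPretransitive G α 3) (hsharp : ∀ x : Fin 3 ↪ α, MulAction.stabilizer G x = ⊥) {a b : α} (hab : a ≠ b) (A B : Subgroup G) (hA : A ≤ MulAction.stabilizer G a ⊓ MulAction.stabilizer G b) (hB : B ≤ MulAction.stabilizer G a ⊓ MulAction.stabilizer G b) (hA3 : Nat.card A = 3) (hB3 : Nat.card B = 3) : A = B := by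
  have hs := sharp3_iff.1 hsharp
  have ht := three_trans_iff.1 h3
  obtain ⟨c, hc⟩ : ∃ c, c ∉ ({a, b} : Finset α) := by
    by_contra h
    push Not at h
    have := (Finset.card_le_card (show (Finset.univ : Finset α) ⊆ {a, b} from fun x _ => h x)).trans Finset.card_le_two
    rw [Finset.card_univ] at this
    omega
  simp only [Finset.mem_insert, Finset.mem_singleton, not_or] at hc
  have cyc : ∀ u : G, orderOf u = 3 → u • a = a → u • b = b →
      c ≠ u • c ∧ c ≠ u • u • c ∧ u • c ≠ u • u • c ∧ u • u • u • c = c ∧ u ≠ 1 := by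
    intro u hu ha hb
    have h1 : u ≠ 1 := by rintro rfl; simp at hu
    have h2 : u • c ≠ c := fun e => h1 (hs a b c hab (Ne.symm hc.1) (Ne.symm hc.2) u ha hb e)
    have h4 : u • u • u • c = c := by
      rw [← mul_smul, ← mul_smul, ← pow_three', ← hu, pow_orderOf_eq_one, one_smul]
    refine ⟨h2.symm, fun e => h2 ?_, fun e => h2 (smul_left_cancel u e).symm, h4, h1⟩
    rw [← e] at h4; exact h4
  have key : ∀ u v : G, orderOf u = 3 → u • a = a → u • b = b → orderOf v = 3 → v • a = a → v • b = b →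
      ∃ g : G, g • c = c ∧ g * u * g⁻¹ = v ∧ ((g • a = a ∧ g • b = b) ∨ (g • a = b ∧ g • b = a)) := by
    intro u v hu ha hb hv ha' hb'
    obtain ⟨u1, u2, u3, u4, u5⟩ := cyc u hu ha hb
    obtain ⟨v1, v2, v3, v4, v5⟩ := cyc v hv ha' hb'
    obtain ⟨g, g1, g2, g3⟩ := ht _ _ _ _ _ _ u1 u2 u3 v1 v2 v3
    have e : g * u * g⁻¹ = v := by
      have := hs _ _ _ v1 v2 v3 (v⁻¹ * (g * u * g⁻¹))
        (by rw [mul_smul, inv_smul_eq_iff, mul_smul, mul_smul, inv_smul_eq_iff.2 g1.symm, g2])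
        (by rw [mul_smul, inv_smul_eq_iff, mul_smul, mul_smul, inv_smul_eq_iff.2 g2.symm, g3])
        (by rw [mul_smul, inv_smul_eq_iff, mul_smul, mul_smul, inv_smul_eq_iff.2 g3.symm, u4, g1, v4])
      exact (inv_mul_eq_one.1 this).symm
    have f : ∀ x, u • x = x → g • x = a ∨ g • x = b := by
      intro x hx
      by_contra hcon
      push Not at hcon
      apply v5 (hs a b (g • x) hab hcon.1.symm hcon.2.symm v ha' hb' _)
      rw [← e, mul_smul, mul_smul, inv_smul_smul, hx]
    refine ⟨g, g1, e, ?_⟩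
    have hne : g • a ≠ g • b := fun e => hab (smul_left_cancel g e)
    rcases f a ha with h | h <;> rcases f b hb with h' | h' <;> simp_all
  have : Fact (Nat.Prime 3) := ⟨Nat.prime_three⟩
  obtain ⟨u, hu⟩ := exists_prime_orderOf_dvd_card' (G := A) 3 (by rw [hA3])
  obtain ⟨v, hv⟩ := exists_prime_orderOf_dvd_card' (G := B) 3 (by rw [hB3])
  rw [← Subgroup.orderOf_coe] at hu hv
  have hvA : (v : G) ∈ A := by
    obtain ⟨g, g1, g2, g3 | g3⟩ := key u v hu (hA u.2).1 (hA u.2).2 hv (hB v.2).1 (hB v.2).2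
    · rw [hs a b c hab (Ne.symm hc.1) (Ne.symm hc.2) g g3.1 g3.2 g1] at g2
      rw [← g2]; simp
    · obtain ⟨k, k1, k2, k3 | k3⟩ := key u (u : G)⁻¹ hu (hA u.2).1 (hA u.2).2 (by simpa using hu) (hA u⁻¹.2).1 (hA u⁻¹.2).2
      · rw [hs a b c hab (Ne.symm hc.1) (Ne.symm hc.2) k k3.1 k3.2 k1] at k2
        have h5 : (u : G) ^ 2 = 1 := by
          rw [sq]; nth_rewrite 1 [show (u : G) = (u : G)⁻¹ by simpa using k2]; simp
        have := orderOf_dvd_of_pow_eq_one h5
        rw [hu] at this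
        omega
      · have := hs a b c hab (Ne.symm hc.1) (Ne.symm hc.2) (k⁻¹ * g) (by rw [mul_smul, g3.1, inv_smul_eq_iff, k3.1])
          (by rw [mul_smul, g3.2, inv_smul_eq_iff, k3.2]) (by rw [mul_smul, g1, inv_smul_eq_iff, k1])
        rw [← g2, ← inv_mul_eq_one.1 this, k2]
        exact A.inv_mem u.2
  have h7 : Subgroup.zpowers (v : G) = B := Subgroup.eq_of_le_of_card_ge (by simpa using v.2) (by rw [Nat.card_zpowers, hv, hB3])
  symm
  exact Subgroup.eq_of_le_of_card_ge (by rw [← h7]; simpa using hvA) (by rw [hA3, hB3])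

end Cfsg.Agent.S0728
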