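import Cfsg.Statements.S0730
import Cfsg.Agent.Lib.Char.Zass8

set_option autoImplicit false
open Cfsg

namespace Cfsg.Agent.S0730

open Cfsg.Agent.Char

/-- A sharply triply transitive group of degree `p^f + 1`, `p` an odd prime and `f` odd, is isomorphic to the projective general linear group of degree 2 over the field with `p^f` elements (for even `f` there is a second, twisted, group). -/
theorem result {α : Type*} [Fintype α] [DecidableEq α] {p f : ℕ} (hp : p.Prime) (hp2 : p ≠ 2) (hfo : Odd f) (hα : Fintype.card α = p ^ f + 1) (G : Subgroup (Equiv.Perm α)) (h3 : MulAction.IsMultiplyPretransitive G α 3) (hsharp : ∀ x : Fin 3 ↪ α, MulAction.stabilizer G x = ⊥) : ∃ (F : Type) (_ : Field F) (_ : Fintype F), Fintype.card F = p ^ f ∧ Nonempty (G ≃* Matrix.ProjGenLinGroup (Fin 2) F) := by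
  open Zass in
  by_cases h0 : p ^ f = 3
  · rw [h0] at hα ⊢
    exact small_pgl G h3 (Or.inr rfl) hα
  obtain ⟨k, hk⟩ : Odd (p ^ f) := (hp.odd_of_ne_two hp2).pow
  have h1 := Nat.one_lt_pow hfo.pos.ne' hp.one_lt
  have h2 : Nat.card α = p ^ f + 1 := Nat.card_eq_fintype_card.trans hα
  have hZ := zass_of_sharp h3 hsharp (by omega)
  obtain ⟨-, -, a, b, hab, -⟩ := hZ.2.2.2.1
  have hc := card_E_of_sharp h3 hsharp hZ hab
  obtain ⟨F, _, _, h6, e⟩ := pgl_of_not_sq hZ hab hc ⟨k, by omega⟩ (by
    rintro ⟨m, hm⟩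
    rw [h2, Nat.add_sub_cancel, ← sq] at hm
    have := congrArg (fun n => n.factorization p) hm
    simp only [Nat.factorization_pow, Finsupp.smul_apply, hp.factorization_self, smul_eq_mul] at this
    obtain ⟨j, hj⟩ := hfo
    omega)
  exact ⟨F, _, _, by omega, e⟩

end Cfsg.Agent.S0730
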