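import Cfsg.Statements.S0732
import Mathlib
import Cfsg.Agent.Lib.Perm.Hup4
import Cfsg.Agent.Lib.Perm.Dick6
import Cfsg.Agent.Lib.Char.Zass8
import Cfsg.Agent.S0730
import Cfsg.Agent.S0680
import Cfsg.Agent.S0054

set_option autoImplicit false
open Cfsg

namespace Cfsg.Agent.S0732

open Cfsg.Agent.Perm Cfsg.Agent.Perm.Hp MulAction Subgroup Cfsg.Agent.Zass Cfsg.Agent.Comp

theorem dvd_of_semiaff {G : Type*} [Group G] {α : Type*} [MulAction G α] [FaithfulSMul G α] {q : ℕ} (hq : q ≠ 0)
    (e : α ≃ GaloisField 2 q) (he : ∀ g : G, ∃ (a : (GaloisField 2 q)ˣ) (b : GaloisField 2 q)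
      (σ : GaloisField 2 q ≃+* GaloisField 2 q), ∀ x, e (g • x) = a * σ (e x) + b) {o b : α} (h : o ≠ b) :
    Nat.card (stabilizer G o ⊓ stabilizer G b : Subgroup G) ∣ q := by
  have h0 : e b - e o ≠ 0 := sub_ne_zero.2 fun e' => h (e.injective e').symm
  let T : α → GaloisField 2 q := fun x => (e x - e o) / (e b - e o)
  have hT : Function.Bijective T := ⟨fun x y h => e.injective (sub_left_injective ((div_left_inj' h0).1 h)), fun y =>
    ⟨e.symm (y * (e b - e o) + e o), by simp [T, h0]⟩⟩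
  have h1 : ∀ g : (stabilizer G o ⊓ stabilizer G b : Subgroup G), ∃ σ : GaloisField 2 q ≃ₐ[ZMod 2] GaloisField 2 q,
      ∀ x, T ((g : G) • x) = σ (T x) := by
    intro g
    obtain ⟨a, c, σ, h⟩ := he g
    refine ⟨AlgEquiv.ofRingEquiv (f := σ) fun x => DFunLike.congr_fun (RingHom.ext_zmod
      ((σ : GaloisField 2 q →+* GaloisField 2 q).comp (algebraMap (ZMod 2) _)) (algebraMap (ZMod 2) _)) x, fun x => ?_⟩
    have h2 := h o
    have h3 := h b
    rw [show (g : G) • o = o from g.2.1] at h2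
    rw [show (g : G) • b = b from g.2.2] at h3
    show (e ((g : G) • x) - e o) / (e b - e o) = σ ((e x - e o) / (e b - e o))
    have h4 : e ((g : G) • x) - e o = a * σ (e x - e o) := by rw [h x, map_sub]; linear_combination -h2
    have h5 : e b - e o = a * σ (e b - e o) := by rw [map_sub]; linear_combination h3 - h2
    rw [h4, map_div₀]
    conv_lhs => rw [h5]
    exact mul_div_mul_left _ _ a.ne_zero
  choose ψ hψ using h1
  let φ : (stabilizer G o ⊓ stabilizer G b : Subgroup G) →* (GaloisField 2 q ≃ₐ[ZMod 2] GaloisField 2 q) :=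
    MonoidHom.mk' ψ fun g k => AlgEquiv.ext fun y => by
      obtain ⟨x, rfl⟩ := hT.2 y
      rw [AlgEquiv.mul_apply, ← hψ, ← hψ, ← hψ]
      exact congrArg T (mul_smul _ _ _)
  have h2 := card_dvd_of_injective φ ((injective_iff_map_eq_one φ).2 fun g e' =>
    Subtype.ext (eq_one_of_smul_eq (α := α) fun x => hT.1 (by rw [hψ, show ψ g = 1 from e']; rfl)))
  rwa [IsGalois.card_aut_eq_finrank, GaloisField.finrank 2 hq] at h2

/-- A transitive permutation group on `p + 1` points (`p` prime) of order `(p+1) p d` with `d < p` is isomorphic to `PGL(2,p)` with `d = p - 1`, or to `PSL(2,p)` with `2d = p - 1`, or else `p + 1 = 2^q` for a prime `q`, `d = 1` or `d = q`, and the group is permutation-isomorphic to a group of semi-affine maps `x ↦ a φ(x) + b` of the field with `2^q` elements. -/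
theorem result {α : Type*} [Fintype α] [DecidableEq α] {p d : ℕ} (hp : p.Prime) (hα : Fintype.card α = p + 1) (G : Subgroup (Equiv.Perm α)) [MulAction.IsPretransitive G α] (hG : Nat.card G = (p + 1) * p * d) (hd : d < p) : (d = p - 1 ∧ Nonempty (G ≃* Matrix.ProjGenLinGroup (Fin 2) (ZMod p))) ∨ (2 * d = p - 1 ∧ Nonempty (G ≃* Matrix.ProjectiveSpecialLinearGroup (Fin 2) (ZMod p))) ∨ (∃ q : ℕ, q.Prime ∧ p + 1 = 2 ^ q ∧ (d = 1 ∨ d = q) ∧ ∃ e : α ≃ GaloisField 2 q, ∀ g : G, (e.symm.trans (((g : Equiv.Perm α)).trans e)) ∈ Cfsg.semiaffineGroup (GaloisField 2 q)) := by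
  have := Fact.mk hp
  have hp2 := hp.two_le
  have hn : Nat.card α = p + 1 := Nat.card_eq_fintype_card.trans hα
  have hd0 : 0 < d := Nat.pos_of_ne_zero fun e => by
    have := Nat.card_pos (α := G)
    simp [hG, e] at this
  have key : ∀ o : α, ∃ A : Subgroup (stabilizer G o), A.Normal ∧ Nat.card A = p ∧
      ∀ y z : α, y ≠ o → z ≠ o → ∃! u : A, ((u : stabilizer G o) : G) • y = z := by
    intro o
    have h1 : Nat.card (stabilizer G o) = p * d := by
      have := card_eq_mul_stab (G := G) o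
      rw [hG, hn, mul_assoc] at this
      exact (Nat.eq_of_mul_eq_mul_left (by omega) this).symm
    obtain ⟨P⟩ : Nonempty (Sylow p (stabilizer G o)) := inferInstance
    have h2 : Nat.card P = p := by
      rw [Sylow.card_eq_multiplicity, h1, Nat.factorization_mul hp.ne_zero hd0.ne', Finsupp.add_apply,
        hp.factorization_self, Nat.factorization_eq_zero_of_lt hd, pow_one]
    have h3 : (P : Subgroup (stabilizer G o)).index = d := by
      have := (P : Subgroup (stabilizer G o)).card_mul_index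
      rw [h1, h2] at this
      exact Nat.eq_of_mul_eq_mul_left hp.pos this
    have h4 : Nat.card (Sylow p (stabilizer G o)) = 1 := by
      have h5 := card_sylow_modEq_one p (stabilizer G o)
      have h6 := Nat.le_of_dvd hd0 (h3 ▸ P.card_dvd_index)
      exact Nat.ModEq.eq_of_lt_of_lt h5 (by omega) hp.one_lt
    have : Subsingleton (Sylow p (stabilizer G o)) := (Nat.card_eq_one_iff_unique.1 h4).1
    refine ⟨P, P.normal_of_subsingleton, h2, ?_⟩
    have h5 : ({o}ᶜ : Set α).ncard = p := by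
      rw [Set.ncard_compl, Set.ncard_singleton, hn]; rfl
    have h6 : ∀ y, y ≠ o → orbit (P : Subgroup (stabilizer G o)) y ⊆ {o}ᶜ := by
      rintro y hy _ ⟨u, rfl⟩ e
      exact hy (smul_left_cancel u (e.trans u.1.2.symm))
    obtain ⟨z, hz⟩ : ∃ z : α, stabilizer (P : Subgroup (stabilizer G o)) z = ⊥ := by
      by_contra h
      push Not at h
      have : Nontrivial (P : Subgroup (stabilizer G o)) := Finite.one_lt_card_iff_nontrivial.1 (by omega)
      obtain ⟨u, hu⟩ := exists_ne (1 : (P : Subgroup (stabilizer G o)))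
      have : Fact (Nat.card (P : Subgroup (stabilizer G o))).Prime := ⟨h2.symm ▸ hp⟩
      refine hu (Subtype.ext (Subtype.ext (eq_one_of_fix fun a => ?_)))
      exact ((stabilizer (P : Subgroup (stabilizer G o)) a).eq_bot_or_eq_top_of_prime_card.resolve_left (h a)).ge (mem_top u)
    have h7 := card_orbit_mul_stab (G := (P : Subgroup (stabilizer G o))) z
    rw [hz, card_bot, mul_one, h2, Nat.card_coe_set_eq] at h7
    have hzo : z ≠ o := by
      rintro rfl
      have : orbit (P : Subgroup (stabilizer G z)) z = {z} := by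
        ext w
        constructor
        · rintro ⟨u, rfl⟩; exact u.1.2
        · rintro rfl; exact mem_orbit_self _
      rw [this, Set.ncard_singleton] at h7
      omega
    have h8 : orbit (P : Subgroup (stabilizer G o)) z = {o}ᶜ := Set.eq_of_subset_of_ncard_le (h6 z hzo) (by omega)
    intro y w hy hw
    have h9 : orbit (P : Subgroup (stabilizer G o)) y = {o}ᶜ := by
      rw [← h8, orbit_eq_iff, h8]; exact hy
    have h10 := card_orbit_mul_stab (G := (P : Subgroup (stabilizer G o))) y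
    rw [h9, Nat.card_coe_set_eq, h5, h2] at h10
    have h11 : stabilizer (P : Subgroup (stabilizer G o)) y = ⊥ :=
      card_eq_one.1 (Nat.eq_of_mul_eq_mul_left hp.pos (h10.trans (mul_one p).symm))
    obtain ⟨u, hu⟩ : w ∈ orbit (P : Subgroup (stabilizer G o)) y := h9 ▸ hw
    exact ⟨u, hu, fun v hv => eq_of_smul_eq_of_stab_bot h11 (hv.trans hu.symm)⟩
  obtain ⟨o, b, hob⟩ := (Fintype.one_lt_card_iff (α := α)).1 (by omega)
  obtain ⟨A, hAn, hAc, hA⟩ := key o
  have hAcomm : IsMulCommutative A := by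
    have := isCyclic_of_prime_card hAc
    exact IsCyclic.isMulCommutative
  have h2 : IsMultiplyPretransitive G α 2 := two_trans_of_stab o fun y z hy hz => by
    obtain ⟨u, hu, -⟩ := hA y z hy hz
    exact ⟨u, u.1.2, hu⟩
  have h3 : ∀ g : G, ∀ a b c : α, a ≠ b → b ≠ c → a ≠ c → g • a = a → g • b = b → g • c = c → g = 1 := by
    intro g a b c hab hbc hac ha hb hc
    obtain ⟨B, hBn, hBc, hB⟩ := key a
    obtain ⟨u, hu, hu'⟩ := hB b c hab.symm hac.symm
    let g' : stabilizer G a := ⟨g, ha⟩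
    have e1 := hu' ⟨g' * u * g'⁻¹, hBn.conj_mem _ u.2 _⟩ (by
      show (g * u * g⁻¹) • b = c
      rw [mul_smul, mul_smul, inv_smul_eq_iff.2 hb.symm, hu, hc])
    have e2 : Commute g ((u : stabilizer G a) : G) :=
      mul_inv_eq_iff_eq_mul.1 (congrArg (fun x : B => ((x : stabilizer G a) : G)) e1)
    refine eq_one_of_fix fun y => ?_
    by_cases hy : y = a
    · rw [hy, ha]
    obtain ⟨v, hv, -⟩ := hB b y hab.symm hy
    obtain ⟨k, rfl⟩ := mem_zpowers_of_prime_card hBc (g := u) (g' := v) (by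
      rintro rfl
      exact hbc ((one_smul G b).symm.trans hu))
    have e3 : Commute g (((u ^ k : B) : stabilizer G a) : G) := e2.zpow_right k
    rw [← hv, ← mul_smul, e3, mul_smul, hb]
  have hE : Nat.card (E G o b) = d := by
    have h4 := card_eq_mul_stab (G := G) o
    have h5 := card_orbit_mul_stab (G := stabilizer G o) b
    have h6 : orbit (stabilizer G o) b = {o}ᶜ := by
      ext c
      constructor
      · rintro ⟨u, rfl⟩ e
        exact hob (smul_left_cancel u (u.2.trans e.symm))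
      · intro hc
        obtain ⟨u, hu, -⟩ := hA b c hob.symm hc
        exact ⟨u, hu⟩
    have h7 : Nat.card (stabilizer (stabilizer G o) b) = Nat.card (E G o b) := by
      rw [← card_map_subtype]
      congr 2
      ext g
      constructor
      · rintro ⟨k, hk, rfl⟩
        exact ⟨k.2, hk⟩
      · rintro ⟨h1, h2⟩
        exact ⟨⟨g, h1⟩, h2, rfl⟩
    rw [h6, Nat.card_coe_set_eq, Set.ncard_compl, Set.ncard_singleton, hn, h7, Nat.add_sub_cancel] at h5
    rw [hG, hn, ← h5, mul_assoc] at h4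
    exact (Nat.eq_of_mul_eq_mul_left hp.pos (Nat.eq_of_mul_eq_mul_left (by omega) h4)).symm
  have hpgl : (∃ (F : Type) (_ : Field F) (_ : Fintype F), Fintype.card F = p ∧ Nonempty (G ≃* GL2.PGL2 F)) →
      Nonempty (G ≃* Matrix.ProjGenLinGroup (Fin 2) (ZMod p)) := by
    rintro ⟨F, _, _, h4, ⟨e⟩⟩
    obtain ⟨⟨f⟩, -⟩ := GL2.iso_of_card (K := F) (F := ZMod p) (by rw [Nat.card_eq_fintype_card, h4, ZMod.card])
    exact ⟨e.trans f⟩
  by_cases hp3 : p = 2
  · subst hp3
    obtain rfl : d = 1 := by omega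
    refine Or.inl ⟨rfl, hpgl (small_pgl G ?_ (Or.inl rfl) hα)⟩
    have : G = ⊤ := eq_top_of_card_eq _ (by rw [hG, Nat.card_perm, hn]; rfl)
    subst this
    have := Equiv.Perm.isMultiplyPretransitive α 3
    exact three_trans_iff.2 fun a b c a' b' c' h1 h2 h3 h4 h5 h6 => by
      obtain ⟨g, hg⟩ := three_trans_iff.1 this a b c a' b' c' h1 h2 h3 h4 h5 h6
      exact ⟨⟨g, trivial⟩, hg⟩
  by_cases hN : ∃ N : Subgroup G, N.Normal ∧ IsPretransitive N α ∧ ∀ a : α, stabilizer N a = ⊥
  · obtain ⟨N, hNn, hNt, hNr⟩ := hN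
    have : Nonempty α := ⟨o⟩
    obtain ⟨hab, r, hr, hexp⟩ := S0054.result h2 N hNt hNr
    have := Fact.mk hr
    obtain ⟨V, _, _, c, ρ, hρ, hc0, hc1, hc2⟩ := coord N hab hexp hNt o (hNr o)
    have : Finite V := Finite.of_equiv _ c
    have hV : Nat.card V = p + 1 := by rw [← hn]; exact Nat.card_congr c.symm
    have : Nontrivial V := Finite.one_lt_card_iff_nontrivial.1 (by omega)
    obtain ⟨q, hq⟩ : ∃ q, Nat.card V = r ^ q := ⟨_, by rw [Module.natCard_eq_pow_finrank (K := ZMod r), Nat.card_zmod]⟩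
    have hr2 : r = 2 := by
      have h4 : 2 ∣ r ^ q := by
        have := hp.eq_two_or_odd.resolve_left hp3
        omega
      exact ((Nat.prime_dvd_prime_iff_eq Nat.prime_two hr).1 (Nat.prime_two.dvd_of_dvd_pow h4)).symm
    subst hr2
    have hqp : q.Prime := Nat.Prime.of_mersenne (by
      rw [mersenne, ← hq, hV]; exact hp)
    obtain ⟨K, _, _, e, he⟩ := Transfer.FC.semilinear (ρ := ρ) hAcomm fun W hW => by
      refine or_iff_not_imp_left.2 fun h0 => eq_top_iff.2 fun w _ => ?_
      obtain ⟨v, hv, h1⟩ := W.exists_mem_ne_zero_of_ne_bot h0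
      by_cases hw : w = 0
      · rw [hw]; exact W.zero_mem
      obtain ⟨x, rfl⟩ := c.surjective v
      obtain ⟨y, rfl⟩ := c.surjective w
      obtain ⟨u, hu, -⟩ := hA x y (fun e => h1 (e ▸ hc0)) (fun e => hw (e ▸ hc0))
      rw [← hu, hc1]
      exact hW u u.2 _ hv
    have := Fintype.ofFinite (GaloisField 2 q)
    obtain ⟨E, hE1, -⟩ := semiaff_of hNt hc1 hc2 e (FiniteField.ringEquivOfCardEq (K' := GaloisField 2 q) (by
      rw [← Nat.card_eq_fintype_card, ← Nat.card_eq_fintype_card, GaloisField.card 2 q hqp.ne_zero, ← hq]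
      exact Nat.card_congr e.toEquiv.symm)) he
    refine Or.inr (Or.inr ⟨q, hqp, hV.symm.trans hq, ?_, E, fun g => ?_⟩)
    · exact (Nat.dvd_prime hqp).1 (hE ▸ dvd_of_semiaff hqp.ne_zero E hE1 hob)
    · obtain ⟨a, b, σ, h⟩ := hE1 g
      refine ⟨a, b, σ, fun x => ?_⟩
      have := h (E.symm x)
      rwa [E.apply_symm_apply] at this
  have hZ : IsZassenhausGroup G α := by
    refine ⟨inferInstance, h2, h3, ?_, fun N h4 h5 => ?_⟩
    · by_contra h4
      obtain ⟨r, j, hr, -, -, h5⟩ := S0680.result G (sharp2_iff.2 fun a b hab g ha hb => by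
        by_contra hg
        exact h4 ⟨g, hg, a, b, hab, ha, hb⟩) (by omega)
      have := Fact.mk hr
      obtain ⟨P⟩ : Nonempty (Sylow r G) := inferInstance
      obtain ⟨h6, -, -, h7, h8, -⟩ := h5 this P
      exact hN ⟨P, h6, h7, h8⟩
    · by_contra h6
      push Not at h6
      exact hN ⟨N, h4, h5, h6⟩
  have hK := zk_of_regular hZ (H := A.map (stabilizer G o).subtype) (map_subtype_le _) fun y z hy hz => by
    obtain ⟨u, hu, hu'⟩ := hA y z hy hz
    refine ⟨⟨u, u, u.2, rfl⟩, hu, ?_⟩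
    rintro ⟨_, v, hv, rfl⟩ e
    exact Subtype.ext (congrArg (fun x : A => ((x : stabilizer G o) : G)) (hu' ⟨v, hv⟩ e))
  rcases cases_of_le hZ hob (hK.le_of_comm hob (by infer_instance)) with hc | hc
  · refine Or.inl ⟨by omega, hpgl ?_⟩
    obtain ⟨F, _, _, h4, e⟩ := S0730.result (f := 1) hp hp3 odd_one (by rw [hα, pow_one]) G (three_trans hZ hob hc) (sharp hZ)
    exact ⟨F, _, _, by rw [h4, pow_one], e⟩
  · refine Or.inr (Or.inl ⟨by omega, ?_⟩)
    obtain ⟨F, _, _, h4, ⟨e⟩⟩ := psl_of_half hZ hob hc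
    obtain ⟨-, ⟨f⟩⟩ := GL2.iso_of_card (K := F) (F := ZMod p) (by rw [Nat.card_eq_fintype_card, ZMod.card]; omega)
    exact ⟨e.trans f⟩

end Cfsg.Agent.S0732
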