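import Cfsg.Statements.S0733
import Mathlib
import Cfsg.Agent.Lib.Perm.Prim

set_option autoImplicit false
open Cfsg

namespace Cfsg.Agent.S0733

open Cfsg.Agent.Perm MulAction

/-- A permutation group of affine type — generated by the translations of a finite vector space `V` over `ZMod p` together with a group `G₀` of linear automorphisms — is primitive on `V` if and only if `G₀` is irreducible on `V`. -/
theorem result {p : ℕ} [Fact p.Prime] {V : Type*} [AddCommGroup V] [Module (ZMod p) V] [Finite V] [Nontrivial V] (G₀ : Subgroup (V ≃ₗ[ZMod p] V)) (G : Subgroup (Equiv.Perm V)) (hG : ∀ σ : Equiv.Perm V, σ ∈ G ↔ ∃ g ∈ G₀, ∃ b : V, ∀ x : V, σ x = (g : V ≃ₗ[ZMod p] V) x + b) : MulAction.IsPreprimitive G V ↔ ∀ W : Submodule (ZMod p) V, (∀ g ∈ G₀, ∀ v ∈ W, (g : V ≃ₗ[ZMod p] V) v ∈ W) → W = ⊥ ∨ W = ⊤ := by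
  have htr : ∀ b : V, Equiv.addRight b ∈ G := fun b => (hG _).2 ⟨1, G₀.one_mem, b, fun x => rfl⟩
  constructor
  · intro hp W hW
    rcases prim_rel (G := G) (fun x y : V => x - y ∈ W)
      ⟨fun x => by simp, fun h => by simpa using W.neg_mem h, fun h1 h2 => by simpa using W.add_mem h1 h2⟩
      (fun σ x y h => by
        obtain ⟨g, hg, b, hb⟩ := (hG σ).1 σ.2
        have := hW g hg _ h
        simpa [sub_smul, hb] using this) with h | h
    · left
      rw [eq_bot_iff]
      intro x hx
      exact h x 0 (by simpa using hx)
    · right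
      rw [eq_top_iff]
      intro x _
      simpa using h x 0
  · intro h
    have : IsPretransitive G V := ⟨fun x y => ⟨⟨_, htr (y - x)⟩, by simp [sub_smul]⟩⟩
    apply prim_of_rel
    intro r hr hinv
    have hadd : ∀ b x y, r x y → r (x + b) (y + b) := fun b x y h => hinv ⟨_, htr b⟩ x y h
    let W : Submodule (ZMod p) V :=
      { carrier := {x | r 0 x}
        add_mem' := fun {x y} hx hy => hr.trans hy (by simpa using hadd y _ _ hx)
        zero_mem' := hr.refl 0
        smul_mem' := fun c x hx => by
          obtain ⟨n, rfl⟩ := ZMod.natCast_zmod_surjective c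
          rw [Nat.cast_smul_eq_nsmul]
          induction n with
          | zero => simpa using hr.refl 0
          | succ n ih =>
            rw [succ_nsmul]
            exact hr.trans hx (by simpa using hadd x _ _ ih) }
    rcases h W (fun g hg v hv => by
      have := hinv ⟨(g : V ≃ₗ[ZMod p] V).toEquiv, (hG _).2 ⟨g, hg, 0, fun x => by simp⟩⟩ 0 v hv
      show r 0 _
      simpa [sub_smul] using this) with h1 | h1
    · left
      intro x y hxy
      have : y - x ∈ W := by
        have := hadd (-x) _ _ hxy
        show r 0 _
        simpa [sub_eq_add_neg] using this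
      rw [h1, Submodule.mem_bot, sub_eq_zero] at this
      exact this.symm
    · right
      intro x y
      have : y - x ∈ W := h1 ▸ Submodule.mem_top
      simpa using hadd x _ _ this

end Cfsg.Agent.S0733
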