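import Cfsg.Statements.S0734
import Mathlib
import Cfsg.Agent.Lib.Perm.Basic

set_option autoImplicit false
open Cfsg

namespace Cfsg.Agent.S0734

open Cfsg.Agent.Perm MulAction
open scoped Pointwise

/-- Higman's criterion for primitivity: a transitive action on a finite set is primitive if and only if every non-trivial orbital graph (edges = images of a fixed pair of distinct points) is connected. -/
theorem result {G : Type*} [Group G] {Ω : Type*} [Finite Ω] [MulAction G Ω] [MulAction.IsPretransitive G Ω] [Nontrivial Ω] : MulAction.IsPreprimitive G Ω ↔ ∀ a b : Ω, a ≠ b → (SimpleGraph.fromRel fun x y : Ω => ∃ g : G, g • a = x ∧ g • b = y).Connected := by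
  constructor
  · intro hp a b hab
    set Γ := SimpleGraph.fromRel fun x y : Ω => ∃ g : G, g • a = x ∧ g • b = y with hΓ
    have hadj : ∀ (g : G) x y, Γ.Adj x y → Γ.Adj (g • x) (g • y) := by
      intro g x y h
      rw [hΓ, SimpleGraph.fromRel_adj] at h ⊢
      refine ⟨fun e => h.1 (smul_left_cancel g e), h.2.imp ?_ ?_⟩ <;>
      · rintro ⟨k, h1, h2⟩
        exact ⟨g * k, by rw [mul_smul, h1], by rw [mul_smul, h2]⟩
    have hreach : ∀ (g : G) x y, Γ.Reachable x y → Γ.Reachable (g • x) (g • y) := by
      intro g x y ⟨w⟩
      induction w with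
      | nil => rfl
      | cons h _ ih => exact (hadj g _ _ h).reachable.trans ih
    have hB : IsBlock G {x | Γ.Reachable a x} := by
      rw [isBlock_iff_smul_eq_of_mem]
      intro g x hx hgx
      ext y
      rw [Set.mem_smul_set_iff_inv_smul_mem]
      simp only [Set.mem_setOf_eq] at *
      constructor
      · intro h
        have := hreach g _ _ (hx.symm.trans h)
        rw [smul_inv_smul] at this
        exact hgx.trans this
      · intro h
        have := hreach g⁻¹ _ _ (hgx.symm.trans h)
        rw [inv_smul_smul] at this
        exact hx.trans this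
    rcases hB.subsingleton_or_eq_univ with h | h
    · exfalso
      apply hab
      apply h (show Γ.Reachable a a from SimpleGraph.Reachable.rfl)
      apply SimpleGraph.Adj.reachable
      rw [hΓ, SimpleGraph.fromRel_adj]
      exact ⟨hab, Or.inl ⟨1, one_smul _ _, one_smul _ _⟩⟩
    · have h2 : ∀ x, Γ.Reachable a x := fun x => by
        have : x ∈ {x | Γ.Reachable a x} := h ▸ Set.mem_univ x
        exact this
      exact SimpleGraph.Connected.mk (fun x y => (h2 x).symm.trans (h2 y))
  · intro h
    refine ⟨fun {B} hB => ?_⟩
    by_cases hs : B.Subsingleton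
    · exact Or.inl hs
    right
    rw [Set.not_subsingleton_iff] at hs
    obtain ⟨a, ha, b, hb, hab⟩ := hs
    have key : ∀ x y, (SimpleGraph.fromRel fun x y : Ω => ∃ g : G, g • a = x ∧ g • b = y).Reachable x y → x ∈ B → y ∈ B := by
      intro x y ⟨w⟩
      induction w with
      | nil => exact id
      | cons hadj _ ih =>
        intro hx
        apply ih
        rw [SimpleGraph.fromRel_adj] at hadj
        rcases hadj.2 with ⟨g, h1, h2⟩ | ⟨g, h1, h2⟩
        · rw [← isBlock_iff_smul_eq_of_mem.1 hB ha (h1 ▸ hx), ← h2]
          exact Set.smul_mem_smul_set hb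
        · rw [← isBlock_iff_smul_eq_of_mem.1 hB hb (h2 ▸ hx), ← h1]
          exact Set.smul_mem_smul_set ha
    exact Set.eq_univ_of_forall fun y => key a y ((h a b hab).preconnected a y) ha

end Cfsg.Agent.S0734
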