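import Cfsg.Statements.S0735
import Mathlib
import Cfsg.Agent.Lib.Perm.Prim

set_option autoImplicit false
open Cfsg

namespace Cfsg.Agent.S0735

open Cfsg.Agent.Perm MulAction
open scoped Pointwise

theorem hom2 {α : Type*} [DecidableEq α] (G : Subgroup (Equiv.Perm α)) (h2 : MulAction.IsPretransitive G (Set.powersetCard α 2)) {a b c d : α} (hab : a ≠ b) (hcd : c ≠ d) : ∃ g : G, (g • a = c ∧ g • b = d) ∨ (g • a = d ∧ g • b = c) := by
  obtain ⟨g, hg⟩ := h2.exists_smul_eq ⟨{a, b}, Finset.card_pair hab⟩ ⟨{c, d}, Finset.card_pair hcd⟩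
  have h1 : g • ({a, b} : Finset α) = {c, d} := congrArg Subtype.val hg
  have ha : g • a ∈ ({c, d} : Finset α) := h1 ▸ Finset.smul_mem_smul_finset (by simp)
  have hb : g • b ∈ ({c, d} : Finset α) := h1 ▸ Finset.smul_mem_smul_finset (by simp)
  have hne : g • a ≠ g • b := fun e => hab (smul_left_cancel g e)
  refine ⟨g, ?_⟩
  simp only [Finset.mem_insert, Finset.mem_singleton] at ha hb
  rcases ha with ha | ha <;> rcases hb with hb | hb <;> simp_all

/-- A 2-homogeneous permutation group (transitive on 2-subsets) of even order is doubly transitive; a non-trivial 2-homogeneous group is primitive. -/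
theorem result {α : Type*} [Fintype α] [DecidableEq α] (G : Subgroup (Equiv.Perm α)) (h2 : MulAction.IsPretransitive G (Set.powersetCard α 2)) (hα : 3 ≤ Fintype.card α) : (Even (Nat.card G) → MulAction.IsMultiplyPretransitive G α 2) ∧ (G ≠ ⊥ → MulAction.IsPreprimitive G α) := by
  constructor
  · intro he
    obtain ⟨t, ht⟩ := exists_prime_orderOf_dvd_card' (G := G) 2 he.two_dvd
    have ht1 : t ≠ 1 := by rintro rfl; simp at ht
    obtain ⟨x, hx⟩ : ∃ x : α, t • x ≠ x := by
      by_contra h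
      push Not at h
      exact ht1 (eq_one_of_fix h)
    have ht2 : t • t • x = x := by rw [← mul_smul, ← sq, ← ht, pow_orderOf_eq_one, one_smul]
    have key : ∀ a b : α, a ≠ b → ∃ g : G, g • a = x ∧ g • b = t • x := by
      intro a b hab
      obtain ⟨g, h | h⟩ := hom2 G h2 hab hx.symm
      · exact ⟨g, h⟩
      · exact ⟨t * g, by rw [mul_smul, h.1, ht2], by rw [mul_smul, h.2]⟩
    rw [two_trans_iff]
    intro a b c d hab hcd
    obtain ⟨g, h1, h2⟩ := key a b hab
    obtain ⟨k, h3, h4⟩ := key c d hcd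
    exact ⟨k⁻¹ * g, by rw [mul_smul, h1, ← h3, inv_smul_smul], by rw [mul_smul, h2, ← h4, inv_smul_smul]⟩
  · intro hne
    have key : ∀ r : α → α → Prop, Equivalence r → (∀ (g : G) x y, r x y → r (g • x) (g • y)) →
      (∀ x y, r x y → x = y) ∨ (∀ x y, r x y) := by
      intro r hr hinv
      by_cases h : ∀ x y, r x y → x = y
      · exact Or.inl h
      right
      push Not at h
      obtain ⟨a, b, hab, hne⟩ := h
      intro x y
      by_cases hxy : x = y
      · exact hxy ▸ hr.refl x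
      obtain ⟨g, h | h⟩ := hom2 G h2 hne hxy
      · exact h.1 ▸ h.2 ▸ hinv g a b hab
      · exact h.1 ▸ h.2 ▸ hinv g b a (hr.symm hab)
    have : IsPretransitive G α := by
      rcases key (fun x y : α => ∃ n : G, n • x = y)
        ⟨fun x => ⟨1, one_smul _ _⟩, fun ⟨n, h⟩ => ⟨n⁻¹, by rw [← h, inv_smul_smul]⟩,
          fun ⟨n, h⟩ ⟨m, h'⟩ => ⟨m * n, by rw [mul_smul, h, h']⟩⟩ (fun g x y ⟨n, h⟩ =>
          ⟨g * n * g⁻¹, by rw [← h, mul_smul, mul_smul, inv_smul_smul]⟩) with h1 | h1
      · exfalso; apply hne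
        rw [eq_bot_iff]
        intro n hn
        ext y
        exact (h1 y _ ⟨⟨n, hn⟩, rfl⟩).symm
      · exact ⟨h1⟩
    exact prim_of_rel key

end Cfsg.Agent.S0735
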