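import Cfsg.Statements.S0736
import Mathlib
import Cfsg.Agent.Lib.Perm.PG3

set_option autoImplicit false
open Cfsg

namespace Cfsg.Agent.S0736

open Cfsg.Agent.Perm Cfsg.Agent.Perm.PG MulAction Equiv
open scoped Pointwise

/-- A `k`-homogeneous permutation group of degree `n`, `k ≥ 2`, with `k + q - 1 ≤ n` for every prime power `q` dividing `k`, is `(k-1)`-homogeneous. -/
theorem result {α : Type*} [Fintype α] [DecidableEq α] (G : Subgroup (Equiv.Perm α)) {k : ℕ} (hk : 2 ≤ k) (hG : MulAction.IsPretransitive G (Set.powersetCard α k)) (hq : ∀ q : ℕ, IsPrimePow q → q ∣ k → k + q - 1 ≤ Fintype.card α) : MulAction.IsPretransitive G (Set.powersetCard α (k - 1)) := by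
  classical
  refine ⟨fun s0 s1 => ?_⟩
  let O : Finset α → Prop := fun s => ∃ g : G, g • s0.1 = s
  let lam : Finset α → ℕ := fun t => ((t.powersetCard (k - 1)).filter O).card
  have hlam : ∀ t t' : Finset α, t.card = k → t'.card = k → lam t = lam t' := by
    intro t t' ht ht'
    obtain ⟨g, hg⟩ := hG.exists_smul_eq ⟨t, ht⟩ ⟨t', ht'⟩
    have hg' : g • t = t' := congrArg Subtype.val hg
    refine Finset.card_bij (fun s _ => g • s) (fun s hs => ?_) (fun _ _ _ _ h => smul_left_cancel g h) fun s hs => ?_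
    · simp only [Finset.mem_filter, Finset.mem_powersetCard] at hs ⊢
      obtain ⟨⟨h1, h2⟩, u, rfl⟩ := hs
      exact ⟨⟨hg' ▸ Finset.smul_finset_subset_smul_finset h1, by rwa [Finset.card_smul_finset]⟩, g * u, mul_smul _ _ _⟩
    · simp only [Finset.mem_filter, Finset.mem_powersetCard] at hs ⊢
      obtain ⟨⟨h1, h2⟩, u, rfl⟩ := hs
      refine ⟨g⁻¹ • u • s0.1, ⟨⟨?_, by rwa [Finset.card_smul_finset]⟩, g⁻¹ * u, mul_smul _ _ _⟩, smul_inv_smul _ _⟩
      rw [← inv_smul_smul g t, hg']
      exact Finset.smul_finset_subset_smul_finset h1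
  have hkn : k ≤ Fintype.card α := by
    have := hq _ (Nat.minFac_prime (show k ≠ 1 by omega)).isPrimePow (Nat.minFac_dvd k)
    have := (Nat.minFac_prime (show k ≠ 1 by omega)).two_le
    omega
  obtain ⟨t0, ht0, ht0'⟩ := Finset.exists_superset_card_eq (s := s0.1) (n := k) (by rw [s0.2]; omega) hkn
  obtain ⟨t1, ht1, ht1'⟩ := Finset.exists_superset_card_eq (s := s1.1) (n := k) (by rw [s1.2]; omega) hkn
  have hdvd : k ∣ lam t0 := by
    rw [Nat.dvd_iff_prime_pow_dvd_dvd]
    intro p a hp hpa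
    rcases a with _ | a
    · simp
    set q := p ^ (a + 1) with hqd
    have hq0 : 0 < q := pow_pos hp.pos _
    obtain ⟨T, -, hT⟩ := Finset.exists_superset_card_eq (s := (∅ : Finset α)) (n := k + q - 1) (by simp)
      (hq q (hp.isPrimePow.pow (by omega)) hpa)
    have h1 := Finset.card_mul_eq_card_mul (s := (T.powersetCard (k - 1)).filter O) (t := T.powersetCard k)
      (fun s t => s ⊆ t) (m := q) (n := lam t0) (fun s hs => by
        simp only [Finset.mem_filter, Finset.mem_powersetCard] at hs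
        have : q = (T \ s).card := by rw [Finset.card_sdiff_of_subset hs.1.1, hT, hs.1.2]; omega
        rw [this]
        symm
        refine Finset.card_bij (fun x _ => insert x s) (fun x hx => ?_) (fun x hx y hy h => ?_) fun t ht => ?_
        · simp only [Finset.mem_sdiff] at hx
          simp only [Finset.mem_bipartiteAbove, Finset.mem_powersetCard]
          exact ⟨⟨Finset.insert_subset hx.1 hs.1.1, by rw [Finset.card_insert_of_notMem hx.2, hs.1.2]; omega⟩,
            Finset.subset_insert _ _⟩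
        · exact (Finset.insert_inj (Finset.mem_sdiff.1 hx).2).1 h
        · simp only [Finset.mem_bipartiteAbove, Finset.mem_powersetCard] at ht
          obtain ⟨x, hx, rfl⟩ := Finset.exists_eq_insert_iff.2 ⟨ht.2, by rw [ht.1.2, hs.1.2]; omega⟩
          exact ⟨x, Finset.mem_sdiff.2 ⟨ht.1.1 (by simp), hx⟩, rfl⟩) (fun t ht => by
        rw [Finset.mem_powersetCard] at ht
        rw [hlam t0 t ht0' ht.2]
        congr 1
        ext s
        simp only [Finset.mem_bipartiteBelow, Finset.mem_filter, Finset.mem_powersetCard]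
        exact ⟨fun h => ⟨⟨h.2, h.1.1.2⟩, h.1.2⟩, fun h => ⟨⟨⟨h.1.1.trans ht.1, h.1.2⟩, h.2⟩, h.1.1⟩⟩)
    rw [Finset.card_powersetCard, hT] at h1
    refine Nat.Coprime.dvd_of_dvd_mul_left (Nat.Coprime.pow_left _ ?_) (h1 ▸ Dvd.intro_left _ rfl)
    rw [hp.coprime_iff_not_dvd, hp.dvd_iff_one_le_factorization (Nat.choose_pos (by omega)).ne',
      show k + q - 1 = (q - 1) + k by omega, Nat.factorization_choose' hp (Nat.lt_succ_self _), not_le,
      Nat.lt_one_iff, Finset.card_eq_zero, Finset.filter_eq_empty_iff]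
    intro i _
    have hi : 0 < p ^ i := pow_pos hp.pos _
    rcases le_total i (a + 1) with h | h
    · rw [Nat.eq_zero_of_dvd_of_lt ((Nat.dvd_mod_iff dvd_rfl).2 ((pow_dvd_pow p h).trans hpa)) (Nat.mod_lt _ hi)]
      have := Nat.mod_lt (q - 1) hi
      omega
    · have h2 : q ∣ p ^ i := pow_dvd_pow p h
      have h3 : q ∣ p ^ i - k % p ^ i := Nat.dvd_sub h2 ((Nat.dvd_mod_iff h2).2 hpa)
      have h4 := Nat.mod_lt k hi
      have := Nat.le_of_dvd (by omega) h3
      have := Nat.mod_le (q - 1) (p ^ i)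
      omega
  have hpos : 0 < lam t0 := Finset.card_pos.2 ⟨s0.1, by
    simp only [Finset.mem_filter, Finset.mem_powersetCard]
    exact ⟨⟨ht0, s0.2⟩, 1, one_smul _ _⟩⟩
  have h2 : (t1.powersetCard (k - 1)).card ≤ lam t1 := by
    rw [Finset.card_powersetCard, ht1', ← hlam t0 t1 ht0' ht1', Nat.choose_symm_of_eq_add (b := 1) (by omega),
      Nat.choose_one_right]
    exact Nat.le_of_dvd hpos hdvd
  have h3 := Finset.eq_of_subset_of_card_le (Finset.filter_subset O _) h2
  have h4 : s1.1 ∈ (t1.powersetCard (k - 1)).filter O := by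
    rw [h3, Finset.mem_powersetCard]; exact ⟨ht1, s1.2⟩
  obtain ⟨g, hg⟩ := (Finset.mem_filter.1 h4).2
  exact ⟨g, Subtype.ext hg⟩

end Cfsg.Agent.S0736
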