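import Cfsg.Statements.S0737
import Mathlib
import Cfsg.Agent.Lib.Perm.Hup4
import Cfsg.Agent.S0735
import Cfsg.Agent.S0205
import Cfsg.Agent.S0547
import Cfsg.Agent.S0043

set_option autoImplicit false
open Cfsg

namespace Cfsg.Agent.S0737

open Cfsg.Agent.Perm Cfsg.Agent.Perm.Hp MulAction Subgroup

/-- A non-trivial 2-homogeneous permutation group that is not doubly transitive has odd order and degree `p^f ≡ 3 (mod 4)`, and is permutation-isomorphic to a group of semi-affine transformations `x ↦ a φ(x) + b` of the field with `p^f` elements containing all translations. -/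
theorem result {α : Type*} [Fintype α] [DecidableEq α] (G : Subgroup (Equiv.Perm α)) (hne : G ≠ ⊥) (h2 : MulAction.IsPretransitive G (Set.powersetCard α 2)) (hn2 : ¬ MulAction.IsMultiplyPretransitive G α 2) : Odd (Nat.card G) ∧ ∃ (p f : ℕ) (_ : Fact p.Prime), p ≠ 2 ∧ Fintype.card α = p ^ f ∧ p ^ f % 4 = 3 ∧ ∃ e : α ≃ GaloisField p f, (∀ g : G, e.symm.trans (((g : Equiv.Perm α)).trans e) ∈ Cfsg.semiaffineGroup (GaloisField p f)) ∧ ∀ b : GaloisField p f, ∃ g : G, ∀ x : α, e ((g : Equiv.Perm α) x) = e x + b := by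
  have hα : 3 ≤ Fintype.card α := by
    by_contra h
    obtain ⟨g, hg⟩ : ∃ g : G, g ≠ 1 := by
      have := (Subgroup.nontrivial_iff_ne_bot G).2 hne
      exact exists_ne 1
    obtain ⟨x, hx⟩ : ∃ x : α, g • x ≠ x := by
      by_contra h
      push Not at h
      exact hg (eq_one_of_fix h)
    have hall : ∀ a b c : α, a ≠ b → c = a ∨ c = b := fun a b c hab => by
      by_contra h'
      push Not at h'
      exact h (Fintype.two_lt_card_iff.2 ⟨a, b, c, hab, h'.1.symm, h'.2.symm⟩)
    refine hn2 (two_trans_iff.2 fun a b c d hab hcd => ?_)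
    have hgx : ∀ y, g • y ≠ y := fun y e => by
      rcases hall x (g • x) y hx.symm with rfl | rfl
      · exact hx e
      · exact hx (smul_left_cancel g e)
    by_cases e : a = c
    · subst e
      exact ⟨1, one_smul _ _, by rw [one_smul]; exact ((hall a d b hcd).resolve_left hab.symm)⟩
    · have e1 : c = b := (hall a b c hab).resolve_left (Ne.symm e)
      subst e1
      have e2 : d = a := (hall a c d hab).resolve_right hcd.symm
      subst e2
      exact ⟨g, (hall d c _ hab).resolve_left (hgx d), (hall d c _ hab).resolve_right (hgx c)⟩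
  obtain ⟨h3, h4⟩ := S0735.result G h2 hα
  have hodd : Odd (Nat.card G) := Nat.not_even_iff_odd.1 fun h => hn2 (h3 h)
  have hprim := h4 hne
  have hsol := S0205.result hodd
  obtain ⟨o⟩ : Nonempty α := Fintype.card_pos_iff.1 (by omega)
  have : Nonempty α := ⟨o⟩
  obtain ⟨M, hMn, hM0, -, hmin⟩ := exists_minNormal_le (⊤ : Subgroup G) inferInstance (by
    have := (Subgroup.nontrivial_iff_ne_bot G).2 hne
    exact top_ne_bot)
  obtain ⟨ht, hr, -⟩ := S0547.result hprim M hM0 hmin
  obtain ⟨hab, p, hp, hexp⟩ := S0043.result M hM0 hmin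
  have := Fact.mk hp
  obtain ⟨V, _, _, c, ρ, hρ, hc0, hc1, hc2⟩ := coord M hab hexp ht o (hr o)
  have : Finite V := Finite.of_equiv _ c
  have hV : Nat.card V = Fintype.card α := by rw [← Nat.card_eq_fintype_card]; exact Nat.card_congr c.symm
  have : Nontrivial V := Finite.one_lt_card_iff_nontrivial.1 (by omega)
  have hodd2 : Odd (Fintype.card α) := by
    have := hprim.toIsPretransitive
    rw [card_eq_mul_stab (G := G) o, Nat.card_eq_fintype_card] at hodd
    exact (Nat.odd_mul.1 hodd).1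
  obtain ⟨f, hf⟩ : ∃ f, Nat.card V = p ^ f := ⟨_, by rw [Module.natCard_eq_pow_finrank (K := ZMod p), Nat.card_zmod]⟩
  have hf0 : f ≠ 0 := by rintro rfl; rw [pow_zero] at hf; omega
  have hp2 : p ≠ 2 := by
    rintro rfl
    rw [← hV, hf] at hodd2
    exact absurd (Nat.Odd.of_mul_right (show Odd (2 ^ (f - 1) * 2) by rwa [← pow_succ, Nat.sub_add_cancel (by omega)])) (by decide)
  let ρ' : stabilizer G o × ℤˣ →* (V ≃ₗ[ZMod p] V) :=
    { toFun := fun g => ρ g.1 * DistribMulAction.toLinearEquiv (ZMod p) V g.2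
      map_one' := LinearEquiv.ext fun v => by simp
      map_mul' := fun g h => LinearEquiv.ext fun v => by
        simp [Units.smul_def, mul_smul] }
  have hρ' : ∀ g v, ρ' g v = (g.2 : ℤ) • ρ g.1 v := fun g v => by
    simp [ρ', Units.smul_def]
  have hinj : Function.Injective ρ' := by
    rw [injective_iff_map_eq_one]
    rintro ⟨h, ε⟩ e
    have e' : ∀ v, (ε : ℤ) • ρ h v = v := fun v => by rw [← hρ' (h, ε) v, e]; rfl
    rcases Int.units_eq_one_or ε with rfl | rfl
    · have : h = 1 := hρ (LinearEquiv.ext fun v => by simpa using e' v)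
      rw [this]; rfl
    · exfalso
      have e1 : ∀ v, ρ h v = -v := fun v => by
        have := e' v
        simp only [Units.val_neg, Units.val_one, neg_smul, one_smul] at this
        exact neg_eq_iff_eq_neg.1 this
      have e2 : h ^ 2 = 1 := hρ (LinearEquiv.ext fun v => by simp [pow_two, e1])
      obtain ⟨j, hj⟩ := hodd.of_dvd_nat (card_subgroup_dvd_card (stabilizer G o))
      have e3 : h = 1 := by
        have := pow_card_eq_one' (x := h)
        rwa [hj, pow_succ, pow_mul, e2, one_pow, one_mul] at this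
      obtain ⟨v, hv⟩ := exists_ne (0 : V)
      have e4 := e1 v
      rw [e3, map_one] at e4
      have e5 : ((2 : ℕ) : ZMod p) • v = 0 := by
        rw [Nat.cast_smul_eq_nsmul, two_nsmul]
        exact eq_neg_iff_add_eq_zero.1 e4
      refine hv ((smul_eq_zero.1 e5).resolve_left fun e6 => hp2 ?_)
      exact (Nat.prime_dvd_prime_iff_eq hp Nat.prime_two).1 ((ZMod.natCast_eq_zero_iff _ _).1 e6)
  have htr : ∀ v w : V, v ≠ 0 → w ≠ 0 → ∃ g, ρ' g v = w := by
    intro v w hv hw
    obtain ⟨x, rfl⟩ := c.surjective v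
    obtain ⟨y, rfl⟩ := c.surjective w
    obtain ⟨g, ⟨e1, e2⟩ | ⟨e1, e2⟩⟩ := S0735.hom2 G h2 (a := o) (b := x) (c := o) (d := y)
      (fun e => hv (e ▸ hc0)) (fun e => hw (e ▸ hc0))
    · exact ⟨(⟨g, e1⟩, 1), by rw [hρ', ← hc1]; simp [e2]⟩
    · obtain ⟨m, hm⟩ := ht.exists_smul_eq y o
      have hm' : (m : G) • y = o := hm
      refine ⟨(⟨m * g, show ((m : G) * g) • o = o by rw [mul_smul, e1, hm']⟩, -1), ?_⟩
      rw [hρ', ← hc1]
      have e3 := hc2 m m.2 y
      rw [hm', hc0] at e3
      simp only [mul_smul, e2, Units.val_neg, Units.val_one, neg_smul, one_smul]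
      exact (eq_neg_of_add_eq_zero_left e3.symm).symm
  have h5 : Fintype.card α % 4 = 3 := by
    have h6 := Tr.card_G_dvd (ρ := ρ') (A := ⊥) ⟨hinj, htr, inferInstance, inferInstance, bot_le⟩
    rw [hV, Nat.card_prod, Nat.card_eq_fintype_card (α := ℤˣ), Fintype.card_units_int] at h6
    have h7 := hodd.of_dvd_nat (card_subgroup_dvd_card (stabilizer G o))
    rw [Nat.odd_iff] at hodd2 h7
    by_contra h8
    have h9 : 4 ∣ Nat.card (stabilizer G o) * 2 := Dvd.dvd.trans (by omega) h6
    omega
  refine ⟨hodd, p, f, inferInstance, hp2, hV.symm.trans hf, by rw [← hf, hV, h5], ?_⟩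
  rcases semilinear_or inferInstance hinj htr with ⟨K, _, _, e, he⟩ | h6
  · have := Fintype.ofFinite (GaloisField p f)
    obtain ⟨E, hE1, hE2⟩ := semiaff_of ht hc1 hc2 e (FiniteField.ringEquivOfCardEq (K' := GaloisField p f) (by
      rw [← Nat.card_eq_fintype_card, ← Nat.card_eq_fintype_card, GaloisField.card p f hf0, ← hf]
      exact Nat.card_congr e.toEquiv.symm)) (fun g => by
        obtain ⟨a, σ, h⟩ := he (g, 1)
        exact ⟨a, σ, fun v => by simpa [hρ'] using h v⟩)
    refine ⟨E, fun g => ?_, fun b => ?_⟩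
    · obtain ⟨a, b, σ, h⟩ := hE1 g
      refine ⟨a, b, σ, fun x => ?_⟩
      have := h (E.symm x)
      rwa [E.apply_symm_apply] at this
    · obtain ⟨m, -, h⟩ := hE2 b
      exact ⟨m, h⟩
  · rw [hV] at h6
    simp only [Set.mem_insert_iff, Set.mem_singleton_iff] at h6
    omega

end Cfsg.Agent.S0737
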