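import Cfsg.Statements.S0739
import Cfsg.Agent.Lib.Char.Zass5

set_option autoImplicit false
open Cfsg

namespace Cfsg.Agent.S0739

open Cfsg.Agent.Char

/-- In a finite Zassenhaus group whose two-point stabiliser `H = G_{a,b}` has odd order `d`, and which has no normal `q`-complement for any prime `q ∣ d`, `H` is cyclic, `C_G(H) = H`, and every element swapping `a` and `b` inverts each element of `H`. -/
theorem result {G Ω : Type*} [Group G] [Finite G] [MulAction G Ω] [Fintype Ω] (hZ : Cfsg.IsZassenhausGroup G Ω) {a b : Ω} (hab : a ≠ b) (hodd : Odd (Nat.card ↥(MulAction.stabilizer G a ⊓ MulAction.stabilizer G b))) (hnil : ∀ q : ℕ, q.Prime → q ∣ Nat.card ↥(MulAction.stabilizer G a ⊓ MulAction.stabilizer G b) → ¬ ∃ N : Subgroup G, N.Normal ∧ N.index = q ^ (Nat.card G).factorization q) : IsCyclic ↥(MulAction.stabilizer G a ⊓ MulAction.stabilizer G b) ∧ Subgroup.centralizer ((MulAction.stabilizer G a ⊓ MulAction.stabilizer G b : Subgroup G) : Set G) = MulAction.stabilizer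 G a ⊓ MulAction.stabilizer G b ∧ ∀ s : G, s • a = b → s • b = a → ∀ h ∈ MulAction.stabilizer G a ⊓ MulAction.stabilizer G b, s * h * s⁻¹ = h⁻¹ := by
  obtain ⟨h1, h2⟩ := Zass.inverts hZ hab hodd hnil
  refine ⟨h1, le_antisymm (fun g hg => ?_) fun x hx y hy =>
    congrArg Subtype.val (comm_of_isCyclic h1 ⟨y, hy⟩ ⟨x, hx⟩), h2⟩
  obtain ⟨x, hx, hx1⟩ := Zass.exists_mem_E hZ hab
  have h3 := hg x hx
  rcases Zass.pair_of_conj hZ hab hx hx1 (g := g) (by rwa [← h3, mul_inv_cancel_right]) with h | h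
  · exact h
  have h4 := h2 g h.1 h.2 x hx
  rw [← h3, mul_inv_cancel_right, eq_inv_iff_mul_eq_one, ← sq] at h4
  exact (hx1 (orderOf_eq_one_iff.1 (Nat.eq_one_of_dvd_coprimes hodd.coprime_two_left
    (orderOf_dvd_of_pow_eq_one h4) (Subgroup.orderOf_dvd_natCard _ hx)))).elim

end Cfsg.Agent.S0739
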