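import Cfsg.Statements.S0740
import Mathlib
import Cfsg.Agent.Lib.Perm.Count

set_option autoImplicit false
open Cfsg

namespace Cfsg.Agent.S0740

open Cfsg.Agent.Perm MulAction

theorem conj_swap {G Ω : Type*} [Group G] [MulAction G Ω] [FaithfulSMul G Ω] (h2 : IsMultiplyPretransitive G Ω 2)
    {a b : Ω} (hab : a ≠ b) {t : G} (ht : orderOf t = 2) :
    ∃ g : G, orderOf (g * t * g⁻¹) = 2 ∧ (g * t * g⁻¹) • a = b ∧ (g * t * g⁻¹) • b = a := by
  have ht1 : t ≠ 1 := by rintro rfl; simp at ht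
  obtain ⟨x, hx⟩ : ∃ x : Ω, t • x ≠ x := by
    by_contra h
    push Not at h
    exact ht1 (eq_one_of_smul_eq h)
  have ht2 : t • t • x = x := by rw [← mul_smul, ← sq, ← ht, pow_orderOf_eq_one, one_smul]
  obtain ⟨g, h1, h2⟩ := two_trans_iff.1 h2 x (t • x) a b hx.symm hab
  refine ⟨g, ?_, ?_, ?_⟩
  · rw [← ht]; exact (MulAut.conj g).orderOf_eq t
  · rw [← h1, mul_smul, mul_smul, inv_smul_smul, h2]
  · rw [← h2, mul_smul, mul_smul, inv_smul_smul, ht2, h1]

theorem fix_le_two {G Ω : Type*} [Group G] [MulAction G Ω] [Finite Ω] (hZ : Cfsg.IsZassenhausGroup G Ω)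
    {s : G} (hs : s ≠ 1) : Nat.card (fixedBy Ω s) ≤ 2 := by
  by_contra h
  rw [not_le, Nat.card_coe_set_eq, Set.two_lt_ncard_iff] at h
  obtain ⟨a, b, c, ha, hb, hc, hab, hac, hbc⟩ := h
  exact hs (hZ.2.2.1 s a b c hab hbc hac ha hb hc)

/-- In a finite Zassenhaus group any two points `a ≠ b` are swapped by an involution; every such involution has exactly one fixed point when the degree is odd and 0 or 2 fixed points when the degree is even; and if the two-point stabiliser has even order, some such involution has exactly 2 fixed points. -/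
theorem result {G Ω : Type*} [Group G] [Finite G] [MulAction G Ω] [Fintype Ω] (hZ : Cfsg.IsZassenhausGroup G Ω) {a b : Ω} (hab : a ≠ b) : (∃ s : G, orderOf s = 2 ∧ s • a = b ∧ s • b = a) ∧ (∀ s : G, orderOf s = 2 → s • a = b → s • b = a → (Odd (Fintype.card Ω) → Nat.card (MulAction.fixedBy Ω s) = 1) ∧ (Even (Fintype.card Ω) → Nat.card (MulAction.fixedBy Ω s) = 0 ∨ Nat.card (MulAction.fixedBy Ω s) = 2)) ∧ (Even (Fintype.card Ω) → Even (Nat.card ↥(MulAction.stabilizer G a ⊓ MulAction.stabilizer G b)) → ∃ s : G, orderOf s = 2 ∧ s • a = b ∧ s • b = a ∧ Nat.card (MulAction.fixedBy Ω s) = 2) := by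
  have := hZ.1
  have h2 := hZ.2.1
  refine ⟨?_, fun s hs _ _ => ?_, fun _ he => ?_⟩
  · obtain ⟨g, h1, h3⟩ := two_trans_iff.1 h2 a b b a hab hab.symm
    have : 2 ∣ Nat.card G := by
      by_contra hodd
      obtain ⟨m, hm⟩ : Odd (Nat.card G) := Nat.not_even_iff_odd.1 fun e => hodd e.two_dvd
      have h9 : g ^ 2 ∈ stabilizer G a := by
        rw [mem_stabilizer_iff, sq, mul_smul, h1, h3]
      have h10 : g⁻¹ = (g ^ 2) ^ m := by
        rw [← pow_mul, inv_eq_iff_mul_eq_one, ← pow_succ', ← hm, pow_card_eq_one']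
      have h11 := (stabilizer G a).inv_mem ((stabilizer G a).pow_mem h9 m)
      rw [← h10, inv_inv, mem_stabilizer_iff, h1] at h11
      exact hab h11.symm
    obtain ⟨t, ht⟩ := exists_prime_orderOf_dvd_card' 2 this
    obtain ⟨g, hg⟩ := conj_swap h2 hab ht
    exact ⟨_, hg⟩
  · have h3 := fix_le_two hZ (s := s) (by rintro rfl; simp at hs)
    have h4 := card_modEq_fixedBy (α := Ω) Nat.prime_two (g := s) (k := 1) (by rw [pow_one, ← hs, pow_orderOf_eq_one])
    rw [Nat.card_eq_fintype_card, Nat.ModEq] at h4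
    rw [Nat.odd_iff, Nat.even_iff]
    omega
  · obtain ⟨t, ht⟩ := exists_prime_orderOf_dvd_card' 2 he.two_dvd
    rw [← Subgroup.orderOf_coe] at ht
    obtain ⟨g, h1, h3, h4⟩ := conj_swap h2 hab ht
    refine ⟨_, h1, h3, h4, ?_⟩
    rw [card_fixedBy_conj]
    apply le_antisymm (fix_le_two hZ (by intro e; simp [e] at ht))
    rw [← Set.ncard_pair hab]
    refine Set.ncard_le_ncard ?_ (Set.toFinite _)
    rintro x (rfl | rfl)
    · exact t.2.1
    · exact t.2.2

end Cfsg.Agent.S0740
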