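import Cfsg.Statements.S0743
import Mathlib
import Cfsg.Agent.Lib.Perm.Count

set_option autoImplicit false
open Cfsg

namespace Cfsg.Agent.S0743

open Cfsg.Agent.Perm MulAction

/-- Gleason's Lemma: let `p` be a prime and `1 ≤ k < n`; if every `k`-subset of the `n` points is exactly the fixed-point set of some `p`-subgroup of `G`, then `G` is `k`-transitive. -/
theorem result {α : Type*} [Fintype α] [DecidableEq α] (G : Subgroup (Equiv.Perm α)) {p k : ℕ} (hp : p.Prime) (hk : 1 ≤ k) (hkn : k < Fintype.card α) (h : ∀ s : Finset α, s.card = k → ∃ P : Subgroup G, IsPGroup p P ∧ MulAction.fixedPoints P α = (s : Set α)) : MulAction.IsMultiplyPretransitive G α k := by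
  have := Fact.mk hp
  apply multTrans_of_update (by rwa [Nat.card_eq_fintype_card])
  intro x hx i c hc
  set t : Finset α := (Finset.univ.erase i).image x with ht
  have htc : t.card = k - 1 := by
    rw [ht, Finset.card_image_of_injective _ hx, Finset.card_erase_of_mem (Finset.mem_univ _)]; simp
  set L := fixingSubgroup G (t : Set α) with hL
  have key : ∀ a b, a ∉ t → b ∉ t → ∃ n, (orbit L b).ncard ≡ n [MOD p] ∧ (a ∈ orbit L b → n = 1) ∧ (a ∉ orbit L b → n = 0) := by
    intro a b ha hb
    obtain ⟨P, hP, hfix⟩ := h (insert a t) (by rw [Finset.card_insert_of_notMem ha, htc]; omega)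
    have hPL : P ≤ L := fun g hg => (mem_fixingSubgroup_iff G).2 fun y hy => by
      have : y ∈ fixedPoints P α := by rw [hfix]; simp [show y ∈ t from hy]
      exact this ⟨g, hg⟩
    let T : SubMulAction P α := ⟨orbit L b, fun g y hy => by
      obtain ⟨l, rfl⟩ := hy
      exact ⟨⟨g, hPL g.2⟩ * l, by simp only [mul_smul]; rfl⟩⟩
    have h1 := hP.card_modEq_card_fixedPoints T
    have h2 : Nat.card (fixedPoints P T) = ({a} ∩ orbit L b).ncard := by
      rw [Nat.card_coe_set_eq, ← Set.ncard_image_of_injective _ Subtype.val_injective]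
      congr 1
      ext y
      constructor
      · rintro ⟨y, hy, rfl⟩
        refine ⟨?_, y.2⟩
        have : (y : α) ∈ fixedPoints P α := fun g => congrArg Subtype.val (hy g)
        rw [hfix] at this
        rcases Finset.mem_insert.1 this with h | h
        · exact h
        · exfalso
          obtain ⟨l, hl⟩ := y.2
          have h3 : (l : G) • (y : α) = y := (mem_fixingSubgroup_iff G).1 l.2 _ h
          have h4 : (l : G) • b = y := hl
          rw [smul_left_cancel _ (h3.trans h4.symm)] at h
          exact hb h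
      · rintro ⟨rfl, hy⟩
        refine ⟨⟨y, hy⟩, fun g => Subtype.ext ?_, rfl⟩
        have : y ∈ fixedPoints P α := by rw [hfix]; simp
        exact this g
    refine ⟨_, h2 ▸ h1, fun h => ?_, fun h => ?_⟩
    · rw [Set.inter_eq_left.2 (by simpa using h), Set.ncard_singleton]
    · rw [Set.singleton_inter_eq_empty.2 h, Set.ncard_empty]
  have hi : x i ∉ t := by simp [ht, hx.eq_iff]
  have hc' : c ∉ t := fun h => hc (by
    obtain ⟨j, -, hj⟩ := Finset.mem_image.1 h
    exact ⟨j, hj⟩)
  obtain ⟨n, h1, h2, -⟩ := key (x i) (x i) hi hi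
  obtain ⟨n', h3, -, h4⟩ := key c (x i) hc' hi
  have : c ∈ orbit L (x i) := by
    by_contra hcon
    rw [h2 (mem_orbit_self _)] at h1
    rw [h4 hcon] at h3
    have := (h1.symm.trans h3).eq_of_lt_of_lt hp.one_lt hp.pos
    omega
  obtain ⟨l, hl⟩ := this
  exact ⟨l, hl, fun j hj => (mem_fixingSubgroup_iff G).1 l.2 _ (by simp [ht, hx.eq_iff, hj])⟩

end Cfsg.Agent.S0743
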