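import Cfsg.Statements.S0744
import Mathlib
import Cfsg.Agent.Lib.Perm.Count
import Cfsg.Agent.S0743

set_option autoImplicit false
open Cfsg

namespace Cfsg.Agent.S0744

open Cfsg.Agent.Perm MulAction

/-- If for some `k > 1` the pointwise stabilisers of all `(k-1)`-subsets have the same order `> 1` and those of all `k`-subsets have the same order, then the group is `(k-1)`-transitive. -/
theorem result {α : Type*} [Fintype α] [DecidableEq α] (G : Subgroup (Equiv.Perm α)) {k : ℕ} (hk : 1 < k) (hkn : k ≤ Fintype.card α) (l m : ℕ) (hl : 1 < l) (hkm1 : ∀ s : Finset α, s.card = k - 1 → Nat.card (fixingSubgroup G (s : Set α)) = l) (hkm : ∀ s : Finset α, s.card = k → Nat.card (fixingSubgroup G (s : Set α)) = m) : MulAction.IsMultiplyPretransitive G α (k - 1) := by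
  have key : ∀ s : Finset α, s.card = k - 1 → ∀ c ∉ s, (stabilizer (fixingSubgroup G (s : Set α)) c).index * m = l := by
    intro s hs c hc
    rw [← hkm1 s hs, ← hkm (insert c s) (by rw [Finset.card_insert_of_notMem hc]; omega),
      ← (stabilizer (fixingSubgroup G (s : Set α)) c).index_mul_card]
    congr 1
    refine Nat.card_congr ⟨fun g => ⟨⟨g.1, ?_⟩, ?_⟩, fun g => ⟨g.1.1, ?_⟩, fun _ => rfl, fun _ => rfl⟩
    · exact (mem_fixingSubgroup_iff G).2 fun y hy => (mem_fixingSubgroup_iff G).1 g.2 y (by simp [show y ∈ s from hy])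
    · exact (mem_fixingSubgroup_iff G).1 g.2 c (by simp)
    · refine (mem_fixingSubgroup_iff G).2 fun y hy => ?_
      rcases Finset.mem_insert.1 hy with rfl | hy
      · exact g.2
      · exact (mem_fixingSubgroup_iff G).1 g.1.2 y hy
  obtain ⟨s, -, hs⟩ := Finset.exists_superset_card_eq (s := (∅ : Finset α)) (n := k - 1) (by simp) (by omega)
  obtain ⟨c, hc⟩ : ∃ c, c ∉ s := by
    by_contra h
    push Not at h
    have := Finset.card_le_card (show Finset.univ ⊆ s from fun x _ => h x)
    rw [Finset.card_univ] at this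
    omega
  have hm : 0 < m := by
    have := key s hs c hc
    rcases m with _ | m <;> omega
  set t := (stabilizer (fixingSubgroup G (s : Set α)) c).index with ht
  have key2 : ∀ s : Finset α, s.card = k - 1 → ∀ c ∉ s, (stabilizer (fixingSubgroup G (s : Set α)) c).index = t :=
    fun s' hs' c' hc' => Nat.eq_of_mul_eq_mul_right hm ((key s' hs' c' hc').trans (key s hs c hc).symm)
  have ht1 : t ≠ 1 := by
    intro e
    have : fixingSubgroup G (s : Set α) = ⊥ := by
      rw [eq_bot_iff]
      intro g hg
      apply eq_one_of_fix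
      intro y
      by_cases hy : y ∈ s
      · exact (mem_fixingSubgroup_iff G).1 hg y hy
      · have := key2 s hs y hy
        rw [e, Subgroup.index_eq_one] at this
        have h2 : (⟨g, hg⟩ : fixingSubgroup G (s : Set α)) ∈ stabilizer (fixingSubgroup G (s : Set α)) y := this ▸ Subgroup.mem_top _
        exact h2
    have h2 := hkm1 s hs
    rw [this, Subgroup.card_bot] at h2
    omega
  have hp := Nat.minFac_prime ht1
  have := Fact.mk hp
  refine S0743.result G hp (by omega) (by omega) fun s' hs' => ?_
  obtain ⟨P⟩ : Nonempty (Sylow t.minFac (fixingSubgroup G (s' : Set α))) := inferInstance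
  refine ⟨(P : Subgroup (fixingSubgroup G (s' : Set α))).map (Subgroup.subtype _), P.isPGroup'.map _, ?_⟩
  ext y
  constructor
  · intro hy
    by_contra hys
    apply P.not_dvd_index
    refine (Nat.minFac_dvd t).trans ?_
    exact (key2 s' hs' y hys).symm.dvd.trans (Subgroup.index_dvd_of_le fun g hg => hy ⟨g, g, hg, rfl⟩)
  · rintro hy ⟨_, g, hg, rfl⟩
    exact (mem_fixingSubgroup_iff G).1 g.2 y hy

end Cfsg.Agent.S0744
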