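import Cfsg.Statements.S0745
import Cfsg.Agent.Lib.Perm.LW2
import Cfsg.Agent.S0744
import Cfsg.Agent.S0680

set_option autoImplicit false
open Cfsg

namespace Cfsg.Agent.S0745
section
open Pointwise commutatorElement Subgroup
open Cfsg.Agent.Perm Cfsg.Agent.Perm.LW MulAction Finset

theorem no7 {G : Type*} [Group G] [Finite G] {α : Type*} [MulAction G α] [Finite α] (h : Transfer.ShT G α 3) :
    Nat.card α ≠ 7 := fun e => by
  haveI : Nonempty α := (Nat.card_pos_iff.1 (by omega)).1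
  obtain ⟨a⟩ := ‹Nonempty α›
  have h2 := h.step a
  have e2 := SubMulAction.nat_card_ofStabilizer_add_one_eq (G := G) a
  haveI : Nontrivial (SubMulAction.ofStabilizer G a) := Finite.one_lt_card_iff_nontrivial.1 (by omega)
  obtain ⟨p, K, hp, -, -, -, h3, h4, -⟩ := S0680.exists_kernel h2.trans (sharp2_iff.1 h2.sharp)
  have : ∀ q : ℕ, q.Prime → q ∣ 6 → q = p := fun q hq h6 => by
    haveI := Fact.mk hq
    obtain ⟨x, hx⟩ := exists_prime_orderOf_dvd_card' (G := K) q (by rw [h4, show Nat.card _ = 6 by omega]; exact h6)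
    exact (Nat.prime_dvd_prime_iff_eq hq hp).1 (hx ▸ orderOf_dvd_of_pow_eq_one (Subtype.ext (h3 x x.2)))
  have h5 := this 2 (by norm_num) (by norm_num)
  have h6 := this 3 (by norm_num) (by norm_num)
  omega

theorem a1 {r d m e f : ℕ} (r2 : 2 ≤ r) (hm : r * d = m + 2) (m0 : 0 < m) (hd : Odd d) (k1 : 2 = r * f)
    (k2 : 6 = (m + 1) * r * e) : False := by
  obtain ⟨d', rfl⟩ := hd
  have : r ≤ 2 := Nat.le_of_dvd (by norm_num) ⟨f, k1⟩
  have : (m + 1) * r ≤ 6 := Nat.le_of_dvd (by norm_num) ⟨e, k2⟩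
  interval_cases r
  omega

theorem a2 {r d m e f : ℕ} (r2 : 2 ≤ r) (hm : r * d = m + 2) (m0 : 0 < m) (hd : Odd d) (k1 : 6 = r * f)
    (k2 : 24 = (m + 1) * r * (e + e)) : m = 1 ∧ d = 1 := by
  obtain ⟨d', rfl⟩ := hd
  have : r ≤ 6 := Nat.le_of_dvd (by norm_num) ⟨f, k1⟩
  have : (m + 1) * r ≤ 12 := Nat.le_of_dvd (by norm_num) ⟨e, by linarith⟩
  have : m ≤ 5 := by nlinarith
  interval_cases r <;> (try omega) <;> interval_cases m <;> omega

theorem a3 {r d m e f : ℕ} (r2 : 2 ≤ r) (hm : r * d = m + 2) (m0 : 0 < m) (hd : Odd d) (k1 : 24 = r * f)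
    (k2 : 120 = (m + 1) * r * (e + e)) :
    (m = 1 ∧ d = 1) ∨ (m = 2 ∧ d = 1) ∨ (m = 4 ∧ d = 1) ∨ (m = 4 ∧ d = 3) ∨ (m = 19 ∧ d = 7) := by
  obtain ⟨d', rfl⟩ := hd
  have : r ≤ 24 := Nat.le_of_dvd (by norm_num) ⟨f, k1⟩
  have : (m + 1) * r ≤ 60 := Nat.le_of_dvd (by norm_num) ⟨e, by linarith⟩
  have : d' ≤ 7 := by nlinarith
  obtain rfl : m = r * (2 * d' + 1) - 2 := by omega
  interval_cases r <;> (try omega) <;> interval_cases d' <;> omega

theorem a4 {r d m : ℕ} (r2 : 2 ≤ r) (hm : r * d = m + 2) (hd : Odd d) (h1 : m ≤ 5) (h2 : m % 2 = 1) : d = 1 ∧ r = m + 2 := by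
  obtain ⟨d', rfl⟩ := hd
  have : r ≤ 7 := by nlinarith
  interval_cases r <;> omega
end

open Cfsg.Agent.Perm Cfsg.Agent.Perm.LW MulAction Finset

/-- Let `G` have degree `n` and `3 ≤ k ≤ n`; suppose `G` is `(k-2)`-transitive but not `(k-1)`-transitive, and is `(k-1)`-homogeneous and `k`-homogeneous. Then `k = n` and `G` is the alternating group, or `n = 5, k = 4, |G| = 20`, or `n = 6, k = 5, |G| = 120`, or `n = 9, k = 5, |G| ∈ {504, 1512}`. -/
theorem result {α : Type*} [Fintype α] [DecidableEq α] (G : Subgroup (Equiv.Perm α)) {k : ℕ} (hk : 3 ≤ k) (hkn : k ≤ Fintype.card α) (ht : MulAction.IsMultiplyPretransitive G α (k - 2)) (hnt : ¬ MulAction.IsMultiplyPretransitive G α (k - 1)) (hh1 : MulAction.IsPretransitive G (Set.powersetCard α (k - 1))) (hh : MulAction.IsPretransitive G (Set.powersetCard α k)) : (k = Fintype.card α ∧ G = alternatingGroup α) ∨ (Fintype.card α = 5 ∧ k = 4 ∧ Nat.card G = 20) ∨ (Fintype.card α = 6 ∧ k = 5 ∧ Nat.card G =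 120) ∨ (Fintype.card α = 9 ∧ k = 5 ∧ (Nat.card G = 504 ∨ Nat.card G = 1512)) := by
  obtain ⟨u, rfl⟩ : ∃ u, k = u + 3 := ⟨k - 3, by omega⟩
  change IsMultiplyPretransitive G α (u + 1) at ht
  change ¬ IsMultiplyPretransitive G α (u + 2) at hnt
  change IsPretransitive G (Set.powersetCard α (u + 2)) at hh1
  have ex : ∀ j ≤ u + 3, ∃ S : Finset α, #S = j := fun j hj =>
    (exists_subset_card_eq (show j ≤ #(univ : Finset α) by simp; omega)).imp fun _ h => h.2
  have hU : ∀ s : Finset α, #s = u + 2 → ∀ g : G, (∀ x ∈ s, g • x = x) → g = 1 := fun s hs g hg => by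
    by_contra e
    obtain ⟨T, hT⟩ := ex _ le_rfl
    exact hnt (S0744.result G (k := u + 3) (by omega) hkn _ _
      ((fixingSubgroup G (s : Set α)).one_lt_card_iff_ne_bot.2 fun f => e (Subgroup.mem_bot.1
        (f ▸ (mem_fixingSubgroup_iff G).2 hg))) (fun v hv => hom_fix hh1 hv hs) fun v hv => hom_fix hh hv hT)
  have hO := oddFix ht hnt hh1 hU
  obtain ⟨S, hS⟩ := ex (u + 1) (by omega)
  obtain ⟨r, r2, hr⟩ := semireg ht hnt hU hS (by omega)
  have i1 := ht.index_of_fixingSubgroup_mul (s := (S : Set α)) (by simpa)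
  have i2 := IsMultiplyPretransitive.index_of_fixingSubgroup_eq (G := G) (S : Set α) (by simpa [hS] using ht)
  have i3 := (fixingSubgroup G (S : Set α)).index_mul_card
  have hd : Odd (Nat.card (fixingSubgroup G (S : Set α))) := by
    by_contra f
    haveI := Fact.mk Nat.prime_two
    obtain ⟨j, hj⟩ := exists_prime_orderOf_dvd_card' 2 (even_iff_two_dvd.1 (Nat.not_odd_iff_even.1 f))
    have := hO S hS j ((mem_fixingSubgroup_iff G).1 j.2)
    rw [Subgroup.orderOf_coe, hj] at this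
    exact absurd this (by decide)
  have sh : Nat.card (fixingSubgroup G (S : Set α)) = 1 → Transfer.ShT G α (u + 1) := fun e =>
    ⟨ht, sharp_iff.2 fun x hx g hg => by
      rw [PG.card_fixing_eq ht (t := Set.range x) (by simpa) (by rw [Set.ncard_range_of_injective hx]; simp),
        Subgroup.card_eq_one] at e
      exact Subgroup.mem_bot.1 (e ▸ (mem_fixingSubgroup_iff G).2 (by simpa using hg)), by simp; omega⟩
  have hD : {g : G | ∀ x ∈ S, g • x = x}.ncard = Nat.card (fixingSubgroup G (S : Set α)) :=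
    Nat.card_congr (Equiv.subtypeEquivRight fun g => (mem_fixingSubgroup_iff G).symm)
  obtain ⟨f, hf, -⟩ := hom_card hh1 (ex _ (by omega)).choose_spec
  obtain ⟨e, he, ev⟩ : ∃ e, Nat.card G = (Nat.card α).choose (u + 3) * e ∧ (1 ≤ u → Even e) := by
    by_cases h : 1 ≤ u
    · exact (even_e ht hO (by omega) hh hkn).imp fun _ h => ⟨h.1, fun _ => h.2⟩
    · exact (hom_card hh (ex _ le_rfl).choose_spec).imp fun _ h' => ⟨h'.1, fun e => (h e).elim⟩
  set d := Nat.card (fixingSubgroup G (S : Set α)) with hdd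
  rw [Set.ncard_coe_finset, hS, mul_comm, ← Nat.descFactorial_eq_factorial_mul_choose] at i2
  rw [Nat.card_eq_fintype_card (α := α)] at *
  obtain ⟨m, hm⟩ : ∃ m, r * d = m + 2 := ⟨r * d - 2, by omega⟩
  have hn : Fintype.card α = u + 3 + m := by omega
  have d0 := hd.pos
  have D0 : 0 < (Fintype.card α).descFactorial (u + 1) * d := Nat.mul_pos (Nat.descFactorial_pos.2 (by omega)) d0
  rw [i2] at i3
  have k1 : (u + 2).factorial = r * f := Nat.eq_of_mul_eq_mul_left D0 (by
    rw [i3, hf, mul_right_comm, mul_comm (Nat.choose _ _), ← Nat.descFactorial_eq_factorial_mul_choose, ← hf, ← i3,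
      Nat.descFactorial_succ, show Fintype.card α - (u + 1) = r * d by omega]
    ring)
  have k2 : (u + 3).factorial = (m + 1) * r * e := Nat.eq_of_mul_eq_mul_left D0 (by
    rw [i3, he, mul_right_comm, mul_comm (Nat.choose _ _), ← Nat.descFactorial_eq_factorial_mul_choose, ← he, ← i3,
      Nat.descFactorial_succ, Nat.descFactorial_succ, show Fintype.card α - (u + 1) = r * d by omega,
      show Fintype.card α - (u + 2) = m + 1 by omega]
    ring)
  obtain rfl | m0 := m.eq_zero_or_pos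
  · refine .inl ⟨hn.symm, Equiv.Perm.eq_alternatingGroup_of_index_eq_two (Nat.eq_of_mul_eq_mul_left (Nat.card_pos (α := G)) ?_)⟩
    have : d = 1 := by have := Nat.mul_le_mul_right d r2; omega
    rw [G.card_mul_index, Nat.card_perm, Nat.card_eq_fintype_card (α := α), ← i1, i2, ← i3, this, mul_one,
      show Fintype.card α - (u + 1) = 2 by omega]
    rfl
  rcases u with _ | _ | _ | w
  · exact (a1 r2 hm m0 hd k1 k2).elim
  · obtain ⟨e, rfl⟩ := ev le_rfl
    have := a2 r2 hm m0 hd k1 k2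
    refine .inr (.inl ⟨by omega, rfl, ?_⟩)
    rw [← i3, hn, this.1, this.2]; rfl
  · obtain ⟨e, rfl⟩ := ev (by omega)
    obtain ⟨rfl, h⟩ | ⟨rfl, h⟩ | ⟨rfl, h⟩ | ⟨rfl, h⟩ | ⟨rfl, h⟩ := a3 r2 hm m0 hd k1 k2
    · exact .inr (.inr (.inl ⟨hn, rfl, by rw [← i3, hn, h]; rfl⟩))
    · exact (no7 (sh h) (by rw [Nat.card_eq_fintype_card, hn])).elim
    · exact .inr (.inr (.inr ⟨hn, rfl, .inl (by rw [← i3, hn, h]; rfl)⟩))
    · exact .inr (.inr (.inr ⟨hn, rfl, .inr (by rw [← i3, hn, h]; rfl)⟩))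
    · exact (no24 hU hn (by rw [← i3, hn, h]; rfl)).elim
  exfalso
  obtain h | ⟨h1, s, ss, h2⟩ := big (w := w) (fun s hs => PG.mt_perm ht (by simp; omega) s hs.le) hU hO hS (by
    have := Nat.mul_le_mul_right d r2
    omega)
  · omega
  haveI := Fact.mk Nat.prime_two
  have p := Equiv.Perm.card_fixedPoints_modEq (f := (fun y : α => s • y : Function.End α)) (p := 2) (n := 1)
    (funext fun y => show s • s • y = y by rw [smul_smul, ss, one_smul])
  rw [Fintype.card_of_subtype (univ.filter fun x : α => s • x = x) (by simp [Function.IsFixedPt]), h2] at p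
  unfold Nat.ModEq at p
  have := a4 r2 hm hd (by omega) (by omega)
  have h3 := Transfer.ShT.all w (sh this.1)
  rw [Nat.card_eq_fintype_card] at h3
  obtain ⟨h4, rfl⟩ : w ≤ 1 ∧ r = 7 := by omega
  interval_cases w <;> simp only [Nat.factorial] at k1 <;> omega

end Cfsg.Agent.S0745
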