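import Cfsg.Statements.S0746
import Cfsg.Agent.S0745
import Cfsg.Agent.S0736

set_option autoImplicit false
open Cfsg

namespace Cfsg.Agent.S0746

/-- The Livingstone–Wagner Theorem, first form: a `k`-homogeneous group of degree `n` with `4 ≤ 2k ≤ n` is `(k-1)`-transitive. -/
theorem result {α : Type*} [Fintype α] [DecidableEq α] (G : Subgroup (Equiv.Perm α)) {k : ℕ} (hk : 2 ≤ k) (hkn : 2 * k ≤ Fintype.card α) (hh : MulAction.IsPretransitive G (Set.powersetCard α k)) : MulAction.IsMultiplyPretransitive G α (k - 1) := by
  open Pointwise commutatorElement Subgroup in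
  induction k, hk using Nat.le_induction with
  | base =>
    have h := S0736.result G le_rfl hh fun q _ hq => by have := Nat.le_of_dvd (by norm_num) hq; omega
    refine MulAction.is_one_pretransitive_iff.2 ⟨fun a b => ?_⟩
    obtain ⟨g, e⟩ := Perm.LW.hom_move h (Finset.card_singleton a) (Finset.card_singleton b)
    exact ⟨g, by simpa using e⟩
  | succ k hk ih =>
    have h := S0736.result G (by omega) hh fun q _ hq => by have := Nat.le_of_dvd (by omega) hq; omega
    by_contra f
    have := S0745.result G (k := k + 1) (by omega) (by omega) (ih (by omega) h) f h hh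
    omega

end Cfsg.Agent.S0746
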