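import Cfsg.Statements.S0752
import Cfsg.Agent.Lib.Classical.Orth2

set_option autoImplicit false
open Cfsg

namespace Cfsg.Agent.S0752
open Cfsg.Agent.Classical


/-- Classification of alternating forms: for an alternating bilinear form B on a finite-dimensional space over any field there is a basis indexed by (Fin m ⊕ Fin m) ⊕ Fin k such that B (e_i, f_j) = δ_ij, the e's are pairwise orthogonal, the f's are pairwise orthogonal, and the last k basis vectors are orthogonal to everything (they span the radical). -/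
theorem result {F V : Type*} [Field F] [AddCommGroup V] [Module F V] [FiniteDimensional F V] (B : LinearMap.BilinForm F V) (hA : B.IsAlt) : ∃ (m k : ℕ) (b : Module.Basis ((Fin m ⊕ Fin m) ⊕ Fin k) F V), (∀ i j : Fin m, B (b (Sum.inl (Sum.inl i))) (b (Sum.inl (Sum.inr j))) = if i = j then 1 else 0) ∧ (∀ i j : Fin m, B (b (Sum.inl (Sum.inl i))) (b (Sum.inl (Sum.inl j))) = 0) ∧ (∀ i j : Fin m, B (b (Sum.inl (Sum.inr i))) (b (Sum.inl (Sum.inr j))) = 0) ∧ (∀ (j : Fin k) (v : V), B (b (Sum.inr j)) v = 0) := by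
  obtain ⟨U, hU⟩ := (LinearMap.ker B).exists_isCompl
  let Φ := Form.ofAlt B hA
  have hΦ : (Φ.restrict U).Nondeg := fun v hv => by
    have : (v : V) ∈ LinearMap.ker B := by
      rw [LinearMap.mem_ker]; ext x
      obtain ⟨r, u, rfl⟩ := exists_add_of_isCompl hU x
      have h1 : B u v = 0 := hv u
      have h2 : B r v = 0 := by rw [LinearMap.mem_ker.1 r.2]; rfl
      simp [hA.isRefl _ _ h1, hA.isRefl _ _ h2]
    exact Subtype.ext (Submodule.disjoint_def.1 hU.disjoint _ this v.2)
  obtain ⟨m, hm⟩ := symp_even _ _ hΦ rfl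
  obtain ⟨e, he, -⟩ := (symp_iso_std _ hΦ (m := m) (by omega)).symm
  let b1 : Module.Basis (Fin m ⊕ Fin m) F U :=
    ((Pi.basisFun F _).map e).reindex (Equiv.sumComm _ _)
  let b := (b1.prod (Module.finBasis F (LinearMap.ker B))).map (U.prodEquivOfIsCompl _ hU.symm)
  have hb : ∀ i, b (.inl i) = e (Pi.single i.swap 1) := by intro i; simp [b, b1]
  have hb' : ∀ i j, B (b (.inl i)) (b (.inl j)) =
      Cfsg.sympForm m F (Pi.single i.swap 1) (Pi.single j.swap 1) := by
    intro i j; rw [hb, hb]; exact he _ _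
  refine ⟨m, _, b, fun i j => ?_, fun i j => ?_, fun i j => ?_, fun j v => ?_⟩
  · rw [hb']; simp [sympForm_eq, Pi.single_apply, eq_comm]
  · rw [hb']; simp [sympForm_eq, Pi.single_apply]
  · rw [hb']; simp [sympForm_eq, Pi.single_apply]
  · have : b (.inr j) ∈ LinearMap.ker B := by simp [b]
    rw [LinearMap.mem_ker.1 this]; rfl

end Cfsg.Agent.S0752
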