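import Cfsg.Statements.S0755
import Cfsg.Agent.Lib.Classical.Orth2

set_option autoImplicit false
open Cfsg

namespace Cfsg.Agent.S0755
open Cfsg.Agent.Classical


/-- Classification of Hermitian forms over finite fields: if σ is a non-identity involutive automorphism of the finite field F and B is a non-degenerate conjugate-symmetric σ-sesquilinear form on the finite-dimensional space V, then V has a B-orthonormal basis. -/
theorem result {F V : Type*} [Field F] [Finite F] [AddCommGroup V] [Module F V] [FiniteDimensional F V] (σ : F →+* F) (hσ : σ ≠ RingHom.id F) (hσ2 : ∀ a : F, σ (σ a) = a) (B : V →ₛₗ[σ] V →ₗ[F] F) (hS : B.IsSymm) (hB : B.Nondegenerate) : ∃ b : Module.Basis (Fin (Module.finrank F V)) F V, ∀ i j, B (b i) (b j) = if i = j then 1 else 0 := by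
  let Φ := Form.ofHerm σ hσ hσ2 B.flip fun u v => (hS.eq v u).symm
  let Ψ : Form (Kind.unit σ hσ2) (Fin (Module.finrank F V) → F) := Form.ofHerm σ hσ hσ2
    (LinearMap.mk₂'ₛₗ (RingHom.id F) σ (fun u v => ∑ i, u i * σ (v i))
      (by intros; simp only [Pi.add_apply, add_mul, Finset.sum_add_distrib])
      (by intros; simp only [Pi.smul_apply, smul_eq_mul, Finset.mul_sum, mul_assoc, RingHom.id_apply])
      (by intros; simp only [Pi.add_apply, map_add, mul_add, Finset.sum_add_distrib])
      (by
        intros
        simp only [Pi.smul_apply, smul_eq_mul, Finset.mul_sum, map_mul, mul_left_comm]))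
    (by
      intro u v
      simp only [LinearMap.mk₂'ₛₗ_apply, map_sum, map_mul, hσ2, mul_comm])
  have hΨ : Ψ.Nondeg := fun v hv => by
    ext i
    have : ∑ j, (Pi.single i (1 : F) : _ → F) j * σ (v j) = 0 := hv (Pi.single i 1)
    simpa [Pi.single_apply] using this
  obtain ⟨e, he, -⟩ := unit_iso hσ _ Ψ Φ hΨ hB.1 (by simp) rfl
  refine ⟨(Pi.basisFun F _).map e, fun i j => ?_⟩
  have : B (e (Pi.single i 1)) (e (Pi.single j 1)) =
    ∑ k, (Pi.single j (1 : F) : _ → F) k * σ ((Pi.single i (1 : F) : _ → F) k) := he _ _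
  simp only [Module.Basis.map_apply, Pi.basisFun_apply, this]
  simp [Pi.single_apply, eq_comm]

end Cfsg.Agent.S0755
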