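import Cfsg.Statements.S0757
import Mathlib

set_option autoImplicit false
open Cfsg

namespace Cfsg.Agent.S0757


/-- The two diagonal forms Σ x_i^2 and Σ_(i<n) x_i^2 + α x_n^2 on F^(n+1), with α a non-square and 2 ≠ 0 in F, are inequivalent quadratic forms (so over a finite field of odd order there are exactly two classes of non-singular symmetric bilinear forms in each dimension). -/
theorem result {F : Type*} [Field F] (h2 : (2 : F) ≠ 0) (n : ℕ) (α : F) (hα : ¬ IsSquare α) : ¬ (QuadraticMap.weightedSumSquares F (fun _ : Fin (n + 1) => (1 : F))).Equivalent (QuadraticMap.weightedSumSquares F (fun i : Fin (n + 1) => if i = Fin.last n then α else (1 : F))) := by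
  rintro ⟨e⟩
  have key : ∀ w : Fin (n + 1) → F, LinearMap.BilinForm.toMatrix'
      (QuadraticMap.polarBilin (QuadraticMap.weightedSumSquares F w)) = Matrix.diagonal fun i => 2 * w i := by
    intro w
    ext i j
    simp only [LinearMap.BilinForm.toMatrix'_apply, QuadraticMap.polarBilin_apply_apply,
      QuadraticMap.polar, QuadraticMap.weightedSumSquares_apply, ← Finset.sum_sub_distrib]
    rw [Finset.sum_eq_single i (fun k _ hk => by simp [Pi.single_apply, hk]) (by simp)]
    by_cases h : i = j
    · subst h; simp; ring
    · simp [h, Pi.single_apply]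
  have h1 : LinearMap.BilinForm.comp (QuadraticMap.polarBilin (QuadraticMap.weightedSumSquares F
      (fun i : Fin (n + 1) => if i = Fin.last n then α else (1 : F)))) e.toLinearEquiv.toLinearMap
      e.toLinearEquiv.toLinearMap = QuadraticMap.polarBilin
      (QuadraticMap.weightedSumSquares F (fun _ : Fin (n + 1) => (1 : F))) :=
    LinearMap.ext₂ fun u v => by
      simp only [LinearMap.BilinForm.comp_apply, QuadraticMap.polarBilin_apply_apply, QuadraticMap.polar,
        ← map_add]
      exact congrArg₂ (· - ·) (congrArg₂ (· - ·) (e.map_app _) (e.map_app _)) (e.map_app _)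
  have h3 := congrArg (fun B => (LinearMap.BilinForm.toMatrix' B).det) h1
  simp only [LinearMap.BilinForm.toMatrix'_comp, Matrix.det_mul, Matrix.det_transpose, key,
    Matrix.det_diagonal, Finset.prod_mul_distrib, Finset.prod_ite_eq', Finset.mem_univ, if_true,
    Finset.prod_const_one, Finset.prod_const] at h3
  generalize (LinearMap.toMatrix' e.toLinearEquiv.toLinearMap).det = d at h3
  have h4 : d * α * d = 1 := mul_left_cancel₀ (pow_ne_zero (Finset.univ : Finset (Fin (n + 1))).card h2)
    (by linear_combination h3)
  have hd : d ≠ 0 := by rintro rfl; simp at h4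
  exact hα ⟨d⁻¹, by field_simp; linear_combination h4⟩

end Cfsg.Agent.S0757
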