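import Cfsg.Statements.S0758
import Cfsg.Agent.Lib.Classical.Symm

set_option autoImplicit false
open Cfsg

namespace Cfsg.Agent.S0758
open Cfsg.Agent.Classical


/-- For a finite field F of odd order q and a non-square α: the form x² + y² is isotropic iff q ≡ 1 mod 4, and the form x² + α y² is isotropic iff q ≡ 3 mod 4. -/
theorem result {F : Type*} [Field F] [Fintype F] (h2 : (2 : F) ≠ 0) (α : F) (hα : ¬ IsSquare α) : ((∃ x y : F, (x ≠ 0 ∨ y ≠ 0) ∧ x ^ 2 + y ^ 2 = 0) ↔ Fintype.card F % 4 = 1) ∧ ((∃ x y : F, (x ≠ 0 ∨ y ≠ 0) ∧ x ^ 2 + α * y ^ 2 = 0) ↔ Fintype.card F % 4 = 3) := by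
  have key : ∀ a : F, (∃ x y : F, (x ≠ 0 ∨ y ≠ 0) ∧ x ^ 2 + a * y ^ 2 = 0) ↔ IsSquare (-a) := by
    intro a
    constructor
    · rintro ⟨x, y, h, e⟩
      have hy : y ≠ 0 := by rintro rfl; simp at e h; exact h e
      exact ⟨x / y, by field_simp; linear_combination -e⟩
    · rintro ⟨t, ht⟩
      exact ⟨t, 1, Or.inr one_ne_zero, by linear_combination -ht⟩
  have h3 := odd_of_two_ne_zero h2
  rw [Nat.odd_iff] at h3
  constructor
  · have := key 1
    simp only [one_mul] at this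
    rw [this, FiniteField.isSquare_neg_one_iff]; omega
  · have hα0 : α ≠ 0 := by rintro rfl; simp at hα
    rw [key, ← sqSign_neg_one, show -α = ((-1 * Units.mk0 α hα0 : Fˣ) : F) by simp, ← sqSign_eq_one_iff,
      map_mul, (sqSign_eq_neg_one_iff (x := Units.mk0 α hα0)).2 hα]
    rcases Int.units_eq_one_or (sqSign F (-1)) with h | h <;> simp [h]

end Cfsg.Agent.S0758
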