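import Cfsg.Statements.S0759
import Cfsg.Agent.Lib.Classical.Symm

set_option autoImplicit false
open Cfsg

namespace Cfsg.Agent.S0759
open Cfsg.Agent.Classical


/-- Type of the orthonormal form: over a finite field of odd order q and for m ≥ 1, the quadratic form Σ_(i<2m) x_i² on F^(2m) admits an m-dimensional subspace on which it vanishes identically if and only if it is not the case that q ≡ 3 (mod 4) and m is odd. -/
theorem result {F : Type*} [Field F] [Fintype F] (h2 : (2 : F) ≠ 0) (m : ℕ) (hm : 1 ≤ m) : (∃ W : Submodule F (Fin (2 * m) → F), Module.finrank F W = m ∧ ∀ w ∈ W, ∑ i, w i ^ 2 = 0) ↔ ¬ (Fintype.card F % 4 = 3 ∧ Odd m) := by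
  let B : LinearMap.BilinForm F (Fin (2 * m) → F) := Matrix.toBilin' 1
  have hB : ∀ u v, B u v = ∑ i, u i * v i := fun u v => by
    simp [B, Matrix.toBilin'_apply', dotProduct]
  have hS : B.IsSymm := ⟨fun u v => by simp [hB, mul_comm]⟩
  have hΦ : (Form.ofSymm B hS).Nondeg := fun v hv => by
    ext i
    simpa [hB, h2, Pi.single_apply] using hv (Pi.single i 1)
  have h1 := isType_one_iff hΦ (m := m) (by simp)
  have h3 := Form.isType_one_iff_disc hΦ h2 (m := m) (by simp) (Pi.basisFun F _)
    (fun i j h => by simp [hB, Pi.single_apply, h, h.symm]) (fun i => by simp [hB, Pi.single_apply])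
  have h4 : ∀ w, (Form.ofSymm B hS).N w = ∑ i, w i ^ 2 := fun w => by simp [hB, sq]
  refine Iff.trans ?_ ((h1.symm.trans h3).trans ?_)
  · exact exists_congr fun W => and_congr_right fun _ =>
      ⟨fun h => Form.TS_orth fun w hw => (h4 w).trans (h w hw), fun h w hw => (h4 w).symm.trans (h.1 w hw)⟩
  · rw [Finset.prod_eq_one (fun i _ => Units.ext (by simp [hB, Pi.single_apply])), map_one, mul_one,
      ← sqSign_neg_one]
    rcases Int.units_eq_one_or (sqSign F (-1)) with h | h
    · simp [h]
    · rcases Nat.even_or_odd m with h' | h'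
      · simp [h, h'.neg_one_pow, h']
      · simp [h, h'.neg_one_pow, h']

end Cfsg.Agent.S0759
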