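import Cfsg.Statements.S0760
import Cfsg.Agent.Lib.Classical.Orth2

set_option autoImplicit false
open Cfsg

namespace Cfsg.Agent.S0760
open Cfsg.Agent.Classical


/-- Witt index is well defined: if Q is a quadratic form on a finite-dimensional space V over a finite field with non-degenerate polar form, and W₁, W₂ are subspaces on which Q vanishes that are maximal with this property, then W₁ and W₂ have the same dimension, and twice this dimension is at most dim V. -/
theorem result {F V : Type*} [Field F] [Finite F] [AddCommGroup V] [Module F V] [FiniteDimensional F V] (Q : QuadraticForm F V) (hQ : (QuadraticMap.polarBilin Q).Nondegenerate) (W₁ W₂ : Submodule F V) (h₁ : ∀ w ∈ W₁, Q w = 0) (h₂ : ∀ w ∈ W₂, Q w = 0) (hmax₁ : ∀ W : Submodule F V, W₁ ≤ W → (∀ w ∈ W, Q w = 0) → W = W₁) (hmax₂ : ∀ W : Submodule F V, W₂ ≤ W → (∀ w ∈ W, Q w = 0) → W = W₂) : Module.finrank F W₁ = Module.finrank F W₂ ∧ 2 * Module.finrank F W₁ ≤ Module.finrank F V := by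
  have hΦ := Form.ofQuad_nondeg hQ
  have key : ∀ W₁ W₂ : Submodule F V, (∀ w ∈ W₁, Q w = 0) → (∀ w ∈ W₂, Q w = 0) →
      (∀ W : Submodule F V, W₁ ≤ W → (∀ w ∈ W, Q w = 0) → W = W₁) →
      Module.finrank F W₁ ≤ Module.finrank F W₂ → Module.finrank F W₁ = Module.finrank F W₂ := by
    intro W₁ W₂ h₁ h₂ hmax hle
    have t₂ : (Form.ofQuad Q).TS W₂ := Form.TS_orth h₂
    obtain ⟨g, hg, h⟩ := (Form.TS_orth (Φ := Form.ofQuad Q) h₁).exists_map_le hΦ t₂ hle
    have := hmax (W₂.map (g.symm : V →ₗ[F] V))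
      (fun w hw => ⟨g w, h ⟨w, hw, rfl⟩, by simp⟩) (t₂.map (inv_mem hg)).1
    rw [← this, LinearEquiv.finrank_map_eq]
  refine ⟨?_, (Form.TS_orth (Φ := Form.ofQuad Q) h₁).two_finrank_le hΦ⟩
  rcases le_total (Module.finrank F W₁) (Module.finrank F W₂) with h | h
  · exact key _ _ h₁ h₂ hmax₁ h
  · exact (key _ _ h₂ h₁ hmax₂ h).symm

end Cfsg.Agent.S0760
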