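import Cfsg.Statements.S0761
import Cfsg.Agent.Lib.Classical.Orth2

set_option autoImplicit false
open Cfsg

namespace Cfsg.Agent.S0761
open Cfsg.Agent.Classical


/-- Hyperbolic partners: let B be a non-degenerate bilinear form on a finite-dimensional space, either alternating, or symmetric with 2 ≠ 0. If Z is a subspace on which B vanishes, x ∉ Z is isotropic and orthogonal to Z, then there is an isotropic y with B x y = 1 which is orthogonal to Z. -/
theorem result {F V : Type*} [Field F] [AddCommGroup V] [Module F V] [FiniteDimensional F V] (B : LinearMap.BilinForm F V) (hB : B.Nondegenerate) (hform : B.IsAlt ∨ (B.IsSymm ∧ (2 : F) ≠ 0)) (x : V) (Z : Submodule F V) (hxZ : x ∉ Z) (hx : B x x = 0) (hxz : ∀ z ∈ Z, B x z = 0) (hZ : ∀ z ∈ Z, ∀ z' ∈ Z, B z z' = 0) : ∃ y : V, B y y = 0 ∧ B x y = 1 ∧ ∀ z ∈ Z, B z y = 0 := by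
  rcases hform with hA | ⟨hS, h2⟩
  · obtain ⟨z, h1, h2⟩ := Form.Nondeg.exists_perp_one (Φ := Form.ofAlt B hA) hB.2 hxZ
    exact ⟨z, hA z, h2, h1⟩
  · let Φ : Form (Kind.orth F) V := Form.ofQuadFun (fun v => B v v / 2) B
      (fun u v => by simp [hS.eq v u]; field_simp; ring) (fun c v => by simp; ring)
    obtain ⟨z, h1, h3⟩ := Form.Nondeg.exists_perp_one (Φ := Φ) hB.2 hxZ
    obtain ⟨a, ha⟩ := Φ.exists_hyp_of (e := x) (show B x x / 2 = 0 by simp [hx]) h3
    refine ⟨_, ha.Bff, ha.hef, fun y hy => ?_⟩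
    have h4 : B y z = 0 := h1 y hy
    simp [h4, hS.eq y x, hxz y hy]

end Cfsg.Agent.S0761
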