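import Cfsg.Statements.S0763
import Cfsg.Agent.Lib.Classical.Orth2

set_option autoImplicit false
open Cfsg

namespace Cfsg.Agent.S0763
open Cfsg.Agent.Classical


/-- Binary quadratic forms in characteristic two over a finite field: if Q is a quadratic form on a 2-dimensional space whose polar form is non-degenerate, then either there are vectors v, w with Q v = Q w = 0 and polar value 1 (Q is xy in these coordinates), or there are v, w and μ with Q v = 1, Q w = μ, polar value 1 and x² + x + μ without roots in F (Q is x² + xy + μy²). -/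
theorem result {F V : Type*} [Field F] [Finite F] [CharP F 2] [AddCommGroup V] [Module F V] (Q : QuadraticForm F V) (h2 : Module.finrank F V = 2) (hQ : (QuadraticMap.polarBilin Q).Nondegenerate) : (∃ v w : V, LinearIndependent F ![v, w] ∧ Q v = 0 ∧ Q w = 0 ∧ QuadraticMap.polar Q v w = 1) ∨ (∃ (v w : V) (μ : F), LinearIndependent F ![v, w] ∧ (∀ x : F, x ^ 2 + x + μ ≠ 0) ∧ Q v = 1 ∧ Q w = μ ∧ QuadraticMap.polar Q v w = 1) := by
  have : FiniteDimensional F V := Module.finite_of_finrank_pos (by omega)
  have hΦ := Form.ofQuad_nondeg hQ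
  rcases hyp_or_aniso hΦ with ⟨e, f, h⟩ | hA
  · exact Or.inl ⟨e, f, h.linearIndependent, h.he, h.hf, h.hef⟩
  · right
    obtain ⟨v, hv⟩ := orth_represents hΦ h2.ge 1
    have hv0 : v ≠ 0 := by rintro rfl; simp at hv
    obtain ⟨w, -, hw⟩ := hΦ.exists_perp_one (U := ⊥) (u := v) (by simpa)
    have h0 : (2 : F) = 0 := CharTwo.two_eq_zero
    have hli : LinearIndependent F ![v, w] := by
      rw [LinearIndependent.pair_iff]
      intro s t hst
      have h1 := congrArg ((Form.ofQuad Q).B v) hst
      rw [map_add, Form.orth_B_smul, Form.orth_B_smul, Form.orth_B_self, h0, hw] at h1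
      have ht : t = 0 := by simpa using h1
      subst ht
      simpa [hv0] using hst
    refine ⟨v, w, Q w, hli, fun x hx => ?_, hv, rfl, hw⟩
    have := hA (x • v + (1 : F) • w) (by
      rw [Form.orth_N_comb, hv, hw, Form.ofQuad_N]; linear_combination hx)
    exact one_ne_zero (LinearIndependent.pair_iff.1 hli _ _ this).2

end Cfsg.Agent.S0763
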