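import Cfsg.Statements.S0767
import Cfsg.Agent.Lib.Classical.Bridge

set_option autoImplicit false
open Cfsg

namespace Cfsg.Agent.S0767
open Cfsg.Agent.Classical


/-- The root group of a point: T_v(c) T_v(d) = T_v(c + d), and for A in the symplectic group with A v = a v, the conjugate A T_v(c) A⁻¹ is again some T_v(d). -/
theorem result {F : Type*} [Field F] (m : ℕ) (v : Fin m ⊕ Fin m → F) : (∀ c d : F, Cfsg.sympTransvection m v c * Cfsg.sympTransvection m v d = Cfsg.sympTransvection m v (c + d)) ∧ ∀ (A : Matrix (Fin m ⊕ Fin m) (Fin m ⊕ Fin m) F) (a : F), A ∈ Matrix.symplecticGroup (Fin m) F → A.mulVec v = a • v → ∀ c : F, ∃ d : F, A * Cfsg.sympTransvection m v c * A⁻¹ = Cfsg.sympTransvection m v d := by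
  have h0 : Cfsg.sympForm m F v v = 0 := (spForm m F).B_self_of_N rfl
  refine ⟨fun c d => matrix_ext_mulVec fun x => ?_, fun A a hA hv c => ⟨c * a * a, ?_⟩⟩
  · rw [← Matrix.mulVec_mulVec]
    simp only [sympTransvection_mulVec, ← spForm_B, map_add, LinearMap.add_apply, Form.B_smul_left] at h0 ⊢
    rw [h0]; module
  · have hu : IsUnit A.det := SymplecticGroup.symplectic_det hA
    have : A * Cfsg.sympTransvection m v c = Cfsg.sympTransvection m v (c * a * a) * A := by
      refine matrix_ext_mulVec fun x => ?_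
      have h1 := (mem_symplecticGroup_iff_form m).1 hA x v
      rw [← Matrix.mulVec_mulVec, ← Matrix.mulVec_mulVec]
      simp only [sympTransvection_mulVec, Matrix.mulVec_add, Matrix.mulVec_smul, hv, ← spForm_B,
        Form.B_smul_right, Kind.symp_σ] at h1 ⊢
      rw [← h1]; module
    rw [this, Matrix.mul_nonsing_inv_cancel_right _ _ hu]

end Cfsg.Agent.S0767
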