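import Cfsg.Statements.S0768
import Cfsg.Agent.Lib.Classical.SpUE

set_option autoImplicit false
open scoped LinearAlgebra.Projectivization
open Cfsg

namespace Cfsg.Agent.S0768
open Cfsg.Agent.Classical


/-- Primitivity: for m ≥ 1 and F finite, the symplectic group of the form sympForm (as a subgroup of the general linear group) acts primitively on the projective space of F^(2m). -/
theorem result {F : Type*} [Field F] [Finite F] (m : ℕ) (hm : 1 ≤ m) : MulAction.IsPreprimitive ↥(Cfsg.spGL m F) (ℙ F (Fin m ⊕ Fin m → F)) := by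
  let Φ := spForm m F
  have hΦ : Φ.Nondeg := spForm_nondeg m
  have hs : ∀ v : Fin m ⊕ Fin m → F, v ≠ 0 → Φ.Sing v := fun v hv => ⟨hv, Φ.symp_N v⟩
  have lift : ∀ g ∈ Φ.Isom, ∃ x : Cfsg.spGL m F, ∀ v hv hv', x • Projectivization.mk F v hv =
      Projectivization.mk F (g v) hv' := fun g hg =>
    ⟨⟨glEquiv.symm g, (mem_spGL_iff m).2 (by simpa using hg)⟩, fun v hv hv' => by
      simp only [← glEquiv_symm_mulVec g v]; rfl⟩
  have ht : MulAction.IsPretransitive (Cfsg.spGL m F) (ℙ F (Fin m ⊕ Fin m → F)) := ⟨fun x y => by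
    induction x using Projectivization.ind with | h u hu => ?_
    induction y using Projectivization.ind with | h v hv => ?_
    obtain ⟨g, hg, h⟩ := hΦ.exists_isom_vec hu hv (by rw [Φ.symp_N, Φ.symp_N])
    obtain ⟨x, hx⟩ := lift g hg
    exact ⟨x, by rw [hx u hu (h ▸ hv)]; simp only [h]⟩⟩
  refine ⟨fun {B} hB => ?_⟩
  by_cases h1 : B.Subsingleton
  · exact Or.inl h1
  right
  obtain ⟨x, hx, y, hy, hxy⟩ := Set.not_subsingleton_iff.1 h1
  induction x using Projectivization.ind with | h u hu => ?_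
  induction y using Projectivization.ind with | h v hv => ?_
  have key := (Form.symp_rich Φ).prim hΦ (fun a b => ∃ (ha : a ≠ 0) (hb : b ≠ 0) (g : Cfsg.spGL m F),
      g • Projectivization.mk F a ha ∈ B ∧ g • Projectivization.mk F b hb ∈ B)
    (fun a b ⟨ha, hb, g, h1, h2⟩ => ⟨hb, ha, g, h2, h1⟩)
    (fun a b c ⟨ha, hb, g, h1, h2⟩ ⟨_, hc, g', h3, h4⟩ => ⟨ha, hc, g, h1, by
      have h5 := hB.smul_eq_of_mem (g := g * g'⁻¹) h3 (by simpa [mul_smul] using h2)
      have := h5 ▸ Set.smul_mem_smul_set (a := g * g'⁻¹) h4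
      simpa [mul_smul] using this⟩)
    (fun a c ha hc => by
      obtain ⟨g, hg⟩ := ht.exists_smul_eq (Projectivization.mk F a ha.1) (Projectivization.mk F u hu)
      refine ⟨ha.1, (ha.smul hc).1, g, hg ▸ hx, ?_⟩
      rw [(Projectivization.mk_eq_mk_iff' F _ a _ ha.1).2 ⟨c, rfl⟩, hg]; exact hx)
    (fun g hg a b ⟨ha, hb, k, h1, h2⟩ => by
      obtain ⟨x, hx⟩ := lift g (Φ.E_le hg)
      refine ⟨by simpa using ha, by simpa using hb, k * x⁻¹, ?_, ?_⟩
      · rw [← hx a ha]; simpa [mul_smul] using h1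
      · rw [← hx b hb]; simpa [mul_smul] using h2)
    (hs u hu) (hs v hv) ⟨hu, hv, 1, by simpa using hx, by simpa using hy⟩ (fun h => by
      obtain ⟨c, rfl⟩ := Submodule.mem_span_singleton.1 h
      exact hxy ((Projectivization.mk_eq_mk_iff' F _ u _ hu).2 ⟨c, rfl⟩).symm)
  rw [Set.eq_univ_iff_forall]
  intro z
  induction z using Projectivization.ind with | h w hw => ?_
  obtain ⟨_, _, g, h1, h2⟩ := key u w (hs u hu) (hs w hw)
  have h3 := hB.smul_eq_of_mem hx h1
  rw [← h3] at h2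
  simpa using h2

end Cfsg.Agent.S0768
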