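import Cfsg.Statements.S0770
import Mathlib

set_option autoImplicit false
open Cfsg

namespace Cfsg.Agent.S0770


/-- For a field with at least 3 elements, an invertible matrix normalises the subgroup of invertible diagonal matrices of GL_n if and only if it is monomial (exactly one non-zero entry in each row). -/
theorem result {F : Type*} [Field F] (hF : ∃ a : F, a ≠ 0 ∧ a ≠ 1) (n : ℕ) (g : Matrix.GeneralLinearGroup (Fin n) F) : g ∈ Subgroup.normalizer ((Units.map (Matrix.diagonalRingHom (Fin n) F).toMonoidHom).range : Subgroup (Matrix.GeneralLinearGroup (Fin n) F)) ↔ ∀ i : Fin n, ∃! j : Fin n, (g : Matrix (Fin n) (Fin n) F) i j ≠ 0 := by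
  classical
  obtain ⟨a, a0, a1⟩ := hF
  have k : ∀ x : GL (Fin n) F, x ∈ (Units.map (Matrix.diagonalRingHom (Fin n) F).toMonoidHom).range ↔
      ∃ d : Fin n → Fˣ, x.1 = Matrix.diagonal fun i => (d i).1 := fun x =>
    ⟨by rintro ⟨d, rfl⟩; exact ⟨MulEquiv.piUnits d, rfl⟩, fun ⟨d, h⟩ => ⟨MulEquiv.piUnits.symm d, Units.ext h.symm⟩⟩
  have r : ∀ i, ∃ j, g.1 i j ≠ 0 := fun i => by
    by_contra h
    push Not at h
    exact g.det_ne_zero (Matrix.det_eq_zero_of_row_eq_zero i h)
  refine ⟨fun h i => ?_, fun h => ?_⟩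
  · obtain ⟨j, hj⟩ := r i
    refine ⟨j, hj, fun l hl => by_contra fun e => ?_⟩
    obtain ⟨d, hd⟩ := (k _).1 ((h (Units.map (Matrix.diagonalRingHom (Fin n) F).toMonoidHom
      (MulEquiv.piUnits.symm (Function.update 1 j (Units.mk0 a a0))))).1 ⟨_, rfl⟩)
    rw [Units.val_mul, Units.mul_inv_eq_iff_eq_mul, Units.val_mul] at hd
    have p := congrFun (congrFun hd i) j
    have q := congrFun (congrFun hd i) l
    simp [MulEquiv.piUnits, e] at p q
    grind
  choose σ s1 s2 using h
  have s3 : Function.Surjective σ := fun j => by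
    by_contra h
    exact g.det_ne_zero (Matrix.det_eq_zero_of_column_eq_zero j fun i => by_contra fun e => h ⟨i, (s2 i j e).symm⟩)
  have k1 : ∀ d : Fin n → Fˣ, g.1 * Matrix.diagonal (fun i => (d i).1) =
      Matrix.diagonal (fun i => (d (σ i)).1) * g.1 := fun d => by
    ext i j
    by_cases e : g.1 i j = 0
    · simp [e]
    · simp [← s2 i j e, mul_comm]
  refine fun x => ⟨fun hx => ?_, fun hx => ?_⟩
  · obtain ⟨d, hd⟩ := (k _).1 hx
    exact (k _).2 ⟨d ∘ σ, by rw [Units.val_mul, Units.mul_inv_eq_iff_eq_mul, Units.val_mul, hd, k1]; rfl⟩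
  · obtain ⟨d, hd⟩ := (k _).1 hx
    rw [Units.val_mul, Units.mul_inv_eq_iff_eq_mul, Units.val_mul] at hd
    refine (k _).2 ⟨d ∘ Function.surjInv s3, (Units.mul_right_inj g).1 ?_⟩
    rw [hd, k1]
    simp [Function.leftInverse_surjInv (Finite.surjective_iff_bijective.1 s3) _]

end Cfsg.Agent.S0770
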