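import Cfsg.Statements.S0772
import Cfsg.Agent.Lib.Classical.Max6
import Cfsg.Agent.Lib.Classical.Cnt2

set_option autoImplicit false
open Cfsg

namespace Cfsg.Agent.S0772
open Cfsg.Agent.Classical


/-- Maximal parabolics are maximal: over a finite field, for 0 < k < n the stabiliser in GL_n of the span of the first k coordinate vectors is a maximal proper subgroup. -/
theorem result {F : Type*} [Field F] [Finite F] (n k : ℕ) (hk0 : 0 < k) (hkn : k < n) : IsCoatom (Cfsg.stabilizing (Cfsg.glToMat (Fin n) F) {v : Fin n → F | ∀ i : Fin n, k ≤ (i : ℕ) → v i = 0}) := by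
  haveI : Nontrivial (Fin n) := Fin.nontrivial_iff_two_le.2 (by omega)
  let W := coS F fun i : Fin n => k ≤ i.1
  have hW : ∀ g, g ∈ Cfsg.stabilizing (Cfsg.glToMat (Fin n) F) {v : Fin n → F | ∀ i : Fin n, k ≤ (i : ℕ) → v i = 0} ↔
    glEquiv g ∈ stab W := fun _ => Iff.rfl
  refine ⟨fun h => ?_, fun H h => eq_top_iff.2 fun x _ => ?_⟩
  · have := ((hW (Matrix.SpecialLinearGroup.toGL (Matrix.SpecialLinearGroup.transvection
      (i := ⟨k, hkn⟩) (j := ⟨0, by omega⟩) (by simp; omega) 1))).1 (h.ge trivial) (Pi.single ⟨0, by omega⟩ 1)).1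
      (fun i hi => Pi.single_eq_of_ne (by rintro rfl; simp at hi; omega) _) ⟨k, hkn⟩ le_rfl
    simp [Matrix.SpecialLinearGroup.transvection_coe, Matrix.one_apply, hk0.ne'] at this
  obtain ⟨g, hg, hg'⟩ := SetLike.exists_of_lt h
  have k1 := Asch.SL_le_of_fullT (fullT_of_stab (H := Asch.mp H) (W := W) (fun g a _ => by
    obtain ⟨g, rfl⟩ := glEquiv.surjective g
    exact Asch.mem_mp.2 (h.le a)) (Asch.mem_mp.2 hg) hg')
  let d := Matrix.GeneralLinearGroup.mkOfDetNeZero (Matrix.diagonal (Function.update 1 (⟨k, hkn⟩ : Fin n) (x.det : F)))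
    (by simpa [Finset.prod_update_of_mem] using x.det.ne_zero)
  have d1 : d ∈ H := h.le (stab_of_le (g := glEquiv d) (U := W) fun v hv i hi => by
    simp [d, Matrix.mulVec_diagonal, hv i hi])
  have : x * d⁻¹ ∈ H := Asch.mem_mp.1 (k1 (Asch.mem_mp.2 (by
    rw [Geo.specialLinear, MonoidHom.mem_ker, map_mul, map_inv, mul_inv_eq_one]
    ext; simp [d, Finset.prod_update_of_mem])))
  simpa using H.mul_mem this d1

end Cfsg.Agent.S0772
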