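import Cfsg.Statements.S0773
import Cfsg.Agent.Lib.Classical.Cnt2

set_option autoImplicit false
open Cfsg

namespace Cfsg.Agent.S0773
open Cfsg.Agent.Classical

theorem le_of_stab {F V : Type*} [Field F] [AddCommGroup V] [Module F V] {U W : Submodule F V}
    (h : stab W ≤ stab U) (hU : U ≠ ⊤) : U ≤ W := fun u hu => by
  by_contra hw
  obtain ⟨f, h1, h2⟩ := Submodule.exists_le_ker_of_notMem hw
  have key : ∀ w, f w = 0 → w ∈ U := fun w hw => by
    have := (h (x := LinearEquiv.transvection hw) (fun v => ?_) u).1 hu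
    · rwa [LinearEquiv.transvection.apply, U.add_mem_iff_right hu, U.smul_mem_iff h1] at this
    refine ⟨fun hv => by simpa [LinearMap.transvection.apply, show f v = 0 from h2 hv], fun hv => ?_⟩
    have : f v = 0 := by simpa [LinearMap.transvection.apply, hw] using h2 hv
    simpa [LinearMap.transvection.apply, this] using hv
  refine hU (eq_top_iff.2 fun x _ => ?_)
  simpa using U.add_mem (key (x - (f x / f u) • u) (by simp [h1])) (U.smul_mem (f x / f u) hu)

open Matrix in
/-- inverse transpose with reversal -/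
def phi (F : Type*) [Field F] (n : ℕ) : GL (Fin n) F →* GL (Fin n) F where
  toFun g := ⟨(g⁻¹).1ᵀ.submatrix Fin.revPerm Fin.revPerm, g.1ᵀ.submatrix Fin.revPerm Fin.revPerm,
    by rw [submatrix_mul_equiv, ← transpose_mul, Units.mul_inv]; simp,
    by rw [submatrix_mul_equiv, ← transpose_mul, Units.inv_mul]; simp⟩
  map_one' := Units.ext (by simp)
  map_mul' a b := Units.ext (by simp only [Units.val_mul, submatrix_mul_equiv, _root_.mul_inv_rev, transpose_mul])

theorem mem_iff {F : Type*} [Field F] {n k : ℕ} {g : GL (Fin n) F} :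
    g ∈ Cfsg.stabilizing (Cfsg.glToMat (Fin n) F) {v : Fin n → F | ∀ i : Fin n, k ≤ (i : ℕ) → v i = 0} ↔
      ∀ i j : Fin n, k ≤ i.1 → j.1 < k → g.1 i j = 0 := by
  refine ⟨fun h i j hi hj => by
    simpa using (h (Pi.single j 1)).1 (fun i hi => Pi.single_eq_of_ne (by rintro rfl; omega) _) i hi,
    fun h => stab_of_le (g := glEquiv g) (U := coS F fun i : Fin n => k ≤ i.1) fun v hv i hi => ?_⟩
  show ∑ j, g.1 i j * v j = 0
  refine Finset.sum_eq_zero fun j _ => ?_
  rcases lt_or_ge j.1 k with hj | hj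
  · simp [h i j hi hj]
  · simp [hv j hj]

theorem phi_mem {F : Type*} [Field F] {n k l : ℕ} (hl : k + l = n) {g : GL (Fin n) F}
    (h : g ∈ Cfsg.stabilizing (Cfsg.glToMat (Fin n) F) {v : Fin n → F | ∀ i : Fin n, k ≤ (i : ℕ) → v i = 0}) :
    phi F n g ∈ Cfsg.stabilizing (Cfsg.glToMat (Fin n) F) {v : Fin n → F | ∀ i : Fin n, l ≤ (i : ℕ) → v i = 0} :=
  mem_iff.2 fun i j hi hj => mem_iff.1 (inv_mem h) j.rev i.rev (by simp; omega) (by simp; omega)


/-- The stabilisers in GL_n(F), F finite, of the coordinate subspaces of dimensions k and n − k are isomorphic groups, but when 2k ≠ n (and 0 < k < n) no element of GL_n conjugates one onto the other. -/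
theorem result {F : Type*} [Field F] [Finite F] (n k : ℕ) (hk0 : 0 < k) (hkn : k < n) (h2 : 2 * k ≠ n) : Nonempty (↥(Cfsg.stabilizing (Cfsg.glToMat (Fin n) F) {v : Fin n → F | ∀ i : Fin n, k ≤ (i : ℕ) → v i = 0}) ≃* ↥(Cfsg.stabilizing (Cfsg.glToMat (Fin n) F) {v : Fin n → F | ∀ i : Fin n, n - k ≤ (i : ℕ) → v i = 0})) ∧ ∀ g : Matrix.GeneralLinearGroup (Fin n) F, (Cfsg.stabilizing (Cfsg.glToMat (Fin n) F) {v : Fin n → F | ∀ i : Fin n, k ≤ (i : ℕ) → v i = 0}).map (MulAut.conj g).toMonoidHom ≠ Cfsg.stabilizing (Cfsg.glToMat (Fin n) F) {v : Fin n → F | ∀ i : Fin n, n - k ≤ (i : ℕ) → v i = 0} := by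
  have hp : ∀ g, phi F n (phi F n g) = g := fun g => Units.ext (by ext i j; show g.1 i.rev.rev j.rev.rev = _; simp)
  refine ⟨⟨⟨⟨fun g => ⟨_, phi_mem (by omega) g.2⟩, fun g => ⟨_, phi_mem (by omega) g.2⟩, fun _ => Subtype.ext (hp _),
    fun _ => Subtype.ext (hp _)⟩, fun a b => Subtype.ext (map_mul (phi F n) a.1 b.1)⟩⟩, fun g h => ?_⟩
  have e : stab ((coS F fun i : Fin n => k ≤ i.1).map (glEquiv g : _ →ₗ[F] _)) =
      stab (coS F fun i : Fin n => n - k ≤ i.1) := by
    ext x
    obtain ⟨x, rfl⟩ := glEquiv.surjective x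
    refine Iff.trans ?_ (SetLike.ext_iff.1 h x)
    rw [Subgroup.mem_map_equiv]
    simp only [mem_stab, Submodule.mem_map_equiv]
    refine (glEquiv g).surjective.forall.trans (forall_congr' fun v => ?_)
    rw [LinearEquiv.symm_apply_apply, ← LinearEquiv.coe_inv, ← map_inv]
    simp only [glEquiv_apply, Matrix.mulVec_mulVec, ← mul_assoc]; rfl
  have d1 := (LinearEquiv.finrank_map_eq (glEquiv g) _).trans (finrank_coS_le (F := F) hkn.le)
  have d2 := finrank_coS_le (F := F) (Nat.sub_le n k)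
  have := le_antisymm (le_of_stab e.ge fun h => by rw [h] at d1; simp at d1; omega)
    (le_of_stab e.le fun h => by rw [h] at d2; simp at d2; omega)
  rw [this] at d1; omega

end Cfsg.Agent.S0773
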