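import Cfsg.Statements.S0774
import Cfsg.Agent.Lib.Classical.Cnt2

set_option autoImplicit false
open Cfsg

namespace Cfsg.Agent.S0774
open Cfsg.Agent.Classical

theorem exists_res {F U V : Type*} [Field F] [AddCommGroup U] [Module F U] [AddCommGroup V] [Module F V]
    [FiniteDimensional F V] {j : U →ₗ[F] V} (hj : Function.Injective j) {g : V ≃ₗ[F] V}
    (h : ∀ x, g (j x) ∈ j.range) : ∃ s : U ≃ₗ[F] U, ∀ x, g (j x) = j (s x) :=
  ⟨LinearEquiv.ofInjective j hj ≪≫ₗ res g j.range (stab_of_le (by rintro _ ⟨x, rfl⟩; exact h x)) ≪≫ₗ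
    (LinearEquiv.ofInjective j hj).symm, fun x => by simp⟩


/-- Borel subgroup of the symplectic group: the elements of Sp_2m(q) stabilising each of the totally isotropic coordinate subspaces ⟨e_0, ..., e_k⟩ (k < m) form a subgroup of order q^(m²) (q − 1)^m. -/
theorem result {F : Type*} [Field F] [Fintype F] {q : ℕ} (hF : Fintype.card F = q) (m : ℕ) : Nat.card ↥(⨅ k : Fin m, Cfsg.stabilizing (Cfsg.spToMat m F) {v : Fin m ⊕ Fin m → F | (∀ i : Fin m, (k : ℕ) < (i : ℕ) → v (Sum.inl i) = 0) ∧ ∀ i : Fin m, v (Sum.inr i) = 0}) = q ^ (m ^ 2) * (q - 1) ^ m := by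
  let j : (Fin m → F) →ₗ[F] (Fin m ⊕ Fin m → F) :=
    { toFun := fun x => Sum.elim x 0
      map_add' := fun _ _ => by ext (i | i) <;> simp
      map_smul' := fun _ _ => by ext (i | i) <;> simp }
  have hj : Function.Injective j := fun x y h => funext fun i => congrFun h (.inl i)
  have hT : (spForm m F).TS j.range := ⟨fun _ _ => rfl, by
    rintro _ ⟨x, rfl⟩ _ ⟨y, rfl⟩; simp [spForm_B, sympForm_eq, j]⟩
  have k : ∀ (k : Fin m) v, v ∈ (coS F fun i : Fin m => k < i).map j ↔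
      (∀ i : Fin m, (k : ℕ) < (i : ℕ) → v (Sum.inl i) = 0) ∧ ∀ i : Fin m, v (Sum.inr i) = 0 := fun k v =>
    ⟨by rintro ⟨x, h, rfl⟩; exact ⟨h, fun _ => rfl⟩, fun h => ⟨v ∘ .inl, h.1, by ext (i | i) <;> simp [j, h.2]⟩⟩
  have k1 : Nat.card (⨅ k : Fin m, stab (coS F fun i : Fin m => k < i) : Subgroup _) =
      q ^ m.choose 2 * (q - 1) ^ m := by
    have := card_tri (F := F) (ι := Fin m)
    rw [Fintype.card_fin, hF] at this
    rw [← this]
    refine (Nat.card_congr (glEquiv.toEquiv.subtypeEquiv fun g => ?_)).symm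
    simp only [Subgroup.mem_iInf]
    refine ⟨fun h k => stab_of_le fun v hv i hi => ?_, fun h i l hl => ?_⟩
    · show ∑ l, g.1 i l * v l = 0
      refine Finset.sum_eq_zero fun l _ => ?_
      rcases lt_or_ge k l with a | a
      · rw [hv l a, mul_zero]
      · rw [h i l (a.trans_lt hi), zero_mul]
    · simpa using (h l (Pi.single l 1)).1 (fun i hi => by simp [hi.ne']) i hl
  have k2 : ∀ g, g ∈ (spForm m F).Isom ⊓ (⨅ k : Fin m, stab ((coS F fun i : Fin m => k < i).map j)) ↔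
      g ∈ (spForm m F).Isom ∧ ∃ s ∈ (⨅ k : Fin m, stab (coS F fun i : Fin m => k < i) : Subgroup _),
        ∀ x, g (j x) = j (s x) := fun g => by
    refine and_congr_right fun _ => ⟨fun h => ?_, fun ⟨s, a, b⟩ => ?_⟩
    · replace h := Subgroup.mem_iInf.1 h
      obtain ⟨s, hs⟩ := exists_res hj (g := g) fun x => by
        rw [pi_eq_sum_univ' x, map_sum, map_sum]
        exact sum_mem fun i _ => by
          rw [map_smul, map_smul]
          exact Submodule.smul_mem _ _ (LinearMap.map_le_range ((h i _).1 ⟨_, fun l hl => by simp [hl.ne'], rfl⟩))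
      refine ⟨s, Subgroup.mem_iInf.2 fun i => stab_of_le fun v hv => ?_, hs⟩
      obtain ⟨y, a, b⟩ := (h i _).1 ⟨v, hv, rfl⟩
      rwa [← hj (b.trans (hs v))]
    · refine Subgroup.mem_iInf.2 fun i => stab_of_le ?_
      rintro _ ⟨x, c, rfl⟩
      exact ⟨_, (Subgroup.mem_iInf.1 a i x).1 c, (b x).symm⟩
  rw [card_congr_sub (spEquiv m F) (T := ⨅ k : Fin m, stab ((coS F fun i : Fin m => k < i).map j)) fun g => by
      simp only [Subgroup.mem_iInf, mem_stab, k]; exact Iff.rfl,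
    card_ext hj (fun s => (spForm_nondeg m).witt_maps j (j ∘ₗ s) hj (hj.comp s.injective)
        (fun x y => (hT.2 _ ⟨_, rfl⟩ _ ⟨_, rfl⟩).trans (hT.2 _ ⟨_, rfl⟩ _ ⟨_, rfl⟩).symm) fun _ => rfl) k2,
    Form.card_fix_TS (d := 2 * 0) (card_symp 0) m _ _ (spForm_nondeg m) hT (by simp [LinearMap.finrank_range_of_inj hj])
      (by simp; omega), k1, card_symp_ker, Nat.card_eq_fintype_card, hF]
  have := Nat.cast_choose_two ℚ m
  rw [show m ^ 2 = m.choose 2 + m + m.choose 2 by qify; rw [this]; ring]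
  simp; ring

end Cfsg.Agent.S0774
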