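import Cfsg.Statements.S0777
import Mathlib

set_option autoImplicit false
open Cfsg

namespace Cfsg.Agent.S0777

open Matrix
variable {F : Type*} [Field F] {m : ℕ}

/-- monomial matrix -/
def mono (τ : Fin m ⊕ Fin m → Fin m ⊕ Fin m) (c : Fin m ⊕ Fin m → F) : Matrix (Fin m ⊕ Fin m) (Fin m ⊕ Fin m) F :=
  of fun i j => if i = τ j then c j else 0

theorem mono_mem {τ : Fin m ⊕ Fin m → Fin m ⊕ Fin m} {c : Fin m ⊕ Fin m → F} :
    mono τ c ∈ symplecticGroup (Fin m) F ↔ ∀ i j, c i * J (Fin m) F (τ i) (τ j) * c j = J (Fin m) F i j := by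
  rw [SymplecticGroup.mem_iff', ← ext_iff]
  simp [mono, mul_apply, -Fintype.sum_sum_type]

theorem J_ne {i j : Fin m ⊕ Fin m} : J (Fin m) F i j ≠ 0 ↔ j = i.swap := by
  rcases i with i | i <;> rcases j with j | j <;> simp [J, one_apply, eq_comm]

theorem mem_T {t : symplecticGroup (Fin m) F} : t ∈ (⨅ i : Fin m ⊕ Fin m, Cfsg.stabilizing (Cfsg.spToMat m F) ((Submodule.span F {(Pi.single i (1 : F) : Fin m ⊕ Fin m → F)} : Submodule F (Fin m ⊕ Fin m → F)) : Set (Fin m ⊕ Fin m → F)) : Set (symplecticGroup (Fin m) F)) ↔ ∃ d, t.1 = diagonal d := by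
  have k : ∀ (i : Fin m ⊕ Fin m) (v : Fin m ⊕ Fin m → F), v ∈ Submodule.span F {(Pi.single i (1 : F) : Fin m ⊕ Fin m → F)} ↔
      ∀ j, j ≠ i → v j = 0 := fun i v => by
    rw [Submodule.mem_span_singleton]
    exact ⟨by rintro ⟨a, rfl⟩ j hj; simp [hj], fun h => ⟨v i, funext fun j => by by_cases e : j = i <;> simp [e, h]⟩⟩
  rw [Set.iInf_eq_iInter, Set.mem_iInter]
  refine ⟨fun h => ⟨t.1.diag, ext fun i j => ?_⟩, fun ⟨d, h⟩ i v => ?_⟩
  · by_cases e : i = j
    · simp [e]
    · simpa [e] using (k _ _).1 ((h j _).1 (Submodule.mem_span_singleton_self _)) i e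
  · have := (SymplecticGroup.symplectic_det t.2).ne_zero
    rw [h, det_diagonal, Finset.prod_ne_zero_iff] at this
    show v ∈ Submodule.span F _ ↔ t.1 *ᵥ v ∈ Submodule.span F _
    simp [k, h, mulVec_diagonal, this]


/-- Weyl group of type C_m: for q ≥ 4 the diagonal matrices of Sp_2m(q) form a torus T ≅ (C_(q−1))^m (the elements stabilising every coordinate axis), and the normaliser of T in Sp_2m(q) has order 2^m · m! · (q − 1)^m. -/
theorem result {F : Type*} [Field F] [Fintype F] {q : ℕ} (hF : Fintype.card F = q) (hq : 4 ≤ q) (m : ℕ) : Nat.card ↥(Subgroup.normalizer (⨅ i : Fin m ⊕ Fin m, Cfsg.stabilizing (Cfsg.spToMat m F) ((Submodule.span F {(Pi.single i (1 : F) : Fin m ⊕ Fin m → F)} : Submodule F (Fin m ⊕ Fin m → F)) : Set (Fin m ⊕ Fin m → F)) : Set (Matrix.symplecticGroup (Fin m) F))) = 2 ^ m * Nat.factorial m * (q - 1) ^ m := by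
  classical
  obtain ⟨a, ha⟩ : ∃ a : F, a ∉ ({0, 1, -1} : Finset F) := by
    by_contra h
    push Not at h
    have := (Finset.card_le_card (fun a _ => h a : Finset.univ ⊆ _)).trans Finset.card_le_three
    simp at this; omega
  simp only [Finset.mem_insert, Finset.mem_singleton, not_or] at ha
  let τ : Equiv.Perm (Fin m) → (Fin m → Bool) → Fin m ⊕ Fin m → Fin m ⊕ Fin m := fun π b =>
    Sum.elim (fun x => if b x then .inl (π x) else .inr (π x)) (fun x => if b x then .inr (π x) else .inl (π x))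
  let c : (Fin m → Bool) → (Fin m → Fˣ) → Fin m ⊕ Fin m → F := fun b c =>
    Sum.elim (fun x => c x) (fun x => if b x then (c x)⁻¹ else -(c x)⁻¹)
  have h1 : ∀ π b d, mono (τ π b) (c b d) ∈ symplecticGroup (Fin m) F := fun π b d => mono_mem.2 fun i j => by
    rcases i with i | i <;> rcases j with j | j <;> by_cases e : i = j <;> cases hi : b i <;> cases hj : b j <;>
      simp_all [τ, c, J, one_apply]
  have h2 : ∀ π b, Function.Surjective (τ π b) := fun π b i => by
    rcases i with i | i <;> obtain ⟨i, rfl⟩ := π.surjective i <;> cases hi : b i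
    exacts [⟨.inr i, by simp [τ, hi]⟩, ⟨.inl i, by simp [τ, hi]⟩, ⟨.inl i, by simp [τ, hi]⟩, ⟨.inr i, by simp [τ, hi]⟩]
  have h3 : ∀ (x : (Fin m → Bool) × Equiv.Perm (Fin m) × (Fin m → Fˣ)) (t : symplecticGroup (Fin m) F), (∃ d, t.1 = diagonal d) →
      ∃ d, ((⟨_, h1 x.2.1 x.1 x.2.2⟩ : symplecticGroup _ _) * t * (⟨_, h1 x.2.1 x.1 x.2.2⟩ : symplecticGroup _ _)⁻¹).1 = diagonal d := by
    rintro x t ⟨d, hd⟩
    refine ⟨d ∘ Function.surjInv (h2 x.2.1 x.1), ?_⟩
    have : mono (τ x.2.1 x.1) (c x.1 x.2.2) * t.1 = diagonal (d ∘ Function.surjInv (h2 x.2.1 x.1)) * mono (τ x.2.1 x.1) (c x.1 x.2.2) := by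
      ext i j
      by_cases e : i = τ x.2.1 x.1 j <;> simp [hd, mono, e, mul_comm,
        Function.leftInverse_surjInv (Finite.surjective_iff_bijective.1 (h2 x.2.1 x.1)) _]
    rw [Submonoid.coe_mul, Submonoid.coe_mul, this, mul_assoc]
    exact (congrArg _ (congrArg Subtype.val (mul_inv_cancel (⟨_, h1 x.2.1 x.1 x.2.2⟩ : symplecticGroup _ _)))).trans (mul_one _)
  refine (Nat.card_congr (Equiv.ofBijective (fun x : (Fin m → Bool) × Equiv.Perm (Fin m) × (Fin m → Fˣ) =>
    ⟨⟨_, h1 x.2.1 x.1 x.2.2⟩, by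
      exact Subgroup.mem_normalizer_fintype fun t h => mem_T.2 (h3 x t (mem_T.1 h))⟩) ⟨?_, ?_⟩)).symm.trans
    (by simp [Fintype.card_perm, Fintype.card_units, hF, mul_assoc])
  · skip
    rintro ⟨b, π, d⟩ ⟨b', π', d'⟩ h
    have k : ∀ x, b x = b' x ∧ π x = π' x ∧ d x = d' x := fun x => by
      have := congrFun (congrFun (congrArg (·.1.1) h) (τ π b (.inl x))) (.inl x)
      simp only [mono, of_apply, if_true, τ, c, Sum.elim_inl] at this
      split_ifs at this <;> simp_all [Units.ext_iff]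
    exact Prod.ext (funext fun x => (k x).1) (Prod.ext (Equiv.ext fun x => (k x).2.1) (funext fun x => (k x).2.2))
  rintro ⟨g, hg⟩
  have r : ∀ j, ∃ i, g.1 i j ≠ 0 := fun j => by
    by_contra h
    push Not at h
    exact (SymplecticGroup.symplectic_det g.2).ne_zero (det_eq_zero_of_column_eq_zero j h)
  choose σ hσ using r
  have e : g.1 = mono σ fun j => g.1 (σ j) j := ext fun i j => by
    by_cases e : i = σ j
    · simp [mono, e]
    simp only [mono, of_apply, e, if_false]
    by_contra h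
    have ht : mono id (Function.update (Function.update 1 i.swap a⁻¹) i a) ∈ symplecticGroup (Fin m) F :=
      mono_mem.2 fun x y => by
        by_cases e : y = x.swap
        · subst e
          rcases i with i | i <;> rcases x with x | x <;> by_cases e : x = i <;> simp [e, J, ha.1]
        · simp [not_not.1 (mt J_ne.1 e)]
    obtain ⟨d, hd⟩ := mem_T.1 ((inv_mem hg ⟨_, ht⟩).1 (mem_T.2 ⟨Function.update (Function.update 1 i.swap a⁻¹) i a,
      ext fun x y => by by_cases e : x = y <;> simp [mono, e]⟩))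
    have : mono id (Function.update (Function.update 1 i.swap a⁻¹) i a) * g.1 = g.1 * diagonal d := by
      rw [← hd]; exact congrArg Subtype.val (show (⟨_, ht⟩ : symplecticGroup _ _) * g = g * _ by group)
    have p := congrFun (congrFun this i) j
    have q := congrFun (congrFun this (σ j)) j
    have := hσ j
    simp [mono, mul_apply, -Fintype.sum_sum_type, diagonal_apply, Ne.symm e, Function.update_apply] at p q
    grind
  have k := mono_mem.1 (e ▸ g.2)
  have k1 : ∀ i j, σ j = (σ i).swap ↔ j = i.swap := fun i j => by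
    rw [← J_ne (F := F), ← J_ne (F := F), ← k i j]; simp [hσ]
  have k2 : ∀ x y, Sum.elim id id (σ (.inl x)) = Sum.elim id id (σ (.inl y)) → x = y := fun x y h => by
    have a1 := k1 (.inl x) (.inl y)
    have a2 := k1 (.inr x) (.inl y)
    rw [(k1 (.inl x) (.inr x)).2 rfl] at a2
    generalize σ (.inl x) = u, σ (.inl y) = v at a1 a2 h
    rcases u with u | u <;> rcases v with v | v <;> simp at a1 a2 h <;> simp [h] at a1 a2 <;> exact a2.symm
  refine ⟨⟨fun x => (σ (.inl x)).isLeft, Equiv.ofBijective _ (Finite.injective_iff_bijective.1 k2),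
    fun x => Units.mk0 _ (hσ (.inl x))⟩, Subtype.ext (Subtype.ext (e.trans ?_).symm)⟩
  congr 1 <;> ext1 x <;> rcases x with x | x
  · rcases h1 : σ (.inl x) with u | u <;> simp [τ, h1]
  · rw [(k1 (.inl x) (.inr x)).2 rfl]; rcases h1 : σ (.inl x) with u | u <;> simp [τ, h1]
  · rfl
  · have := k (.inl x) (.inr x)
    have := hσ (.inl x)
    rw [(k1 (.inl x) (.inr x)).2 rfl] at *
    rcases h1 : σ (.inl x) with u | u <;> simp [c, h1, J] at * <;> grind

end Cfsg.Agent.S0777
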