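import Cfsg.Statements.S0779
import Cfsg.Agent.Lib.Classical.Bridge

set_option autoImplicit false
open Cfsg

namespace Cfsg.Agent.S0779
open Cfsg.Agent.Classical


/-- Unitary transvections: let |F| = q², h the standard Hermitian form Σ x_i y_i^q and v ≠ 0 with h(v, v) = 0. The linear map x ↦ x + c h(x, v) v is an isometry of h if and only if c = 0 or c^(q−1) = −1. -/
theorem result {F : Type*} [Field F] [Fintype F] {q : ℕ} (hF : Fintype.card F = q ^ 2) (n : ℕ) (v : Fin n → F) (hv : v ≠ 0) (hv0 : Cfsg.hermForm n F q v v = 0) (c : F) : (∀ x y : Fin n → F, Cfsg.hermForm n F q ((Cfsg.unitaryTransvection n q v c).mulVec x) ((Cfsg.unitaryTransvection n q v c).mulVec y) = Cfsg.hermForm n F q x y) ↔ (c = 0 ∨ c ^ (q - 1) = -1) := by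
  have hq := two_le_of_card_sq hF
  have key : (c = 0 ∨ c ^ (q - 1) = -1) ↔ c + c ^ q = 0 := by
    have : c + c ^ q = c * (c ^ (q - 1) + 1) := by
      rw [mul_add, ← pow_succ', Nat.sub_add_cancel (by omega)]; ring
    rw [this, mul_eq_zero, add_eq_zero_iff_eq_neg]
  rw [key]
  simp only [unitaryTransvection_mulVec, ← uForm_B hF] at hv0 ⊢
  constructor
  · intro h
    obtain ⟨x, hx⟩ := (uForm_nondeg hF n).exists_ne hv
    have := h x x
    simp only [map_add, LinearMap.add_apply, Form.B_smul_left, Form.B_smul_right, hv0, map_mul] at this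
    rw [(uForm hF n).symm x v] at this
    simp only [Kind.unit_ε, Kind.unit_σ, one_mul] at this
    have h2 : frobq hF ((uForm hF n).B x v) ≠ 0 := (map_ne_zero _).2 hx
    apply mul_left_cancel₀ (mul_ne_zero hx h2)
    rw [← frobq_apply hF c]
    linear_combination this
  · intro h x y
    have := ((uForm hF n).qrefl_mem v c (by
      rw [Form.unit_N, hv0, Kind.unit_T, Kind.unit_σ, frobq_frobq, frobq_apply]
      linear_combination h)).1 x y
    rw [Form.qrefl_apply, Form.qrefl_apply] at this
    exact this

end Cfsg.Agent.S0779
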