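import Cfsg.Statements.S0780
import Cfsg.Agent.Lib.Classical.SpUE

set_option autoImplicit false
open Cfsg

namespace Cfsg.Agent.S0780
open Cfsg.Agent.Classical


/-- Generation of SU_n(q), n ≥ 3, (n, q) ≠ (3, 2), by unitary transvections: the subgroup generated by the elements whose matrix is x ↦ x + c h(x, v) v with v isotropic is all of SU_n(q). -/
theorem result {F : Type*} [Field F] [Fintype F] {q : ℕ} (hF : Fintype.card F = q ^ 2) (n : ℕ) (hn : 3 ≤ n) (h32 : ¬ (n = 3 ∧ q = 2)) : Subgroup.closure {A : ↥(Cfsg.SU n F q) | ∃ (v : Fin n → F) (c : F), Cfsg.hermForm n F q v v = 0 ∧ ((A : Matrix.SpecialLinearGroup (Fin n) F) : Matrix (Fin n) (Fin n) F) = Cfsg.unitaryTransvection n q v c} = ⊤ := by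
  let Φ := uForm hF n
  have hΦ : Φ.Nondeg := uForm_nondeg hF n
  have hE := unit_E_eq hF hΦ
  have hp := unit_perfect hF hΦ (by simpa using hn) (by simpa using h32)
  have hsub : Φ.transvSet ⊆ Φ.SIsom := hE ▸ Φ.transvSet_subset_E
  obtain ⟨e, f, hh⟩ := unit_exists_hyp (frobq_ne_id hF) hΦ (by simp; omega)
  have hR := Form.unit_rich (frobq_ne_id hF) Φ
  have key : Subgroup.closure Φ.transvSet = Φ.SIsom := by
    rw [← hE] at hp hsub ⊢
    rcases hR.normal_E hΦ hh hp ((Subgroup.closure Φ.transvSet).subgroupOf Φ.E)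
      ⟨fun x hx g => Form.closure_conj_mem (Φ.transvSet_conj (Φ.E_le g.2)) hx⟩ with h | h
    · obtain ⟨d, hd, hd'⟩ := exists_skew _ (frobq_ne_id hF) (frobq_frobq hF)
      have h1 : Φ.IsEich e 0 d := ⟨hh.he, by simp, by rw [Kind.unit_T, hd']; simp⟩
      obtain ⟨h', h2⟩ := Φ.eich_zero_eq_qrefl h1
      obtain ⟨c, hc⟩ := (hR.rich0.mem_center_iff hΦ hh le_rfl Φ.E_le (g := ⟨_, Φ.eich_mem_E _ _ _ h1⟩)).1
        (h (Subgroup.subset_closure ⟨_, _, _, hh.he, h2⟩))
      have h4 := congrArg (fun x => Φ.B x f) (hc f)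
      simp only [hh.eich_f (zero_mem _), map_sub, LinearMap.sub_apply, Φ.B_smul_left] at h4
      rw [hh.Bff, hh.hef] at h4
      simp [hd] at h4
    · exact le_antisymm ((Subgroup.closure_le _).2 hsub) (Subgroup.subgroupOf_eq_top.1 h)
  refine closure_eq_top_of_equiv (suEquiv hF n) (fun g => ?_) (Form.closure_preimage_top key)
  constructor
  · rintro ⟨v, c, hv, h⟩
    have h1 : ∀ x, (suEquiv hF n g).1 x = x + (c * Φ.B x v) • v := fun x => by
      rw [suEquiv_apply, h, unitaryTransvection_mulVec]; rfl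
    by_cases hv0 : v = 0
    · refine ⟨0, 0, by rw [map_zero, map_zero]; simp, by simp, LinearEquiv.ext fun x => ?_⟩
      rw [h1, hv0, Form.qrefl_apply]; simp
    obtain ⟨w, hw⟩ := hΦ.exists_hyp hv0 hv
    have h2 := (suEquiv hF n g).2.1.2 w
    rw [h1, hw.Bfe, add_comm, Form.N_add, Form.N_smul, hw.he, hw.hf, Form.B_smul_left, hw.hef] at h2
    refine ⟨v, c, ?_, hv, LinearEquiv.ext fun x => by rw [h1, Form.qrefl_apply]⟩
    rw [hw.he]
    simp only [Kind.unit_ε, Kind.unit_T, Kind.unit_σ, mul_one, mul_zero, zero_add, frobq_frobq] at h2 ⊢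
    linear_combination h2
  · rintro ⟨v, c, hc, hv, h⟩
    refine ⟨v, c, hv, matrix_ext_mulVec fun x => ?_⟩
    rw [← suEquiv_apply hF, h, unitaryTransvection_mulVec, Form.qrefl_apply]; rfl

end Cfsg.Agent.S0780
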