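import Cfsg.Statements.S0781
import Cfsg.Agent.Lib.Classical.SpUE

set_option autoImplicit false
open Cfsg

namespace Cfsg.Agent.S0781
open Cfsg.Agent.Classical


/-- In SU_n(q) with n ≥ 4, or n = 3 and q > 2, every element whose matrix is a unitary transvection x ↦ x + c h(x, v) v (v isotropic) is a commutator ⁅B, C⁆ of two elements of SU_n(q). -/
theorem result {F : Type*} [Field F] [Fintype F] {q : ℕ} (hF : Fintype.card F = q ^ 2) (n : ℕ) (hn : 4 ≤ n ∨ (n = 3 ∧ 3 ≤ q)) (A : ↥(Cfsg.SU n F q)) (v : Fin n → F) (c : F) (hv0 : Cfsg.hermForm n F q v v = 0) (hA : ((A : Matrix.SpecialLinearGroup (Fin n) F) : Matrix (Fin n) (Fin n) F) = Cfsg.unitaryTransvection n q v c) : A ∈ commutatorSet ↥(Cfsg.SU n F q) := by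
  have hΦ := uForm_nondeg hF n
  let Φ := uForm hF n
  apply mem_commutatorSet_equiv (suEquiv hF n)
  have h1 : ∀ x, (suEquiv hF n A).1 x = x + (c * Φ.B x v) • v := fun x => by
    rw [suEquiv_apply, hA, unitaryTransvection_mulVec]; rfl
  by_cases hv : v = 0
  · refine ⟨1, 1, Subtype.ext (LinearEquiv.ext fun x => ?_)⟩
    rw [h1, hv]; simp
  obtain ⟨w, hw⟩ := hΦ.exists_hyp hv hv0
  have h2 := (suEquiv hF n A).2.1.2 w
  rw [h1, hw.Bfe, add_comm, Form.N_add, Form.N_smul, hw.he, hw.hf, Form.B_smul_left, hw.hef] at h2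
  have h3 : Φ.IsEich v 0 (-c) := ⟨hv0, by simp, by
    simp only [Kind.unit_ε, mul_one, mul_zero, zero_add] at h2
    rw [map_neg, h2]; simp⟩
  obtain ⟨x, hx, y, hy, h4⟩ := Form.unit_transv_commutator (frobq_ne_id hF) hΦ (by simp; omega) hw h3
  refine ⟨⟨x, Φ.E_le_SIsom hx⟩, ⟨y, Φ.E_le_SIsom hy⟩, Subtype.ext (h4.trans (LinearEquiv.ext fun x => ?_))⟩
  rw [h1, Form.eich_apply]; simp [Φ]

end Cfsg.Agent.S0781
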