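import Cfsg.Statements.S0783
import Cfsg.Agent.Lib.Classical.SpUE

set_option autoImplicit false
open Cfsg

namespace Cfsg.Agent.S0783
open Cfsg.Agent.Classical


/-- PGU_n(q)/PSU_n(q) is cyclic of order (n, q+1): for n ≥ 2 and |F| = q² there is a surjective homomorphism from GU_n(q) onto the cyclic group of order gcd(n, q + 1) whose kernel is generated by the determinant-one elements together with the centre. -/
theorem result {F : Type*} [Field F] [Fintype F] {q : ℕ} (hF : Fintype.card F = q ^ 2) (n : ℕ) (hn : 2 ≤ n) : ∃ φ : ↥(Cfsg.GU n F q) →* Multiplicative (ZMod (Nat.gcd n (q + 1))), Function.Surjective φ ∧ φ.ker = (Matrix.GeneralLinearGroup.det : Matrix.GeneralLinearGroup (Fin n) F →* Fˣ).ker.subgroupOf (Cfsg.GU n F q) ⊔ Subgroup.center ↥(Cfsg.GU n F q) := by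
  have hΦ := uForm_nondeg hF n
  let Φ := uForm hF n
  have hr := unit_range_det hF hΦ (by simp; omega)
  let C := (powMonoidHom (q + 1) : Fˣ →* Fˣ).ker
  obtain ⟨ψ, h1, h2⟩ := exists_hom_zmod_gcd (C := C) n
  have hd : ∀ g : Cfsg.GU n F q, Matrix.GeneralLinearGroup.det g.1 = LinearEquiv.det (guEquiv hF n g).1 :=
    fun g => (det_glEquiv _).symm
  let δ : Cfsg.GU n F q →* C := (Matrix.GeneralLinearGroup.det.comp (Subgroup.subtype _)).codRestrict C
    fun g => by rw [show C = _ from hr.symm]; exact ⟨guEquiv hF n g, (hd g).symm⟩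
  have hδ : Function.Surjective δ := by
    rintro ⟨c, hc⟩
    have hc' := hc
    rw [show C = _ from hr.symm] at hc'
    obtain ⟨g, hg⟩ := hc'
    obtain ⟨g, rfl⟩ := (guEquiv hF n).surjective g
    exact ⟨g, Subtype.ext ((hd g).trans hg)⟩
  obtain ⟨e, f, hh⟩ := unit_exists_hyp (frobq_ne_id hF) hΦ (by simpa using hn)
  have : Nontrivial (Fin n → F) := ⟨⟨e, 0, hh.e_ne⟩⟩
  have hR := (Form.unit_rich (frobq_ne_id hF) Φ).rich0
  have h3 : Nat.card C = q + 1 := card_ker_norm hF
  rw [← h3]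
  refine ⟨ψ.comp δ, h1.comp hδ, ?_⟩
  rw [← MonoidHom.comap_ker, h2]
  apply le_antisymm
  · rintro g ⟨c, hc⟩
    have h4 := (mem_ker_norm_iff hF).1 c.2
    let z := (guEquiv hF n).symm ⟨Form.scal _ c.1, Form.scal_mem h4⟩
    have hz : z ∈ Subgroup.center (Cfsg.GU n F q) := by
      rw [← mem_center_congr (guEquiv hF n), MulEquiv.apply_symm_apply,
        hR.mem_center_iff hΦ hh Φ.E_le le_rfl]
      exact ⟨c.1, fun _ => rfl⟩
    have h5 : Matrix.GeneralLinearGroup.det z.1 = Matrix.GeneralLinearGroup.det g.1 := by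
      rw [hd, MulEquiv.apply_symm_apply, Form.det_scal]
      have : c.1 ^ n = Matrix.GeneralLinearGroup.det g.1 := congrArg Subtype.val hc
      simpa using this
    rw [show g = (g * z⁻¹) * z by simp]
    refine Subgroup.mul_mem_sup ?_ hz
    rw [Subgroup.mem_subgroupOf, MonoidHom.mem_ker]
    simp [h5]
  · refine sup_le (fun g hg => ⟨1, Subtype.ext ?_⟩) fun g hg => ?_
    · exact (one_pow n).trans (MonoidHom.mem_ker.1 (Subgroup.mem_subgroupOf.1 hg)).symm
    · rw [← mem_center_congr (guEquiv hF n), hR.mem_center_iff hΦ hh Φ.E_le le_rfl] at hg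
      obtain ⟨c, hc⟩ := hg
      obtain ⟨c', hc'⟩ := Form.exists_scal_of hc
      refine ⟨⟨c', (mem_ker_norm_iff hF).2 (hΦ.norm_of_scal_mem (hc' ▸ (guEquiv hF n g).2))⟩,
        Subtype.ext ?_⟩
      refine Eq.trans ?_ (hd g).symm
      show c' ^ n = _
      rw [hc', Form.det_scal]; simp

end Cfsg.Agent.S0783
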