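import Cfsg.Statements.S0785
import Cfsg.Agent.Lib.Classical.OrthStm

set_option autoImplicit false
open Cfsg

namespace Cfsg.Agent.S0785
open Cfsg.Agent.Classical


/-- det(I) = {±1}: for a quadratic form on F^n whose polar form is non-degenerate, every element of the isometry group has determinant 1 or −1, and as soon as Q takes a non-zero value some isometry has determinant −1. -/
theorem result {F : Type*} [Field F] {n : ℕ} (Q : QuadraticForm F (Fin n → F)) (hQ : (QuadraticMap.polarBilin Q).Nondegenerate) : (∀ g : ↥(Cfsg.isometryGroup F ⇑Q), ((g : Matrix.GeneralLinearGroup (Fin n) F) : Matrix (Fin n) (Fin n) F).det = 1 ∨ ((g : Matrix.GeneralLinearGroup (Fin n) F) : Matrix (Fin n) (Fin n) F).det = -1) ∧ ((∃ v, Q v ≠ 0) → ∃ g : ↥(Cfsg.isometryGroup F ⇑Q), ((g : Matrix.GeneralLinearGroup (Fin n) F) : Matrix (Fin n) (Fin n) F).det = -1) := by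
  have hΦ := Form.ofQuad_nondeg hQ
  constructor
  · intro g
    let G : Matrix (Fin n) (Fin n) F := LinearMap.BilinForm.toMatrix' (QuadraticMap.polarBilin Q)
    have hG : G.det ≠ 0 := LinearMap.BilinForm.nondegenerate_iff_det_ne_zero (Pi.basisFun F (Fin n)) |>.1 hQ
    have hg := (orthEquiv (Form.ofQuad Q) g).2
    have h1 : LinearMap.BilinForm.comp (QuadraticMap.polarBilin Q)
        (Matrix.toLin' (g.1 : Matrix (Fin n) (Fin n) F)) (Matrix.toLin' (g.1 : Matrix (Fin n) (Fin n) F)) =
        QuadraticMap.polarBilin Q := LinearMap.ext₂ fun u v => hg.1 u v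
    have h2 := congrArg (fun B => (LinearMap.BilinForm.toMatrix' B).det) h1
    simp only [LinearMap.BilinForm.toMatrix'_comp, LinearMap.toMatrix'_toLin', Matrix.det_mul,
      Matrix.det_transpose] at h2
    apply sq_eq_one_iff.1
    apply mul_right_cancel₀ hG
    linear_combination h2
  · rintro ⟨v, hv⟩
    refine ⟨(orthEquiv (Form.ofQuad Q)).symm ((Form.ofQuad Q).reflI v hv), ?_⟩
    have := det_orthEquiv (Form.ofQuad Q) ((orthEquiv (Form.ofQuad Q)).symm ((Form.ofQuad Q).reflI v hv))
    rw [MulEquiv.apply_symm_apply] at this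
    exact (congrArg Units.val this).symm.trans ((Form.ofQuad Q).det_refl v hv)

end Cfsg.Agent.S0785
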