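import Cfsg.Statements.S0787
import Cfsg.Agent.Lib.Classical.OrthStm

set_option autoImplicit false
open Cfsg

namespace Cfsg.Agent.S0787
open Cfsg.Agent.Classical

theorem aux {F V : Type*} [Field F] [Finite F] [AddCommGroup V] [Module F V] [FiniteDimensional F V]
    {Φ : Form (Kind.orth F) V} (hΦ : Φ.Nondeg) (hG : Φ.Good) (hn : 2 ≤ Module.finrank F V) :
    ∃! H : Subgroup (Φ.SIsom.subgroupOf Φ.Isom), H.index = 2 := by
  have hle : commutator Φ.Isom ≤ Φ.SIsom.subgroupOf Φ.Isom := fun g hg =>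
    ⟨g.2, commutator_le_ker' (LinearEquiv.det.comp Φ.Isom.subtype) hg⟩
  have h1 := Subgroup.relIndex_mul_index hle
  have h2 : (commutator Φ.Isom).relIndex (Φ.SIsom.subgroupOf Φ.Isom) = 2 := by
    by_cases h2 : (2 : F) = 0
    · have : Φ.SIsom.subgroupOf Φ.Isom = ⊤ := by
        rw [eq_top_iff]
        refine fun g _ => ⟨g.2, Units.ext ?_⟩
        refine (hG.det_eq_dick hΦ g).trans ?_
        rcases Int.units_eq_one_or (hG.dick hΦ g) with h | h <;> simp [h]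
        linear_combination -h2
      rw [hG.index_commutator_of_two hΦ h2 (by omega), this] at h1
      rw [this]; simpa using h1
    · have : Φ.SIsom.subgroupOf Φ.Isom = (hG.dick hΦ).ker := by
        ext g
        rw [MonoidHom.mem_ker, hG.dick_eq_one_iff hΦ h2]
        exact ⟨fun h => h.2, fun h => ⟨g.2, h⟩⟩
      obtain ⟨v, hv, -⟩ := hG.exists_refl_pair hΦ h2 hn
      rw [Form.index_commutator_odd hΦ h2 hn] at h1
      conv_lhs at h1 => rw [this]; arg 2; rw [index_ker_of_neg_one (hG.dick_reflI hΦ v hv)]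
      rw [this]; omega
  refine ⟨_, h2, fun H hH => ?_⟩
  suffices hle : (commutator Φ.Isom).subgroupOf (Φ.SIsom.subgroupOf Φ.Isom) ≤ H by
    have h3 := Subgroup.relIndex_mul_index hle
    rw [hH, show ((commutator Φ.Isom).subgroupOf (Φ.SIsom.subgroupOf Φ.Isom)).index = 2 from h2] at h3
    exact le_antisymm (Subgroup.relIndex_eq_one.1 (by omega)) hle
  let S := Φ.SIsom.subgroupOf Φ.Isom
  have hr : ∀ v hv w hw, Φ.reflI v hv * Φ.reflI w hw ∈ S := fun v hv w hw =>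
    ⟨(Φ.reflI v hv * Φ.reflI w hw).2, Units.ext (by
      show (LinearEquiv.det (Φ.refl v hv * Φ.refl w hw) : F) = 1
      rw [map_mul, Units.val_mul, Form.det_refl, Form.det_refl]; simp)⟩
  have hrr : ∀ v hv, Φ.reflI v hv * Φ.reflI v hv = 1 := fun v hv => Subtype.ext (Φ.refl_mul_self v hv)
  have : Nontrivial V := Module.nontrivial_of_finrank_pos (R := F) (by omega)
  obtain ⟨z, hz⟩ := hΦ.orth_exists_N_ne
  let φ := signHom H hH
  let ψ : ∀ v, Φ.N v ≠ 0 → ℤˣ := fun v hv => φ ⟨_, hr v hv z hz⟩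
  have hψ : ∀ v hv w hw, φ ⟨_, hr v hv w hw⟩ = ψ v hv * ψ w hw := by
    intro v hv w hw
    rw [← Int.units_inv_eq_self (ψ w hw), ← map_inv, ← map_mul]
    congr 1
    apply Subtype.ext
    simp only [Subgroup.coe_mul, Subgroup.coe_inv, mul_inv_rev, inv_eq_of_mul_eq_one_right (hrr _ _)]
    rw [mul_assoc, ← mul_assoc (Φ.reflI z hz), hrr, one_mul]
  have hS : S.Normal := ⟨fun x hx g => ⟨(g * x * g⁻¹).2, by
    have := (Form.mem_SIsom.1 hx).2
    refine MonoidHom.mem_ker.2 ?_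
    simp only [Subgroup.subtype_apply, Subgroup.coe_mul, Subgroup.coe_inv, map_mul, map_inv] at this ⊢
    simp [this]⟩⟩
  have key : ∀ v hv (x : Φ.Isom) (hx : x ∈ S) hx', x.1 ∈ Subgroup.closure Φ.refl2Set →
      φ ⟨Φ.reflI v hv * x * (Φ.reflI v hv)⁻¹, hx'⟩ = φ ⟨x, hx⟩ := by
    intro v hv ⟨x, hx0⟩ hx hx' h
    change x ∈ _ at h
    induction h using Subgroup.closure_induction_left with
    | one => congr 1; ext; simp
    | mul_left a ha b hb ih =>
      obtain ⟨u, hu, w, hw, rfl⟩ := ha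
      have hb0 := (Subgroup.closure_le _).2 Φ.refl2Set_subset hb
      have hb1 : (⟨b, hb0⟩ : Φ.Isom) ∈ S := by
        have := mul_mem (inv_mem (hr u hu w hw)) hx
        rwa [show (⟨_, hx0⟩ : Φ.Isom) = Φ.reflI u hu * Φ.reflI w hw * ⟨b, hb0⟩ from rfl,
          inv_mul_cancel_left] at this
      have e1 : (⟨⟨_, hx0⟩, hx⟩ : S) = ⟨_, hr u hu w hw⟩ * ⟨_, hb1⟩ := rfl
      have e2 : (⟨_, hx'⟩ : S) = ⟨_, hr v hv u hu⟩ * ⟨_, hr w hw v hv⟩ * ⟨_, hS.conj_mem _ hb1 (Φ.reflI v hv)⟩ := by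
        apply Subtype.ext
        simp only [Subgroup.coe_mul, mul_assoc]
        rw [← mul_assoc (Φ.reflI v hv) (Φ.reflI v hv), hrr, one_mul]; rfl
      rw [e1, e2, map_mul, map_mul, map_mul, ih hb0 hb1, hψ, hψ, hψ]
      congr 1
      rw [mul_comm (ψ v hv), mul_assoc, mul_comm (ψ w hw), ← mul_assoc (ψ v hv), Int.units_mul_self, one_mul]
    | inv_mul_cancel a ha b hb ih =>
      obtain ⟨u, hu, w, hw, rfl⟩ := ha
      have hb0 := (Subgroup.closure_le _).2 Φ.refl2Set_subset hb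
      have e0 : (⟨_, hx0⟩ : Φ.Isom) = Φ.reflI w hw * Φ.reflI u hu * ⟨b, hb0⟩ := by
        apply Subtype.ext
        simp [Form.refl_inv]
      have hb1 : (⟨b, hb0⟩ : Φ.Isom) ∈ S := by
        have := mul_mem (inv_mem (hr w hw u hu)) hx
        rwa [e0, inv_mul_cancel_left] at this
      have e1 : (⟨⟨_, hx0⟩, hx⟩ : S) = ⟨_, hr w hw u hu⟩ * ⟨_, hb1⟩ := Subtype.ext e0
      have e2 : (⟨_, hx'⟩ : S) = ⟨_, hr v hv w hw⟩ * ⟨_, hr u hu v hv⟩ * ⟨_, hS.conj_mem _ hb1 (Φ.reflI v hv)⟩ := by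
        apply Subtype.ext
        simp only [Subgroup.coe_mul, mul_assoc, e0]
        rw [← mul_assoc (Φ.reflI v hv) (Φ.reflI v hv), hrr, one_mul]
      rw [e1, e2, map_mul, map_mul, map_mul, ih hb0 hb1, hψ, hψ, hψ]
      congr 1
      rw [mul_comm (ψ v hv), mul_assoc, mul_comm (ψ u hu), ← mul_assoc (ψ v hv), Int.units_mul_self, one_mul]
  intro g hg
  have hg' := (hG.mem_commutator_iff hΦ).1 (Subgroup.mem_subgroupOf.1 hg)
  have := hG.ker_le hΦ (N := (H.map S.subtype).map Φ.Isom.subtype) (fun v w hv hw ht => ?_) g.1 hg'.1 hg'.2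
  · obtain ⟨_, ⟨x, hx, rfl⟩, h⟩ := this
    exact (Subtype.ext (Subtype.ext h) : x = g) ▸ hx
  refine ⟨_, ⟨⟨_, hr v hv w hw⟩, ?_, rfl⟩, rfl⟩
  obtain ⟨x, hx, e⟩ := Form.exists_conj_refl hΦ hv hw ht
  obtain ⟨y, hy, e'⟩ : ∃ y ∈ Subgroup.closure Φ.refl2Set, y * Φ.refl v hv * y⁻¹ = Φ.refl w hw := by
    rcases hG.mem_refl2_or hΦ x⁻¹ (inv_mem hx) with h | ⟨u, hu, h⟩
    · exact ⟨x, by simpa using inv_mem h, e⟩
    · refine ⟨x * Φ.refl v hv, ?_, by rw [← e]; group⟩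
      have := mul_mem (inv_mem h) (Subgroup.subset_closure (show _ ∈ Φ.refl2Set from ⟨u, hu, v, hv, rfl⟩))
      rwa [mul_inv_rev, inv_inv, mul_assoc, inv_mul_cancel_left] at this
  have hy0 := (Subgroup.closure_le _).2 Φ.refl2Set_subset hy
  have hy1 : (⟨y, hy0⟩ : Φ.Isom) ∈ S := by
    have : Subgroup.closure Φ.refl2Set ≤ S.map Φ.Isom.subtype := (Subgroup.closure_le _).2 (by
      rintro _ ⟨a, ha, b, hb, rfl⟩; exact ⟨_, hr a ha b hb, rfl⟩)
    obtain ⟨y', h1, rfl⟩ := this hy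
    exact h1
  have h5 := key v hv _ hy1 (hS.conj_mem _ hy1 _) hy
  rw [SetLike.mem_coe, ← signHom_eq_one hH]
  have e3 : (⟨_, hr v hv w hw⟩ : S) = ⟨_, hS.conj_mem _ hy1 (Φ.reflI v hv)⟩ * (⟨_, hy1⟩ : S)⁻¹ := by
    apply Subtype.ext; apply Subtype.ext
    simp [← e', Form.refl_inv, mul_assoc]
  rw [e3, map_mul, map_inv]
  exact mul_inv_eq_one.2 h5


/-- Existence and uniqueness of Ω: if F is finite, n ≥ 2, Q is a quadratic form on F^n with non-degenerate polar form and (|F|, n) ≠ (2, 4), then the group of isometries of determinant one has a unique subgroup of index 2. -/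
theorem result {F : Type*} [Field F] [Fintype F] {n : ℕ} (hn : 2 ≤ n) (Q : QuadraticForm F (Fin n → F)) (hQ : (QuadraticMap.polarBilin Q).Nondegenerate) (h : Fintype.card F ≠ 2 ∨ n ≠ 4) : ∃! H : Subgroup ↥(Cfsg.specialIsometryGroup F ⇑Q), H.index = 2 := by
  let Φ := Form.ofQuad Q
  have hΦ : Φ.Nondeg := Form.ofQuad_nondeg hQ
  have hG := Form.good_of_card hΦ (by simpa using h)
  have e : Cfsg.specialIsometryGroup F ⇑Q ≃* Φ.SIsom.subgroupOf Φ.Isom :=
    ((orthEquiv Φ).subgroupMap _).trans (MulEquiv.subgroupCongr (by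
      ext g
      obtain ⟨g, rfl⟩ := (orthEquiv Φ).surjective g
      refine (Subgroup.mem_map_iff_mem (orthEquiv Φ).injective).trans ((mem_special_iff Φ g).trans ?_)
      exact ⟨fun h => ⟨(orthEquiv Φ g).2, h⟩, fun h => h.2⟩))
  obtain ⟨H, h1, h2⟩ := aux hΦ hG (by simpa using hn)
  refine ⟨H.comap e.toMonoidHom, (index_comap_equiv e H).trans h1, fun K hK => ?_⟩
  rw [← h2 (K.map e.toMonoidHom) ((Subgroup.index_map_equiv K e).trans hK),
    Subgroup.comap_map_eq_self_of_injective e.injective]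

end Cfsg.Agent.S0787
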