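import Cfsg.Statements.S0792
import Cfsg.Agent.Lib.Classical.OrthStm

set_option autoImplicit false
open Cfsg

namespace Cfsg.Agent.S0792
open Cfsg.Agent.Classical


/-- For q odd and Q with non-degenerate polar form on F^n, the determinant-one isometries form the subgroup generated by all products r_u r_v of two reflections (Q(u), Q(v) ≠ 0). -/
theorem result {F : Type*} [Field F] [Fintype F] (h2 : (2 : F) ≠ 0) {n : ℕ} (Q : QuadraticForm F (Fin n → F)) (hQ : (QuadraticMap.polarBilin Q).Nondegenerate) : Cfsg.specialIsometryGroup F ⇑Q = Subgroup.closure {g : ↥(Cfsg.isometryGroup F ⇑Q) | ∃ u v : Fin n → F, Q u ≠ 0 ∧ Q v ≠ 0 ∧ ((g : Matrix.GeneralLinearGroup (Fin n) F) : Matrix (Fin n) (Fin n) F) = Cfsg.reflectionMatrix ⇑Q u * Cfsg.reflectionMatrix ⇑Q v} := by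
  have hΦ := Form.ofQuad_nondeg hQ
  have hG := Form.good_of_two hΦ h2
  have key : ∀ x ∈ Subgroup.closure (Form.ofQuad Q).refl2Set, LinearEquiv.det x = 1 := by
    intro x hx
    refine (Subgroup.closure_le (MonoidHom.ker LinearEquiv.det)).2 ?_ hx
    rintro _ ⟨u, hu, v, hv, rfl⟩
    rw [SetLike.mem_coe, MonoidHom.mem_ker]
    ext; rw [map_mul, Units.val_mul, Form.det_refl, Form.det_refl]; simp
  rw [show ⇑Q = (Form.ofQuad Q).N from rfl]
  ext g
  rw [mem_closure_equiv_subtype (orthEquiv (Form.ofQuad Q)) (Form.ofQuad Q).refl2Set_subset (fun g =>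
    ⟨by rintro ⟨u, v, hu, hv, h⟩; exact ⟨u, hu, v, hv, (coe_eq_refl2_iff (Form.ofQuad Q) g hu hv).1 h⟩,
     by rintro ⟨u, hu, v, hv, h⟩; exact ⟨u, v, hu, hv, (coe_eq_refl2_iff (Form.ofQuad Q) g hu hv).2 h⟩⟩)]
  refine (mem_special_iff (Form.ofQuad Q) g).trans ⟨fun h => ?_, key _⟩
  rcases hG.mem_refl2_or hΦ _ (orthEquiv (Form.ofQuad Q) g).2 with h1 | ⟨v, hv, h1⟩
  · exact h1
  · have := congrArg Units.val (key _ h1)
    rw [map_mul, h, mul_one, Form.det_refl] at this
    exact absurd (by simp at this; linear_combination -this) h2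

end Cfsg.Agent.S0792
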