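import Cfsg.Statements.S0793
import Cfsg.Agent.Lib.Classical.OrthStm

set_option autoImplicit false
open Cfsg

namespace Cfsg.Agent.S0793
open Cfsg.Agent.Classical


/-- Root elements: if Q(u) = Q(v) = 0 and f(u, v) = 0 (f the polar form), then for every c the Siegel matrix T_(u,v)(c) preserves Q, fixes u and v, and T(c) T(d) = T(c + d). -/
theorem result {F : Type*} [Field F] {n : ℕ} (Q : QuadraticForm F (Fin n → F)) (u v : Fin n → F) (hu : Q u = 0) (hv : Q v = 0) (huv : QuadraticMap.polar ⇑Q u v = 0) : (∀ c x, Q ((Cfsg.siegelMatrix ⇑Q u v c).mulVec x) = Q x) ∧ (∀ c, (Cfsg.siegelMatrix ⇑Q u v c).mulVec u = u ∧ (Cfsg.siegelMatrix ⇑Q u v c).mulVec v = v) ∧ ∀ c d, Cfsg.siegelMatrix ⇑Q u v c * Cfsg.siegelMatrix ⇑Q u v d = Cfsg.siegelMatrix ⇑Q u v (c + d) := by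
  let Φ := Form.ofQuad Q
  have h : ∀ c : F, Φ.IsEich v (c • u) 0 := fun c =>
    ⟨hv, by rw [Φ.B_smul_left]; exact mul_eq_zero_of_right _ huv, by
      rw [Φ.orth_N_smul]; exact (mul_eq_zero_of_right _ hu).symm⟩
  have key : ∀ c x, (Cfsg.siegelMatrix ⇑Q u v c).mulVec x = Φ.eich v (c • u) 0 (h c) x := fun c x => by
    refine (siegelMatrix_mulVec Φ u v x c).trans ?_
    rw [Form.eich_apply, Φ.orth_B_smul, Kind.orth_ε]; module
  have huu : Φ.B u u = 0 := Φ.B_self_of_N hu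
  refine ⟨fun c x => ?_, fun c => ⟨?_, ?_⟩, fun c d => matrix_ext_mulVec fun x => ?_⟩
  · rw [key]; exact (Φ.eich_mem _ _ _ _).2 x
  · rw [key, Φ.eich_of_perp _ _ _ _ huv, Φ.orth_B_smul, huu]; simp
  · rw [key, Form.eich_self]
  · rw [← Matrix.mulVec_mulVec, key, key, key, ← LinearEquiv.mul_apply, Form.eich_mul,
      Φ.eich_congr _ (add_smul c d u).symm (a' := 0) (by rw [Φ.orth_B_smul, Φ.B_smul_left, huu]; simp)]

end Cfsg.Agent.S0793
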