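import Cfsg.Statements.S0794
import Cfsg.Agent.Lib.Classical.OrthStm

set_option autoImplicit false
open Cfsg

namespace Cfsg.Agent.S0794
open Cfsg.Agent.Classical


/-- For q odd, n ≥ 5 and Q with non-degenerate polar form: an isometry whose matrix is a Siegel transformation T_(u,v)(c) (u, v singular and orthogonal) is a commutator in the isometry group, so lies in Ω. -/
theorem result {F : Type*} [Field F] [Fintype F] (h2 : (2 : F) ≠ 0) {n : ℕ} (hn : 5 ≤ n) (Q : QuadraticForm F (Fin n → F)) (hQ : (QuadraticMap.polarBilin Q).Nondegenerate) (u v : Fin n → F) (hu : Q u = 0) (hv : Q v = 0) (huv : QuadraticMap.polar ⇑Q u v = 0) (c : F) (g : ↥(Cfsg.isometryGroup F ⇑Q)) (hg : ((g : Matrix.GeneralLinearGroup (Fin n) F) : Matrix (Fin n) (Fin n) F) = Cfsg.siegelMatrix ⇑Q u v c) : g ∈ commutatorSet ↥(Cfsg.isometryGroup F ⇑Q) ∧ g ∈ Cfsg.Omega F ⇑Q := by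
  let Φ := Form.ofQuad Q
  have hΦ : Φ.Nondeg := Form.ofQuad_nondeg hQ
  have h : Φ.IsEich v (c • u) 0 :=
    ⟨hv, by rw [Φ.B_smul_left]; exact mul_eq_zero_of_right _ huv, by
      rw [Φ.orth_N_smul]; exact (mul_eq_zero_of_right _ hu).symm⟩
  have h1 := (coe_eq_siegel_iff Φ g h).1 hg
  suffices H : g ∈ commutatorSet ↥(Cfsg.isometryGroup F ⇑Q) from ⟨H, Subgroup.subset_closure
    (by obtain ⟨a, b, rfl⟩ := H; exact ⟨a, trivial, b, trivial, rfl⟩)⟩
  apply mem_commutatorSet_equiv (orthEquiv Φ)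
  by_cases h3 : u ∈ (F ∙ v) ∨ v = 0
  · refine ⟨1, 1, Subtype.ext ?_⟩
    rw [h1]
    rcases h3 with h3 | rfl
    · obtain ⟨d, rfl⟩ := Submodule.mem_span_singleton.1 h3
      rw [Φ.eich_congr _ (smul_smul _ _ _) rfl, Φ.eich_of_mem_span]; simp
    · ext x; simp [Form.eich_apply]
  push Not at h3
  obtain ⟨w, hw, hw'⟩ := hΦ.exists_hyp_perp (U := F ∙ v) (v := u) hu h3.1 (by
    intro x hx
    obtain ⟨d, rfl⟩ := Submodule.mem_span_singleton.1 hx
    rw [Φ.B_smul_left]; exact mul_eq_zero_of_right _ (Φ.B_symm_zero huv))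
  have h4 : Φ.IsEich v ((-c / 2) • u) 0 :=
    ⟨hv, by rw [Φ.B_smul_left]; exact mul_eq_zero_of_right _ huv, by
      rw [Φ.orth_N_smul]; exact (mul_eq_zero_of_right _ hu).symm⟩
  obtain ⟨h5, h6⟩ := Form.commutator_eich (Φ.dil_mem u w hw (-1)) h4 (l := 1) (by
    rw [Φ.dil_of_perp _ _ _ _ (Φ.B_symm_zero huv) (hw' v (Submodule.mem_span_singleton_self v)), one_smul])
    one_ne_zero
  refine ⟨⟨_, Φ.dil_mem u w hw (-1)⟩, ⟨_, Φ.eich_mem _ _ _ h4⟩, Subtype.ext (h6.trans ?_)⟩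
  rw [h1]
  apply Φ.eich_congr
  · rw [map_smul, Φ.dil_e, map_one]; match_scalars; simp; field_simp; ring
  · rw [map_smul (Φ.dil _ _ _ _), Φ.dil_e]; simp [hw.Bee]

end Cfsg.Agent.S0794
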