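import Cfsg.Statements.S0795
import Cfsg.Agent.Lib.Classical.OrthStm

set_option autoImplicit false
open Cfsg

namespace Cfsg.Agent.S0795
open Cfsg.Agent.Classical


/-- Generation of Ω by root elements: for q odd, n ≥ 5 and Q with non-degenerate polar form on F^n, the commutator subgroup of the isometry group equals the subgroup generated by the isometries whose matrices are Siegel transformations T_(u,v)(c) with u, v singular and orthogonal. -/
theorem result {F : Type*} [Field F] [Fintype F] (h2 : (2 : F) ≠ 0) {n : ℕ} (hn : 5 ≤ n) (Q : QuadraticForm F (Fin n → F)) (hQ : (QuadraticMap.polarBilin Q).Nondegenerate) : Cfsg.Omega F ⇑Q = Subgroup.closure {g : ↥(Cfsg.isometryGroup F ⇑Q) | ∃ (u v : Fin n → F) (c : F), Q u = 0 ∧ Q v = 0 ∧ QuadraticMap.polar ⇑Q u v = 0 ∧ ((g : Matrix.GeneralLinearGroup (Fin n) F) : Matrix (Fin n) (Fin n) F) = Cfsg.siegelMatrix ⇑Q u v c} := by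
  let Φ := Form.ofQuad Q
  have hΦ : Φ.Nondeg := Form.ofQuad_nondeg hQ
  have hG := Form.good_of_two hΦ h2
  let T : Set ((Fin n → F) ≃ₗ[F] (Fin n → F)) := {g | ∃ e y h, g = Φ.eich e y 0 h}
  have hT : T ⊆ Φ.E := by rintro _ ⟨e, y, h, rfl⟩; exact Φ.eich_mem_E _ _ _ _
  have key : Subgroup.closure T = Φ.E := by
    refine le_antisymm ((Subgroup.closure_le _).2 hT) (Form.E_le_of_hperp hΦ ?_ ?_)
    · intro e f _ a h
      have : a = 0 := by simpa using h.ha
      subst this
      rw [Form.eich_zero]; exact one_mem _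
    · intro e f h
      obtain ⟨u, u', hh⟩ := orth_exists_hyp (h.nondeg_hperp hΦ)
        (by have := h.finrank_hperp; simp at this; omega)
      refine Form.exists_eich_mem_of_sing hh.hperp_of u.2 u'.2 fun y hy hN => ?_
      exact ⟨0, ⟨h.he, (Φ.mem_hperp.1 hy).1, hN.symm⟩, Subgroup.subset_closure ⟨_, _, _, rfl⟩⟩
  rw [show ⇑Q = Φ.N from rfl]
  ext g
  rw [mem_closure_equiv_subtype (orthEquiv Φ) (T := T) (fun x hx => Φ.E_le (hT hx)), key,
    hG.mem_E_iff hΦ (by simp; omega), mem_commutator_congr]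
  intro g
  constructor
  · rintro ⟨u, v, c, hu, hv, huv, hg⟩
    have h : Φ.IsEich v (c • u) 0 :=
      ⟨hv, by rw [Φ.B_smul_left, Φ.orth_B]; exact mul_eq_zero_of_right _ huv, by
        rw [Φ.orth_N_smul]; exact (mul_eq_zero_of_right _ hu).symm⟩
    exact ⟨_, _, h, (coe_eq_siegel_iff Φ g h).1 hg⟩
  · rintro ⟨e, y, h, hg⟩
    have h' : Φ.IsEich e ((1 : F) • y) 0 := by simpa using h
    refine ⟨y, e, 1, h.ha.symm, h.he, (Φ.orth_B _ _).symm.trans h.hy, (coe_eq_siegel_iff Φ g h').2 ?_⟩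
    rw [hg]; exact Φ.eich_congr _ (one_smul _ _).symm rfl

end Cfsg.Agent.S0795
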