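import Cfsg.Statements.S0796
import Mathlib

set_option autoImplicit false
open Cfsg

namespace Cfsg.Agent.S0796


/-- If G is finite and acts faithfully and primitively on X, H is the stabiliser of a point, A is a normal subgroup of H whose normal closure in G is G, then for every non-trivial normal subgroup K of G the quotient G ⧸ K is isomorphic to A ⧸ B for some normal subgroup B of A. -/
theorem result {G X : Type*} [Group G] [Finite G] [MulAction G X] [FaithfulSMul G X] (hprim : MulAction.IsPreprimitive G X) (x : X) (A : Subgroup G) (hA : A ≤ MulAction.stabilizer G x) (hAn : (A.subgroupOf (MulAction.stabilizer G x)).Normal) (hgen : Subgroup.normalClosure (A : Set G) = ⊤) (K : Subgroup G) [K.Normal] (hK : K ≠ ⊥) : ∃ (B : Subgroup A) (_ : B.Normal), Nonempty (G ⧸ K ≃* A ⧸ B) := by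
  have hq : MulAction.IsQuasiPreprimitive G X := hprim.isQuasiPreprimitive
  have ht : MulAction.IsPretransitive K X := hq.isPretransitive_of_normal fun h => hK (by
    rw [eq_bot_iff]
    intro k hk
    rw [Subgroup.mem_bot]
    apply FaithfulSMul.eq_of_smul_eq_smul (α := X)
    intro y
    have : y ∈ MulAction.fixedPoints K X := h ▸ Set.mem_univ y
    rw [one_smul]; exact this ⟨k, hk⟩)
  let π := QuotientGroup.mk' K
  have hn : (A.map π).Normal := ⟨by
    rintro _ ⟨a, ha, rfl⟩ g
    obtain ⟨g, rfl⟩ := QuotientGroup.mk'_surjective K g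
    obtain ⟨k, hk⟩ := ht.exists_smul_eq (g • x) x
    have h1 : k.1 * g ∈ MulAction.stabilizer G x := by rw [MulAction.mem_stabilizer_iff, mul_smul]; exact hk
    have h2 := hAn.conj_mem ⟨a, hA ha⟩ ha ⟨_, h1⟩
    refine ⟨_, h2, ?_⟩
    have h3 : π k.1 = 1 := (QuotientGroup.eq_one_iff _).2 k.2
    simp only [Subgroup.subtype_apply, Subgroup.coe_mul, Subgroup.coe_inv, map_mul, map_inv, h3, one_mul]
    rfl⟩
  have htop : A.map π = ⊤ := by
    have h1 : Subgroup.normalClosure (A : Set G) ≤ (A.map π).comap π :=
      Subgroup.normalClosure_le_normal fun a ha => ⟨a, ha, rfl⟩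
    rw [hgen, top_le_iff] at h1
    rw [← Subgroup.map_comap_eq_self_of_surjective (QuotientGroup.mk'_surjective K) (A.map π), h1,
      Subgroup.map_top_of_surjective _ (QuotientGroup.mk'_surjective K)]
  have hs : Function.Surjective (π.comp A.subtype) := by
    intro y
    obtain ⟨a, ha, h⟩ : y ∈ A.map π := htop ▸ Subgroup.mem_top y
    exact ⟨⟨a, ha⟩, h⟩
  exact ⟨_, inferInstance, ⟨(QuotientGroup.quotientKerEquivOfSurjective _ hs).symm⟩⟩

end Cfsg.Agent.S0796
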