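import Cfsg.Statements.S0797
import Cfsg.Agent.Lib.Classical.OrthStm

set_option autoImplicit false
open Cfsg

namespace Cfsg.Agent.S0797
open Cfsg.Agent.Classical


/-- O^ε_2m(q) ≅ Ω.2² for q odd: if F is finite of odd characteristic, n ≥ 2 is even and Q has non-degenerate polar form on F^n, the isometry group of Q has exactly three subgroups of index 2. -/
theorem result {F : Type*} [Field F] [Fintype F] (h2 : (2 : F) ≠ 0) {n : ℕ} (hn : 2 ≤ n) (heven : Even n) (Q : QuadraticForm F (Fin n → F)) (hQ : (QuadraticMap.polarBilin Q).Nondegenerate) : Nat.card {H : Subgroup ↥(Cfsg.isometryGroup F ⇑Q) // H.index = 2} = 3 := by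
  let Φ := Form.ofQuad Q
  have hΦ : Φ.Nondeg := Form.ofQuad_nondeg hQ
  have hG := Form.good_of_two hΦ h2
  have e : {H : Subgroup ↥(Cfsg.isometryGroup F ⇑Q) // H.index = 2} ≃ {H : Subgroup Φ.Isom // H.index = 2} :=
    ((orthEquiv Φ).mapSubgroup.toEquiv).subtypeEquiv fun H =>
      Eq.congr_left (Subgroup.index_map_equiv H (orthEquiv Φ)).symm
  rw [Nat.card_congr e]
  obtain ⟨v, hv, w, hw, h1, h3⟩ := hG.exists_refl_pair hΦ h2 (by simpa using hn)
  have i1 := index_ker_of_neg_one (hG.dick_reflI hΦ v hv)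
  have i2 := index_ker_of_neg_one h3
  have i3 := index_ker_of_neg_one (φ := hG.dick hΦ * hG.spin hΦ) (g := Φ.reflI v hv) (by
    rw [MonoidHom.mul_apply, h1]; simp)
  suffices H : ∃ x y z : {H : Subgroup Φ.Isom // H.index = 2}, x ≠ y ∧ x ≠ z ∧ y ≠ z ∧
      ({x, y, z} : Set _) = Set.univ by
    obtain ⟨x, y, z, h1, h2, h3, h4⟩ := H
    rw [← Set.ncard_univ, Set.ncard_eq_three]
    exact ⟨x, y, z, h1, h2, h3, h4.symm⟩
  refine ⟨⟨_, i1⟩, ⟨_, i2⟩, ⟨_, i3⟩, ?_, ?_, ?_, ?_⟩
  · intro h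
    have : Φ.reflI v hv ∈ (hG.dick hΦ).ker := (Subtype.mk.inj h).ge h1
    simp at this
  · intro h
    have : Φ.reflI w hw ∈ (hG.dick hΦ * hG.spin hΦ).ker := by
      rw [MonoidHom.mem_ker, MonoidHom.mul_apply, h3]; simp
    have : Φ.reflI w hw ∈ (hG.dick hΦ).ker := (Subtype.mk.inj h).ge this
    simp at this
  · intro h
    have : Φ.reflI v hv ∈ (hG.dick hΦ * hG.spin hΦ).ker := (Subtype.mk.inj h).le h1
    rw [MonoidHom.mem_ker, MonoidHom.mul_apply, h1] at this
    simp at this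
  rw [Set.eq_univ_iff_forall]
  rintro ⟨H, hH⟩
  have key : ∀ u hu, (hG.spin hΦ (Φ.reflI u hu) = 1 ∧ signHom H hH (Φ.reflI u hu) = signHom H hH (Φ.reflI v hv)) ∨
      (hG.spin hΦ (Φ.reflI u hu) = -1 ∧ signHom H hH (Φ.reflI u hu) = signHom H hH (Φ.reflI w hw)) := by
    have k : ∀ u hu v hv, hG.spin hΦ (Φ.reflI u hu) = hG.spin hΦ (Φ.reflI v hv) →
        signHom H hH (Φ.reflI u hu) = signHom H hH (Φ.reflI v hv) := by
      intro u hu v hv h
      have := commutator_le_ker' (signHom H hH) ((hG.mem_commutator_iff hΦ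
        (g := Φ.reflI u hu * (Φ.reflI v hv)⁻¹)).2 ⟨by simp, by rw [map_mul, map_inv, h]; simp⟩)
      rwa [MonoidHom.mem_ker, map_mul, map_inv, mul_inv_eq_one] at this
    intro u hu
    rcases Int.units_eq_one_or (hG.spin hΦ (Φ.reflI u hu)) with h | h
    · exact Or.inl ⟨h, k _ _ _ _ (h.trans h1.symm)⟩
    · exact Or.inr ⟨h, k _ _ _ _ (h.trans h3.symm)⟩
  simp only [Set.mem_insert_iff, Set.mem_singleton_iff, Subtype.ext_iff]
  rw [← ker_signHom hH]
  rcases Int.units_eq_one_or (signHom H hH (Φ.reflI v hv)) with a | a <;>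
  rcases Int.units_eq_one_or (signHom H hH (Φ.reflI w hw)) with b | b
  · have : signHom H hH = 1 := hG.hom_extI hΦ fun u hu => by
      rcases key u hu with h | h <;> simp [h.2, a, b]
    have h5 := ker_signHom hH
    rw [this, MonoidHom.ker_one] at h5
    rw [← h5] at hH; simp at hH
  · right; left; congr 1
    exact hG.hom_extI hΦ fun u hu => by rcases key u hu with h | h <;> rw [h.1, h.2] <;> assumption
  · right; right; congr 1
    exact hG.hom_extI hΦ fun u hu => by
      rcases key u hu with h | h <;> rw [MonoidHom.mul_apply, h.1, h.2] <;> simp [a, b]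
  · left; congr 1
    exact hG.hom_extI hΦ fun u hu => by rcases key u hu with h | h <;> rw [h.2] <;> simp [a, b]

end Cfsg.Agent.S0797
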