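import Cfsg.Statements.S0798
import Cfsg.Agent.Lib.Classical.Irred

set_option autoImplicit false
open Cfsg

namespace Cfsg.Agent.S0798
open Cfsg.Agent.Classical

theorem span_top {F V : Type*} [Field F] [Fintype F] [AddCommGroup V] [Module F V] [FiniteDimensional F V]
    {Φ : Form (Kind.orth F) V} (hΦ : Φ.Nondeg) (h2 : (2 : F) ≠ 0) (hn : 2 ≤ Module.finrank F V)
    (h : ¬ (Module.finrank F V = 2 ∧ Fintype.card F = 3)) {c : F} (hc : c ≠ 0) :
    Submodule.span F {v | ∃ t : F, t ≠ 0 ∧ Φ.N v = c * t ^ 2} = ⊤ := by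
  obtain ⟨y, hy⟩ := orth_represents hΦ hn c
  have hy' : y ∈ Submodule.span F {v | ∃ t : F, t ≠ 0 ∧ Φ.N v = c * t ^ 2} :=
    Submodule.subset_span ⟨1, one_ne_zero, by simp [hy]⟩
  have hinv : ∀ g ∈ Φ.Isom, ∀ w ∈ Submodule.span F {v | ∃ t : F, t ≠ 0 ∧ Φ.N v = c * t ^ 2},
      g w ∈ Submodule.span F {v | ∃ t : F, t ≠ 0 ∧ Φ.N v = c * t ^ 2} := by
    intro g hg w hw
    induction hw using Submodule.span_induction with
    | mem x hx => exact Submodule.subset_span (by simpa [hg.2] using hx)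
    | zero => simp
    | add x y _ _ hx hy => rw [map_add]; exact add_mem hx hy
    | smul a x _ hx => rw [map_smul]; exact Submodule.smul_mem _ a hx
  by_cases h3 : 3 ≤ Module.finrank F V
  · refine (Form.orth_irred hΦ h3 fun g hg => hinv g (Φ.E_le hg)).resolve_left fun h0 => ?_
    rw [h0, Submodule.mem_bot] at hy'
    exact hc (by simp [← hy, hy'])
  have h4 : Module.finrank F V = 2 := by omega
  have hyN : Φ.N y ≠ 0 := hy ▸ hc
  obtain ⟨w, hw, hwy, hli, -⟩ := Form.plane_refl hΦ h2 h4 hyN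
  have h5 : 4 ≤ Fintype.card F := by
    have := odd_of_two_ne_zero h2
    have h6 := Fintype.one_lt_card (α := F)
    rw [Nat.odd_iff] at this
    omega
  obtain ⟨l, hl, hl2⟩ := exists_sq_ne_one h5
  obtain ⟨t, ht, h6⟩ : ∃ t : F, t ≠ 0 ∧ Φ.N ((1 : F) • y + t • w) ≠ 0 := by
    by_contra hcon
    push Not at hcon
    have a1 := hcon 1 one_ne_zero
    have a2 := hcon l hl
    rw [Φ.orth_N_comb, Φ.B_symm_zero hwy] at a1 a2
    exact hl2 (mul_right_cancel₀ hw (by linear_combination a2 - a1))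
  have h7 := Submodule.smul_mem _ (Φ.N ((1 : F) • y + t • w) / (2 * Φ.N y * t))
    (sub_mem hy' (hinv _ (Φ.refl_mem _ h6) y hy'))
  have h8 := sub_mem h7 (Submodule.smul_mem _ t⁻¹ hy')
  have h9 : w ∈ Submodule.span F {v | ∃ t : F, t ≠ 0 ∧ Φ.N v = c * t ^ 2} := by
    convert h8 using 1
    rw [Form.refl_apply, map_add, Φ.orth_B_smul, Φ.orth_B_smul, Φ.orth_B_self, Φ.B_symm_zero hwy]
    match_scalars <;> field_simp <;> ring
  rw [eq_top_iff, ← (basisOfLinearIndependentOfCardEqFinrank hli (by simp [h4])).span_eq,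
    Submodule.span_le]
  rintro _ ⟨i, rfl⟩
  fin_cases i <;> simpa

theorem aux {F V : Type*} [Field F] [Fintype F] [AddCommGroup V] [Module F V] [FiniteDimensional F V]
    {Φ : Form (Kind.orth F) V} (hΦ : Φ.Nondeg) (h2 : (2 : F) ≠ 0) (hn : 2 ≤ Module.finrank F V)
    (heven : Even (Module.finrank F V))
    (h : ¬ (Module.finrank F V = 4 ∧ Fintype.card F = 3)) {c : F} (hc : c ≠ 0) :
    ((Subgroup.closure {g | ∃ v hv, (∃ t : F, t ≠ 0 ∧ Φ.N v = c * t ^ 2) ∧ g = Φ.refl v hv}).subgroupOf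
      Φ.Isom).index = 2 := by
  have hG := Form.good_of_two hΦ h2
  set H := Subgroup.closure {g | ∃ v hv, (∃ t : F, t ≠ 0 ∧ Φ.N v = c * t ^ 2) ∧ g = Φ.refl v hv}
  obtain ⟨u, hu⟩ := orth_represents hΦ hn c
  have huN : Φ.N u ≠ 0 := hu ▸ hc
  have hmem : ∀ v hv, sqSign F (Units.mk0 (Φ.N v) hv) = sqSign F (Units.mk0 c hc) → Φ.refl v hv ∈ H := by
    intro v hv h
    obtain ⟨t, ht⟩ := sqSign_eq_iff.1 h
    simp only [Units.val_mk0] at ht
    exact Subgroup.subset_closure ⟨v, hv, ⟨t, by rintro rfl; simp [hv] at ht, by rw [ht, mul_comm]⟩, rfl⟩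
  have huH := hmem u huN (by simp [hu])
  have key : ∀ v w hv hw, (∃ t, Φ.N v = t ^ 2 * Φ.N w) → Φ.refl v hv * Φ.refl w hw ∈ H := by
    intro v w hv hw ht
    by_cases h3 : Module.finrank F V = 2
    · obtain ⟨x, hx, e⟩ := Form.plane_det_neg hΦ h2 h3 (Φ.reflI v hv * Φ.reflI w hw * Φ.reflI u huN).2
        (by simp only [Subgroup.coe_mul, Form.reflI_coe, map_mul, Units.val_mul, Form.det_refl]; simp)
      have e' : Φ.reflI v hv * Φ.reflI w hw * Φ.reflI u huN = Φ.reflI x hx := Subtype.ext e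
      have h4 := congrArg (hG.spin hΦ) e'
      rw [map_mul, map_mul, hG.spin_reflI, hG.spin_reflI, hG.spin_reflI, hG.spin_reflI,
        (sqSign_eq_iff (x := Units.mk0 _ hv) (y := Units.mk0 _ hw)).2 ht, Int.units_mul_self, one_mul] at h4
      have := mul_mem (hmem x hx (by rw [← h4]; simp [hu])) huH
      rwa [← e, Subgroup.coe_mul, Form.reflI_coe, mul_assoc, Form.refl_mul_self, mul_one] at this
    have h4 : 4 ≤ Module.finrank F V := by obtain ⟨k, hk⟩ := heven; omega
    obtain ⟨e, f, hh⟩ := orth_exists_hyp hΦ (by omega)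
    refine Form.E_le_of_hperp hΦ ?_ ?_ (Form.refl_mul_refl_mem_E hΦ (by omega) hh v w hv hw ht)
    · intro e f _ a h
      have : a = 0 := by simpa using h.ha
      subst this
      rw [Form.eich_zero]; exact one_mem _
    · intro e f hh y hy
      have hr := hh.finrank_hperp
      have h5 := span_top (hh.nondeg_hperp hΦ) h2 (by omega) (fun h' => h ⟨by omega, h'.2⟩) hc
      have h6 : ∀ y : Φ.hperp e f, ∀ s : F, ∃ a h, Φ.eich e (s • y.1) a h ∈ H := by
        intro y
        have : y ∈ Submodule.span F _ := h5 ▸ Submodule.mem_top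
        induction this using Submodule.span_induction with
        | mem x hx =>
          intro s
          by_cases hs : s = 0
          · exact ⟨0, by simpa [hs] using Form.IsEich.zero hh.he, by
              rw [Φ.eich_congr _ (y' := 0) (by simp [hs]) rfl, Form.eich_zero]; exact one_mem _⟩
          obtain ⟨t, ht, hx⟩ := hx
          have hx' : Φ.N (s • x.1) = c * (s * t) ^ 2 := by
            rw [Φ.orth_N_smul, show Φ.N x.1 = _ from hx]; ring
          have e1 : Φ.IsEich e (s • x.1) _ := ⟨hh.he, by simp [(Φ.mem_hperp.1 x.2).1], rfl⟩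
          obtain ⟨h', h7⟩ := Φ.eich_eq_refl_mul e1 (by simp [hx', hc, hs, ht])
          refine ⟨_, e1, h7 ▸ mul_mem (Subgroup.subset_closure ⟨_, _, ⟨s * t, by simp [hs, ht], hx'⟩, rfl⟩)
            (Subgroup.subset_closure ⟨_, _, ⟨s * t, by simp [hs, ht], ?_⟩, rfl⟩)⟩
          rw [Φ.N_sub, Φ.orth_N_smul _ e, hh.he, Φ.orth_B_smul, e1.hy, hx']; simp
        | zero =>
          intro s
          exact ⟨0, by simpa using Form.IsEich.zero hh.he, by
              rw [Φ.eich_congr _ (y' := 0) (by simp) rfl, Form.eich_zero]; exact one_mem _⟩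
        | add x y _ _ hx hy =>
          intro s
          obtain ⟨a, h, m⟩ := hx s
          obtain ⟨a', h', m'⟩ := hy s
          have := mul_mem m m'
          rw [Form.eich_mul, Φ.eich_congr _ (smul_add _ _ _).symm rfl] at this
          exact ⟨_, _, this⟩
        | smul a x _ hx =>
          intro s
          obtain ⟨a', h, m⟩ := hx (s * a)
          rw [Φ.eich_congr _ (mul_smul _ _ _) rfl] at m
          exact ⟨_, _, m⟩
      simpa using h6 ⟨y, hy⟩ 1
  obtain ⟨χ, hχ⟩ := hG.exists_hom hΦ (sqSign F) (fun _ => Int.units_sq _) (sqSign F (Units.mk0 c hc))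
    (Int.units_sq _)
  have hχ' : ∀ v hv, χ (Φ.reflI v hv) = sqSign F (Units.mk0 c hc) * sqSign F (Units.mk0 _ hv) := hχ
  have hk : H.subgroupOf Φ.Isom = χ.ker := by
    apply le_antisymm
    · have : H ≤ χ.ker.map Φ.Isom.subtype := (Subgroup.closure_le _).2 (by
        rintro _ ⟨v, hv, ⟨t, ht, h⟩, rfl⟩
        refine ⟨Φ.reflI v hv, MonoidHom.mem_ker.2 ?_, rfl⟩
        rw [hχ', (sqSign_eq_iff (x := Units.mk0 _ hv) (y := Units.mk0 c hc)).2 ⟨t, by simp [h, mul_comm]⟩,
          Int.units_mul_self])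
      intro g hg
      obtain ⟨x, hx, e⟩ := this hg
      exact (Subtype.ext e : x = g) ▸ hx
    · have k2 : ∀ g, χ g = 1 → hG.dick hΦ g = 1 → g.1 ∈ H := by
        intro g h1 h3
        refine hG.ker_le hΦ key g h3 ?_
        rcases Int.units_eq_one_or (sqSign F (Units.mk0 c hc)) with h4 | h4
        · rwa [hG.hom_extI hΦ (χ := hG.spin hΦ) (χ' := χ) fun v hv => by simp [hχ', h4]]
        · rw [hG.hom_extI hΦ (χ := χ) (χ' := hG.dick hΦ * hG.spin hΦ) fun v hv => by simp [hχ', h4]] at h1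
          simpa [h3] using h1
      intro g hg
      rcases Int.units_eq_one_or (hG.dick hΦ g) with h3 | h3
      · exact k2 g hg h3
      · have := mul_mem huH (k2 (Φ.reflI u huN * g) (by
          rw [map_mul, MonoidHom.mem_ker.1 hg, hχ']; simp [hu]) (by simp [h3]))
        rwa [Subgroup.coe_mul, Form.reflI_coe, ← mul_assoc, Form.refl_mul_self, one_mul] at this
  rw [hk]
  obtain ⟨v, hv, w, hw, h1, h3⟩ := hG.exists_refl_pair hΦ h2 hn
  rw [hG.spin_reflI] at h1 h3
  rcases Int.units_eq_one_or (sqSign F (Units.mk0 c hc)) with h4 | h4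
  · exact index_ker_of_neg_one (g := Φ.reflI w hw) (by simp [hχ', h4, h3])
  · exact index_ker_of_neg_one (g := Φ.reflI v hv) (by simp [hχ', h4, h1])


/-- For q odd, n ≥ 2 even, Q with non-degenerate polar form (n, |F|) ≠ (4, 3), and a fixed c ≠ 0: the subgroup of the isometry group generated by the reflections r_v with Q(v) ∈ c·(F^×)² has index 2. -/
theorem result {F : Type*} [Field F] [Fintype F] (h2 : (2 : F) ≠ 0) {n : ℕ} (hn : 2 ≤ n) (heven : Even n) (Q : QuadraticForm F (Fin n → F)) (hQ : (QuadraticMap.polarBilin Q).Nondegenerate) (h43 : ¬ (n = 4 ∧ Fintype.card F = 3)) (c : F) (hc : c ≠ 0) : (Subgroup.closure {g : ↥(Cfsg.isometryGroup F ⇑Q) | ∃ (v : Fin n → F) (t : F), t ≠ 0 ∧ Q v = c * t ^ 2 ∧ ((g : Matrix.GeneralLinearGroup (Fin n) F) : Matrix (Fin n) (Fin n) F) = Cfsg.reflectionMatrix ⇑Q v}).index = 2 := by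
  let Φ := Form.ofQuad Q
  have hΦ : Φ.Nondeg := Form.ofQuad_nondeg hQ
  refine Eq.trans ?_ (aux hΦ h2 (by simpa using hn) (by simpa using heven) (by simpa using h43) hc)
  rw [← index_comap_equiv (orthEquiv Φ), show ⇑Q = Φ.N from rfl]
  congr 1
  ext g
  refine mem_closure_equiv_subtype (orthEquiv Φ) ?_ fun g => ?_
  · rintro _ ⟨v, hv, -, rfl⟩; exact Φ.refl_mem _ _
  constructor
  · rintro ⟨v, t, ht, h, hg⟩
    have hv : Φ.N v ≠ 0 := by simp [h, hc, ht]
    exact ⟨v, hv, ⟨t, ht, h⟩, (coe_eq_refl_iff Φ g hv).1 hg⟩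
  · rintro ⟨v, hv, ⟨t, ht, h⟩, hg⟩
    exact ⟨v, t, ht, h, (coe_eq_refl_iff Φ g hv).2 hg⟩

end Cfsg.Agent.S0798
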