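import Cfsg.Statements.S0799
import Mathlib
import Cfsg.Agent.Lib.Perm.Dick7

set_option autoImplicit false
open Cfsg

namespace Cfsg.Agent.S0799

open Cfsg.Agent.Perm Cfsg.Agent.Perm.GL2 Subgroup MulAction

/-- Dickson's classification of the subgroups of PSL_2(q), q a power of the prime p, d = gcd(2, q − 1): every subgroup H is (a) cyclic or dihedral with k dividing (q+1)/d or (q−1)/d (cyclic of order k, or dihedral of order 2k), (b) isomorphic to a subgroup of the normaliser of a Sylow p-subgroup, (c) isomorphic to A_4, S_4 or A_5, or (d) isomorphic to PSL_2(K) or PGL_2(K) for a finite field K with |K|^m = q. -/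
theorem result {F : Type*} [Field F] [Fintype F] {q : ℕ} (hF : Fintype.card F = q) (p : ℕ) [Fact p.Prime] [CharP F p] (H : Subgroup (Matrix.ProjectiveSpecialLinearGroup (Fin 2) F)) : (∃ k : ℕ, (k ∣ (q + 1) / Nat.gcd 2 (q - 1) ∨ k ∣ (q - 1) / Nat.gcd 2 (q - 1)) ∧ ((IsCyclic H ∧ Nat.card H = k) ∨ Nonempty (H ≃* DihedralGroup k))) ∨ (∃ (P : Sylow p (Matrix.ProjectiveSpecialLinearGroup (Fin 2) F)) (K : Subgroup (Matrix.ProjectiveSpecialLinearGroup (Fin 2) F)), K ≤ Subgroup.normalizer ((P : Subgroup (Matrix.ProjectiveSpecialLinearGroup (Fin 2) F)) : Set (Matrix.ProjectiveSpecialLinearGroup (Fin 2) F)) ∧ Nonempty (H ≃* K)) ∨ Nonempty (H ≃* alternatingGroup (Fin 4)) ∨ Nonempty (H ≃* Equiv.Perm (Fin 4)) ∨ Nonempty (H ≃* alternatingGroup (Fin 5)) ∨ (∃ (K : Type) (_ : Field K) (_ : Fintype K) (m : ℕ), Fintype.card K ^ m = q ∧ (Nonempty (H ≃* Matrix.ProjectiveSpecialLinearGroup (Fin 2) K) ∨ Nonempty (H ≃* Matrix.ProjGenLinGroup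 (Fin 2) K))) := by
  subst hF
  have e := ioEquiv H
  have hle := map_io_le H
  have ho : ∀ a : H.map io, ¬ p ∣ orderOf a →
      orderOf a ∣ (Fintype.card F + 1) / Nat.gcd 2 (Fintype.card F - 1) ∨
        orderOf a ∣ (Fintype.card F - 1) / Nat.gcd 2 (Fintype.card F - 1) := fun a ha => by
    have hd := Nat.gcd_dvd_right 2 (Fintype.card F - 1)
    have hd2 : Nat.gcd 2 (Fintype.card F - 1) ∣ Fintype.card F + 1 := by
      have := Fintype.card_pos (α := F)
      rw [show Fintype.card F + 1 = Fintype.card F - 1 + 2 by omega]; exact dvd_add hd (Nat.gcd_dvd_left _ _)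
    rcases spec_PS p (hle a.2) with h | h | h <;> rw [orderOf_coe] at h
    · rcases (Nat.dvd_prime Fact.out).1 h with h | h
      · rw [h]; exact Or.inl (one_dvd _)
      · exact absurd (dvd_of_eq h.symm) ha
    · exact Or.inr ((Nat.dvd_div_iff_mul_dvd hd).2 (by rwa [mul_comm]))
    · exact Or.inl ((Nat.dvd_div_iff_mul_dvd hd2).2 (by rwa [mul_comm]))
  rcases dickson p (H.map io) with ⟨h1, h2⟩ | h | ⟨h1, x, hx⟩ | ⟨-, ⟨⟨e2⟩⟩ | ⟨⟨e2⟩⟩⟩ | ⟨-, ⟨e2⟩⟩ | ⟨L, c, -, h⟩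
  · obtain ⟨a, ha⟩ := h1.exists_ofOrder_eq_natCard
    exact Or.inl ⟨_, ho a (by rwa [ha]), Or.inl ⟨isCyclic_of_surjective _ e.symm.surjective,
      by rw [ha, Nat.card_congr e.toEquiv]⟩⟩
  · obtain ⟨a, ha, ⟨e2⟩⟩ := IsDih_iso h
    exact Or.inl ⟨_, ho a ha, Or.inr ⟨e.trans e2⟩⟩
  · refine Or.inr (Or.inl ?_)
    let U : Subgroup (PSL2 F) :=
      { carrier := {g | io g • x = x ∧ io g ^ p = 1}
        one_mem' := by simp
        mul_mem' := fun {a b} ha hb => ⟨by rw [map_mul, mul_smul, hb.1, ha.1], by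
          rw [map_mul, Commute.mul_pow (comm_of_fix x _ _ ha.1 hb.1 ha.2 hb.2), ha.2, hb.2, mul_one]⟩
        inv_mem' := fun {a} ha => ⟨by rw [map_inv, inv_smul_eq_iff, ha.1], by rw [map_inv, inv_pow, ha.2, inv_one]⟩ }
    have hU : IsPGroup p U := fun g => ⟨1, Subtype.ext (io_injective (by simpa using g.2.2))⟩
    obtain ⟨P, hP⟩ := hU.exists_le_sylow
    obtain ⟨c, hc, rfl⟩ := exists_PS_smul_inf x
    obtain ⟨u, hu⟩ := exists_io (mul_mem (mul_mem hc (tr_mem 1)) (inv_mem hc))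
    have hu1 : u ∈ U := ⟨by rw [hu, mul_smul, mul_smul, inv_smul_smul, tr_inf], by
      rw [hu, conj_pow, tr_pow, mul_one, mul_inv_cancel]⟩
    have hu2 : io u ≠ 1 := by rw [hu, Ne, mul_inv_eq_one, mul_eq_left, tr_eq_one]; exact one_ne_zero
    have hpp : ∀ g ∈ P, io g ^ p = 1 := fun g hg => by
      obtain ⟨k, hk⟩ := IsPGroup.iff_orderOf.1 P.isPGroup' ⟨g, hg⟩
      rw [orderOf_mk, ← orderOf_injective io io_injective] at hk
      rcases k with _ | k
      · rw [orderOf_eq_one_iff.1 hk, one_pow]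
      have hd : p ∣ orderOf (io g) := by rw [hk]; exact dvd_pow_self _ k.succ_ne_zero
      rcases spec_PGL2 p (io g) with h | h | h
      · exact orderOf_dvd_iff_pow_eq_one.1 h
      · exact absurd (hd.trans h) not_dvd_qq.2.2
      · exact absurd (hd.trans h) not_dvd_qq.2.1
    have hPU : (P : Subgroup _) = U := le_antisymm (fun g hg => ⟨by
      haveI : Nontrivial (P : Subgroup (PSL2 F)) := (nontrivial_iff_exists_ne_one _).2
        ⟨u, hP hu1, fun h => hu2 (by rw [h, map_one])⟩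
      haveI := P.isPGroup'.center_nontrivial
      obtain ⟨⟨z, hz⟩, hz1⟩ := exists_ne (1 : center (P : Subgroup (PSL2 F)))
      have hz2 : io (z : PSL2 F) ≠ 1 := fun h => hz1 (Subtype.ext (Subtype.ext ((map_eq_one_iff _ io_injective).1 h)))
      obtain ⟨y, hy⟩ := fix1_of_finite hz2 (hpp _ z.2)
      have key : ∀ g ∈ P, io g • y = y := fun g hg => (hy _).1 (by
        rw [← mul_smul, ← map_mul, ← show g * z = z * g from congrArg Subtype.val (mem_center_iff.1 hz ⟨g, hg⟩),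
          map_mul, mul_smul, (hy y).2 rfl])
      obtain ⟨y', hy'⟩ := fix1_of_finite hu2 hu1.2
      rw [(hy' _).1 hu1.1, ← (hy' _).1 (key u (hP hu1))]
      exact key g hg, hpp g hg⟩) hP
    refine ⟨P, H, fun g hg => ?_, ⟨MulEquiv.refl _⟩⟩
    have h3 := hx _ (mem_map_of_mem _ hg)
    rw [hPU, mem_normalizer_iff]
    intro v
    change _ ∧ _ ↔ _ ∧ _
    rw [map_mul, map_mul, map_inv, conj_pow, mul_inv_eq_one, mul_eq_left, mul_smul, mul_smul,
      inv_smul_eq_iff.2 h3.symm, ← eq_inv_smul_iff (g := io g), inv_smul_eq_iff.2 h3.symm]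
  · exact Or.inr (Or.inr (Or.inl ⟨e.trans e2⟩))
  · exact Or.inr (Or.inr (Or.inr (Or.inl ⟨e.trans e2⟩)))
  · exact Or.inr (Or.inr (Or.inr (Or.inr (Or.inl ⟨e.trans e2⟩))))
  · obtain ⟨K, i1, i2, hK, ⟨e1⟩, ⟨e2⟩⟩ := exists_type0 L.subtype c
    obtain ⟨m, -, hm⟩ := exists_card_pow' L.subtype
    refine Or.inr (Or.inr (Or.inr (Or.inr (Or.inr ⟨K, i1, i2, m, by rw [hK, hm], ?_⟩))))
    rcases h with h | h
    · exact Or.inr ⟨e.trans ((MulEquiv.subgroupCongr h).trans e1)⟩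
    · exact Or.inl ⟨e.trans ((MulEquiv.subgroupCongr h).trans e2)⟩

end Cfsg.Agent.S0799
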