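import Cfsg.Statements.S0800
import Mathlib
import Cfsg.Agent.Lib.Perm.Dick5

set_option autoImplicit false
open Cfsg

namespace Cfsg.Agent.S0800

open Cfsg.Agent.Perm.GL2 Subgroup

/-- Tori of SL_2(q): if g ∈ SL_2(q) has order coprime to the characteristic p, then the order of g divides q − 1 or q + 1. -/
theorem result {F : Type*} [Field F] [Fintype F] {q : ℕ} (hF : Fintype.card F = q) (p : ℕ) [Fact p.Prime] [CharP F p] (g : Matrix.SpecialLinearGroup (Fin 2) F) (hg : Nat.Coprime (orderOf g) p) : orderOf g ∣ q - 1 ∨ orderOf g ∣ q + 1 := by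
  subst hF
  rcases order_cases g with h | h | h
  · rw [ringChar.eq F p] at h
    have h2 := hg.dvd_of_dvd_mul_right h
    by_cases h3 : (2 : F) = 0
    · have : p = 2 := by rw [← ringChar.eq F p]; exact ringChar_eq_two h3
      subst this
      rw [Nat.Coprime.eq_one_of_dvd hg h2]; exact Or.inl (one_dvd _)
    · obtain ⟨k, hk⟩ := odd_of_two_ne_zero h3
      exact Or.inl (h2.trans ⟨k, by omega⟩)
  · exact Or.inr h.2
  · exact Or.inl h

end Cfsg.Agent.S0800
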