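import Cfsg.Statements.S0801
import Mathlib
import Cfsg.Agent.Lib.Perm.Dick9

set_option autoImplicit false
open Cfsg

namespace Cfsg.Agent.S0801

open Cfsg.Agent.Perm Cfsg.Agent.Perm.GL2 Cfsg.Agent.Perm.Tri Subgroup MulAction Matrix

/-- Let F be a finite field of odd characteristic and λ ≠ 0 an element generating F as a field. Then the lower and upper unitriangular matrices with off-diagonal entries 1 and λ generate SL_2(F), unless |F| = 9 and λ² = −1, in which case they generate a subgroup of order 120. -/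
theorem result {F : Type*} [Field F] [Fintype F] (h2 : (2 : F) ≠ 0) (lam : F) (hlam : lam ≠ 0) (hgen : Subfield.closure ({lam} : Set F) = ⊤) : (Subgroup.closure {g : Matrix.SpecialLinearGroup (Fin 2) F | (g : Matrix (Fin 2) (Fin 2) F) = !![1, 0; 1, 1] ∨ (g : Matrix (Fin 2) (Fin 2) F) = !![1, lam; 0, 1]} = ⊤ ∧ ¬ (Fintype.card F = 9 ∧ lam ^ 2 = -1)) ∨ (Fintype.card F = 9 ∧ lam ^ 2 = -1 ∧ Nat.card ↥(Subgroup.closure {g : Matrix.SpecialLinearGroup (Fin 2) F | (g : Matrix (Fin 2) (Fin 2) F) = !![1, 0; 1, 1] ∨ (g : Matrix (Fin 2) (Fin 2) F) = !![1, lam; 0, 1]}) = 120) := by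
  obtain ⟨p, hp⟩ := CharP.exists F
  haveI hp := Fact.mk (CharP.char_is_prime F p)
  have hp2 : p ≠ 2 := by rintro rfl; exact h2 (CharP.cast_eq_zero F 2)
  let u : SL2 F := mkS 1 0 1 1 (by simp)
  let v : SL2 F := mkS 1 lam 0 1 (by simp)
  have hs : {g : SL2 F | (g : M2 F) = !![1, 0; 1, 1] ∨ (g : M2 F) = !![1, lam; 0, 1]} = {u, v} := by
    ext g; exact or_congr ⟨fun h => Subtype.ext h, fun h => by rw [h]; rfl⟩ ⟨fun h => Subtype.ext h, fun h => by rw [h]; rfl⟩
  rw [hs]
  have hm : (closure {u, v}).map ph = closure {ph u, ph v} := by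
    rw [MonoidHom.map_closure, Set.image_insert_eq, Set.image_singleton]
  have hu : ph u ∈ closure ({ph u, ph v} : Set (PGL2 F)) := subset_closure (by simp)
  have hv : ph v ∈ closure ({ph u, ph v} : Set (PGL2 F)) := subset_closure (by simp)
  have hvt : ph v = tr lam := by
    rw [tr_eq]; exact congrArg ph (Subtype.ext (by simp [v]))
  have c1 : ((u * v : SL2 F) : M2 F) = !![1, lam; 1, lam + 1] := by simp [u, v]
  have c2 : ((u * v⁻¹ : SL2 F) : M2 F) = !![1, -lam; 1, -lam + 1] := by simp [u, v, adjugate_fin_two]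
  by_cases h9 : Fintype.card F = 9 ∧ lam ^ 2 = -1
  · refine Or.inr ⟨h9.1, h9.2, ?_⟩
    have h3 : (3 : F) = 0 := by
      have := FiniteField.cast_card_eq_zero F
      rw [h9.1] at this
      exact pow_eq_zero_iff two_ne_zero |>.1 (by linear_combination this)
    have hl := h9.2
    have cx : ((u * v * (u * v⁻¹) : SL2 F) : M2 F) = !![1 + lam, 1; lam + 2, -lam - 1] := by
      rw [Matrix.SpecialLinearGroup.coe_mul, c1, c2]
      apply m2_ext <;> simp
      · linear_combination -hl
      · ring
      · linear_combination -hl + h3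
    obtain ⟨x, hx⟩ : ∃ x, x = u * v * (u * v⁻¹) := ⟨_, rfl⟩
    rw [← hx] at cx
    have cxv : ((x * v : SL2 F) : M2 F) = !![1 + lam, lam; lam + 2, lam - 2] := by
      rw [Matrix.SpecialLinearGroup.coe_mul, cx]
      apply m2_ext <;> simp [v]
      · linear_combination hl
      · linear_combination hl
    obtain ⟨e⟩ := tri_A5 (x := ph x) (y := ph v) (mkP_pow_eq_one.2 (scal2 (by simp [cx, trace_fin_two]; ring)))
      (by rw [hvt]; haveI : CharP F 3 := (CharP.charP_iff_prime_eq_zero Nat.prime_three).2 h3; exact tr_pow _) (by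
        rw [← map_mul]
        exact pow_eq_one_of fun hs => (scal_pow_iff5 hs).2 (by
          rw [coe_toGL, (x * v).det_coe, cxv]; simp [trace_fin_two]
          linear_combination (16 * lam ^ 2 - 32 * lam - 4) * hl + (12 * lam + 1) * h3))
      (fun e => by simpa [cx] using (mkP_eq_one.1 e).1)
    have hw : v * (x * v) * (x * v) * v = -u := by
      apply Subtype.ext
      rw [Matrix.SpecialLinearGroup.coe_mul, Matrix.SpecialLinearGroup.coe_mul, Matrix.SpecialLinearGroup.coe_mul, cxv]
      apply m2_ext <;> simp [u, v]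
      · linear_combination (2 * lam + 5) * hl + (-1) * h3
      · linear_combination (2 * lam ^ 2 + 7 * lam) * hl + (-lam) * h3
      · linear_combination 2 * hl + (lam - 1) * h3
      · linear_combination (2 * lam + 5) * hl + (-2 * lam) * h3
    have he : closure ({ph x, ph v} : Set (PGL2 F)) = closure {ph u, ph v} := by
      apply le_antisymm <;> rw [closure_le] <;> rintro _ (rfl | rfl)
      · rw [hx, map_mul, map_mul, map_mul, map_inv]; exact mul_mem (mul_mem hu hv) (mul_mem hu (inv_mem hv))
      · exact hv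
      · have a : ph x ∈ closure ({ph x, ph v} : Set (PGL2 F)) := subset_closure (by simp)
        have b : ph v ∈ closure ({ph x, ph v} : Set (PGL2 F)) := subset_closure (by simp)
        have : ph u = ph (-u) := mkP_eq_iff.2 ⟨-1, by simp⟩
        rw [this, ← hw, map_mul, map_mul, map_mul, map_mul]
        exact mul_mem (mul_mem (mul_mem b (mul_mem a b)) (mul_mem a b)) b
      · exact subset_closure (by simp)
    have hc : Nat.card ((closure {u, v}).map ph) = 60 := by rw [hm, ← he, Nat.card_congr e.toEquiv, card_A5]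
    rw [card_eq_two_mul h2 (neg_mem_of_even h2 (by rw [hc]; norm_num)), hc]
  refine Or.inl ⟨?_, h9⟩
  have ho : orderOf (⟨ph v, hv⟩ : closure ({ph u, ph v} : Set (PGL2 F))) = p := by
    rw [orderOf_mk, hvt]; exact orderOf_eq_prime (tr_pow _) (by rwa [Ne, tr_eq_one])
  have hd : p ∣ Nat.card (closure ({ph u, ph v} : Set (PGL2 F))) := ho ▸ _root_.orderOf_dvd_natCard _
  rcases dickson p (closure ({ph u, ph v} : Set (PGL2 F))) with h | h | ⟨-, x, hx⟩ | h | ⟨h, ⟨e⟩⟩ | ⟨L, c, hL, h⟩
  · exact absurd hd h.2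
  · exact absurd h (not_dih hp2 ho)
  · exfalso
    have h1 := hx _ hv
    have h3 := hx _ hu
    induction x using OnePoint.rec with
    | infty => simpa [u] using smul_inf.1 h3
    | coe a => rw [hvt, tr_coe] at h1; exact hlam (by simpa using h1)
  · exact absurd hd h.1
  · exfalso
    obtain rfl : p = 3 := h.resolve_left (not_not.2 hd)
    have h3 : (3 : F) = 0 := CharP.cast_eq_zero F 3
    have hq : ¬ lam ^ 3 = lam := fun h => by
      have h4 := Nat.le_of_dvd (by norm_num) (card_sub_one_dvd (p := 3) hgen (k := 1) (by simpa using h))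
      have h5 := oP_mono (show Fintype.card F ≤ 3 by omega)
      have h6 := card_le_card_group (closure ({ph u, ph v} : Set (PGL2 F)))
      rw [Nat.card_congr e.toEquiv, card_A5, card_PGL2'] at h6
      rw [show oP 3 = 24 from rfl] at h5; omega
    have key : ∀ (g : SL2 F) (a : F), ph g ∈ closure ({ph u, ph v} : Set (PGL2 F)) → (g : M2 F) = !![1, a; 1, a + 1] →
        a ^ 3 = a ∨ (a - 1) ^ 4 + 1 = 0 := fun g a hg hc => by
      obtain ⟨b, hb⟩ := orderOf_of_iso e hg
      have hns : ¬ IsScal (g : M2 F) := fun h => by simpa [hc] using h.2.1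
      have ht : (g : M2 F).trace = a - 1 := by simp [hc, trace_fin_two]; linear_combination h3
      rcases orders_A5 b with h | h | h <;> rw [← hb, orderOf_dvd_iff_pow_eq_one] at h
      · have := (scal_pow_iff2 hns).1 (mkP_pow_eq_one.1 h)
        rw [ht] at this; left; linear_combination (a ^ 2 + a) * this
      · have := (scal_pow_iff3 hns).1 (mkP_pow_eq_one.1 h)
        rw [ht, g.det_coe] at this; left; linear_combination (a + 2) * this + a * h3
      · have := (scal_pow_iff5 hns).1 (mkP_pow_eq_one.1 h)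
        rw [ht, g.det_coe] at this; right; linear_combination this + (a - 1) ^ 2 * h3
    have k1 := (key _ _ (by rw [map_mul]; exact mul_mem hu hv) c1).resolve_left hq
    have k2 := (key _ _ (by rw [map_mul, map_inv]; exact mul_mem hu (inv_mem hv)) c2).resolve_left
      fun h => hq (by linear_combination -h)
    have hl : lam ^ 2 = -1 := by
      apply mul_left_cancel₀ hlam
      linear_combination k1 - k2 + (3 * lam ^ 3 + 3 * lam) * h3
    refine h9 ⟨?_, hl⟩
    have h4 := Nat.le_of_dvd (by norm_num) (card_sub_one_dvd (p := 3) hgen (k := 2) (by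
      linear_combination (lam ^ 7 - lam ^ 5 + lam ^ 3 - lam) * hl))
    obtain ⟨n, -, hn⟩ := FiniteField.card F 3
    obtain ⟨n, hn0⟩ := n
    change _ = 3 ^ n at hn
    rcases n with _ | _ | _ | n
    · omega
    · exact absurd (by simpa [hn] using FiniteField.pow_card lam) hq
    · exact hn
    · rw [pow_succ, pow_succ, pow_succ] at hn
      have := Nat.one_le_pow n 3 (by norm_num); omega
  · have h1 : closure ({ph u, ph v} : Set (PGL2 F)) ≤ cjs c (RG L.subtype) := by
      rcases h with h | h
      · exact h.le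
      · rw [h]; exact cjs_mono c (RS_le_RG _)
    have h3 : cjs c (RS L.subtype) ≤ closure ({ph u, ph v} : Set (PGL2 F)) := by
      rcases h with h | h
      · rw [h]; exact cjs_mono c (RS_le_RG _)
      · exact h.ge
    obtain ⟨a, ha⟩ := tau_mem L.subtype (g := SpecialLinearGroup.toGL (u * v)) (h1 (by
      change ph _ ∈ _; rw [map_mul]; exact mul_mem hu hv))
    obtain ⟨b, hb⟩ := tau_mem L.subtype (g := SpecialLinearGroup.toGL (u * v⁻¹)) (h1 (by
      change ph _ ∈ _; rw [map_mul, map_inv]; exact mul_mem hu (inv_mem hv)))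
    rw [coe_toGL, Matrix.SpecialLinearGroup.det_coe] at ha hb
    rw [c1] at ha
    rw [c2] at hb
    simp [trace_fin_two] at ha hb
    have h8 : (8 : F) ≠ 0 := by rw [show (8 : F) = 2 ^ 3 by norm_num]; exact pow_ne_zero _ h2
    have hl : lam ∈ L := by
      have : lam = ((a : F) - b) / 8 := by field_simp; linear_combination hb - ha
      rw [this]; exact div_mem (sub_mem a.2 b.2) (ofNat_mem L 8)
    have hL2 : L = ⊤ := eq_top_iff.2 (hgen ▸ Subfield.closure_le.2 (by rintro _ rfl; exact hl))
    rw [RS_eq_PS _ (by rw [hL2, ← Nat.card_eq_fintype_card]; exact Nat.card_congr Subfield.topEquiv.toEquiv),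
      ← hm] at h3
    have h4 : -1 ∈ closure ({u, v} : Set (SL2 F)) := neg_mem_of_even h2 (by
      refine dvd_trans ?_ (card_dvd_of_le h3)
      rw [← RS_eq_PS (RingHom.id F) Nat.card_eq_fintype_card 1]
      exact two_dvd_card_RS _ _ (hL.trans_le (Nat.card_le_card_of_injective _ L.subtype.injective)))
    rw [eq_top_iff, ← comap_map_eq_self (ker_le h4)]
    exact fun g _ => h3 ⟨g, rfl⟩

end Cfsg.Agent.S0801
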