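import Cfsg.Statements.S0802
import Mathlib
import Cfsg.Agent.Lib.Perm.Dick7

set_option autoImplicit false
open Cfsg

namespace Cfsg.Agent.S0802

open Cfsg.Agent.Perm Cfsg.Agent.Perm.GL2 Cfsg.Agent.Perm.Tri Subgroup MulAction

/-- PSL_2(p^n) has a subgroup isomorphic to A_4 if and only if it is not the case that p = 2 and n is odd. -/
theorem result {F : Type*} [Field F] [Fintype F] (p n : ℕ) [Fact p.Prime] [CharP F p] (hF : Fintype.card F = p ^ n) : (∃ H : Subgroup (Matrix.ProjectiveSpecialLinearGroup (Fin 2) F), Nonempty (H ≃* alternatingGroup (Fin 4))) ↔ ¬ (p = 2 ∧ Odd n) := by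
  constructor
  · rintro ⟨H, ⟨e⟩⟩ ⟨rfl, k, rfl⟩
    let φ : alternatingGroup (Fin 4) →* PGL2 F := io.comp (H.subtype.comp e.symm.toMonoidHom)
    have hφ : Function.Injective φ := io_injective.comp (H.subtype_injective.comp e.symm.injective)
    obtain ⟨x, hx⟩ := fix1_of_finite (p := 2) (g := φ a4) (by rw [Ne, map_eq_one_iff _ hφ]; decide +kernel)
      (by rw [← map_pow, map_eq_one_iff _ hφ]; decide +kernel)
    have h1 : φ (b4 * a4 * b4⁻¹) • x = x := (hx _).1 (by
      rw [← mul_smul, ← map_mul, show a4 * (b4 * a4 * b4⁻¹) = (b4 * a4 * b4⁻¹) * a4 by decide +kernel,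
        map_mul, mul_smul, (hx x).2 rfl])
    have h2 : φ b4 • x = x := by
      rw [map_mul, map_mul, mul_smul, mul_smul, map_inv, ← eq_inv_smul_iff, hx, inv_smul_eq_iff] at h1
      exact h1.symm
    have h3 := Subgroup.orderOf_dvd_natCard (stabilizer (PGL2 F) x) h2
    rw [orderOf_injective _ hφ, order_b4, card_stab, hF, Nat.prime_three.dvd_mul, pow_succ, pow_mul] at h3
    have : (2 ^ 2) ^ k % 3 = 1 := by rw [Nat.pow_mod]; simp
    omega
  · intro h
    by_cases h2 : p = 2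
    · subst h2
      obtain ⟨k, rfl⟩ := Nat.not_odd_iff_even.1 fun e => h ⟨rfl, e⟩
      obtain ⟨X, ⟨e⟩⟩ := exists_A5' (F := F) (five_dvd_oP.2 (by
        rw [hF, ← two_mul, pow_mul]
        have : ∀ j : ℕ, (2 ^ 2) ^ j % 5 = 1 ∨ (2 ^ 2) ^ j % 5 = 4 := fun j => by
          induction j with
          | zero => simp
          | succ j ih => rw [pow_succ]; omega
        exact Or.inr (this k)))
      obtain ⟨M, -, ⟨e0⟩⟩ := exists_sub_iso e A4_le_A5
      exact exists_PSL_of_le (A4_le_PS e0) ⟨e0⟩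
    · obtain ⟨X, ⟨e⟩⟩ := exists_A4 (F := F) (two_ne_of_char h2)
      exact exists_PSL_of_le (A4_le_PS e) ⟨e⟩

end Cfsg.Agent.S0802
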