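import Cfsg.Statements.S0803
import Mathlib
import Cfsg.Agent.Lib.Perm.Dick7

set_option autoImplicit false
open Cfsg

namespace Cfsg.Agent.S0803

open Cfsg.Agent.Perm Cfsg.Agent.Perm.GL2 Cfsg.Agent.Perm.Tri Subgroup MulAction

/-- PSL_2(q) has a subgroup isomorphic to S_4 iff q² ≡ 1 (mod 16). -/
theorem result {F : Type*} [Field F] [Fintype F] {q : ℕ} (hF : Fintype.card F = q) : (∃ H : Subgroup (Matrix.ProjectiveSpecialLinearGroup (Fin 2) F), Nonempty (H ≃* Equiv.Perm (Fin 4))) ↔ q ^ 2 % 16 = 1 := by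
  subst hF
  have key : ∀ q : ℕ, q ^ 2 % 16 = 1 ↔ q % 8 = 1 ∨ q % 8 = 7 := fun q => by
    rw [Nat.pow_mod, ← Nat.mod_mod_of_dvd q (by norm_num : 8 ∣ 16)]
    have := Nat.mod_lt q (by norm_num : 16 > 0)
    generalize q % 16 = r at *
    interval_cases r <;> simp
  rw [key]
  constructor
  · rintro ⟨H, ⟨e⟩⟩
    exact (S4_le_PS_iff ((ioEquiv H).symm.trans e)).1 (map_io_le H)
  · intro h
    obtain ⟨X, ⟨e⟩⟩ := exists_S4 (F := F) (two_ne_zero_of_odd (Nat.odd_iff.2 (by omega)))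
    exact exists_PSL_of_le ((S4_le_PS_iff e).2 h) ⟨e⟩

end Cfsg.Agent.S0803
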