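import Cfsg.Statements.S0804
import Mathlib
import Cfsg.Agent.Lib.Perm.Dick7

set_option autoImplicit false
open Cfsg

namespace Cfsg.Agent.S0804

open Cfsg.Agent.Perm Cfsg.Agent.Perm.GL2 Cfsg.Agent.Perm.Tri Subgroup MulAction

/-- PSL_2(q) has a subgroup isomorphic to A_5 iff 5 ∣ q(q² − 1). -/
theorem result {F : Type*} [Field F] [Fintype F] {q : ℕ} (hF : Fintype.card F = q) : (∃ H : Subgroup (Matrix.ProjectiveSpecialLinearGroup (Fin 2) F), Nonempty (H ≃* alternatingGroup (Fin 5))) ↔ 5 ∣ q * (q ^ 2 - 1) := by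
  subst hF
  rw [← oP_eq]
  constructor
  · rintro ⟨H, ⟨e⟩⟩
    exact five_dvd_of_A5 ((ioEquiv H).symm.trans e)
  · intro h
    obtain ⟨X, ⟨e⟩⟩ := exists_A5' h
    exact exists_PSL_of_le (A5_le_PS e) ⟨e⟩

end Cfsg.Agent.S0804
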