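import Cfsg.Statements.S0805
import Mathlib
import Cfsg.Agent.Lib.Perm.Dick7

set_option autoImplicit false
open Cfsg

namespace Cfsg.Agent.S0805

open Cfsg.Agent.Perm Cfsg.Agent.Perm.GL2 Cfsg.Agent.Perm.Tri Subgroup MulAction

/-- Subfield subgroups: let F be a finite field of odd order q and K a finite field with |K|^m = q, m ≥ 1. Then PSL_2(F) has a subgroup isomorphic to PSL_2(K), and has a subgroup isomorphic to PGL_2(K) if and only if m is even. -/
theorem result {F K : Type*} [Field F] [Fintype F] [Field K] [Fintype K] {q : ℕ} (hF : Fintype.card F = q) (hodd : Odd q) (m : ℕ) (hm : 1 ≤ m) (hK : Fintype.card K ^ m = q) : (∃ H : Subgroup (Matrix.ProjectiveSpecialLinearGroup (Fin 2) F), Nonempty (H ≃* Matrix.ProjectiveSpecialLinearGroup (Fin 2) K)) ∧ ((∃ H : Subgroup (Matrix.ProjectiveSpecialLinearGroup (Fin 2) F), Nonempty (H ≃* Matrix.ProjGenLinGroup (Fin 2) K)) ↔ Even m) := by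
  subst hF
  obtain ⟨f⟩ := exists_ringHom hK.symm
  refine ⟨exists_PSL_of_le (RS_le_PS f) ⟨(rsEquiv f).symm⟩, ?_, fun h =>
    exists_PSL_of_le (RG_le_PS f (isSquare_of_even f hK.symm h)) ⟨(rgEquiv f).symm⟩⟩
  rintro ⟨H, ⟨e⟩⟩
  have h1 : Odd (Fintype.card K) := by
    rw [← hK] at hodd; exact (Nat.odd_pow_iff (by omega)).1 hodd
  refine even_of_dvd_oP h1 Fintype.one_lt_card ?_
  rw [hK, ← card_PS' (F := F), gcd_odd hodd, mul_comm, ← card_PGL2', ← Nat.card_congr e.toEquiv, card_PS]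
  exact Nat.mul_dvd_mul_right H.card_subgroup_dvd_card 2

end Cfsg.Agent.S0805
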