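import Cfsg.Statements.S0806
import Mathlib
import Cfsg.Agent.Lib.Perm.Dick7

set_option autoImplicit false
open Cfsg

namespace Cfsg.Agent.S0806

open Cfsg.Agent.Perm Cfsg.Agent.Perm.GL2 Cfsg.Agent.Perm.Tri Subgroup MulAction

/-- Minimal index (Galois): if q ∉ {2, 3, 5, 7, 9, 11} then every proper subgroup of PSL_2(q) has index ≥ q + 1, and some subgroup has index exactly q + 1. -/
theorem result {F : Type*} [Field F] [Fintype F] {q : ℕ} (hF : Fintype.card F = q) (hq : q ∉ ({2, 3, 5, 7, 9, 11} : Finset ℕ)) : (∀ H : Subgroup (Matrix.ProjectiveSpecialLinearGroup (Fin 2) F), H ≠ ⊤ → q + 1 ≤ H.index) ∧ ∃ H : Subgroup (Matrix.ProjectiveSpecialLinearGroup (Fin 2) F), H.index = q + 1 := by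
  subst hF
  obtain ⟨p, hp⟩ := CharP.exists F
  haveI hp := Fact.mk (CharP.char_is_prime F p)
  simp only [Finset.mem_insert, Finset.mem_singleton, not_or] at hq
  have h1q := Fintype.one_lt_card (α := F)
  have hg := gcd_le_two (Fintype.card F - 1)
  have hg0 : 0 < Nat.gcd 2 (Fintype.card F - 1) := Nat.gcd_pos_of_pos_left _ two_pos
  have hS := card_PSL2_mul (F := F)
  have hpos : 0 < Fintype.card F * (Fintype.card F - 1) := Nat.mul_pos (by omega) (by omega)
  refine ⟨fun H hH => ?_, (stabilizer (PGL2 F) (OnePoint.infty : OnePoint F) ⊓ PS F).comap io, ?_⟩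
  · have hlt : H.map io < PS F := lt_of_le_of_ne (map_io_le H) fun e => hH (map_injective io_injective (by
      rw [e, ← MonoidHom.range_eq_map, range_io]))
    have hc : Nat.card (H.map io) = Nat.card H := card_map_of_injective io_injective
    have key : Nat.card H * Nat.gcd 2 (Fintype.card F - 1) ≤ Fintype.card F * (Fintype.card F - 1) := by
      have small : Nat.card H = 12 ∨ Nat.card H = 24 ∨ Nat.card H = 60 →
          Nat.card H * Nat.gcd 2 (Fintype.card F - 1) ≤ Fintype.card F * (Fintype.card F - 1) := fun h => by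
        by_cases h13 : 12 ≤ Fintype.card F
        · have := Nat.mul_le_mul h13 (show 11 ≤ Fintype.card F - 1 by omega)
          have := Nat.mul_le_mul_left (Nat.card H) hg
          omega
        · have h3 := card_lt_of_lt hlt
          obtain ⟨k, hk⟩ : Nat.card H ∣ Nat.card (PSL2 F) := H.card_subgroup_dvd_card
          rw [hc, card_PS] at h3
          obtain ⟨n, -, hn⟩ := FiniteField.card F p
          have h10 : Fintype.card F ≠ 10 := fun e => by
            have a1 : 2 ∣ p ^ (n : ℕ) := by rw [← hn, e]; norm_num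
            have a2 : 5 ∣ p ^ (n : ℕ) := by rw [← hn, e]; norm_num
            have b1 := (Nat.prime_dvd_prime_iff_eq Nat.prime_two hp.out).1 (Nat.prime_two.dvd_of_dvd_pow a1)
            have b2 := (Nat.prime_dvd_prime_iff_eq Nat.prime_five hp.out).1 (Nat.prime_five.dvd_of_dvd_pow a2)
            omega
          generalize Fintype.card F = q at *
          have : q ≤ 11 := by omega
          interval_cases q <;> simp only [Nat.reduceSub, Nat.reduceGcd, Nat.reduceAdd, Nat.reduceMul] at hS ⊢ <;>
            rcases h with h | h | h <;> rw [h] at hk h3 ⊢ <;> omega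
      obtain ⟨k, hk⟩ := Nat.exists_eq_add_of_le (show 4 ≤ Fintype.card F by omega)
      rcases dickson_lt p hlt with ⟨t, s, h2, h3⟩ | ⟨x, hx⟩ | ⟨-, ⟨⟨e⟩⟩ | ⟨⟨e⟩⟩⟩ | ⟨-, ⟨e⟩⟩ | ⟨L, c, m, hL, hm, hc2, h3⟩
      · have h4 := Nat.mul_le_mul_right (Nat.gcd 2 (Fintype.card F - 1)) (card_le_of_le h3)
        rw [h2.card, hc, mul_assoc] at h4
        refine h4.trans ?_
        rcases h2.ord with h | h <;> rw [h, hk, show 4 + k - 1 = k + 3 by omega] <;> nlinarith
      · rw [← card_stabS x, ← hc]
        exact Nat.mul_le_mul_right _ (card_le_of_le fun g hg => ⟨hx g hg, hlt.le hg⟩)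
      · exact small (Or.inl (by rw [← hc, Nat.card_congr e.toEquiv, card_A4]))
      · exact small (Or.inr (Or.inl (by rw [← hc, Nat.card_congr e.toEquiv, card_S4])))
      · exact small (Or.inr (Or.inr (by rw [← hc, Nat.card_congr e.toEquiv, card_A5])))
      · have h4 : Nat.card H ≤ oP (Nat.card L) := by
          rw [← hc, ← card_RG' L.subtype c]
          rcases h3 with h | h
          · rw [h.1]
          · rw [h]; exact card_le_of_le (cjs_mono c (RS_le_RG _))
        have h5 : Nat.card L ^ 2 ≤ Fintype.card F := hc2 ▸ Nat.pow_le_pow_right (by omega) hm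
        refine (Nat.mul_le_mul h4 hg).trans (le_trans ?_ (Nat.mul_le_mul h5 (Nat.sub_le_sub_right h5 1)))
        rw [oP_eq, mul_right_comm, pow_two]
        exact Nat.mul_le_mul_right _ (Nat.mul_le_mul_left _ hL.le)
    rw [← H.card_mul_index, mul_right_comm] at hS
    apply Nat.le_of_mul_le_mul_left _ hpos
    calc _ = Fintype.card F * (Fintype.card F + 1) * (Fintype.card F - 1) := by ring
      _ ≤ _ := by rw [← hS]; exact Nat.mul_le_mul_right _ key
  · have hc := card_map_of_injective (K := (stabilizer (PGL2 F) (OnePoint.infty : OnePoint F) ⊓ PS F).comap io)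
      io_injective
    rw [map_comap_io inf_le_right] at hc
    rw [← ((stabilizer (PGL2 F) (OnePoint.infty : OnePoint F) ⊓ PS F).comap io).card_mul_index, mul_right_comm,
      ← hc, card_stabS] at hS
    apply Nat.eq_of_mul_eq_mul_left hpos
    rw [hS]; ring

end Cfsg.Agent.S0806
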