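import Cfsg.Statements.S0807
import Mathlib
import Cfsg.Agent.Lib.Perm.Dick9

set_option autoImplicit false
open Cfsg

namespace Cfsg.Agent.S0807

open Cfsg.Agent.Perm Cfsg.Agent.Perm.GL2 Cfsg.Agent.Perm.Tri Subgroup MulAction
open scoped Pointwise

/-- For q odd, twelve times the number of Klein four-subgroups of PSL_2(q) equals the order of PSL_2(q). -/
theorem result {F : Type*} [Field F] [Fintype F] {q : ℕ} (hF : Fintype.card F = q) (hodd : Odd q) : 12 * Nat.card {V : Subgroup (Matrix.ProjectiveSpecialLinearGroup (Fin 2) F) // IsKleinFour V} = Nat.card (Matrix.ProjectiveSpecialLinearGroup (Fin 2) F) := by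
  subst hF
  have h2 := two_ne_zero_of_odd hodd
  obtain ⟨V, h1, h3⟩ := exists_klein (F := F) h2
  obtain ⟨e⟩ := klein_normalizer h2 h3 h1
  have h4 : Nat.card {V : Subgroup (PSL2 F) // IsKleinFour V} = (normalizer (V : Set (PGL2 F))).index := by
    have e1 : (normalizer (V : Set (PGL2 F))).index = (stabilizer (ConjAct (PGL2 F)) V).index := by
      rw [← index_comap_of_surjective (f := (ConjAct.toConjAct (G := PGL2 F)).toMonoidHom) (stabilizer _ V)
        ConjAct.toConjAct.surjective]
      congr 1; ext g; exact cjs_eq_iff.symm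
    rw [e1, index_stabilizer, ← Nat.card_coe_set_eq]
    refine Nat.card_congr (Equiv.ofBijective (fun W => ⟨W.1.map io, ?_⟩) ⟨fun a b h => Subtype.ext
      (map_injective io_injective (congrArg Subtype.val h)), ?_⟩)
    · obtain ⟨c, hc⟩ := klein_conj h2 h3 (isKleinFour_of_equiv (ioEquiv _) W.2) h1 (map_io_le _)
      exact ⟨ConjAct.toConjAct c, hc.symm⟩
    · rintro ⟨_, c, rfl⟩
      have h5 : cjs (ConjAct.ofConjAct c) V ≤ PS F := cjs_normal (ConjAct.ofConjAct c) (PS F) ▸ cjs_mono _ h1
      exact ⟨⟨_, isKleinFour_of_equiv ((ioEquiv _).trans (MulEquiv.subgroupCongr (map_comap_io h5))).symm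
        (isKleinFour_cjs h3 _)⟩, Subtype.ext (map_comap_io h5)⟩
  have h5 := (normalizer (V : Set (PGL2 F))).card_mul_index
  have h6 := card_PSL2_mul (F := F)
  rw [Nat.card_congr e.toEquiv, card_S4, card_PGL2, ← h6, gcd_odd hodd] at h5
  rw [h4]
  change _ = Nat.card (PSL2 F)
  omega

end Cfsg.Agent.S0807
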