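import Cfsg.Statements.S0808
import Mathlib
import Cfsg.Agent.Lib.Perm.Dick9

set_option autoImplicit false
open Cfsg

namespace Cfsg.Agent.S0808

open Cfsg.Agent.Perm Cfsg.Agent.Perm.GL2 Cfsg.Agent.Perm.Tri Subgroup MulAction

/-- Conjugacy classes of four-groups in PSL_2(q), q odd: if q ≡ 3 or 5 (mod 8) all Klein four-subgroups are conjugate; if q ≡ 1 or 7 (mod 8) there are two Klein four-subgroups which are not conjugate, and every Klein four-subgroup is conjugate to one of them. -/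
theorem result {F : Type*} [Field F] [Fintype F] {q : ℕ} (hF : Fintype.card F = q) (hodd : Odd q) : ((q % 8 = 3 ∨ q % 8 = 5) → ∀ V W : Subgroup (Matrix.ProjectiveSpecialLinearGroup (Fin 2) F), IsKleinFour V → IsKleinFour W → ∃ g : Matrix.ProjectiveSpecialLinearGroup (Fin 2) F, W = V.map (MulAut.conj g).toMonoidHom) ∧ ((q % 8 = 1 ∨ q % 8 = 7) → ∃ V₁ V₂ : Subgroup (Matrix.ProjectiveSpecialLinearGroup (Fin 2) F), IsKleinFour V₁ ∧ IsKleinFour V₂ ∧ (¬ ∃ g : Matrix.ProjectiveSpecialLinearGroup (Fin 2) F, V₂ = V₁.map (MulAut.conj g).toMonoidHom) ∧ ∀ W : Subgroup (Matrix.ProjectiveSpecialLinearGroup (Fin 2) F), IsKleinFour W → (∃ g : Matrix.ProjectiveSpecialLinearGroup (Fin 2) F, W = V₁.map (MulAut.conj g).toMonoidHom) ∨ (∃ g : Matrix.ProjectiveSpecialLinearGroup (Fin 2) F, W = V₂.map (MulAut.conj g).toMonoidHom)) := by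
  subst hF
  have h2 := two_ne_zero_of_odd hodd
  have key : ∀ V W : Subgroup (PSL2 F), IsKleinFour V → IsKleinFour W → ∃ c, W.map io = cjs c (V.map io) :=
    fun V W hV hW => klein_conj h2 (isKleinFour_of_equiv (ioEquiv _) hV) (isKleinFour_of_equiv (ioEquiv _) hW)
      (map_io_le _) (map_io_le _)
  have fin : ∀ (V W : Subgroup (PSL2 F)) c, c ∈ PS F → W.map io = cjs c (V.map io) → ∃ g, W = cjs g V :=
    fun V W c hc h => by obtain ⟨g, rfl⟩ := exists_io hc; exact ⟨g, eq_cjs_iff.2 h⟩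
  refine ⟨fun h V W hV hW => ?_, fun h => ?_⟩
  · obtain ⟨c, hc⟩ := key V W hV hW
    by_cases h1 : c ∈ PS F
    · exact fin V W c h1 hc
    obtain ⟨e⟩ := klein_normalizer h2 (isKleinFour_of_equiv (ioEquiv _) hV) (map_io_le _)
    obtain ⟨n, hn, hn'⟩ := SetLike.not_le_iff_exists.1 ((S4_le_PS_iff e).not.2 (by omega))
    exact fin V W (c * n) (mul_mem_PS h1 hn') (by rw [cjs_mul, cjs_eq_iff.2 hn, hc])
  · obtain ⟨V, h1, h3⟩ := exists_klein (F := F) h2
    obtain ⟨w, hw⟩ : ∃ w, w ∉ PS F := by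
      by_contra h4
      push Not at h4
      have := index_PS (F := F)
      rw [(eq_top_iff' _).2 h4, index_top, gcd_odd hodd] at this; omega
    have h5 : cjs w V ≤ PS F := cjs_normal w (PS F) ▸ cjs_mono _ h1
    have a : IsKleinFour (V.comap io) :=
      isKleinFour_of_equiv ((ioEquiv _).trans (MulEquiv.subgroupCongr (map_comap_io h1))).symm h3
    refine ⟨V.comap io, (cjs w V).comap io, a, isKleinFour_of_equiv
      ((ioEquiv _).trans (MulEquiv.subgroupCongr (map_comap_io h5))).symm (isKleinFour_cjs h3 _), ?_, fun W hW => ?_⟩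
    · rintro ⟨g, hg⟩
      have := eq_cjs_iff.1 hg
      rw [map_comap_io h5, map_comap_io h1] at this
      obtain ⟨e⟩ := klein_normalizer h2 h3 h1
      have h6 := (S4_le_PS_iff e).2 h (cjs_eq_iff.1 (show cjs ((io g)⁻¹ * w) V = V by
        rw [cjs_mul, this, cjs_inv_cjs]))
      exact hw (((PS F).mul_mem_cancel_left (inv_mem (io_mem g))).1 h6)
    · obtain ⟨c, hc⟩ := key _ W a hW
      by_cases h6 : c ∈ PS F
      · exact Or.inl (fin _ W c h6 hc)
      · refine Or.inr (fin _ W (c * w⁻¹) (mul_mem_PS h6 (by rwa [inv_mem_iff])) ?_)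
        rw [hc, map_comap_io h5, map_comap_io h1, cjs_mul, cjs_inv_cjs]

end Cfsg.Agent.S0808
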