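import Cfsg.Statements.S0809
import Mathlib
import Cfsg.Agent.Lib.Perm.Dick9

set_option autoImplicit false
open Cfsg

namespace Cfsg.Agent.S0809

open Cfsg.Agent.Perm Cfsg.Agent.Perm.GL2 Cfsg.Agent.Perm.Tri Subgroup MulAction

/-- In SL_2(q), q odd: any two subgroups of order 4 are conjugate, and the normaliser of a subgroup of order 4 has order 2(q − 1) if q ≡ 1 (mod 4) and 2(q + 1) if q ≡ 3 (mod 4); consequently all involutions of PSL_2(q) are conjugate. -/
theorem result {F : Type*} [Field F] [Fintype F] {q : ℕ} (hF : Fintype.card F = q) (hodd : Odd q) (A : Subgroup (Matrix.SpecialLinearGroup (Fin 2) F)) (hA : Nat.card A = 4) : (∀ B : Subgroup (Matrix.SpecialLinearGroup (Fin 2) F), Nat.card B = 4 → ∃ g : Matrix.SpecialLinearGroup (Fin 2) F, B = A.map (MulAut.conj g).toMonoidHom) ∧ (q % 4 = 1 → Nat.card ↥(Subgroup.normalizer (A : Set (Matrix.SpecialLinearGroup (Fin 2) F))) = 2 * (q - 1)) ∧ (q % 4 = 3 → Nat.card ↥(Subgroup.normalizer (A : Set (Matrix.SpecialLinearGroup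 (Fin 2) F))) = 2 * (q + 1)) ∧ (∀ x y : Matrix.ProjectiveSpecialLinearGroup (Fin 2) F, orderOf x = 2 → orderOf y = 2 → IsConj x y) := by
  subst hF
  have h2 := two_ne_zero_of_odd hodd
  have key : ∀ B : Subgroup (SL2 F), Nat.card B = 4 → ∃ g : SL2 F, (g : M2 F).trace = 0 ∧ B = zpowers g := fun B hB => by
    obtain ⟨g, hg, hg2⟩ : ∃ g ∈ B, g ∉ center (SL2 F) := SetLike.not_le_iff_exists.1 fun h => by
      have := card_le_of_le h
      rw [hB, card_center_SL_odd h2] at this; omega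
    have h4 : orderOf g = 4 := by
      have h1 := Subgroup.orderOf_dvd_natCard B hg
      rw [hB, show 4 = 2 ^ 2 from rfl, Nat.dvd_prime_pow Nat.prime_two] at h1
      obtain ⟨k, hk, h1⟩ := h1
      by_contra h3
      refine hg2 (isScal_iff_center_SL.1 (isScal_of_mul_self_eq_one h2 ?_))
      rw [← pow_two, ← orderOf_dvd_iff_pow_eq_one, h1]
      interval_cases k <;> simp_all
    exact ⟨g, trace_of_orderOf_four h2 h4,
      (eq_of_le_of_card_ge (zpowers_le.2 hg) (by rw [hB, Nat.card_zpowers, h4])).symm⟩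
  obtain ⟨a, ha, rfl⟩ := key A hA
  have hr := isReg_of_trace h2 ha
  have hn : Nat.card (normalizer (zpowers a : Set (Matrix.SpecialLinearGroup (Fin 2) F))) = 2 * Nat.card (cent a) := by
    rw [hr.normalizer_eq (zpowers_le.2 (mem_cent.2 rfl)) (mem_zpowers a) hr.not_scal, hr.card_normalizer]
  have h4 := hA ▸ card_dvd_of_le (zpowers_le.2 (mem_cent.2 rfl) : zpowers a ≤ cent a)
  have h5 := hr.card_cent
  refine ⟨fun B hB => ?_, fun h => by rw [hn]; omega, fun h => by rw [hn]; omega, fun x y hx hy => ?_⟩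
  · obtain ⟨b, hb, rfl⟩ := key B hB
    obtain ⟨c, rfl⟩ := isConj_iff.1 (hr.isConj_SL (ha.trans hb.symm))
    exact ⟨c, by rw [MonoidHom.map_zpowers]; rfl⟩
  · have k : ∀ x : PSL2 F, orderOf x = 2 → ∃ g : SL2 F, (g : M2 F).trace = 0 ∧ toP g = x := fun x hx => by
      obtain ⟨g, hg, h⟩ := lift_invol (io_mem x) (by
        rw [Ne, map_eq_one_iff _ io_injective]; exact Cfsg.Agent.Transfer.ne_one_of_orderOf hx)
        (by rw [← map_pow, orderOf_dvd_iff_pow_eq_one.1 hx.dvd, map_one])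
      exact ⟨g, hg, io_injective h⟩
    obtain ⟨g, hg, rfl⟩ := k x hx
    obtain ⟨h, hh, rfl⟩ := k y hy
    exact toP.map_isConj ((isReg_of_trace h2 hg).isConj_SL (hg.trans hh.symm))

end Cfsg.Agent.S0809
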