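import Cfsg.Statements.S0810
import Mathlib
import Cfsg.Agent.Lib.Perm.Dick7

set_option autoImplicit false
open Cfsg

namespace Cfsg.Agent.S0810

open Cfsg.Agent.Perm Cfsg.Agent.Perm.GL2 Cfsg.Agent.Perm.Tri Subgroup MulAction

theorem solvable_A4 : Group.IsSolvable (alternatingGroup (Fin 4)) := by
  let V := alternatingGroup.kleinFour (Fin 4)
  haveI : IsKleinFour V := alternatingGroup.kleinFour_isKleinFour (by simp)
  haveI : V.Normal := alternatingGroup.normal_kleinFour (by simp)
  haveI : Group.IsSolvable V := Group.isSolvable_of_comm fun a b => IsKleinFour.isMulCommutative.is_comm.comm a b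
  haveI : IsCyclic (alternatingGroup (Fin 4) ⧸ V) := isCyclic_of_prime_card (p := 3) (by
    have := V.card_mul_index
    rw [IsKleinFour.card_four, card_A4] at this
    change V.index = 3; omega)
  haveI : Group.IsSolvable (alternatingGroup (Fin 4) ⧸ V) :=
    Group.isSolvable_of_comm fun a b => IsCyclic.isMulCommutative.is_comm.comm a b
  exact Group.isSolvable_of_ker_le_range V.subtype (QuotientGroup.mk' V) (by simp)

theorem solvable_S4 : Group.IsSolvable (Equiv.Perm (Fin 4)) := by
  haveI := solvable_A4
  exact Group.isSolvable_of_ker_le_range (alternatingGroup (Fin 4)).subtype Equiv.Perm.sign (by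
    rw [range_subtype]; exact le_rfl)

theorem solvable_small {F : Type*} [Field F] [Fintype F] (h : Fintype.card F ≤ 3) : Group.IsSolvable (PGL2 F) := by
  have := Fintype.one_lt_card (α := F)
  obtain ⟨e⟩ := iso_PGL2_perm (F := F) (by omega)
  haveI := solvable_S4
  by_cases h3 : Fintype.card F = 3
  · rw [h3] at e; exact Group.isSolvable_of_surjective (f := e.symm.toMonoidHom) e.symm.surjective
  · rw [show Fintype.card F = 2 by omega] at e
    exact Group.isSolvable_of_isSolvable_injective
      (f := (Equiv.Perm.viaEmbeddingHom (Fin.castSuccEmb (n := 3))).comp e.toMonoidHom)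
      ((Equiv.Perm.viaEmbeddingHom_injective _).comp e.injective)

theorem not_solvable {F : Type*} [Field F] [Fintype F] (h : 4 ≤ Fintype.card F) :
    IsSimpleGroup (PSL2 F) ∧ ¬ IsMulCommutative (PSL2 F) ∧ ¬ Group.IsSolvable (PSL2 F) := by
  have hs : IsSimpleGroup (PSL2 F) := Matrix.ProjectiveSpecialLinearGroup.rank_two_simple (by
    rw [Nat.card_eq_fintype_card]; omega)
  have : ¬ ∀ a b : PSL2 F, a * b = b * a := fun hc => by
    have := toP_eq_iff.1 (show toP (upS 1 1 * mkS 1 0 1 1 (by simp)) = toP (mkS 1 0 (1 : F) 1 (by simp) * upS 1 1) by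
      rw [map_mul, map_mul, hc])
    rcases this with e | e
    · have := congrArg (fun g : SL2 F => (g : M2 F) 0 0) e
      simp [mul_apply2] at this
    · have a := congrArg (fun g : SL2 F => (g : M2 F) 0 0) e
      have b := congrArg (fun g : SL2 F => (g : M2 F) 0 1) e
      simp [mul_apply2] at a b
      exact one_ne_zero (α := F) (by linear_combination a - b)
  exact ⟨hs, fun h => this h.is_comm.comm, fun h => this (IsSimpleGroup.comm_iff_isSolvable.2 h)⟩

/-- PSL_2(q) is minimal simple iff q is 2^r (r prime), 3^r (r an odd prime), a prime greater than 5 congruent to 2 or 3 mod 5, or 5. -/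
theorem result {F : Type*} [Field F] [Fintype F] {q : ℕ} (hF : Fintype.card F = q) : Cfsg.IsMinimalSimple (Matrix.ProjectiveSpecialLinearGroup (Fin 2) F) ↔ ((∃ r : ℕ, r.Prime ∧ q = 2 ^ r) ∨ (∃ r : ℕ, r.Prime ∧ r ≠ 2 ∧ q = 3 ^ r) ∨ (q.Prime ∧ 5 < q ∧ (q % 5 = 2 ∨ q % 5 = 3)) ∨ q = 5) := by
  subst hF
  obtain ⟨p, hp⟩ := CharP.exists F
  haveI hp := Fact.mk (CharP.char_is_prime F p)
  obtain ⟨n, -, hn⟩ := FiniteField.card F p
  have hS := card_PS' (F := F)
  constructor
  · rintro ⟨h1, h2, h3⟩
    have h4 : 4 ≤ Fintype.card F := by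
      by_contra h4
      haveI := solvable_small (F := F) (by omega)
      exact h2 ⟨⟨IsSimpleGroup.comm_iff_isSolvable.2 (Group.isSolvable_of_isSolvable_injective io_injective)⟩⟩
    have h5 : ∀ X : Subgroup (PGL2 F), X < PS F → Group.IsSolvable X := fun X hX => by
      have := h3 (X.comap io) fun e => hX.ne (by rw [← map_comap_io hX.le, e, ← MonoidHom.range_eq_map, range_io])
      rw [← map_comap_io hX.le]
      exact Group.isSolvable_of_surjective (f := (ioEquiv (X.comap io)).toMonoidHom) (ioEquiv _).surjective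
    have h6 : ∀ a b, 0 < a → 2 ≤ b → (n : ℕ) = a * b → p ^ a ≤ 3 := fun a b ha hb hab => by
      by_contra h6
      have h7 : Fintype.card F = (p ^ a) ^ b := by rw [hn, hab, pow_mul]
      obtain ⟨L, hL⟩ := exists_subfield h7
      letI := Fintype.ofFinite L
      haveI := h5 _ (lt_of_card_lt (cjs_RS_le L.subtype 1) (ne_of_lt (lt_of_le_of_lt
        (card_le_of_le (cjs_mono 1 (RS_le_RG _))) (cjs_RG_lt L.subtype (by rw [hL, h7]) hb 1))))
      exact (not_solvable (F := L) (by rw [← Nat.card_eq_fintype_card, hL]; omega)).2.2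
        (Group.isSolvable_of_isSolvable_injective (f := ((rsEquiv L.subtype).trans (cjsEquiv 1 _)).toMonoidHom)
          (MulEquiv.injective _))
    have h7 : 5 ∣ oP (Fintype.card F) → Fintype.card F ≤ 5 := fun h7 => by
      by_contra h8
      obtain ⟨X, ⟨e⟩⟩ := exists_A5' h7
      have h9 := card_PS_ge (F := F) (n := 6) (by omega)
      rw [show oP 6 = 210 from rfl] at h9
      haveI := h5 X (lt_of_card_lt (A5_le_PS e) (by rw [Nat.card_congr e.toEquiv, card_A5]; omega))
      haveI := simple_A5
      exact absurd (IsSimpleGroup.comm_iff_isSolvable.2 (Group.isSolvable_of_surjective (f := e.toMonoidHom)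
        e.surjective) a5 b5) (by decide +kernel)
    rw [five_dvd_oP] at h7
    by_cases h8 : (n : ℕ) = 1
    · rw [h8, pow_one] at hn
      have := hp.out
      rw [← hn] at this
      have h9 : Fintype.card F ≠ 4 := fun e => by rw [e] at this; revert this; decide
      by_cases h10 : Fintype.card F = 5
      · exact Or.inr (Or.inr (Or.inr h10))
      · exact Or.inr (Or.inr (Or.inl ⟨this, by omega, by omega⟩))
    have h9 : 2 ≤ (n : ℕ) := by have : 0 < (n : ℕ) := n.2; omega
    have h10 : (n : ℕ).Prime := by
      by_contra h10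
      obtain ⟨a, ⟨b, hb⟩, ha, ha2⟩ := Nat.exists_dvd_of_not_prime2 h9 h10
      have := h6 a b (by omega) (by rcases b with _ | _ | b <;> omega) hb
      have : 2 ^ 2 ≤ p ^ a := (Nat.pow_le_pow_left hp.out.two_le 2).trans (Nat.pow_le_pow_right hp.out.pos ha)
      omega
    have h11 := h6 1 n one_pos h9 (one_mul _).symm
    have := hp.out.two_le
    rw [pow_one] at h11
    obtain rfl | rfl : p = 2 ∨ p = 3 := by omega
    · exact Or.inl ⟨n, h10, hn⟩
    · refine Or.inr (Or.inl ⟨n, h10, fun e => ?_, hn⟩)
      rw [e] at hn; rw [hn] at h7; omega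
  · intro h
    have h4 : 4 ≤ Fintype.card F := by
      rcases h with ⟨r, h, e⟩ | ⟨r, h, -, e⟩ | h | h
      · rw [e]; exact Nat.pow_le_pow_right two_pos h.two_le
      · rw [e]; exact le_trans (by norm_num) (Nat.pow_le_pow_right three_pos h.two_le)
      · omega
      · omega
    refine ⟨(not_solvable h4).1, (not_solvable h4).2.1, fun H hH => ?_⟩
    have hlt : H.map io < PS F := lt_of_le_of_ne (map_io_le H) fun e => hH (map_injective io_injective (by
      rw [e, ← MonoidHom.range_eq_map, range_io]))
    suffices Group.IsSolvable (H.map io) from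
      Group.isSolvable_of_isSolvable_injective (f := (ioEquiv H).toMonoidHom) (ioEquiv H).injective
    rcases dickson_lt p hlt with ⟨t, s, h2, h3⟩ | ⟨x, hx⟩ | ⟨-, ⟨⟨e⟩⟩ | ⟨⟨e⟩⟩⟩ | ⟨-, ⟨e⟩⟩ | ⟨L, c, m, hL, hm, hc2, h3⟩
    · exact solvable_of_dih h2.inv h2.sq h3
    · exact solvable_of_fix (p := p) hx
    · haveI := solvable_A4
      exact Group.isSolvable_of_isSolvable_injective (f := e.toMonoidHom) e.injective
    · haveI := solvable_S4
      exact Group.isSolvable_of_isSolvable_injective (f := e.toMonoidHom) e.injective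
    · exfalso
      have h5 := five_dvd_oP.1 (five_dvd_of_A5 e)
      have h6 := card_lt_of_lt hlt
      rw [Nat.card_congr e.toEquiv, card_A5] at h6
      have key : ∀ a j : ℕ, a % 5 = 4 → a ^ j % 5 = 1 ∨ a ^ j % 5 = 4 := fun a j ha => by
        induction j with
        | zero => simp
        | succ j ih => rw [pow_succ, Nat.mul_mod, ha]; omega
      rcases h with ⟨r, h, e⟩ | ⟨r, h, h', e⟩ | h | h
      · rcases h.eq_two_or_odd' with rfl | ⟨k, rfl⟩
        · rw [e] at hS; simp only [oP, Nat.reducePow, Nat.reduceSub, Nat.reduceGcd] at hS; omega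
        · have := key (2 ^ 2) k rfl
          rw [e, pow_succ, pow_mul] at h5; omega
      · obtain ⟨k, rfl⟩ := h.odd_of_ne_two h'
        have := key (3 ^ 2) k rfl
        rw [e, pow_succ, pow_mul] at h5; omega
      · omega
      · rw [h] at hS; simp only [oP, Nat.reduceSub, Nat.reduceGcd] at hS; omega
    · have key : ∀ a r : ℕ, a.Prime → r.Prime → Fintype.card F = a ^ r → Nat.card L = a := fun a r ha hr e => by
        obtain ⟨i, -, hi⟩ := (Nat.dvd_prime_pow ha).1
          (show Nat.card L ∣ a ^ r by rw [← e, hc2]; exact dvd_pow_self _ (by omega))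
        rw [hc2, hi, ← pow_mul] at e
        have h5 := Nat.pow_right_injective ha.two_le e
        rcases (Nat.dvd_prime hr).1 (Dvd.intro _ h5) with e | e
        · rw [hi, e, pow_one]
        · rw [← e] at h5
          have := hr.pos
          nlinarith
      have h5 : Nat.card L = 3 := by
        rcases h with ⟨r, h, e⟩ | ⟨r, h, -, e⟩ | h | h
        · have := key 2 r Nat.prime_two h e; omega
        · exact key 3 r Nat.prime_three h e
        · exact absurd hc2 (not_prime_pow h.1 hm)
        · exact absurd (h ▸ hc2) (not_prime_pow Nat.prime_five hm)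
      letI := Fintype.ofFinite L
      haveI := solvable_small (F := L) (by rw [← Nat.card_eq_fintype_card, h5])
      haveI : Group.IsSolvable (cjs c (RG L.subtype)) := Group.isSolvable_of_surjective
        (f := ((rgEquiv L.subtype).trans (cjsEquiv c _)).toMonoidHom) (MulEquiv.surjective _)
      have : H.map io ≤ cjs c (RG L.subtype) := by
        rcases h3 with h3 | h3
        · exact h3.1.le
        · exact h3 ▸ cjs_mono c (RS_le_RG _)
      exact Group.isSolvable_of_isSolvable_injective (inclusion_injective this)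

end Cfsg.Agent.S0810
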