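import Cfsg.Statements.S0811
import Mathlib
import Cfsg.Agent.Lib.Perm.Dick7

set_option autoImplicit false
open Cfsg

namespace Cfsg.Agent.S0811

open Cfsg.Agent.Perm Cfsg.Agent.Perm.GL2 Cfsg.Agent.Perm.Tri Subgroup MulAction

/-- For q ∉ {2, 7, 9}, PSL_2(q) has a maximal subgroup isomorphic to the dihedral group of order 2(q + 1)/d, d = gcd(2, q − 1). -/
theorem result {F : Type*} [Field F] [Fintype F] {q : ℕ} (hF : Fintype.card F = q) (hq : q ∉ ({2, 7, 9} : Finset ℕ)) : ∃ H : Subgroup (Matrix.ProjectiveSpecialLinearGroup (Fin 2) F), IsCoatom H ∧ Nonempty (H ≃* DihedralGroup ((q + 1) / Nat.gcd 2 (q - 1))) := by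
  subst hF
  obtain ⟨t, s, h, ho⟩ := exists_dihS (F := F) (Or.inl rfl)
  have : (Fintype.card F + 1) / Nat.gcd 2 (Fintype.card F - 1) = orderOf t := by
    rw [← ho, Nat.mul_div_cancel _ (Nat.gcd_pos_of_pos_left _ two_pos)]
  rw [this]
  exact exists_coatom_of_covBy (h.covBy (Or.inl ⟨ho, hq⟩)) h.iso

end Cfsg.Agent.S0811
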