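import Cfsg.Statements.S0812
import Mathlib
import Cfsg.Agent.Lib.Perm.Dick7

set_option autoImplicit false
open Cfsg

namespace Cfsg.Agent.S0812

open Cfsg.Agent.Perm Cfsg.Agent.Perm.GL2 Cfsg.Agent.Perm.Tri Subgroup MulAction

/-- For q ∉ {2, 3, 5, 7, 9, 11}, PSL_2(q) has a maximal subgroup isomorphic to the dihedral group of order 2(q − 1)/d, d = gcd(2, q − 1). -/
theorem result {F : Type*} [Field F] [Fintype F] {q : ℕ} (hF : Fintype.card F = q) (hq : q ∉ ({2, 3, 5, 7, 9, 11} : Finset ℕ)) : ∃ H : Subgroup (Matrix.ProjectiveSpecialLinearGroup (Fin 2) F), IsCoatom H ∧ Nonempty (H ≃* DihedralGroup ((q - 1) / Nat.gcd 2 (q - 1))) := by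
  subst hF
  obtain ⟨t, s, h, ho⟩ := exists_dihS (F := F) (Or.inr ⟨rfl, by
    have := Fintype.one_lt_card (α := F)
    simp only [Finset.mem_insert, Finset.mem_singleton, not_or] at hq; omega⟩)
  have : (Fintype.card F - 1) / Nat.gcd 2 (Fintype.card F - 1) = orderOf t :=
    Nat.div_eq_of_eq_mul_left (Nat.gcd_pos_of_pos_left _ two_pos) ho.symm
  rw [this]
  exact exists_coatom_of_covBy (h.covBy (Or.inr ⟨ho, hq⟩)) h.iso

end Cfsg.Agent.S0812
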