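import Cfsg.Statements.S0813
import Mathlib
import Cfsg.Agent.Lib.Perm.Aut16

set_option autoImplicit false
open Cfsg

namespace Cfsg.Agent.S0813



/-- |Aut(PSL_n(q))|, q = p^f: for n ≥ 3 it is 2 f |PGL_n(q)|, and for n = 2 (q ≥ 4) it is f |PGL_2(q)|. -/
theorem result {F : Type*} [Field F] [Fintype F] (p f : ℕ) [Fact p.Prime] (hf : 1 ≤ f) (hF : Fintype.card F = p ^ f) (n : ℕ) (hn : 2 ≤ n) (h2 : n = 2 → 4 ≤ p ^ f) : Nat.card (MulAut (Matrix.ProjectiveSpecialLinearGroup (Fin n) F)) = (if n = 2 then 1 else 2) * f * Nat.card (Matrix.ProjGenLinGroup (Fin n) F) := by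
  haveI := Perm.Aut.charP_of_card' F p hF
  obtain ⟨e⟩ := Perm.Aut.nonempty_PGL (Perm.Aut.repSL n hn F).cov p (by simpa using hn)
  rw [← Nat.card_congr e.toEquiv]
  split_ifs with h
  · obtain ⟨ψ, -, h1, h2⟩ := Perm.Aut.exists_psi2 (Perm.Aut.repSL n hn F).cov p (by simpa using h)
    refine (Perm.Aut.card_eq_of_surj ψ h1).trans ?_
    rw [← h2, Perm.Aut.card_autF F p hF]; ring
  · obtain ⟨ψ, h1, h2⟩ := Perm.Aut.exists_psi3' (Perm.Aut.repSL n hn F).cov p (by simp; omega)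
    refine (Perm.Aut.card_eq_of_surj ψ h1).trans ?_
    rw [← h2, Nat.card_prod, Perm.Aut.card_autF F p hF]; simp; ring

end Cfsg.Agent.S0813
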