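import Cfsg.Statements.S0814
import Cfsg.Agent.Lib.Chev.Cl8

set_option autoImplicit false
open Cfsg

namespace Cfsg.Agent.S0814

/-- |Aut(PSp_2m(q))| = gcd(2, q−1) · f · |PSp_2m(q)| for q = p^f, m ≥ 2, (m, q) ≠ (2, 2), with an extra factor 2 exactly when m = 2 and p = 2. -/
theorem result {F : Type*} [Field F] [Fintype F] (p f : ℕ) [Fact p.Prime] (hf : 1 ≤ f) (hF : Fintype.card F = p ^ f) (m : ℕ) (hm : 2 ≤ m) (h22 : m = 2 → 3 ≤ p ^ f) : Nat.card (MulAut (Cfsg.PSp m F)) = (if m = 2 ∧ p = 2 then 2 else 1) * Nat.gcd 2 (p ^ f - 1) * f * Nat.card (Cfsg.PSp m F) := by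
  have h := Perm.Aut.fth_Sp m hm (Perm.Aut.repSp m (by omega) F).cov
  have : Nontrivial (Fin m ⊕ Fin m → F) := Module.nontrivial_of_finrank_pos (R := F) (by rw [Perm.Aut.finrank_sum]; omega)
  refine h.card_aut.trans (congrArg (· * _) ?_)
  have : CharP F p := Perm.Aut.charP_of_card' F p hF
  split_ifs with h1
  · obtain ⟨rfl, rfl⟩ := h1
    rw [← Nat.card_congr (Chev.out_equiv (Chev.Cl.iso_C2 F).some).some.toEquiv, (Chev.out_B2 hF).2,
      Nat.coprime_two_left.2 (Nat.Even.sub_odd Nat.one_le_two_pow (by simp [Nat.even_pow]; omega) odd_one)]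
  let R := h.orep Perm.Aut.Semi_le_Nrm_E (Perm.Aut.range_Sp m hm fun h2 h3 => h1 ⟨h3,
    (Nat.prime_dvd_prime_iff_eq Fact.out Nat.prime_two).1 ((CharP.cast_eq_zero_iff F p 2).1 (by simpa using h2))⟩)
  rw [R.card_eq hF (Perm.Aut.tau_surj_of_fld R fun σ => ⟨_, Perm.Aut.sp_fld m σ⟩), Nat.card_congr (Perm.Aut.symp_ker m (by omega) R).some.toEquiv,
    Nat.card_congr Multiplicative.toAdd, Nat.card_zmod, hF, one_mul]

end Cfsg.Agent.S0814
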