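import Cfsg.Statements.S2604
import Mathlib
import Cfsg.Agent.Lib.Perm.Aut12

set_option autoImplicit false
open Cfsg

namespace Cfsg.Agent.S2604



/-- Outer automorphism group of the simple orthogonal group Ω_(2m+1)(q), m ≥ 3, q = p^f odd: it is the direct product of a group of order 2 (diagonal automorphisms, from SO) and a cyclic group of order f (field automorphisms). -/
theorem result {F : Type*} [Field F] [Fintype F] {p f m : ℕ} [Fact p.Prime] (hf : 1 ≤ f) (hF : Fintype.card F = p ^ f) (hp : p ≠ 2) (hm : 3 ≤ m) : Nonempty (Cfsg.Out (Cfsg.POmega F (Cfsg.quadFormOdd m F)) ≃* Multiplicative (ZMod 2 × ZMod f)) := by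
  have h2 : (2 : F) ≠ 0 := fun h => hp ((Perm.Aut.two_eq_zero_iff hF).1 h)
  have hn : 5 ≤ Module.finrank F (Unit ⊕ (Fin m ⊕ Fin m) → F) := by rw [Perm.Aut.finrank_odd]; omega
  let R := Perm.Aut.orepO _ (Classical.oddForm_nondeg m h2) hn (Perm.Aut.range_odd m h2 hn)
  obtain ⟨e⟩ := Perm.Aut.odd_ker (Classical.oddForm_nondeg m h2) (by rw [Perm.Aut.finrank_odd]; simp)
    (by omega) R
  exact R.prod_two (fun σ => ⟨_, Perm.Aut.odd_fld m σ⟩) hF e

end Cfsg.Agent.S2604
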