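import Cfsg.Statements.S0817
import Mathlib
import Cfsg.Agent.Lib.Perm.Aut21

set_option autoImplicit false
open Cfsg

namespace Cfsg.Agent.S0817



/-- |Aut(PΩ⁺_2m(q))| for q = p^f, m ≥ 4: |PΩ⁺_2m(q)| times f, times 3 when m = 4, times 2 if p = 2, and times 8 or 4 if p is odd according as m(q−1)/2 is even or odd. -/
theorem result {F : Type*} [Field F] [Fintype F] (p f : ℕ) [Fact p.Prime] (hf : 1 ≤ f) (hF : Fintype.card F = p ^ f) (m : ℕ) (hm : 4 ≤ m) : Nat.card (MulAut (Cfsg.POmega F (Cfsg.quadFormPlus m F))) = (if m = 4 then 3 else 1) * (if p = 2 then 2 else (if Even (m * (p ^ f - 1) / 2) then 8 else 4)) * f * Nat.card (Cfsg.POmega F (Cfsg.quadFormPlus m F)) := by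
  have hn : 5 ≤ Module.finrank F (Fin m ⊕ Fin m → F) := by rw [Perm.Aut.finrank_sum]; omega
  refine (Perm.Aut.card_autO _ (Classical.plusForm_nondeg m) hn).trans ?_
  congr 1
  have h2 := Perm.Aut.two_eq_zero_iff hF
  by_cases h4 : m = 4
  · subst h4
    refine (Perm.Aut.card_out8 (Perm.Aut.covP 4 (by omega) F)).trans ?_
    rw [Perm.Aut.card_autF F p hF, if_pos rfl]
    by_cases hp : p = 2
    · rw [if_pos hp, if_pos (h2.2 hp)]
    · rw [if_neg hp, if_neg (mt h2.1 hp), if_pos ⟨p ^ f - 1, by omega⟩]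
  let R := Perm.Aut.orepO _ (Classical.plusForm_nondeg m) hn (Perm.Aut.range_plus m (by omega) hn)
  have H := Perm.Aut.ev_plus (F := F) m (by omega)
  refine (R.card_eq hF (Perm.Aut.tau_surj_of_fld R (Perm.Aut.plus_fld_mem m))).trans ?_
  rw [H.card_ker, if_neg h4, one_mul]
  congr 1
  by_cases hp : p = 2
  · rw [if_pos hp, if_pos (h2.2 hp)]
  have h2 : (2 : F) ≠ 0 := mt h2.1 hp
  have ho := Classical.odd_of_two_ne_zero h2
  rw [if_neg hp, if_neg h2, H.sp_neg h2 (η := 1) (Classical.plusForm_isType m), hF]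
  rw [hF, Nat.odd_iff] at ho
  by_cases h : p ^ f % 4 = 3 ∧ Odd m
  · rw [if_pos h, if_neg (by decide), if_neg (by rw [Perm.Aut.even_half_iff ho]; exact not_not.2 h)]
  · rw [if_neg h, if_pos (by decide), if_pos ((Perm.Aut.even_half_iff ho).2 h)]

end Cfsg.Agent.S0817
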