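import Cfsg.Statements.S0818
import Mathlib
import Cfsg.Agent.Lib.Perm.Aut12

set_option autoImplicit false
open Cfsg

namespace Cfsg.Agent.S0818



/-- |Aut(PΩ⁻_2m(q))| for q = p^f, m ≥ 4 (form quadFormMinus (m−1) with anisotropic binary part): |PΩ⁻_2m(q)| times f, times 2 if p = 2, and times 4 or 8 if p is odd according as m(q−1)/2 is even or odd. -/
theorem result {F : Type*} [Field F] [Fintype F] (p f : ℕ) [Fact p.Prime] (hf : 1 ≤ f) (hF : Fintype.card F = p ^ f) (m : ℕ) (hm : 4 ≤ m) (a b : F) (hab : ∀ z₁ z₂ : F, z₁ ^ 2 + a * z₁ * z₂ + b * z₂ ^ 2 = 0 → z₁ = 0 ∧ z₂ = 0) : Nat.card (MulAut (Cfsg.POmega F (Cfsg.quadFormMinus (m - 1) F a b))) = (if p = 2 then 2 else (if Even (m * (p ^ f - 1) / 2) then 4 else 8)) * f * Nat.card (Cfsg.POmega F (Cfsg.quadFormMinus (m - 1) F a b)) := by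
  obtain ⟨m, rfl⟩ : ∃ k, m = k + 1 := ⟨m - 1, by omega⟩
  have hn : 5 ≤ Module.finrank F ((Fin m ⊕ Fin m) ⊕ Fin 2 → F) := by rw [Perm.Aut.finrank_minus]; omega
  let R := Perm.Aut.orepO _ (Classical.minusForm_nondeg m hab) hn (Perm.Aut.range_minus m hab hn)
  have H := Perm.Aut.ev_minus m (by omega) hab
  refine (Perm.Aut.card_autO _ (Classical.minusForm_nondeg m hab) hn).trans ?_
  congr 1
  rw [R.card_eq hF (H.minus_surj (Classical.minusForm_isType m hab) R hF), H.card_ker]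
  congr 1
  by_cases hp : p = 2
  · rw [if_pos hp, if_pos ((Perm.Aut.two_eq_zero_iff hF).2 hp)]
  have h2 : (2 : F) ≠ 0 := fun h => hp ((Perm.Aut.two_eq_zero_iff hF).1 h)
  have ho := Classical.odd_of_two_ne_zero h2
  rw [if_neg hp, if_neg h2, H.sp_neg h2 (η := -1) (Classical.minusForm_isType m hab), hF]
  rw [hF, Nat.odd_iff] at ho
  by_cases h : p ^ f % 4 = 3 ∧ Odd (m + 1)
  · rw [if_pos h, if_pos (by decide), if_neg (by rw [Perm.Aut.even_half_iff ho]; exact not_not.2 h)]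
  · rw [if_neg h, if_neg (by decide), if_pos ((Perm.Aut.even_half_iff ho).2 h)]

end Cfsg.Agent.S0818
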