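import Cfsg.Statements.S0820
import Cfsg.Agent.Lib.Classical.Small2
import Cfsg.Agent.S2579

set_option autoImplicit false
open Cfsg

namespace Cfsg.Agent.S0820
open Cfsg.Agent.Classical


/-- Any two elements of order 2 of PSL_3(4) are conjugate. -/
theorem result {F : Type*} [Field F] [Fintype F] (hF : Fintype.card F = 4) (x y : Matrix.ProjectiveSpecialLinearGroup (Fin 3) F) (hx : orderOf x = 2) (hy : orderOf y = 2) : IsConj x y := by
  obtain ⟨h2, -⟩ := Pres.four_cases hF
  have key : ∀ x : Matrix.ProjectiveSpecialLinearGroup (Fin 3) F, orderOf x = 2 →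
      ∃ B : Matrix.SpecialLinearGroup (Fin 3) F, IsTransvection B.1 ∧ QuotientGroup.mk' _ B = x := fun x hx => by
    obtain ⟨A, rfl⟩ := QuotientGroup.mk_surjective x
    have e1 : (A : Matrix.ProjectiveSpecialLinearGroup (Fin 3) F) ^ 2 = 1 := hx ▸ pow_orderOf_eq_one _
    have e2 : QuotientGroup.mk' _ (A ^ 3) = (A : Matrix.ProjectiveSpecialLinearGroup (Fin 3) F) := by
      rw [map_pow, QuotientGroup.mk'_apply, pow_succ, e1, one_mul]
    obtain ⟨r, r1, r2⟩ := Matrix.SpecialLinearGroup.mem_center_iff.1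
      ((QuotientGroup.eq_one_iff (A ^ 2)).1 (by rw [QuotientGroup.mk_pow]; exact e1))
    have e3 : (A ^ 3).1 * (A ^ 3).1 = 1 := by
      have : (A ^ 3).1 * (A ^ 3).1 = (A ^ 2).1 ^ 3 := by
        show A.1 ^ 3 * A.1 ^ 3 = (A.1 ^ 2) ^ 3
        rw [← pow_add, ← pow_mul]
      rw [this, ← r2, ← map_pow, show r ^ 3 = 1 by simpa using r1, map_one]
    have e4 : ((A ^ 3).1 - 1) * ((A ^ 3).1 - 1) = 0 := by
      rw [sub_mul, mul_sub, mul_sub, e3, mul_one, one_mul, one_mul, ← neg_sub (A ^ 3).1, ← neg_add', ← two_smul F, h2]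
      simp
    refine ⟨A ^ 3, ⟨?_, e4⟩, e2⟩
    have e5 := Matrix.rank_add_rank_le_card_of_mul_eq_zero e4
    have e6 : ((A ^ 3).1 - 1).rank ≠ 0 := fun h => by
      have h' : A ^ 3 = 1 := Subtype.ext (sub_eq_zero.1 (by
        rw [Matrix.rank, Submodule.finrank_eq_zero, LinearMap.range_eq_bot] at h
        exact Matrix.toLin'.injective (by simpa [Matrix.toLin'_apply'] using h)))
      rw [← e2, h', map_one, orderOf_one] at hx
      omega
    simp only [Fintype.card_fin] at e5
    omega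
  obtain ⟨A, a1, rfl⟩ := key x hx
  obtain ⟨B, b1, rfl⟩ := key y hy
  exact MonoidHom.map_isConj _ (S2579.result (le_refl 3) A B a1 b1)

end Cfsg.Agent.S0820
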