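import Cfsg.Statements.S0821
import Cfsg.Agent.Lib.Chev.BC1

set_option autoImplicit false
open Cfsg

namespace Cfsg.Agent.S0821

/-- PSp_2m(q) ≇ PΩ_(2m+1)(q) for q odd and m ≥ 3 (they have the same order). -/
theorem result {F : Type*} [Field F] [Fintype F] (hodd : Odd (Fintype.card F)) (m : ℕ) (hm : 3 ≤ m) : IsEmpty (Cfsg.PSp m F ≃* Cfsg.POmega F (Cfsg.quadFormOdd m F)) := by
  refine ⟨fun e => ?_⟩
  obtain ⟨n, rfl⟩ : ∃ n, m = n + 1 := ⟨m - 1, by omega⟩
  obtain ⟨p, _⟩ := CharP.exists F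
  have := Fact.mk (CharP.char_is_prime F p)
  have hp : p ≠ 2 := by
    rintro rfl
    exact Classical.two_ne_zero_of_odd hodd CharTwo.two_eq_zero
  have X := Chev.Cl.frameO n F
  have hG := (X.qa (by omega) (by omega) (by omega)).S_Gx
  obtain ⟨f⟩ := X.exists_st (by omega) (by omega) (by omega) (.inl (by omega))
  exact Chev.not_BC (by omega) _ _ p (Chev.St.quot_Gx hG) (Chev.St.hMul_of_inj (Chev.St.quot_inj hG)) fun Q Q₁ Q₂ a b =>
    Chev.BC.commute_of p (by omega) hp (π := (e.trans f.symm).toMonoidHom.comp (QuotientGroup.mk' _))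
      ((e.trans f.symm).surjective.comp (QuotientGroup.mk'_surjective _)) (fun g hg => (QuotientGroup.eq_one_iff g).1
        ((e.trans f.symm).map_eq_one_iff.1 hg)) Q Q₁ Q₂

end Cfsg.Agent.S0821
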