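import Cfsg.Statements.S0823
import Cfsg.Agent.Lib.Classical.Heart

set_option autoImplicit false
open Cfsg

namespace Cfsg.Agent.S0823
open Cfsg.Agent.Classical


/-- SO_3(3) ≅ S_4: the determinant-one isometries of the form x_0² + x_1y_1 over the field with 3 elements form a group isomorphic to the symmetric group on 4 letters. -/
theorem result {F : Type*} [Field F] [Fintype F] (hF : Fintype.card F = 3) : Nonempty (↥(Cfsg.specialIsometryGroup F (Cfsg.quadFormOdd 1 F)) ≃* Equiv.Perm (Fin 4)) := by
  have h3 : (3 : F) = 0 := by simpa [hF] using FiniteField.cast_card_eq_zero F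
  have h2 : (2 : F) ≠ 0 := fun h => one_ne_zero (α := F) (by linear_combination h3 - h)
  have hΦ := oddForm_nondeg 1 h2
  have hG := Form.good_of_two hΦ h2
  let π : (Fin 4 → F) →ₗ[F] (Unit ⊕ (Fin 1 ⊕ Fin 1) → F) :=
    { toFun u := Sum.elim (fun _ => u 0 - u 2 - u 3) (Sum.elim ![u 2] ![-u 3])
      map_add' u v := by ext (i | i | i) <;> fin_cases i <;> simp <;> ring
      map_smul' c v := by ext (i | i | i) <;> fin_cases i <;> simp <;> ring }
  obtain ⟨φ, hφ⟩ := exists_perm_hom hΦ π (fun w => ⟨![w (.inl ()) + w (.inr (.inl 0)) - w (.inr (.inr 0)),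
    -w (.inl ()) - 2 * w (.inr (.inl 0)) + 2 * w (.inr (.inr 0)), w (.inr (.inl 0)), -w (.inr (.inr 0))],
    by simp [mem_sumZero, Fin.sum_univ_four]; ring, by ext (i | i | i) <;> fin_cases i <;> simp [π]; ring⟩) (-1) fun u hu => by
      simp [mem_sumZero, Fin.sum_univ_four] at hu
      simp [oddForm_N, quadFormOdd, π, Multiset.esymm, List.ofFn_succ, ← Multiset.cons_coe, Multiset.powersetCard_one]
      grind
  obtain ⟨ψ, hψ⟩ := exists_proj_SO hΦ hG (by simp; decide)
  have e : specialIsometryGroup F (quadFormOdd 1 F) ≃* (hG.dick hΦ).ker :=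
    ((orthEquiv (oddForm 1 F)).subgroupMap _).trans (MulEquiv.subgroupCongr (by
      ext g
      obtain ⟨g, rfl⟩ := (orthEquiv (oddForm 1 F)).surjective g
      exact (Subgroup.mem_map_iff_mem (orthEquiv _).injective).trans ((mem_special_iff _ g).trans
        (hG.dick_eq_one_iff hΦ h2).symm)))
  have c1 := card_orth_odd 1 _ hΦ (by simp)
  have c2 := (hG.dick hΦ).ker.index_mul_card
  rw [index_ker_of_neg_one (dick_neg hΦ hG (by simp; decide)), c1, Nat.card_eq_fintype_card (α := F), hF,
    Finset.prod_range_one] at c2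
  have : Finite (hG.dick hΦ).ker := Nat.finite_of_card_ne_zero (by omega)
  refine ⟨e.trans (MulEquiv.ofBijective (ψ.comp φ) ((Nat.bijective_iff_injective_and_card _).2
    ⟨(injective_iff_map_eq_one _).2 fun g h => ?_, by rw [Nat.card_perm]; simp only [Nat.card_eq_fintype_card (α := Fin 4), Fintype.card_fin, Nat.factorial]; omega⟩)).symm⟩
  obtain ⟨c, hc, k⟩ := hψ (φ g)
  have k1 : ∀ u ∈ sumZero F (Fin 4), ∀ i, u i = c * u (g⁻¹ i) := fun u hu => by
    have := k (π u)
    rw [hφ g u hu, show ψ (φ g) = 1 from h] at this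
    have a := congrFun this (.inl ())
    have b := congrFun this (.inr (.inl 0))
    have d := congrFun this (.inr (.inr 0))
    have e := permRep_mem g u hu
    simp [π, permRep_apply, mem_sumZero, Fin.sum_univ_four] at a b d e hu
    intro i; fin_cases i <;> simp <;> grind
  refine inv_eq_one.1 (Equiv.ext fun i => by_contra fun hi => ?_)
  obtain ⟨j, -, hj⟩ := Finset.exists_mem_notMem_of_card_lt_card (s := {i, g⁻¹ i}) (t := Finset.univ)
    (Finset.card_le_two.trans_lt (by simp))
  simp only [Finset.mem_insert, Finset.mem_singleton, not_or] at hj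
  have := k1 (Pi.single i 1 - Pi.single j 1) (by simp [mem_sumZero]) i
  rw [Pi.sub_apply, Pi.sub_apply, Pi.single_eq_of_ne (show g⁻¹ i ≠ i from hi), Pi.single_eq_of_ne (Ne.symm hj.1),
    Pi.single_eq_of_ne (Ne.symm hj.2)] at this
  simp at this

end Cfsg.Agent.S0823
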