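import Cfsg.Statements.S0824
import Cfsg.Agent.Lib.Classical.Heart

set_option autoImplicit false
open Cfsg

namespace Cfsg.Agent.S0824
open Cfsg.Agent.Classical


/-- O⁻_4(2) ≅ S_5: the isometry group of the form x y + z_1² + z_1 z_2 + z_2² over the field with 2 elements is isomorphic to the symmetric group on 5 letters. -/
theorem result {F : Type*} [Field F] [Fintype F] (hF : Fintype.card F = 2) : Nonempty (↥(Cfsg.isometryGroup F (Cfsg.quadFormMinus 1 F 1 1)) ≃* Equiv.Perm (Fin 5)) := by
  have h2 : (2 : F) = 0 := by simpa [hF] using FiniteField.cast_card_eq_zero F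
  have hab : ∀ z₁ z₂ : F, z₁ ^ 2 + 1 * z₁ * z₂ + 1 * z₂ ^ 2 = 0 → z₁ = 0 ∧ z₂ = 0 := fun x y h => by
    have a := FiniteField.pow_card x
    have b := FiniteField.pow_card y
    rw [hF] at a b
    grind
  let π : (Fin 5 → F) →ₗ[F] ((Fin 1 ⊕ Fin 1) ⊕ Fin 2 → F) :=
    { toFun u := Sum.elim (Sum.elim ![u 3] ![u 4]) ![u 0 + u 3 + u 4, u 2 + u 3 + u 4]
      map_add' u v := by ext ((i | i) | i) <;> fin_cases i <;> simp <;> ring
      map_smul' c v := by ext ((i | i) | i) <;> fin_cases i <;> simp <;> ring }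
  refine (nonempty_perm_equiv (minusForm_nondeg 1 hab) π (fun w => ⟨![w (.inr 0) - w (.inl (.inl 0)) - w (.inl (.inr 0)),
    w (.inl (.inl 0)) + w (.inl (.inr 0)) - w (.inr 0) - w (.inr 1), w (.inr 1) - w (.inl (.inl 0)) - w (.inl (.inr 0)),
    w (.inl (.inl 0)), w (.inl (.inr 0))], by simp [mem_sumZero, Fin.sum_univ_five]; ring, ?_⟩) 1 (fun u hu => ?_)
    (by simp) (fun u hu h => ⟨0, ?_⟩) ?_).map (orthEquiv (minusForm 1 F 1 1)).trans
  · ext ((i | i) | i) <;> fin_cases i <;> simp [π] <;> ring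
  · simp [mem_sumZero, Fin.sum_univ_five] at hu
    simp [minusForm_N, quadFormMinus, π, Multiset.esymm, List.ofFn_succ, ← Multiset.cons_coe, Multiset.powersetCard_one]
    grind
  · have a := congrFun h (.inl (.inl 0))
    have b := congrFun h (.inl (.inr 0))
    have c := congrFun h (.inr 0)
    have d := congrFun h (.inr 1)
    simp [mem_sumZero, Fin.sum_univ_five, π] at hu a b c d
    ext i; fin_cases i <;> simp <;> grind
  · have := card_orth_even (.inr rfl) 1 _ (minusForm_nondeg 1 hab) (minusForm_isType 1 hab)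
    rw [Nat.card_eq_fintype_card (α := F), hF] at this
    norm_num [Nat.factorial] at this ⊢
    exact_mod_cast this

end Cfsg.Agent.S0824
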