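import Cfsg.Statements.S0825
import Cfsg.Agent.Lib.Classical.Heart

set_option autoImplicit false
open Cfsg

namespace Cfsg.Agent.S0825
open Cfsg.Agent.Classical

theorem aux {F : Type*} [Field F] [Fintype F] (hF : Fintype.card F = 2) :
    Nonempty ((plusForm 3 F).Isom ≃* Equiv.Perm (Fin 8)) := by
  have h2 : (2 : F) = 0 := by simpa [hF] using FiniteField.cast_card_eq_zero F
  let π : (Fin 8 → F) →ₗ[F] (Fin 3 ⊕ Fin 3 → F) :=
    { toFun u := Sum.elim ![u 3 + u 4 + u 5 + u 6, u 2 + u 3 + u 4 + u 7, u 1 + u 2 + u 4 + u 6]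
        ![u 0 + u 1 + u 2 + u 3, u 0 + u 1 + u 4 + u 5, u 0 + u 2 + u 4 + u 6]
      map_add' u v := by ext (i | i) <;> fin_cases i <;> simp <;> ring
      map_smul' c v := by ext (i | i) <;> fin_cases i <;> simp <;> ring }
  refine nonempty_perm_equiv (plusForm_nondeg 3) π (fun w => ⟨w (.inl 0) • ![1, 1, 1, 1, 0, 0, 0, 0] +
    w (.inl 1) • ![1, 1, 0, 0, 1, 1, 0, 0] + w (.inl 2) • ![1, 0, 1, 0, 1, 0, 1, 0] + w (.inr 0) • ![0, 0, 0, 1, 1, 1, 1, 0] +
    w (.inr 1) • ![0, 0, 1, 1, 1, 0, 0, 1] + w (.inr 2) • ![0, 1, 1, 0, 1, 0, 1, 0],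
    by simp [mem_sumZero, Fin.sum_univ_eight]; grind, ?_⟩) 1 (fun u hu => ?_)
    (by simp) (fun u hu h => ⟨u 0, ?_⟩) ?_
  · ext (i | i) <;> fin_cases i <;> simp [π] <;> grind
  · simp [mem_sumZero, Fin.sum_univ_eight] at hu
    simp [plusForm_N, quadFormPlus, π, Multiset.esymm, List.ofFn_succ, ← Multiset.cons_coe, Multiset.powersetCard_one,
      Fin.sum_univ_three]
    grind
  · have a := fun i => congrFun h (.inl i)
    have b := fun i => congrFun h (.inr i)
    simp [mem_sumZero, Fin.sum_univ_eight, π, Fin.forall_fin_succ] at hu a b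
    ext i; fin_cases i <;> simp <;> grind
  · have := card_orth_even (.inl rfl) 2 _ (plusForm_nondeg 3) (plusForm_isType (F := F) 3)
    rw [Nat.card_eq_fintype_card (α := F), hF] at this
    norm_num [Nat.factorial, Finset.prod_range_succ] at this ⊢
    exact_mod_cast this


/-- O⁺_6(2) ≅ S_8: the isometry group of the hyperbolic form x_1y_1 + x_2y_2 + x_3y_3 over the field with 2 elements is isomorphic to the symmetric group on 8 letters. -/
theorem result {F : Type*} [Field F] [Fintype F] (hF : Fintype.card F = 2) : Nonempty (↥(Cfsg.isometryGroup F (Cfsg.quadFormPlus 3 F)) ≃* Equiv.Perm (Fin 8)) := by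
  exact (aux hF).map (orthEquiv (plusForm 3 F)).trans

end Cfsg.Agent.S0825
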