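import Cfsg.Statements.S0826
import Cfsg.Agent.Lib.Classical.Heart

set_option autoImplicit false
open Cfsg

namespace Cfsg.Agent.S0826
open Cfsg.Agent.Classical


/-- S_2n ≤ Sp_(2n−2)(2) for n ≥ 3: there is an injective homomorphism from the symmetric group on 2n letters into the symplectic group of degree 2n − 2 over the field with two elements. -/
theorem result (n : ℕ) (hn : 3 ≤ n) : ∃ f : Equiv.Perm (Fin (2 * n)) →* Matrix.symplecticGroup (Fin (n - 1)) (ZMod 2), Function.Injective f := by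
  let Φ : Form (Kind.symp (ZMod 2)) (Fin (2 * n) → ZMod 2) := Form.ofAlt (LinearMap.mk₂ _
    (fun u v => (∑ i, u i) * ∑ i, v i + u ⬝ᵥ v) (by intros; simp [Finset.sum_add_distrib]; ring)
    (by intros; simp [← Finset.mul_sum]; ring) (by intros; simp [Finset.sum_add_distrib]; ring)
    (by intros; simp [← Finset.mul_sum]; ring)) fun u => by
      simp only [LinearMap.mk₂_apply, dotProduct, ← sq, sum_pow_char, CharTwo.add_self_eq_zero]
  have hB : ∀ u v, Φ.B u v = (∑ i, u i) * ∑ i, v i + u ⬝ᵥ v := fun _ _ => rfl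
  have h2 : ((2 * n : ℕ) : ZMod 2) = 0 := (ZMod.natCast_eq_zero_iff _ _).2 (dvd_mul_right _ _)
  have h1 : ∀ u, Φ.B u 1 = ∑ i, u i := fun u => by simp [hB, h2, dotProduct, -Nat.cast_mul]
  have hΦ : Φ.Nondeg := fun v h => funext fun i => by
    have := h (Pi.single i 1)
    rw [hB, ← h1 v, Φ.B_symm_zero (h 1)] at this
    simpa using this
  have hh : Φ.IsHyp 1 (Pi.single ⟨0, by omega⟩ 1) := ⟨rfl, rfl, by rw [Φ.symm, h1]; simp⟩
  let π := LinearMap.snd _ _ _ ∘ₗ LinearMap.snd _ _ _ ∘ₗ hh.coord.symm.toLinearMap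
  have k : ∀ u ∈ sumZero (ZMod 2) _, ∃ c : ZMod 2, (π u).1 = u - c • 1 := fun u hu =>
    ⟨_, show u - _ - (_ * Φ.B u 1) • _ = _ by rw [h1, mem_sumZero.1 hu, mul_zero, zero_smul, sub_zero]⟩
  have k1 : ∀ u ∈ sumZero (ZMod 2) _, ∀ v ∈ sumZero (ZMod 2) _, Φ.B (π u) (π v) = u ⬝ᵥ v := fun u hu v hv => by
    obtain ⟨c, hc⟩ := k u hu
    obtain ⟨d, hd⟩ := k v hv
    have a := (h1 u).trans (mem_sumZero.1 hu)
    have b := Φ.B_symm_zero ((h1 v).trans (mem_sumZero.1 hv))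
    simp only [hc, hd, map_sub, LinearMap.sub_apply, Φ.B_smul_left, Φ.B_smul_right, a, b, hh.Bee]
    simp [hB, mem_sumZero.1 hu]
  obtain ⟨φ, hφ⟩ := (hh.nondeg_hperp hΦ).exists_heart (sumZero _ _) π (fun w => ⟨w, mem_sumZero.2 ((h1 _).symm.trans
    (Φ.mem_hperp.1 w.2).1), congrArg (·.2.2) (hh.coord.symm_apply_eq.2 (by simp [Form.IsHyp.coord]) :
      hh.coord.symm w = (0, 0, w))⟩)
    (permRep _ _) permRep_mem (fun g u hu v hv => (k1 _ (permRep_mem g u hu) _ (permRep_mem g v hv)).trans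
      ((Equiv.sum_comp g⁻¹ fun i => u i * v i).trans (k1 u hu v hv).symm)) fun _ _ _ => rfl
  obtain ⟨e⟩ := (symp_iso_std _ (hh.nondeg_hperp hΦ) (m := n - 1) (by have := hh.finrank_hperp; simp at this; omega)).nonempty_equiv
  refine ⟨(e.trans (spEquiv _ _).symm).toMonoidHom.comp φ, (e.trans (spEquiv _ _).symm).injective.comp
    ((injective_iff_map_eq_one φ).2 fun g e => perm_eq_one (F := ZMod 2) (by simp; omega) fun u hu => ?_)⟩
  obtain ⟨c, hc⟩ := k _ (sub_mem (permRep_mem g u hu) hu)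
  rw [map_sub, ← hφ g u hu, e] at hc
  exact ⟨c, funext fun i => sub_eq_zero.1 (by simpa using (congrFun hc i).symm)⟩

end Cfsg.Agent.S0826
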