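import Cfsg.Statements.S0828
import Cfsg.Agent.Lib.Classical.Cnt1

set_option autoImplicit false
open Cfsg

namespace Cfsg.Agent.S0828
open Cfsg.Agent.Classical


/-- The symplectic generalised quadrangle over a field with q elements: the number of 2-dimensional subspaces of F^4 on which the symplectic form vanishes is (q + 1)(q² + 1), and every non-zero vector lies in exactly q + 1 of them. -/
theorem result {F : Type*} [Field F] [Fintype F] {q : ℕ} (hF : Fintype.card F = q) : Nat.card {W : Submodule F (Fin 2 ⊕ Fin 2 → F) // Module.finrank F W = 2 ∧ ∀ u ∈ W, ∀ v ∈ W, Cfsg.sympForm 2 F u v = 0} = (q + 1) * (q ^ 2 + 1) ∧ ∀ v : Fin 2 ⊕ Fin 2 → F, v ≠ 0 → Nat.card {W : Submodule F (Fin 2 ⊕ Fin 2 → F) // Module.finrank F W = 2 ∧ v ∈ W ∧ ∀ u ∈ W, ∀ w ∈ W, Cfsg.sympForm 2 F u w = 0} = q + 1 := by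
  have hq : 1 < q := hF ▸ Fintype.one_lt_card
  have k : ∀ {V : Type _} [AddCommGroup V] [Module F V] [Finite V] (Φ : Form (Kind.symp F) V),
      Φ.cnt 0 = q ^ Module.finrank F V := fun Φ => by
    rw [← hF, ← Nat.card_eq_fintype_card, ← Module.natCard_eq_pow_finrank]
    exact Nat.card_congr (Equiv.subtypeUnivEquiv Φ.symp_N)
  obtain ⟨h1, h2⟩ := Form.card_lines (spForm_nondeg (F := F) 2) (c := q + 1) fun e f h => by
    have := h.finrank_hperp
    rw [k, show Module.finrank F _ = 2 by simp at this; omega, Nat.card_eq_fintype_card, hF, ← Nat.sq_sub_sq, one_pow]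
  have e : ∀ W, (spForm 2 F).TS W ↔ ∀ u ∈ W, ∀ v ∈ W, Cfsg.sympForm 2 F u v = 0 := fun W =>
    ⟨fun h => h.2, fun h => ⟨fun _ _ => rfl, h⟩⟩
  simp only [e] at h1 h2
  refine ⟨?_, fun v hv => h1 v ⟨hv, rfl⟩⟩
  have h3 : 1 < q ^ 2 := Nat.one_lt_pow (by norm_num) hq
  refine Nat.eq_of_mul_eq_mul_right (Nat.sub_pos_of_lt h3) ?_
  rw [Nat.card_eq_fintype_card (α := F), hF, k] at h2
  rw [h2]
  zify [h3.le, Nat.one_le_pow _ _ (zero_lt_one.trans hq)]
  simp; ring

end Cfsg.Agent.S0828
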