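import Cfsg.Statements.S0829
import Cfsg.Agent.Lib.Classical.Cnt1

set_option autoImplicit false
open Cfsg

namespace Cfsg.Agent.S0829
open Cfsg.Agent.Classical


/-- The unitary quadrangle of PSU_4(q): with |F| = q², the number of 2-dimensional subspaces of F^4 on which the Hermitian form Σ x_i y_i^q vanishes is (q + 1)(q³ + 1). -/
theorem result {F : Type*} [Field F] [Fintype F] {q : ℕ} (hF : Fintype.card F = q ^ 2) : Nat.card {W : Submodule F (Fin 4 → F) // Module.finrank F W = 2 ∧ ∀ u ∈ W, ∀ v ∈ W, Cfsg.hermForm 4 F q u v = 0} = (q + 1) * (q ^ 3 + 1) := by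
  have hq := two_le_of_card_sq hF
  have h0 : ∀ n, 1 ≤ q ^ n := fun n => Nat.one_le_pow _ _ (by omega)
  have h3 : 1 < (q ^ 2) ^ 2 := Nat.one_lt_pow (by norm_num) (Nat.one_lt_pow (by norm_num) hq)
  obtain ⟨-, h2⟩ := Form.card_lines (uForm_nondeg hF 4) (c := q + 1) fun e f h => by
    have := h.finrank_hperp
    rw [unit_cnt_zero_nat hF _ (h.nondeg_hperp (uForm_nondeg hF 4)) (n := 2) (by simp at this; omega)]
    simp [hF, mul_comm]
  have e : ∀ W, (uForm hF 4).TS W ↔ ∀ u ∈ W, ∀ v ∈ W, Cfsg.hermForm 4 F q u v = 0 := fun W =>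
    ⟨fun h => h.2, fun h => ⟨fun w a => h w a w a, h⟩⟩
  simp only [e] at h2
  refine Nat.eq_of_mul_eq_mul_right (Nat.sub_pos_of_lt h3) ?_
  rw [Nat.card_eq_fintype_card (α := F), hF, unit_cnt_zero_nat hF _ (uForm_nondeg hF 4) (n := 4) (by simp)] at h2
  rw [h2, if_pos (by decide), Nat.add_sub_cancel]
  zify [h3.le, h0]
  ring

end Cfsg.Agent.S0829
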