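import Cfsg.Statements.S0831
import Cfsg.Agent.Lib.Classical.Family

set_option autoImplicit false
open Cfsg

namespace Cfsg.Agent.S0831
open Cfsg.Agent.Classical


/-- The two families of maximal totally singular subspaces of the hyperbolic quadric: for the form Σ x_i y_i on F^(2m), m ≥ 1, and m-dimensional subspaces U, W, X on which it vanishes, the parities of m − dim(U ∩ W), m − dim(W ∩ X) and m − dim(U ∩ X) sum to an even number (so 'even codimension of the intersection' is an equivalence relation), and there exist two such subspaces meeting in codimension 1 (so there are exactly two classes). -/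
theorem result {F : Type*} [Field F] (m : ℕ) (hm : 1 ≤ m) : (∀ U W X : Submodule F (Fin m ⊕ Fin m → F), (Module.finrank F U = m ∧ ∀ w ∈ U, Cfsg.quadFormPlus m F w = 0) → (Module.finrank F W = m ∧ ∀ w ∈ W, Cfsg.quadFormPlus m F w = 0) → (Module.finrank F X = m ∧ ∀ w ∈ X, Cfsg.quadFormPlus m F w = 0) → Even ((m - Module.finrank F ↥(U ⊓ W)) + (m - Module.finrank F ↥(W ⊓ X)) + (m - Module.finrank F ↥(U ⊓ X)))) ∧ ∃ U W : Submodule F (Fin m ⊕ Fin m → F), (Module.finrank F U = m ∧ ∀ w ∈ U, Cfsg.quadFormPlus m F w = 0) ∧ (Module.finrank F W = m ∧ ∀ w ∈ W, Cfsg.quadFormPlus m F w = 0) ∧ Module.finrank F ↥(U ⊓ W) + 1 = m := by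
  have hΦ := plusForm_nondeg (F := F) m
  have key : ∀ {U : Submodule F (Fin m ⊕ Fin m → F)}, (Module.finrank F U = m ∧ ∀ w ∈ U, Cfsg.quadFormPlus m F w = 0) ↔
      (plusForm m F).MTS U :=
    ⟨fun h => ⟨Form.TS_orth h.2, by simp [h.1, two_mul]⟩, fun h => ⟨by have := h.dim; simp at this; omega, h.ts.1⟩⟩
  refine ⟨fun U W X hU hW hX => ?_, ?_⟩
  · have h1 := (key.1 hU).cocycle hΦ (key.1 hW) (key.1 hX)
    have h2 := Submodule.finrank_mono (inf_le_left : U ⊓ W ≤ U)
    have h3 := Submodule.finrank_mono (inf_le_left : W ⊓ X ≤ W)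
    have h4 := Submodule.finrank_mono (inf_le_left : U ⊓ X ≤ U)
    rw [inf_comm X] at h1
    rw [Nat.even_iff] at h1 ⊢
    have := hU.1
    have := hW.1
    omega
  · have hU : (plusForm m F).MTS (plusTS m F) := key.1 ⟨finrank_plusTS m, (plusTS_TS m).1⟩
    haveI : Nontrivial (Fin m ⊕ Fin m → F) := Module.nontrivial_of_finrank_pos (R := F) (by simp; omega)
    obtain ⟨v, hv⟩ := hΦ.orth_exists_N_ne
    exact ⟨_, _, key.2 hU, key.2 (hU.map (Form.refl_mem _ v hv)), by
      rw [hU.ts.inf_map_refl, hU.finrank_inf hΦ hv, finrank_plusTS]⟩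

end Cfsg.Agent.S0831
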