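import Cfsg.Statements.S0832
import Cfsg.Agent.Lib.Classical.Family

set_option autoImplicit false
open Cfsg

namespace Cfsg.Agent.S0832
open Cfsg.Agent.Classical


/-- For the form Σ x_i y_i on F^(2m) over a finite field, m ≥ 1: an (m−1)-dimensional subspace on which the form vanishes is contained in exactly two m-dimensional subspaces on which it vanishes. -/
theorem result {F : Type*} [Field F] [Finite F] (m : ℕ) (hm : 1 ≤ m) (U : Submodule F (Fin m ⊕ Fin m → F)) (hU : Module.finrank F U + 1 = m ∧ ∀ u ∈ U, Cfsg.quadFormPlus m F u = 0) : Nat.card {W : Submodule F (Fin m ⊕ Fin m → F) // Module.finrank F W = m ∧ (∀ w ∈ W, Cfsg.quadFormPlus m F w = 0) ∧ U ≤ W} = 2 := by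
  have hΦ := plusForm_nondeg (F := F) m
  have key : ∀ {U : Submodule F (Fin m ⊕ Fin m → F)}, (Module.finrank F U = m ∧ ∀ w ∈ U, Cfsg.quadFormPlus m F w = 0) ↔
      (plusForm m F).MTS U :=
    ⟨fun h => ⟨Form.TS_orth h.2, by simp [h.1, two_mul]⟩, fun h => ⟨by have := h.dim; simp at this; omega, h.ts.1⟩⟩
  obtain ⟨W, hW, h1⟩ := (key.1 ⟨finrank_plusTS m, (plusTS_TS m).1⟩).exists_ge hΦ (Form.TS_orth hU.2)
  have hm' := (key.2 hW).1
  obtain ⟨v, hv, hv'⟩ : ∃ v ∈ (plusForm m F).perp U, (plusForm m F).N v ≠ 0 := by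
    by_contra e
    push Not at e
    have h2 := (Form.TS_orth e).two_finrank_le hΦ
    have h3 := hΦ.finrank_perp U
    simp at h2 h3
    omega
  have h2 : U = W ⊓ (plusForm m F).perp (F ∙ v) := Submodule.eq_of_le_of_finrank_eq
    (le_inf h1 ((plusForm m F).le_perp_comm.1 (by simpa using hv))) (by have := hW.finrank_inf hΦ hv'; omega)
  have h3 := hW.ts.inf_map_refl hv'
  have hW' := hW.map (Form.refl_mem _ v hv')
  have h4 : ∀ x ∈ W ⊔ F ∙ v, _ → _ := fun x hx => hW.ts.mem_or_refl hv' (x := x) hx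
  generalize W.map ((plusForm m F).refl v hv').toLinearMap = W' at *
  have h5 : W ≠ W' := by
    rintro rfl
    rw [← h2, inf_idem] at h3
    subst h3
    omega
  rw [Nat.card_eq_two_iff]
  refine ⟨⟨W, hm', hW.ts.1, h1⟩, ⟨W', (key.2 hW').1, hW'.ts.1, h2.le.trans (h3.ge.trans inf_le_right)⟩,
    fun e => h5 (congrArg Subtype.val e), Set.eq_univ_of_forall fun ⟨X, hX, hX', h6⟩ => ?_⟩
  have h7 : X ≤ W ⊔ F ∙ v := by
    rw [← hW.perp_inf hΦ, ← h2]
    exact (Form.TS_orth (Φ := plusForm m F) hX').le_perp.trans ((plusForm m F).perp_anti h6)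
  have h8 : ∀ x ∈ X, x ∈ W ∨ x ∈ W' := fun x hx => h4 x (h7 hx) (hX' x hx)
  by_cases h9 : X ≤ W
  · exact .inl (Subtype.ext (Submodule.eq_of_le_of_finrank_eq h9 (hX.trans hm'.symm)))
  · obtain ⟨a, ha, ha'⟩ := SetLike.not_le_iff_exists.1 h9
    exact .inr (Subtype.ext (Submodule.eq_of_le_of_finrank_eq (fun b hb => (h8 b hb).elim
      (fun h => (h8 _ (add_mem ha hb)).elim (fun h' => absurd ((W.add_mem_iff_left h).1 h') ha')
      fun h' => (W'.add_mem_iff_right ((h8 a ha).resolve_left ha')).1 h') id) (hX.trans (key.2 hW').1.symm)))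

end Cfsg.Agent.S0832
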