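import Cfsg.Statements.S0835
import Cfsg.Agent.Lib.Classical.Symm

set_option autoImplicit false
open Cfsg

namespace Cfsg.Agent.S0835
open Cfsg.Agent.Classical


/-- Over a finite field with 2 ≠ 0: if B₁ on U (dim 2k, k ≥ 1) is non-degenerate symmetric of minus type (no totally isotropic k-subspace) and B₂ on W (dim 2l + 1) is non-degenerate symmetric, then B₁ ⊗ B₂ (dimension 2k(2l+1)) admits no totally isotropic subspace of dimension k(2l+1) (minus type). -/
theorem result {F U W : Type*} [Field F] [Fintype F] [AddCommGroup U] [Module F U] [FiniteDimensional F U] [AddCommGroup W] [Module F W] [FiniteDimensional F W] (h2 : (2 : F) ≠ 0) (B₁ : LinearMap.BilinForm F U) (B₂ : LinearMap.BilinForm F W) (h₁ : B₁.Nondegenerate) (h₂ : B₂.Nondegenerate) (hS₁ : B₁.IsSymm) (hS₂ : B₂.IsSymm) (k l : ℕ) (hk : 1 ≤ k) (hU : Module.finrank F U = 2 * k) (hW : Module.finrank F W = 2 * l + 1) (hm₁ : ¬ (∃ X : Submodule F (U), Module.finrank F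 X = k ∧ ∀ x ∈ X, ∀ y ∈ X, (B₁) x y = 0)) : ¬ (∃ X : Submodule F (TensorProduct F U W), Module.finrank F X = k * (2 * l + 1) ∧ ∀ x ∈ X, ∀ y ∈ X, (B₁.tmul B₂) x y = 0) := by
  have hS : LinearMap.BilinForm.IsSymm (B₁.tmul B₂) := LinearMap.BilinForm.isSymm_iff.2
    ((LinearMap.BilinForm.isSymm_iff.1 hS₁).tmul (LinearMap.BilinForm.isSymm_iff.1 hS₂))
  have hΦ := Form.ofSymm_nondeg hS h2 (tmul_nondegenerate h₁ h₂)
  have hΦ₁ := Form.ofSymm_nondeg hS₁ h2 h₁
  obtain ⟨b₁, a1, a2⟩ := exists_orth_basis h2 _ hΦ₁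
  obtain ⟨b₂, a3, a4⟩ := exists_orth_basis h2 _ (Form.ofSymm_nondeg hS₂ h2 h₂)
  let p := fun i => Units.mk0 _ (a2 i)
  let r := fun i => Units.mk0 _ (a4 i)
  have hr : Module.finrank F (TensorProduct F U W) = 2 * (k * (2 * l + 1)) := by
    rw [Module.finrank_tensorProduct, hU, hW]; ring
  have h3 : ∀ i, (Form.ofSymm _ hS).N (b₁.tensorProduct b₂ i) =
      (Form.ofSymm _ hS₁).N (b₁ i.1) * (Form.ofSymm _ hS₂).N (b₂ i.2) := fun i => by
    simp [Module.Basis.tensorProduct_apply', mul_comm]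
  rintro ⟨X, h5, h6⟩
  have h4 := (Form.isType_one_iff_disc hΦ h2 hr (b₁.tensorProduct b₂) (fun i j h => by
    by_cases h5 : i.1 = j.1
    · have := a3 i.2 j.2 fun h6 => h (Prod.ext h5 h6)
      simp [Module.Basis.tensorProduct_apply', h2] at this ⊢
      exact Or.inl this
    · have := a1 i.1 j.1 h5
      simp [Module.Basis.tensorProduct_apply', h2] at this ⊢
      exact Or.inr this) (fun i => by rw [h3]; exact mul_ne_zero (a2 _) (a4 _))).1
      ((isType_one_iff hΦ hr).2 ⟨X, h5, (Form.ofSymm_TS hS h2).2 h6⟩)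
  rw [Finset.prod_congr rfl (g := fun i => p i.1 * r i.2)
      (fun i _ => Units.ext (h3 i)), Finset.prod_mul_distrib, Fintype.prod_prod_type,
      Fintype.prod_prod_type_right] at h4
  simp only [Finset.prod_const, Finset.card_univ, Fintype.card_fin, Finset.prod_pow, map_mul, map_pow] at h4
  have e : ∀ (x : ℤˣ) (n m : ℕ), n = 2 * m → x ^ n = 1 := fun x n m h => by
    rw [h, pow_mul, Int.units_sq, one_pow]
  have e' : ∀ (x : ℤˣ) (n m : ℕ), n = 2 * m + 1 → x ^ n = x := fun x n m h => by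
    rw [h, pow_succ, pow_mul, Int.units_sq, one_pow, one_mul]
  rw [e _ _ _ hU, e' _ _ _ hW, pow_mul, e' _ _ l rfl, mul_one] at h4
  obtain ⟨Y, h7, h8⟩ := (isType_one_iff hΦ₁ hU).1 ((Form.isType_one_iff_disc hΦ₁ h2 hU b₁ a1 a2).2 h4)
  exact hm₁ ⟨Y, h7, (Form.ofSymm_TS hS₁ h2).1 h8⟩

end Cfsg.Agent.S0835
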