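import Cfsg.Statements.S0836
import Cfsg.Agent.Lib.Classical.Lin1

set_option autoImplicit false
open Cfsg

namespace Cfsg.Agent.S0836
open Cfsg.Agent.Classical


/-- For i ≠ j and any scalar c, the elementary transvection 1 + c E_ij is a commutator ⁅g, h⁆ of two elements of SL_n(F) provided n ≥ 3, or n = 2 and F contains x ≠ 0 with x² ≠ 1. -/
theorem result {F : Type*} [Field F] (n : ℕ) (hn : 3 ≤ n ∨ (n = 2 ∧ ∃ x : F, x ≠ 0 ∧ x ^ 2 ≠ 1)) (i j : Fin n) (hij : i ≠ j) (c : F) (t : Matrix.SpecialLinearGroup (Fin n) F) (ht : (t : Matrix (Fin n) (Fin n) F) = Matrix.transvection i j c) : t ∈ commutatorSet (Matrix.SpecialLinearGroup (Fin n) F) := by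
  open Matrix.SpecialLinearGroup in
  obtain rfl : t = transvection hij c := Subtype.ext ht
  rcases hn with hn | ⟨rfl, x, x0, x1⟩
  · obtain ⟨k, hk⟩ : (Finset.univ \ {i, j} : Finset (Fin n)).Nonempty := Finset.card_pos.1 (by
      have := Finset.card_le_two (a := i) (b := j)
      rw [Finset.card_univ_sdiff, Fintype.card_fin]; omega)
    simp only [Finset.mem_sdiff, Finset.mem_insert, Finset.mem_singleton, not_or] at hk
    exact ⟨_, _, (Lin.transvection_eq_commutator hij (Ne.symm hk.2.1) hk.2.2 c).symm⟩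
  have := sub_ne_zero.2 x1
  refine ⟨Matrix.SpecialLinearGroup.diag2n hij x x0, Matrix.SpecialLinearGroup.transvection hij (c / (x ^ 2 - 1)), ?_⟩
  rw [commutatorElement_def, mul_inv_eq_iff_eq_mul, mul_inv_eq_iff_eq_mul]
  ext a b
  fin_cases i <;> fin_cases j <;> fin_cases a <;> fin_cases b <;>
    simp [Matrix.SpecialLinearGroup.diag2n_coe, Matrix.SpecialLinearGroup.transvection_coe, Matrix.mul_apply,
      Matrix.one_apply] at hij ⊢ <;> field_simp <;> ring

end Cfsg.Agent.S0836
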