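import Cfsg.Statements.S0837
import Cfsg.Agent.Lib.Classical.Orth2

set_option autoImplicit false
open Cfsg

namespace Cfsg.Agent.S0837
open Cfsg.Agent.Classical


/-- If W ≤ F^n (|F| = q²) is a k-dimensional subspace on which the Hermitian form Σ x_i y_i^q is non-degenerate, then the stabiliser of W in GU_n(q) is isomorphic to GU_k(q) × GU_(n−k)(q). -/
theorem result {F : Type*} [Field F] [Fintype F] {q : ℕ} (hF : Fintype.card F = q ^ 2) (n k : ℕ) (hk : k ≤ n) (W : Submodule F (Fin n → F)) (hWk : Module.finrank F W = k) (hW : ∀ u ∈ W, (∀ v ∈ W, Cfsg.hermForm n F q u v = 0) → u = 0) : Nonempty (↥((Cfsg.stabilizing (Cfsg.glToMat (Fin n) F) (W : Set (Fin n → F))).subgroupOf (Cfsg.GU n F q)) ≃* ↥(Cfsg.GU k F q) × ↥(Cfsg.GU (n - k) F q)) := by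
  let Φ := uForm hF n
  have hW' : (Φ.restrict W).Nondeg := fun v hv => Subtype.ext (hW v v.2 fun u hu =>
    Φ.B_symm_zero (hv ⟨u, hu⟩))
  have h1 := (uForm_nondeg hF n).finrank_perp W
  obtain ⟨e1⟩ := (unit_iso_std hF _ hW' hWk).nonempty_equiv
  obtain ⟨e2⟩ := (unit_iso_std hF _ ((uForm_nondeg hF n).restrict_perp hW') (n := n - k)
    (by simp at h1; omega)).nonempty_equiv
  have e3 : ↥((Cfsg.stabilizing (Cfsg.glToMat (Fin n) F) (W : Set (Fin n → F))).subgroupOf
      (Cfsg.GU n F q)) ≃* (Φ.Isom ⊓ stab W : Subgroup _) :=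
    { toFun := fun g => ⟨guEquiv hF n g.1, (guEquiv hF n g.1).2, g.2⟩
      invFun := fun g => ⟨(guEquiv hF n).symm ⟨g.1, g.2.1⟩, fun v => by
        have := g.2.2 v
        rwa [show g.1 = (guEquiv hF n ((guEquiv hF n).symm ⟨g.1, g.2.1⟩)).1 by simp] at this⟩
      left_inv := fun g => by simp
      right_inv := fun g => by simp
      map_mul' := fun a b => Subtype.ext (by simp) }
  exact ⟨(e3.trans (Φ.stabEquiv (Φ.isCompl_perp hW')).symm).trans
    ((e1.trans (guEquiv hF k).symm).prodCongr (e2.trans (guEquiv hF (n - k)).symm))⟩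

end Cfsg.Agent.S0837
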