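import Cfsg.Statements.S0839
import Cfsg.Agent.Lib.Classical.Lin1

set_option autoImplicit false
open Cfsg

namespace Cfsg.Agent.S0839
open Cfsg.Agent.Classical


/-- Every transvection t ∈ SL_(n+2)(F) (rank(t − 1) = 1, (t − 1)² = 0) is conjugate in SL_(n+2)(F) to 1 + v·e_0ᵀ for some column vector v with v_0 = 0 (the group A of matrices that are the identity except in the first column below the diagonal); the dimension is written n + 2 ≥ 2. -/
theorem result {F : Type*} [Field F] (n : ℕ) (t : Matrix.SpecialLinearGroup (Fin (n + 2)) F) (ht : Cfsg.IsTransvection (t : Matrix (Fin (n + 2)) (Fin (n + 2)) F)) : ∃ (g : Matrix.SpecialLinearGroup (Fin (n + 2)) F) (v : Fin (n + 2) → F), v 0 = 0 ∧ ((g⁻¹ * t * g : Matrix.SpecialLinearGroup (Fin (n + 2)) F) : Matrix (Fin (n + 2)) (Fin (n + 2)) F) = 1 + Matrix.vecMulVec v (Pi.single 0 1) := by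
  obtain ⟨h1, h2⟩ := ht
  obtain ⟨⟨a, ha⟩, a0, h3⟩ := finrank_eq_one_iff'.1 h1
  choose b hb using fun j => h3 ⟨_, Pi.single j 1, rfl⟩
  have hN : t.1 - 1 = Matrix.vecMulVec a b := by
    ext i j; simpa [Matrix.vecMulVec_apply, mul_comm, Matrix.one_apply, Pi.single_apply] using (congrFun (congrArg Subtype.val (hb j)) i).symm
  have b0 : b ≠ 0 := by rintro rfl; simp [hN] at h1
  obtain ⟨h, hh⟩ := MulAction.exists_smul_eq (Matrix.SpecialLinearGroup (Fin (n + 2)) F) (Projectivization.mk F b b0)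
    (Projectivization.mk F (Pi.single 0 1) (by simp))
  rw [Projectivization.matrixSpecialLinearGroup_smul_def, Projectivization.specialLinearGroup_smul_def,
    Projectivization.smul_mk, Projectivization.mk_eq_mk_iff'] at hh
  obtain ⟨c, hc⟩ := hh
  have hc' : Matrix.vecMul b (h.transpose).1 = c • Pi.single 0 1 := by
    rw [hc]; exact Matrix.vecMul_transpose _ _
  have e : ((h.transpose⁻¹ * t * h.transpose).1 : Matrix _ _ F) - 1 = (h.transpose⁻¹).1 * (t.1 - 1) * h.transpose.1 := by
    rw [mul_sub, sub_mul, mul_one, ← Matrix.SpecialLinearGroup.coe_mul _ h.transpose, inv_mul_cancel]; rfl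
  have e2 : (h.transpose⁻¹).1 * (t.1 - 1) * h.transpose.1 =
      Matrix.vecMulVec (c • (h.transpose⁻¹).1.mulVec a) (Pi.single 0 1) := by
    rw [hN, Matrix.mul_vecMulVec, Matrix.vecMulVec_mul, hc', Matrix.vecMulVec_smul, Matrix.smul_vecMulVec]
  refine ⟨h.transpose, c • (h.transpose⁻¹).1.mulVec a, ?_, by rw [← e2, ← e, add_sub_cancel]⟩
  have : (h.transpose⁻¹).1 * (t.1 - 1) * h.transpose.1 * ((h.transpose⁻¹).1 * (t.1 - 1) * h.transpose.1) = 0 := by
    simp only [mul_assoc]
    rw [← mul_assoc h.transpose.1, ← Matrix.SpecialLinearGroup.coe_mul, mul_inv_cancel, Matrix.SpecialLinearGroup.coe_one,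
      one_mul, ← mul_assoc (t.1 - 1), h2, zero_mul, mul_zero]
  rw [e2] at this
  simpa [Matrix.mul_apply, Matrix.vecMulVec_apply, Pi.single_apply] using congrFun (congrFun this 0) 0

end Cfsg.Agent.S0839
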