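import Cfsg.Statements.S0842
import Cfsg.Agent.Lib.Char.Quat

set_option autoImplicit false
open Cfsg

namespace Cfsg.Agent.S0842

open Cfsg.Agent.Char

/-- Suppose a Sylow 2-subgroup S of the finite group G is generalized quaternion of order at least 16, and let D be the commutator subgroup of S, C its centralizer and N its normalizer in G. Then there is a subgroup K of odd order, contained in C and normalized by N, with K ⊔ S = N and K ⊔ (S ⊓ C) = C, and C has index 2 in N. -/
theorem result {G : Type*} [Group G] [Finite G] (S : Sylow 2 G) (n : ℕ) (e : (S : Subgroup G) ≃* QuaternionGroup (2 ^ (n + 2))) (D : Subgroup G) (hD : D = ⁅(S : Subgroup G), (S : Subgroup G)⁆) : ∃ K : Subgroup G, Odd (Nat.card K) ∧ K ≤ Subgroup.centralizer (D : Set G) ∧ Subgroup.normalizer (D : Set G) ≤ Subgroup.normalizer (K : Set G) ∧ K ⊔ (S : Subgroup G) = Subgroup.normalizer (D : Set G) ∧ K ⊔ ((S : Subgroup G) ⊓ Subgroup.centralizer (D : Set G)) = Subgroup.centralizer (D : Set G) ∧ ((Subgroup.centralizer (D : Set G)).subgroupOf (Subgroup.normalizer (D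 : Set G))).index = 2 := by
  obtain ⟨a, b, h, -⟩ := Transfer.invData_of_quaternion (Transfer.isSyl_top S) (by omega) e
  have hm : 2 ≤ n + 2 := by omega
  rw [h.commutator_eq] at hD
  subst hD
  rw [Transfer.InvData.cent_zpowers, h.inf_cent hm]
  have h1 := congrArg (Subgroup.map (Blk.Ce1 (a * a)).subtype) (h.oddCore_sup hm)
  rw [Subgroup.map_sup, Subgroup.subgroupOf_map_subtype, inf_eq_left.2 h.le_cent,
    ← MonoidHom.range_eq_map, Subgroup.range_subtype] at h1
  refine ⟨(oddCore (Blk.Ce1 (a * a))).map (Blk.Ce1 (a * a)).subtype, ?_, Subgroup.map_subtype_le _,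
    ?_, le_antisymm (sup_le ((Subgroup.map_subtype_le _).trans h.cent_le_norm) h.le_norm)
      fun g hg => ?_, h1, h.relIndex_cent hm⟩
  · rw [Subgroup.card_map_of_injective (Subgroup.subtype_injective _)]
    exact Transfer.odd_card_oddCore
  · exact (Transfer.InvData.cent_zpowers (a * a) ▸ Transfer.normalizer_le_normalizer_centralizer _).trans
      (Transfer.normalizer_le_normalizer_map_of_characteristic _)
  have h2 := h1.ge.trans (sup_le_sup_left h.le _)
  rcases h.norm_cases hg with h3 | h3
  · exact h2 h3
  · simpa using mul_mem (h2 h3) (Subgroup.mem_sup_right h.mem_b)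

end Cfsg.Agent.S0842
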