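import Cfsg.Statements.S0844
import Cfsg.Agent.Lib.Char.Quat
import Cfsg.Agent.Lib.Char.Vchar
import Cfsg.Agent.Lib.Char.LinChar
import Cfsg.Agent.Lib.Char.Codeg

set_option autoImplicit false
open Cfsg

namespace Cfsg.Agent.S0844

open Cfsg.Agent.Char

/-- Suppose a Sylow 2-subgroup S of the finite group G is generalized quaternion of order at least 16. Then G has two non-principal irreducible characters χ₁ and χ₂ with χ₁ 1 = χ₂ 1 + 1 such that χ₁ g - χ₂ g = 1 for every element g whose order is not divisible by 4. -/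
theorem result {G : Type*} [Group G] [Fintype G] (S : Sylow 2 G) (n : ℕ) (e : (S : Subgroup G) ≃* QuaternionGroup (2 ^ (n + 2))) : ∃ χ₁ χ₂ : G → ℂ, Cfsg.IsIrrCharacter G χ₁ ∧ Cfsg.IsIrrCharacter G χ₂ ∧ χ₁ ≠ (fun _ => 1) ∧ χ₂ ≠ (fun _ => 1) ∧ χ₁ 1 = χ₂ 1 + 1 ∧ ∀ g : G, ¬ 4 ∣ orderOf g → χ₁ g - χ₂ g = 1 := by
  obtain ⟨a, b, h, -⟩ := Transfer.invData_of_quaternion (Transfer.isSyl_top S) (by omega) e
  have hm : 2 ≤ n + 2 := by omega
  obtain ⟨l, h1, h2⟩ := h.exists_lin hm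
  let C := Blk.Ce1 (a * a)
  let N := Subgroup.normalizer (Subgroup.zpowers (a * a) : Set G)
  have hCN : C ≤ N := h.cent_le_norm
  let D := C.subgroupOf N
  have hD : D.index = 2 := h.relIndex_cent hm
  have hn := D.normal_of_index_eq_two hD
  have := Fintype.ofFinite N
  have := Fintype.ofFinite D
  let μ : D → ℂ := lc (l.comp (Subgroup.subgroupOfEquivOfLe hCN).toMonoidHom)
  have hμ : IsIrrCharacter D μ := isIrr_lc _
  have i1 := isIrrCharacter_one (G := D)
  have h3 : inertia D μ ≤ D := fun g hg => by_contra fun h3 => h1 (by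
    have h4 := (h.norm_cases g.2).resolve_left h3
    have h5 := mem_inertia'.1 hg ⟨⟨a, hCN (h.le_cent (Subgroup.mem_zpowers a))⟩,
      h.le_cent (Subgroup.mem_zpowers a)⟩
    have h6 : l (⟨_, h4⟩ * ⟨a, h.le_cent (Subgroup.mem_zpowers a)⟩⁻¹ * ⟨_, h4⟩⁻¹) =
        l ⟨a, h.le_cent (Subgroup.mem_zpowers a)⟩ :=
      (congrArg l (Subtype.ext (show g * b⁻¹ * a⁻¹ * (g * b⁻¹)⁻¹ = g * a * (g : G)⁻¹ by
        simp [← h.cnj, mul_assoc]))).trans (Units.ext h5)
    rw [map_mul, map_mul, map_inv, map_inv, mul_inv_cancel_comm, inv_eq_iff_mul_eq_one, ← map_mul] at h6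
    exact h6)
  have h4 : μ ≠ fun _ => 1 := fun h4 => h1 (Units.ext (congrFun h4 ⟨⟨_, hCN (h.le_cent h.sq_mem)⟩,
    h.le_cent h.sq_mem⟩))
  let ψ := indFun D ((fun _ => 1) - μ)
  have hψ : IsGeneralizedCharacter N ψ := (i1.isGen.sub hμ.isGen).ind
  have h5 : classInner ψ ψ = 3 := by
    have h5 := i1.classInner_ind_of_not_mem hμ fun h => by
      obtain ⟨g, hg⟩ := mem_cjOrbit.1 h
      exact h4 hg
    simp only [ψ, indFun_sub, classInner_sub_left, classInner_sub_right, h5,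
      i1.isCharacter.ind.classInner_comm hμ.isCharacter.ind, i1.classInner_ind_self,
      hμ.classInner_ind_self, Subgroup.relIndex_eq_one.2 h3, show inertia D (fun _ => 1) = ⊤ from inertia_eq_top_iff.2 fun _ => rfl,
      Subgroup.relIndex_top_right, hD]
    norm_num
  have h6 : ∀ x : N, ψ x ≠ 0 → (x : G) ∈ C ∧ 2 ^ (n + 2) ∣ orderOf (x : G) := fun x hx => by
    by_contra h6
    refine hx (indFun_eq_zero _ _ _ fun y hy => sub_eq_zero.2 (congrArg Units.val (h2 ⟨_, hy⟩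
      fun h7 => h6 ⟨?_, (SemiconjBy.conj_mk (y : G) x).orderOf_eq ▸ h7⟩)).symm)
    exact Subgroup.mem_subgroupOf.1 (by simpa [mul_assoc] using hn.conj_mem _ hy y⁻¹)
  have h7 := classInner_indFun_of_TI N ψ hψ.isClassFunction fun x hx g hg hx' => by_contra fun h7 =>
    hg (h.mem_norm_of_conj hm (h6 x hx).1 (h6 x hx).2 (h6 _ h7).1)
  have h8 : classInner (indFun N ψ) (fun _ => 1) = 1 := by
    rw [frobenius_left _ _ isCharacter_one.isClassFunction, frobenius_left _ _ isCharacter_one.isClassFunction,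
      classInner_sub_left, i1.classInner_self, hμ.classInner_of_ne i1 h4, sub_zero]
  have i2 := isIrrCharacter_one (G := G)
  have h9 : ∀ g, ¬ 4 ∣ orderOf g → indFun N ψ g = 0 := fun g hg => indFun_eq_zero _ _ _ fun x hx =>
    by_contra fun h9 => hg (Dvd.dvd.trans ⟨2 ^ n, by ring⟩
      ((SemiconjBy.conj_mk x g).orderOf_eq ▸ (h6 _ h9).2))
  obtain ⟨p, q, hp, hq, h10, h11⟩ := (i2.isGen.sub hψ.ind).exists_of_norm_two (by
    simp [rip_eq_one h8, rip_comm _ (indFun N ψ), i2.rip_self, rip_eq_of_classInner (r := 3) (h7.trans h5)]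
    norm_num)
  have h12 : ∀ g, ¬ 4 ∣ orderOf g → p g + q g = 1 := fun g hg => by
    simpa [h9 g hg] using (congrFun h11 g).symm
  have h13 : rip p (fun _ => 1) + rip q (fun _ => 1) = 0 := by
    rw [← rip_add_left, ← h11, rip_sub_left, rip_eq_one h8, i2.rip_self, sub_self]
  have h14 := h12 1 (by simp)
  have key : ∀ p q : G → ℂ, IsIrrCharacter G p → IsIrrCharacter G (-q) → classInner p q = 0 →
      (∀ g, ¬ 4 ∣ orderOf g → p g + q g = 1) → rip p (fun _ => 1) + rip q (fun _ => 1) = 0 →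
      ∃ χ₁ χ₂ : G → ℂ, IsIrrCharacter G χ₁ ∧ IsIrrCharacter G χ₂ ∧ χ₁ ≠ (fun _ => 1) ∧ χ₂ ≠ (fun _ => 1) ∧
        χ₁ 1 = χ₂ 1 + 1 ∧ ∀ g : G, ¬ 4 ∣ orderOf g → χ₁ g - χ₂ g = 1 := fun p q hp hq a1 a2 a3 => by
    refine ⟨p, -q, hp, hq, fun h => ?_, fun h => ?_, by rw [← a2 1 (by simp)]; simp, by simpa using a2⟩
    · rw [← h, rip_comm q, rip_eq_zero a1, hp.rip_self] at a3; simp at a3
    · have := hq.rip_self
      rw [← h] at a3
      simp only [rip_neg_left, rip_neg_right, rip_eq_zero a1] at a3 this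
      linarith
  rcases hp with hp | hp <;> rcases hq with hq | hq
  · rw [← hp.isCharacter.cast_charDegree, ← hq.isCharacter.cast_charDegree] at h14
    have := hp.charDegree_pos
    have := hq.charDegree_pos
    norm_cast at h14; omega
  · exact key p q hp hq h10 h12 h13
  · exact key q p hq hp (classInner_eq_zero_comm.1 h10) (by simpa [add_comm] using h12) (by linarith)
  · have : ((charDegree (-p) + charDegree (-q) + 1 : ℕ) : ℂ) = 0 := by
      push_cast; rw [hp.isCharacter.cast_charDegree, hq.isCharacter.cast_charDegree, ← h14]; simp only [Pi.neg_apply]; ring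
    norm_cast at this

end Cfsg.Agent.S0844
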