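import Cfsg.Statements.S0845
import Cfsg.Agent.Lib.Char.Quat

set_option autoImplicit false
open Cfsg

namespace Cfsg.Agent.S0845

open Cfsg.Agent.Char

/-- Suppose a Sylow 2-subgroup S of the finite group G is generalized quaternion of order at least 16. Then G has a normal subgroup M of even order such that G / M is non-abelian, that is, M does not contain the commutator subgroup of G. -/
theorem result {G : Type*} [Group G] [Finite G] (S : Sylow 2 G) (n : ℕ) (e : (S : Subgroup G) ≃* QuaternionGroup (2 ^ (n + 2))) : ∃ M : Subgroup G, M.Normal ∧ Even (Nat.card M) ∧ ¬ commutator G ≤ M := by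
  obtain ⟨a, b, h, hq⟩ := Transfer.invData_of_quaternion (Transfer.isSyl_top S) (by omega) e
  obtain ⟨M, h1, h2, h3⟩ := h.exists_M hq
  refine ⟨M, h1, even_iff_two_dvd.2 (h.ord_t ▸ M.orderOf_dvd_natCard h2), fun h4 => h3 ?_⟩
  have := M.orderOf_dvd_natCard (h4 (Subgroup.commutator_mono le_top le_top
    (h.commutator_eq.ge (Subgroup.mem_zpowers _))))
  rw [h.ord_sq] at this
  exact Dvd.dvd.trans ⟨2 ^ n, by ring⟩ this

end Cfsg.Agent.S0845
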