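import Cfsg.Statements.S0846
import Cfsg.Agent.Lib.Char.Quat

set_option autoImplicit false
open Cfsg

namespace Cfsg.Agent.S0846

open Cfsg.Agent.Char

/-- Suppose a Sylow 2-subgroup S of the finite group G is generalized quaternion of order at least 16. Then every Sylow 2-subgroup of the subgroup generated by the involutions of G is cyclic. -/
theorem result {G : Type*} [Group G] [Finite G] (S : Sylow 2 G) (n : ℕ) (e : (S : Subgroup G) ≃* QuaternionGroup (2 ^ (n + 2))) (Q : Sylow 2 ↥(Subgroup.closure {g : G | orderOf g = 2})) : IsCyclic Q := by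
  obtain ⟨a, b, h, hq⟩ := Transfer.invData_of_quaternion (Transfer.isSyl_top S) (by omega) e
  obtain ⟨M, h1, h2, h3⟩ := h.exists_M hq
  have h4 : Subgroup.closure {g : G | orderOf g = 2} ≤ M := (Subgroup.closure_le _).2 fun u hu => by
    obtain ⟨g, hg⟩ := h.exists_conj_mem ⟨1, hu⟩
    rw [← h.invol_eq hq hg ((SemiconjBy.conj_mk g u).orderOf_eq.symm.trans hu)] at h2
    simpa [mul_assoc] using h1.conj_mem _ h2 g⁻¹
  obtain ⟨k, hk⟩ := IsPGroup.iff_card.1 Q.isPGroup'
  refine isCyclic_of_card_dvd_prime (p := 2) (hk ▸ (pow_dvd_pow 2 (not_lt.1 fun h5 => h3 ?_)).trans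
    (pow_one 2).dvd)
  exact ((pow_dvd_pow 2 h5).trans (hk ▸ Subgroup.card_subgroup_dvd_card _)).trans
    (Subgroup.card_dvd_of_le h4)

end Cfsg.Agent.S0846
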