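import Cfsg.Statements.S0847
import Cfsg.Agent.Lib.Char.Quat

set_option autoImplicit false
open Cfsg

namespace Cfsg.Agent.S0847

open Cfsg.Agent.Char

/-- The Brauer–Suzuki Theorem in the case of order at least 16: if a Sylow 2-subgroup S of the finite group G is generalized quaternion of order at least 16 and G has no nontrivial normal subgroup of odd order, then the centre of G has order 2. -/
theorem result {G : Type*} [Group G] [Finite G] (S : Sylow 2 G) (n : ℕ) (e : (S : Subgroup G) ≃* QuaternionGroup (2 ^ (n + 2))) (hO : ∀ N : Subgroup G, N.Normal → Odd (Nat.card N) → N = ⊥) : Nat.card (Subgroup.center G) = 2 := by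
  obtain ⟨a, b, h, hq⟩ := Transfer.invData_of_quaternion (Transfer.isSyl_top S) (by omega) e
  have h1 := Transfer.zstar_center (Transfer.isolated_of_uniq (h.uniq hq) h.ord_t)
    (Transfer.oddCore_eq_bot_iff.2 hO)
  rw [← h.ord_t, ← Nat.card_zpowers, le_antisymm (Subgroup.zpowers_le.2 h1) fun z hz => ?_]
  have h2 : ∀ k, (Subgroup.zpowers (z ^ k)).Normal := fun k =>
    ⟨fun x hx g => by rwa [Subgroup.mem_center_iff.1 (Subgroup.zpowers_le.2 (pow_mem hz k) hx) g,
      mul_inv_cancel_right]⟩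
  obtain ⟨k, r, hr, e⟩ := Nat.exists_eq_two_pow_mul_odd (orderOf_pos z).ne'
  have h3 := Subgroup.zpowers_eq_bot.1 (hO _ (h2 (2 ^ k)) (hr.of_dvd_nat (by
    rw [Nat.card_zpowers, orderOf_dvd_iff_pow_eq_one, ← pow_mul, ← e, pow_orderOf_eq_one])))
  obtain ⟨j, -, hj⟩ := (Nat.dvd_prime_pow Nat.prime_two).1 (orderOf_dvd_of_pow_eq_one h3)
  obtain ⟨g, hg⟩ := h.exists_conj_mem ⟨j, hj⟩
  rw [Subgroup.mem_center_iff.1 hz g, mul_inv_cancel_right] at hg
  by_cases h4 : z = 1
  · exact h4 ▸ one_mem _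
  exact h.invol_eq hq hg (orderOf_eq_prime ((sq z).trans (h.central hg fun s _ =>
    Subgroup.mem_center_iff.1 hz s)) h4) ▸ Subgroup.mem_zpowers _

end Cfsg.Agent.S0847
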