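import Cfsg.Statements.S0849
import Cfsg.Agent.Lib.Char.TIFrob

set_option autoImplicit false
open Cfsg

namespace Cfsg.Agent.S0849

open Cfsg.Agent.Char

open Cfsg.Agent.Char in
theorem sum_pairs {G : Type*} [Group G] [Fintype G] (f : G → ℂ) (u v x : G)
    [DecidablePred fun p : G × G => IsConj u p.1 ∧ IsConj v p.2] :
    ∑ p : G × G with IsConj u p.1 ∧ IsConj v p.2, f (x⁻¹ * (p.1 * p.2) * x) =
      ∑ p : G × G with IsConj u p.1 ∧ IsConj v p.2, f (p.1 * p.2) := by
  refine Finset.sum_equiv ((MulAut.conj x⁻¹).toEquiv.prodCongr (MulAut.conj x⁻¹).toEquiv)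
    (fun p => ?_) fun p _ => by simp [mul_assoc]
  have : ∀ a b : G, IsConj a b ↔ IsConj a (x⁻¹ * b * x) := fun a b =>
    ⟨fun h => h.trans (isConj_iff.2 ⟨x⁻¹, by simp⟩),
      fun h => h.trans (isConj_iff.2 ⟨x, by simp [mul_assoc]⟩)⟩
  simp only [Finset.mem_filter, Finset.mem_univ, true_and]
  rw [this u p.1, this v p.2]
  simp

/-- Let H be a subgroup of a finite group G and S a subset of H that is mapped to itself under conjugation by H, is disjoint from its conjugate by any element outside H, and is closed under inverses. Let φ be a class function of H vanishing on H away from S, and let u, v be involutions of G. Then the sum of the induced function of φ over all products a * b with a conjugate to u and b conjugate to v equals the index of H times the sum of φ (a * b) over such pairs with a and b in H. -/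
theorem result {G : Type*} [Group G] [Fintype G] (H : Subgroup G) (S : Set G) (hSH : S ⊆ H) (hHS : ∀ h ∈ H, ∀ s ∈ S, h * s * h⁻¹ ∈ S) (hTI : ∀ g : G, g ∉ H → ∀ s ∈ S, g * s * g⁻¹ ∉ S) (hinv : ∀ s ∈ S, s⁻¹ ∈ S) (φ : H → ℂ) (hφ : Cfsg.IsClassFunction H φ) (hφS : ∀ x : H, (x : G) ∉ S → φ x = 0) (u v : G) (hu : orderOf u = 2) (hv : orderOf v = 2) : ∑ᶠ p ∈ {p : G × G | IsConj u p.1 ∧ IsConj v p.2}, Cfsg.indFun H φ (p.1 * p.2) = (H.index : ℂ) * ∑ᶠ p ∈ {p : H × H | IsConj u (p.1 : G) ∧ IsConj v (p.2 : G)}, φ (p.1 * p.2) := by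
  classical
  have := Fintype.ofFinite H
  have hsq : ∀ {w a : G}, orderOf w = 2 → IsConj w a → a * a = 1 := fun {w a} hw h => by
    obtain ⟨c, rfl⟩ := isConj_iff.1 h
    have : w * w = 1 := by rw [← pow_two, ← hw, pow_orderOf_eq_one]
    calc c * w * c⁻¹ * (c * w * c⁻¹) = c * (w * w) * c⁻¹ := by group
      _ = 1 := by simp [this]
  rw [finsum_mem_eq_finite_toFinset_sum _ (Set.toFinite _),
    finsum_mem_eq_finite_toFinset_sum _ (Set.toFinite _)]
  simp only [Set.Finite.toFinset_setOf, indFun]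
  rw [← Finset.mul_sum, Finset.sum_comm]
  simp only [sum_pairs (extendByZero H φ) u v]
  rw [Finset.sum_const, Finset.card_univ, nsmul_eq_mul, ← mul_assoc, ← Nat.card_eq_fintype_card,
    ← H.card_mul_index, Nat.cast_mul, inv_mul_cancel_left₀ (card_ne_zero' H)]
  congr 1
  symm
  refine Finset.sum_of_injOn (fun p : H × H => ((p.1 : G), (p.2 : G)))
    (fun p _ q _ e => Prod.ext (Subtype.ext (congrArg Prod.fst e)) (Subtype.ext (congrArg Prod.snd e)))
    (fun p hp => by simpa using hp) (fun p hp hn => ?_) fun p _ => (extendByZero_coe H φ (p.1 * p.2)).symm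
  rw [Finset.mem_filter] at hp
  by_cases e : p.1 * p.2 ∈ H
  swap
  · exact extendByZero_of_not_mem H φ e
  refine (extendByZero_coe H φ ⟨_, e⟩).trans (hφS _ fun hs => hn ?_)
  have h1 := hsq hu hp.2.1
  have h2 := hsq hv hp.2.2
  have h3 : p.1 ∈ H := by
    by_contra h3
    refine hTI _ h3 _ hs ?_
    convert hinv _ hs using 1
    rw [mul_inv_rev, inv_eq_of_mul_eq_one_right h1, inv_eq_of_mul_eq_one_right h2, ← mul_assoc, h1,
      one_mul]
  exact ⟨(⟨p.1, h3⟩, ⟨p.2, (H.mul_mem_cancel_left h3).1 e⟩), by simpa using hp.2, rfl⟩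

end Cfsg.Agent.S0849
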