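import Cfsg.Statements.S0850
import Cfsg.Agent.Lib.Char.TIFrob

set_option autoImplicit false
open Cfsg

namespace Cfsg.Agent.S0850

open Cfsg.Agent.Char

/-- Let K be a subgroup of the finite group G that meets each conjugate by an element outside its normalizer N trivially, is properly contained in N, and contains the centralizer of each of its non-identity elements (a T.I. subgroup with Frobenius normalizer). Then no element of N outside K is conjugate in G to an element of K, and for every class function ϑ of N that vanishes on N away from K and at the identity, the function induced from ϑ to G agrees with ϑ on all of N. -/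
theorem result {G : Type*} [Group G] [Fintype G] (K : Subgroup G) (hTI : ∀ g : G, g ∉ Subgroup.normalizer (K : Set G) → ∀ k ∈ K, g * k * g⁻¹ ∈ K → k = 1) (hlt : K < Subgroup.normalizer (K : Set G)) (hC : ∀ k ∈ K, k ≠ 1 → Subgroup.centralizer ({k} : Set G) ≤ K) : (∀ x ∈ Subgroup.normalizer (K : Set G), x ∉ K → ∀ g : G, g * x * g⁻¹ ∉ K) ∧ ∀ (ϑ : Subgroup.normalizer (K : Set G) → ℂ), Cfsg.IsClassFunction (Subgroup.normalizer (K : Set G)) ϑ → (∀ x : Subgroup.normalizer (K : Set G), (x : G) ∉ K → ϑ x = 0) → ϑ 1 = 0 → ∀ x : Subgroup.normalizer (K : Set G), Cfsg.indFun (Subgroup.normalizer (K : Set G)) ϑ x = ϑ x := by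
  have h1 : ∀ x ∈ Subgroup.normalizer (K : Set G), x ∉ K → ∀ g : G, g * x * g⁻¹ ∉ K := by
    intro x hx hxK g hg
    have := Fintype.ofFinite (Subgroup.normalizer (K : Set G))
    have frob := frobMod_subgroupOf (Subgroup.normalizer (K : Set G)) hC
    have h2 : orderOf x ∣ Nat.card K := by
      have := K.orderOf_dvd_natCard hg
      rwa [← MulAut.conj_apply, MulEquiv.orderOf_eq] at this
    have h3 : orderOf (QuotientGroup.mk' (K.subgroupOf (Subgroup.normalizer (K : Set G))) ⟨x, hx⟩) = 1 :=
      Nat.eq_one_of_dvd_coprimes frob.coprime (orderOf_dvd_natCard _)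
        ((orderOf_map_dvd _ _).trans (by rwa [card_subgroupOf_normalizer, ← Subgroup.orderOf_coe]))
    exact hxK ((QuotientGroup.eq_one_iff (N := K.subgroupOf (Subgroup.normalizer (K : Set G)))
      ⟨x, hx⟩).1 (orderOf_eq_one_iff.1 h3))
  refine ⟨h1, fun ϑ h2 h3 h4 x => indFun_apply_of_TI _ h2 x fun g hg hx => ?_⟩
  by_cases e : g * x * g⁻¹ ∈ K
  swap
  · exact h3 _ e
  have h5 : (x : G) = 1 := hTI g hg x (by_contra fun h => h1 x x.2 h g e) e
  convert h4
  simp [h5]

end Cfsg.Agent.S0850
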