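import Cfsg.Statements.S0851
import Cfsg.Agent.Lib.Char.TIFrob

set_option autoImplicit false
open Cfsg

namespace Cfsg.Agent.S0851

open Cfsg.Agent.Char

/-- Let K be a subgroup of the finite group G that meets each conjugate by an element outside its normalizer N trivially, is properly contained in N, and contains the centralizer of each of its non-identity elements (a T.I. subgroup with Frobenius normalizer). Suppose K is abelian, let e be the index of K in N, and call an irreducible character of N relevant when it takes at some element of K a value different from its degree. Then either there is exactly one relevant character and K is an elementary abelian p-group of order e + 1 for some prime p, or there are a sign ε and an injective map f from the relevant characters to the irreducible characters of G such that inducing χ - ξ to G gives ε (f χ - f ξ) for all relevant χ and ξ. -/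
theorem result {G : Type*} [Group G] [Fintype G] (K : Subgroup G) (hTI : ∀ g : G, g ∉ Subgroup.normalizer (K : Set G) → ∀ k ∈ K, g * k * g⁻¹ ∈ K → k = 1) (hlt : K < Subgroup.normalizer (K : Set G)) (hC : ∀ k ∈ K, k ≠ 1 → Subgroup.centralizer ({k} : Set G) ≤ K) (hab : ∀ a ∈ K, ∀ b ∈ K, a * b = b * a) : (Nat.card {χ : Cfsg.IrrCharacter (Subgroup.normalizer (K : Set G)) // ∃ k : Subgroup.normalizer (K : Set G), (k : G) ∈ K ∧ (χ : ↥(Subgroup.normalizer (K : Set G)) → ℂ) k ≠ (χ : ↥(Subgroup.normalizer (K : Set G)) → ℂ) 1} = 1 ∧ ∃ p : ℕ, p.Prime ∧ Cfsg.IsElementaryAbelian p K ∧ Nat.card K = (K.subgroupOf (Subgroup.normalizer (K : Set G))).index + 1) ∨ ∃ (ε : ℂ) (f : {χ : Cfsg.IrrCharacter (Subgroup.normalizer (K : Set G)) // ∃ k : Subgroup.normalizer (K : Set G), (k : G) ∈ K ∧ (χ : ↥(Subgroup.normalizer (K : Set G)) → ℂ) k ≠ (χ : ↥(Subgroup.normalizer (K : Set G)) → ℂ) 1} → Cfsg.IrrCharacter G), (ε = 1 ∨ ε = -1) ∧ Function.Injective f ∧ ∀ χ ξ, Cfsg.indFun (Subgroup.normalizer (K : Set G)) ((χ.1 : ↥(Subgroup.normalizer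 (K : Set G)) → ℂ) - (ξ.1 : ↥(Subgroup.normalizer (K : Set G)) → ℂ)) = ε • ((f χ : G → ℂ) - (f ξ : G → ℂ)) := by
  right
  have := Fintype.ofFinite (Subgroup.normalizer (K : Set G))
  have frob := frobMod_subgroupOf (Subgroup.normalizer (K : Set G)) hC
  obtain ⟨ε, h1, μ, h2, h3, h4⟩ := (isoOn_ind_of_ti (ti_subgroupOf hTI)).exists_uniform_irr
    (fun _ => frob.irr) (by
      have : ⁅K.subgroupOf (Subgroup.normalizer (K : Set G)),
          K.subgroupOf (Subgroup.normalizer (K : Set G))⁆ ≤ ⊥ := by
        rw [le_bot_iff, Subgroup.commutator_eq_bot_iff_le_centralizer]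
        exact fun a ha b hb => Subtype.ext (hab _ hb _ ha)
      intro χ hχ ψ hψ
      rw [apply_one_of_mem_indD hχ this, apply_one_of_mem_indD hψ this])
  refine ⟨ε, fun χ => ⟨μ ⟨χ.1, ti_set_eq hC ▸ ⟨χ.1.2, χ.2⟩⟩, h2 _⟩, h1, fun χ ξ e => ?_,
    fun χ ξ => h4 ⟨_, _⟩ ⟨_, _⟩⟩
  have := congrArg Subtype.val (h3 (congrArg Subtype.val e))
  exact Subtype.ext (Subtype.ext this)

end Cfsg.Agent.S0851
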