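import Cfsg.Statements.S0852
import Cfsg.Agent.Lib.Char.TIFrob

set_option autoImplicit false
open Cfsg

namespace Cfsg.Agent.S0852

open Cfsg.Agent.Char

/-- Let K be a subgroup of the finite group G that meets each conjugate by an element outside its normalizer N trivially, is properly contained in N, and contains the centralizer of each of its non-identity elements (a T.I. subgroup with Frobenius normalizer). Let S be the set of irreducible characters of N taking at some element of K a value different from their degree, suppose S has at least two members, and let star be a linear isometry on the integer span of S into the generalized characters of G that agrees with induction on the members vanishing at the identity (so S is coherent, with star as the extending isometry). Then an irreducible character ψ of G is of the form star χ or -star χ for some χ in S if and only if ψ is not constant on the non-identity elements of K. -/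
theorem result {G : Type*} [Group G] [Fintype G] (K : Subgroup G) (hTI : ∀ g : G, g ∉ Subgroup.normalizer (K : Set G) → ∀ k ∈ K, g * k * g⁻¹ ∈ K → k = 1) (hlt : K < Subgroup.normalizer (K : Set G)) (hC : ∀ k ∈ K, k ≠ 1 → Subgroup.centralizer ({k} : Set G) ≤ K) [Fintype ↥(Subgroup.normalizer (K : Set G))] (S : Set (↥(Subgroup.normalizer (K : Set G)) → ℂ)) (hS : S = {χ : ↥(Subgroup.normalizer (K : Set G)) → ℂ | Cfsg.IsIrrCharacter ↥(Subgroup.normalizer (K : Set G)) χ ∧ ∃ k : ↥(Subgroup.normalizer (K : Set G)), (k : G) ∈ K ∧ χ k ≠ χ 1}) (htwo : ∃ χ ∈ S, ∃ ξ ∈ S, χ ≠ ξ) (star : (↥(Subgroup.normalizer (K : Set G)) → ℂ) → (G → ℂ)) (hstar : Cfsg.IsLinearIsometryOn (Cfsg.zspan S) star) (hext : ∀ α ∈ Cfsg.zspanOn S ({1}ᶜ : Set ↥(Subgroup.normalizer (K : Set G))), star α = Cfsg.indFun (Subgroup.normalizer (K : Set G)) α) (ψ : G → ℂ) (hψ : Cfsg.IsIrrCharacter G ψ) : (∃ χ ∈ S, ψ = star χ ∨ ψ = -star χ) ↔ ∃ a ∈ K, ∃ b ∈ K, a ≠ 1 ∧ b ≠ 1 ∧ ψ a ≠ ψ b := by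
  have frob := frobMod_subgroupOf (Subgroup.normalizer (K : Set G)) hC
  rw [ti_set_eq hC] at hS
  subst hS
  obtain ⟨ν, hν, e⟩ := exists_cohWith_of_isometry (T := indLin (Subgroup.normalizer (K : Set G)))
    (fun _ => isCharacter_of_mem_indD) hstar hext
  have e' := fun χ hχ => e χ (Submodule.subset_span hχ)
  have hfr : ∀ α, α 1 = 0 → classInner (ν α) ψ =
      classInner α fun x : Subgroup.normalizer (K : Set G) => ψ x := fun α h0 => by
    rw [hν.ext α h0]
    exact frobenius_left _ α hψ.isClassFunction
  constructor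
  · rintro ⟨χ, hχ, h1⟩
    by_contra! h2
    obtain ⟨ξ, hξ, hne⟩ := Set.Nontrivial.exists_ne htwo χ
    have h3 := hfr (ξ 1 • χ - χ 1 • ξ) (by simp [mul_comm])
    rw [classInner_eq_zero_of_const (smul_sub_smul_mem_span hχ hξ _ _) (by simp [mul_comm])
      fun a ha b hb ha1 hb1 => h2 a ha b hb (fun e => ha1 (Subtype.ext e))
        (fun e => hb1 (Subtype.ext e)), map_sub, map_smul, map_smul] at h3
    rw [← e' χ hχ] at h1
    rcases h1 with rfl | rfl <;>
      simp [classInner_sub_left, classInner_smul_left, classInner_neg_right, hν.iso χ hχ χ hχ,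
        hν.iso ξ hξ χ hχ, (frob.irr hχ).classInner_self,
        (frob.irr hξ).classInner_of_ne (frob.irr hχ) hne, (frob.irr hξ).apply_one_ne_zero] at h3
  · rintro ⟨a, ha, b, hb, ha1, hb1, h1⟩
    by_contra! h2
    obtain ⟨ξ, hξ, -⟩ := htwo
    have h3 : ∀ χ ∈ indD (K.subgroupOf _) (K.subgroupOf _) ⊥, classInner (ν χ) ψ = 0 := fun χ hχ =>
      (hν.isDirr hχ (frob.irr hχ)).classInner_eq_zero hψ.isDirr (e' χ hχ ▸ (h2 χ hχ).1.symm)
        (e' χ hχ ▸ fun e => (h2 χ hχ).2 (by rw [e, neg_neg]))
    have h4 := fun (k : Subgroup.normalizer (K : Set G)) => frob.apply_eq (k := k)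
      (β := fun x : Subgroup.normalizer (K : Set G) => ψ x) (hψ.isCharacter.res _).isClassFunction
      (c := classInner (fun x : Subgroup.normalizer (K : Set G) => ψ x) ξ / ξ 1) fun χ hχ => by
        have h5 := hfr (ξ 1 • χ - χ 1 • ξ) (by simp [mul_comm])
        rw [map_sub, map_smul, map_smul, classInner_sub_left, classInner_smul_left,
          classInner_smul_left, h3 χ hχ, h3 ξ hξ, classInner_sub_left, classInner_smul_left,
          classInner_smul_left, (frob.irr hχ).isGen.classInner_comm (hψ.isCharacter.res _).isGen,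
          (frob.irr hξ).isGen.classInner_comm (hψ.isCharacter.res _).isGen] at h5
        rw [div_mul_eq_mul_div, eq_div_iff (frob.irr hξ).apply_one_ne_zero]
        linear_combination -h5
    exact h1 ((h4 ⟨a, hlt.le ha⟩ ha fun e => ha1 (congrArg Subtype.val e)).trans
      (h4 ⟨b, hlt.le hb⟩ hb fun e => hb1 (congrArg Subtype.val e)).symm)

end Cfsg.Agent.S0852
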