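import Cfsg.Statements.S0853
import Cfsg.Agent.Lib.Char.TIFrob

set_option autoImplicit false
open Cfsg

namespace Cfsg.Agent.S0853

open Cfsg.Agent.Char

/-- Let K be a subgroup of the finite group G that meets each conjugate by an element outside its normalizer N trivially, is properly contained in N, and contains the centralizer of each of its non-identity elements (a T.I. subgroup with Frobenius normalizer). Let S be the set of irreducible characters of N taking at some element of K a value different from their degree, suppose S has at least two members, and let star be a linear isometry on the integer span of S into the generalized characters of G that agrees with induction on the members vanishing at the identity (so S is coherent, with star as the extending isometry). Then there is a single integer m such that star χ k - χ k = m * χ 1 / e for every χ in S and every non-identity element k of K, where e is the index of K in N. -/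
theorem result {G : Type*} [Group G] [Fintype G] (K : Subgroup G) (hTI : ∀ g : G, g ∉ Subgroup.normalizer (K : Set G) → ∀ k ∈ K, g * k * g⁻¹ ∈ K → k = 1) (hlt : K < Subgroup.normalizer (K : Set G)) (hC : ∀ k ∈ K, k ≠ 1 → Subgroup.centralizer ({k} : Set G) ≤ K) [Fintype ↥(Subgroup.normalizer (K : Set G))] (S : Set (↥(Subgroup.normalizer (K : Set G)) → ℂ)) (hS : S = {χ : ↥(Subgroup.normalizer (K : Set G)) → ℂ | Cfsg.IsIrrCharacter ↥(Subgroup.normalizer (K : Set G)) χ ∧ ∃ k : ↥(Subgroup.normalizer (K : Set G)), (k : G) ∈ K ∧ χ k ≠ χ 1}) (htwo : ∃ χ ∈ S, ∃ ξ ∈ S, χ ≠ ξ) (star : (↥(Subgroup.normalizer (K : Set G)) → ℂ) → (G → ℂ)) (hstar : Cfsg.IsLinearIsometryOn (Cfsg.zspan S) star) (hext : ∀ α ∈ Cfsg.zspanOn S ({1}ᶜ : Set ↥(Subgroup.normalizer (K : Set G))), star α = Cfsg.indFun (Subgroup.normalizer (K : Set G)) α) : ∃ m : ℤ, ∀ χ ∈ S, ∀ k : ↥(Subgroup.normalizer (K : Set G)), (k : G) ∈ K → k ≠ 1 → star χ k - χ k = (m : ℂ) * χ 1 / ((K.subgroupOf (Subgroup.normalizer (K : Set G))).index : ℂ) := by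
  have frob := frobMod_subgroupOf (Subgroup.normalizer (K : Set G)) hC
  rw [ti_set_eq hC] at hS
  subst hS
  obtain ⟨ν, hν, e⟩ := exists_cohWith_of_isometry (T := indLin (Subgroup.normalizer (K : Set G)))
    (fun _ => isCharacter_of_mem_indD) hstar hext
  have e' := fun χ hχ => e χ (Submodule.subset_span hχ)
  have hnil := frob.isNilpotent (subgroupOf_ne_top hlt)
  have h0 : K.subgroupOf (Subgroup.normalizer (K : Set G)) ≠ ⊥ := fun e => by
    obtain ⟨χ, hχ, -⟩ := htwo
    rw [indD_eq_empty e.le] at hχ
    exact hχ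
  obtain ⟨ζ, hζ, hζ1⟩ := exists_mem_indD_index (M := ⊥) le_rfl bot_le
    (not_le_commutator_sup inferInstance (bot_lt_iff_ne_bot.2 h0))
  have he : ((K.subgroupOf (Subgroup.normalizer (K : Set G))).index : ℂ) ≠ 0 := by
    exact_mod_cast Subgroup.index_ne_zero_of_finite
  have hβ := ((hν.gen ζ hζ).res (Subgroup.normalizer (K : Set G))).sub (frob.irr hζ).isGen
  obtain ⟨t, ht⟩ := hβ.classInner_eq_int (frob.irr hζ).isGen
  obtain ⟨n, hn⟩ := hβ.exists_degree
  have h1 := fun (k : Subgroup.normalizer (K : Set G)) => frob.apply_eq (k := k) hβ.isClassFunction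
    (c := t / (K.subgroupOf (Subgroup.normalizer (K : Set G))).index) fun χ hχ => by
      have h5 : classInner (ν ζ) (ν (ζ 1 • χ - χ 1 • ζ)) = classInner
          (fun x : Subgroup.normalizer (K : Set G) => ν ζ x) (ζ 1 • χ - χ 1 • ζ) := by
        rw [hν.ext (ζ 1 • χ - χ 1 • ζ) (by simp [mul_comm])]
        exact frobenius_right _ _ (hν.gen ζ hζ).isClassFunction
      rw [hν.iso_span (Submodule.subset_span hζ) (smul_sub_smul_mem_span hχ hζ _ _)] at h5
      simp only [classInner_sub_right, classInner_smul_right, classInner_sub_left,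
        (frob.irr hχ).isCharacter.conj_apply_one, (frob.irr hζ).isCharacter.conj_apply_one] at h5 ht ⊢
      rw [div_mul_eq_mul_div, eq_div_iff he, ← hζ1, ← ht]
      linear_combination -h5
  refine ⟨n - t * Nat.card (K.subgroupOf (Subgroup.normalizer (K : Set G))), fun χ hχ k hk hk1 => ?_⟩
  have h2 := h1 k hk hk1
  rw [hn, div_mul_cancel₀ _ he] at h2
  have h3 := congrFun (hν.ext (ζ 1 • χ - χ 1 • ζ) (by simp [mul_comm])) k
  have hm := smul_sub_smul_mem_span hχ hζ (ζ 1) (χ 1)
  rw [show indLin _ (ζ 1 • χ - χ 1 • ζ) k = _ from ind_apply_of_ti (ti_subgroupOf hTI)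
    (isClassFunction_of_mem_span (fun _ h => (frob.irr h).isClassFunction) hm)
    (fun x hx => by simp [eq_zero_of_mem_indD hχ hx, eq_zero_of_mem_indD hζ hx]) hk hk1,
    map_sub, map_smul, map_smul] at h3
  simp only [Pi.sub_apply, Pi.smul_apply, smul_eq_mul] at h2 h3
  rw [← e' χ hχ, eq_div_iff he, ← hζ1]
  push_cast
  linear_combination h3 + χ 1 * h2

end Cfsg.Agent.S0853
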