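import Cfsg.Statements.S0855
import Cfsg.Agent.Lib.Char.Degree

set_option autoImplicit false
open Cfsg

namespace Cfsg.Agent.S0855

open Cfsg.Agent.Char

/-- For a finite group G and a prime p: every irreducible character of G has degree a power of p if and only if G has an abelian normal subgroup whose order is prime to p and whose index is a power of p. -/
theorem result {G : Type*} [Group G] [Finite G] (p : ℕ) (hp : p.Prime) : (∀ χ : Cfsg.IrrCharacter G, ∃ k : ℕ, (χ : G → ℂ) 1 = (p : ℂ) ^ k) ↔ ∃ A : Subgroup G, A.Normal ∧ (∀ a ∈ A, ∀ b ∈ A, a * b = b * a) ∧ Nat.Coprime (Nat.card A) p ∧ ∃ k : ℕ, A.index = p ^ k := by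
  refine ⟨fun h => ?_, fun ⟨A, _, h1, _, k, h2⟩ χ => ?_⟩
  · induction hn : Nat.card G using Nat.strong_induction_on generalizing G with
    | _ n ih =>
    classical
    by_cases hp1 : p ∣ Nat.card G
    · have h1 : p ∣ (commutator G).index := by
        refine (Nat.dvd_add_left (Finset.dvd_sum fun χ hχ => ?_)).1
          (index_add_sum_nonlinear (G := G) ▸ hp1)
        obtain ⟨k, hk⟩ := h χ
        have h2 := χ.2.isCharacter.cast_charDegree
        rcases k with _ | k
        · exact absurd (by simpa using hk) (Finset.mem_filter.1 hχ).2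
        · have h3 : charDegree χ.1 = p ^ (k + 1) := by rw [hk] at h2; exact_mod_cast h2
          rw [h3]
          exact dvd_pow (dvd_pow_self p (by simp)) two_ne_zero
      have := Fact.mk hp
      obtain ⟨N, _, hN, j, hj⟩ : ∃ N : Subgroup G, N.Normal ∧ N ≠ ⊤ ∧ ∃ j, N.index = p ^ j := by
        let f : Abelianization G →* Abelianization G :=
          powMonoidHom (ordCompl[p] (Nat.card (Abelianization G)))
        refine ⟨(f.comp Abelianization.of).ker, inferInstance, fun h2 => ?_, ?_⟩
        · obtain ⟨x, hx⟩ := exists_prime_orderOf_dvd_card' (G := Abelianization G) p h1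
          obtain ⟨y, rfl⟩ := QuotientGroup.mk_surjective x
          have h3 := orderOf_dvd_of_pow_eq_one (h2.ge (Subgroup.mem_top y))
          exact Nat.not_dvd_ordCompl hp Nat.card_pos.ne' (hx ▸ h3)
        · rw [Subgroup.index_ker]
          refine IsPGroup.iff_card.1 (Solv.isPGroup_iff_forall_mem.2 ?_)
          rintro _ ⟨y, rfl⟩
          refine ⟨(Nat.card (Abelianization G)).factorization p, ?_⟩
          simp only [f, MonoidHom.comp_apply, powMonoidHom_apply]
          rw [← pow_mul, mul_comm, Nat.ordProj_mul_ordCompl_eq_self, pow_card_eq_one']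
      have := Fintype.ofFinite G
      have := Fintype.ofFinite N
      obtain ⟨A, h2, h3, h4, k, h5⟩ := ih _ (hn ▸ Solv.card_lt_of_ne_top hN) (G := N) (fun θ => by
        obtain ⟨χ, h2, h3⟩ := θ.2.exists_irr_over
        obtain ⟨k, hk⟩ := h ⟨χ, h2⟩
        obtain ⟨d, -, hd⟩ := θ.2.exists_degree
        obtain ⟨i, -, hi⟩ := (Nat.dvd_prime_pow hp).1
          (h2.degree_dvd_of_under θ.2 h3 (c := p ^ k) (by simpa using hk) hd)
        exact ⟨i, by rw [hd, hi]; simp⟩) rfl
      refine ⟨A.map N.subtype, ⟨?_⟩, ?_, ?_, k + j, ?_⟩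
      · rintro _ ⟨a, ha, rfl⟩ g
        refine ⟨⟨_, ‹N.Normal›.conj_mem a a.2 g⟩, IsPiElt.mem_of_index (π := {p}ᶜ) ?_ ?_, rfl⟩
        · refine isPiElt_coe.1 (IsPiElt.conj (isPiElt_coe.2 (isPiElt_of_mem ?_ ha)) g)
          rintro q hq h6 rfl
          exact hq.one_lt.ne' (Nat.eq_one_of_dvd_coprimes h4 h6 dvd_rfl)
        · intro q hq h6
          simpa using (Nat.prime_dvd_prime_iff_eq hq hp).1 (hq.dvd_of_dvd_pow (h5 ▸ h6))
      · rintro _ ⟨a, ha, rfl⟩ _ ⟨b, hb, rfl⟩
        exact congrArg Subtype.val (h3 a ha b hb)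
      · rwa [Subgroup.card_map_of_injective N.subtype_injective]
      · rw [Subgroup.index_map_subtype, h5, hj, pow_add]
    · refine ⟨⊤, inferInstance, fun a _ b _ => comm_of_forall_linear (fun χ hχ => ?_) a b,
        by simpa using ((Nat.Prime.coprime_iff_not_dvd hp).2 hp1).symm, 0, by simp⟩
      obtain ⟨k, hk⟩ := h ⟨χ, hχ⟩
      rcases k with _ | k
      · simpa using hk
      · exact absurd ((dvd_pow_self p (by simp)).trans
          (hχ.degree_dvd_card (d := p ^ (k + 1)) (by simpa using hk))) hp1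
  · have := Fintype.ofFinite G
    have := Fintype.ofFinite A
    obtain ⟨d, -, hd⟩ := χ.2.exists_degree
    obtain ⟨i, -, hi⟩ := (Nat.dvd_prime_pow hp).1 (h2 ▸ χ.2.degree_dvd_index_of_comm h1 hd)
    exact ⟨i, by rw [hd, hi]; simp⟩

end Cfsg.Agent.S0855
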