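import Cfsg.Statements.S0858
import Cfsg.Agent.Lib.Char.Down

set_option autoImplicit false
open Cfsg

namespace Cfsg.Agent.S0858

open Cfsg.Agent.Char

/-- Let N be a normal subgroup of the finite group G with G / N solvable, and suppose that for every subgroup H containing N and all subgroups L < K between N and H that are normal in H with no subgroup normal in H strictly between them, the index of L in K is not a perfect square. Then every irreducible character χ of G is induced from an irreducible character ψ of some subgroup H containing N such that the restriction of ψ to N is irreducible. -/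
theorem result {G : Type*} [Group G] [Fintype G] (N : Subgroup G) [N.Normal] (hsolv : Group.IsSolvable (G ⧸ N)) (hchief : ∀ (H K L : Subgroup G), N ≤ L → L < K → K ≤ H → (∀ h ∈ H, ∀ k ∈ K, h * k * h⁻¹ ∈ K) → (∀ h ∈ H, ∀ l ∈ L, h * l * h⁻¹ ∈ L) → (∀ M : Subgroup G, L ≤ M → M ≤ K → (∀ h ∈ H, ∀ m ∈ M, h * m * h⁻¹ ∈ M) → M = L ∨ M = K) → ¬ IsSquare (L.relIndex K)) (χ : G → ℂ) (hχ : Cfsg.IsIrrCharacter G χ) : ∃ (H : Subgroup G) (hNH : N ≤ H) (ψ : H → ℂ), Cfsg.IsIrrCharacter H ψ ∧ Cfsg.indFun H ψ = χ ∧ Cfsg.IsIrrCharacter N (fun n : N => ψ ⟨(n : G), hNH n.2⟩) := by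
  induction hn : Nat.card G using Nat.strong_induction_on generalizing G with
  | _ n ih =>
  by_cases h0 : IsIrrCharacter N fun n : N => χ n
  · exact ⟨⊤, le_top, fun x => χ x, hχ.comp_equiv Subgroup.topEquiv,
      indFun_res_of_eq_top rfl hχ.isClassFunction, h0⟩
  obtain ⟨K, -, ⟨_, h1, h2⟩, h3⟩ := Solv.exists_minimal_le
    (P := fun K : Subgroup G => K.Normal ∧ N ≤ K ∧ IsIrrCharacter K fun k : K => χ k) (N := ⊤)
    ⟨inferInstance, le_top, hχ.comp_equiv Subgroup.topEquiv⟩
  obtain ⟨L, _, h4, h5, h6⟩ := exists_chief_below (lt_of_le_of_ne h1 (by rintro rfl; exact h0 h2))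
  obtain ⟨T, ψ, hT, h7, h8, rfl⟩ := hχ.exists_ind_of_not_homogeneous L (by
    rintro ⟨φ, e, h7, h8⟩
    rcases going_down h5 h6 (chief_elementary h5 h6 (Solv.isSolvable_quotient_of_le h4 hsolv)).1 h2
      (cj_res hχ.isClassFunction) with h | ⟨φ, e, -, -, h⟩ | ⟨F, h9, h10, h11⟩
    · exact h5.ne (h3 L ⟨‹_›, h4, h⟩ h5.le)
    · exact hchief ⊤ K L h4 h5 le_top (fun h _ k hk => ‹K.Normal›.conj_mem k hk h)
        (fun h _ k hk => ‹L.Normal›.conj_mem k hk h)
        (fun M h1 h2 h3 => h6 M ⟨fun m hm g => h3 g trivial m hm⟩ h1 h2) ⟨e, by rw [← h, sq]⟩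
    · classical
      have := Fintype.ofFinite L
      have h12 : ∀ ξ ∈ F, ξ = φ := fun ξ hξ => eq_of_constituent_of_smul h7 (h9 ξ hξ) (e := e) (by
        rw [← h8]
        refine (congrArg (classInner · ξ) h11).trans_ne ?_
        rw [← Finset.add_sum_erase _ _ hξ]
        exact (h9 ξ hξ).isCharacter.classInner_add_ne_zero
          (IsCharacter.sum fun a ha => (h9 a (Finset.mem_of_mem_erase ha)).isCharacter)
          (h9 ξ hξ).isCharacter (by rw [(h9 ξ hξ).classInner_self]; simp))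
      have h13 := Finset.card_le_one.2 fun a ha b hb => (h12 a ha).trans (h12 b hb).symm
      have h14 : L.relIndex K ≠ 0 := Subgroup.FiniteIndex.index_ne_zero
      exact h5.not_ge (Subgroup.relIndex_eq_one.1 (by omega)))
  have := Fintype.ofFinite T
  have hNT := h4.trans h7
  obtain ⟨H, hNH, ξ, h9, h10, h11⟩ := ih _ (hn ▸ Solv.card_lt_of_ne_top hT) (N.subgroupOf T)
    (Solv.isSolvable_quotient_subgroupOf hsolv T) (fun H K L h1 h2 h3 h4 h5 h6 => by
      have hinj := T.subtype_injective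
      rw [← Subgroup.relIndex_map_map_of_injective L K hinj]
      refine hchief (H.map T.subtype) _ _ (fun x hx => ⟨⟨x, hNT hx⟩, h1 hx, rfl⟩)
        (lt_of_le_of_ne (Subgroup.map_mono h2.le) fun h => h2.ne (Subgroup.map_injective hinj h))
        (Subgroup.map_mono h3) ?_ ?_ fun M h7 h8 h9 => ?_
      · rintro _ ⟨h, hh, rfl⟩ _ ⟨k, hk, rfl⟩
        exact ⟨_, h4 h hh k hk, rfl⟩
      · rintro _ ⟨h, hh, rfl⟩ _ ⟨k, hk, rfl⟩
        exact ⟨_, h5 h hh k hk, rfl⟩
      · rw [← Solv.subgroupOf_map_subtype_of_le (h8.trans (Subgroup.map_subtype_le K))]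
        exact (h6 (M.subgroupOf T) (Subgroup.map_le_iff_le_comap.1 h7)
          (fun x hx => by obtain ⟨y, h1, h2⟩ := h8 hx; exact Subtype.ext h2 ▸ h1)
          fun h hh m hm => h9 h ⟨h, hh, rfl⟩ m hm).imp (congrArg _) (congrArg _))
    ψ h8 rfl
  refine ⟨H.map T.subtype, fun x hx => ⟨⟨x, hNT hx⟩, hNH hx, rfl⟩, _,
    h9.comp_equiv (H.equivMapOfInjective _ T.subtype_injective).symm,
    by rw [← indFun_indFun_map, h10], ?_⟩
  convert h11.comp_equiv (Subgroup.subgroupOfEquivOfLe hNT).symm using 3 with x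
  rw [MulEquiv.symm_apply_eq]; rfl

end Cfsg.Agent.S0858
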