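import Cfsg.Statements.S0861
import Cfsg.Agent.Lib.Char.Degree

set_option autoImplicit false
open Cfsg

namespace Cfsg.Agent.S0861

open Cfsg.Agent.Char

/-- Let P be a normal abelian Sylow p-subgroup of the finite group G and suppose some element g of P has centralizer exactly P. Then the number of irreducible characters of G is at most the order of P, and if equality holds then G / P is abelian (the commutator subgroup lies in P). -/
theorem result {G : Type*} [Group G] [Finite G] (p : ℕ) [Fact p.Prime] (P : Sylow p G) [(P : Subgroup G).Normal] (hab : ∀ a ∈ P, ∀ b ∈ P, a * b = b * a) (g : G) (hg : g ∈ P) (hC : Subgroup.centralizer ({g} : Set G) = P) : Nat.card (Cfsg.IrrCharacter G) ≤ Nat.card P ∧ (Nat.card (Cfsg.IrrCharacter G) = Nat.card P → commutator G ≤ P) := by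
  have := Fintype.ofFinite G
  have := Fintype.ofFinite (P : Subgroup G)
  obtain ⟨k, hk⟩ := P.isPGroup' ⟨g, hg⟩
  have h0 : ∀ χ : IrrCharacter G, χ.1 g ≠ 0 := fun χ => by
    obtain ⟨d, -, hd⟩ := χ.2.exists_degree
    exact χ.2.isCharacter.ne_zero_of_not_dvd Fact.out (k := k) (congrArg Subtype.val hk) hd
      fun h => P.not_dvd_index (h.trans (χ.2.degree_dvd_index_of_comm hab hd))
  have h1 := sum_norm_sq_column g
  rw [hC] at h1
  refine ⟨?_, fun h => commutator_le_of_forall_linear fun χ hχ h2 => ?_⟩
  · have := card_le_sum_norm_sq _ (fun χ : IrrCharacter G => χ.2.isCharacter.isIntegral g) h0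
      fun σ => ⟨irrGalois σ, fun _ => rfl⟩
    rw [h1, ← Nat.card_eq_fintype_card] at this
    exact_mod_cast this
  · by_contra h3
    obtain ⟨d, -, hd⟩ := hχ.exists_degree
    have := card_lt_sum_norm_sq _ (fun χ : IrrCharacter G => χ.2.isCharacter.isIntegral g) h0
      (fun σ => ⟨irrGalois σ, fun _ => rfl⟩) (j := ⟨χ, hχ⟩) (by
        simp only
        rw [hχ.isCharacter.mem_charKer.1 (h2 hg), hd, Complex.norm_natCast]
        rw [hd] at h3
        exact_mod_cast h3)
    rw [h1, ← Nat.card_eq_fintype_card, h] at this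
    exact lt_irrefl _ this

end Cfsg.Agent.S0861
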