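import Cfsg.Statements.S0874
import Cfsg.Agent.Lib.Char.Brauer

set_option autoImplicit false
open Cfsg

namespace Cfsg.Agent.S0874

open Cfsg.Agent.Char

/-- For a finite group G and a prime p there are an integer m not divisible by p and a list of triples (E, φ, c), with E a p-elementary subgroup, φ a character of E and c an integer, such that the constant function m on G equals the sum of the c • (function induced from φ). -/
theorem result {G : Type*} [Group G] [Fintype G] (p : ℕ) (hp : p.Prime) : ∃ (m : ℤ) (l : List ((E : Subgroup G) × ((E → ℂ) × ℤ))), ¬ (p : ℤ) ∣ m ∧ (∀ t ∈ l, Cfsg.IsElementary p t.1 ∧ Cfsg.IsCharacter t.1 t.2.1) ∧ (fun _ : G => (m : ℂ)) = (l.map fun t => (t.2.2 : ℂ) • Cfsg.indFun t.1 t.2.1).sum := by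
  obtain ⟨m, h1, h⟩ := brauer_prime (G := G) hp
  suffices h2 : ∃ (l : List ((E : Subgroup G) × ((E → ℂ) × ℤ))),
      (∀ t ∈ l, Cfsg.IsElementary p t.1 ∧ Cfsg.IsCharacter t.1 t.2.1) ∧ (fun _ : G => (m : ℂ)) =
        (l.map fun t => (t.2.2 : ℂ) • Cfsg.indFun t.1 t.2.1).sum from
    h2.elim fun l hl => ⟨m, l, h1, hl⟩
  generalize (fun _ : G => (m : ℂ)) = f at h
  induction h using AddSubgroup.closure_induction with
  | mem x hx =>
    obtain ⟨E, hE, φ, hφ, rfl⟩ := hx
    exact ⟨[⟨E, φ, 1⟩], by simpa using ⟨hE, hφ⟩, by simp⟩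
  | zero => exact ⟨[], by simp, by simp⟩
  | add x y _ _ h1 h2 =>
    obtain ⟨a, ha, rfl⟩ := h1
    obtain ⟨b, hb, rfl⟩ := h2
    exact ⟨a ++ b, fun t ht => (List.mem_append.1 ht).elim (ha t) (hb t), by simp⟩
  | neg x _ h =>
    obtain ⟨a, ha, rfl⟩ := h
    refine ⟨a.map fun t => ⟨t.1, t.2.1, -t.2.2⟩, fun t ht => ?_, ?_⟩
    · obtain ⟨s, hs, rfl⟩ := List.mem_map.1 ht
      exact ha s hs
    · rw [List.sum_neg, List.map_map, List.map_map]
      congr 2
      ext t; simp

end Cfsg.Agent.S0874
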