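import Cfsg.Statements.S0875
import Cfsg.Agent.Lib.Char.BrauerApp

set_option autoImplicit false
open Cfsg

namespace Cfsg.Agent.S0875

open Cfsg.Agent.Char

/-- Let G be a finite group of order m * n with m and n coprime, and g an element whose order is coprime to m. Every x in G factors uniquely as x = u * v with u, v commuting, the order of u coprime to n and the order of v coprime to m; let ϑ be the function on G equal to n at those x whose factor v is conjugate to g and equal to 0 elsewhere. Then ϑ is a linear combination of the irreducible characters of G with algebraic-integer coefficients. -/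
theorem result {G : Type*} [Group G] [Fintype G] (m n : ℕ) (hmn : Nat.card G = m * n) (hcop : Nat.Coprime m n) (g : G) (hg : Nat.Coprime (orderOf g) m) (ϑ : G → ℂ) (hϑ1 : ∀ x : G, (∃ v : G, IsConj v g ∧ (∃ u : G, x = u * v ∧ Commute u v ∧ Nat.Coprime (orderOf u) n ∧ Nat.Coprime (orderOf v) m)) → ϑ x = n) (hϑ0 : ∀ x : G, (¬ ∃ v : G, IsConj v g ∧ (∃ u : G, x = u * v ∧ Commute u v ∧ Nat.Coprime (orderOf u) n ∧ Nat.Coprime (orderOf v) m)) → ϑ x = 0) : ∃ c : Cfsg.IrrCharacter G → ℂ, (∀ χ, c χ ∈ Cfsg.AlgInt) ∧ ϑ = ∑ᶠ χ : Cfsg.IrrCharacter G, c χ • (χ : G → ℂ) := by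
  classical
  have key : ϑ = fun x => if IsConj (piPart {q | ¬ q ∣ m} x) g then (n : ℂ) else 0 := by
    ext x
    have : (∃ v : G, IsConj v g ∧ (∃ u : G, x = u * v ∧ Commute u v ∧ Nat.Coprime (orderOf u) n ∧
        Nat.Coprime (orderOf v) m)) ↔ IsConj (piPart {q | ¬ q ∣ m} x) g := by
      constructor
      · rintro ⟨v, h1, u, rfl, h2, h3, h4⟩
        rwa [piPart_mul' (π := {q | ¬ q ∣ m}) h2 (fun q hq h5 h6 => h6 ?_) (isPiElt_iff_coprime.2 h4)]
        exact h5.trans (h3.dvd_of_dvd_mul_right (hmn ▸ orderOf_dvd_natCard u))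
      · intro h
        refine ⟨_, h, piPart {q | ¬ q ∣ m}ᶜ x, (piPart_compl_mul_piPart _ x).symm,
          commute_piPart _ _ x, Nat.coprime_of_dvd fun q hq h1 h2 => ?_,
          isPiElt_iff_coprime.1 (isPiElt_piPart _ x)⟩
        exact hq.one_lt.ne' (Nat.eq_one_of_dvd_coprimes hcop
          (not_not.1 (isPiElt_piPart _ x q hq h1)) h2)
    split_ifs with h
    · exact hϑ1 x (this.2 h)
    · exact hϑ0 x (mt this.1 h)
  have hc : Cfsg.IsClassFunction G ϑ := by
    intro x y
    have h := isConj_piPart {q | ¬ q ∣ m} (isConj_iff.2 ⟨y, rfl⟩ : IsConj x (y * x * y⁻¹))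
    have : IsConj (piPart {q | ¬ q ∣ m} (y * x * y⁻¹)) g ↔ IsConj (piPart {q | ¬ q ∣ m} x) g :=
      ⟨fun h1 => h.trans h1, fun h1 => h.symm.trans h1⟩
    simp only [key, this]
  refine ⟨fun χ => Cfsg.classInner ϑ χ, fun χ => ?_, by
    rw [finsum_eq_sum_of_fintype]; exact hc.eq_sum⟩
  rw [key]
  refine isIntegral_classInner_piSection _ g (fun B hB => ?_) χ.2.isGen
  exact Nat.Coprime.dvd_of_dvd_mul_left (Nat.coprime_of_dvd fun q hq h1 h2 => hB q hq h1 h2)
    (hmn ▸ B.card_subgroup_dvd_card)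

end Cfsg.Agent.S0875
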