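import Cfsg.Statements.S0876
import Cfsg.Agent.Lib.Char.BrauerApp
import Cfsg.Agent.Lib.Block.Ring

set_option autoImplicit false
open Cfsg

namespace Cfsg.Agent.S0876

open Cfsg.Agent.Char

open Cfsg.Agent.Blk in
theorem LI_sub_piPart {G : Type*} [Group G] [Finite G] {p : ℕ} {M : Ideal Cfsg.AlgInt} [PMod M p]
    {χ : G → ℂ} (hχ : Cfsg.IsCharacter G χ) (x : G) :
    Cfsg.MemLocalIdeal M (χ x - χ (piPart {p}ᶜ x)) := by
  have hp := PMod.prime M
  obtain ⟨s, -, hs⟩ := (hχ.res (Subgroup.zpowers x)).exists_multiset_units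
    (IsCyclic.isMulCommutative (α := Subgroup.zpowers x)).1.1
  let z : Subgroup.zpowers x := ⟨x, Subgroup.mem_zpowers x⟩
  rw [show χ x = _ from hs z, show piPart {p}ᶜ x = (piPart {p}ᶜ z : Subgroup.zpowers x) from
    (coe_piPart _ z).symm, hs]
  clear hs
  induction s using Multiset.induction_on with
  | empty => simpa using LI_zero
  | cons lam s ih =>
    simp only [Multiset.map_cons, Multiset.sum_cons]
    rw [add_sub_add_comm]
    refine LI_add ?_ ih
    obtain ⟨k, hk⟩ := (isPiElt_singleton_iff hp).1 (isPiElt_piPart {p} z)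
    conv => enter [2, 1]; rw [← piPart_mul_compl {p} z]
    rw [map_mul, Units.val_mul, ← sub_one_mul]
    refine LI_mul_right (LI_sub_one_of_pow_eq_one (n := k) ?_)
      (mem_O_of_isIntegral M ((isIrrCharacter_units lam).isCharacter.isIntegral _))
    rw [← Units.val_pow_eq_pow_val, ← map_pow, ← hk, pow_orderOf_eq_one, map_one, Units.val_one]

theorem eq_piPart {G : Type*} [Group G] [Finite G] {p : ℕ} (hp : p.Prime) {x a : G}
    (ha : Cfsg.IsPPart p x a) : a⁻¹ * x = piPart {p}ᶜ x := by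
  obtain ⟨y, rfl, h1, h2, h3⟩ := ha
  rw [inv_mul_cancel_left, piPart_compl_mul h1 ((isPiElt_singleton_iff hp).2 h2)
    ((isPiElt_compl_singleton_iff hp).2 h3)]

/-- Let G be a finite group, p a prime and M a maximal ideal of the ring of algebraic integers containing p. Let x, y be elements with p-parts a and b (so a⁻¹ * x and b⁻¹ * y are their p-regular parts). Then a⁻¹ * x and b⁻¹ * y are conjugate in G if and only if, for every irreducible character χ, the difference χ x - χ y lies in the local ideal at M. -/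
theorem result {G : Type*} [Group G] [Finite G] (p : ℕ) (M : Ideal Cfsg.AlgInt) (hM : Cfsg.IsPModular p M) (x y a b : G) (ha : Cfsg.IsPPart p x a) (hb : Cfsg.IsPPart p y b) : IsConj (a⁻¹ * x) (b⁻¹ * y) ↔ ∀ χ : Cfsg.IrrCharacter G, Cfsg.MemLocalIdeal M ((χ : G → ℂ) x - (χ : G → ℂ) y) := by
  classical
  have : Blk.PMod M p := ⟨hM⟩
  have hp := hM.1
  have := Fintype.ofFinite G
  rw [eq_piPart hp ha, eq_piPart hp hb]
  constructor
  · intro h χ
    have := Blk.LI_sub (LI_sub_piPart (M := M) χ.2.isCharacter x)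
      (LI_sub_piPart (M := M) χ.2.isCharacter y)
    rw [χ.2.isClassFunction.eq_of_isConj h] at this
    simpa using this
  · intro h
    by_contra h1
    obtain ⟨k, n, hn, hk⟩ := Nat.exists_eq_pow_mul_and_not_dvd (Nat.card_pos (α := G)).ne' p
      hp.ne_one
    set ϑ : G → ℂ := fun z => if IsConj (piPart {p}ᶜ z) (piPart {p}ᶜ y) then (n : ℂ) else 0 with hϑ
    have hc : Cfsg.IsClassFunction G ϑ := by
      intro x z
      have h := isConj_piPart {p}ᶜ (isConj_iff.2 ⟨z, rfl⟩ : IsConj x (z * x * z⁻¹))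
      have : IsConj (piPart {p}ᶜ (z * x * z⁻¹)) (piPart {p}ᶜ y) ↔
          IsConj (piPart {p}ᶜ x) (piPart {p}ᶜ y) :=
        ⟨fun h1 => h.trans h1, fun h1 => h.symm.trans h1⟩
      simp only [hϑ, this]
    have h2 : Cfsg.MemLocalIdeal M (ϑ x - ϑ y) := by
      rw [hc.apply_eq_sum x, hc.apply_eq_sum y, ← Finset.sum_sub_distrib]
      refine Blk.LI_sum _ _ fun χ _ => ?_
      rw [← mul_sub]
      refine Blk.LI_mul_left (Blk.mem_O_of_isIntegral M ?_) (h χ)
      refine isIntegral_classInner_piSection _ _ (fun B hB => ?_) χ.2.isGen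
      exact Nat.Coprime.dvd_of_dvd_mul_left (((Nat.Prime.coprime_iff_not_dvd hp).2
        fun h => hB p hp h rfl).symm.pow_right k) (hk ▸ B.card_subgroup_dvd_card)
    simp only [hϑ, if_neg h1, IsConj.refl, if_true, zero_sub, Blk.LI_neg_iff,
      Blk.LI_natCast_iff] at h2
    exact hn h2

end Cfsg.Agent.S0876
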