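import Cfsg.Statements.S1323
import Mathlib
import Cfsg.Agent.Lib.Comp.Comp

set_option autoImplicit false
open Cfsg

namespace Cfsg.Agent.S1323

open Equiv Equiv.Perm Subgroup

variable {α : Type*} [Fintype α] [DecidableEq α]

/-- elements supported in `s` -/
def Su (s : Finset α) : Subgroup (alternatingGroup α) := (alternatingGroup.ofSubtype s).range

theorem mem_Su {s : Finset α} {g : alternatingGroup α} : g ∈ Su s ↔ ∀ x, x ∉ s → g.1 x = x := by
  rw [Su, alternatingGroup.mem_range_ofSubtype_iff]
  exact ⟨fun h x hx => by_contra fun e => hx (h (mem_support.2 e)),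
    fun h x hx => by_contra fun e => mem_support.1 hx (h x e)⟩

theorem three {s : Finset α} {a b c : α} (ha : a ∈ s) (hb : b ∈ s) (hc : c ∈ s) (hab : a ≠ b)
    (hac : a ≠ c) (hbc : b ≠ c) : ∃ g ∈ Su s, g.1 a ≠ a ∧ ∀ z, z ≠ a → z ≠ b → z ≠ c → g.1 z = z := by
  have k : ∀ z, z ≠ a → z ≠ b → z ≠ c → (swap a b * swap a c) z = z := fun z h1 h2 h3 => by
    simp [swap_apply_of_ne_of_ne h1 h3, swap_apply_of_ne_of_ne h1 h2]
  refine ⟨⟨swap a b * swap a c, (isThreeCycle_swap_mul_swap_same hab hac hbc).mem_alternatingGroup⟩,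
    mem_Su.2 fun x hx => k x ?_ ?_ ?_, ?_, k⟩
  · rintro rfl; exact hx ha
  · rintro rfl; exact hx hb
  · rintro rfl; exact hx hc
  · simp [swap_apply_of_ne_of_ne hac.symm hbc.symm, hac.symm]

theorem cent_Su {s : Finset α} (hs : 4 ≤ s.card) : centralizer (Su s : Set (alternatingGroup α)) = Su sᶜ := by
  ext c
  rw [mem_centralizer_iff, mem_Su]
  constructor
  · intro h y hy
    rw [Finset.mem_compl, not_not] at hy
    have : 1 < ((s.erase y).erase (c.1 y)).card := by
      have := Finset.pred_card_le_card_erase (s := s) (a := y)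
      have := Finset.pred_card_le_card_erase (s := s.erase y) (a := c.1 y)
      omega
    obtain ⟨a, ha, b, hb, hab⟩ := Finset.one_lt_card.1 this
    simp only [Finset.mem_erase] at ha hb
    obtain ⟨g, hg, h1, h2⟩ := three hy ha.2.2 hb.2.2 ha.2.1.symm hb.2.1.symm hab
    by_contra e
    have := congrArg (fun k : alternatingGroup α => k.1 y) (h g hg)
    simp only [Subgroup.coe_mul, Perm.mul_apply] at this
    rw [h2 _ e ha.1.symm hb.1.symm] at this
    exact h1 (c.1.injective this).symm
  · intro h g hg
    refine Subtype.ext (Disjoint.commute fun x => ?_).eq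
    by_cases hx : x ∈ s
    · exact Or.inr (h x (by simpa using hx))
    · exact Or.inl (mem_Su.1 hg x hx)

theorem map_Su (s : Finset α) (g : alternatingGroup α) :
    (Su s).map (MulAut.conj g).toMonoidHom = Su (s.map g.1.toEmbedding) := by
  ext k
  rw [mem_map_equiv, mem_Su, mem_Su]
  constructor
  · intro h x hx
    have := h (g.1⁻¹ x) (by simpa [Finset.mem_map_equiv] using hx)
    simpa using this
  · intro h x hx
    have := h (g.1 x) (by simpa using hx)
    simp [this]

theorem qs {s : Finset α} (hs : 5 ≤ s.card) : Cfsg.IsQuasisimple (Su s) := by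
  have hc : 5 ≤ Nat.card s := by simpa using hs
  haveI := alternatingGroup.isSimpleGroup hc
  refine Comp.isQuasisimple_congr (MonoidHom.ofInjective alternatingGroup.ofSubtype_injective) ?_
  have hz := alternatingGroup.center_eq_bot (α := s) (by omega)
  refine ⟨⟨?_⟩, ?_⟩
  · rcases (inferInstance : (commutator (alternatingGroup s)).Normal).eq_bot_or_eq_top with h | h
    · rw [commutator_eq_bot_iff_center_eq_top, hz] at h
      exact absurd h bot_ne_top
    · exact h
  · exact (QuotientGroup.quotientMulEquivOfEq hz).trans QuotientGroup.quotientBot |>.isSimpleGroup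

theorem std {s : Finset α} (hs : s.card = 4) (hn : 9 ≤ Fintype.card α) :
    Cfsg.IsStandardSubgroup (Su sᶜ) := by
  have hc : sᶜ.card = Fintype.card α - 4 := by rw [Finset.card_compl, hs]
  have c1 : centralizer (Su sᶜ : Set (alternatingGroup α)) = Su s := by
    rw [cent_Su (by omega), compl_compl]
  have c2 := cent_Su hs.ge
  refine ⟨qs (by omega), ⟨?_, fun g hg => ?_⟩, fun g hg h => ?_, ?_⟩
  · rw [c1, Su, ← Nat.card_congr (MonoidHom.ofInjective alternatingGroup.ofSubtype_injective).toEquiv]
    haveI : Nontrivial s := Fintype.one_lt_card_iff_nontrivial.1 (by simp [hs])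
    have := two_mul_nat_card_alternatingGroup (α := s)
    rw [Nat.card_perm, Nat.card_eq_fintype_card (α := s), Fintype.card_coe, hs] at this
    rw [Nat.even_iff]
    simp [Nat.factorial] at this ⊢
    omega
  · rw [c1] at hg ⊢
    rw [map_Su, ← Nat.not_even_iff_odd, even_iff_two_dvd]
    intro h2
    obtain ⟨t, ht⟩ := exists_prime_orderOf_dvd_card' 2 h2
    have ho : orderOf t.1.1 = 2 := by rw [Subgroup.orderOf_coe, Subgroup.orderOf_coe, ht]
    have sub : t.1.1.support ⊆ s ∩ s.map g.1.toEmbedding := Finset.subset_inter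
      ((alternatingGroup.mem_range_ofSubtype_iff _ _).1 t.2.1)
      ((alternatingGroup.mem_range_ofSubtype_iff _ _).1 t.2.2)
    have lt : (s ∩ s.map g.1.toEmbedding).card < 4 := by
      rw [← hs]
      refine Finset.card_lt_card (Finset.ssubset_iff_subset_ne.2 ⟨Finset.inter_subset_left, fun e => hg ?_⟩)
      have e' : s = s.map g.1.toEmbedding :=
        Finset.eq_of_subset_of_card_le (Finset.inter_eq_left.1 e) (by simp)
      have := map_Su s g
      rw [← e'] at this
      exact mem_normalizer_iff_map_conj_eq.2 this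
    have d := two_dvd_card_support (σ := t.1.1) (by rw [← ho, pow_orderOf_eq_one])
    have := Finset.card_le_card sub
    have n0 : t.1.1.support.card ≠ 0 := by
      rw [Ne, Finset.card_eq_zero, support_eq_empty_iff]
      intro e; rw [e, orderOf_one] at ho; omega
    have := (card_support_eq_two.1 (show t.1.1.support.card = 2 by omega)).sign_eq
    rw [mem_alternatingGroup.1 t.1.2] at this
    exact absurd this (by decide)
  · rw [commutator_comm, commutator_eq_bot_iff_le_centralizer, c1, map_Su] at h
    set u := sᶜ.map g.1.toEmbedding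
    have hu : u.card = Fintype.card α - 4 := by simp [u, hc]
    obtain ⟨a, ha, ha'⟩ := Finset.exists_mem_notMem_of_card_lt_card (s := s) (t := u) (by omega)
    have : 1 < (u.erase a).card := by rw [Finset.card_erase_of_mem ha]; omega
    obtain ⟨b, hb, c, hc, hbc⟩ := Finset.one_lt_card.1 this
    simp only [Finset.mem_erase] at hb hc
    obtain ⟨k, hk, h1, -⟩ := three ha hb.2 hc.2 hb.1.symm hc.1.symm hbc
    exact h1 (mem_Su.1 (h hk) a ha')
  · refine le_antisymm (Comp.normalizer_le_normalizer_centralizer _) ?_
    rw [c1]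
    conv_rhs => rw [← c2]
    exact Comp.normalizer_le_normalizer_centralizer _

/-- For n ≥ 9, the subgroup of the alternating group on Fin n fixing each of the points 0, 1, 2, 3 is a standard subgroup. -/
theorem result (n : ℕ) (h4 : 4 ≤ n) (hn : 9 ≤ n) : Cfsg.IsStandardSubgroup (⨅ i : Fin 4, MulAction.stabilizer ↥(alternatingGroup (Fin n)) (Fin.castLE h4 i : Fin n)) := by
  have := std (s := Finset.univ.map ⟨Fin.castLE h4, Fin.castLE_injective h4⟩) (by simp) (by simpa using hn)
  convert this
  ext g
  rw [mem_Su, Subgroup.mem_iInf]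
  constructor
  · intro h x hx
    simp only [Finset.mem_compl, not_not, Finset.mem_map] at hx
    obtain ⟨i, -, rfl⟩ := hx
    exact h i
  · intro h i
    exact h _ (by simp)

end Cfsg.Agent.S1323
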