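import Cfsg.Statements.S0892
import Mathlib
import Cfsg.Agent.Lib.Perm.Spin1
import Cfsg.Agent.Lib.Perm.Carm
import Cfsg.Agent.Lib.Perm.Dick3
import Cfsg.Agent.Lib.Schur.Two
import Cfsg.Agent.S1323

set_option autoImplicit false
open Cfsg

namespace Cfsg.Agent.S0892

open Subgroup Equiv Equiv.Perm Cfsg.Agent.Schur Cfsg.Agent.PC Cfsg.Agent.Perm.Carm commutatorElement

variable {Γ : Type*} [Group Γ]

theorem nrm {H : Subgroup Γ} (h : H ≤ center Γ) : H.Normal :=
  ⟨fun a ha g => by rw [mem_center_iff.1 (h ha) g]; simpa using ha⟩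

theorem iv {α : Type*} [DecidableEq α] (a b i : α) (h2 : a ≠ i) (h3 : b ≠ i) :
    (swap a b * swap a i)⁻¹ = swap b a * swap b i := by
  rw [mul_inv_rev, swap_inv, swap_inv, swap_mul_eq_mul_swap, swap_inv, swap_apply_left,
    swap_apply_of_ne_of_ne h2.symm h3.symm, swap_comm a b]

theorem sq4 {α : Type*} [DecidableEq α] {a b c d : α} (h1 : a ≠ b) (h2 : a ≠ c) (h3 : a ≠ d)
    (h4 : b ≠ c) (h5 : b ≠ d) (h6 : c ≠ d) : (swap a b * swap a c * (swap a b * swap a d)) ^ 2 = 1 := by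
  ext i
  simp only [pow_two, Perm.mul_apply, swap_apply_def, Perm.one_apply]
  grind

theorem sq2 {α : Type*} [DecidableEq α] {a b c d : α} (h2 : a ≠ c) (h3 : a ≠ d)
    (h4 : b ≠ c) (h5 : b ≠ d) : (swap a b * swap c d) ^ 2 = 1 := by
  ext i
  simp only [pow_two, Perm.mul_apply, swap_apply_def, Perm.one_apply]
  grind

theorem cj5 {α : Type*} [DecidableEq α] {a b c d e : α} (h1 : a ≠ c) (h2 : b ≠ c) (h3 : a ≠ d)
    (h4 : a ≠ e) (h5 : b ≠ d) (h6 : b ≠ e) (h7 : c ≠ d) (h8 : c ≠ e) :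
    swap a b * swap d e * (swap a b * swap a c) * (swap a b * swap d e)⁻¹ = (swap a b * swap a c)⁻¹ := by
  rw [iv _ _ _ h1 h2, ← conj_mul, ← swap_apply_apply, ← swap_apply_apply]
  simp [swap_apply_of_ne_of_ne, h3, h4, h5, h6, h7, h8, h1.symm, h2.symm]

theorem su_perf {n : ℕ} (hn : n = 5 ∨ 8 ≤ n) {s : Finset (Fin n)} (hs : s.card = 3) :
    ⁅S1323.Su sᶜ, S1323.Su sᶜ⁆ = S1323.Su sᶜ := by
  have hc : sᶜ.card = n - 3 := by rw [Finset.card_compl, hs, Fintype.card_fin]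
  rcases hn with rfl | hn
  · have : S1323.Su sᶜ = ⊥ := by
      rw [eq_bot_iff]
      intro g hg
      have h1 := Finset.card_le_card ((alternatingGroup.mem_range_ofSubtype_iff _ _).1 hg)
      have h2 := card_support_ne_one g.1
      have h3 : g.1.support.card ≠ 2 := fun h => by
        have := (card_support_eq_two.1 h).sign_eq
        rw [mem_alternatingGroup.1 g.2] at this
        exact absurd this (by decide)
      have : g.1.support.card = 0 := by omega
      exact Subtype.ext (support_eq_empty_iff.1 (Finset.card_eq_zero.1 this))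
    rw [this]; simp
  · exact (Comp.QS.of_isQuasisimple (S1323.qs (by omega))).perfect

theorem lift_comm {n : ℕ} (hn : n = 5 ∨ 8 ≤ n) {π : Γ →* alternatingGroup (Fin n)} (hπ : CE π)
    {g h : Γ} (h3 : (π h).1.IsThreeCycle) (hc : Commute (π g) (π h)) : Commute g h := by
  obtain ⟨hc', i, hi⟩ := h3.isCycle.commute_iff.1 (hc.map (alternatingGroup (Fin n)).subtype)
  set S := S1323.Su (π h).1.supportᶜ
  set T := S.comap π
  have m : π ((h ^ i)⁻¹ * g) ∈ S := S1323.mem_Su.2 fun x hx => by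
    rw [Finset.mem_compl, not_not] at hx
    have := congrArg (fun σ : Perm (Fin n) => σ x) hi
    simp only [ofSubtype_subtypePerm_of_mem hc' hx] at this
    rw [map_mul, map_inv, map_zpow]
    simp only [Subgroup.coe_mul, Subgroup.coe_inv, Perm.mul_apply, Subgroup.coe_zpow]
    exact Perm.inv_eq_iff_eq.2 this.symm
  have c1 : ⁅T, zpowers h⁆ ≤ center Γ := by
    refine le_trans (commutator_le.2 fun t ht k hk => ?_) hπ.cent
    obtain ⟨j, rfl⟩ := hk
    rw [MonoidHom.mem_ker, map_commutatorElement, commutatorElement_eq_one_iff_commute, map_zpow]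
    refine Commute.zpow_right (Subtype.ext (Disjoint.commute fun x => ?_).eq) j
    by_cases hx : x ∈ (π h).1.support
    · exact Or.inl (S1323.mem_Su.1 ht x (by simpa using hx))
    · exact Or.inr (notMem_support.1 hx)
  have c2 : ⁅⁅T, zpowers h⁆, T⁆ = ⊥ :=
    commutator_eq_bot_iff_le_centralizer.2 (c1.trans (center_le_centralizer _))
  have c3 : ⁅⁅T, T⁆, zpowers h⁆ = ⊥ :=
    commutator_commutator_eq_bot_of_rotate c2 (by rwa [commutator_comm (zpowers h)])
  have c4 : ⁅T, T⁆.map π = S := by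
    rw [map_commutator, map_comap_eq_self_of_surjective hπ.surj, su_perf hn h3.card_support]
  obtain ⟨t, ht, e⟩ := c4.ge m
  have c5 : Commute t h :=
    (mem_centralizer_iff.1 (commutator_eq_bot_iff_le_centralizer.1 c3 ht) h (mem_zpowers h)).symm
  have c6 : Commute (t⁻¹ * ((h ^ i)⁻¹ * g)) h :=
    (cent_comm hπ.cent (by rw [map_mul, map_inv, e, inv_mul_cancel]) h).symm
  have : g = h ^ i * (t * (t⁻¹ * ((h ^ i)⁻¹ * g))) := by group
  rw [this]
  exact ((Commute.refl h).zpow_left i).mul_left (c5.mul_left c6)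

theorem exists_u {Q : Type*} [Group Q] {π : Γ →* Q} (hπ : CE π) {c t : Q} (h1 : c ^ 3 = 1)
    (h2 : t ^ 2 = 1) (h3 : t * c * t⁻¹ = c⁻¹) : ∃ u, π u = c ∧ u ^ 3 = 1 ∧ IsConj u u⁻¹ := by
  obtain ⟨C, rfl⟩ := hπ.surj c
  obtain ⟨T, rfl⟩ := hπ.surj t
  have a1 := cent_comm hπ.cent (z := C ^ 3) (by rw [map_pow, h1])
  have a2 := cent_comm hπ.cent (z := T ^ 2) (by rw [map_pow, h2])
  have a3 := cent_comm hπ.cent (z := T * C * T⁻¹ * C) (by simp [h3])
  set w := T * C * T⁻¹ * C with hw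
  have e : T * C * T⁻¹ = w * C⁻¹ := by rw [hw]; group
  have cw : Commute w C := (a3 C).symm
  refine ⟨T * C * T⁻¹ * C⁻¹, ?_, ?_, isConj_iff.2 ⟨T, ?_⟩⟩
  · rw [map_mul, map_mul, map_mul, map_inv, map_inv, h3, ← aux2 (by rw [inv_pow, h1, inv_one]), inv_inv]
  · have : w ^ 3 * (C ^ 3)⁻¹ = C ^ 3 := by
      rw [← inv_pow, ← cw.inv_right.mul_pow, ← e, conj_pow, a1 T]; group
    rw [e, mul_assoc, (cw.inv_right.mul_right cw.inv_right).mul_pow, (Commute.refl _).mul_pow,
      ← mul_assoc, inv_pow, this, mul_inv_cancel]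
  · have : T * (T * C * T⁻¹ * C⁻¹) * T⁻¹ = T ^ 2 * C * (T ^ 2)⁻¹ * (T * C⁻¹ * T⁻¹) := by
      simp only [pow_two]; group
    rw [this, ← a2 C]; group

theorem gen_alt {m : ℕ} (H : Subgroup (Perm (Fin (m + 2))))
    (h : ∀ i, i ≠ 0 → swap 0 1 * swap 0 i ∈ H) (σ : Perm (Fin (m + 2))) :
    (sign σ = 1 → σ ∈ H) ∧ (sign σ = -1 → swap 0 1 * σ ∈ H) := by
  have k : ∀ i j, i ≠ j → swap 0 1 * swap i j ∈ H := by
    intro i j hij
    by_cases hi : i = 0
    · subst hi; exact h j hij.symm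
    by_cases hj : j = 0
    · subst hj; rw [swap_comm i]; exact h i hi
    have : swap 0 1 * swap i j = swap 0 1 * swap 0 i * (swap 0 1 * swap 0 j)⁻¹ * (swap 0 1 * swap 0 i) := by
      rw [← swap_mul_swap_mul_swap hj hij.symm, swap_comm j 0]
      simp only [mul_inv_rev, swap_inv, mul_assoc, swap_mul_self_mul]
    rw [this]
    exact mul_mem (mul_mem (h i hi) (inv_mem (h j hj))) (h i hi)
  induction σ using swap_induction_on with
  | one => exact ⟨fun _ => one_mem _, fun e => absurd e (by simp)⟩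
  | swap_mul f x y hxy ih =>
    rw [Perm.sign_mul, sign_swap hxy]
    refine ⟨fun e => ?_, fun e => ?_⟩
    · have := mul_mem (inv_mem (k x y hxy)) (ih.2 (by rw [neg_one_mul, neg_eq_iff_eq_neg] at e; exact e))
      simpa [mul_assoc] using this
    · have := mul_mem (k x y hxy) (ih.1 (by simpa using e))
      rwa [mul_assoc] at this

theorem finish [Finite Γ] {m : ℕ} {π : Γ →* alternatingGroup (Fin (m + 2))} (hπ : CE π)
    (hd : π.ker ≤ commutator Γ) {z : Γ} (hz : π z = 1) (hz2 : z ^ 2 = 1) (y : ℕ → Γ) (h0 : y 0 = 1)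
    (h1 : ∀ i ≤ m, y i ^ 3 = 1)
    (h2 : ∀ i ≤ m, ∀ j ≤ m, i ≠ 0 → j ≠ 0 → i ≠ j → (y i * y j) ^ 2 = z)
    (h3 : ∀ i ≤ m, (π (y i)).1 = swap 0 1 * swap 0 (Fin.ofNat _ (i + 1))) : Nat.card π.ker ≤ 2 := by
  haveI : (zpowers z).Normal := nrm (zpowers_le_of_mem (hπ.cent hz))
  let q := QuotientGroup.mk' (zpowers z)
  have hc : Car (fun i => q (y i)) m := ⟨by simp [h0], fun i hi => by rw [← map_pow, h1 i hi, map_one],
    fun i hi j hj a b c => by
      rw [← map_mul, ← map_pow, h2 i hi j hj a b c]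
      exact (QuotientGroup.eq_one_iff _).2 (mem_zpowers z)⟩
  set L := gen y (m + 1)
  have s : ∀ x, ∃ e : L, π (L.subtype e) = π x := by
    intro x
    obtain ⟨_, ⟨e, he, rfl⟩, he'⟩ := (gen_alt ((L.map π).map (alternatingGroup _).subtype) (fun i hi => by
      have : i.val ≠ 0 := fun e => hi (Fin.ext e)
      refine ⟨_, ⟨y (i - 1), mem_gen y (by omega), rfl⟩, (h3 _ (by omega)).trans ?_⟩
      rw [Nat.sub_add_cancel (by omega)]; simp) (π x).1).1 (π x).2
    exact ⟨⟨e, he⟩, Subtype.ext he'⟩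
  have top : L = ⊤ := by
    rw [eq_top_iff]
    intro x _
    obtain ⟨e, he⟩ := s x
    have : e.1⁻¹ * x ∈ L := by
      apply map_subtype_le (commutator L)
      rw [map_comm hπ.cent s]
      exact hd (by rw [MonoidHom.mem_ker, map_mul, map_inv, ← he]; simp)
    simpa using mul_mem e.2 this
  have c1 := hc.card
  rw [← gen_map q y, show gen y (m + 1) = ⊤ from top,
    map_top_of_surjective _ (QuotientGroup.mk'_surjective _), card_top] at c1
  have c2 := card_eq_card_quotient_mul_card_subgroup (zpowers z)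
  have c3 := card_eq_card_quotient_mul_card_subgroup π.ker
  rw [Nat.card_congr (QuotientGroup.quotientKerEquivOfSurjective _ hπ.surj).toEquiv] at c3
  have c4 := two_mul_nat_card_alternatingGroup (α := Fin (m + 2))
  rw [Nat.card_perm, Nat.card_fin] at c4
  have c5 : Nat.card (zpowers z) ≤ 2 := by
    rw [Nat.card_zpowers]; exact orderOf_le_of_pow_eq_one (by norm_num) hz2
  have c6 := Nat.card_pos (α := alternatingGroup (Fin (m + 2)))
  refine Nat.le_of_mul_le_mul_left ?_ c6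
  rw [← c3, c2]
  nlinarith

theorem big [Finite Γ] {k : ℕ} (hn : k + 5 = 5 ∨ 8 ≤ k + 5) {π : Γ →* alternatingGroup (Fin (k + 5))}
    (hπ : CE π) (hd : π.ker ≤ commutator Γ) : Nat.card π.ker ≤ 2 := by
  have ne : ∀ a b : Fin 5, a ≠ b → (Fin.castLE (by omega) a : Fin (k + 5)) ≠ Fin.castLE (by omega) b :=
    fun a b h e => h (Fin.castLE_injective _ e)
  have n01 : (0 : Fin (k + 5)) ≠ 1 := ne 0 1 (by decide)
  have n02 : (0 : Fin (k + 5)) ≠ 2 := ne 0 2 (by decide)
  have n03 : (0 : Fin (k + 5)) ≠ 3 := ne 0 3 (by decide)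
  have n04 : (0 : Fin (k + 5)) ≠ 4 := ne 0 4 (by decide)
  have n12 : (1 : Fin (k + 5)) ≠ 2 := ne 1 2 (by decide)
  have n13 : (1 : Fin (k + 5)) ≠ 3 := ne 1 3 (by decide)
  have n14 : (1 : Fin (k + 5)) ≠ 4 := ne 1 4 (by decide)
  have n23 : (2 : Fin (k + 5)) ≠ 3 := ne 2 3 (by decide)
  have n24 : (2 : Fin (k + 5)) ≠ 4 := ne 2 4 (by decide)
  have n34 : (3 : Fin (k + 5)) ≠ 4 := ne 3 4 (by decide)
  have t3 := isThreeCycle_swap_mul_swap_same n01 n02 n12
  obtain ⟨u, u1, u2, u3⟩ := exists_u hπ (c := ⟨_, t3.mem_alternatingGroup⟩)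
    (t := ⟨swap 0 1 * swap 3 4, by simp [n01, n34]⟩)
    (Subtype.ext (by rw [← t3.orderOf]; exact pow_orderOf_eq_one _))
    (Subtype.ext (sq2 n03 n04 n13 n14)) (Subtype.ext (cj5 n02 n12 n03 n04 n13 n14 n23 n24))
  have d3 : ∀ x, IsConj u x → (π x).1.IsThreeCycle := fun x hx => by
    have := isConj_iff_cycleType_eq.1 (((alternatingGroup _).subtype.comp π).map_isConj hx)
    change (π u).1.cycleType = (π x).1.cycleType at this
    rw [u1] at this
    exact this.symm.trans t3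
  have d1 : ∀ x y, IsConj u x → IsConj u y → (π x).1 = (π y).1 → x = y := fun x y hx hy e => by
    obtain ⟨g, rfl⟩ := isConj_iff.1 (hx.symm.trans hy)
    have : Commute g x := lift_comm hn hπ (d3 x hx) (by
      have := Subtype.ext e
      rw [map_mul, map_mul, map_inv, eq_mul_inv_iff_mul_eq] at this
      exact this.symm)
    rw [this.eq]; simp
  have d2 : ∀ c : Perm (Fin (k + 5)), c.IsThreeCycle → ∃ x, IsConj u x ∧ (π x).1 = c := fun c hc => by
    obtain ⟨g, hg⟩ := isConj_iff.1 (alternatingGroup.isThreeCycle_isConj (by simp)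
      (σ := π u) (τ := ⟨c, hc.mem_alternatingGroup⟩) (d3 u (IsConj.refl u)) hc)
    obtain ⟨g, rfl⟩ := hπ.surj g
    exact ⟨g * u * g⁻¹, isConj_iff.2 ⟨g, rfl⟩, by rw [map_mul, map_mul, map_inv, hg]⟩
  have d4 : ∀ x, IsConj u x → x ^ 3 = 1 ∧ IsConj u x⁻¹ := fun x hx => by
    obtain ⟨g, rfl⟩ := isConj_iff.1 hx
    exact ⟨by rw [conj_pow, u2]; simp, u3.trans (isConj_iff.2 ⟨g, by group⟩)⟩
  let Q : Fin (k + 5) → Fin (k + 5) → Fin (k + 5) → Fin (k + 5) → Γ → Prop := fun a b i j w =>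
    ∃ x y, IsConj u x ∧ IsConj u y ∧ (π x).1 = swap a b * swap a i ∧ (π y).1 = swap a b * swap a j ∧
      w = (x * y) ^ 2
  have q1 : ∀ a b i j w w', Q a b i j w → Q a b i j w' → w = w' := by
    rintro a b i j _ _ ⟨x, y, a1, a2, a3, a4, rfl⟩ ⟨x', y', b1, b2, b3, b4, rfl⟩
    rw [d1 x x' a1 b1 (a3.trans b3.symm), d1 y y' a2 b2 (a4.trans b4.symm)]
  obtain ⟨x0, x1, x2⟩ := d2 _ t3
  obtain ⟨y0, y1, y2⟩ := d2 _ (isThreeCycle_swap_mul_swap_same n01 n03 n13)
  set z := (x0 * y0) ^ 2 with hz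
  have q0 : Q 0 1 2 3 z := ⟨x0, y0, x1, y1, x2, y2, rfl⟩
  have z1 : π z = 1 := Subtype.ext (by
    rw [hz, map_pow, map_mul]
    change ((π x0).1 * (π y0).1) ^ 2 = 1
    rw [x2, y2]
    exact sq4 n01 n02 n03 n12 n13 n23)
  have zc := cent_comm hπ.cent z1
  have q2 : ∀ σ : Perm (Fin (k + 5)), sign σ = 1 → Q (σ 0) (σ 1) (σ 2) (σ 3) z := fun σ hσ => by
    obtain ⟨g, hg⟩ := hπ.surj ⟨σ, hσ⟩
    have hg' : (π g).1 = σ := congrArg Subtype.val hg
    refine ⟨g * x0 * g⁻¹, g * y0 * g⁻¹, x1.trans (isConj_iff.2 ⟨g, rfl⟩), y1.trans (isConj_iff.2 ⟨g, rfl⟩),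
      ?_, ?_, ?_⟩
    · simp only [map_mul, map_inv, Subgroup.coe_mul, Subgroup.coe_inv, hg', x2, swap_apply_apply, conj_mul]
    · simp only [map_mul, map_inv, Subgroup.coe_mul, Subgroup.coe_inv, hg', y2, swap_apply_apply, conj_mul]
    · rw [conj_mul, conj_pow, ← hz, zc g]; simp
  have q3 : ∀ a b i j, Q a b i j z → Q a b j i z := by
    rintro a b i j ⟨x, y, a1, a2, a3, a4, e⟩
    refine ⟨y, x, a2, a1, a4, a3, ?_⟩
    have : (y * x) ^ 2 = x⁻¹ * ((x * y) ^ 2 * x) := by simp only [pow_two]; group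
    rw [this, ← e, ← zc x]; simp
  have z2 : z ^ 2 = 1 := by
    have a := q2 (swap 0 1 * swap 2 3) (by simp [n01, n23])
    have e0 : (swap 0 1 * swap 2 3 : Perm (Fin (k + 5))) 0 = 1 := by simp [swap_apply_of_ne_of_ne, n02, n03]
    have e1 : (swap 0 1 * swap 2 3 : Perm (Fin (k + 5))) 1 = 0 := by simp [swap_apply_of_ne_of_ne, n12, n13]
    have e2 : (swap 0 1 * swap 2 3 : Perm (Fin (k + 5))) 2 = 3 := by
      simp [swap_apply_of_ne_of_ne, n03.symm, n13.symm]
    have e3 : (swap 0 1 * swap 2 3 : Perm (Fin (k + 5))) 3 = 2 := by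
      simp [swap_apply_of_ne_of_ne, n02.symm, n12.symm]
    rw [e0, e1, e2, e3] at a
    have b : Q 1 0 3 2 z⁻¹ := ⟨y0⁻¹, x0⁻¹, (d4 _ y1).2, (d4 _ x1).2,
      by rw [map_inv, Subgroup.coe_inv, y2, iv _ _ _ n03 n13],
      by rw [map_inv, Subgroup.coe_inv, x2, iv _ _ _ n02 n12], by rw [← mul_inv_rev, inv_pow]⟩
    rw [pow_two]; nth_rw 1 [q1 _ _ _ _ _ _ a b]; simp
  have q4 : ∀ i j, 0 ≠ i → 0 ≠ j → 1 ≠ i → 1 ≠ j → i ≠ j → Q 0 1 i j z := by
    intro i j a1 a2 a3 a4 a5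
    obtain ⟨σ, b1, b2, b3, b4⟩ := Perm.Spin.exists_four (n := k + 1) n01 a1 a2 a3 a4 a5
    rcases Int.units_eq_one_or (sign σ) with h | h
    · have := q2 σ h
      rwa [b1, b2, b3, b4] at this
    · have := q2 (σ * swap 2 3) (by simp [h, n23])
      simp only [Perm.mul_apply, swap_apply_left, swap_apply_right, swap_apply_of_ne_of_ne n02 n03,
        swap_apply_of_ne_of_ne n12 n13] at this
      rw [b1, b2, b3, b4] at this
      exact q3 _ _ _ _ this
  have pt : ∀ i ≤ k + 3, i ≠ 0 → (0 : Fin (k + 5)) ≠ Fin.ofNat _ (i + 1) ∧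
      (1 : Fin (k + 5)) ≠ Fin.ofNat _ (i + 1) := fun i h1 h2 => by
    simp only [Ne, Fin.ext_iff, Fin.val_ofNat, Nat.mod_eq_of_lt (show i + 1 < k + 5 by omega)]
    simp; omega
  have ex : ∀ i, ∃ x, i ≤ k + 3 → i ≠ 0 →
      IsConj u x ∧ (π x).1 = swap 0 1 * swap 0 (Fin.ofNat _ (i + 1)) := fun i => by
    by_cases h : i ≤ k + 3 ∧ i ≠ 0
    · obtain ⟨x, hx⟩ := d2 _ (isThreeCycle_swap_mul_swap_same n01 (pt i h.1 h.2).1 (pt i h.1 h.2).2)
      exact ⟨x, fun _ _ => hx⟩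
    · exact ⟨1, fun a b => absurd ⟨a, b⟩ h⟩
  choose y hy using ex
  refine finish (m := k + 3) hπ hd z1 z2 (fun i => if i = 0 then 1 else y i) rfl (fun i hi => ?_)
    (fun i hi j hj a b c => ?_) (fun i hi => ?_)
  · by_cases h : i = 0
    · simp [h]
    · simp only [if_neg h]; exact (d4 _ (hy i hi h).1).1
  · simp only [if_neg a, if_neg b]
    refine q1 _ _ _ _ _ _ ⟨_, _, (hy i hi a).1, (hy j hj b).1, (hy i hi a).2, (hy j hj b).2, rfl⟩
      (q4 _ _ (pt i hi a).1 (pt j hj b).1 (pt i hi a).2 (pt j hj b).2 ?_)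
    simp only [Ne, Fin.ext_iff, Fin.val_ofNat, Nat.mod_eq_of_lt (show i + 1 < k + 5 by omega),
      Nat.mod_eq_of_lt (show j + 1 < k + 5 by omega)]
    omega
  · by_cases h : i = 0
    · subst h; simp only [if_true, map_one]; exact (swap_mul_self _ _).symm
    · simp only [if_neg h]; exact (hy i hi h).2

theorem four [Finite Γ] {π : Γ →* alternatingGroup (Fin 4)} (hπ : CE π) (hd : π.ker ≤ commutator Γ) :
    Nat.card π.ker ≤ 2 := by
  have c := two_mul_nat_card_alternatingGroup (α := Fin 4)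
  rw [Nat.card_perm, Nat.card_fin] at c
  have c12 : Nat.card (alternatingGroup (Fin 4)) = 12 := by simp [Nat.factorial] at c ⊢; omega
  obtain ⟨C, hC⟩ := hπ.surj ⟨swap 0 1 * swap 0 2, mem_alternatingGroup.2 (by decide)⟩
  obtain ⟨U, hU⟩ := hπ.surj ⟨swap 0 1 * swap 2 3, mem_alternatingGroup.2 (by decide)⟩
  obtain ⟨V, hV⟩ := hπ.surj ⟨swap 0 2 * swap 1 3, mem_alternatingGroup.2 (by decide)⟩
  have oC : orderOf (π C) = 3 := by rw [hC]; exact orderOf_eq_prime (by decide) (by decide)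
  have oU : orderOf (π U) = 2 := by rw [hU]; exact orderOf_eq_prime (by decide) (by decide)
  have i1 : ((zpowers (π C)).comap π).index = 4 := by
    have := (zpowers (π C)).card_mul_index
    rw [Nat.card_zpowers, oC, c12] at this
    rw [index_comap_of_surjective _ hπ.surj]; omega
  have i2 : ((closure {π U, π V}).comap π).index = 3 := by
    have := (closure {π U, π V}).card_mul_index
    rw [Perm.GL2.card_dih (by rw [hU, hV]; decide) (by rw [hV]; decide) (by
      rw [mem_zpowers_iff_mem_range_orderOf, oU, hU, hV]; decide), oU, c12] at this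
    rw [index_comap_of_surjective _ hπ.surj]; omega
  have zc : π ⁅U, V⁆ = 1 := by rw [map_commutatorElement, hU, hV]; decide
  haveI : (zpowers ⁅U, V⁆).Normal := nrm (zpowers_le_of_mem (hπ.cent zc))
  have b1 : ⁅(zpowers (π C)).comap π, (zpowers (π C)).comap π⁆ ≤ ⊥ := by
    rw [commutator_le]
    rintro a ⟨i, hi⟩ b ⟨j, hj⟩
    rw [comm_congr hπ.cent (a' := C ^ i) (b' := C ^ j) (by rw [map_zpow]; exact hi.symm)
      (by rw [map_zpow]; exact hj.symm), mem_bot, commutatorElement_eq_one_iff_commute]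
    exact Commute.zpow_zpow_self C i j
  have b2 : ⁅(closure {π U, π V}).comap π, (closure {π U, π V}).comap π⁆ ≤ zpowers ⁅U, V⁆ := by
    rw [commutator_le]
    intro a ha b hb
    rw [mem_comap, ← Set.image_pair, ← MonoidHom.map_closure] at ha hb
    obtain ⟨a', ha, ea⟩ := ha
    obtain ⟨b', hb, eb⟩ := hb
    let q := QuotientGroup.mk' (zpowers ⁅U, V⁆)
    have cm : q U * q V = q V * q U := by
      rw [← commutatorElement_eq_one_iff_mul_comm, ← map_commutatorElement]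
      exact (QuotientGroup.eq_one_iff _).2 (mem_zpowers _)
    haveI := isMulCommutative_closure (k := q '' {U, V}) (by
      rw [Set.image_pair]
      rintro _ (rfl | rfl) _ (rfl | rfl) <;> simp only [cm])
    rw [comm_congr hπ.cent ea.symm eb.symm, ← QuotientGroup.eq_one_iff]
    change q _ = 1
    rw [map_commutatorElement, commutatorElement_eq_one_iff_mul_comm]
    exact setLike_mul_comm (s := closure (q '' {U, V})) (MonoidHom.map_closure q _ ▸ ⟨_, ha, rfl⟩)
      (MonoidHom.map_closure q _ ▸ ⟨_, hb, rfl⟩)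
  have le : π.ker ≤ zpowers ⁅U, V⁆ := fun w hw => by
    have w4 := b1 (pow_index_mem (ker_le_comap _ _ hw) (hπ.cent hw) (hd hw))
    have w3 := b2 (pow_index_mem (ker_le_comap _ _ hw) (hπ.cent hw) (hd hw))
    rw [i1, mem_bot] at w4
    rw [i2] at w3
    have : w = (w ^ 3)⁻¹ := by rw [eq_inv_iff_mul_eq_one, ← pow_succ', w4]
    rw [this]; exact inv_mem w3
  refine (card_le_of_le le).trans ?_
  rw [Nat.card_zpowers]
  refine orderOf_le_of_pow_eq_one (by norm_num) ?_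
  have a1 := cent_comm hπ.cent zc
  have a2 := cent_comm hπ.cent (z := U ^ 2) (by rw [map_pow, hU]; decide)
  have : ⁅U ^ 2, V⁆ = U * ⁅U, V⁆ * U⁻¹ * ⁅U, V⁆ := by simp only [commutatorElement_def, pow_two]; group
  rw [a1 U, mul_inv_cancel_right, commutatorElement_eq_one_iff_mul_comm.2 (a2 V).symm] at this
  rw [pow_two, ← this]

/-- Let n ≥ 4 with n ≠ 6 and n ≠ 7, and let Γ be a finite group with a subgroup Z contained in both the centre and the commutator subgroup of Γ such that Γ / Z is isomorphic to the alternating group on n letters. Then Z has order at most 2. -/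
theorem result (n : ℕ) (hn : 4 ≤ n) (h6 : n ≠ 6) (h7 : n ≠ 7) {Γ : Type*} [Group Γ] [Finite Γ] (Z : Subgroup Γ) [Z.Normal] (hZc : Z ≤ Subgroup.center Γ) (hZd : Z ≤ commutator Γ) (e : Γ ⧸ Z ≃* alternatingGroup (Fin n)) : Nat.card Z ≤ 2 := by
  let π : Γ →* alternatingGroup (Fin n) := e.toMonoidHom.comp (QuotientGroup.mk' _)
  have hk : π.ker = Z := by
    ext x; simp [π, MonoidHom.mem_ker]
  have hπ : CE π := ⟨e.surjective.comp (QuotientGroup.mk'_surjective _), hk ▸ hZc⟩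
  rw [← hk] at hZd ⊢
  by_cases h4 : n = 4
  · subst h4; exact four hπ hZd
  · obtain ⟨k, rfl⟩ := Nat.exists_eq_add_of_le' (show 5 ≤ n by omega)
    exact big (by omega) hπ hZd

end Cfsg.Agent.S0892
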