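import Cfsg.Statements.S0893
import Cfsg.Agent.Lib.Char.Degree
import Cfsg.Agent.Lib.Solv.Gen

set_option autoImplicit false
open Cfsg

namespace Cfsg.Agent.S0893

open Cfsg.Agent.Char

/-- Let P be an extraspecial p-group of order p ^ (2 * n + 1), A an abelian subgroup of order p ^ (n + 1), and λ a character of A of degree 1 that is not identically 1 on the elements of A lying in the centre of P. Then the function induced from λ to P is an irreducible character of P and vanishes at every element outside the centre. -/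
theorem result {P : Type*} [Group P] [Fintype P] (p n : ℕ) [Fact p.Prime] (hP : Cfsg.IsExtraspecial p P) (hcard : Nat.card P = p ^ (2 * n + 1)) (A : Subgroup P) (hab : ∀ a ∈ A, ∀ b ∈ A, a * b = b * a) (hA : Nat.card A = p ^ (n + 1)) (lam : A → ℂ) (hlam : Cfsg.IsCharacter A lam ∧ lam 1 = 1) (hZ : ∃ a : A, (a : P) ∈ Subgroup.center P ∧ lam a ≠ 1) : Cfsg.IsIrrCharacter P (Cfsg.indFun A lam) ∧ ∀ x : P, x ∉ Subgroup.center P → Cfsg.indFun A lam x = 0 := by
  have hp : p.Prime := Fact.out
  have := Fintype.ofFinite A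
  have := Fintype.ofFinite (Subgroup.center P)
  obtain ⟨a, h1, h2⟩ := hZ
  obtain ⟨lam, rfl⟩ := hlam.1.exists_units_of_apply_one hlam.2
  obtain ⟨χ, hχ, h3⟩ := (isIrrCharacter_units lam).exists_irr_over
  have h4 : (a : P) ∉ charKer χ := fun h => by
    have := (hχ.isCharacter.res A).charKer_le_of_constituent (isIrrCharacter_units lam) h3
      ((hχ.isCharacter.res A).mem_charKer.2 (hχ.isCharacter.mem_charKer.1 h))
    exact h2 (by simpa using (isIrrCharacter_units lam).isCharacter.mem_charKer.1 this)
  have h5 : ∀ x, x ∉ Subgroup.center P → χ x = 0 := fun x hx =>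
    hχ.eq_zero_of_commutator_mem (fun y => hχ.center_le_charCenter (hP.1.2.2.le
      (Subgroup.commutator_mem_commutator (Subgroup.mem_top _) (Subgroup.mem_top _)))) fun h => by
      refine hx (Subgroup.mem_center_iff.2 fun y => ?_)
      by_contra h5
      have h6 := hχ.mem_charCenter_iff.1 h y
      have h7 := Solv.eq_of_card_prime_of_mem hp hP.2 (hP.1.2.2.le
        (Subgroup.commutator_mem_commutator (Subgroup.mem_top x) (Subgroup.mem_top y)))
        (fun h => h5 (commutatorElement_eq_one_iff_mul_comm.1 h).symm)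
      exact h4 (Subgroup.zpowers_le.2 h6 (h7.le h1))
  obtain ⟨d, -, hd⟩ := hχ.exists_degree
  have h6 := hχ.degree_sq_eq_index hχ.center_le_charCenter h5 hd
  have h7 := (Subgroup.center P).card_mul_index
  have h8 := A.card_mul_index
  rw [hP.2, hcard, ← h6, pow_succ' p, mul_comm 2, pow_mul] at h7
  have h9 : d = p ^ n := Nat.pow_left_injective two_ne_zero (Nat.eq_of_mul_eq_mul_left hp.pos h7)
  rw [hA, hcard, show 2 * n + 1 = n + 1 + n by ring, pow_add p (n + 1)] at h8
  have h10 := Nat.eq_of_mul_eq_mul_left (pow_pos hp.pos _) h8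
  rw [(isIrrCharacter_units lam).isCharacter.ind.eq_of_constituent_of_apply_one hχ
    (by rwa [frobenius_left _ _ hχ.isClassFunction, Ne, classInner_eq_zero_comm])
    (by rw [indFun_one, hd, h9, h10]; simp)]
  exact ⟨hχ, h5⟩

end Cfsg.Agent.S0893
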