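import Cfsg.Statements.S0894
import Cfsg.Agent.Lib.Char.Degree
import Cfsg.Agent.Lib.Solv.Gen

set_option autoImplicit false
open Cfsg

namespace Cfsg.Agent.S0894

open Cfsg.Agent.Char

/-- Let P be an extraspecial p-group of order p ^ (2 * n + 1). Then every irreducible character of P has degree 1 or p ^ n, and exactly p - 1 of them have degree p ^ n. -/
theorem result {P : Type*} [Group P] [Finite P] (p n : ℕ) [Fact p.Prime] (hP : Cfsg.IsExtraspecial p P) (hcard : Nat.card P = p ^ (2 * n + 1)) : (∀ χ : Cfsg.IrrCharacter P, (χ : P → ℂ) 1 = 1 ∨ (χ : P → ℂ) 1 = (p : ℂ) ^ n) ∧ Nat.card {χ : Cfsg.IrrCharacter P // (χ : P → ℂ) 1 = (p : ℂ) ^ n} = p - 1 := by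
  have hp : p.Prime := Fact.out
  classical
  have h7 := (Subgroup.center P).card_mul_index
  rw [hP.2, hcard, pow_succ'] at h7
  replace h7 := Nat.eq_of_mul_eq_mul_left hp.pos h7
  have h1 : ∀ χ : IrrCharacter P, χ.1 1 ≠ 1 → charDegree χ.1 = p ^ n := fun χ h1 => by
    have hχ := χ.2
    have h5 : ∀ x, x ∉ Subgroup.center P → χ.1 x = 0 := fun x hx =>
      hχ.eq_zero_of_commutator_mem (fun y => hχ.center_le_charCenter (hP.1.2.2.le
        (Subgroup.commutator_mem_commutator (Subgroup.mem_top _) (Subgroup.mem_top _)))) fun h => by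
        refine hx (Subgroup.mem_center_iff.2 fun y => ?_)
        by_contra h5
        have h6 := hχ.mem_charCenter_iff.1 h y
        have h7 := Solv.eq_of_card_prime_of_mem hp hP.2 (hP.1.2.2.le
          (Subgroup.commutator_mem_commutator (Subgroup.mem_top x) (Subgroup.mem_top y)))
          (fun h => h5 (commutatorElement_eq_one_iff_mul_comm.1 h).symm)
        exact h1 (hχ.apply_one_eq_one_iff.2 ((hP.1.2.2.trans h7).le.trans
          (Subgroup.zpowers_le.2 h6)))
    have h6 := hχ.degree_sq_eq_index hχ.center_le_charCenter h5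
      hχ.isCharacter.cast_charDegree.symm
    rw [h7, mul_comm, pow_mul] at h6
    exact Nat.pow_left_injective two_ne_zero h6
  have h2 : n ≠ 0 := by
    rintro rfl
    have h3 := Subgroup.index_eq_one.1 h7
    have h4 := (commutator_eq_bot_iff_center_eq_top P).2 h3
    have := hP.2
    rw [← hP.1.2.2, h4, Subgroup.card_bot] at this
    exact hp.one_lt.ne this
  have h3 : ∀ χ : IrrCharacter P, χ.1 1 ≠ 1 ↔ χ.1 1 = (p : ℂ) ^ n := fun χ =>
    ⟨fun h => by rw [← χ.2.isCharacter.cast_charDegree, h1 χ h]; simp, fun h h' => by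
      rw [h'] at h
      have : p ^ n = 1 := by exact_mod_cast h.symm
      exact (Nat.one_lt_pow h2 hp.one_lt).ne' this⟩
  refine ⟨fun χ => or_iff_not_imp_left.2 (h3 χ).1, ?_⟩
  have h4 := index_add_sum_nonlinear (G := P)
  rw [Finset.sum_congr rfl fun χ hχ => by rw [h1 χ (Finset.mem_filter.1 hχ).2], Finset.sum_const,
    hP.1.2.2, h7, hcard, smul_eq_mul, ← pow_mul, mul_comm n, pow_succ', ← one_add_mul] at h4
  have h5 := Nat.eq_of_mul_eq_mul_right (pow_pos hp.pos _) h4
  simp only [h3] at h5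
  rw [Nat.card_eq_fintype_card, Fintype.card_subtype]
  omega

end Cfsg.Agent.S0894
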