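import Cfsg.Statements.S0897
import Cfsg.Agent.Lib.Char.Artin

set_option autoImplicit false
open Cfsg

namespace Cfsg.Agent.S0897

open Cfsg.Agent.Char

/-- Let N be a normal subgroup of the finite group G with the index of N a power of the prime p, and P a Sylow p-subgroup of G such that P ⊓ N lies in the centre of P and every character of degree 1 of P ⊓ N is the restriction of a character of degree 1 of P. Then every irreducible character of N invariant under conjugation by G is the restriction of an irreducible character of G. -/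
theorem result {G : Type*} [Group G] [Fintype G] (p : ℕ) [Fact p.Prime] (N : Subgroup G) [hN : N.Normal] (hind : ∃ k : ℕ, N.index = p ^ k) (P : Sylow p G) (hcent : ∀ x ∈ (P : Subgroup G) ⊓ N, ∀ y ∈ (P : Subgroup G), x * y = y * x) (hlin : ∀ lam : ↥((P : Subgroup G) ⊓ N) → ℂ, Cfsg.IsCharacter ↥((P : Subgroup G) ⊓ N) lam → lam 1 = 1 → ∃ μ : ↥(P : Subgroup G) → ℂ, Cfsg.IsCharacter ↥(P : Subgroup G) μ ∧ μ 1 = 1 ∧ ∀ x : ↥((P : Subgroup G) ⊓ N), μ ⟨(x : G), x.2.1⟩ = lam x) (ϑ : N → ℂ) (hϑ : Cfsg.IsIrrCharacter N ϑ) (hinv : ∀ (g : G) (n : N), ϑ ⟨g * n * g⁻¹, hN.conj_mem (n : G) n.2 g⟩ = ϑ n) : ∃ χ : G → ℂ, Cfsg.IsIrrCharacter G χ ∧ ∀ n : N, χ n = ϑ n := by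
  have hp : p.Prime := Fact.out
  obtain ⟨k, hk⟩ := hind
  have hinv' : ∀ g, cj N g ϑ = ϑ := fun g => funext (hinv g)
  obtain ⟨E, φ, h1, h2, h3, -, m, h5, h6⟩ := dade_elementary hp hk hϑ hinv'
  have := Fintype.ofFinite ↥(E ⊓ N)
  have := Fintype.ofFinite N
  have := h1.isNilpotent hp
  have h7 : IsPGroup p ((piPartHom E {p}).range.map E.subtype) :=
    IsPGroup.map (Solv.isPGroup_of_forall_prime_dvd fun q hq h => card_range_piPartHom {p} q hq h) _
  obtain ⟨g, -, hg⟩ := (Solv.isSylowIn_top P).exists_le_conj h7 le_top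
  let j : E →* (P : Subgroup G) := ((MulAut.conj g⁻¹).toMonoidHom.comp (E.subtype.comp
    (piPartHom E {p}))).codRestrict _ fun x => by
      simpa using Solv.mem_conj_smul.1 (hg ⟨_, ⟨x, rfl⟩, rfl⟩)
  have hj : ∀ x : E, (j x : G) = g⁻¹ * piPart {p} (x : G) * g := fun x => by
    simp [j, piPartHom, coe_piPart]
  let i : ↥(E ⊓ N) →* E := Subgroup.inclusion inf_le_left
  let j' : ↥(E ⊓ N) →* ↥((P : Subgroup G) ⊓ N) := ((P : Subgroup G).subtype.comp
    (j.comp i)).codRestrict _ fun x => ⟨(j (i x)).2, by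
      simpa [hj] using! hN.conj_mem _ (piPart_mem {p} x.2.2) g⁻¹⟩
  let c : E →* ↥(E ⊓ N) := (E.subtype.comp (piPartHom E {p}ᶜ)).codRestrict _ fun x =>
    ⟨Subtype.prop _, IsPiElt.mem_of_index (isPiElt_coe.2 (isPiElt_piPart {p}ᶜ x)) fun q hq h => by
      simpa using (Nat.prime_dvd_prime_iff_eq hq hp).1 (hq.dvd_of_dvd_pow (hk ▸ h))⟩
  have hc : ∀ x : E, (c x : G) = piPart {p}ᶜ (x : G) := fun x => by simp [c, piPartHom, coe_piPart]
  have h8 : ∀ x : E, piPart {p}ᶜ x ∈ Subgroup.center E := fun x => by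
    obtain ⟨y, h8, h9, r, h10⟩ := h1
    have := normal_of_le_center (Subgroup.zpowers_le.2 h8)
    exact Subgroup.zpowers_le.2 h8 (IsPiElt.mem_of_index (isPiElt_piPart {p}ᶜ x) fun q hq h => by
      simpa using (Nat.prime_dvd_prime_iff_eq hq hp).1 (hq.dvd_of_dvd_pow (h10 ▸ h)))
  have h9 : ∀ a b : ↥(E ⊓ N), a * b = b * a := fun a b => by
    have h9 : Commute (piPart {p} (i a)) (piPart {p} (i b)) := by
      have := hcent _ (j' a).2 _ (j (i b)).2
      change (j (i a) : G) * _ = _ * (j (i a) : G) at this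
      rw [hj, hj] at this
      refine Subtype.ext ?_
      simp only [← mul_assoc, mul_inv_cancel_right, mul_left_inj] at this
      simpa [coe_piPart, mul_assoc] using this
    refine Subgroup.inclusion_injective inf_le_left ?_
    rw [map_mul, map_mul]
    change Commute (i a) (i b)
    rw [← piPart_mul_compl {p} (i a)]
    refine Commute.mul_left ?_ (Subgroup.mem_center_iff.1 (h8 _) _).symm
    rw [← piPart_mul_compl {p} (i b)]
    exact h9.mul_right (Subgroup.mem_center_iff.1 (h8 _) _)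
  obtain ⟨φ, rfl⟩ := h3.isCharacter.exists_units_of_apply_one (h3.apply_one_of_comm h9)
  obtain ⟨lam, hlam⟩ := exists_units_ext_of_comm
    (fun a b : ↥((P : Subgroup G) ⊓ N) => Subtype.ext (hcent a a.2 b b.2.1)) j'
    (φ / φ.comp (c.comp i)) fun x hx => by
      have h10 : (j (i x) : G) = 1 := congrArg Subtype.val hx
      rw [hj, mul_assoc, inv_mul_eq_one, eq_comm, mul_eq_right, piPart_eq_one_iff] at h10
      have h11 : c (i x) = x := Subtype.ext (by rw [hc, piPart_of_isPiElt h10]; rfl)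
      simp [h11]
  obtain ⟨μ, h10, h11, h12⟩ := hlin _ (isIrrCharacter_units lam).isCharacter (by simp)
  refine exists_ext_of_not_dvd hp hk hϑ hinv'
    ((h10.comp j).mul ((isIrrCharacter_units φ).isCharacter.comp c)).ind h5 ?_
  rw [classInner_res_indFun _ hinv', h2, Subgroup.index_top, Nat.cast_one, one_mul,
    ← conj_classInner, ← map_natCast (starRingEnd ℂ), ← h6]
  congr 2
  ext x
  have := h12 (j' x)
  rw [hlam] at this
  change μ (j (i x)) * φ (c (i x)) = _
  change μ (j (i x)) = _ at this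
  simp [this]

end Cfsg.Agent.S0897
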