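import Cfsg.Statements.S0900
import Cfsg.Agent.Lib.Char.Gallagher

set_option autoImplicit false
open Cfsg

namespace Cfsg.Agent.S0900

open Cfsg.Agent.Char

/-- Let N be a normal subgroup of the finite group G, χ an irreducible character of G and ϑ an irreducible character of N having nonzero inner product with the restriction of χ. Consider: (a) the restriction of χ to N is e • ϑ for a natural number e with e ^ 2 equal to the index of N; (b) χ vanishes outside N and ϑ is invariant under conjugation by G; (c) ϑ is invariant and every irreducible character of G having nonzero inner product with the function induced from ϑ equals χ. Then (a) ↔ (b) and (a) ↔ (c). -/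
theorem result {G : Type*} [Group G] [Fintype G] (N : Subgroup G) [hN : N.Normal] [Fintype N] (χ : G → ℂ) (hχ : Cfsg.IsIrrCharacter G χ) (ϑ : N → ℂ) (hϑ : Cfsg.IsIrrCharacter N ϑ) (hcon : Cfsg.classInner (fun n : N => χ n) ϑ ≠ 0) : ((∃ e : ℕ, (fun n : N => χ n) = (e : ℂ) • ϑ ∧ e ^ 2 = N.index) ↔ ((∀ g : G, g ∉ N → χ g = 0) ∧ ∀ (g : G) (n : N), ϑ ⟨g * n * g⁻¹, hN.conj_mem (n : G) n.2 g⟩ = ϑ n)) ∧ ((∃ e : ℕ, (fun n : N => χ n) = (e : ℂ) • ϑ ∧ e ^ 2 = N.index) ↔ (∀ (g : G) (n : N), ϑ ⟨g * n * g⁻¹, hN.conj_mem (n : G) n.2 g⟩ = ϑ n ∧ ∀ ψ : G → ℂ, Cfsg.IsIrrCharacter G ψ → Cfsg.classInner (Cfsg.indFun N ϑ) ψ ≠ 0 → ψ = χ)) := by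
  obtain ⟨e, he⟩ := (hχ.isCharacter.res N).classInner_eq_nat hϑ.isCharacter
  have h1 : (∀ g, cj N g ϑ = ϑ) → (fun n : N => χ n) = (e : ℂ) • ϑ := fun h =>
    he ▸ hχ.res_eq_smul_of_invariant hϑ h hcon
  have h2 : ∀ e : ℕ, (fun n : N => χ n) = (e : ℂ) • ϑ → ∀ g, cj N g ϑ = ϑ := fun e h =>
    invariant_of_res_eq_smul hχ.isClassFunction (by
      rintro h0
      rw [h, h0, zero_smul] at hcon
      exact hcon (by simp)) h
  refine ⟨⟨?_, fun h => ?_⟩, ?_, fun h => ?_⟩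
  · rintro ⟨e, h3, h4⟩
    exact ⟨(sq_eq_index_iff hχ hϑ h3).1 h4, fun g => congrFun (h2 e h3 g)⟩
  · have h3 := h1 fun g => funext (h.2 g)
    exact ⟨e, h3, (sq_eq_index_iff hχ hϑ h3).2 h.1⟩
  · rintro ⟨e, h3, h4⟩ g n
    refine ⟨congrFun (h2 e h3 g) n, fun ψ hψ h5 => ?_⟩
    rw [indFun_eq_smul_of_sq_eq_index hχ hϑ h3 h4, classInner_smul_left] at h5
    exact (hχ.eq_of_classInner_ne_zero hψ (right_ne_zero_of_mul h5)).symm
  · have h3 := h1 fun g => funext fun n => (h g n).1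
    exact ⟨e, h3, sq_eq_index_of_unique hχ hϑ h3 (h 1 1).2⟩

end Cfsg.Agent.S0900
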