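import Cfsg.Statements.S0901
import Cfsg.Agent.Lib.Block.Ring
import Mathlib

set_option autoImplicit false
open Cfsg

namespace Cfsg.Agent.S0901

open Cfsg.Agent.Blk

/-- Let M be a maximal ideal of the ring of algebraic integers containing the prime p, and let U be the set of complex roots of unity of order prime to p. Then reduction modulo M is injective on U, and every algebraic integer not in M is congruent modulo M to an element of U (so U maps bijectively onto the nonzero residues). -/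
theorem result (p : ℕ) [Fact p.Prime] (M : Ideal Cfsg.AlgInt) (hM : Cfsg.IsPModular p M) : (∀ ε₁ ε₂ : Cfsg.AlgInt, (∃ m : ℕ, ¬ p ∣ m ∧ (ε₁ : ℂ) ^ m = 1) → (∃ m : ℕ, ¬ p ∣ m ∧ (ε₂ : ℂ) ^ m = 1) → ε₁ - ε₂ ∈ M → ε₁ = ε₂) ∧ (∀ a : Cfsg.AlgInt, a ∉ M → ∃ ε : Cfsg.AlgInt, (∃ m : ℕ, ¬ p ∣ m ∧ (ε : ℂ) ^ m = 1) ∧ a - ε ∈ M) := by
  haveI : PMod M p := ⟨hM⟩
  have hp : p.Prime := Fact.out
  constructor
  · rintro ε₁ ε₂ ⟨m, hm, h1⟩ ⟨n, hn, h2⟩ h
    have hm0 : m ≠ 0 := by rintro rfl; exact hm (dvd_zero p)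
    have hn0 : n ≠ 0 := by rintro rfl; exact hn (dvd_zero p)
    have h20 : (ε₂ : ℂ) ≠ 0 := by intro h0; rw [h0, zero_pow hn0] at h2; exact zero_ne_one h2
    have h3 : ((ε₁ : ℂ) * (ε₂ : ℂ)⁻¹) ^ (m * n) = 1 := by
      rw [mul_pow, pow_mul, h1, one_pow, one_mul, inv_pow, mul_comm, pow_mul, h2, one_pow, inv_one]
    have h4 : (ε₂ : ℂ)⁻¹ ∈ O M := mem_O_of_pow_eq_one M hn0 (by rw [inv_pow, h2, inv_one])
    have h5 := eq_one_of_LI_sub_one (M := M) (fun h => (hp.dvd_mul.1 h).elim hm hn) h3 (by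
      have := LI_mul_right (LI_coe_iff.2 h) h4
      convert this using 1
      push_cast; field_simp)
    exact Subtype.ext (by field_simp at h5; exact h5)
  · intro a ha
    have h0 : rdInt M a ≠ 0 := by
      rw [rdInt_apply, Ne, rd_eq_zero_iff (coe_mem_O M a), LI_coe_iff]; exact ha
    -- the residue is algebraic over the prime field, hence a root of unity
    letI : Algebra (ZMod p) (kk M) := _root_.ZMod.algebra _ p
    have hint : IsIntegral (ZMod p) (rdInt M a) := by
      obtain ⟨f, hf, h1⟩ : IsIntegral ℤ a := integralClosure.isIntegral a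
      refine ⟨f.map (Int.castRingHom (ZMod p)), hf.map _, ?_⟩
      rw [Polynomial.eval₂_map, show (algebraMap (ZMod p) (kk M)).comp (Int.castRingHom (ZMod p)) =
        (rdInt M).comp (algebraMap ℤ AlgInt) from RingHom.ext_int _ _,
        ← Polynomial.hom_eval₂, h1, map_zero]
    obtain ⟨n, hn, hn'⟩ : ∃ n : ℕ, ¬ p ∣ n ∧ rdInt M a ^ n = 1 := by
      haveI := IntermediateField.adjoin.finiteDimensional hint
      haveI : Finite (IntermediateField.adjoin (ZMod p) {rdInt M a}) :=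
        Module.finite_of_finite (ZMod p)
      haveI := Fintype.ofFinite (IntermediateField.adjoin (ZMod p) {rdInt M a})
      obtain ⟨e, -, he⟩ := FiniteField.card (IntermediateField.adjoin (ZMod p) {rdInt M a}) p
      have h3 := FiniteField.pow_card_sub_one_eq_one
        (IntermediateField.AdjoinSimple.gen (ZMod p) (rdInt M a))
        (fun h => h0 (congrArg Subtype.val h))
      refine ⟨_, ?_, congrArg Subtype.val h3⟩
      rw [he]
      intro h
      have h4 : p ∣ p ^ (e : ℕ) := dvd_pow_self p e.ne_zero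
      have h5 := (Nat.dvd_sub_iff_right (Nat.one_le_pow _ _ hp.pos) h4).1 h
      exact hp.one_lt.ne' (Nat.dvd_one.1 h5)
    have hn0 : n ≠ 0 := by rintro rfl; exact hn (dvd_zero p)
    have hζ := Complex.isPrimitiveRoot_exp n hn0
    have hprod := Polynomial.X_pow_sub_one_eq_prod (Nat.pos_of_ne_zero hn0) hζ
    have h6 : ((a : ℂ)) ^ n - 1 = ∏ ζ ∈ Polynomial.nthRootsFinset n (1 : ℂ), ((a : ℂ) - ζ) := by
      have := congrArg (Polynomial.eval (a : ℂ)) hprod
      simpa [Polynomial.eval_prod] using this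
    have hmem : ∀ ζ ∈ Polynomial.nthRootsFinset n (1 : ℂ), ζ ^ n = 1 := fun ζ h =>
      (Polynomial.mem_nthRootsFinset (Nat.pos_of_ne_zero hn0) 1).1 h
    have h7 : MemLocalIdeal M (∏ ζ ∈ Polynomial.nthRootsFinset n (1 : ℂ), ((a : ℂ) - ζ)) := by
      rw [← h6, ← rd_eq_iff (pow_mem (coe_mem_O M a) n) (one_mem _), rd_pow (coe_mem_O M a),
        ← rdInt_apply, hn', rd_one]
    have key : ∀ s : Finset ℂ, (∀ ζ ∈ s, ζ ^ n = 1) →
        MemLocalIdeal M (∏ ζ ∈ s, ((a : ℂ) - ζ)) → ∃ ζ ∈ s, MemLocalIdeal M ((a : ℂ) - ζ) := by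
      intro s
      classical
      induction s using Finset.induction_on with
      | empty => intro _ h; exact absurd h (by simpa using not_LI_one)
      | insert b s hb ih =>
        intro h1 h2
        rw [Finset.prod_insert hb, LI_mul_iff (sub_mem (coe_mem_O M a)
          (mem_O_of_pow_eq_one M hn0 (h1 b (Finset.mem_insert_self _ _))))
          (prod_mem fun ζ hζ => sub_mem (coe_mem_O M a)
            (mem_O_of_pow_eq_one M hn0 (h1 ζ (Finset.mem_insert_of_mem hζ))))] at h2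
        rcases h2 with h2 | h2
        · exact ⟨b, Finset.mem_insert_self _ _, h2⟩
        · obtain ⟨ζ, h3, h4⟩ := ih (fun ζ hζ => h1 ζ (Finset.mem_insert_of_mem hζ)) h2
          exact ⟨ζ, Finset.mem_insert_of_mem h3, h4⟩
    obtain ⟨ζ, h8, h9⟩ := key _ hmem h7
    refine ⟨⟨ζ, isIntegral_of_pow_eq_one hn0 (hmem ζ h8)⟩, ⟨n, hn, hmem ζ h8⟩, ?_⟩
    exact LI_coe_iff.1 h9

end Cfsg.Agent.S0901
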