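import Cfsg.Statements.S0903
import Cfsg.Agent.Lib.Block.Ch

set_option autoImplicit false
open Cfsg

namespace Cfsg.Agent.S0903

open Cfsg.Agent.Blk MonoidAlgebra
theorem card_eq_sum {X : Type*} [Fintype X] (p : ℕ) (P : X → Prop) [DecidablePred P] :
    ((Nat.card {x // P x} : ℕ) : ZMod p) = ∑ x, if P x then 1 else 0 := by
  rw [Nat.card_eq_fintype_card, Fintype.card_subtype, Finset.sum_boole]

/-- Let P be a p-subgroup of the finite group G, let c centralize P and let g, h ∈ G. The number of pairs (x, y) with x conjugate to g, y conjugate to h and x * y = c is congruent modulo p to the number of such pairs in which x and y both centralize P. (This is why the Brauer map on class sums is multiplicative.) -/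
theorem result {G : Type*} [Group G] [Finite G] (p : ℕ) [Fact p.Prime] (P : Subgroup G) (hP : IsPGroup p P) (c : G) (hc : c ∈ Subgroup.centralizer (P : Set G)) (g h : G) : Nat.card {xy : G × G // IsConj g xy.1 ∧ IsConj h xy.2 ∧ xy.1 * xy.2 = c} ≡ Nat.card {xy : G × G // IsConj g xy.1 ∧ IsConj h xy.2 ∧ xy.1 * xy.2 = c ∧ xy.1 ∈ Subgroup.centralizer (P : Set G) ∧ xy.2 ∈ Subgroup.centralizer (P : Set G)} [MOD p] := by
  classical
  have := Fintype.ofFinite G
  have h1 := Br_mul (R := ZMod p) hP (inv_anti le_top (cls_mem_inv ⊤ g))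
    (inv_anti le_top (cls_mem_inv ⊤ h))
  have h2 := congrArg (fun a => a.coeff c) h1
  simp only [coeff_tr_of_mem _ hc, coeff_mul_left, coeff_tr, coeff_cls, exists_conj_top_iff] at h2
  rw [← ZMod.natCast_eq_natCast_iff, card_eq_sum, card_eq_sum, Fintype.sum_prod_type,
    Fintype.sum_prod_type]
  convert h2 using 2 with x _ x _
  · rw [Finset.sum_eq_single (x⁻¹ * c)]
    · simp only [mul_inv_cancel_left, and_true]
      by_cases a1 : IsConj g x <;> by_cases a2 : IsConj h (x⁻¹ * c) <;> simp only [a1, a2] <;> simp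
    · intro y _ hy
      rw [if_neg]; rintro ⟨-, -, h3⟩; exact hy (by rw [← h3]; simp)
    · simp
  · rw [Finset.sum_eq_single (x⁻¹ * c)]
    · simp only [mul_inv_cancel_left, true_and, SetLike.mem_coe]
      by_cases a1 : IsConj g x <;> by_cases a2 : IsConj h (x⁻¹ * c) <;>
        by_cases a3 : x ∈ Ce P <;> by_cases a4 : x⁻¹ * c ∈ Ce P <;> simp only [a1, a2, a3, a4] <;>
        simp
    · intro y _ hy
      rw [if_neg]; rintro ⟨-, -, h3, -⟩; exact hy (by rw [← h3]; simp)
    · simp

end Cfsg.Agent.S0903
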