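import Cfsg.Statements.S0905
import Cfsg.Agent.Lib.Block.Emb
import Cfsg.Agent.Lib.Block.Ch
import Cfsg.Agent.Lib.Solv.Cores

set_option autoImplicit false
open Cfsg

namespace Cfsg.Agent.S0905

open Cfsg.Agent.Blk MonoidAlgebra

/-- Let F be a field of characteristic p and let g be an element of the finite group G no conjugate of which centralizes O_p(G). Then the class sum of g is a nilpotent element of the group algebra F[G]. -/
theorem result {G : Type*} [Group G] [Finite G] (p : ℕ) [Fact p.Prime] (F : Type*) [Field F] [CharP F p] (g : G) (hg : ∀ x : G, IsConj g x → x ∉ Subgroup.centralizer (Cfsg.pCore p G : Set G)) : IsNilpotent (∑ᶠ x ∈ ConjClasses.carrier (ConjClasses.mk g), MonoidAlgebra.single x (1 : F) : MonoidAlgebra F G) := by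
  classical
  have := Fintype.ofFinite G
  have h1 : (∑ᶠ x ∈ ConjClasses.carrier (ConjClasses.mk g), MonoidAlgebra.single x (1 : F) :
      MonoidAlgebra F G) = cls F ⊤ g := by
    rw [finsum_mem_def, finsum_eq_sum_of_fintype, eq_sum_single (cls F ⊤ g)]
    refine Finset.sum_congr rfl fun x _ => ?_
    rw [coeff_cls, exists_conj_top_iff, Set.indicator_apply]
    simp only [ConjClasses.mem_carrier_iff_mk_eq, ConjClasses.mk_eq_mk_iff_isConj]
    by_cases h : IsConj g x
    · rw [if_pos h.symm, if_pos h, one_smul]
    · rw [if_neg (fun h' => h h'.symm), if_neg h, zero_smul]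
  rw [h1]
  have h2 : IsNilpotent (cls (AlgebraicClosure F) ⊤ g) := by
    refine nilpotent_of_Br_eq_zero (K := ⊤) (Solv.isPGroup_pCore p G) le_top
      (fun x _ => mem_No.2 (cs_normal x _)) (cls_mem_Z trivial) ?_
    rw [tr_eq_zero_iff]
    intro x hx
    rw [coeff_cls, exists_conj_top_iff, if_neg fun h => hg x h hx]
  rw [← cf_cls (algebraMap F (AlgebraicClosure F))] at h2
  obtain ⟨n, hn⟩ := h2
  exact ⟨n, cf_injective (algebraMap F (AlgebraicClosure F)).injective
    (by rw [map_pow, hn, map_zero])⟩

end Cfsg.Agent.S0905
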