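import Cfsg.Statements.S0915
import Cfsg.Agent.Lib.Block.Ker
import Cfsg.Agent.Lib.Comp.SPE
import Cfsg.Agent.Lib.Comp.Loc

set_option autoImplicit false
open Cfsg

namespace Cfsg.Agent.S0915

open Cfsg.Agent.Blk
open Cfsg.Agent.Char hiding cj cj_mul cj_inv_cj cj_cj_inv

/-- Let G be a finite p-solvable group with trivial largest normal subgroup of order prime to p. Then any two irreducible characters of G lie in the same block relative to every maximal ideal M of the algebraic integers containing p: G has a single p-block. -/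
theorem result {G : Type*} [Group G] [Finite G] (p : ℕ) [Fact p.Prime] (M : Ideal Cfsg.AlgInt) (hM : Cfsg.IsPModular p M) (hsolv : Cfsg.IsPSolvable p G) (hcore : Cfsg.pPrimeCore p G = ⊥) (χ ψ : Cfsg.IrrCharacter G) : Cfsg.SameBlock M (χ : G → ℂ) (ψ : G → ℂ) := by
  haveI : PMod M p := ⟨hM⟩
  haveI := Fact.mk (PMod.prime M)
  obtain ⟨n, hn⟩ := exists_relIndex_pPrimePCore (G := G) (p := p)
  obtain ⟨Q⟩ : Nonempty (Sylow p (pPrimePCore p G)) := inferInstance
  have hQ := isSyl_map Q
  have h1 := hQ.sup_eq_of_relIndex pPrimeCore_le_pPrimePCore hn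
  have hc := Comp.isPConstrained_iff.2 ((Comp.pSol_top_of_isPSolvable hsolv).PLay_eq_bot le_rfl) Q
  rw [hcore, sup_bot_eq] at h1
  haveI : ((Q : Subgroup _).map (pPrimePCore p G).subtype).Normal := by
    rw [h1, pPrimePCore]; infer_instance
  have h2 : ∀ χ : IrrCharacter G, blk M χ = 1 := fun χ =>
    (isBlock_blk χ).eq_one_of_Ce_le hQ.pg le_top (top_le_No _) (inf_le_right.trans (hc.trans h1.ge))
  rw [sameBlock_iff, h2, h2]

end Cfsg.Agent.S0915
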