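import Cfsg.Statements.S0916
import Cfsg.Agent.Lib.Block.Induct

set_option autoImplicit false
open Cfsg

namespace Cfsg.Agent.S0916

open Cfsg.Agent.Blk

/-- Let P be a p-subgroup of the finite group G, C its centralizer and N its normalizer. Say that a conjugacy class (of G, or of N) has defect group P when P is a Sylow p-subgroup of the centralizer (in G, respectively in N) of some element of the class. Then: (i) if the class of g in G has defect group P, the elements of that class lying in C form a single N-class, again with defect group P; (ii) every N-class with defect group P arises this way from exactly one G-class with defect group P. -/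
theorem result {G : Type*} [Group G] [Finite G] (p : ℕ) [Fact p.Prime] (P : Subgroup G) (hP : IsPGroup p P) : (∀ g : G, (∃ S : Sylow p (Subgroup.centralizer ({g} : Set G)), (S : Subgroup (Subgroup.centralizer ({g} : Set G))).map (Subgroup.centralizer ({g} : Set G)).subtype = P) → (∃ c : G, IsConj g c ∧ c ∈ Subgroup.centralizer (P : Set G)) ∧ (∀ c₁ c₂ : G, IsConj g c₁ → IsConj g c₂ → c₁ ∈ Subgroup.centralizer (P : Set G) → c₂ ∈ Subgroup.centralizer (P : Set G) → ∃ n ∈ Subgroup.normalizer (P : Set G), n * c₁ * n⁻¹ = c₂)) ∧ (∀ c : G, c ∈ Subgroup.centralizer (P : Set G) → (∃ S : Sylow p (Subgroup.centralizer ({c} : Set G) ⊓ Subgroup.normalizer (P : Set G) : Subgroup G), (S : Subgroup ↥(Subgroup.centralizer ({c} : Set G) ⊓ Subgroup.normalizer (P : Set G))).map (Subgroup.centralizer ({c} : Set G) ⊓ Subgroup.normalizer (P : Set G)).subtype = P) → ∃ S : Sylow p (Subgroup.centralizer ({c} : Set G)), (S : Subgroup (Subgroup.centralizer ({c} : Set G))).map (Subgroup.centralizer ({c} : Set G)).subtype = P) := by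
  constructor
  · intro g hg
    have hD : IsSyl p P (⊤ ⊓ Ce1 g) := by rw [top_inf_eq]; exact isSyl_iff.2 hg
    refine ⟨⟨g, IsConj.refl g, mem_Ce_iff_le.2 (hD.le.trans inf_le_right)⟩, ?_⟩
    intro c₁ c₂ h1 h2 h3 h4
    obtain ⟨x, rfl⟩ := isConj_iff.1 h1
    obtain ⟨y, rfl⟩ := isConj_iff.1 h2
    obtain ⟨n, hn, h5⟩ := exists_mem_No_conj hD trivial h3
    obtain ⟨m, hm, h6⟩ := exists_mem_No_conj hD trivial h4
    refine ⟨m * n⁻¹, mul_mem hm.2 (inv_mem hn.2), ?_⟩
    rw [← h5, ← h6]; group
  · intro c _ h
    exact isSyl_iff.1 (IsSyl.of_inf_No (isSyl_iff.2 h))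

end Cfsg.Agent.S0916
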