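import Cfsg.Statements.S0926
import Cfsg.Agent.Lib.Block.Second

set_option autoImplicit false
open Cfsg

namespace Cfsg.Agent.S0926

open Cfsg.Agent.Blk

/-- Let B be a block of the finite group G with defect group D (relative to a maximal ideal M of the algebraic integers containing p), let χ ∈ B have height zero, and let x be a p-element. Then some conjugate of x lies in D if and only if χ does not vanish on the whole p-section of x (the elements whose p-part is conjugate to x). -/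
theorem result {G : Type*} [Group G] [Finite G] (p : ℕ) [Fact p.Prime] (M : Ideal Cfsg.AlgInt) (hM : Cfsg.IsPModular p M) (B : Set (Cfsg.IrrCharacter G)) (hB : Cfsg.IsPBlock M B) (D : Subgroup G) (hD : Cfsg.IsDefectGroup p M B D) (χ : Cfsg.IrrCharacter G) (hχ : χ ∈ B) (h0 : Cfsg.blockHeight p B (χ : G → ℂ) = 0) (x : G) (hx : ∃ k : ℕ, orderOf x = p ^ k) : (∃ g : G, g * x * g⁻¹ ∈ D) ↔ ∃ u : G, (∃ z : G, Cfsg.IsPPart p u z ∧ IsConj x z) ∧ (χ : G → ℂ) u ≠ 0 := by
  haveI : PMod M p := ⟨hM⟩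
  rw [hB.isDefectGroup_iff] at hD
  constructor
  · rintro ⟨g, hg⟩
    have h1 : cs g (Subgroup.zpowers x) ≤ D := by
      rw [cs, MonoidHom.map_zpowers, Subgroup.zpowers_le]; exact hg
    have h3 := Br_cs_ne_zero (Br_ne_zero_of_le h1 hD.ne) g⁻¹
    rw [cs_inv_cs, hB.isBlock.cj_eq trivial] at h3
    obtain ⟨e, he, h⟩ := exists_block_Br_mul (isPGroup_zpowers hx) (top_inf_Ce_le x) le_top
      (Ce1_le_No x) hB.isBlock.mem (inv_anti le_top hB.isBlock.inv) hB.isBlock.idem h3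
    obtain ⟨b, hb, rfl⟩ := exists_isPBlock_barS_eq he
    have h4 := isInducedBlock_iff.2 ⟨hb, hB, (ind_iff_Br (isPGroup_zpowers hx) (zpowers_le_Ce1 x)
      (top_inf_Ce_le x) le_top (Ce1_le_No x) he hB.isBlock).2 h⟩
    obtain ⟨y, hy, h5⟩ := exists_blockPart_ne_zero h4 hχ h0 (x := ⟨x, mem_Ce1.2 rfl⟩)
      (by rwa [← Subgroup.orderOf_coe]) (mem_center_Ce1 x)
    by_contra hn
    push Not at hn
    refine h5 (hb.isUB.blockPart_eq_zero (x := 1) (fun u z hz hc => ?_) (isPPart_one_iff.2 hy)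
      (IsConj.refl 1))
    refine hn _ ⟨x, isPPart_mul (mem_Ce1.1 u.2).symm hx ?_, IsConj.refl x⟩
    rw [Subgroup.orderOf_coe]
    exact hz.eq_one_iff.1 (isConj_one_right.1 hc)
  · rintro ⟨u, ⟨z, hz, hxz⟩, h⟩
    obtain ⟨E, hE, h1⟩ := hB.exists_isDef_mem hχ hz h
    obtain ⟨c, -, rfl⟩ := hD.exists_cs_eq hE
    obtain ⟨d, rfl⟩ := isConj_iff.1 hxz
    exact ⟨c * d, by simpa [mul_assoc] using (conj_mem_cs (x := c)).2 h1⟩

end Cfsg.Agent.S0926
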