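import Cfsg.Statements.S0927
import Cfsg.Agent.Lib.Block.Height

set_option autoImplicit false
open Cfsg

namespace Cfsg.Agent.S0927

open Cfsg.Agent.Blk

/-- Let B be a block of the finite group G relative to a maximal ideal M of the algebraic integers containing p, let y represent a defect class of B and let P be a Sylow p-subgroup of the centralizer of y. (a) If x ∈ P and χ ∈ B has height zero, then χ (x * y) is not in the local ideal at M. (b) If x lies in the centre of P, then for every χ ∈ B the central character of χ at x * y is not in the local ideal at M. -/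
theorem result {G : Type*} [Group G] [Finite G] (p : ℕ) [Fact p.Prime] (M : Ideal Cfsg.AlgInt) (hM : Cfsg.IsPModular p M) (B : Set (Cfsg.IrrCharacter G)) (hB : Cfsg.IsPBlock M B) (y : G) (hy : Cfsg.IsDefectClass M B y) (P : Sylow p (Subgroup.centralizer ({y} : Set G))) (x : Subgroup.centralizer ({y} : Set G)) (hx : x ∈ (P : Subgroup (Subgroup.centralizer ({y} : Set G)))) : (∀ χ ∈ B, Cfsg.blockHeight p B (χ : G → ℂ) = 0 → ¬ Cfsg.MemLocalIdeal M ((χ : G → ℂ) ((x : G) * y))) ∧ ((∀ w ∈ (P : Subgroup (Subgroup.centralizer ({y} : Set G))), x * w = w * x) → ∀ χ ∈ B, ¬ Cfsg.MemLocalIdeal M (Cfsg.centralChar (χ : G → ℂ) ((x : G) * y))) := by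
  haveI : PMod M p := ⟨hM⟩
  have hx1 : ∃ k, orderOf (x : G) = p ^ k := by
    rw [Subgroup.orderOf_coe]; exact pelt_of_mem P.2 hx
  have hc : Commute (x : G) y := mem_Ce1.1 x.2
  have key : ∀ χ ∈ B, blockHeight p B (χ : G → ℂ) = 0 →
      ¬ MemLocalIdeal M ((χ : G → ℂ) ((x : G) * y)) := by
    intro χ hχ h0 h
    apply hy.2.2 χ hχ
    rw [IsPBlock.LI_centralChar_iff hχ h0 (hB.index_eq_mnu hy)]
    simpa using LI_sub h (LI_char_mul_sub (M := M) χ.2.isCharacter hx1 hc)
  refine ⟨key, fun hz χ hχ h => ?_⟩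
  obtain ⟨ψ, hψ, h0⟩ := exists_height_zero p hB.nonempty
  have h1 : MemLocalIdeal M (centralChar (ψ : G → ℂ) (x * y)) := by
    simpa using LI_sub h (hB.sameBlock hχ hψ (x * y))
  refine key ψ hψ h0 ((IsPBlock.LI_centralChar_iff hψ h0 ?_).1 h1)
  have hyr := hB.isUB.preg_of_coeff_bar (hB.coeff_bar_ne_zero_iff.2 hy.2.1)
  have h2 : Ce1 ((x : G) * y) ≤ Ce1 y := by
    simpa using (isPPart_mul hc hx1 hyr).Ce1_le_reg
  have h3 := (isSyl_map P).of_le (L := Ce1 ((x : G) * y)) (by
    rintro _ ⟨w, hw, rfl⟩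
    have h4 : (x : G) * w = w * x := congrArg Subtype.val (hz w hw)
    rw [mem_Ce1, Subgroup.subtype_apply, ← mul_assoc, ← h4, mul_assoc, mem_Ce1.1 w.2,
      mul_assoc]) h2
  have h4 := h3.card_eq.symm.trans (isSyl_map P).card_eq
  have h5 : (Nat.card (Ce1 ((x : G) * y))).factorization p = (Nat.card (Ce1 y)).factorization p :=
    Nat.pow_right_injective (Fact.out : p.Prime).two_le h4
  have h6 := factorization_index_add p (Ce1 ((x : G) * y))
  have h7 := factorization_index_add p (Ce1 y)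
  have h8 := hB.index_eq_mnu hy
  omega

end Cfsg.Agent.S0927
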