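import Cfsg.Statements.S0931
import Cfsg.Agent.Lib.Block.More

set_option autoImplicit false
open Cfsg

namespace Cfsg.Agent.S0931

open Cfsg.Agent.Blk
open Cfsg.Agent.Char hiding cj cj_mul cj_inv_cj cj_cj_inv

/-- Let H be a subgroup of the finite group G and fix a maximal ideal M of the algebraic integers containing the prime p. If the block b of H induces the block B of G, then b has defect 0 if and only if B has defect 0. -/
theorem result {G : Type*} [Group G] [Finite G] (p : ℕ) [Fact p.Prime] (M : Ideal Cfsg.AlgInt) (hM : Cfsg.IsPModular p M) (H : Subgroup G) (b : Set (Cfsg.IrrCharacter H)) (B : Set (Cfsg.IrrCharacter G)) (hind : Cfsg.IsInducedBlock M H b B) : Cfsg.blockDefect p b = 0 ↔ Cfsg.blockDefect p B = 0 := by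
  haveI : PMod M p := ⟨hM⟩
  obtain ⟨hb, hB, h⟩ := isInducedBlock_iff.1 hind
  obtain ⟨D, hD⟩ := hb.isBlockS.exists_isDef p
  obtain ⟨P, hP⟩ := hB.isBlock.exists_isDef p
  have h1 := hb.card_isDefS hD
  have h2 := hB.card_isDef hP
  have hp := (Fact.out : p.Prime)
  constructor
  · intro h0
    rw [h0, pow_zero, Subgroup.card_eq_one] at h1
    have h3 : P = ⊥ := eq_bot_of_inf_Ce hP.pg (eq_bot_iff.2 fun x hx => by
      obtain ⟨g, hg⟩ := h.exists_conj_center hb.isBlockS hB.isBlock hD hP hx
      have := mi1 hg
      rw [h1, Subgroup.mem_bot] at this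
      simpa using this)
    rw [h3, Subgroup.card_bot] at h2
    simpa [hp.ne_one] using h2.symm
  · intro h0
    have := h.card_le le_top hb.isBlockS hB.isBlock hD hP
    rw [h1, h2, h0] at this
    exact Nat.le_zero.1 ((Nat.pow_le_pow_iff_right hp.one_lt).1 this)

end Cfsg.Agent.S0931
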