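import Cfsg.Statements.S0933
import Cfsg.Agent.Lib.Block.Second

set_option autoImplicit false
open Cfsg

namespace Cfsg.Agent.S0933

open Cfsg.Agent.Blk

/-- Let H be a subgroup of the finite group G and ξ an irreducible character of H such that the induced function ξ^G is an irreducible character of G. Then, relative to any maximal ideal M of the algebraic integers containing the prime p, the block of ξ induces the block of ξ^G. -/
theorem result {G : Type*} [Group G] [Fintype G] (p : ℕ) [Fact p.Prime] (M : Ideal Cfsg.AlgInt) (hM : Cfsg.IsPModular p M) (H : Subgroup G) (ξ : Cfsg.IrrCharacter H) (hind : Cfsg.IsIrrCharacter G (Cfsg.indFun H (ξ : H → ℂ))) : Cfsg.IsInducedBlock M H (Cfsg.blockOf M (ξ : H → ℂ)) (Cfsg.blockOf M (Cfsg.indFun H (ξ : H → ℂ))) := by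
  haveI : PMod M p := ⟨hM⟩
  let χ : IrrCharacter G := ⟨_, hind⟩
  have hB := isPBlock_blockOf (M := M) χ
  have hb := isPBlock_blockOf (M := M) ξ
  refine isInducedBlock_iff.2 ⟨hb, hB, fun z hz => ?_⟩
  obtain ⟨w, hw, rfl⟩ := exists_toK_eq_Z hz
  rw [hb.lam_tr (mem_blockOf_self ξ) (inv_anti le_top hw.2), ← om_indFun _ _ (toC_mem_Z hw)]
  exact (hB.lam_toK (mem_blockOf_self χ) hw).symm

end Cfsg.Agent.S0933
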