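import Cfsg.Statements.S0934
import Cfsg.Agent.Lib.Block.Second

set_option autoImplicit false
open Cfsg

namespace Cfsg.Agent.S0934

open Cfsg.Agent.Blk

/-- Let H be a subgroup of the finite group G and fix a maximal ideal M of the algebraic integers containing the prime p. If the block b of H induces the block B of G and ξ ∈ b, then there is χ ∈ B whose restriction to H has nonzero inner product with ξ. -/
theorem result {G : Type*} [Group G] [Fintype G] (p : ℕ) [Fact p.Prime] (M : Ideal Cfsg.AlgInt) (hM : Cfsg.IsPModular p M) (H : Subgroup G) [Fintype H] (b : Set (Cfsg.IrrCharacter H)) (B : Set (Cfsg.IrrCharacter G)) (hind : Cfsg.IsInducedBlock M H b B) (ξ : Cfsg.IrrCharacter H) (hξ : ξ ∈ b) : ∃ χ ∈ B, Cfsg.classInner (fun h : H => (χ : G → ℂ) h) (ξ : H → ℂ) ≠ 0 := by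
  classical
  haveI : PMod M p := ⟨hM⟩
  obtain ⟨χ, hχ⟩ := hind.2.1.nonempty
  have h1 := hind.LI_om_rs_iff hξ hχ (fC_mem B) hind.2.1.isUB.isInt
  rw [om_fC_of_mem hχ, ← om_indFun _ _ (fC_mem B), om, ← mul_one (fC B),
    ch_fC_mul_eq (Char.isClassFunction_indFun H _)] at h1
  by_contra hn
  push Not at hn
  refine not_LI_one (h1.1 ?_)
  rw [Finset.sum_eq_zero, zero_div]
  · exact LI_zero
  · intro ψ _
    split_ifs with hψ
    · rw [Char.classInner_eq_zero_comm.1 ((Char.frobenius_right H _ ψ.2.isClassFunction).trans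
        (hn ψ hψ)), zero_mul]
    · rfl

end Cfsg.Agent.S0934
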