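import Cfsg.Statements.S0940
import Cfsg.Agent.Lib.Block.Trace

set_option autoImplicit false
open Cfsg

namespace Cfsg.Agent.S0940

open Cfsg.Agent.Blk
open Cfsg.Agent.Char hiding cj cj_mul cj_inv_cj cj_cj_inv
open scoped ComplexConjugate
open MonoidAlgebra

/-- Let G be a finite group and M a maximal ideal of the algebraic integers containing the prime p. For every p-regular g, the idempotent coefficient of the principal block at g (the inverse of the group order times the sum over χ in the principal block of χ 1 * conj (χ g)) is congruent modulo the local ideal at M to N / R, where N is the number of pairs (x, y) with x of p-power order, y of order prime to p and x * y = g, and R is the number of elements of G of order prime to p. -/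
theorem result {G : Type*} [Group G] [Finite G] (p : ℕ) [Fact p.Prime] (M : Ideal Cfsg.AlgInt) (hM : Cfsg.IsPModular p M) (g : G) (hg : ¬ p ∣ orderOf g) : Cfsg.MemLocalIdeal M (Cfsg.blockCoeff (Cfsg.principalBlock M G) g - (Nat.card {xy : G × G // (∃ k : ℕ, orderOf xy.1 = p ^ k) ∧ ¬ p ∣ orderOf xy.2 ∧ xy.1 * xy.2 = g} : ℂ) / (Nat.card {y : G // ¬ p ∣ orderOf y} : ℂ)) := by
  haveI : PMod M p := ⟨hM⟩
  classical
  have := Fintype.ofFinite G
  set B := principalBlock M G with hBd
  have hB : IsPBlock M B := isPBlock_principal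
  let a : (O M)[G] := ofFun fun x => if ∃ k, orderOf x = p ^ k then 1 else 0
  let c : (O M)[G] := ofFun fun x => if ¬ p ∣ orderOf x then 1 else 0
  have ha : a ∈ Z (O M) (⊤ : Subgroup G) := ofFun_mem_Z fun x y => by rw [orderOf_conj']
  have hc : c ∈ Z (O M) (⊤ : Subgroup G) := ofFun_mem_Z fun x y => by rw [orderOf_conj']
  set m := Nat.card {y : G // ¬ p ∣ orderOf y} with hm
  have hom : ∀ χ : IrrCharacter G, om χ (toC M c) = (∑ x, reg p χ.1 x) / χ.1 1 := fun χ => by
    rw [om_eq_sum, Finset.sum_div]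
    refine Finset.sum_congr rfl fun x _ => ?_
    rw [coeff_toC, coeff_ofFun, reg]
    split_ifs <;> simp
  have h1 : c * fO M B = c := toC_injective (Z_ext_om (toC_mem_Z (mul_mem hc (fO_mem _)))
    (toC_mem_Z hc) fun χ => by
      rw [map_mul, om_mul χ.2 (toC_mem_Z hc), hB.isUB.toC_fO]
      by_cases h : χ ∈ B
      · rw [om_fC_of_mem h, mul_one]
      · rw [om_fC_of_notMem h, hom, not_not.1 (mt mem_principal_iff_sum.2 h), zero_div, zero_mul])
  have h2 : lam (bar M B) (toK M c) = m := by
    rw [hB.lam_toK irrOne_mem_principal hc, hom, ← rd_natCast, hm, Nat.card_eq_fintype_card,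
      Fintype.card_subtype, Finset.card_filter]
    simp only [irrOne_apply, div_one, reg, Nat.cast_sum]
    congr 1
    exact Finset.sum_congr rfl fun x _ => by split_ifs <;> simp
  have h3 := hB.isBlock.lam_spec (toK_mem_Z hc)
  rw [h2] at h3
  have hn : (toK M c - algebraMap (kk M) _ (m : kk M)) * bar M B ∈ Z (kk M) (⊤ : Subgroup G) :=
    mul_mem (sub_mem (toK_mem_Z hc) (algebraMap_mem _ _)) hB.isBlock.mem
  have h4 : ∀ y, (toK M a * ((toK M c - algebraMap (kk M) _ (m : kk M)) * bar M B)).coeff y = 0 :=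
    fun y => by
    set n := (toK M c - algebraMap (kk M) _ (m : kk M)) * bar M B
    have h5 := sum_coeff_pelt_eq_zero (p := p)
      ((Z_top_comm hn (single y⁻¹ 1)).isNilpotent_mul_right h3)
    rw [coeff_mul_left, ← h5, ← Equiv.sum_comp (Equiv.inv G)]
    refine Finset.sum_congr rfl fun x _ => ?_
    rw [coeff_toK, coeff_ofFun]
    simp only [Equiv.inv_apply, orderOf_inv, inv_inv]
    split_ifs <;> simp
  have h5 : ∀ y, ¬ p ∣ orderOf y → ((a * fO M B).coeff y : ℂ) = blockCoeff B y := fun y hy => by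
    rw [← coeff_toC, coeff_Z_eq_sum (toC_mem_Z (mul_mem ha (fO_mem _))), blockCoeff_eq]
    congr 1
    have h6 : ∀ χ : IrrCharacter G, om χ (toC M (a * fO M B)) * (χ.1 1 * conj (χ.1 y)) =
        ∑ x, if ∃ k, orderOf x = p ^ k then
          (if χ ∈ B then χ.1 x * conj (χ.1 y) else 0) else 0 := fun χ => by
      rw [map_mul, om_mul χ.2 (toC_mem_Z ha), hB.isUB.toC_fO, om_fC, om_eq_sum, Finset.sum_mul,
        Finset.sum_mul]
      refine Finset.sum_congr rfl fun x _ => ?_
      have := χ.2.apply_one_ne_zero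
      rw [coeff_toC, coeff_ofFun]
      split_ifs <;> simp
      field_simp
    rw [Finset.sum_congr rfl fun χ _ => h6 χ, Finset.sum_comm, Finset.sum_eq_single 1]
    · simp only [if_pos (pelt_one (p := p) (G := G))]
    · intro x _ hx
      split_ifs with h
      · have h7 := congrArg conj (hB.isUB.weak_orthogonality hy (dvd_orderOf_of_pelt h hx))
        rw [map_sum, map_zero] at h7
        exact Eq.trans (Finset.sum_congr rfl fun χ _ => by split_ifs <;> simp [mul_comm]) h7
      · simp
    · simp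
  have h6 : ∀ y, ((a * c).coeff y : ℂ) = Nat.card {xy : G × G // (∃ k : ℕ, orderOf xy.1 = p ^ k) ∧
      ¬ p ∣ orderOf xy.2 ∧ xy.1 * xy.2 = y} := fun y => by
    rw [coeff_mul_left, Nat.card_eq_fintype_card, Fintype.card_subtype, Finset.card_filter,
      Fintype.sum_prod_type]
    push_cast
    refine Finset.sum_congr rfl fun x _ => ?_
    rw [Finset.sum_eq_single (x⁻¹ * y) (fun z _ hz => if_neg fun h => hz (by rw [← h.2.2]; simp))
      (by simp), coeff_ofFun, coeff_ofFun]
    by_cases h : ∃ k, orderOf x = p ^ k <;> by_cases h' : p ∣ orderOf (x⁻¹ * y) <;> simp [h, h']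
  have h7 : ∀ y, ¬ p ∣ orderOf y → rd M ((a * c).coeff y) = m * rd M (blockCoeff B y) :=
    fun y hy => by
    have := h4 y
    rw [sub_mul, ← toK_fO, ← map_mul, h1, mul_sub, ← map_mul, ← Algebra.smul_def, mul_smul_comm,
      ← map_mul, coeff_sub', coeff_smul', coeff_toK, coeff_toK, h5 y hy] at this
    exact sub_eq_zero.1 this
  have hm0 : ¬ p ∣ m := fun h => by
    have h8 := h7 1 preg_one
    rw [(CharP.cast_eq_zero_iff (kk M) p m).2 h, zero_mul, h6, rd_natCast,
      Nat.card_eq_one_iff_exists.2 ⟨⟨(1, 1), pelt_one, preg_one, one_mul 1⟩, ?_⟩] at h8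
    · simp at h8
    rintro ⟨⟨x, y⟩, h9, h10, h11⟩
    obtain rfl : y = x⁻¹ := eq_inv_of_mul_eq_one_right h11
    rw [orderOf_inv] at h10
    obtain rfl := eq_one_of_pelt_of_preg h9 h10
    simp
  have hm1 : ¬ MemLocalIdeal M (m : ℂ) := mt LI_natCast_iff.1 hm0
  have hm2 := ne_zero_of_not_LI hm1
  rw [← LI_mul_unit_iff (natCast_mem _ m) hm1, sub_mul, div_mul_cancel₀ _ hm2, ← h6,
    ← rd_eq_iff (mul_mem (hB.blockCoeff_mem g) (natCast_mem _ m)) ((a * c).coeff g).2, h7 g hg,
    rd_mul (hB.blockCoeff_mem g) (natCast_mem _ m), rd_natCast, mul_comm]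

end Cfsg.Agent.S0940
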