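import Cfsg.Statements.S0942
import Cfsg.Agent.Lib.Block.Cover

set_option autoImplicit false
open Cfsg

namespace Cfsg.Agent.S0942

open Cfsg.Agent.Blk Cfsg.Agent.Char

/-- Let u be a p-element of the finite group G, let v lie in the largest normal subgroup of C_G(u) of order prime to p, and let χ belong to the principal block (relative to a maximal ideal M of the algebraic integers containing p). Then χ (u * v) = χ u. -/
theorem result {G : Type*} [Group G] [Finite G] (p : ℕ) [Fact p.Prime] (M : Ideal Cfsg.AlgInt) (hM : Cfsg.IsPModular p M) (u : G) (hu : ∃ k : ℕ, orderOf u = p ^ k) (v : G) (hv : v ∈ Cfsg.centralizerPPrimeCore p u) (χ : Cfsg.IrrCharacter G) (hχ : χ ∈ Cfsg.principalBlock M G) : (χ : G → ℂ) (u * v) = (χ : G → ℂ) u := by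
  haveI : PMod M p := ⟨hM⟩
  obtain ⟨v, hv', rfl⟩ := hv
  have := principal_apply_mul hu Solv.not_dvd_card_pPrimeCore hχ (y := 1) preg_one hv'
    fun h => Solv.not_dvd_card_pPrimeCore (h.trans (by
      rw [one_mul, ← Subgroup.orderOf_mk v hv']; exact orderOf_dvd_natCard _))
  simpa using this

end Cfsg.Agent.S0942
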