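import Cfsg.Statements.S0944
import Cfsg.Agent.Lib.Block.Ch

set_option autoImplicit false
open Cfsg

namespace Cfsg.Agent.S0944

open Cfsg.Agent.Blk

/-- Let χ be an irreducible character of the finite group G and u an involution. Then χ u is a rational integer n with n ≡ χ 1 (mod 2). -/
theorem result {G : Type*} [Group G] [Finite G] (χ : Cfsg.IrrCharacter G) (u : G) (hu : orderOf u = 2) : ∃ n : ℤ, (χ : G → ℂ) u = (n : ℂ) ∧ (2 : ℤ) ∣ (Cfsg.charDegree (χ : G → ℂ) : ℤ) - n := by
  obtain ⟨s, h1, h2, h3⟩ := χ.2.isCharacter.exists_eigenvalues u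
  have h4 := h3 1
  simp only [zpow_one, Multiset.map_id'] at h4
  have key : ∀ s : Multiset ℂ, (∀ z ∈ s, z ^ 2 = 1) →
      ∃ n : ℤ, s.sum = n ∧ (2 : ℤ) ∣ (Multiset.card s : ℤ) - n := by
    intro s
    induction s using Multiset.induction_on with
    | empty => exact fun _ => ⟨0, by simp, by simp⟩
    | cons a s ih =>
      intro h
      obtain ⟨n, h5, h6⟩ := ih fun z hz => h z (Multiset.mem_cons_of_mem hz)
      rcases sq_eq_one_iff.1 (h a (Multiset.mem_cons_self _ _)) with rfl | rfl
      · exact ⟨1 + n, by simp [h5], by simp only [Multiset.card_cons]; push_cast; omega⟩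
      · exact ⟨-1 + n, by simp [h5], by simp only [Multiset.card_cons]; push_cast; omega⟩
  obtain ⟨n, h5, h6⟩ := key s (by rwa [← hu])
  refine ⟨n, h4.trans h5, ?_⟩
  rwa [show charDegree (χ : G → ℂ) = Multiset.card s from
    Nat.cast_injective (R := ℂ) (χ.2.isCharacter.cast_charDegree.trans h1.symm)]

end Cfsg.Agent.S0944
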