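import Cfsg.Statements.S0946
import Cfsg.Agent.Lib.Block.Syl2

set_option autoImplicit false
open Cfsg

namespace Cfsg.Agent.S0946

open Cfsg.Agent.Blk
open Cfsg.Agent.Char hiding cj cj_mul cj_inv_cj cj_cj_inv

/-- Let P be a Sylow 2-subgroup of the finite group G isomorphic to Z/2^m × Z/2^m with m ≥ 1. Then either P has a normal complement in G, or all involutions of G are conjugate. -/
theorem result {G : Type*} [Group G] [Finite G] (P : Sylow 2 G) (m : ℕ) (hm : 1 ≤ m) (e : (P : Subgroup G) ≃* Multiplicative (ZMod (2 ^ m) × ZMod (2 ^ m))) : (∃ N : Subgroup G, N.Normal ∧ Subgroup.IsComplement' N (P : Subgroup G)) ∨ ∀ s t : G, orderOf s = 2 → orderOf t = 2 → IsConj s t := by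
  obtain ⟨h, hV⟩ := hom2_data hm e
  by_cases h1 : Subgroup.normalizer (P.1 : Set G) ≤ Subgroup.centralizer (P.1 : Set G)
  · exact Or.inl ((Transfer.hasNPC_iff_sylow P).1 (Transfer.hasNPC_of_normalizer_le_centralizer P h1))
  obtain ⟨n, hn, h2⟩ := SetLike.not_le_iff_exists.1 h1
  refine Or.inr fun s t hs ht => ?_
  obtain ⟨x, hx, h3, h4⟩ := Transfer.exists_conj_invol_mem_sylow P hs
  obtain ⟨y, hy, h5, h6⟩ := Transfer.exists_conj_invol_mem_sylow P ht
  obtain ⟨c, -, h7⟩ := hom2_trans P hV hn h2 hx h3 hy h5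
  exact h4.symm.trans ((isConj_iff.2 ⟨c, h7⟩).trans h6)

end Cfsg.Agent.S0946
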