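import Cfsg.Statements.S0947
import Cfsg.Agent.Lib.Block.Cover

set_option autoImplicit false
open Cfsg

namespace Cfsg.Agent.S0947

open Cfsg.Agent.Blk Cfsg.Agent.Char
open scoped ComplexConjugate

/-- Let z ≠ 1 be a p-element of the finite group G with centralizer H, and fix a maximal ideal M of the algebraic integers containing p. (i) For every y ∈ H of order prime to p, the sum over ζ in the principal block of G of |ζ (z * y)|² equals the sum over χ in the principal block of H of |χ y|². (ii) If moreover H has a normal p-complement (its largest normal subgroup of order prime to p has p-power index), that common value is the largest power of p dividing the order of H. -/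
theorem result {G : Type*} [Group G] [Finite G] (p : ℕ) [Fact p.Prime] (M : Ideal Cfsg.AlgInt) (hM : Cfsg.IsPModular p M) (z : G) (hz : ∃ k : ℕ, orderOf z = p ^ k) (hz1 : z ≠ 1) (y : Subgroup.centralizer ({z} : Set G)) (hy : ¬ p ∣ orderOf y) : (∑ᶠ ζ ∈ Cfsg.principalBlock M G, ‖(ζ : G → ℂ) (z * (y : G))‖ ^ 2 = ∑ᶠ χ ∈ Cfsg.principalBlock M (Subgroup.centralizer ({z} : Set G)), ‖(χ : Subgroup.centralizer ({z} : Set G) → ℂ) y‖ ^ 2) ∧ ((∃ k : ℕ, (Cfsg.pPrimeCore p (Subgroup.centralizer ({z} : Set G))).index = p ^ k) → ∑ᶠ ζ ∈ Cfsg.principalBlock M G, ‖(ζ : G → ℂ) (z * (y : G))‖ ^ 2 = ((p ^ (Nat.card (Subgroup.centralizer ({z} : Set G))).factorization p : ℕ) : ℝ)) := by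
  haveI : PMod M p := ⟨hM⟩
  classical
  set z' : Ce1 z := ⟨z, mem_Ce1.2 rfl⟩
  have hp : IsPPart p ((z' * y : Ce1 z) : G) z :=
    isPPart_mul (mem_Ce1.1 y.2).symm hz (by rwa [Subgroup.orderOf_coe])
  have h1 := sum_mul_conj_eq_locSet (isPBlock_principal (M := M)).isUB hp hp
  simp only [locSet_Ce1_principal hz, Complex.mul_conj, Complex.normSq_eq_norm_sq] at h1
  have h2 : ∑ᶠ ζ ∈ principalBlock M G, ‖(ζ : G → ℂ) (z * (y : G))‖ ^ 2 =
      ∑ᶠ χ ∈ principalBlock M (Ce1 z), ‖(χ : Ce1 z → ℂ) y‖ ^ 2 := by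
    rw [finsum_mem_irr, finsum_mem_irr]
    apply Complex.ofReal_injective
    push_cast [apply_ite Complex.ofReal] at h1 ⊢
    convert h1 using 3 with ξ
    obtain ⟨ω, h3, h4⟩ := exists_root_mul ξ.2 (mem_center_Ce1 z)
    rw [h4, norm_mul, norm_eq_one_of_pow (orderOf_pos _).ne' h3, one_mul]
  refine ⟨h2, fun ⟨k, hk⟩ => ?_⟩
  have hy' := mem_of_preg_of_index hk hy
  have h3 := sum_degree_mul_conj_ker (pPrimeCore p (Ce1 z)) hy'
  have h4 : (Nat.card (Ce1 z)).factorization p = k := by
    rw [← factorization_index_add p (pPrimeCore p (Ce1 z)), hk, factorization_pow_self,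
      Nat.factorization_eq_zero_of_not_dvd Solv.not_dvd_card_pPrimeCore, add_zero]
  rw [h2, finsum_mem_irr, h4, ← hk]
  apply Complex.ofReal_injective
  push_cast [apply_ite Complex.ofReal]
  rw [← h3]
  refine Finset.sum_congr rfl fun ξ _ => ?_
  rw [mem_principal_iff_of_npc Solv.not_dvd_card_pPrimeCore hk]
  split_ifs with h
  · rw [← ξ.2.isCharacter.mem_charKer.1 (h hy'), Complex.mul_conj, Complex.normSq_eq_norm_sq]
    simp
  · rfl

end Cfsg.Agent.S0947
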