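import Cfsg.Statements.S0949
import Cfsg.Agent.Lib.Block.Homo
import Cfsg.Agent.Lib.Transfer.Col

set_option autoImplicit false
open Cfsg

namespace Cfsg.Agent.S0949

open Cfsg.Agent.Blk
open Cfsg.Agent.Char hiding cj cj_mul cj_inv_cj cj_cj_inv
open scoped ComplexConjugate

/-- Let the finite group G have a Sylow 2-subgroup P isomorphic to Z/2^m × Z/2^m with m ≥ 2, and suppose G has no nontrivial normal subgroup of odd order. Then P is normal in G, C_G(P) = P, and the index of P is 1 or 3. -/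
theorem result {G : Type*} [Group G] [Finite G] (P : Sylow 2 G) (m : ℕ) (hm : 2 ≤ m) (e : (P : Subgroup G) ≃* Multiplicative (ZMod (2 ^ m) × ZMod (2 ^ m))) (hO : ∀ N : Subgroup G, N.Normal → Odd (Nat.card N) → N = ⊥) : (P : Subgroup G).Normal ∧ Subgroup.centralizer (P : Set G) = (P : Subgroup G) ∧ ((P : Subgroup G).index = 1 ∨ (P : Subgroup G).index = 3) := by
  classical
  haveI : Fact (Nat.Prime 2) := ⟨Nat.prime_two⟩
  obtain ⟨M, hM⟩ := exists_pmod 2
  have := Fintype.ofFinite (P : Subgroup G)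
  have hS := isSyl_sylow P
  have hc : (P : Subgroup G) ≤ Ce P := fun x hx => mem_Ce.2 fun y hy =>
    congrArg Subtype.val (homo_comm e ⟨y, hy⟩ ⟨x, hx⟩)
  have key : ∀ K : Subgroup G, K.Normal → (P : Subgroup G) ≤ K → K ⊓ No P ≤ Ce P → K = P :=
    fun K hK h1 h2 => by
      have h3 := Transfer.IsSyl.hasNPC_of_le_centralizer
        ⟨h1, hS.pg, (hS.of_le h1 le_top).not_dvd_relIndex⟩ h2
      have h4 := hO ((pPrimeCore 2 K).map K.subtype) inferInstance (by
        rw [Subgroup.card_subtype]; exact Nat.coprime_two_right.1 (Solv.coprime_card_pPrimeCore 2))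
      rw [Subgroup.map_eq_bot_iff_of_injective _ K.subtype_injective] at h4
      obtain ⟨k, hk⟩ := Transfer.hasNPC_iff_index.1 h3
      rw [h4, Subgroup.index_bot] at hk
      exact hS.max K le_top (IsPGroup.of_card hk) h1
  obtain ⟨hf, hE⟩ := (mp_principal (M := M) hS).fa_of_omega_four hc (homo_omega (by omega) e)
  have hE' := card_autE_principal (M := M) (P := (P : Subgroup G))
  rcases hE with hE | hE
  · rw [hE, eq_comm, Subgroup.relIndex_eq_one] at hE'
    have h1 := key ⊤ inferInstance le_top (by simpa using hE')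
    exact ⟨h1 ▸ inferInstance, le_antisymm (le_top.trans h1.le) hc,
      Or.inl (by rw [← h1, Subgroup.index_top])⟩
  have hd := hf.exd_principal
  obtain ⟨δ, d, ζ, a, hx⟩ := hd.exists_exc ⟨_, irrOne_mem_principal⟩
  obtain ⟨u, hu2⟩ := homo_exists hm e
  have hu : u ≠ 1 := fun h => hu2 (by rw [h, mul_one])
  obtain ⟨n, ht1, ht⟩ := exists_invol_zpowers hS.pg hu
  set t := u ^ n
  have h16 : 16 ∣ Nat.card (P : Subgroup G) := by
    rw [homo_card e]; exact pow_dvd_pow 4 hm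
  have h1 := hx.card_exc hd
  rw [hE] at h1
  have h2 : 5 ≤ (excSet ζ).card := by have := Nat.le_of_dvd Nat.card_pos h16; omega
  obtain ⟨l, hl⟩ := exists_lc_ne_one hd.comm hu
  have h3 : irrOne G ∈ fs (principalBlock M G) \ excSet ζ := Finset.mem_sdiff.2
    ⟨mem_fs.2 irrOne_mem_principal, hx.notMem_of_const (by omega) (c := 1) fun _ _ => rfl⟩
  have h4 := hx.norm_eq hd hl
  have h5 := hx.card_le_sum hd hu
  have h6 := Finset.card_pos.2 ⟨_, h3⟩
  obtain rfl : d = 0 := by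
    by_contra h
    have : 1 ≤ d ^ 2 := (one_le_sq_iff_one_le_abs _).2 (Int.one_le_abs h)
    have h7 : (5 : ℤ) ≤ (excSet ζ).card := by exact_mod_cast h2
    rw [hE] at h4
    push_cast at h4
    nlinarith [sq_nonneg (d - δ)]
  have hδ : δ ^ 2 = 1 := by rcases hx.sign with h | h <;> simp [h]
  have hX : ∀ χ ∈ fs (principalBlock M G) \ excSet ζ, χ ∈ principalBlock M G ∧ χ ∉ excSet ζ :=
    fun χ hχ => by rwa [Finset.mem_sdiff, mem_fs] at hχ
  have h7 : ∑ χ ∈ fs (principalBlock M G) \ excSet ζ, a χ ^ 2 = 3 := by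
    rw [hE] at h4; push_cast at h4; linarith
  have ha : ∀ χ ∈ fs (principalBlock M G) \ excSet ζ, a χ = 1 ∨ a χ = -1 := fun χ hχ =>
    sq_eq_one_of_sum_le (fun χ hχ => hx.a_ne hd hu (hX χ hχ).1 (hX χ hχ).2) (by omega) hχ
  have ha2 : ∀ χ ∈ fs (principalBlock M G) \ excSet ζ, a χ ^ 2 = 1 := fun χ hχ => by
    rcases ha χ hχ with h | h <;> simp [h]
  rw [Finset.sum_congr rfl ha2, Finset.sum_const, nsmul_one] at h7
  have hv : ∀ χ ∈ fs (principalBlock M G) \ excSet ζ, ∀ v ∈ (P : Subgroup G), v ≠ 1 →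
      χ.1 v = a χ := fun χ hχ v hv h =>
    hx.nexc χ (hX χ hχ).1 (notMem_excSet.1 (hX χ hχ).2) ⟨v, hv⟩ fun h' => h (congrArg Subtype.val h')
  have h8 : ∀ χ ∈ fs (principalBlock M G) \ excSet ζ, (16 : ℤ) ∣ a χ * charDegree χ.1 - 1 :=
    fun χ hχ => by
      obtain ⟨n, hn⟩ := exists_degree_eq_of_vanish (χ.2.isCharacter.isGen.sub
        (isCharacter_one.isGen.zsmul (a χ))) P fun x hx hx1 => by simp [hv χ hχ x hx hx1]
      simp only [Pi.sub_apply, Pi.smul_apply, ← cast_deg, zsmul_one] at hn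
      have h : (charDegree χ.1 : ℤ) - a χ = Nat.card (P : Subgroup G) * n := by exact_mod_cast hn
      rw [← ha2 χ hχ, sq, ← mul_sub, h]
      exact ((Int.natCast_dvd_natCast.2 h16).mul_right _).mul_left _
  obtain ⟨χ₂, χ₃, h9, h10⟩ := Finset.card_eq_two.1 (show ((fs (principalBlock M G) \ excSet ζ).erase
    (irrOne G)).card = 2 by rw [Finset.card_erase_of_mem h3]; omega)
  have m2 := Finset.mem_erase.1 (h10 ▸ (by simp : χ₂ ∈ ({χ₂, χ₃} : Finset _)))
  have m3 := Finset.mem_erase.1 (h10 ▸ (by simp : χ₃ ∈ ({χ₂, χ₃} : Finset _)))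
  have hu1 : (u : G) ≠ 1 := fun h => hu (Subtype.ext h)
  have ht1' : (t : G) ≠ 1 := fun h => ht1 (Subtype.ext h)
  have a1 : (a (irrOne G) : ℂ) = 1 := (hv _ h3 u u.2 hu1).symm
  have h11 := congrFun (hx.reg_rel hd hl) 1
  rw [← Finset.add_sum_erase _ _ h3, h10, Finset.sum_pair h9] at h11
  simp only [Pi.add_apply, Pi.smul_apply, reg_of_preg (p := 2) preg_one, smul_eq_mul, a1,
    Pi.zero_apply, show (irrOne G).1 1 = 1 from rfl] at h11
  have h12 := Transfer.b0_invol (M := M) (t := (t : G)) (x := (u : G)) (congrArg Subtype.val ht)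
    (fun g hg => ?_) (isPPart_self (hf.pelt u.2))
  swap
  · set s := g * t * g⁻¹
    have hs : IsPGroup 2 (Subgroup.zpowers s) := isPGroup_zpowers (pelt_conj (hf.pelt t.2) g)
    obtain ⟨x, -, hx⟩ := hS.exists_cs_le (isPGroup_sup hs (isPGroup_zpowers (hf.pelt u.2))
      (Subgroup.zpowers_le.2 (mem_No_of_forall fun v hv => by
        obtain ⟨k, rfl⟩ := Subgroup.mem_zpowers_iff.1 hv
        rw [← conj_zpow, hg]
        exact Subgroup.zpow_mem _ (Subgroup.inv_mem _ (Subgroup.mem_zpowers _)) _))) le_top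
    have h := mem_Ce.1 (hc (hx (conj_mem_cs.2 (Subgroup.mem_sup_left (Subgroup.mem_zpowers s))))) _
      (hx (conj_mem_cs.2 (Subgroup.mem_sup_right (Subgroup.mem_zpowers (u : G)))))
    have h' : s * u = u * s := by
      have := h.symm
      simp only [mul_assoc, inv_mul_cancel_left, mul_right_inj] at this
      simpa [← mul_assoc] using this
    rw [h', mul_inv_cancel_right, ← mul_eq_one_iff_eq_inv] at hg
    exact hu2 (Subtype.ext hg)
  rw [show Transfer.b0 M G = fs (principalBlock M G) by ext; rw [Transfer.mem_b0, mem_fs],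
    ← Finset.sum_sdiff hx.subset, ← Finset.add_sum_erase _ _ h3, h10, Finset.sum_pair h9,
    hv _ h3 _ t.2 ht1', hv _ h3 _ u.2 hu1, hv _ m2.2 _ t.2 ht1', hv _ m2.2 _ u.2 hu1,
    hv _ m3.2 _ t.2 ht1', hv _ m3.2 _ u.2 hu1] at h12
  have h13 := hx.sum_exc hd fun χ => χ.1 t ^ 2 / χ.1 1 * conj (χ.1 u)
  rw [Finset.sum_congr (s₁ := Finset.univ.erase 1) rfl fun l' hl' => show _ = δ / (ζ l).1 1 *
    (eta (autE (P : Subgroup G) (e0 M (P : Subgroup G))) l' t ^ 2 *
      conj (eta (autE (P : Subgroup G) (e0 M (P : Subgroup G))) l' u)) by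
      have hl' := (Finset.mem_erase.1 hl').1
      have h := congrFun (hx.reg_eq hd hl' hl) 1
      rw [reg_of_preg preg_one, reg_of_preg preg_one] at h
      have h' : (δ : ℂ) ^ 2 = 1 := by exact_mod_cast hδ
      rw [hx.exc l' hl' t ht1, hx.exc l' hl' u hu, h]
      simp only [Int.cast_zero, zero_add, map_mul, map_intCast, mul_pow, h']
      ring, ← Finset.mul_sum, hd.free.sum_eta_sq_mul hd.comm ht hu2, hE, nsmul_eq_mul] at h13
  have b2 : (a χ₂ : ℂ) ^ 2 = 1 := by exact_mod_cast ha2 _ m2.2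
  have b3 : (a χ₃ : ℂ) ^ 2 = 1 := by exact_mod_cast ha2 _ m3.2
  have hδ' : (δ : ℂ) ^ 2 = 1 := by exact_mod_cast hδ
  have z0 := (ζ l).2.apply_one_ne_zero
  have z2 := χ₂.2.apply_one_ne_zero
  have z3 := χ₃.2.apply_one_ne_zero
  simp only [map_intCast, a1, b2, b3, show (irrOne G).1 1 = 1 from rfl, map_one] at h12
  obtain ⟨h14, -⟩ := homo_cubic (h8 _ m2.2) (h8 _ m3.2) (by
    have h : (a χ₂ * χ₂.1 1 * (a χ₃ * χ₃.1 1) + a χ₂ * χ₂.1 1 + a χ₃ * χ₃.1 1) *
        (1 + a χ₂ * χ₂.1 1 + a χ₃ * χ₃.1 1) = 9 * (a χ₂ * χ₂.1 1 * (a χ₃ * χ₃.1 1)) := by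
      have e1 : 1 + a χ₂ * χ₂.1 1 + a χ₃ * χ₃.1 1 = δ * (ζ l).1 1 := by
        linear_combination h11
      have e2 : 1 + a χ₂ / χ₂.1 1 + a χ₃ / χ₃.1 1 = 9 * δ / (ζ l).1 1 := by
        push_cast at h13
        linear_combination h12 - h13 / 3
      field_simp at e2
      rw [e1]
      linear_combination δ * a χ₂ * a χ₃ * e2 + 9 * a χ₂ * a χ₃ * χ₂.1 1 * χ₃.1 1 * hδ' -
        δ * (ζ l).1 1 * a χ₃ * χ₃.1 1 * b2 - δ * (ζ l).1 1 * a χ₂ * χ₂.1 1 * b3
    rw [← cast_deg, ← cast_deg] at h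
    exact_mod_cast h)
  have h15 : a χ₂ = 1 := (ha _ m2.2).resolve_right fun h => by rw [h] at h14; omega
  have h16 : χ₂.1 1 = 1 := by
    rw [h15, one_mul] at h14; rw [← cast_deg]; exact_mod_cast h14
  have h17 : (P : Subgroup G) ≤ charKer χ₂.1 := fun v hv' => χ₂.2.isCharacter.mem_charKer.2 (by
    by_cases h : v = 1
    · rw [h]
    · rw [hv _ m2.2 v hv' h, h15, h16, Int.cast_one])
  have h18 : Ce (P : Subgroup G) ≤ charKer χ₂.1 := fun g hg => by
    obtain ⟨x, hx⟩ := exists_isPPart 2 g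
    have hxP : x ∈ (P : Subgroup G) := by
      rw [← hS.max _ le_top (isPGroup_sup hx.isPGroup hS.pg
        (zpowers_le' (Ce_le_No _ (hx.mem hg)))) le_sup_right]
      exact Subgroup.mem_sup_left (Subgroup.mem_zpowers x)
    have h := isPPart_mul (x := (u : G)) (y := x⁻¹ * g) (mem_Ce.1 ((Ce _).mul_mem ((Ce _).inv_mem (hc hxP)) hg) _ u.2)
      (hf.pelt u.2) hx.preg
    have h' := hf.apply_principal h u.2 hu1 (hX _ m2.2).1
    rw [hv _ m2.2 _ u.2 hu1, h15, Int.cast_one, ← h16, ← χ₂.2.isCharacter.mem_charKer,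
      Subgroup.mul_mem_cancel_left _ (h17 u.2),
      Subgroup.mul_mem_cancel_left _ (Subgroup.inv_mem _ (h17 hxP))] at h'
    exact h'
  haveI := χ₂.2.isCharacter.normal_charKer
  have h19 := Subgroup.relIndex_mul_relIndex _ _ _ (le_inf h18 (Ce_le_No _))
    (inf_le_right : charKer χ₂.1 ⊓ No (P : Subgroup G) ≤ _)
  rw [← hE', hE] at h19
  have h20 := key _ inferInstance h17 (Subgroup.relIndex_eq_one.1 (by
    refine ((Nat.dvd_prime Nat.prime_three).1 ⟨_, h19.symm⟩).resolve_right fun h => m2.1 ?_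
    rw [h, Nat.mul_eq_left (by norm_num), Subgroup.relIndex_eq_one] at h19
    have h21 : No (P : Subgroup G) ⊔ _ = ⊤ := Sylow.normalizer_sup_eq_top' P h17
    rw [sup_eq_right.2 (h19.trans inf_le_left)] at h21
    exact Subtype.ext (funext fun g => (χ₂.2.isCharacter.mem_charKer.1
      (h21 ▸ Subgroup.mem_top g)).trans h16)))
  have h21 : (P : Subgroup G).Normal := h20 ▸ inferInstance
  have h22 : Ce (P : Subgroup G) = P := le_antisymm (h18.trans h20.le) hc
  refine ⟨h21, h22, Or.inr ?_⟩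
  rw [← hE, hE', h22, top_le_iff.1 (top_le_No (P : Subgroup G)), Subgroup.relIndex_top_right]

end Cfsg.Agent.S0949
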