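import Cfsg.Statements.S0950
import Cfsg.Agent.Lib.Block.Syl2

set_option autoImplicit false
open Cfsg

namespace Cfsg.Agent.S0950

open Cfsg.Agent.Blk
open Cfsg.Agent.Char hiding cj cj_mul cj_inv_cj cj_cj_inv

/-- Let S be a Sylow 2-subgroup of the finite group G that is isomorphic to the quaternion group of order 8, and suppose S has no normal complement in G. Then any two subgroups of order 4 of S are conjugate by an element of the normalizer of S. -/
theorem result {G : Type*} [Group G] [Finite G] (S : Sylow 2 G) (e : (S : Subgroup G) ≃* QuaternionGroup 2) (hnc : ∀ N : Subgroup G, N.Normal → ¬ Subgroup.IsComplement' N (S : Subgroup G)) (A B : Subgroup G) (hA : A ≤ S) (hB : B ≤ S) (hA4 : Nat.card A = 4) (hB4 : Nat.card B = 4) : ∃ n ∈ Subgroup.normalizer ((S : Subgroup G) : Set G), B = A.map (MulAut.conj n).toMonoidHom := by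
  have h : Transfer.IsQ8 S.1 := ⟨e⟩
  obtain ⟨g, h1, h2, h3⟩ := q8_ess S h fun h1 => by
    obtain ⟨N, h2, h3⟩ := (Transfer.hasNPC_iff_sylow S).1 h1
    exact hnc N h2 h3
  have h4 : ∀ A : Subgroup G, A ≤ S → Nat.card A = 4 → ∃ x ∈ S.1, x * x ≠ 1 ∧ A = Subgroup.zpowers x :=
    fun A hA h4 => (q8_lt h (hA.lt_of_ne fun h5 => by
      have := h.card
      rw [← h5, h4] at this
      omega)).resolve_right fun ⟨t, h5, h6⟩ => by
        have := Subgroup.card_le_of_le h6
        rw [h4, Nat.card_zpowers, h5] at this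
        omega
  obtain ⟨x, hx, h5, rfl⟩ := h4 A hA hA4
  obtain ⟨y, hy, h6, rfl⟩ := h4 B hB hB4
  obtain ⟨c, h7, rfl⟩ := h.trans h2 h1 h3 hx h5 hy h6
  exact ⟨c, sup_le Subgroup.le_normalizer (Subgroup.zpowers_le.2 h1) h7, by
    rw [MonoidHom.map_zpowers]; rfl⟩

end Cfsg.Agent.S0950
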