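import Cfsg.Statements.S0951
import Cfsg.Agent.Lib.Transfer.ZStar

set_option autoImplicit false
open Cfsg

namespace Cfsg.Agent.S0951

set_option linter.unusedSectionVars false
set_option linter.unusedVariables false
set_option linter.style.haveILetI false
set_option linter.unusedSimpArgs false

open Subgroup Cfsg.Agent.Transfer Cfsg.Agent.Blk

/-- Let S be a Sylow 2-subgroup of the finite group G isomorphic to the quaternion group of order 8. Suppose G has no nontrivial normal subgroup of odd order and G ≠ S. Then, relative to any maximal ideal M of the algebraic integers containing 2, the principal block of G consists of exactly 7 irreducible characters. -/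
theorem result {G : Type*} [Group G] [Finite G] (M : Ideal Cfsg.AlgInt) (hM : Cfsg.IsPModular 2 M) (S : Sylow 2 G) (e : (S : Subgroup G) ≃* QuaternionGroup 2) (hO : ∀ N : Subgroup G, N.Normal → Odd (Nat.card N) → N = ⊥) (hG : (S : Subgroup G) ≠ ⊤) : Nat.card (Cfsg.principalBlock M G) = 7 := by
  haveI : PMod M 2 := ⟨hM⟩
  obtain ⟨a, b, h, hq⟩ := invData_of_quaternion (isSyl_top S) (n := 1) le_rfl e
  rw [card_b0]
  refine (h.q8Data hq rfl fun K hK h1 h2 => ?_).exists_ker_and_card.2
  have h3 := isSyl_inf_normal S K
  have h4 : Nat.card ((S : Subgroup G) ⊓ K : Subgroup G) = 4 := by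
    have h5 := card_inf_mul_relIndex K (S : Subgroup G)
    have h6 : K.relIndex (S : Subgroup G) = 2 := by
      have h7 := relIndex_sup_left (S : Subgroup G) K
      rw [(isSyl_top S).sup_eq_of_relIndex le_top (n := 1) (by rw [relIndex_top_right, h1]; rfl),
        relIndex_top_right, h1] at h7
      exact h7.symm
    rw [h6, h.card, inf_comm] at h5
    omega
  have h5 : IsCyclic ((S : Subgroup G) ⊓ K : Subgroup G) := by
    by_contra h6
    have h7 : Monoid.exponent ((S : Subgroup G) ⊓ K : Subgroup G) = 2 :=
      (not_isCyclic_iff_exponent_eq_prime Nat.prime_two h4).1 h6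
    have h8 : ((S : Subgroup G) ⊓ K : Subgroup G) ≤ zpowers (a ^ 2 ^ 1) := fun x hx => by
      by_cases h9 : x = 1
      · exact h9 ▸ one_mem _
      · have := congrArg Subtype.val (Monoid.pow_exponent_eq_one (⟨x, hx⟩ : ((S : Subgroup G) ⊓ K : Subgroup G)))
        rw [h7, sq] at this
        exact h.invol_eq hq hx.1 (orderOf_eq_two this h9) ▸ mem_zpowers _
    have := card_le_of_le h8
    rw [h4, Nat.card_zpowers, h.ord_t] at this
    omega
  have h6 := hasNPC_sub_iff.1 (h3.hasNPC_two_of_isCyclic h5)
  have h7 := hO (res 2 K) (normalizer_eq_top_iff.1 (top_le_iff.1 (by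
    refine le_trans ?_ (normalizer_le_normalizer_res K)
    rw [normalizer_eq_top]))) (Nat.odd_iff.2 (by omega))
  have h8 := h3.res_sup
  rw [h7, bot_sup_eq, inf_eq_right] at h8
  have h9 := (isSyl_top S).sup_eq_of_relIndex le_top (K := K) (n := 1)
    (by rw [relIndex_top_right, h1]; rfl)
  exact hG (by rwa [sup_eq_right.2 h8] at h9)

end Cfsg.Agent.S0951
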