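import Cfsg.Statements.S0955
import Cfsg.Agent.Lib.Block.Induct
import Cfsg.Agent.Lib.Solv.Cores

set_option autoImplicit false
open Cfsg

namespace Cfsg.Agent.S0955

open Cfsg.Agent.Blk

/-- Let D be a defect group of a block of the finite group G relative to a maximal ideal M of the algebraic integers containing the prime p. Then D is the largest normal p-subgroup of its own normalizer: O_p(N_G(D)) = D. -/
theorem result {G : Type*} [Group G] [Finite G] (p : ℕ) [Fact p.Prime] (M : Ideal Cfsg.AlgInt) (hM : Cfsg.IsPModular p M) (B : Set (Cfsg.IrrCharacter G)) (hB : Cfsg.IsPBlock M B) (D : Subgroup G) (hD : Cfsg.IsDefectGroup p M B D) : (Cfsg.pCore p (Subgroup.normalizer (D : Set G))).map (Subgroup.normalizer (D : Set G)).subtype = D := by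
  haveI : PMod M p := ⟨hM⟩
  rw [hB.isDefectGroup_iff] at hD
  refine le_antisymm ?_ (Solv.le_map_subtype_pCore hD.pg (le_No D) le_rfl)
  refine (hB.isBlock.isBlock_Br hD).le_of_isDef (hB.isBlock.isDef_Br hD)
    (Solv.isPGroup_map_subtype_pCore _) (le_inf le_top (Subgroup.map_subtype_le _)) ?_
  exact inf_le_right.trans ((le_No _).trans (Solv.normalizer_le_normalizer_map_pCore _))

end Cfsg.Agent.S0955
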