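import Cfsg.Statements.S0957
import Cfsg.Agent.Lib.Block.Rob
import Cfsg.Agent.Lib.Char.Galois

set_option autoImplicit false
open Cfsg

namespace Cfsg.Agent.S0957

open Cfsg.Agent.Blk
open Cfsg.Agent.Char hiding cj cj_mul cj_inv_cj cj_cj_inv

/-- Let P be a Sylow p-subgroup of the finite group G, let g, h ∈ G and let p ^ d be the order of a Sylow p-subgroup of the centralizer of g. Then the number of pairs (y, z) with y conjugate to g, z conjugate to h and z * y⁻¹ ∈ P is divisible by the order of P divided by p ^ d. -/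
theorem result {G : Type*} [Group G] [Finite G] (p : ℕ) [Fact p.Prime] (P : Sylow p G) (g h : G) (S : Sylow p (Subgroup.centralizer ({g} : Set G))) : Nat.card P / Nat.card S ∣ Nat.card {yz : G × G // IsConj g yz.1 ∧ IsConj h yz.2 ∧ yz.2 * yz.1⁻¹ ∈ (P : Subgroup G)} := by
  have := Fintype.ofFinite G
  obtain ⟨M, hM⟩ := exists_pmod p
  have hp := (Fact.out : p.Prime)
  change _ ∣ pairCount P g h
  rcases eq_or_ne (pairCount P g h) 0 with h0 | h0
  · simp [h0]
  have h1 := robinson (P : Subgroup G) g h
  have hi : (Ce1 g).index ≠ 0 := Subgroup.index_ne_zero_of_finite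
  have hP : (P : Subgroup G).index ≠ 0 := Subgroup.index_ne_zero_of_finite
  have h2 : (((P : Subgroup G).index * pairCount P g h : ℕ) : ℂ) / (Ce1 g).index ∈ O M := by
    rw [Nat.cast_mul, h1, mul_div_cancel_left₀ _ (Nat.cast_ne_zero.2 hi)]
    exact sum_mem fun χ _ => mul_mem (mul_mem (natCast_mem _ _) (centralChar_mem_O χ.2 h))
      (conj_irr_mem_O M χ g)
  rw [natDiv_mem_O_iff (mul_ne_zero hP h0) hi, Nat.factorization_mul hP h0, Finsupp.add_apply,
    Nat.factorization_eq_zero_of_not_dvd P.not_dvd_index, zero_add] at h2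
  have h3 := factorization_index_add p (Ce1 g)
  simp only [Ce1] at h2 h3
  rw [P.card_eq_multiplicity, S.card_eq_multiplicity, Nat.pow_div (by omega) hp.pos]
  exact (pow_dvd_pow p (by omega)).trans ((hp.pow_dvd_iff_le_factorization h0).2 h2)

end Cfsg.Agent.S0957
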