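import Cfsg.Statements.S0958
import Cfsg.Agent.Lib.Block.Induct

set_option autoImplicit false
open Cfsg

namespace Cfsg.Agent.S0958

open Cfsg.Agent.Blk

/-- Let P be a p-subgroup of the finite group G and H a subgroup with P ⊔ C_G(P) ≤ H ≤ N_G(P); fix a maximal ideal M of the algebraic integers containing p. Then a block B of G is induced by some block of H if and only if some conjugate of P is contained in a defect group of B. -/
theorem result {G : Type*} [Group G] [Finite G] (p : ℕ) [Fact p.Prime] (M : Ideal Cfsg.AlgInt) (hM : Cfsg.IsPModular p M) (P H : Subgroup G) (hP : IsPGroup p P) (hPH : P ⊔ Subgroup.centralizer (P : Set G) ≤ H) (hHN : H ≤ Subgroup.normalizer (P : Set G)) (B : Set (Cfsg.IrrCharacter G)) (hB : Cfsg.IsPBlock M B) : (∃ b : Set (Cfsg.IrrCharacter H), Cfsg.IsInducedBlock M H b B) ↔ ∃ D : Subgroup G, Cfsg.IsDefectGroup p M B D ∧ ∃ x : G, P.map (MulAut.conj x).toMonoidHom ≤ D := by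
  haveI : PMod M p := ⟨hM⟩
  have h1 : P ≤ H := le_sup_left.trans hPH
  have h2 : ⊤ ⊓ Ce P ≤ H := inf_le_right.trans (le_sup_right.trans hPH)
  constructor
  · rintro ⟨b, h⟩
    obtain ⟨hb, -, h⟩ := isInducedBlock_iff.1 h
    have h3 := Br_ne_zero_of_mul_eq hb.isBlockS.ne
      ((ind_iff_Br hP h1 h2 le_top hHN hb.isBlockS hB.isBlock).1 h)
    obtain ⟨D, hD, h4⟩ := hB.isBlock.exists_isDef_ge le_top hP h3
    exact ⟨D, hB.isDefectGroup_iff.2 hD, 1, by rwa [show P.map _ = P from cs_one P]⟩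
  · rintro ⟨D, hD, x, hx⟩
    rw [hB.isDefectGroup_iff] at hD
    have h3 := Br_cs_ne_zero (Br_ne_zero_of_le hx hD.ne) x⁻¹
    rw [cs_inv_cs, hB.isBlock.cj_eq trivial] at h3
    obtain ⟨e, he, h⟩ := exists_block_Br_mul hP h2 le_top hHN hB.isBlock.mem
      (inv_anti le_top hB.isBlock.inv) hB.isBlock.idem h3
    obtain ⟨b, hb, rfl⟩ := exists_isPBlock_barS_eq he
    exact ⟨b, isInducedBlock_iff.2 ⟨hb, hB, (ind_iff_Br hP h1 h2 le_top hHN he hB.isBlock).2 h⟩⟩

end Cfsg.Agent.S0958
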