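import Cfsg.Statements.S0959
import Cfsg.Agent.Lib.Block.Induct

set_option autoImplicit false
open Cfsg

namespace Cfsg.Agent.S0959

open Cfsg.Agent.Blk

/-- Let B be a block of the finite group G with defect group D (relative to a maximal ideal M of the algebraic integers containing the prime p), and let P be a p-subgroup. Then there is an element g whose idempotent coefficient for B is a local integer outside the local ideal at M and which has a conjugate centralizing P, if and only if some conjugate of P is contained in D. -/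
theorem result {G : Type*} [Group G] [Finite G] (p : ℕ) [Fact p.Prime] (M : Ideal Cfsg.AlgInt) (hM : Cfsg.IsPModular p M) (B : Set (Cfsg.IrrCharacter G)) (hB : Cfsg.IsPBlock M B) (D : Subgroup G) (hD : Cfsg.IsDefectGroup p M B D) (P : Subgroup G) (hP : IsPGroup p P) : (∃ g : G, Cfsg.MemLocalRing M (Cfsg.blockCoeff B g) ∧ ¬ Cfsg.MemLocalIdeal M (Cfsg.blockCoeff B g) ∧ ∃ c : G, IsConj g c ∧ c ∈ Subgroup.centralizer (P : Set G)) ↔ ∃ x : G, P.map (MulAut.conj x).toMonoidHom ≤ D := by
  haveI : PMod M p := ⟨hM⟩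
  rw [hB.isDefectGroup_iff] at hD
  constructor
  · rintro ⟨g, -, h1, c, h2, h3⟩
    obtain ⟨y, rfl⟩ := isConj_iff.1 h2
    obtain ⟨x, -, hx⟩ := hD.sub P le_top hP (Br_ne_zero_iff.2 ⟨_, h3, by
      rwa [hB.coeff_bar_ne_zero_iff, blockCoeff_conj]⟩)
    exact ⟨x, hx⟩
  · rintro ⟨x, hx⟩
    have h3 := Br_cs_ne_zero (Br_ne_zero_of_le hx hD.ne) x⁻¹
    rw [cs_inv_cs, hB.isBlock.cj_eq trivial] at h3
    obtain ⟨g, hg, h4⟩ := Br_ne_zero_iff.1 h3
    exact ⟨g, hB.blockCoeff_mem g, hB.coeff_bar_ne_zero_iff.1 h4, g, IsConj.refl g, hg⟩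

end Cfsg.Agent.S0959
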