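import Cfsg.Statements.S4441
import Cfsg.Agent.Lib.Block.Dade

set_option autoImplicit false
open Cfsg

namespace Cfsg.Agent.S4441

open Cfsg.Agent.Blk
open Cfsg.Agent.Char hiding cj cj_mul cj_inv_cj cj_cj_inv
open scoped Classical

/-- Let p be an odd prime and G a finite group whose Sylow p-subgroup P has order p; let C = C_G(P), N = N_G(P), e the index of C in N and t = (p − 1)/e; fix a maximal ideal M of the algebraic integers containing p and let B₀ be the principal block. Then B₀ is the disjoint union of a set X of e characters and a set Y of t characters such that: each χ ∈ X has a sign ε_χ with χ(1) ≡ ε_χ (mod p) and χ(x y) = ε_χ for every non-identity x ∈ P and every p-regular y ∈ C; all members of Y agree on the p-regular elements of G; there is one sign ε with θ(1) ≡ ε e (mod p) for every θ ∈ Y; and for every θ ∈ Y and every p-regular g, ε θ(g) = Σ_{χ ∈ X} ε_χ χ(g). -/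
theorem result {G : Type*} [Group G] [Fintype G] (p : ℕ) [Fact p.Prime] (M : Ideal Cfsg.AlgInt) (hM : Cfsg.IsPModular p M) (hodd : p ≠ 2) (P : Sylow p G) (hP : Nat.card P = p) (e : ℕ) (he : (Subgroup.centralizer ((P : Subgroup G) : Set G)).relIndex (Subgroup.normalizer ((P : Subgroup G) : Set G)) = e) : ∃ X Y : Set (Cfsg.IrrCharacter G), Cfsg.principalBlock M G = X ∪ Y ∧ Disjoint X Y ∧ Nat.card X = e ∧ Nat.card Y = (p - 1) / e ∧ ∃ (εX : Cfsg.IrrCharacter G → ℤ) (ε : ℤ), (∀ χ ∈ X, (εX χ = 1 ∨ εX χ = -1) ∧ (Cfsg.charDegree (χ : G → ℂ) : ℤ) ≡ εX χ [ZMOD p] ∧ ∀ x : G, x ∈ (P : Subgroup G) → x ≠ 1 → ∀ y : G, y ∈ Subgroup.centralizer ((P : Subgroup G) : Set G) → ¬ p ∣ orderOf y → (χ : G → ℂ) (x * y) = (εX χ : ℂ)) ∧ (ε = 1 ∨ ε = -1) ∧ (∀ θ ∈ Y, (Cfsg.charDegree (θ : G → ℂ) : ℤ) ≡ ε * (e : ℤ) [ZMOD p]) ∧ (∀ θ ∈ Y, ∀ θ' ∈ Y, ∀ g : G, ¬ p ∣ orderOf g → (θ : G → ℂ) g = (θ' : G → ℂ) g) ∧ ∀ θ ∈ Y, ∀ g : G, ¬ p ∣ orderOf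 g → (ε : ℂ) * (θ : G → ℂ) g = ∑ᶠ χ ∈ X, (εX χ : ℂ) * (χ : G → ℂ) g := by
  haveI : PMod M p := ⟨hM⟩
  have hc : IsCyclic P := isCyclic_of_prime_card hP
  have hs := isSyl_sylow P
  have hm := mp_principal (M := M) hs
  have hf := hm.fa_of_isCyclic hc
  have h1 : (P : Subgroup G) ≠ ⊥ := ne_bot_of_card le_rfl (hP.trans (pow_one p).symm)
  rw [← card_autE_principal (M := M)] at he
  subst he
  obtain ⟨δ, ζ, c, h, -⟩ := hf.exists_dd (ε := fun _ => 1) h1 (fun χ hχ u hu => by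
    rw [one_mul, hf.dn_principal u.2 (fun h => hu (Subtype.ext h)) hχ]) (fun _ _ => by simp)
    hf.exd_principal (hm.rank_eq hc h1) irrOne_mem_principal
  obtain ⟨u, hu⟩ := exists_ne_one_of_ne_bot h1
  have k1 : ∀ χ : IrrCharacter G, MemLocalIdeal M (χ.1 u - charDegree χ.1) := fun χ => by
    simpa [cast_deg] using LI_char_mul_sub (M := M) χ.2.isCharacter (hm.pelt u.2) (Commute.one_right _)
  refine ⟨_, _, h.union, DD.disjoint _ _, (card_coe_fs _).trans h.card,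
    by rw [card_coe_fs, h.card_exc, hP], c, δ, fun χ hχ => ?_, h.exc.sign, fun θ hθ => ?_,
    fun ψ h2 ψ' h3 g hg => h.apply_exc h2 h3 hg, fun θ h2 g hg => ?_⟩
  · rw [DD.mem_nexc] at hχ
    refine ⟨h.sgn χ hχ.1 hχ.2, Int.modEq_iff_dvd.2 (LI_intCast_iff (M := M).1 ?_),
      fun x hx hx1 y hy hyp => ?_⟩
    · have := k1 χ
      rw [h.D_nexc hχ.1 hχ.2 hu] at this
      exact_mod_cast this
    · rw [hf.apply_principal (isPPart_mul (hy x hx) (hm.pelt hx) hyp) hx hx1 hχ.1]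
      exact h.D_nexc (u := ⟨x, hx⟩) hχ.1 hχ.2 fun h => hx1 (congrArg Subtype.val h)
  · obtain ⟨l, hl, rfl⟩ := mem_excSet.1 hθ
    refine Int.modEq_iff_dvd.2 (LI_intCast_iff (M := M).1 ?_)
    have h2 := k1 (ζ l)
    rw [h.D_exc hl hu] at h2
    have h3 := LI_char_mul_sub (M := M) (isCharacter_eta (autE (P : Subgroup G) (e0 M P)) l) (x := u) (y := 1)
      (pelt_of_dvd (hm.pelt u.2) (Subgroup.orderOf_coe u).symm.dvd) (Commute.one_right u)
    rw [mul_one, h.free.eta_one h.exd.comm hl] at h3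
    convert LI_sub h2 (LI_mul_left (intCast_mem (O M) δ) h3) using 1
    push_cast; ring
  · rw [finsum_mem_coe_finset, h.apply_rel h2 hg]

end Cfsg.Agent.S4441
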