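import Cfsg.Statements.S0963
import Cfsg.Agent.Lib.Block.Cover

set_option autoImplicit false
open Cfsg

namespace Cfsg.Agent.S0963

open Cfsg.Agent.Blk Cfsg.Agent.Char

/-- Let N be a normal subgroup of the finite group G, χ an irreducible character of G and θ an irreducible character of N. Then θ occurs in the restriction of χ to N if and only if, for every n ∈ N, the central character of χ at n (class size in G times χ n over χ 1) equals the sum of θ m / θ 1 over the elements m of N conjugate in G to n. -/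
theorem result {G : Type*} [Group G] [Fintype G] (N : Subgroup G) [N.Normal] [Fintype N] (χ : Cfsg.IrrCharacter G) (θ : Cfsg.IrrCharacter N) : Cfsg.classInner (fun n : N => (χ : G → ℂ) n) (θ : N → ℂ) ≠ 0 ↔ ∀ n : N, Cfsg.centralChar (χ : G → ℂ) (n : G) = Cfsg.inducedCentralChar N (θ : N → ℂ) (n : G) := by
  simp only [inducedCentralChar_eq, ← om_cls χ.2.isClassFunction]
  refine ⟨fun h n => om_eq_om_rs h (cls_mem_Z trivial) (cls_mem_sup (top_le_No N) n.2),
    fun h h0 => ?_⟩
  have hz : tr (N : Set G) (fC {χ}) ∈ inv ℂ ⊤ := tr_mem_inv (fC_mem _).2 (top_le_No N)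
  have h1 := linear_ext_cls (φ := ((χ : G → ℂ) 1)⁻¹ • ch χ)
    (ψ := ((θ : N → ℂ) 1)⁻¹ • (ch θ ∘ₗ rs N)) hz fun g hg => by
      have := h ⟨g, mem_of_coeff_ne_zero (tr_mem_sup N _) hg⟩
      simpa [om, div_eq_inv_mul] using this
  have h2 : ch θ (rs N (fC {χ})) = 0 := by
    classical
    have h3 := ch_indFun N θ (fC_mem {χ})
    rw [← mul_one (fC {χ}), ch_fC_mul_eq (isClassFunction_indFun _ _), mul_one,
      Finset.sum_eq_zero] at h3
    · exact (mul_eq_zero.1 h3.symm).resolve_left (Nat.cast_ne_zero.2 N.index_ne_zero_of_finite)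
    · intro ψ _
      split_ifs with hψ
      · rw [hψ, frobenius_left _ _ χ.2.isClassFunction, classInner_eq_zero_comm.1 h0, zero_mul]
      · rfl
  simp only [LinearMap.smul_apply, LinearMap.comp_apply, rs_tr, h2, smul_eq_mul, mul_zero,
    mul_eq_zero, inv_eq_zero, χ.2.apply_one_ne_zero, false_or] at h1
  rw [← es_rs, ch_es, ch_eq_sum] at h1
  simp only [coeff_rs, coeff_fC, blockCoeff_singleton, mul_assoc, ← Finset.mul_sum, mul_eq_zero,
    inv_eq_zero, card_ne_zero', χ.2.apply_one_ne_zero, false_or] at h1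
  have h4 : classInner (fun n : N => (χ : G → ℂ) n) (fun n : N => (χ : G → ℂ) n) = 0 := by
    simp only [classInner, mul_comm ((χ : G → ℂ) _), h1, mul_zero]
  exact χ.2.apply_one_ne_zero (congrFun (classInner_self_eq_zero.1 h4) 1)

end Cfsg.Agent.S0963
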