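import Cfsg.Statements.S0965
import Cfsg.Agent.Lib.Block.Cover

set_option autoImplicit false
open Cfsg

namespace Cfsg.Agent.S0965

open Cfsg.Agent.Blk Cfsg.Agent.Char

/-- Let N be a normal subgroup of the finite group G and let B, b be blocks of G and of N relative to a maximal ideal M of the algebraic integers containing the prime p. Then some χ ∈ B has a constituent in b on restriction to N if and only if, for all χ ∈ B, θ ∈ b and n ∈ N, the central character of χ at n is congruent modulo the local ideal at M to the sum of θ m / θ 1 over the elements m ∈ N conjugate in G to n. -/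
theorem result {G : Type*} [Group G] [Fintype G] (p : ℕ) [Fact p.Prime] (M : Ideal Cfsg.AlgInt) (hM : Cfsg.IsPModular p M) (N : Subgroup G) [N.Normal] [Fintype N] (B : Set (Cfsg.IrrCharacter G)) (hB : Cfsg.IsPBlock M B) (b : Set (Cfsg.IrrCharacter N)) (hb : Cfsg.IsPBlock M b) : (∃ χ ∈ B, ∃ θ ∈ b, Cfsg.classInner (fun n : N => (χ : G → ℂ) n) (θ : N → ℂ) ≠ 0) ↔ ∀ χ ∈ B, ∀ θ ∈ b, ∀ n : N, Cfsg.MemLocalIdeal M (Cfsg.centralChar (χ : G → ℂ) (n : G) - Cfsg.inducedCentralChar N (θ : N → ℂ) (n : G)) := by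
  haveI : PMod M p := ⟨hM⟩
  rw [hB.isUB.cover_iff hb.isUB, hb.isBlockS.cover_iff_cls le_top (top_le_No N) hB.isBlock]
  have key : ∀ χ ∈ B, ∀ θ ∈ b, ∀ n : N, lam (bar M B) (cls (kk M) ⊤ (n : G)) =
      lam (barS M N b) (cls (kk M) ⊤ (n : G)) ↔ MemLocalIdeal M (centralChar (χ : G → ℂ) (n : G) -
      inducedCentralChar N (θ : N → ℂ) (n : G)) := fun χ hχ θ hθ n => by
    have h1 := hb.lam_tr hθ (z := cls (O M) ⊤ (n : G)) (inv_anti le_top (cls_mem_inv _ _))
    have h2 := om_rs_mem_O θ (z := cls (O M) ⊤ (n : G)) (inv_anti le_top (cls_mem_inv _ _))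
    rw [cf_cls] at h2
    rw [cf_cls, cf_cls, tr_of_mem_sup (cls_mem_sup (top_le_No N) n.2)] at h1
    rw [hB.lam_cls hχ, h1, rd_eq_iff (centralChar_mem_O χ.2 _) h2, inducedCentralChar_eq]
  obtain ⟨χ, hχ⟩ := hB.nonempty
  obtain ⟨θ, hθ⟩ := hb.nonempty
  exact ⟨fun h χ hχ θ hθ n => (key χ hχ θ hθ n).1 (h n n.2),
    fun h g hg => (key χ hχ θ hθ ⟨g, hg⟩).2 (h χ hχ θ hθ _)⟩

end Cfsg.Agent.S0965
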