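import Cfsg.Statements.S0967
import Cfsg.Agent.Lib.Block.Quot

set_option autoImplicit false
open Cfsg

namespace Cfsg.Agent.S0967

open Cfsg.Agent.Blk
open Cfsg.Agent.Char hiding cj cj_mul cj_inv_cj cj_cj_inv

/-- Let N be a normal subgroup of the finite group G of order prime to p and fix a maximal ideal M of the algebraic integers containing p. If χ is an irreducible character of G ⧸ N and ψ lies in the block of its inflation χ ∘ (quotient map), then ψ is itself inflated from an irreducible character ψ' of G ⧸ N lying in the block of χ. (Over a normal p'-subgroup, blocks of the quotient are whole blocks of G.) -/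
theorem result {G : Type*} [Group G] [Finite G] (p : ℕ) [Fact p.Prime] (M : Ideal Cfsg.AlgInt) (hM : Cfsg.IsPModular p M) (N : Subgroup G) [N.Normal] (hN : ¬ p ∣ Nat.card N) (χ : Cfsg.IrrCharacter (G ⧸ N)) (ψ : Cfsg.IrrCharacter G) (hψ : ψ ∈ Cfsg.blockOf M ((χ : G ⧸ N → ℂ) ∘ QuotientGroup.mk)) : ∃ ψ' : Cfsg.IrrCharacter (G ⧸ N), (ψ : G → ℂ) = (ψ' : G ⧸ N → ℂ) ∘ QuotientGroup.mk ∧ Cfsg.SameBlock M (χ : G ⧸ N → ℂ) (ψ' : G ⧸ N → ℂ) := by
  haveI : PMod M p := ⟨hM⟩
  have hφ := QuotientGroup.mk'_surjective N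
  have h1 : blk M ψ = blk M (infl hφ χ) := mem_blockOf.1 hψ
  have h2 : (QuotientGroup.mk' N).ker ≤ charKer (ψ : G → ℂ) := by
    have h3 := ker_le_charKer_infl hφ χ
    rw [QuotientGroup.ker_mk'] at h3 ⊢
    exact (isPBlock_blockOf (M := M) (infl hφ χ)).le_charKer hN (mem_blockOf_self _) hψ h3
  obtain ⟨ξ, rfl⟩ := exists_infl_eq hφ h2
  refine ⟨ξ, rfl, sameBlock_iff.2 ((blk_infl_eq_iff hφ fun f hf => ?_).1 h1.symm)⟩
  exact exists_emb_eq_of_not_dvd hφ (by rwa [QuotientGroup.ker_mk']) hf.mem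

end Cfsg.Agent.S0967
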