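import Cfsg.Statements.S0969
import Cfsg.Agent.Lib.Block.Cent

set_option autoImplicit false
open Cfsg

namespace Cfsg.Agent.S0969

open Cfsg.Agent.Blk
open Cfsg.Agent.Char hiding cj cj_mul cj_inv_cj cj_cj_inv

/-- Let D be a central p-subgroup of the finite group G and χ an irreducible character with the exponent of p in χ(1) equal to the exponent of p in the index of D; fix a maximal ideal M of the algebraic integers containing p. Then D is a defect group of the block of χ, and χ g = 0 whenever the p-part of g does not lie in D. -/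
theorem result {G : Type*} [Group G] [Finite G] (p : ℕ) [Fact p.Prime] (M : Ideal Cfsg.AlgInt) (hM : Cfsg.IsPModular p M) (D : Subgroup G) (hD : IsPGroup p D) (hDZ : D ≤ Subgroup.center G) (χ : Cfsg.IrrCharacter G) (hdeg : (Cfsg.charDegree (χ : G → ℂ)).factorization p = D.index.factorization p) : Cfsg.IsDefectGroup p M (Cfsg.blockOf M (χ : G → ℂ)) D ∧ ∀ g x : G, Cfsg.IsPPart p g x → x ∉ D → (χ : G → ℂ) g = 0 := by
  haveI : PMod M p := ⟨hM⟩
  have := Fintype.ofFinite G
  have := Fintype.ofFinite D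
  have hG := sup_Ce_of_le_center hDZ
  have := normal_of_sup_Ce hG
  have hC := fun g => mem_Ce_of_preg (g := g) hD hG
  have h1 : ∀ ψ : IrrCharacter G, classInner (trP p D ψ.1) ψ.1 =
      Nat.card D * classInner (reg p ψ.1) ψ.1 := fun ψ => by
    obtain ⟨lam, hlam⟩ := ψ.2.isCharacter.exists_units_of_le_charCenter ψ.2.apply_one_ne_zero
      (hDZ.trans ψ.2.center_le_charCenter)
    rw [classInner_trP hD hC (fun y s _ => hlam y s) fun y s _ => hlam y s,
      (isIrrCharacter_units lam).classInner_self, mul_one]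
  obtain ⟨d, hd⟩ := hD.exists_card_eq
  have h2 := factorization_index_add p D
  rw [hd, factorization_pow_self] at h2
  have h3 : ∀ ψ : IrrCharacter G, ∃ n : ℤ, (Nat.card D : ℂ) * classInner (reg p χ.1) ψ.1 = n := by
    intro ψ
    have := exists_int_reg_irr (p := p) χ ψ
    rwa [show (Nat.card G).factorization p - nu p χ = d by
      change _ - (charDegree χ.1).factorization p = _; omega, ← Nat.cast_pow, ← hd] at this
  have hB := isPBlock_blockOf (M := M) χ
  have hχ := mem_blockOf_self (M := M) χ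
  obtain ⟨ψ, hψ, h0⟩ := exists_height_zero p hB.nonempty
  obtain ⟨m, hm⟩ := h3 χ
  obtain ⟨n, hn⟩ := h3 ψ
  have hn0 : n ≠ 0 := fun h => hB.am_ne_zero hχ hψ h0 (by
    rw [h, Int.cast_zero, mul_eq_zero_iff_left (card_ne_zero' D)] at hn
    have := am_cast (p := p) hχ ψ
    rw [hn, mul_zero] at this
    exact_mod_cast this)
  have hm1 : m = 1 := by
    have h4 := (classInner_trP_self_re_le (p := p) (P := D) χ).1
    rw [h1, hm, Complex.intCast_re] at h4
    have h5 : m ≠ 0 := fun h => χ.2.apply_one_ne_zero (by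
      rw [h, Int.cast_zero, mul_eq_zero_iff_left (card_ne_zero' D), ← classInner_reg_reg,
        classInner_self_eq_zero] at hm
      rw [← reg_of_preg (p := p) (θ := χ.1) preg_one, hm]; rfl)
    have h6 := mul_nonneg (Nat.cast_nonneg (Nat.card D)) (classInner_self_re_nonneg (reg p χ.1))
    rw [classInner_reg_reg, ← Complex.re_ofReal_mul, Complex.ofReal_natCast, hm,
      Complex.intCast_re] at h6
    have h7 : m ≤ 1 := by exact_mod_cast h4
    have h8 : 0 ≤ m := by exact_mod_cast h6
    omega
  refine ⟨?_, fun g x hx hxD => (classInner_trP_self_re_le (p := p) (P := D) χ).2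
    (by rw [h1, hm, hm1]; simp) g fun ⟨y, hy, h⟩ => hxD (h.unique hx ▸ hy)⟩
  have h4 := mul_nonneg (Nat.cast_nonneg (Nat.card D))
    (classInner_self_re_nonneg (reg p ψ.1 - (n : ℂ) • reg p χ.1))
  have h5 : (Nat.card D : ℂ) * classInner (reg p ψ.1) (reg p χ.1) = n := by
    rw [← conj_classInner, classInner_reg_reg, ← Complex.conj_natCast, ← map_mul, hn, map_intCast]
  rw [← Complex.re_ofReal_mul, Complex.ofReal_natCast, show (Nat.card D : ℂ) *
    classInner (reg p ψ.1 - (n : ℂ) • reg p χ.1) (reg p ψ.1 - (n : ℂ) • reg p χ.1) =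
      classInner (trP p D ψ.1) ψ.1 - (n ^ 2 : ℤ) by
    simp only [classInner_sub_left, classInner_sub_right, classInner_smul_left,
      classInner_smul_right, map_intCast, h1]
    rw [classInner_reg_reg χ.1, classInner_reg_reg χ.1, classInner_reg_reg ψ.1 ψ.1]
    rw [hm1] at hm
    push_cast at hm ⊢
    linear_combination (-n) * hn - n * h5 + n ^ 2 * hm, Complex.sub_re, Complex.intCast_re] at h4
  have h6 := (classInner_trP_self_re_le (p := p) (P := D) ψ).1
  have h7 : (1 : ℝ) ≤ (n ^ 2 : ℤ) := by exact_mod_cast (one_le_sq_iff_one_le_abs n).2 (Int.one_le_abs hn0)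
  have h8 : classInner (trP p D ψ.1) ψ.1 = 1 := Complex.ext (show _ = (1 : ℝ) by linarith) (by
    rw [h1, ← classInner_reg_reg, Complex.mul_im, classInner_self_im]; simp)
  have h9 := am_cast (p := p) hψ ψ
  rw [h1] at h8
  have h10 : am p (blockOf M χ.1) ψ ψ * p ^ d = p ^ blockDefect p (blockOf M χ.1) := by
    have : (am p (blockOf M χ.1) ψ ψ : ℂ) * p ^ d = p ^ blockDefect p (blockOf M χ.1) := by
      rw [h9, ← Nat.cast_pow p d, ← hd]; linear_combination (p : ℂ) ^ blockDefect p (blockOf M χ.1) * h8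
    exact_mod_cast this
  have h11 := (hB.pow_succ_dvd_am_iff hψ hψ).not.2 (not_not.2 h0)
  rw [h0, zero_add, pow_one] at h11
  obtain ⟨E, hE⟩ := hB.isBlock.exists_isDef p
  have h12 := hB.isBlock.le_of_isDef hE hD le_top (top_le_No D)
  rw [hB.isDefectGroup_iff, Subgroup.eq_of_le_of_card_ge h12 ?_]
  · exact hE
  rw [hB.card_isDef hE, hd]
  refine Nat.pow_le_pow_right (Fact.out : p.Prime).pos (not_lt.1 fun h => h11 ?_)
  refine Int.dvd_of_mul_dvd_mul_right (pow_ne_zero d (Int.natCast_ne_zero.2 (Fact.out : p.Prime).ne_zero)) ?_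
  rw [h10, ← pow_succ']
  exact pow_dvd_pow _ h

end Cfsg.Agent.S0969
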