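import Cfsg.Statements.S0970
import Cfsg.Agent.Lib.Block.Fong

set_option autoImplicit false
open Cfsg

namespace Cfsg.Agent.S0970

open Cfsg.Agent.Blk
open Cfsg.Agent.Char hiding cj cj_mul cj_inv_cj cj_cj_inv

/-- Let N be a normal subgroup of the finite group G and fix a maximal ideal M of the algebraic integers containing the prime p. Let b be a block of N that is invariant under conjugation by G, and B a block of G covering b (some χ ∈ B has a constituent in b) whose defect is at least that of every block covering b. If P is a defect group of B, then p does not divide the index of P ⊔ N, the subgroup P ∩ N of N is a defect group of b, and the defect of B equals the defect of b plus the exponent of p in the index of N. -/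
theorem result {G : Type*} [Group G] [Fintype G] (p : ℕ) [Fact p.Prime] (M : Ideal Cfsg.AlgInt) (hM : Cfsg.IsPModular p M) (N : Subgroup G) [hN : N.Normal] [Fintype N] (b : Set (Cfsg.IrrCharacter N)) (hb : Cfsg.IsPBlock M b) (hinv : ∀ g : G, ∀ θ ∈ b, ∀ θ' : Cfsg.IrrCharacter N, (∀ n : N, (θ' : N → ℂ) n = (θ : N → ℂ) ⟨g * n * g⁻¹, hN.conj_mem n n.2 g⟩) → θ' ∈ b) (B : Set (Cfsg.IrrCharacter G)) (hB : Cfsg.IsPBlock M B) (hcov : ∃ χ ∈ B, ∃ θ ∈ b, Cfsg.classInner (fun n : N => (χ : G → ℂ) n) (θ : N → ℂ) ≠ 0) (hmax : ∀ B' : Set (Cfsg.IrrCharacter G), Cfsg.IsPBlock M B' → (∃ χ ∈ B', ∃ θ ∈ b, Cfsg.classInner (fun n : N => (χ : G → ℂ) n) (θ : N → ℂ) ≠ 0) → Cfsg.blockDefect p B' ≤ Cfsg.blockDefect p B) (P : Subgroup G) (hP : Cfsg.IsDefectGroup p M B P) : ¬ p ∣ (P ⊔ N).index ∧ Cfsg.IsDefectGroup p M b ((P ⊓ N).subgroupOf N) ∧ Cfsg.blockDefect p B = Cfsg.blockDefect p b + N.index.factorization p := by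
  haveI : PMod M p := ⟨hM⟩
  have hp := (Fact.out : p.Prime)
  have hbS := hb.isBlockS
  have hst : barS M N b ∈ inv (kk M) ⊤ :=
    mem_inv.2 fun g _ => ((hb.forall_conj_normal_iff g).1 (hinv g)).2
  have h1 := (hB.isUB.cover_iff hb.isUB).1 hcov
  have hD := hB.isDefectGroup_iff.1 hP
  have h2 := hbS.knorr_stable le_top (top_le_No N) hB.isBlock h1 hst hD
  obtain ⟨B', P', hB', h3, hP', h4⟩ := hbS.exists_cover_index (p := p) le_top (top_le_No N) hst
  obtain ⟨B', hB'', rfl⟩ := exists_isPBlock_bar_eq hB'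
  have h5 := hmax B' hB'' ((hB''.isUB.cover_iff hb.isUB).2 h3)
  have key : ∀ {B : Set (IrrCharacter G)} {P : Subgroup G}, IsPBlock M B → IsDef p ⊤ (bar M B) P →
      bar M B * barS M N b ≠ 0 → ∃ a, blockDefect p B = blockDefect p b + a ∧
        p ^ a * (P ⊔ N).index = N.index := by
    intro B P hB hP h
    have h6 := card_inf_mul_relIndex' N P
    rw [hb.card_isDefS (hbS.knorr_stable le_top (top_le_No N) hB.isBlock h hst hP),
      hB.card_isDef hP] at h6
    obtain ⟨a, -, ha⟩ := (Nat.dvd_prime_pow hp).1 (Dvd.intro_left _ h6)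
    refine ⟨a, ?_, ?_⟩
    · rw [ha, ← pow_add] at h6
      exact (Nat.pow_right_injective hp.two_le h6).symm
    · rw [← ha, ← Subgroup.relIndex_sup_right, Subgroup.relIndex_mul_index le_sup_right]
  obtain ⟨a, ha1, ha2⟩ := key hB hD h1
  obtain ⟨a', ha1', ha2'⟩ := key hB'' hP' h3
  rw [Subgroup.relIndex_top_right] at h4
  have h6 : N.index.factorization p = a' := by
    rw [← ha2', Nat.factorization_mul (pow_ne_zero _ hp.ne_zero) Subgroup.index_ne_zero_of_finite]
    simp [Nat.factorization_eq_zero_of_not_dvd h4, hp.factorization_self]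
  have h7 : N.index.factorization p = a + (P ⊔ N).index.factorization p := by
    rw [← ha2, Nat.factorization_mul (pow_ne_zero _ hp.ne_zero) Subgroup.index_ne_zero_of_finite]
    simp [hp.factorization_self]
  refine ⟨fun h8 => ?_, (hb.isDefectGroup_subgroupOf_iff inf_le_right).2 h2, by omega⟩
  have := (hp.dvd_iff_one_le_factorization Subgroup.index_ne_zero_of_finite).1 h8
  omega

end Cfsg.Agent.S0970
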