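import Cfsg.Statements.S0971
import Cfsg.Agent.Lib.Block.Fong

set_option autoImplicit false
open Cfsg

namespace Cfsg.Agent.S0971

open Cfsg.Agent.Blk
open Cfsg.Agent.Char hiding cj cj_mul cj_inv_cj cj_cj_inv

/-- Let Q be a normal p-subgroup of the finite group G, let N = Q ⊔ C_G(Q) (a normal subgroup) and let b be a block of N relative to a maximal ideal M of the algebraic integers containing p. Then b induces some block of G, and every block B of G containing a character whose restriction to N has a constituent in b is induced by b. -/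
theorem result {G : Type*} [Group G] [Fintype G] (p : ℕ) [Fact p.Prime] (M : Ideal Cfsg.AlgInt) (hM : Cfsg.IsPModular p M) (Q : Subgroup G) [Q.Normal] (hQ : IsPGroup p Q) [Fintype ↥(Q ⊔ Subgroup.centralizer (Q : Set G))] (b : Set (Cfsg.IrrCharacter ↥(Q ⊔ Subgroup.centralizer (Q : Set G)))) (hb : Cfsg.IsPBlock M b) : Cfsg.InducedBlockDefined M (Q ⊔ Subgroup.centralizer (Q : Set G)) b ∧ ∀ B : Set (Cfsg.IrrCharacter G), Cfsg.IsPBlock M B → (∃ χ ∈ B, ∃ θ ∈ b, Cfsg.classInner (fun n : ↥(Q ⊔ Subgroup.centralizer (Q : Set G)) => (χ : G → ℂ) n) (θ : ↥(Q ⊔ Subgroup.centralizer (Q : Set G)) → ℂ) ≠ 0) → Cfsg.IsInducedBlock M (Q ⊔ Subgroup.centralizer (Q : Set G)) b B := by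
  haveI : PMod M p := ⟨hM⟩
  have h1 : ⊤ ⊓ Ce Q ≤ Q ⊔ Ce Q := inf_le_right.trans le_sup_right
  have hbS := hb.isBlockS
  constructor
  · obtain ⟨B, hB, h2⟩ := exists_ind hQ le_sup_left h1 le_top (le_No_of_normal _ _) hbS
    obtain ⟨B, hB', rfl⟩ := exists_isPBlock_bar_eq hB
    exact ⟨B, isInducedBlock_iff.2 ⟨hb, hB', h2⟩⟩
  · intro B hB hcov
    have h2 := (hB.isUB.cover_iff hb.isUB).1 hcov
    refine isInducedBlock_iff.2 ⟨hb, hB, (ind_iff_Br hQ le_sup_left h1 le_top (le_No_of_normal _ _)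
      hbS hB.isBlock).2 ?_⟩
    rw [hB.isBlock.Br_eq_self hQ le_top (top_le_No Q)]
    exact hbS.mul_eq_self_of_ne_zero (mem_Z.2 ⟨sup_mono le_sup_right
      (hB.isBlock.mem_sup_Ce hQ le_top (top_le_No Q)), inv_anti le_top hB.isBlock.inv⟩)
      hB.isBlock.idem h2

end Cfsg.Agent.S0971
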