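import Cfsg.Statements.S0972
import Cfsg.Agent.Lib.Block.Cent
import Cfsg.Agent.Lib.Char.Degree

set_option autoImplicit false
open Cfsg

namespace Cfsg.Agent.S0972

open Cfsg.Agent.Blk
open Cfsg.Agent.Char hiding cj cj_mul cj_inv_cj cj_cj_inv

/-- Let B be a block of the finite group G (relative to a maximal ideal M of the algebraic integers containing the prime p) with a defect group P that is normal in G. Then P is commutative if and only if every member of B has height zero. -/
theorem result {G : Type*} [Group G] [Finite G] (p : ℕ) [Fact p.Prime] (M : Ideal Cfsg.AlgInt) (hM : Cfsg.IsPModular p M) (B : Set (Cfsg.IrrCharacter G)) (hB : Cfsg.IsPBlock M B) (P : Subgroup G) [P.Normal] (hP : Cfsg.IsDefectGroup p M B P) : (∀ a ∈ P, ∀ c ∈ P, a * c = c * a) ↔ ∀ χ ∈ B, Cfsg.blockHeight p B (χ : G → ℂ) = 0 := by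
  haveI : PMod M p := ⟨hM⟩
  have hD := hB.isDefectGroup_iff.1 hP
  have := Fintype.ofFinite P
  constructor
  · intro h χ hχ
    obtain ⟨ζ, hζ⟩ := exists_under χ P
    rw [hB.height_eq_nu hD hχ hζ, nu, charDegree_of_eq (n := 1)
      (by rw [ζ.2.apply_one_of_comm fun a b => Subtype.ext (h a a.2 b b.2), Nat.cast_one])]
    simp
  · intro h a ha c hc
    refine congrArg Subtype.val (comm_of_forall_linear (G := P) (fun ζ hζ => ?_) ⟨a, ha⟩ ⟨c, hc⟩)
    obtain ⟨χ, hχ, h1⟩ := hB.exists_over_pgroup hD.pg ⟨ζ, hζ⟩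
    exact charDegree_eq_one_of_nu hD.pg ((hB.height_eq_nu hD hχ h1).symm.trans (h χ hχ))

end Cfsg.Agent.S0972
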