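import Cfsg.Statements.S0973
import Cfsg.Agent.Lib.Block.Fong

set_option autoImplicit false
open Cfsg

namespace Cfsg.Agent.S0973

open Cfsg.Agent.Blk
open Cfsg.Agent.Char hiding cj cj_mul cj_inv_cj cj_cj_inv

/-- Let B be a block of the finite group G with defect group P (relative to a maximal ideal M of the algebraic integers containing p), and let L = P ⊔ C_G(P). Then (i) some block b of L with defect group P (viewed in L) induces B, and (ii) if b and b' are blocks of L both inducing B, there is n ∈ N_G(P) carrying b to b': for every θ ∈ b there is θ' ∈ b' with θ' x = θ (n x n⁻¹) for all x ∈ L. -/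
theorem result {G : Type*} [Group G] [Finite G] (p : ℕ) [Fact p.Prime] (M : Ideal Cfsg.AlgInt) (hM : Cfsg.IsPModular p M) (B : Set (Cfsg.IrrCharacter G)) (hB : Cfsg.IsPBlock M B) (P : Subgroup G) (hP : Cfsg.IsDefectGroup p M B P) : (∃ b : Set (Cfsg.IrrCharacter ↥(P ⊔ Subgroup.centralizer (P : Set G))), Cfsg.IsDefectGroup p M b (P.subgroupOf (P ⊔ Subgroup.centralizer (P : Set G))) ∧ Cfsg.IsInducedBlock M (P ⊔ Subgroup.centralizer (P : Set G)) b B) ∧ ∀ b b' : Set (Cfsg.IrrCharacter ↥(P ⊔ Subgroup.centralizer (P : Set G))), Cfsg.IsInducedBlock M (P ⊔ Subgroup.centralizer (P : Set G)) b B → Cfsg.IsInducedBlock M (P ⊔ Subgroup.centralizer (P : Set G)) b' B → ∃ n ∈ Subgroup.normalizer (P : Set G), ∀ θ ∈ b, ∃ θ' ∈ b', ∀ x : ↥(P ⊔ Subgroup.centralizer (P : Set G)), ∀ hx : n * (x : G) * n⁻¹ ∈ P ⊔ Subgroup.centralizer (P : Set G), (θ' : ↥(P ⊔ Subgroup.centralizer (P : Set G)) → ℂ) x = (θ : ↥(P ⊔ Subgroup.centralizer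 (P : Set G)) → ℂ) ⟨n * (x : G) * n⁻¹, hx⟩ := by
  haveI : PMod M p := ⟨hM⟩
  have hD := hB.isDefectGroup_iff.1 hP
  have h0 : P ⊔ ⊤ ⊓ Ce P = P ⊔ Ce P := by rw [top_inf_eq]
  have h1 : ⊤ ⊓ Ce P ≤ P ⊔ Ce P := inf_le_right.trans le_sup_right
  have h2 : P ⊔ Ce P ≤ No P := sup_le (le_No P) (Ce_le_No P)
  constructor
  · obtain ⟨e, he⟩ := hD.exists_isMP hB.isBlock
    have h3 : IsBlock (P ⊔ Ce P) e := h0 ▸ he.bp.isBlock_sup
    obtain ⟨b, hb, rfl⟩ := exists_isPBlock_barS_eq h3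
    exact ⟨b, (hb.isDefectGroup_subgroupOf_iff le_sup_left).2
      (he.isDef_of_le le_sup_left (le_inf le_top h2) h3),
      isInducedBlock_iff.2 ⟨hb, hB, (ind_iff_Br hD.pg le_sup_left h1 le_top h2 h3 hB.isBlock).2 he.eq⟩⟩
  · have key : ∀ b : Set (IrrCharacter ↥(P ⊔ Ce P)), IsInducedBlock M (P ⊔ Ce P) b B →
        IsMP p ⊤ (bar M B) P (barS M _ b) := fun b h => by
      obtain ⟨hb, -, h3⟩ := isInducedBlock_iff.1 h
      exact ⟨⟨hD.pg, le_top, (isBlock_sup_iff hD.pg le_top).1 (by rw [h0]; exact hb.isBlockS)⟩, hB.isBlock,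
        (ind_iff_Br hD.pg le_sup_left h1 le_top h2 hb.isBlockS hB.isBlock).1 h3, hD⟩
    intro b b' hb hb'
    obtain ⟨x, hx, h3⟩ := (key b hb).conj_same (key b' hb')
    have h4 : cs x (P ⊔ Ce P) = P ⊔ Ce P := mem_No.1 (h0 ▸ inf_No_le_No_sup ⊤ P hx)
    rw [← barS_image_conj h4] at h3
    have h5 := ((isPBlock_image_iff _).2 hb.1).barS_inj hb'.1 h3
    refine ⟨x⁻¹, (No P).inv_mem hx.2, fun θ hθ => ⟨irrMap (conjIso h4) θ, h5 ▸ ⟨θ, hθ, rfl⟩,
      fun y hy => ?_⟩⟩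
    rw [irrMap_apply]
    exact congrArg _ (Subtype.ext (by rw [coe_conjIso_symm]; simp))

end Cfsg.Agent.S0973
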