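import Cfsg.Statements.S0985
import Cfsg.Agent.Lib.Perm.Small
import Cfsg.Agent.Lib.Block.Rec1

set_option autoImplicit false
open Cfsg

namespace Cfsg.Agent.S0985

open Cfsg.Agent.Blk
open Cfsg.Agent.Char hiding cj cj_mul cj_inv_cj cj_cj_inv
open Subgroup MulAction Cfsg.Agent.Perm Cfsg.Agent.Perm.SylNum

/-- If the number of Sylow p-subgroups of a finite group is not congruent to 1 modulo p^k, then there are two distinct Sylow p-subgroups P and R such that the index of P ∩ R in P is at most p^(k-1). -/
theorem result {G : Type*} [Group G] [Finite G] (p k : ℕ) [Fact p.Prime] (h : ¬ Nat.card (Sylow p G) ≡ 1 [MOD p ^ k]) : ∃ P R : Sylow p G, P ≠ R ∧ ((R : Subgroup G).subgroupOf (P : Subgroup G)).index ≤ p ^ (k - 1) := by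
  by_contra hc
  push Not at hc
  apply h
  obtain ⟨P⟩ : Nonempty (Sylow p G) := inferInstance
  have hp := (Fact.out : p.Prime)
  have h1 : p ^ k ∣ {R : Sylow p G | R ≠ P}.ncard := by
    apply dvd_ncard_of_invariant (G := (P : Subgroup G)) (Set.toFinite _)
    · intro g R h1 h
      have hg : (g : G)⁻¹ • P = P := (smul_eq_iff_mem P.isPGroup' (inv_mem g.2)).2 (inv_mem g.2)
      have h' : (g : G) • R = P := h
      exact h1 ((eq_inv_smul_iff.2 h').trans hg)
    · intro R h1
      have e : stabilizer (P : Subgroup G) R = (R : Subgroup G).subgroupOf P := by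
        ext x
        rw [mem_stabilizer_iff, mem_subgroupOf, ← smul_eq_iff_mem P.isPGroup' x.2]; rfl
      have h2 := hc P R (Ne.symm h1)
      obtain ⟨j, hj⟩ := P.isPGroup'.index ((R : Subgroup G).subgroupOf P)
      rw [e, hj]
      rw [hj, Nat.pow_lt_pow_iff_right hp.one_lt] at h2
      exact pow_dvd_pow _ (by omega)
  have h2 : Nat.card (Sylow p G) = {R : Sylow p G | R ≠ P}.ncard + 1 := by
    have := Transfer.cnt_erase (p := fun _ : Sylow p G => True) (a := P) trivial
    rw [Transfer.cnt_true] at this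
    rw [← this, ← Nat.card_coe_set_eq]
    congr 1
    exact Transfer.cnt_congr fun _ => by simp
  rw [h2]
  simpa using ((Nat.modEq_zero_iff_dvd.2 h1).add_right 1)

end Cfsg.Agent.S0985
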