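import Cfsg.Statements.S0986
import Cfsg.Agent.Lib.Perm.Small
import Cfsg.Agent.Lib.Block.Rec1

set_option autoImplicit false
open Cfsg

namespace Cfsg.Agent.S0986

open Cfsg.Agent.Blk
open Cfsg.Agent.Char hiding cj cj_mul cj_inv_cj cj_cj_inv
open Subgroup MulAction Cfsg.Agent.Perm Cfsg.Agent.Perm.SylNum

/-- Let P and Q be distinct Sylow p-subgroups of a finite group G chosen so that the order of P ∩ Q is as large as possible among intersections of two distinct Sylow p-subgroups, and let N be the normalizer of P ∩ Q. Then N has more than one Sylow p-subgroup, any two distinct Sylow p-subgroups of N intersect exactly in P ∩ Q, and each Sylow p-subgroup of N lies in exactly one Sylow p-subgroup of G. -/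
theorem result {G : Type*} [Group G] [Finite G] (p : ℕ) [Fact p.Prime] (P Q : Sylow p G) (hPQ : P ≠ Q) (hmax : ∀ P' Q' : Sylow p G, P' ≠ Q' → Nat.card ↥((P' : Subgroup G) ⊓ (Q' : Subgroup G)) ≤ Nat.card ↥((P : Subgroup G) ⊓ (Q : Subgroup G))) : 1 < Nat.card (Sylow p ↥(Subgroup.normalizer (((P : Subgroup G) ⊓ (Q : Subgroup G) : Subgroup G) : Set G))) ∧ (∀ S T : Sylow p ↥(Subgroup.normalizer (((P : Subgroup G) ⊓ (Q : Subgroup G) : Subgroup G) : Set G)), S ≠ T → (S : Subgroup _) ⊓ (T : Subgroup _) = ((P : Subgroup G) ⊓ (Q : Subgroup G)).subgroupOf (Subgroup.normalizer (((P : Subgroup G) ⊓ (Q : Subgroup G) : Subgroup G) : Set G))) ∧ ∀ S : Sylow p ↥(Subgroup.normalizer (((P : Subgroup G) ⊓ (Q : Subgroup G) : Subgroup G) : Set G)), ∃! T : Sylow p G, (S : Subgroup _).map (Subgroup.normalizer (((P : Subgroup G) ⊓ (Q : Subgroup G) : Subgroup G) : Set G)).subtype ≤ (T : Subgroup G) := by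
  set D : Subgroup G := (P : Subgroup G) ⊓ Q with hD
  have dP : IsPGroup p D := isPGroup_le P.isPGroup' inf_le_left
  have lP : D < P := lt_of_le_of_ne inf_le_left (inf_ne_of_ne hPQ)
  have lQ : D < Q := lt_of_le_of_ne inf_le_right (by rw [hD, inf_comm]; exact inf_ne_of_ne hPQ.symm)
  have uq : ∀ (E : Subgroup G) (S T : Sylow p G), D < E → E ≤ S → E ≤ T → S = T := fun E S T h1 h2 h3 => by
    by_contra hne
    exact h1.ne (eq_of_le_of_card_ge h1.le ((card_le_of_le (le_inf h2 h3)).trans (hmax S T hne)))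
  have kP := lt_inf_No P.isPGroup' lP
  have kQ := lt_inf_No Q.isPGroup' lQ
  have lt : ∀ S : Sylow p (No D), D < (S : Subgroup (No D)).map (No D).subtype := fun S => by
    have h := isSyl_map S
    obtain ⟨n, hn, h1⟩ := h.exists_cs_le (isPGroup_le P.isPGroup' (inf_le_left (b := No D))) inf_le_right
    refine lt_of_le_of_ne (h.ge_of_le_No dP (le_No D) le_rfl) fun e => kP.ne ?_
    refine eq_of_le_of_card_ge kP.le ?_
    rw [← card_cs n]
    exact card_le_of_le (h1.trans e.ge)
  have ex : ∀ S : Sylow p (No D), ∃ T : Sylow p G, (S : Subgroup (No D)).map (No D).subtype ≤ T :=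
    fun S => (isSyl_map S).pg.exists_le_sylow
  have inj : ∀ S T : Sylow p (No D), ∀ U : Sylow p G, (S : Subgroup (No D)).map (No D).subtype ≤ U →
      (T : Subgroup (No D)).map (No D).subtype ≤ U → S = T := fun S T U h1 h2 => by
    have a := (isSyl_map S).max (U ⊓ No D) inf_le_right (isPGroup_le U.isPGroup' inf_le_left)
      (le_inf h1 (isSyl_map S).le)
    have b := (isSyl_map T).max (U ⊓ No D) inf_le_right (isPGroup_le U.isPGroup' inf_le_left)
      (le_inf h2 (isSyl_map T).le)
    exact Sylow.ext (map_injective (No D).subtype_injective (a.symm.trans b))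
  refine ⟨?_, fun S T hST => ?_, fun S => ?_⟩
  · rw [Finite.one_lt_card_iff_nontrivial]
    obtain ⟨A, hA, a⟩ := exists_isSyl_ge (isPGroup_le P.isPGroup' (inf_le_left (b := No D))) inf_le_right
    obtain ⟨B, hB, b⟩ := exists_isSyl_ge (isPGroup_le Q.isPGroup' (inf_le_left (b := No D))) inf_le_right
    obtain ⟨S, rfl⟩ := hA.exists_sylow
    obtain ⟨T, rfl⟩ := hB.exists_sylow
    refine ⟨S, T, fun e => hPQ ?_⟩
    obtain ⟨U, hU⟩ := ex S
    exact (uq _ P U kP inf_le_left (a.trans hU)).trans (uq _ Q U kQ inf_le_left (b.trans (e ▸ hU))).symm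
  · refine map_injective (No D).subtype_injective ?_
    rw [map_inf _ _ _ (No D).subtype_injective, subgroupOf_map_subtype, inf_eq_left.2 (le_No D)]
    obtain ⟨U, hU⟩ := ex S
    obtain ⟨V, hV⟩ := ex T
    by_contra hne
    have := uq _ U V (lt_of_le_of_ne (le_inf (lt S).le (lt T).le) (Ne.symm hne)) (inf_le_left.trans hU)
      (inf_le_right.trans hV)
    exact hST (inj S T U hU (this ▸ hV))
  · obtain ⟨U, hU⟩ := ex S
    exact ⟨U, hU, fun V hV => uq _ V U (lt S) hV hU⟩

end Cfsg.Agent.S0986
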