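import Cfsg.Statements.S0987
import Cfsg.Agent.Lib.Block.Syl1

set_option autoImplicit false
open Cfsg

namespace Cfsg.Agent.S0987

open Cfsg.Agent.Blk
open Cfsg.Agent.Char hiding cj cj_mul cj_inv_cj cj_cj_inv
open Subgroup MulAction Cfsg.Agent.Perm Cfsg.Agent.Perm.SylNum

/-- If a finite group has order pqr for primes p < q < r, then its Sylow r-subgroups are normal. -/
theorem result {G : Type*} [Group G] [Finite G] (p q r : ℕ) (hp : p.Prime) (hq : q.Prime) [Fact r.Prime] (hpq : p < q) (hqr : q < r) (hG : Nat.card G = p * q * r) (R : Sylow r G) : (R : Subgroup G).Normal := by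
  have hr := (Fact.out : r.Prime)
  obtain ⟨K, hK, h1⟩ := exists_compl hp (hG.trans (mul_assoc _ _ _)) fun s hs k => by
    rcases hs.dvd_mul.1 k with k | k
    · rw [(Nat.prime_dvd_prime_iff_eq hs hq).1 k]; exact hpq
    · rw [(Nat.prime_dvd_prime_iff_eq hs hr).1 k]; exact hpq.trans hqr
  have h2 : K.index = p := by
    have := K.index_mul_card
    rw [h1, hG, mul_assoc] at this
    exact Nat.eq_of_mul_eq_mul_right (Nat.mul_pos hq.pos hr.pos) this
  have h3 := card_syl_normal (p := r) K (by
    rw [h2]; exact fun k => absurd (Nat.le_of_dvd hp.pos k) (by omega))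
  obtain ⟨S⟩ : Nonempty (Sylow r K) := inferInstance
  have h4 := card_sylow_eq_prime (h1.trans (mul_comm _ _))
    (fun k => absurd (Nat.le_of_dvd hq.pos k) (by omega)) S
  have h5 : (S : Subgroup K).index = q := by
    have := (S : Subgroup K).index_mul_card
    rw [h1, h4] at this
    exact Nat.eq_of_mul_eq_mul_right hr.pos this
  have h6 := S.card_dvd_index
  have h7 := card_sylow_modEq_one r K
  rw [h5] at h6
  rcases (Nat.dvd_prime hq).1 h6 with e | e
  · rw [h3, card_syl R, index_eq_one] at e
    exact normalizer_eq_top_iff.1 e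
  · rw [e] at h7
    exact absurd (h7.eq_of_lt_of_lt hqr hr.one_lt) hq.one_lt.ne'

end Cfsg.Agent.S0987
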