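import Cfsg.Statements.S0988
import Cfsg.Agent.Lib.FT.Final
import Cfsg.Agent.Lib.Transfer.Hall
import Cfsg.Agent.S0144
import Cfsg.Agent.S0496

set_option autoImplicit false
open Cfsg

namespace Cfsg.Agent.S0988

open Subgroup Cfsg.Agent.Transfer

/-- If a finite simple group has order p^2 * q * r with p, q and r prime, then its order is 60. -/
theorem result {G : Type*} [Group G] [Finite G] [IsSimpleGroup G] (p q r : ℕ) (hp : p.Prime) (hq : q.Prime) (hr : r.Prime) (hG : Nat.card G = p ^ 2 * q * r) : Nat.card G = 60 := by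
  have hc : 1 < p ^ 2 * q * r := by
    have := hp.two_le; have := hq.two_le; have := hr.two_le
    have : 1 < p ^ 2 := Nat.one_lt_pow two_ne_zero (by omega)
    have : 1 < p ^ 2 * q := by nlinarith
    nlinarith
  have hns : ¬ Group.IsSolvable G := by
    intro hs
    have h1 := IsSimpleGroup.comm_iff_isSolvable.2 hs
    letI : CommGroup G := { mul_comm := h1 }
    have h2 : (Nat.card G).Prime := IsSimpleGroup.prime_card
    rw [hG, pow_two, mul_assoc, mul_assoc] at h2
    have h3 := hp.two_le; have h4 := hq.two_le; have h5 := hr.two_le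
    rcases Nat.prime_mul_iff.1 h2 with ⟨-, h⟩ | ⟨-, h⟩
    · have := Nat.le_of_dvd (by omega) (⟨q * r, h.symm⟩ : p ∣ 1); omega
    · omega
  have hna : ¬ IsMulCommutative G := fun h =>
    hns (IsSimpleGroup.comm_iff_isSolvable.1 h.is_comm.comm)
  have hnpc : ¬ HasNormalPComplement 2 G := by
    rintro ⟨P, N, hN, hcm⟩
    rcases hN.eq_bot_or_eq_top with rfl | rfl
    · have h1 := hcm.index_eq_card
      rw [card_bot, index_eq_one] at h1
      have h2 := P.isPGroup'
      rw [h1] at h2
      have := (h2.of_equiv topEquiv).isNilpotent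
      exact hns inferInstance
    · have h1 := odd_index_sylow_two P
      rw [hcm.index_eq_card, card_top] at h1
      exact hns (PF.odd_solvable h1)
  have hpq : p ≠ q := by
    rintro rfl
    exact hns (S0144.result p r 3 1 hp hr (by rw [hG]; ring))
  have hpr : p ≠ r := by
    rintro rfl
    exact hns (S0144.result p q 3 1 hp hq (by rw [hG]; ring))
  have hqr : q ≠ r := by
    rintro rfl
    exact hns (S0144.result p q 2 2 hp hq (by rw [hG]; ring))
  obtain ⟨P⟩ : Nonempty (Sylow 2 G) := inferInstance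
  obtain ⟨n, hn⟩ := P.isPGroup'.exists_card_eq
  have hnd : 2 ^ n ∣ p ^ 2 * q * r := hG ▸ hn ▸ card_subgroup_dvd_card (P : Subgroup G)
  have hodd : ∀ s : ℕ, s.Prime → s ≠ 2 → ∀ k, (2 ^ k).Coprime s := fun s hs h2 k =>
    ((Nat.coprime_primes Nat.prime_two hs).2 h2.symm).pow_left _
  have hn2 : n ≤ 2 ∧ (n = 2 → p = 2) := by
    by_cases hp2 : p = 2
    · subst hp2
      have h1 := (hodd q hq hpq.symm n).dvd_of_dvd_mul_right ((hodd r hr hpr.symm n).dvd_of_dvd_mul_right hnd)
      exact ⟨(Nat.pow_dvd_pow_iff_le_right (by norm_num)).1 h1, fun _ => rfl⟩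
    · rw [mul_assoc] at hnd
      have h1 := ((hodd p hp hp2 n).pow_right 2).dvd_of_dvd_mul_left hnd
      have h2 : 2 ^ n ∣ 2 ^ 1 := by
        by_cases hq2 : q = 2
        · subst hq2
          simpa using (hodd r hr hqr.symm n).dvd_of_dvd_mul_right h1
        · have h3 := (hodd q hq hq2 n).dvd_of_dvd_mul_left h1
          by_cases hr2 : r = 2
          · subst hr2; simpa using h3
          · rw [(hodd r hr hr2 n).eq_one_of_dvd h3]; exact one_dvd _
      have h3 := (Nat.pow_dvd_pow_iff_le_right (by norm_num)).1 h2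
      exact ⟨by omega, fun h => by omega⟩
  have hab : IsMulCommutative (P : Subgroup G) := by
    obtain ⟨h1, -⟩ := hn2
    interval_cases n
    · have : Subsingleton (P : Subgroup G) := (Nat.card_eq_one_iff_unique.1 hn).1
      exact ⟨⟨fun a b => Subsingleton.elim _ _⟩⟩
    · have := isCyclic_of_prime_card (p := 2) hn
      exact IsCyclic.isMulCommutative
    · exact IsPGroup.isMulCommutative_of_card_eq_prime_sq hn
  obtain ⟨s, j, hs, -, hd, hj, hdvd⟩ := exists_prime_of_not_res_le hn le_rfl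
    fun h => hnpc (hasNPC_of_abelian_sylow P hab h)
  have hsG : s ∣ Nat.card G := hd.trans (card_subgroup_dvd_card _)
  have h6 : n - j = 1 ∨ (n - j = 2 ∧ n = 2) := by omega
  rcases h6 with h6 | ⟨h6, h7⟩ <;> rw [h6] at hdvd
  · exact absurd (by simpa using hdvd) hs.one_lt.ne'
  obtain rfl : s = 3 := (Nat.prime_dvd_prime_iff_eq hs Nat.prime_three).1 (by simpa using hdvd)
  obtain rfl := hn2.2 h7
  have h8 : ∃ t : ℕ, t.Prime ∧ t ≠ 2 ∧ t ≠ 3 ∧ Nat.card G = 12 * t := by
    rw [hG, mul_assoc] at hsG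
    have h9 := (show Nat.Coprime 3 (2 ^ 2) by norm_num).dvd_of_dvd_mul_left hsG
    rcases (Nat.Prime.dvd_mul Nat.prime_three).1 h9 with h | h
    · obtain rfl := (Nat.prime_dvd_prime_iff_eq Nat.prime_three hq).1 h
      exact ⟨r, hr, hpr.symm, hqr.symm, by rw [hG]; ring⟩
    · obtain rfl := (Nat.prime_dvd_prime_iff_eq Nat.prime_three hr).1 h
      exact ⟨q, hq, hpq.symm, hqr, by rw [hG]; ring⟩
  obtain ⟨t, ht, ht2, ht3, hGt⟩ := h8
  haveI : Fact t.Prime := ⟨ht⟩
  obtain ⟨T⟩ : Nonempty (Sylow t G) := inferInstance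
  have h9 := card_sylow_modEq_one t G
  have h10 : Nat.card (Sylow t G) ∣ 12 := by
    have h11 : Nat.card (Sylow t G) ∣ 12 * t := hGt ▸ T.card_dvd_index.trans (index_dvd_card _)
    exact ((Nat.Prime.coprime_iff_not_dvd ht).2 (not_dvd_card_sylow t G)).symm.dvd_of_dvd_mul_right h11
  have h11 : Nat.card (Sylow t G) ≠ 1 := by
    intro h
    have : Subsingleton (Sylow t G) := (Nat.card_eq_one_iff_unique.1 h).1
    rcases (T.normal_of_subsingleton).eq_bot_or_eq_top with h12 | h12
    · have h13 := T.dvd_card_of_dvd_card (hGt ▸ dvd_mul_left t 12)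
      rw [h12, card_bot] at h13
      exact ht.one_lt.ne' (Nat.dvd_one.1 h13)
    · have h2 := T.isPGroup'
      rw [h12] at h2
      have := (h2.of_equiv topEquiv).isNilpotent
      exact hns inferInstance
  have h12 : t ∣ Nat.card (Sylow t G) - 1 := (Nat.modEq_iff_dvd' Nat.card_pos).1 h9.symm
  have h13 : 1 ≤ Nat.card (Sylow t G) := Nat.card_pos
  have h14 := Nat.le_of_dvd (by norm_num) h10
  have h15 := Nat.le_of_dvd (by omega) h12
  have := S0496.result hna (by omega)
  have h16 := ht.two_le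
  have h17 : t ≤ 11 := by omega
  interval_cases t <;> omega

end Cfsg.Agent.S0988
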