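import Cfsg.Statements.S0989
import Cfsg.Agent.Lib.Block.Syl1

set_option autoImplicit false
open Cfsg

namespace Cfsg.Agent.S0989

open Cfsg.Agent.Blk
open Cfsg.Agent.Char hiding cj cj_mul cj_inv_cj cj_cj_inv
open Subgroup MulAction Cfsg.Agent.Perm Cfsg.Agent.Perm.SylNum

/-- In the symmetric group on p or p + 1 letters, p a prime, the normalizer of a Sylow p-subgroup has order p * (p - 1). -/
theorem result {α : Type*} [Fintype α] [DecidableEq α] (p : ℕ) [Fact p.Prime] (hα : Fintype.card α = p ∨ Fintype.card α = p + 1) (P : Sylow p (Equiv.Perm α)) : Nat.card ↥(Subgroup.normalizer ((P : Subgroup (Equiv.Perm α)) : Set (Equiv.Perm α))) = p * (p - 1) := by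
  have hp := (Fact.out : p.Prime)
  have h1 := hp.two_le
  have hc : Nat.card (Equiv.Perm α) = p * ((p - 1).factorial * (Fintype.card α).choose p) := by
    rw [Nat.card_eq_fintype_card, Fintype.card_perm, ← mul_assoc, Nat.mul_factorial_pred hp.ne_zero]
    rcases hα with e | e <;> rw [e]
    · simp
    · rw [Nat.choose_succ_self_right, Nat.factorial_succ, mul_comm]
  have hn : ¬ p ∣ (p - 1).factorial * (Fintype.card α).choose p := fun k => by
    rcases hp.dvd_mul.1 k with k | k
    · exact absurd (hp.dvd_factorial.1 k) (by omega)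
    · rcases hα with e | e <;> rw [e] at k
      · exact hp.one_lt.ne' (by simpa using k)
      · rw [Nat.choose_succ_self_right] at k
        exact hp.one_lt.ne' (by simpa using k)
  obtain ⟨x, hx, hx1, hx2⟩ := exists_gen (card_sylow_eq_prime hc hn P)
  have h : S1 p x := ⟨hp, hx1, fun k => hn (by
    rw [hc, sq] at k; exact Nat.dvd_of_mul_dvd_mul_left hp.pos k)⟩
  have h2 := h.cnt
  rw [zpowers_eq_of_card (card_sylow_eq_prime hc hn P) hx hx2] at h2
  have h3 : Nat.card {g : Equiv.Perm α // orderOf g = p} = (p - 1).factorial * (Fintype.card α).choose p := by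
    rw [← Equiv.Perm.card_of_cycleType_singleton h1 (by omega), ← Nat.card_eq_finsetCard]
    refine Transfer.cnt_congr fun g => ?_
    simp only [Finset.mem_filter, Finset.mem_univ, true_and]
    refine ⟨fun k => ?_, fun k => by rw [← Equiv.Perm.lcm_cycleType, k]; simp⟩
    have := Equiv.Perm.isCycle_of_prime_order' (σ := g) (k ▸ hp) (by omega)
    rw [this.cycleType, ← this.orderOf, k]
  have h4 := (No (P : Subgroup (Equiv.Perm α))).card_mul_index
  rw [hc, ← h3, h2] at h4
  exact Nat.eq_of_mul_eq_mul_right (Nat.pos_of_ne_zero index_ne_zero_of_finite) (h4.trans (by ring))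

end Cfsg.Agent.S0989
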