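import Cfsg.Statements.S0990
import Cfsg.Agent.Lib.Block.Syl1

set_option autoImplicit false
open Cfsg

namespace Cfsg.Agent.S0990

open Cfsg.Agent.Blk
open Cfsg.Agent.Char hiding cj cj_mul cj_inv_cj cj_cj_inv
open Subgroup MulAction Cfsg.Agent.Perm Cfsg.Agent.Perm.SylNum

/-- Let p be an odd prime and P a Sylow p-subgroup of the symmetric group on a finite set with at least two elements. Then P is contained in the alternating group, and twice the order of the normalizer of P inside the alternating group equals the order of the normalizer of P in the symmetric group. -/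
theorem result {α : Type*} [Fintype α] [DecidableEq α] (hα : 2 ≤ Fintype.card α) (p : ℕ) [Fact p.Prime] (hp : p ≠ 2) (P : Sylow p (Equiv.Perm α)) : (P : Subgroup (Equiv.Perm α)) ≤ alternatingGroup α ∧ 2 * Nat.card ↥(Subgroup.normalizer ((((P : Subgroup (Equiv.Perm α)).subgroupOf (alternatingGroup α) : Subgroup ↥(alternatingGroup α)) : Set ↥(alternatingGroup α)))) = Nat.card ↥(Subgroup.normalizer ((P : Subgroup (Equiv.Perm α)) : Set (Equiv.Perm α))) := by
  haveI : Nontrivial α := Fintype.one_lt_card_iff_nontrivial.1 hα
  have h1 : (P : Subgroup (Equiv.Perm α)) ≤ alternatingGroup α := fun x hx => by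
    obtain ⟨k, hk⟩ := P.isPGroup' ⟨x, hx⟩
    have h2 := congrArg (fun y : (P : Subgroup (Equiv.Perm α)) => Equiv.Perm.sign y.1) hk
    simp only [SubgroupClass.coe_pow, map_pow, OneMemClass.coe_one, map_one] at h2
    rw [Equiv.Perm.mem_alternatingGroup]
    rcases Int.units_eq_one_or (Equiv.Perm.sign x) with e | e
    · exact e
    · rw [e, (((Fact.out : p.Prime).odd_of_ne_two hp).pow).neg_one_pow] at h2
      exact absurd h2 (by decide)
  refine ⟨h1, ?_⟩
  have h2 := Solv.card_sup_mul_card_inf (H := No (P : Subgroup (Equiv.Perm α)))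
    (N := alternatingGroup α) le_normalizer_of_normal
  rw [show No (P : Subgroup (Equiv.Perm α)) ⊔ alternatingGroup α = ⊤ from P.normalizer_sup_eq_top' h1,
    card_top, ← (alternatingGroup α).card_mul_index,
    alternatingGroup.index_eq_two, mul_assoc, mul_comm _ (Nat.card (alternatingGroup α))] at h2
  rw [← subgroupOf_normalizer_eq h1, ← card_subtype, subgroupOf_map_subtype]
  exact Nat.eq_of_mul_eq_mul_left Nat.card_pos h2

end Cfsg.Agent.S0990
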