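import Cfsg.Statements.S0992
import Cfsg.Agent.Lib.Block.Syl1
import Cfsg.Agent.Lib.BG.GL2

set_option autoImplicit false
open Cfsg

namespace Cfsg.Agent.S0992

open Cfsg.Agent.Blk
open Cfsg.Agent.Char hiding cj cj_mul cj_inv_cj cj_cj_inv
open Subgroup MulAction Cfsg.Agent.Perm Cfsg.Agent.Perm.SylNum

/-- Let G be a non-abelian finite simple group of even order not divisible by 8, and T a Sylow 2-subgroup. Then T is a Klein four-group and the centralizer of T has index 3 in the normalizer of T. -/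
theorem result {G : Type*} [Group G] [Finite G] [IsSimpleGroup G] (hG : ¬ IsMulCommutative G) (h2 : Even (Nat.card G)) (h8 : ¬ 8 ∣ Nat.card G) (T : Sylow 2 G) : IsKleinFour ↥(T : Subgroup G) ∧ (Subgroup.centralizer ((T : Subgroup G) : Set G)).relIndex (Subgroup.normalizer ((T : Subgroup G) : Set G)) = 3 := by
  have h1 := not_npc (p := 2) hG h2.two_dvd
  have h3 : ¬ IsCyclic T := fun e => h1 (Transfer.hasNPC_two_of_isCyclic T e)
  obtain ⟨n, hn⟩ := IsPGroup.iff_card.1 T.isPGroup'
  have h4 : n ≤ 2 := by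
    by_contra k
    exact h8 (((pow_dvd_pow 2 (by omega : 3 ≤ n)).trans hn.symm.dvd).trans (card_subgroup_dvd_card _))
  have h5 : n = 2 := by
    interval_cases n
    · exact absurd (isCyclic_of_card_dvd_prime (p := 2) (by rw [hn]; simp)) h3
    · exact absurd (isCyclic_of_card_dvd_prime (p := 2) (by rw [hn]; simp)) h3
    · rfl
  subst h5
  have hK : IsKleinFour T := ⟨hn, (not_isCyclic_iff_exponent_eq_prime Nat.prime_two hn).1 h3⟩
  refine ⟨hK, ?_⟩
  have h6 : (Ce (T : Subgroup G)).relIndex (No T) ∣ 6 :=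
    BG.relIndex_Ct_dvd_of_el_two (p := 2) ⟨Transfer.klein_elem hK, hK.card_four⟩ le_rfl
  have h7 : (Ce (T : Subgroup G)).relIndex (No T) ≠ 1 := fun e =>
    burn hG h2.two_dvd (isSyl_sylow T) (relIndex_eq_one.1 e)
  have h9 : ¬ 2 ∣ (Ce (T : Subgroup G)).relIndex (No T) := fun k =>
    T.not_dvd_index ((k.trans (relIndex_dvd_of_le_left _ (le_centralizer_iff_isMulCommutative.2
      (Transfer.klein_isMulCommutative hK)))).trans (relIndex_dvd_index_of_le (le_No _)))
  change (Ce (T : Subgroup G)).relIndex (No T) = 3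
  have := Nat.le_of_dvd (by norm_num) h6
  interval_cases (Ce (T : Subgroup G)).relIndex (No T) <;> omega

end Cfsg.Agent.S0992
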