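import Cfsg.Statements.S0995
import Cfsg.Agent.Lib.Perm.Small
import Cfsg.Agent.Lib.Block.Rec1

set_option autoImplicit false
open Cfsg

namespace Cfsg.Agent.S0995

open Cfsg.Agent.Blk
open Cfsg.Agent.Char hiding cj cj_mul cj_inv_cj cj_cj_inv
open Subgroup MulAction Cfsg.Agent.Perm Cfsg.Agent.Perm.SylNum

/-- Let G be a finite perfect group containing an element z of prime order p whose centralizer is the cyclic group it generates. Let t be the number of conjugacy classes of elements of order p. Then t divides p - 1, the number of Sylow p-subgroups has the form 1 + n * p, and |G| * t = (p - 1) * p * (1 + n * p). -/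
theorem result {G : Type*} [Group G] [Finite G] (hperf : commutator G = ⊤) (p : ℕ) [Fact p.Prime] (z : G) (hz : orderOf z = p) (hC : Subgroup.centralizer ({z} : Set G) = Subgroup.zpowers z) : ∃ n t : ℕ, t = Nat.card {c : ConjClasses G // ∃ g : G, ConjClasses.mk g = c ∧ orderOf g = p} ∧ t ∣ p - 1 ∧ Nat.card (Sylow p G) = 1 + n * p ∧ Nat.card G * t = (p - 1) * p * (1 + n * p) := by
  have hp := (Fact.out : p.Prime)
  have h : SC p z := ⟨hp, hz, hC⟩
  obtain ⟨S, hS⟩ := h.exists_sylow
  have e : Nat.card {c : ConjClasses G // ∃ g : G, ConjClasses.mk g = c ∧ orderOf g = p} =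
      Nat.card {C : ConjClasses G // ∃ g ∈ C.carrier, orderOf g = p} :=
    Transfer.cnt_congr fun c => by simp only [ConjClasses.mem_carrier_iff_mk_eq]
  have h1 := card_sylow_modEq_one p G
  have h2 := Nat.card_pos (α := Sylow p G)
  obtain ⟨n, hn⟩ := (Nat.modEq_iff_dvd' h2).1 h1.symm
  have h3 : Nat.card (Sylow p G) = 1 + n * p := by rw [mul_comm, ← hn]; omega
  refine ⟨n, _, rfl, e ▸ Dvd.intro _ (h.count' rfl), h3, ?_⟩
  rw [e, ← h.count, ← h3, card_eq_mul S, hS]; ring

end Cfsg.Agent.S0995
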