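import Cfsg.Statements.S0996
import Mathlib
import Cfsg.Agent.Lib.Perm.Br11

set_option autoImplicit false
open Cfsg

namespace Cfsg.Agent.S0996



/-- Let G be a finite perfect group containing an element z of prime order p whose centralizer is the cyclic group it generates, and suppose the number 1 + n * p of Sylow p-subgroups satisfies n < (p + 3) / 2. Then p > 3 and G is isomorphic to the projective special linear group of dimension 2 over the field with p elements, or p - 1 is a power of 2 and G is isomorphic to that group over the field with p - 1 elements. -/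
theorem result {G : Type*} [Group G] [Finite G] (hperf : commutator G = ⊤) (p : ℕ) [Fact p.Prime] (z : G) (hz : orderOf z = p) (hC : Subgroup.centralizer ({z} : Set G) = Subgroup.zpowers z) (hn : 2 * Nat.card (Sylow p G) < (p + 1) * (p + 2)) : (∃ (F : Type) (_ : Field F) (_ : Fintype F), Fintype.card F = p ∧ 3 < p ∧ Nonempty (G ≃* Matrix.ProjectiveSpecialLinearGroup (Fin 2) F)) ∨ (∃ (m : ℕ) (F : Type) (_ : Field F) (_ : Fintype F), Fintype.card F = 2 ^ m ∧ p = 2 ^ m + 1 ∧ 3 < p ∧ Nonempty (G ≃* Matrix.ProjectiveSpecialLinearGroup (Fin 2) F)) := by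
  open Perm.Br Subgroup in
  have hp : p.Prime := Fact.out
  obtain ⟨P, hP⟩ := (IsPGroup.of_card (G := zpowers z) (p := p) (n := 1) (by
    rw [Nat.card_zpowers, hz, pow_one])).exists_le_sylow
  have : Nontrivial P := (P : Subgroup G).nontrivial_iff_ne_bot.2
    (P.ne_bot_of_dvd_card (hz ▸ orderOf_dvd_natCard z))
  have := P.2.center_nontrivial
  obtain ⟨⟨c, hc⟩, hc1⟩ := exists_ne (1 : center P)
  have h1 : (c : G) ∈ zpowers z := hC ▸ mem_centralizer_singleton_iff.2
    (congrArg Subtype.val (mem_center_iff.1 hc ⟨z, hP (mem_zpowers z)⟩)).symm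
  have h2 := zpowers_eq hp ((Nat.card_zpowers z).trans hz) h1 fun e => hc1 (Subtype.ext (Subtype.ext e))
  have h3 : (P : Subgroup G) = zpowers z := le_antisymm (fun g hg => hC ▸ mem_centralizer_singleton_iff.2 (by
    obtain ⟨k, hk⟩ := h2.ge (mem_zpowers z)
    exact hk ▸ Commute.zpow_right (congrArg Subtype.val (mem_center_iff.1 hc ⟨g, hg⟩)) k)) hP
  have h4 : Nat.card P = p := by rw [h3, Nat.card_zpowers, hz]
  obtain ⟨n, h5⟩ := (Nat.modEq_iff_dvd' Nat.card_pos).1 (card_sylow_modEq_one p G).symm
  replace h5 : Nat.card (Sylow p G) = n * p + 1 := by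
    have := Nat.card_pos (α := Sylow p G); rw [mul_comm]; omega
  refine core hperf P h4 (le_antisymm ((centralizer_le (by simp [h3])).trans (hC.trans h3.symm).le)
    fun _ ha _ hb => comm_of_card hp h4 hb ha) h5 fun h => ?_
  have := Nat.mul_le_mul_right p (le_of_rep h)
  nlinarith

end Cfsg.Agent.S0996
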