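import Cfsg.Statements.S1001
import Cfsg.Agent.S0904
import Cfsg.Agent.S0144

set_option autoImplicit false
open Cfsg

namespace Cfsg.Agent.S1001

open Cfsg.Agent.Blk
open Cfsg.Agent.Char hiding cj cj_mul cj_inv_cj cj_cj_inv

/-- In a finite simple group whose order has the form p * 3^a * 2^b with p prime, the centralizer of any element of order p is the cyclic group it generates. -/
theorem result {G : Type*} [Group G] [Finite G] [IsSimpleGroup G] (p a b : ℕ) (hp : p.Prime) (hG : Nat.card G = p * 3 ^ a * 2 ^ b) (x : G) (hx : orderOf x = p) : Subgroup.centralizer ({x} : Set G) = Subgroup.zpowers x := by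
  have := Fact.mk hp
  by_cases h : p = 2 ∨ p = 3
  · have h1 : Group.IsSolvable G := by
      rcases h with rfl | rfl
      · exact S0144.result 3 2 a (b + 1) Nat.prime_three Nat.prime_two (by rw [hG]; ring)
      · exact S0144.result 3 2 (a + 1) b Nat.prime_three Nat.prime_two (by rw [hG]; ring)
    have : IsMulCommutative G := ⟨⟨IsSimpleGroup.comm_iff_isSolvable.2 h1⟩⟩
    have h3 := Group.is_simple_iff_prime_card.1 (inferInstance : IsSimpleGroup G)
    have h4 := (Nat.prime_dvd_prime_iff_eq hp h3).1 (hx ▸ orderOf_dvd_natCard x)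
    refine Ce1_eq_of_card (Nat.dvd_antisymm ?_ (dvd_Ce1 (Commute.refl x)))
    rw [hx, h4]
    exact Subgroup.card_subgroup_dvd_card _
  · push Not at h
    exact S0904.elt (a := a) (b := b) Nat.prime_three Nat.prime_two h.2.symm h.1.symm
      (by rw [hG]; ring) hx

end Cfsg.Agent.S1001
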