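import Cfsg.Statements.S1002
import Mathlib
import Cfsg.Agent.S0204
import Cfsg.Agent.Lib.Perm.Br4

set_option autoImplicit false
open Cfsg

namespace Cfsg.Agent.S1002



/-- No finite simple group has order 1004913 = 3^3 * 7 * 13 * 409. -/
theorem result {G : Type*} [Group G] [Finite G] [IsSimpleGroup G] : Nat.card G ≠ 1004913 := by
  intro h
  obtain ⟨E, hE⟩ := S0204.result (G := G) fun hc => Perm.Br.noncomm_of_card (G := G) (by rw [h]; norm_num) inferInstance
  have := E.card_subgroup_dvd_card
  rw [hE.card_four, h] at this
  omega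

end Cfsg.Agent.S1002
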