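import Cfsg.Statements.S1003
import Cfsg.Agent.Lib.Block.Syl2

set_option autoImplicit false
open Cfsg

namespace Cfsg.Agent.S1003

open Cfsg.Agent.Blk
open Cfsg.Agent.Char hiding cj cj_mul cj_inv_cj cj_cj_inv
open Subgroup

/-- A simple group of order 168 has exactly 21 Sylow 2-subgroups, 28 Sylow 3-subgroups and 8 Sylow 7-subgroups. -/
theorem result {G : Type*} [Group G] [Finite G] [IsSimpleGroup G] (h : Nat.card G = 168) : Nat.card (Sylow 2 G) = 21 ∧ Nat.card (Sylow 3 G) = 28 ∧ Nat.card (Sylow 7 G) = 8 := by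
  haveI := Fact.mk (by norm_num : Nat.Prime 7)
  obtain ⟨Q⟩ : Nonempty (Sylow 2 G) := inferInstance
  obtain ⟨x, hx⟩ := L27.ex h 3
  obtain ⟨y, hy⟩ := L27.ex h 7
  obtain ⟨R, hR⟩ := isSyl_top_iff.1 (L27.s3 h hx).isSyl
  obtain ⟨S, hS⟩ := isSyl_top_iff.1 (L27.s7 h hy).isSyl
  have hQ := (L27.syl_iff h).1 (isSyl_sylow Q)
  rw [Perm.SylNum.card_syl Q, Perm.SylNum.card_syl R, Perm.SylNum.card_syl S, L27.index_eq h,
    L27.index_eq h, L27.index_eq h, hR, hS, (L27.c3 h hx).1, (L27.c7 h hy).1,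
    show normalizer ((Q : Subgroup G) : Set G) = Q from L27.No_T h hQ, hQ]
  exact ⟨rfl, rfl, rfl⟩

end Cfsg.Agent.S1003
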