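import Cfsg.Statements.S1006
import Cfsg.Agent.Lib.Block.Syl2

set_option autoImplicit false
open Cfsg

namespace Cfsg.Agent.S1006

open Cfsg.Agent.Blk
open Cfsg.Agent.Char hiding cj cj_mul cj_inv_cj cj_cj_inv
open Subgroup

/-- In a simple group of order 168 there are 56 elements of order 3, all conjugate; 42 elements of order 4, all conjugate; and 48 elements of order 7 falling into two conjugacy classes of size 24, an element of order 7 not being conjugate to its inverse. -/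
theorem result {G : Type*} [Group G] [Finite G] [IsSimpleGroup G] (h : Nat.card G = 168) : Nat.card {g : G // orderOf g = 3} = 56 ∧ (∀ s t : G, orderOf s = 3 → orderOf t = 3 → IsConj s t) ∧ Nat.card {g : G // orderOf g = 4} = 42 ∧ (∀ s t : G, orderOf s = 4 → orderOf t = 4 → IsConj s t) ∧ Nat.card {g : G // orderOf g = 7} = 48 ∧ ∀ x : G, orderOf x = 7 → Nat.card {g : G // IsConj x g} = 24 ∧ ¬ IsConj x x⁻¹ := by
  refine ⟨L27.cnt3 h, fun s t => L27.conj3 h, (L27.cnt24 h).2.1, fun s t => L27.conj4 h, L27.cnt7 h,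
    fun x hx => ⟨by rw [Transfer.card_isConj_eq_index, L27.index_eq h, (L27.c7 h hx).2], fun k => ?_⟩⟩
  obtain ⟨g, hg⟩ := isConj_iff.1 k
  have h1 : g ∈ No (zpowers x) := mem_No.2 (by
    rw [cs, MonoidHom.map_zpowers, ← zpowers_inv (g := x), ← hg]; rfl)
  have h2 : g ^ 21 = 1 := orderOf_dvd_iff_pow_eq_one.1 ((L27.c7 h hx).1 ▸ Subgroup.orderOf_dvd_natCard _ h1)
  have h3 : g ^ 2 ∈ Ce1 x := mem_Ce1.2 (by
    have : g * (g * x * g⁻¹) * g⁻¹ = x := by rw [hg, ← conj_inv, hg, inv_inv]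
    rw [← mul_inv_eq_iff_eq_mul]
    exact Eq.trans (by rw [sq]; group) this)
  have h4 := pow_mem h3 11
  rw [← pow_mul, pow_succ, h2, one_mul, mem_Ce1] at h4
  rw [h4, mul_inv_cancel_right, eq_inv_iff_mul_eq_one, ← sq, ← orderOf_dvd_iff_pow_eq_one, hx] at hg
  omega

end Cfsg.Agent.S1006
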