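import Cfsg.Statements.S1007
import Cfsg.Agent.Lib.Block.Syl2

set_option autoImplicit false
open Cfsg

namespace Cfsg.Agent.S1007

open Cfsg.Agent.Blk
open Cfsg.Agent.Char hiding cj cj_mul cj_inv_cj cj_cj_inv
open Subgroup

/-- Let G be a simple group of order 168 and T a Sylow 2-subgroup. Then T contains exactly two subgroups that are Klein four-groups; they are not conjugate in G; and the normalizer of every Klein four-subgroup of G is isomorphic to the symmetric group of degree 4. -/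
theorem result {G : Type*} [Group G] [Finite G] [IsSimpleGroup G] (h : Nat.card G = 168) (T : Sylow 2 G) : Nat.card {U : Subgroup G // U ≤ (T : Subgroup G) ∧ IsKleinFour ↥U} = 2 ∧ (∀ U W : Subgroup G, U ≤ (T : Subgroup G) → W ≤ (T : Subgroup G) → IsKleinFour ↥U → IsKleinFour ↥W → U ≠ W → ∀ g : G, U.map (MulAut.conj g).toMonoidHom ≠ W) ∧ ∀ U : Subgroup G, IsKleinFour ↥U → Nonempty (↥(Subgroup.normalizer (U : Set G)) ≃* Equiv.Perm (Fin 4)) := by
  obtain ⟨a, b, hT⟩ := L27.dh h T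
  have k : ∀ U : Subgroup G, U ≤ (T : Subgroup G) ∧ IsKleinFour U ↔
      U = Transfer.Xk a 1 b ∨ U = Transfer.Xk a 1 (a * b) := fun U => ⟨fun ⟨h1, h2⟩ => by
    obtain ⟨u, hu, e⟩ := hT.klein' h1 h2
    have h3 := mem_No.1 (inv_mem (No_of_index_two h1 (by rw [hT.card, h2.card_four]; rfl)
      ((hT.eq ▸ le_sup_left : zpowers a ≤ T) hu)))
    refine e.imp (fun e => ?_) fun e => ?_ <;> rw [← h3, ← e] <;> exact cs_inv_cs _ _, by
    rintro (rfl | rfl)
    · exact ⟨hT.X_le _, hT.kl⟩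
    · exact ⟨hT.dh'.X_le _, hT.dh'.kl⟩⟩
  refine ⟨Transfer.cnt_eq_two (fun e => hT.not_conj_X le_rfl 1 ((cs_one _).trans e)) k,
    fun U W h1 h2 h3 h4 h5 g e => ?_, fun U => L27.s4 h⟩
  rcases (k U).1 ⟨h1, h3⟩ with rfl | rfl <;> rcases (k W).1 ⟨h2, h4⟩ with e2 | e2
  · exact h5 e2.symm
  · exact hT.not_conj_X le_rfl g (e.trans e2)
  · exact hT.not_conj_X le_rfl g⁻¹ (by rw [← e2, ← e]; exact cs_inv_cs _ _)
  · exact h5 e2.symm

end Cfsg.Agent.S1007
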