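import Cfsg.Statements.S1008
import Cfsg.Agent.Lib.Block.Syl2

set_option autoImplicit false
open Cfsg

namespace Cfsg.Agent.S1008

open Cfsg.Agent.Blk
open Cfsg.Agent.Char hiding cj cj_mul cj_inv_cj cj_cj_inv
open Subgroup

/-- In a simple group of order 168 every maximal subgroup is either isomorphic to the symmetric group of degree 4 or non-abelian of order 21; the maximal subgroups of order 21 form one conjugacy class and those isomorphic to the symmetric group of degree 4 form exactly two conjugacy classes. -/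
theorem result {G : Type*} [Group G] [Finite G] [IsSimpleGroup G] (h : Nat.card G = 168) : (∀ M : Subgroup G, IsCoatom M → Nonempty (↥M ≃* Equiv.Perm (Fin 4)) ∨ (Nat.card ↥M = 21 ∧ ¬ IsMulCommutative ↥M)) ∧ (∀ M M' : Subgroup G, IsCoatom M → IsCoatom M' → Nat.card ↥M = 21 → Nat.card ↥M' = 21 → ∃ g : G, M' = M.map (MulAut.conj g).toMonoidHom) ∧ ∃ M₁ M₂ : Subgroup G, IsCoatom M₁ ∧ IsCoatom M₂ ∧ Nonempty (↥M₁ ≃* Equiv.Perm (Fin 4)) ∧ Nonempty (↥M₂ ≃* Equiv.Perm (Fin 4)) ∧ (∀ g : G, M₂ ≠ M₁.map (MulAut.conj g).toMonoidHom) ∧ ∀ M : Subgroup G, IsCoatom M → Nonempty (↥M ≃* Equiv.Perm (Fin 4)) → ∃ g : G, M = M₁.map (MulAut.conj g).toMonoidHom ∨ M = M₂.map (MulAut.conj g).toMonoidHom := by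
  obtain ⟨T⟩ : Nonempty (Sylow 2 G) := inferInstance
  obtain ⟨a, b, hT⟩ := L27.dh h T
  have k : ∀ M : Subgroup G, IsCoatom M → Nat.card M = 21 → ∃ y, orderOf y = 7 ∧ M = No (zpowers y) :=
    fun M hM h1 => (L27.coatom h hM).resolve_right fun ⟨U, hU, e⟩ => by
      rw [e, L27.No_U h hU] at h1; omega
  refine ⟨fun M hM => ?_, fun M M' hM hM' h1 h2 => ?_, _, _, L27.coatom_No h hT.kl,
    L27.coatom_No h hT.dh'.kl, L27.s4 h hT.kl, L27.s4 h hT.dh'.kl, fun g e => hT.not_conj_X le_rfl g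
      (L27.No_inj h (Transfer.klein_cj hT.kl g) hT.dh'.kl ((cs_No _ _).symm.trans e.symm)),
    fun M hM ⟨e⟩ => ?_⟩
  · rcases L27.coatom h hM with ⟨y, hy, rfl⟩ | ⟨U, hU, rfl⟩
    · refine .inr ⟨(L27.c7 h hy).1, fun e => ?_⟩
      have := card_le_of_le (((le_centralizer_iff_isMulCommutative.2 e).trans
        (Ce_anti (le_No _))).trans (Ce_zpowers y).le)
      rw [(L27.c7 h hy).1, (L27.c7 h hy).2] at this
      omega
    · exact .inl (L27.s4 h hU)
  · obtain ⟨x, hx, rfl⟩ := k M hM h1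
    obtain ⟨y, hy, rfl⟩ := k M' hM' h2
    obtain ⟨g, hg⟩ := (L27.s7 h hy).exists_cs (L27.s7 h hx).card
    exact ⟨g, by rw [← hg, ← cs_No]⟩
  · obtain ⟨U, hU, rfl⟩ := (L27.coatom h hM).resolve_left fun ⟨y, hy, e2⟩ => by
      have := Nat.card_congr e.toEquiv
      rw [e2, (L27.c7 h hy).1, Nat.card_eq_fintype_card, Fintype.card_perm] at this
      simp [Nat.factorial] at this
    rcases hT.klein_conj hU with ⟨g, hg⟩ | ⟨g, hg⟩
    · exact ⟨g⁻¹, .inl (by rw [← hg, ← cs_No]; exact (cs_inv_cs _ _).symm)⟩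
    · exact ⟨g⁻¹, .inr (by rw [← hg, ← cs_No]; exact (cs_inv_cs _ _).symm)⟩

end Cfsg.Agent.S1008
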