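import Cfsg.Statements.S1009
import Cfsg.Agent.Lib.Perm.Small
import Cfsg.Agent.Lib.Block.Rec1

set_option autoImplicit false
open Cfsg

namespace Cfsg.Agent.S1009

open Cfsg.Agent.Blk
open Cfsg.Agent.Char hiding cj cj_mul cj_inv_cj cj_cj_inv
open Subgroup MulAction Cfsg.Agent.Perm Cfsg.Agent.Perm.SylNum

/-- Brodkey's Theorem: if a finite group has abelian Sylow p-subgroups, then there are two Sylow p-subgroups whose intersection equals the intersection of all Sylow p-subgroups. -/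
theorem result {G : Type*} [Group G] [Finite G] (p : ℕ) [Fact p.Prime] (hab : ∀ P : Sylow p G, IsMulCommutative ↥(P : Subgroup G)) : ∃ P Q : Sylow p G, (P : Subgroup G) ⊓ (Q : Subgroup G) = ⨅ R : Sylow p G, (R : Subgroup G) := by
  obtain ⟨⟨P, Q⟩, hm⟩ := Finite.exists_min
    (fun x : Sylow p G × Sylow p G => Nat.card ((x.1 : Subgroup G) ⊓ x.2 : Subgroup G))
  refine ⟨P, Q, le_antisymm (le_iInf fun R => ?_) (le_inf (iInf_le _ _) (iInf_le _ _))⟩
  set D : Subgroup G := (P : Subgroup G) ⊓ Q with hD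
  have ab : ∀ S : Sylow p G, D ≤ S → (S : Subgroup G) ≤ No D := fun S h => le_trans
    (fun x hx => mem_Ce.2 fun y hy => congrArg Subtype.val ((hab S).is_comm.comm ⟨y, h hy⟩ ⟨x, hx⟩))
    (Ce_le_No D)
  have dP : IsPGroup p D := isPGroup_le P.isPGroup' inf_le_left
  have hP := (isSyl_sylow P).of_le (ab P inf_le_left) le_top
  have hQ := (isSyl_sylow Q).of_le (ab Q inf_le_right) le_top
  obtain ⟨n, hn, h1⟩ := hQ.exists_cs_le (isPGroup_le R.isPGroup' (inf_le_left (b := No D))) inf_le_right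
  obtain ⟨R', hR'⟩ := isSyl_top_iff.1 (by simpa using (isSyl_sylow R).cs n)
  have h2 : (P : Subgroup G) ⊓ R' ≤ D := le_inf inf_le_left (le_trans (by
    rw [cs_inf, cs_eq_of_mem hn, ← hR']
    exact le_inf inf_le_right (inf_le_left.trans hP.le)) h1)
  have h3 := eq_of_le_of_card_ge h2 (hm (P, R'))
  have h4 : cs n D ≤ cs n R := by rw [mem_No.1 hn, ← hR', ← h3]; exact inf_le_right
  exact cs_le_cs_iff.1 h4

end Cfsg.Agent.S1009
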