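import Cfsg.Statements.S1010
import Mathlib
import Cfsg.Agent.Lib.Perm.SylNum3

set_option autoImplicit false
open Cfsg

namespace Cfsg.Agent.S1010



/-- No finite group has exactly twenty-one Sylow 5-subgroups. -/
theorem result {G : Type*} [Group G] [Finite G] : Nat.card (Sylow 5 G) ≠ 21 := by
  open Cfsg.Agent.Perm.SylNum Cfsg.Agent.Solv Cfsg.Agent.Perm Subgroup MulAction in
  haveI : Fact (Nat.Prime 5) := ⟨by norm_num⟩
  haveI : Fact (Nat.Prime 7) := ⟨by norm_num⟩
  refine reduce 5 _ ?_ G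
  intro G _ _ hq hf hn
  have hP := card_eq_of_lt_sq hf (by omega) (by omega)
  obtain ⟨P₀⟩ : Nonempty (Sylow 5 G) := inferInstance
  have hinv : ∀ t : G, t ^ 2 = 1 → t ≠ 1 → ∀ Q : Sylow 5 G, t • Q = Q →
      t ∈ centralizer ((Q : Subgroup G) : Set G) ∧ ∀ R : Sylow 5 G, t • R = R → R = Q := by
    intro t ht2 ht1 Q hQ
    obtain ⟨Q', hQ'⟩ := hq.invol_centralizes (by omega) P₀ (hP P₀) (by rw [hn]; decide) t ht2
    obtain ⟨j, hj⟩ := card_fix_of_cent (hP Q') hQ'
    obtain ⟨k, hk⟩ := hq.four_dvd (α := Sylow 5 G) (by omega) ht2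
    have h1 : ¬ Nat.card (Sylow 5 G) ≤ Nat.card (fixedBy (Sylow 5 G) t) :=
      fun h => ht1 (eq_one_of_card_fix hf h)
    have h2 : Nat.card (fixedBy (Sylow 5 G) t) = 1 := by omega
    have h3 : ∀ R R' : Sylow 5 G, t • R = R → t • R' = R' → R = R' := by
      intro R R' a b
      have := (Nat.card_eq_one_iff_unique.1 h2).1
      exact congrArg Subtype.val (Subsingleton.elim (⟨R, a⟩ : fixedBy (Sylow 5 G) t) ⟨R', b⟩)
    refine ⟨?_, fun R hR => h3 R Q hR hQ⟩
    rw [h3 Q Q' hQ (smul_eq_iff.2 (centralizer_le_normalizer _ hQ'))]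
    exact hQ'
  obtain ⟨T⟩ : Nonempty (Sylow 2 G) := inferInstance
  obtain ⟨P, hTP⟩ := T.isPGroup'.nonempty_fixed_point_of_prime_not_dvd_card (Sylow 5 G)
    (by rw [hn]; decide)
  have hTP : ∀ t ∈ (T : Subgroup G), t • P = P := fun t ht => hTP ⟨t, ht⟩
  have h20 : Nat.card (T : Subgroup G) ∣ ({P}ᶜ : Set (Sylow 5 G)).ncard := by
    apply card_dvd_ncard_of_semiregular (Set.toFinite _)
    · intro g R hR h
      apply hR
      have h' : (g : G) • R = P := h
      exact (eq_inv_smul_iff.2 h').trans (hTP _ (inv_mem g.2))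
    · intro R hR g hg
      by_contra hne
      obtain ⟨k, hk, -⟩ := exists_prime_order_pow (isOfFinOrder_of_finite g) hne
      have h2 : orderOf (g ^ k) = 2 :=
        eq_of_isPGroup_of_dvd T.isPGroup' hk (_root_.orderOf_dvd_natCard _)
      have h3 : ((g ^ k : (T : Subgroup G)) : G) • R = R := (stabilizer (T : Subgroup G) R).pow_mem hg k
      refine hR ((hinv _ ?_ ?_ P (hTP _ (g ^ k).2)).2 R h3)
      · rw [← Subgroup.coe_pow, orderOf_dvd_iff_pow_eq_one.1 h2.dvd, Subgroup.coe_one]
      · intro h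
        rw [← Subgroup.orderOf_coe, h, orderOf_one] at h2; omega
  have h4 : Nat.card (T : Subgroup G) ∣ 4 := by
    have := Set.ncard_add_ncard_compl ({P} : Set (Sylow 5 G))
    rw [hn, Set.ncard_singleton] at this
    rw [show ({P}ᶜ : Set (Sylow 5 G)).ncard = 4 * 5 by omega] at h20
    exact (coprime_card_of_isPGroup T.isPGroup' (n := 5) (by omega)).dvd_of_dvd_mul_right h20
  have hTC : (T : Subgroup G) ≤ centralizer ((P : Subgroup G) : Set G) := by
    intro t ht
    by_cases h1 : t = 1
    · rw [h1]; exact one_mem _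
    refine (hinv t ?_ h1 P (hTP t ht)).1
    by_contra h2
    apply hq.not_isCyclic (by omega) T (fun h => h1 (by rwa [h] at ht))
    have h3 : orderOf (⟨t, ht⟩ : (T : Subgroup G)) ∣ 4 := (_root_.orderOf_dvd_natCard _).trans h4
    have h5 : ¬ orderOf (⟨t, ht⟩ : (T : Subgroup G)) ∣ 2 := by
      rw [Subgroup.orderOf_mk, orderOf_dvd_iff_pow_eq_one]; exact h2
    have h6 : orderOf (⟨t, ht⟩ : (T : Subgroup G)) = 4 := by
      have := Nat.le_of_dvd (by norm_num) h3
      interval_cases h : orderOf (⟨t, ht⟩ : (T : Subgroup G)) <;> omega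
    apply isCyclic_of_orderOf_eq_card (⟨t, ht⟩ : (T : Subgroup G))
    exact Nat.dvd_antisymm (_root_.orderOf_dvd_natCard _) (h6 ▸ h4)
  have hNC : normalizer ((P : Subgroup G) : Set G) ≤ centralizer ((P : Subgroup G) : Set G) := by
    rw [← relIndex_eq_one]
    have a := relIndex_centralizer_dvd (by norm_num) (hP P)
    have b : ¬ 2 ∣ (centralizer ((P : Subgroup G) : Set G)).relIndex (normalizer ((P : Subgroup G) : Set G)) :=
      fun h => T.not_dvd_index ((h.trans (relIndex_dvd_index_of_le (centralizer_le_normalizer _))).trans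
        (index_dvd_of_le hTC))
    have := Nat.le_of_dvd (by norm_num) a
    interval_cases h : (centralizer ((P : Subgroup G) : Set G)).relIndex
      (normalizer ((P : Subgroup G) : Set G)) <;> omega
  have hc := MonoidHom.ker_transferSylow_isComplement' P hNC
  set K := (MonoidHom.transferSylow P hNC).ker with hK
  have h7 := not_dvd_card_normalizer hf (hP P) (r := 7) (by norm_num) (by omega) (by omega) (by norm_num)
  have hKc : Nat.card K * 5 = 21 * Nat.card (normalizer ((P : Subgroup G) : Set G)) := by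
    rw [← hn, ← card_eq_mul P, ← hP P, hc.card_mul]
  have hK5 : ¬ 5 ∣ Nat.card K := by
    rw [← hc.index_eq_card]; exact P.not_dvd_index
  obtain ⟨S, hS, hPS⟩ := coprime_exists_sylowIn (A := (P : Subgroup G)) (K := K)
    (by rw [normalizer_eq_top K]; exact le_top) (coprime_card_of_isPGroup P.isPGroup' hK5)
    (Or.inl (by haveI := P.isPGroup'.isNilpotent; infer_instance)) 7
  have hS7 : Nat.card S = 7 := by
    obtain ⟨S', hS'⟩ := hS.exists_sylow
    rw [← card_subgroupOf_of_le hS.le, ← hS']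
    obtain ⟨c, hc⟩ : 7 ∣ Nat.card K := by omega
    exact card_sylow_eq_prime hc (by omega) S'
  have hPC : (P : Subgroup G) ≤ centralizer (S : Set G) := fun g hg => by
    apply mem_centralizer_of_coprime (by norm_num) hS7 (hPS hg)
    have : orderOf g ∣ 5 := by
      rw [← hP P, ← Subgroup.orderOf_mk g hg]; exact _root_.orderOf_dvd_natCard _
    exact Nat.Coprime.coprime_dvd_left this (by norm_num)
  apply h7
  rw [← hS7]
  exact card_dvd_of_le ((le_centralizer_iff.1 hPC).trans (centralizer_le_normalizer _))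

end Cfsg.Agent.S1010
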