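import Cfsg.Statements.S1012
import Cfsg.Agent.Lib.Perm.Small
import Cfsg.Agent.Lib.Block.Rec1

set_option autoImplicit false
open Cfsg

namespace Cfsg.Agent.S1012

open Cfsg.Agent.Blk
open Cfsg.Agent.Char hiding cj cj_mul cj_inv_cj cj_cj_inv
open Subgroup MulAction Cfsg.Agent.Perm Cfsg.Agent.Perm.SylNum Cfsg.Agent.Perm.Small

/-- A group of order 24 containing no element of order 6 is isomorphic to the symmetric group of degree 4. -/
theorem result {G : Type*} [Group G] [Finite G] (h : Nat.card G = 24) (h6 : ∀ g : G, orderOf g ≠ 6) : Nonempty (G ≃* Equiv.Perm (Fin 4)) := by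
  haveI : Fact (Nat.Prime 3) := ⟨by norm_num⟩
  have hP : ∀ P : Sylow 3 G, Nat.card (P : Subgroup G) = 3 :=
    card_sylow_eq_prime (m := 8) (by omega) (by omega)
  have h1 : Nat.card (Sylow 3 G) ≠ 1 := by
    refine card_sylow_ne_one (r := 2) (by norm_num) (by norm_num) hP ?_ h6 ?_
    · intro d h1 _ _ e he
      have := Nat.le_of_dvd (by norm_num) h1
      interval_cases d <;> omega
    · intro d h1 _
      have := Nat.le_of_dvd (by norm_num) h1
      interval_cases d <;> omega
  have h2 := sylow_faithful h1 hP (no_mul_order (by norm_num) (S := {n | n ≠ 6 ∧ n ∣ 24})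
    (fun g => ⟨h6 g, h ▸ orderOf_dvd_natCard g⟩) fun r hr h => by
      obtain ⟨k1, k2⟩ := h
      have h3 : r ∣ 2 ^ 3 := (Nat.mul_dvd_mul_iff_left (by norm_num : 0 < 3)).1 k2
      have := (Nat.prime_dvd_prime_iff_eq hr Nat.prime_two).1 (hr.dvd_of_dvd_pow h3)
      omega)
  refine iso_perm_of_faithful ?_ h2 (by rw [h]; rfl)
  obtain ⟨P⟩ : Nonempty (Sylow 3 G) := inferInstance
  have a := P.card_dvd_index
  have b := (P : Subgroup G).card_mul_index
  have d := card_sylow_modEq_one 3 G
  unfold Nat.ModEq at d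
  rw [hP] at b
  have e : Nat.card (Sylow 3 G) ∣ 8 := a.trans (Dvd.intro 1 (by omega))
  have := Nat.le_of_dvd (by norm_num) e
  interval_cases h : Nat.card (Sylow 3 G) <;> omega

end Cfsg.Agent.S1012
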