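import Cfsg.Statements.S1018
import Cfsg.Agent.Lib.Perm.Small
import Cfsg.Agent.Lib.Block.Rec1

set_option autoImplicit false
open Cfsg

namespace Cfsg.Agent.S1018

open Cfsg.Agent.Blk
open Cfsg.Agent.Char hiding cj cj_mul cj_inv_cj cj_cj_inv
open Subgroup MulAction Cfsg.Agent.Perm Cfsg.Agent.Perm.SylNum

/-- Let P be a Sylow p-subgroup of order p of a finite group G, and consider the action of G on the left cosets of the normalizer N of P. Then every element of order p fixes exactly one coset, and an element of N that does not centralize P fixes at most as many cosets as there are orbits of P. -/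
theorem result {G : Type*} [Group G] [Finite G] (p : ℕ) [Fact p.Prime] (P : Sylow p G) (hP : Nat.card ↥(P : Subgroup G) = p) : (∀ y : G, orderOf y = p → Nat.card (MulAction.fixedBy (G ⧸ Subgroup.normalizer ((P : Subgroup G) : Set G)) y) = 1) ∧ ∀ x : G, x ∈ Subgroup.normalizer ((P : Subgroup G) : Set G) → x ∉ Subgroup.centralizer ((P : Subgroup G) : Set G) → Nat.card (MulAction.fixedBy (G ⧸ Subgroup.normalizer ((P : Subgroup G) : Set G)) x) ≤ Nat.card (MulAction.orbitRel.Quotient ↥(P : Subgroup G) (G ⧸ Subgroup.normalizer ((P : Subgroup G) : Set G))) := by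
  have hp := (Fact.out : p.Prime)
  have k : ∀ x g : G, x • (g : G ⧸ No (P : Subgroup G)) = g ↔ x • g • P = g • P := fun x g => by
    rw [MulAction.Quotient.smul_mk, eq_comm, QuotientGroup.eq, smul_eq_mul, ← inv_smul_eq_iff,
      ← mul_smul, ← mul_smul, smul_eq_iff, mul_assoc]
  have k2 : ∀ a b : G, a • P = b • P → (a : G ⧸ No (P : Subgroup G)) = b := fun a b e => by
    rw [QuotientGroup.eq, ← smul_eq_iff, mul_smul, ← e, inv_smul_smul]
  refine ⟨fun y hy => ?_, fun x hx hx2 => ?_⟩
  · have y1 : y ≠ 1 := fun e => hp.one_lt.ne (by rw [← hy, e, orderOf_one])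
    obtain ⟨Q, hQ⟩ := (IsPGroup.of_card (G := zpowers y) (n := 1)
      (by rw [Nat.card_zpowers, hy, pow_one])).exists_le_sylow
    have hQ' := hQ (mem_zpowers y)
    obtain ⟨g, rfl⟩ := MulAction.exists_smul_eq G P Q
    rw [← Transfer.cnt_eq_one (g : G ⧸ No (P : Subgroup G))]
    refine Transfer.cnt_congr (p := fun q => q ∈ fixedBy _ y) fun q => ?_
    obtain ⟨c, rfl⟩ := QuotientGroup.mk_surjective q
    rw [mem_fixedBy, k]
    refine ⟨fun e => k2 _ _ (fix_of_mem ((card_syl_eq _ _).trans hP) hQ' y1 e), fun e => ?_⟩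
    rw [← k, e, k]
    exact (smul_eq_iff_mem (g • P).isPGroup' hQ').2 hQ'
  · refine Nat.card_le_card_of_injective (fun q => Quotient.mk'' q.1) ?_
    rintro ⟨a, ha⟩ ⟨b, hb⟩ e
    obtain ⟨y, hy⟩ := mem_orbit_iff.1 (orbitRel_apply.1 (Quotient.exact' e))
    refine Subtype.ext ?_
    change a = b
    change (y : G) • b = a at hy
    rw [mem_fixedBy] at ha hb
    by_contra hne
    have y1 : (y : G) ≠ 1 := fun e => hne (by rw [← hy, e, one_smul])
    have h1 := zpowers_eq_of_card hP y.2 y1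
    have h2 : (y : G)⁻¹ * (x * y * x⁻¹) ∈ (P : Subgroup G) :=
      mul_mem (inv_mem y.2) ((mem_No.1 hx).le (conj_mem_cs.2 y.2))
    have h3 : (y : G)⁻¹ * (x * y * x⁻¹) ≠ 1 := fun e => hx2 (by
      change x ∈ Ce (P : Subgroup G)
      rw [← h1, Ce_zpowers, mem_Ce1, ← mul_inv_eq_iff_eq_mul]
      exact (inv_mul_eq_one.1 e).symm)
    have h4 : ((y : G)⁻¹ * (x * y * x⁻¹)) • b = b := by
      rw [mul_smul, mul_smul, mul_smul, inv_smul_eq_iff.2 hb.symm, hy, ha, ← hy, inv_smul_smul]
    have h5 : (P : Subgroup G) ≤ stabilizer G b :=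
      (zpowers_eq_of_card hP h2 h3).ge.trans (zpowers_le.2 h4)
    exact hne (hy.symm.trans (h5 y.2))

end Cfsg.Agent.S1018
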