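import Cfsg.Statements.S1019
import Cfsg.Agent.Lib.Perm.Small
import Cfsg.Agent.Lib.Block.Rec1

set_option autoImplicit false
open Cfsg

namespace Cfsg.Agent.S1019

open Cfsg.Agent.Blk
open Cfsg.Agent.Char hiding cj cj_mul cj_inv_cj cj_cj_inv
open Subgroup MulAction

/-- Let H be a subgroup of a finite group G and x an element of H. In the action of G on the left cosets of H, the number of cosets fixed by x, multiplied by the size of the conjugacy class of x, equals the index of H multiplied by the number of conjugates of x that lie in H. -/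
theorem result {G : Type*} [Group G] [Finite G] (H : Subgroup G) (x : G) (hx : x ∈ H) : Nat.card (MulAction.fixedBy (G ⧸ H) x) * Nat.card {g : G // IsConj x g} = H.index * Nat.card {g : G // IsConj x g ∧ g ∈ H} := by
  have h1 : Nat.card {g : G // g⁻¹ * x * g ∈ H} =
      Nat.card {q : G ⧸ H // q ∈ fixedBy (G ⧸ H) x} * Nat.card H := by
    have k : ∀ g : G, (g : G ⧸ H) ∈ fixedBy (G ⧸ H) x ↔ g⁻¹ * x * g ∈ H := fun g => by
      rw [mem_fixedBy, MulAction.Quotient.smul_mk, eq_comm, QuotientGroup.eq, smul_eq_mul, mul_assoc]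
    refine Transfer.cnt_eq_mul_of_fiber (fun g : G => (g : G ⧸ H)) (fun g hg => (k g).2 hg) fun q hq => ?_
    obtain ⟨c, rfl⟩ := QuotientGroup.mk_surjective q
    refine (Transfer.cnt_eq_of_bij (p := fun g => g ∈ H) (fun h => c * h) (fun h hh => ?_)
      (fun a b _ _ e => mul_left_cancel e) fun y hy => ⟨c⁻¹ * y, QuotientGroup.eq.1 hy.2.symm, by simp⟩).symm
    have e : ((c * h : G) : G ⧸ H) = c := QuotientGroup.mk_mul_of_mem c hh
    exact ⟨(k _).1 (e ▸ hq), e⟩
  have h2 : Nat.card {g : G // g⁻¹ * x * g ∈ H} =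
      Nat.card {g : G // IsConj x g ∧ g ∈ H} * Nat.card (Ce1 x) := by
    refine Transfer.cnt_eq_mul_of_fiber (fun g => g⁻¹ * x * g)
      (fun g hg => ⟨isConj_iff.2 ⟨g⁻¹, by simp⟩, hg⟩) fun y hy => ?_
    obtain ⟨c, rfl⟩ := isConj_iff.1 hy.1
    rw [← Transfer.card_conj_fiber' x c]
    refine Transfer.cnt_eq_of_bij (fun g => g⁻¹) (fun g hg => by simpa using hg.2)
      (fun a b _ _ e => inv_injective e) fun k hk => ⟨k⁻¹, ⟨?_, by simpa using hk⟩, inv_inv k⟩
    rw [inv_inv, hk]; exact hy.2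
  have h3 := Transfer.card_isConj_mul x
  have h4 := H.card_mul_index
  refine Nat.eq_of_mul_eq_mul_right (Nat.card_pos (α := Ce1 x)) ?_
  change Nat.card {q : G ⧸ H // q ∈ fixedBy (G ⧸ H) x} * _ * _ = _
  rw [mul_assoc, h3, ← h4, ← mul_assoc, ← h1, h2]; ring

end Cfsg.Agent.S1019
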