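import Cfsg.Statements.S1022
import Mathlib
import Cfsg.Agent.Lib.Perm.Br7

set_option autoImplicit false
open Cfsg

namespace Cfsg.Agent.S1022

open Subgroup Cfsg.Agent.Char Cfsg.Agent.Perm Cfsg.Agent.Perm.Br

open scoped Classical in
theorem cnt3 {ι : Type*} (X : Finset ι) (f : ι → ℤ) (u v w : ℤ) (h : ∀ i ∈ X, f i = u ∨ f i = v ∨ f i = w) :
    ∃ a b c : ℕ, a + b + c = X.card ∧ ∑ i ∈ X, f i = a * u + b * v + c * w ∧ (a = 0 ∨ ∃ i ∈ X, f i = u) := by
  induction X using Finset.induction_on with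
  | empty => exact ⟨0, 0, 0, by simp⟩
  | insert i X hi ih =>
    obtain ⟨a, b, c, h1, h2, h3⟩ := ih fun j hj => h j (Finset.mem_insert_of_mem hj)
    have h4 := h3.imp_right fun ⟨j, hj, e⟩ => (⟨j, Finset.mem_insert_of_mem hj, e⟩ : ∃ j ∈ insert i X, f j = u)
    rw [Finset.card_insert_of_notMem hi, Finset.sum_insert hi, h2]
    rcases h i (Finset.mem_insert_self _ _) with e | e | e
    · exact ⟨a + 1, b, c, by omega, by rw [e]; push_cast; ring, Or.inr ⟨i, Finset.mem_insert_self _ _, e⟩⟩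
    · exact ⟨a, b + 1, c, by omega, by rw [e]; push_cast; ring, h4⟩
    · exact ⟨a, b, c + 1, by omega, by rw [e]; push_cast; ring, h4⟩

theorem d1 : ∀ n ∈ dvs 160 24192, n % 19 = 1 → n = 1 ∨ n = 96 ∨ n = 1008 := by decide +kernel

theorem d2 : ∀ n ∈ dvs 160 24192, 38 < n → n < 678 → (n % 19 = 1 → n = 96) ∧ (n % 19 = 18 → n = 56 ∨ n = 189) := by
  decide +kernel

theorem d3 : ∀ n ∈ dvs 160 24192, 38 < n → ∀ a ≤ 5, ∀ b ≤ 5, ∀ c ≤ 5,
    a + b + c + 1 = 2 ∨ a + b + c + 1 = 3 ∨ a + b + c + 1 = 6 → n < 392 →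
      n + 56 * a + 189 * c ≠ 1 + 96 * b ∧ (n + 1 + 96 * b = 56 * a + 189 * c → n = 108 ∧ a = 2 ∧ a + b + c = 5) := by
  simp only [← List.mem_range, ← Nat.lt_succ_iff (n := 5)]
  decide +kernel

open scoped Classical

/-- No finite simple group has order 459648 = 2^7 * 3^3 * 7 * 19. -/
theorem result {G : Type*} [Group G] [Finite G] [IsSimpleGroup G] : Nat.card G ≠ 459648 := by
  intro hG
  have : Fact (Nat.Prime 19) := ⟨by norm_num⟩
  have hnc := noncomm_of_card (G := G) (by rw [hG]; norm_num)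
  obtain ⟨P⟩ : Nonempty (Sylow 19 G) := inferInstance
  obtain ⟨e, X, Y, δ, ε, S, h⟩ := exists_bd (perf_of_simple hnc) P
    (SylNum.card_sylow_eq_prime (m := 24192) hG (by norm_num) P)
  obtain ⟨w, -, hw, -, hw2⟩ := h.exists_w
  have he := h.one_lt_e
  have te := h.cardY
  have cX := h.cardX
  have hd := fun χ h1 => h.dg_dvd_eM (χ := χ) h1
  have h1 := one_lt_syl hnc (p := 19) (by rw [hG]; norm_num)
  have h2 : Nat.card (Sylow 19 G) % 19 = 1 := card_sylow_modEq_one 19 G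
  rw [← SylNum.card_syl P] at hw hd
  rw [hG] at hw
  generalize Nat.card (Sylow 19 G) = n at *
  have h3 := d1 n ((mem_dvs (by norm_num) (by norm_num)).2 ⟨e * w, by linarith⟩) h2
  have h4 : e ∣ 18 := Dvd.intro_left _ (Nat.succ_injective te)
  have h5 : e ≤ 18 := Nat.le_of_dvd (by norm_num) h4
  obtain ⟨-, y, hy, ho⟩ := hw2 2 Nat.prime_two (by
    rcases h3 with rfl | rfl | rfl
    · omega
    all_goals interval_cases e <;> omega)
  have hy1 : y ≠ 1 := by rintro rfl; simp at ho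
  have hyp : ¬ 19 ∣ orderOf y := by rw [ho]; norm_num
  have hy2 : y ^ 2 = 1 := ho ▸ pow_orderOf_eq_one y
  have hb : ∀ χ ∈ X ∪ Y, 38 < dg χ ∧ dg χ ∈ dvs 160 24192 := fun χ h1 =>
    ⟨h.big h1 hy hyp (faithful (h.ne_one h1) hy1), (mem_dvs (by norm_num) (by norm_num)).2 (by
      simpa [hG] using h.dg_dvd' h1)⟩
  have hX : ∀ χ ∈ X, (δ χ = -1 ∧ dg χ = 56) ∨ (δ χ = 1 ∧ dg χ = 96) ∨ (δ χ = -1 ∧ dg χ = 189) := fun χ h1 => by
    obtain ⟨h6, h7⟩ := hb χ (Finset.mem_union_left _ h1)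
    have h8 := h.sq_lt (Finset.mem_union_left _ h1)
    have h9 := d2 _ h7 h6 (by rw [hG] at h8; nlinarith)
    have := h.dvdX h1
    rcases h.sgn χ h1 with h10 | h10 <;> rw [h10] at this ⊢ <;> omega
  obtain ⟨θ, hθ⟩ := h.Y_ne
  have hr := h.relZ hθ
  obtain ⟨h6, h7⟩ := hb θ (Finset.mem_union_right _ hθ)
  rcases h3 with rfl | rfl | rfl
  · omega
  · rw [Finset.sum_congr rfl (g := fun _ => 96) fun χ h1 => by
      have := (hd χ (Finset.mem_union_left _ h1)).trans (Nat.mul_dvd_mul_right h4 96)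
      rcases hX χ h1 with h | h | h <;> rw [h.2] at this ⊢ <;> first | omega | simp [h.1]] at hr
    obtain ⟨k, hk⟩ := hd θ (Finset.mem_union_right _ hθ)
    simp only [Finset.sum_const, nsmul_eq_mul] at hr
    have h8 : dg θ + 95 = 96 * e := by rcases h.esgn with rfl | rfl <;> omega
    rcases k with _ | _ | k
    · omega
    · omega
    · nlinarith
  obtain ⟨a, b, c, h8, h9, h10⟩ := cnt3 X (fun χ => δ χ * dg χ) (-56) 96 (-189) fun χ h1 => by
    rcases hX χ h1 with h | h | h <;> simp [h]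
  have h11 : e = 2 ∨ e = 3 ∨ e = 6 := by interval_cases e <;> omega
  have h12 := h.sq_le hθ
  have h13 : 3 ≤ Y.card := by rcases h11 with rfl | rfl | rfl <;> omega
  have h14 := d3 _ h7 h6 a (by omega) b (by omega) c (by omega) (by omega) (by
    have := Nat.mul_le_mul_right (dg θ ^ 2) h13
    rw [hG] at h12
    have : 3 * dg θ ^ 2 < 459648 := by omega
    nlinarith)
  rw [h9] at hr
  obtain ⟨rfl, h15, rfl, h16⟩ : ε = -1 ∧ dg θ = 108 ∧ a = 2 ∧ a + b + c = 5 := by
    rcases h.esgn with rfl | rfl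
    · omega
    · exact ⟨rfl, h14.2 (by omega)⟩
  obtain ⟨χ, hχ, h17⟩ := h10.resolve_left (by norm_num)
  obtain ⟨h18, h19⟩ : δ χ = -1 ∧ dg χ = 56 := by rcases hX χ hχ with h | h | h <;> simp [h] at h17 ⊢
  have ht : Y.card = 3 := by rw [show e = 6 by omega] at te; omega
  obtain ⟨x, hx, hx1⟩ := h.exists_x
  have hxy : Commute x y := hy x hx
  have hxp : x ^ 19 ^ 1 = 1 := by rw [pow_one, ← order_eq h.prime h.card hx hx1, pow_orderOf_eq_one]
  obtain ⟨k, hk, hk'⟩ := invol_val h.perf χ.2.isCharacter hy2 (dg_cast χ)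
  obtain ⟨j, hj, hj'⟩ := invol_val h.perf θ.2.isCharacter hy2 (dg_cast θ)
  have k1 := χ.2.isGen.prime_dvd_of_sub_eq h.prime hxy hxp (n := -1 - (56 - 4 * k)) (by
    rw [h.const χ (Finset.mem_union_left _ hχ) x hx hx1 y hxy hyp, h.valX χ hχ x hx hx1, hk', h18, h19]; simp)
  have k2 := (IsCharacter.sum (s := Y) fun θ _ => θ.2.isCharacter).isGen.prime_dvd_of_sub_eq h.prime hxy hxp
    (n := 1 - 3 * (108 - 4 * j)) (by
      rw [Finset.sum_apply, Finset.sum_apply, Finset.sum_congr rfl fun θ h1 =>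
        h.const θ (Finset.mem_union_right _ h1) x hx hx1 y hxy hyp, h.sumY hx hx1,
        Finset.sum_congr rfl fun θ' h1 => (h.agree θ' h1 θ hθ y hyp).trans hj', h15]
      simp [ht]
      ring)
  have k3 : k ≠ 0 := fun e => faithful (h.ne_one (Finset.mem_union_left _ hχ)) hy1 (by simp [hk', e, dg_cast])
  have k4 : j ≠ 0 := fun e => faithful (h.ne_one (Finset.mem_union_right _ hθ)) hy1 (by simp [hj', e, dg_cast])
  have k5 := int_dvd_of_isIntegral_div (a := (centralizer ({y} : Set G)).index * (56 - 4 * k)) (b := 56) (by norm_num)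
    (by simpa [centralChar, hk', dg_cast, h19] using χ.2.isIntegral_centralChar y)
  have k6 := int_dvd_of_isIntegral_div (a := (centralizer ({y} : Set G)).index * (108 - 4 * j)) (b := 108) (by norm_num)
    (by simpa [centralChar, hj', dg_cast, h15] using θ.2.isIntegral_centralChar y)
  have k7 := (centralizer ({y} : Set G)).index_mul_card
  have k8 := (Finset.sum_le_sum_of_subset_of_nonneg (Finset.subset_univ Y) fun _ _ _ => by positivity).trans
    (sum_norm_sq_column y).le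
  rw [Finset.sum_congr rfl fun θ' h1 => by rw [(h.agree θ' h1 θ hθ y hyp).trans hj', h15], Finset.sum_const, ht] at k8
  obtain rfl : k = 19 := by omega
  have k9 : 378 ≤ (centralizer ({y} : Set G)).index := Nat.le_of_dvd (Nat.pos_of_ne_zero index_ne_zero_of_finite) (by
    rcases (show j = 19 ∨ j = 38 by omega) with rfl | rfl <;> omega)
  have k10 : Nat.card (centralizer ({y} : Set G)) ≤ 1216 := by nlinarith
  rcases (show j = 19 ∨ j = 38 by omega) with rfl | rfl <;> norm_num at k8 <;> omega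

end Cfsg.Agent.S1022
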