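import Cfsg.Statements.S1026
import Cfsg.Agent.Lib.Chev.Bridge

set_option autoImplicit false
open Cfsg

namespace Cfsg.Agent.S1026

/-- Every element of `U` has a unique expression `∏_{r ∈ Φ⁺} x_r(t_r)`, the product over the positive roots in increasing index order (the coefficient family `t`, supported on the positive roots, exists and is unique); and conversely every such ordered product is the matrix of an element of `U`. -/
theorem result {F : Type*} [Field F] (D : Cfsg.Lie.ChevalleyDatum) (hD : D ∈ [Cfsg.Lie.chevG2, Cfsg.Lie.chevB2, Cfsg.Lie.chevD4, Cfsg.Lie.chevF4, Cfsg.Lie.chevE6, Cfsg.Lie.chevE7, Cfsg.Lie.chevE8]) :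
    (∀ g : GL D.Idx F, g ∈ D.posUnipotent F →
      ∃! t : ℕ → F, (∀ r, ¬ D.IsPosRoot r → t r = 0) ∧
        (g : Matrix D.Idx D.Idx F) = D.wordMat F (D.posRoots.map fun r => (r, t r))) ∧
    (∀ t : ℕ → F, ∃ g : GL D.Idx F, g ∈ D.posUnipotent F ∧
      (g : Matrix D.Idx D.Idx F) = D.wordMat F (D.posRoots.map fun r => (r, t r))) := by
  obtain ⟨c, h⟩ := Chev.checked_of_mem hD
  let L : List (Fin D.nroots) := (List.finRange D.nroots).filter fun r => decide (D.IsPosRoot r)
  have hL : L.Nodup := (List.nodup_finRange _).filter _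
  have hm : ∀ r, r ∈ L ↔ r ∈ {r | h.toRS.Pos r} := fun r => by simp [L, h.isPos_iff]
  have e : ∀ t : ℕ → F, (((h.st F).P L fun r => t r : GL D.Idx F) : Matrix D.Idx D.Idx F) =
      D.wordMat F (D.posRoots.map fun r => (r, t r)) := by
    intro t
    rw [h.st_P, Cfsg.Lie.ChevalleyDatum.posRoots, ← List.map_coe_finRange_eq_range, List.filter_map,
      List.map_map]
    rfl
  rw [h.U_eq]
  refine ⟨fun g hg => ?_, fun t => ⟨_, Chev.St.P_mem (fun r => (hm r).1) _, e t⟩⟩
  obtain ⟨t, rfl⟩ := Chev.St.exists_P Chev.RS.unip_pos hL hm hg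
  refine ⟨fun r => if hr : D.IsPosRoot r then t ⟨r, hr.1⟩ else 0, ⟨fun r hr => dif_neg hr, ?_⟩, ?_⟩
  · rw [← e]
    congr 1
    exact Chev.St.P_congr fun r hr => by rw [dif_pos ((h.isPos_iff r).2 ((hm r).1 hr))]
  · rintro t' ⟨h1, h2⟩
    rw [← e] at h2
    have := Chev.St.P_inj Chev.RS.unip_pos hL (fun r => (hm r).1) (Units.ext h2)
    ext r
    split_ifs with hr
    · exact (this ⟨r, hr.1⟩ ((hm _).2 ((h.isPos_iff ⟨r, hr.1⟩).1 hr))).symm
    · exact h1 r hr

end Cfsg.Agent.S1026
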