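import Cfsg.Statements.S1030
import Cfsg.Agent.Lib.Chev.More

set_option autoImplicit false
open Cfsg

namespace Cfsg.Agent.S1030

open Chev Cfsg.Lie Checked

/-- There is a homomorphism `SL₂(F) → GL` with image `⟨X_r, X_{-r}⟩` sending `[[1,t],[0,1]]` to `x_r(t)` and `[[1,0],[t,1]]` to `x_{-r}(t)`. -/
theorem result {F : Type*} [Field F] (D : Cfsg.Lie.ChevalleyDatum) (hD : D ∈ [Cfsg.Lie.chevG2, Cfsg.Lie.chevB2, Cfsg.Lie.chevD4, Cfsg.Lie.chevF4, Cfsg.Lie.chevE6, Cfsg.Lie.chevE7, Cfsg.Lie.chevE8]) (r : ℕ) (hr : r < D.nroots) :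
    ∃ φ : Matrix.SpecialLinearGroup (Fin 2) F →* GL D.Idx F,
      φ.range = D.rootSubgroup F r ⊔ D.rootSubgroup F (D.neg r) ∧
      ∀ (g : Matrix.SpecialLinearGroup (Fin 2) F) (t : F),
        ((g : Matrix (Fin 2) (Fin 2) F) = !![1, t; 0, 1] → ((φ g : GL D.Idx F) : Matrix D.Idx D.Idx F) = D.x F r t) ∧
        ((g : Matrix (Fin 2) (Fin 2) F) = !![1, 0; t, 1] → ((φ g : GL D.Idx F) : Matrix D.Idx D.Idx F) = D.x F (D.neg r) t) := by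
  obtain ⟨c, h⟩ := checked_of_mem hD
  obtain ⟨φ, hφ⟩ : ∃ φ : Matrix.SpecialLinearGroup (Fin 2) F →* GL D.Idx F, ∀ (g : Matrix.SpecialLinearGroup (Fin 2) F) (t : F),
      ((g : Matrix (Fin 2) (Fin 2) F) = !![1, t; 0, 1] → φ g = (h.st F).x ⟨r, hr⟩ t) ∧
      ((g : Matrix (Fin 2) (Fin 2) F) = !![1, 0; t, 1] → φ g = (h.st F).x ⟨_, h.neg_lt hr⟩ t) :=
    ((h.st F).rk1 ⟨r, hr⟩).exists_hom (h.hMul_st.all _)
  rw [h.root_eq hr, h.root_eq (h.neg_lt hr)]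
  refine ⟨φ, le_antisymm ?_ ?_, fun g t => ⟨fun e => ?_, fun e => ?_⟩⟩
  · rw [MonoidHom.range_eq_map, Subgroup.map_le_iff_le_comap, top_le_iff]
    refine sl2_eq_top fun g t e => ?_
    rw [Subgroup.mem_comap]
    rcases e with e | e
    · rw [(hφ g t).1 e]; exact Subgroup.mem_sup_left (St.x_mem (Set.mem_singleton _) t)
    · rw [(hφ g t).2 e]; exact Subgroup.mem_sup_right (St.x_mem (Set.mem_singleton _) t)
  · refine sup_le (St.Ux_le.2 ?_) (St.Ux_le.2 ?_) <;> rintro _ rfl t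
    · exact ⟨⟨!![1, t; 0, 1], by simp⟩, (hφ _ t).1 rfl⟩
    · exact ⟨⟨!![1, 0; t, 1], by simp⟩, (hφ _ t).2 rfl⟩
  · rw [(hφ g t).1 e, st_x]
  · rw [(hφ g t).2 e, st_x]

end Cfsg.Agent.S1030
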