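import Cfsg.Statements.S1035
import Cfsg.Agent.Lib.Chev.Order

set_option autoImplicit false
open Cfsg

namespace Cfsg.Agent.S1035

/-- `d · |H| = (q - 1)^rank` over a field with `q` elements, with `d = 1` (G₂, F₄, E₈), `gcd(3, q-1)` (E₆), `gcd(2, q-1)` (E₇, B₂), `gcd(2, q-1)²` (D₄). -/
theorem result {F : Type*} [Field F] [Fintype F] {q : ℕ} (hq : Fintype.card F = q)
    (p : Cfsg.Lie.ChevalleyDatum × ℕ)
    (hp : p ∈ [(Cfsg.Lie.chevG2, 1), (Cfsg.Lie.chevF4, 1), (Cfsg.Lie.chevE8, 1), (Cfsg.Lie.chevE6, Nat.gcd 3 (q - 1)),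
      (Cfsg.Lie.chevE7, Nat.gcd 2 (q - 1)), (Cfsg.Lie.chevB2, Nat.gcd 2 (q - 1)), (Cfsg.Lie.chevD4, Nat.gcd 2 (q - 1) ^ 2)]) :
    p.2 * Nat.card (p.1.diagonalSubgroup F) = (q - 1) ^ p.1.rank := by
  open Cfsg.Agent.Chev in
  have key : ∀ {D : Cfsg.Lie.ChevalleyDatum} {c : Cert} (h : Checked D c) {k : ℕ},
      Nat.card (zmap Fˣ h.toRS.cm).ker = k → k * Nat.card (D.diagonalSubgroup F) = (q - 1) ^ D.rank := by
    intro D c h k hk
    have := St.card_H (S := h.st F) h.st_inj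
    rwa [Nat.card_eq_fintype_card (α := F), hq, Fintype.card_fin, ← h.H_eq, show h.toCD.cm = h.toRS.cm from rfl,
      hk] at this
  simp only [List.mem_cons, List.not_mem_nil, or_false] at hp
  open Cfsg.Agent.Chev in
  rcases hp with rfl | rfl | rfl | rfl | rfl | rfl | rfl
  exacts [key _ (ker_G2 _), key _ (ker_F4 _), key _ (ker_E8 _),
    key _ (card_units_eq hq ▸ ker_E6 _), key _ (card_units_eq hq ▸ ker_E7 _),
    key _ (card_units_eq hq ▸ ker_B2 _), key _ (card_units_eq hq ▸ ker_D4 _)]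

end Cfsg.Agent.S1035
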