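import Cfsg.Statements.S1039
import Cfsg.Agent.Lib.Chev.Order

set_option autoImplicit false
open Cfsg

namespace Cfsg.Agent.S1039

/-- `N/H ≅ W`: there is a surjective homomorphism from `N` onto the Coxeter group of the type (Mathlib's Coxeter matrix G₂, B₂, F₄, E₆, E₇, E₈, nodes numbered as the fundamental roots) with kernel `H`, mapping each `n_{p_i}` to the `i`-th simple reflection. -/
theorem result {F : Type*} [Field F]
    (p : Cfsg.Lie.ChevalleyDatum × (Σ n : ℕ, CoxeterMatrix (Fin n)))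
    (hp : p ∈ [(Cfsg.Lie.chevG2, ⟨2, CoxeterMatrix.G₂⟩), (Cfsg.Lie.chevB2, ⟨2, CoxeterMatrix.B 2⟩), (Cfsg.Lie.chevD4, ⟨4, Cfsg.Lie.coxeterD4⟩), (Cfsg.Lie.chevF4, ⟨4, CoxeterMatrix.F₄⟩),
      (Cfsg.Lie.chevE6, ⟨6, CoxeterMatrix.E₆⟩), (Cfsg.Lie.chevE7, ⟨7, CoxeterMatrix.E₇⟩), (Cfsg.Lie.chevE8, ⟨8, CoxeterMatrix.E₈⟩)]) :
    ∃ φ : ↥(p.1.monomialSubgroup F) →* p.2.2.Group, Function.Surjective φ ∧
      φ.ker = (p.1.diagonalSubgroup F).subgroupOf (p.1.monomialSubgroup F) ∧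
      ∀ (i : Fin p.2.1) (g : ↥(p.1.monomialSubgroup F)),
        ((g : GL p.1.Idx F) : Matrix p.1.Idx p.1.Idx F) = p.1.nMat F (p.1.simple i) 1 → φ g = p.2.2.simple i := by
  open Cfsg.Agent.Chev in
  have key : ∀ {D : Cfsg.Lie.ChevalleyDatum} {c : Cert} (h : Checked D c) (M : CoxeterMatrix (Fin D.rank)),
      (∃ cs : CoxeterSystem M h.toCD.W, ∀ i, cs.simple i = h.toCD.s i) →
      ∃ φ : ↥(D.monomialSubgroup F) →* M.Group, Function.Surjective φ ∧
      φ.ker = (D.diagonalSubgroup F).subgroupOf (D.monomialSubgroup F) ∧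
      ∀ (i : Fin D.rank) (g : ↥(D.monomialSubgroup F)),
        ((g : GL D.Idx F) : Matrix D.Idx D.Idx F) = D.nMat F (D.simple i) 1 → φ g = M.simple i := by
    rintro D c h M ⟨cs, hcs⟩
    rw [h.N_eq, h.H_eq]
    refine ⟨cs.mulEquiv.toMonoidHom.comp (h.st F).π, cs.mulEquiv.surjective.comp St.π_surj, ?_, ?_⟩
    · rw [← St.π_ker, ← MonoidHom.comap_ker, (MonoidHom.ker_eq_bot_iff _).2 cs.mulEquiv.injective]
      rfl
    · rintro i ⟨g, hg⟩ e
      obtain rfl := (h.eq_n_one_iff (h.sim_lt i.2)).1 e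
      have := St.π_eq (m := ⟨_, hg⟩) (St.acts_n (S := h.st F) i 1)
      rw [MonoidHom.comp_apply, this]
      exact (congrArg cs.mulEquiv (hcs i).symm).trans (cs.mulEquiv.apply_symm_apply _)
  simp only [List.mem_cons, List.not_mem_nil, or_false] at hp
  open Cfsg.Agent.Chev in
  rcases hp with rfl | rfl | rfl | rfl | rfl | rfl | rfl
  exacts [key checkedG2 _ cox_G2, key checkedB2 _ cox_B2, key checkedD4 _ cox_D4, key checkedF4 _ cox_F4, key checkedE6 _ cox_E6, key checkedE7 _ cox_E7,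
    key checkedE8 _ cox_E8]

end Cfsg.Agent.S1039
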