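import Cfsg.Statements.S1044
import Cfsg.Agent.Lib.Chev.Bridge

set_option autoImplicit false
open Cfsg

namespace Cfsg.Agent.S1044

/-- For a fundamental root `p` the set `B ∪ B n_p B` is (the carrier of) a subgroup of the general linear group. -/
theorem result {F : Type*} [Field F] (D : Cfsg.Lie.ChevalleyDatum) (hD : D ∈ [Cfsg.Lie.chevG2, Cfsg.Lie.chevB2, Cfsg.Lie.chevD4, Cfsg.Lie.chevF4, Cfsg.Lie.chevE6, Cfsg.Lie.chevE7, Cfsg.Lie.chevE8]) (i : ℕ) (hi : i < D.rank) (n : GL D.Idx F)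
    (hn : (n : Matrix D.Idx D.Idx F) = D.nMat F (D.simple i) 1) :
    ∃ P : Subgroup (GL D.Idx F), (P : Set (GL D.Idx F)) =
      (D.borelSubgroup F : Set (GL D.Idx F)) ∪ DoubleCoset.doubleCoset n (D.borelSubgroup F : Set (GL D.Idx F)) (D.borelSubgroup F) := by
  obtain ⟨c, h⟩ := Chev.checked_of_mem hD
  rw [h.B_eq]
  obtain rfl := (h.eq_n_one_iff (h.sim_lt hi)).1 hn
  refine ⟨(h.st F).PJ {⟨i, hi⟩}, ?_⟩
  ext g
  simp only [SetLike.mem_coe, Set.mem_union, DoubleCoset.mem_doubleCoset, Chev.St.mem_PJ_iff]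
  constructor
  · rintro ⟨b, hb, m, hm, b', hb', rfl⟩
    have := Chev.St.NJ_induction (p := fun m => m ∈ (h.st F).H ∨ ∃ k ∈ (h.st F).H,
      m = (h.st F).n (h.toRS.sim ⟨i, hi⟩) 1 * k) (fun k hk => Or.inl hk) (by
        rintro _ rfl m - (hm | ⟨k, hk, rfl⟩)
        · exact Or.inr ⟨m, hm, rfl⟩
        · left; rw [← mul_assoc]; exact mul_mem (Chev.St.n_mul_n_mem _ _ _) hk) hm
    rcases this with hm | ⟨k, hk, rfl⟩
    · exact Or.inl (mul_mem (mul_mem hb (Chev.St.H_le_B hm)) hb')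
    · exact Or.inr ⟨b, hb, k * b', mul_mem (Chev.St.H_le_B hk) hb', by simp only [mul_assoc]; rfl⟩
  · rintro (hb | ⟨b, hb, b', hb', rfl⟩)
    · exact ⟨g, hb, 1, one_mem _, 1, one_mem _, by simp⟩
    · exact ⟨b, hb, _, Chev.St.n_mem_NJ (Set.mem_singleton (⟨i, hi⟩ : Fin D.rank)) 1, b', hb', rfl⟩

end Cfsg.Agent.S1044
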