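import Cfsg.Statements.S1045
import Cfsg.Agent.Lib.Chev.Bridge

set_option autoImplicit false
open Cfsg

namespace Cfsg.Agent.S1045

/-- For a fundamental root `p`, the subgroup `U_p` generated by the `X_s`, `s` positive and `s ≠ p`, is normalised by `X_p` and `X_{-p}`, and `U = U_p ⊔ X_p`. -/
theorem result {F : Type*} [Field F] (D : Cfsg.Lie.ChevalleyDatum) (hD : D ∈ [Cfsg.Lie.chevG2, Cfsg.Lie.chevB2, Cfsg.Lie.chevD4, Cfsg.Lie.chevF4, Cfsg.Lie.chevE6, Cfsg.Lie.chevE7, Cfsg.Lie.chevE8]) (i : ℕ) (hi : i < D.rank) :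
    D.rootSubgroup F (D.simple i) ⊔ D.rootSubgroup F (D.neg (D.simple i)) ≤
        Subgroup.normalizer (Subgroup.closure {g : GL D.Idx F | ∃ (s : ℕ) (t : F), D.IsPosRoot s ∧ s ≠ D.simple i ∧
          (g : Matrix D.Idx D.Idx F) = D.x F s t} : Set (GL D.Idx F)) ∧
      Subgroup.closure {g : GL D.Idx F | ∃ (s : ℕ) (t : F), D.IsPosRoot s ∧ s ≠ D.simple i ∧
          (g : Matrix D.Idx D.Idx F) = D.x F s t} ⊔ D.rootSubgroup F (D.simple i) = D.posUnipotent F := by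
  obtain ⟨c, h⟩ := Chev.checked_of_mem hD
  have e := h.closure_eq (F := F) (fun s => D.IsPosRoot s ∧ s ≠ D.simple i) fun _ h => h.1.1
  simp only [and_assoc] at e
  have e2 : {r : Fin D.nroots | D.IsPosRoot r ∧ r.val ≠ D.simple i} =
      {r | h.toRS.Pos r ∧ ¬ h.toRS.InJ {⟨i, hi⟩} r} := by
    ext r
    simp only [Set.mem_ofPred_eq, h.isPos_iff, and_congr_right_iff]
    intro hp
    refine not_congr ⟨fun e => ?_, fun e => ?_⟩
    · rw [show r = h.toRS.sim ⟨i, hi⟩ from Fin.ext e]; exact Chev.RS.inJ_sim.2 (Set.mem_singleton _)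
    · exact congrArg Fin.val (Chev.RS.eq_sim_of_support hp e)
  rw [e, e2, h.root_eq (h.sim_lt hi), h.root_eq (h.neg_lt (h.sim_lt hi)), h.U_eq]
  constructor
  · have : (h.st F).PJ {⟨i, hi⟩} ≤ Subgroup.normalizer ((h.st F).UJ {⟨i, hi⟩} : Set (GL D.Idx F)) := by
      intro g hg
      refine Subgroup.mem_normalizer_iff.2 fun u => ⟨Chev.St.conj_UJ hg, fun hu => ?_⟩
      simpa [mul_assoc] using Chev.St.conj_UJ (inv_mem hg) hu
    refine le_trans (sup_le (Chev.St.Ux_le.2 ?_) (Chev.St.Ux_le.2 ?_)) this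
    · rintro _ rfl t
      exact Chev.St.x_mem_PJ (r := h.toCD.sim ⟨i, hi⟩)
        (Or.inr (Chev.RS.inJ_sim.2 (Set.mem_singleton _))) t
    · rintro _ rfl t
      exact Chev.St.x_mem_PJ (r := h.toCD.neg (h.toCD.sim ⟨i, hi⟩))
        (Or.inr (Chev.RS.InJ.neg (Chev.RS.inJ_sim.2 (Set.mem_singleton _)))) t
  · rw [← Chev.St.Ux_union, ← e2]
    refine congrArg (h.st F).Ux ?_
    ext r
    simp only [Set.mem_union, Set.mem_ofPred_eq, Set.mem_singleton_iff, h.isPos_iff, Fin.ext_iff]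
    refine ⟨?_, fun hp => (em (r.val = D.simple i)).symm.imp (fun e => ⟨hp, e⟩) id⟩
    rintro (h1 | h1)
    · exact h1.1
    · rw [show r = h.toRS.sim ⟨i, hi⟩ from Fin.ext h1]; exact h.toRS.pos_sim _

end Cfsg.Agent.S1045
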