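import Cfsg.Statements.S1046
import Cfsg.Agent.Lib.Chev.Bridge

set_option autoImplicit false
open Cfsg

namespace Cfsg.Agent.S1046

/-- Two elements of `H` conjugate in the Chevalley group are conjugate by an element of `N`. -/
theorem result {F : Type*} [Field F] (D : Cfsg.Lie.ChevalleyDatum) (hD : D ∈ [Cfsg.Lie.chevG2, Cfsg.Lie.chevB2, Cfsg.Lie.chevD4, Cfsg.Lie.chevF4, Cfsg.Lie.chevE6, Cfsg.Lie.chevE7, Cfsg.Lie.chevE8]) (h₁ h₂ g : GL D.Idx F) (h1 : h₁ ∈ D.diagonalSubgroup F) (h2 : h₂ ∈ D.diagonalSubgroup F)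
    (hg : g ∈ D.group F) (hc : g * h₁ * g⁻¹ = h₂) :
    ∃ n ∈ D.monomialSubgroup F, n * h₁ * n⁻¹ = h₂ := by
  obtain ⟨c, h⟩ := Chev.checked_of_mem hD
  rw [h.H_eq] at h1 h2
  rw [h.group_eq] at hg
  rw [h.N_eq]
  obtain ⟨b, hb, m, hm, w, hw, u, hu, rfl⟩ := Chev.St.bruhat hg
  obtain ⟨v, hv, k, hk, rfl⟩ := Chev.St.mem_B_iff.1 hb
  have hm' := mul_mem (Chev.St.H_le_N hk) hm
  refine ⟨k * m, hm', ?_⟩
  have hw' := (Chev.St.acts_of_mem_H hk).mul hw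
  rw [one_mul] at hw'
  have e : (v * (k * m * h₁ * (k * m)⁻¹)) * (k * m) * (h₁⁻¹ * u * h₁⁻¹⁻¹) = (h₂ * v) * (k * m) * u := by
    rw [← hc]; group
  have a1 := Chev.St.conj_mem_H hm' h1
  have := (Chev.St.normal_form_unique hw' (mul_mem (Chev.St.U_le_B hv) (Chev.St.H_le_B a1))
    (mul_mem (Chev.St.H_le_B h2) (Chev.St.U_le_B hv)) (Chev.St.conj_H_Ux (inv_mem h1) hu) hu e).1
  have e2 : (k * m * h₁ * (k * m)⁻¹) * h₂⁻¹ = v⁻¹ * (h₂ * v * h₂⁻¹) := by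
    rw [← this]; group
  have := Chev.St.eq_one_of_mem_H Chev.RS.unip_pos (mul_mem (inv_mem hv) (Chev.St.conj_H_Ux h2 hv))
    (e2 ▸ mul_mem a1 (inv_mem h2))
  rw [this] at e2
  exact mul_inv_eq_one.1 e2

end Cfsg.Agent.S1046
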