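import Cfsg.Statements.S1049
import Cfsg.Agent.Lib.Chev.Bridge

set_option autoImplicit false
open Cfsg

namespace Cfsg.Agent.S1049

/-- `N_G(U_J) = P_J`: the normaliser of `U_J` inside the Chevalley group is the standard parabolic subgroup. -/
theorem result {F : Type*} [Field F] (D : Cfsg.Lie.ChevalleyDatum) (hD : D ∈ [Cfsg.Lie.chevG2, Cfsg.Lie.chevB2, Cfsg.Lie.chevD4, Cfsg.Lie.chevF4, Cfsg.Lie.chevE6, Cfsg.Lie.chevE7, Cfsg.Lie.chevE8]) (J : Set ℕ) (hJ : ∀ j ∈ J, j < D.rank) :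
    Subgroup.normalizer (D.unipotentRadical F J : Set (GL D.Idx F)) ⊓ D.group F = D.parabolicSubgroup F J := by
  obtain ⟨c, h⟩ := Chev.checked_of_mem hD
  rw [h.PJ_eq, h.UJ_eq, h.group_eq]
  refine le_antisymm (fun g hg => Chev.St.mem_PJ_of_conj hg.2 fun u hu => Chev.St.U_le_B
    (Chev.St.Ux_mono (fun _ h => h.1) ((Subgroup.mem_normalizer_iff.1 hg.1 u).1 hu)))
    (le_inf (fun g hg => ?_) (Chev.St.PJ_le_Gx _))
  refine Subgroup.mem_normalizer_iff.2 fun u => ⟨Chev.St.conj_UJ hg, fun hu => ?_⟩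
  simpa [mul_assoc] using Chev.St.conj_UJ (inv_mem hg) hu

end Cfsg.Agent.S1049
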