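import Cfsg.Statements.S1053
import Cfsg.Agent.Lib.Chev.Bridge

set_option autoImplicit false
open Cfsg

namespace Cfsg.Agent.S1053

/-- There is `n₀ ∈ N` with `n₀ U n₀⁻¹ = V` (a representative of the longest element of the Weyl group). -/
theorem result {F : Type*} [Field F] (D : Cfsg.Lie.ChevalleyDatum) (hD : D ∈ [Cfsg.Lie.chevG2, Cfsg.Lie.chevB2, Cfsg.Lie.chevD4, Cfsg.Lie.chevF4, Cfsg.Lie.chevE6, Cfsg.Lie.chevE7, Cfsg.Lie.chevE8]) :
    ∃ n ∈ D.monomialSubgroup F, (D.posUnipotent F).map (MulAut.conj n).toMonoidHom = D.negUnipotent F := by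
  obtain ⟨c, h⟩ := Chev.checked_of_mem hD
  rw [h.N_eq, h.U_eq, h.V_eq]
  obtain ⟨m, hm, hw, h1, h2⟩ := Chev.St.exists_n0 (S := h.st F)
  refine ⟨m, hm, le_antisymm ?_ fun v hv => ⟨m⁻¹ * v * m, ?_, by simp [mul_assoc]⟩⟩
  · rintro _ ⟨u, hu, rfl⟩; exact h1 u hu
  · refine hw.conj_mem' (fun r hr => ?_) hv
    rw [Chev.RS.w0_inv]
    exact (Chev.RS.pos_w0_iff fun i hi => absurd trivial hi).2 hr

end Cfsg.Agent.S1053
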