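import Cfsg.Statements.S1072
import Cfsg.Agent.Lib.Chev.TwF4

set_option autoImplicit false
open Cfsg

namespace Cfsg.Agent.S1072

/-- ²F₄(2^(2m+1)) is simple for `m ≥ 1`. -/
theorem result {K : Type*} [Field K] [Fintype K] {m : ℕ} (hm : 1 ≤ m) (hK : Fintype.card K = 2 ^ (2 * m + 1)) :
    IsSimpleGroup ↥(Cfsg.Lie.twistedF4 K (2 ^ m)) ∧ ¬ IsMulCommutative ↥(Cfsg.Lie.twistedF4 K (2 ^ m)) := by
  obtain ⟨_, θ, hf, hθ⟩ := Chev.exists_theta hK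
  haveI : Nonempty (Fin Cfsg.Lie.chevF4.rank) := ⟨Chev.f4n 0⟩
  exact (Chev.sub_2F4 hf hθ).isSimpleGroup (Chev.checkedF4.inc_inj _) Chev.checkedF4.adj_inj Chev.conn_F4
    (Chev.co_2F4 hf) (Chev.perfect_2F4 hf hθ (by rw [hK]; exact lt_self_pow₀ (by norm_num) (by omega)))

end Cfsg.Agent.S1072
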