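import Cfsg.Statements.S1074
import Cfsg.Agent.Lib.Cert.T2.Y

set_option autoImplicit false
set_option maxRecDepth 100000
open Cfsg

namespace Cfsg.Agent.S1074

theorem aux {G : Type} [Group G] (f : Ct.T2.P ≃* G) : IsSimpleGroup G ∧ ¬ IsMulCommutative G ∧ Nat.card G = 2 ^ 11 * 3 ^ 3 * 5 ^ 2 * 13 := by
  have := f.symm.isSimpleGroup
  have c := (Nat.card_congr f.toEquiv).symm.trans Ct.T2.card
  refine ⟨this, fun h => ?_, c⟩
  have t := Ct.ctr_bot c (by norm_num) (by decide)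
  exact bot_ne_top (t.symm.trans (eq_top_iff.mpr fun x _ => Subgroup.mem_center_iff.mpr fun y => h.1.1 y x))

/-- ²F₄(2)′ has index 2 in ²F₄(2), is simple, and has order `2¹¹ · 3³ · 5² · 13`. -/
theorem result : (commutator ↥(Cfsg.Lie.twistedF4 (ZMod 2) 1)).index = 2 ∧ IsSimpleGroup Cfsg.Lie.TitsGroup ∧ ¬ IsMulCommutative Cfsg.Lie.TitsGroup ∧
    Nat.card Cfsg.Lie.TitsGroup = 2 ^ 11 * 3 ^ 3 * 5 ^ 2 * 13 := by
  obtain ⟨φ, -, e, i, -⟩ := Ct.T2.main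
  rw [e] at i
  exact ⟨i, aux Ct.T2.iso.some⟩

end Cfsg.Agent.S1074
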