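import Cfsg.Statements.S1076
import Cfsg.Agent.Lib.Chev.Bridge

set_option autoImplicit false
open Cfsg

namespace Cfsg.Agent.S1076

/-- `h_r(t₁) h_r(t₂) = h_r(t₁ t₂)` for non-zero `t₁, t₂` (the third family of defining relations), as a matrix identity. -/
theorem result {F : Type*} [Field F] (D : Cfsg.Lie.ChevalleyDatum) (hD : D ∈ [Cfsg.Lie.chevG2, Cfsg.Lie.chevB2, Cfsg.Lie.chevD4, Cfsg.Lie.chevF4, Cfsg.Lie.chevE6, Cfsg.Lie.chevE7, Cfsg.Lie.chevE8]) (r : ℕ) (hr : r < D.nroots) (t₁ t₂ : F) (h₁ : t₁ ≠ 0) (h₂ : t₂ ≠ 0) :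
    D.hMat F r t₁ * D.hMat F r t₂ = D.hMat F r (t₁ * t₂) := by
  obtain ⟨c, h⟩ := Chev.checked_of_mem hD
  have e := fun t => congrArg Units.val (Chev.St.isTor_h (S := h.st F) ⟨r, hr⟩ t).1
  simp only [h.st_θ, h.st_h, Chev.RS.tG_val] at e
  have e1 := e (Units.mk0 t₁ h₁)
  have e2 := e (Units.mk0 t₂ h₂)
  have e3 := e (Units.mk0 t₁ h₁ * Units.mk0 t₂ h₂)
  simp only [Units.val_mul, Units.val_mk0] at e1 e2 e3
  rw [e1, e2, e3, ← Chev.RS.tM_mul]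
  congr 1
  ext j; simp [mul_zpow]

end Cfsg.Agent.S1076
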