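import Cfsg.Statements.S1078
import Cfsg.Agent.Lib.Chev.Stein

set_option autoImplicit false
open Cfsg

namespace Cfsg.Agent.S1078

/-- For G₂, F₄, E₈ the presented group has trivial centre (the universal and adjoint groups coincide). -/
theorem result {K : Type*} [Field K] (D : Cfsg.Lie.ChevalleyDatum) (hD : D ∈ [Cfsg.Lie.chevG2, Cfsg.Lie.chevF4, Cfsg.Lie.chevE8]) :
    Subgroup.center (D.SteinbergGroup K) = ⊥ := by
  open Cfsg.Agent.Chev in
  have key : ∀ {D : Cfsg.Lie.ChevalleyDatum} {c : Cert} (h : Checked D c) {M : Matrix _ (Fin D.rank) ℤ},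
      h.toCD.cm * M = 1 → Subgroup.center (D.SteinbergGroup K) = ⊥ := by
    intro D c h M hM
    rw [h.uni_hMul.center_eq h.uni_Gx, (MonoidHom.ker_eq_bot_iff _).2 (zmap_inj hM), Subgroup.map_bot]
  simp only [List.mem_cons, List.not_mem_nil, or_false] at hD
  open Cfsg.Agent.Chev in
  rcases hD with rfl | rfl | rfl
  exacts [key checkedG2 cm_inv_G2, key checkedF4 cm_inv_F4, key checkedE8 cm_inv_E8]

end Cfsg.Agent.S1078
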