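import Cfsg.Statements.S1081
import Cfsg.Agent.Lib.Chev.Aut

set_option autoImplicit false
open Cfsg

namespace Cfsg.Agent.S1081

/-- Graph automorphisms: for E₆ with ρ = (p₁ p₆)(p₃ p₅) and for D₄ with ρ the 3-cycle on the outer nodes there is a group automorphism sending `x_p(t) ↦ x_{ρ(p)}(t)` and `x_{-p}(t) ↦ x_{-ρ(p)}(t)` for every fundamental root `p`. -/
theorem result {F : Type*} [Field F] (p : Cfsg.Lie.ChevalleyDatum × List ℕ)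
    (hp : p ∈ [(Cfsg.Lie.chevE6, [5, 1, 4, 3, 2, 0]), (Cfsg.Lie.chevD4, [2, 1, 3, 0]), (Cfsg.Lie.chevD4, [3, 1, 0, 2])]) :
    ∃ α : ↥(p.1.group F) ≃* ↥(p.1.group F), ∀ (g : ↥(p.1.group F)) (i : ℕ) (t : F), i < p.1.rank →
      (((g : GL p.1.Idx F) : Matrix p.1.Idx p.1.Idx F) = p.1.x F (p.1.simple i) t →
        ((α g : GL p.1.Idx F) : Matrix p.1.Idx p.1.Idx F) = p.1.x F (p.1.simple (p.2.getD i 0)) t) ∧
      (((g : GL p.1.Idx F) : Matrix p.1.Idx p.1.Idx F) = p.1.x F (p.1.neg (p.1.simple i)) t →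
        ((α g : GL p.1.Idx F) : Matrix p.1.Idx p.1.Idx F) = p.1.x F (p.1.neg (p.1.simple (p.2.getD i 0))) t) := by
  open Cfsg.Agent.Chev in
  have key : ∀ {D : Cfsg.Lie.ChevalleyDatum} {c : Cert} (h : Checked D c) (ρ ρ' : h.toCD.Sym) (e e' : ℕ)
      (L : List ℕ), (∀ i, (ρ.ρI i).val = L.getD i 0 ∧ ρ.ρI (ρ'.ρI i) = i ∧ ρ'.ρI (ρ.ρI i) = i) →
      (∃ φ : D.group F →* D.group F, ∀ r t, φ ((h.adj F).x r t) = (h.adj F).x (ρ.ρ r) (etaP e r * t)) →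
      (∃ φ : D.group F →* D.group F, ∀ r t, φ ((h.adj F).x r t) = (h.adj F).x (ρ'.ρ r) (etaP e' r * t)) →
      (∀ i, etaP e (h.toCD.sim i) = 1 ∧ etaP e (h.toCD.neg (h.toCD.sim i)) = 1) →
      (∀ i, etaP e' (h.toCD.sim i) = 1 ∧ etaP e' (h.toCD.neg (h.toCD.sim i)) = 1) →
      ∃ α : ↥(D.group F) ≃* ↥(D.group F), ∀ (g : ↥(D.group F)) (i : ℕ) (t : F), i < D.rank →
      (((g : GL D.Idx F) : Matrix D.Idx D.Idx F) = D.x F (D.simple i) t →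
        ((α g : GL D.Idx F) : Matrix D.Idx D.Idx F) = D.x F (D.simple (L.getD i 0)) t) ∧
      (((g : GL D.Idx F) : Matrix D.Idx D.Idx F) = D.x F (D.neg (D.simple i)) t →
        ((α g : GL D.Idx F) : Matrix D.Idx D.Idx F) = D.x F (D.neg (D.simple (L.getD i 0))) t) := by
    rintro D c h ρ ρ' e e' L hL ⟨φ, hφ⟩ ⟨ψ, hψ⟩ h1 h2
    refine ⟨φ.toMulEquiv ψ (St.hom_ext_sim h.adj_Gx fun i t => ?_) (St.hom_ext_sim h.adj_Gx fun i t => ?_),
      fun g i t hi => ⟨fun e => ?_, fun e => ?_⟩⟩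
    · simp [hφ, hψ, h1, h2, ρ.sim, ρ'.sim, ρ.neg, ρ'.neg, hL]
    · simp [hφ, hψ, h1, h2, ρ.sim, ρ'.sim, ρ.neg, ρ'.neg, hL]
    · rw [(h.eq_adj_x (h.sim_lt hi)).1 e]
      have := hφ (h.toCD.sim ⟨i, hi⟩) t
      rw [(h1 _).1, ρ.sim, Int.cast_one, one_mul] at this
      exact (congrArg (fun g : D.group F => ((g : GL D.Idx F) : Matrix D.Idx D.Idx F)) this).trans
        ((hL ⟨i, hi⟩).1 ▸ rfl)
    · rw [(h.eq_adj_x (h.neg_lt (h.sim_lt hi))).1 e]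
      have := hφ (h.toCD.neg (h.toCD.sim ⟨i, hi⟩)) t
      rw [(h1 _).2, ρ.neg, ρ.sim, Int.cast_one, one_mul] at this
      exact (congrArg (fun g : D.group F => ((g : GL D.Idx F) : Matrix D.Idx D.Idx F)) this).trans
        ((hL ⟨i, hi⟩).1 ▸ rfl)
  simp only [List.mem_cons, List.not_mem_nil, or_false] at hp
  open Cfsg.Agent.Chev in
  rcases hp with rfl | rfl | rfl
  exacts [key checkedE6 symE6 symE6 _ _ _ (by decide +kernel) (graph_E6 F) (graph_E6 F) eta_gE6 eta_gE6,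
    key checkedD4 symD4a symD4b _ _ _ (by decide +kernel) (graph_D4a F) (graph_D4b F) eta_gD4a eta_gD4b,
    key checkedD4 symD4b symD4a _ _ _ (by decide +kernel) (graph_D4b F) (graph_D4a F) eta_gD4b eta_gD4a]

end Cfsg.Agent.S1081
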