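import Cfsg.Statements.S1094
import Cfsg.Agent.Lib.Chev.PoincAll

set_option autoImplicit false
open Cfsg

namespace Cfsg.Agent.S1094

/-- The Coxeter element `s₁ s₂ ⋯ s_l` of the Coxeter group of type B₂, G₂, D₄, F₄, E₆, E₇, E₈ has order `h = 2N/l` = 4, 6, 6, 12, 12, 18, 30. -/
theorem result (p : (Σ n : ℕ, CoxeterMatrix (Fin n)) × ℕ)
    (hp : p ∈ [(⟨2, CoxeterMatrix.B 2⟩, 4), (⟨2, CoxeterMatrix.G₂⟩, 6), (⟨4, Cfsg.Lie.coxeterD4⟩, 6), (⟨4, CoxeterMatrix.F₄⟩, 12),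
      (⟨6, CoxeterMatrix.E₆⟩, 12), (⟨7, CoxeterMatrix.E₇⟩, 18), (⟨8, CoxeterMatrix.E₈⟩, 30)]) :
    orderOf ((List.finRange p.1.1).map p.1.2.simple).prod = p.2 := by
  open Cfsg.Agent.Chev in
  have key : ∀ {n : ℕ} {W : Type} [Group W] {s : Fin n → W} {M : CoxeterMatrix (Fin n)} {m : ℕ},
      (∃ cs : CoxeterSystem M W, ∀ i, cs.simple i = s i) → orderOf (wp s (List.finRange n)) = m →
      orderOf ((List.finRange n).map M.simple).prod = m := by
    rintro n W _ s M m ⟨cs, hcs⟩ h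
    rw [← h, ← cs.mulEquiv.orderOf_eq, ← MulEquiv.coe_toMonoidHom, map_wp]
    congr 3
    ext i
    exact ((congrArg cs.mulEquiv (hcs i).symm).trans (cs.mulEquiv.apply_symm_apply _)).symm
  simp only [List.mem_cons, List.not_mem_nil, or_false] at hp
  open Cfsg.Agent.Chev in
  rcases hp with rfl | rfl | rfl | rfl | rfl | rfl | rfl
  exacts [key cox_B2 coxElt_B2, key cox_G2 coxElt_G2, key cox_D4 coxElt_D4, key cox_F4 coxElt_F4,
    key cox_E6 coxElt_E6, key cox_E7 coxElt_E7, key cox_E8 coxElt_E8]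

end Cfsg.Agent.S1094
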