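import Cfsg.Statements.S1096
import Cfsg.Agent.Lib.Chev.Bridge

set_option autoImplicit false
open Cfsg

namespace Cfsg.Agent.S1096

/-- `n_p h_{p_j}(t) n_p⁻¹ = h_{w_p(p_j)}(t)` for fundamental `p`, `p_j` and `t ≠ 0`, stated as `n_p h_{p_j}(t) = h_{w_p(p_j)}(t) n_p`. -/
theorem result {F : Type*} [Field F] (D : Cfsg.Lie.ChevalleyDatum) (hD : D ∈ [Cfsg.Lie.chevG2, Cfsg.Lie.chevB2, Cfsg.Lie.chevD4, Cfsg.Lie.chevF4, Cfsg.Lie.chevE6, Cfsg.Lie.chevE7, Cfsg.Lie.chevE8]) (i j : ℕ) (hi : i < D.rank) (hj : j < D.rank) (t : F) (ht : t ≠ 0) :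
    D.nMat F (D.simple i) 1 * D.hMat F (D.simple j) t = D.hMat F (D.reflectRoot i (D.simple j)) t * D.nMat F (D.simple i) 1 := by
  obtain ⟨c, h⟩ := Chev.checked_of_mem hD
  have h1 := (Chev.St.isTor_h (S := h.st F) (h.toRS.sim ⟨j, hj⟩) (Units.mk0 t ht)).conj
    (Chev.St.h_mem _ _) (Chev.St.n_sim_mem ⟨i, hi⟩ 1) (Chev.St.acts_n _ _)
  have h2 := Chev.St.isTor_h (S := h.st F) (h.toRS.rf ⟨i, hi⟩ (h.toRS.sim ⟨j, hj⟩)) (Units.mk0 t ht)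
  have e : (h.st F).n (h.toCD.sim ⟨i, hi⟩) 1 * (h.st F).h (h.toRS.sim ⟨j, hj⟩) (Units.mk0 t ht) *
      ((h.st F).n (h.toCD.sim ⟨i, hi⟩) 1)⁻¹ =
      (h.st F).h (h.toRS.rf ⟨i, hi⟩ (h.toRS.sim ⟨j, hj⟩)) (Units.mk0 t ht) := by
    refine h1.1.trans (Eq.trans ?_ h2.1.symm)
    congr 1
    ext k
    rw [Chev.RS.chi_pair, Chev.RS.s_inv, Chev.RS.s_smul, ← h.toCD.pair_rf ⟨i, hi⟩, h.toCD.rf_rf]
    rfl
  rw [mul_inv_eq_iff_eq_mul] at e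
  have e2 := congrArg Units.val e
  simp only [Units.val_mul, h.st_h, h.st_n] at e2
  rw [((h.eta_spec hi).2.2 _ (h.sim_lt hj)).1]
  exact e2

end Cfsg.Agent.S1096
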