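import Cfsg.Statements.S1098
import Cfsg.Agent.Lib.Chev.Aut

set_option autoImplicit false
open Cfsg

namespace Cfsg.Agent.S1098

/-- Graph automorphisms in characteristic 2 (K perfect): for B₂ (a short, b long) `x_a(t) ↦ x_b(t²)`, `x_b(t) ↦ x_a(t)`, and for F₄ (p₁, p₂ short, p₃, p₄ long) `x_{p₁}(t) ↦ x_{p₄}(t²)`, `x_{p₂}(t) ↦ x_{p₃}(t²)`, `x_{p₃}(t) ↦ x_{p₂}(t)`, `x_{p₄}(t) ↦ x_{p₁}(t)`, likewise on the negatives, extend to an automorphism of the group. -/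
theorem result {K : Type*} [Field K] [CharP K 2] (hperf : ∀ x : K, ∃ y : K, y ^ 2 = x)
    (p : Cfsg.Lie.ChevalleyDatum × List (ℕ × ℕ))
    (hp : p ∈ [(Cfsg.Lie.chevB2, [(1, 2), (0, 1)]), (Cfsg.Lie.chevF4, [(3, 2), (2, 2), (1, 1), (0, 1)])]) :
    ∃ α : ↥(p.1.group K) ≃* ↥(p.1.group K), ∀ (g : ↥(p.1.group K)) (i : ℕ) (t : K), i < p.1.rank →
      (((g : GL p.1.Idx K) : Matrix p.1.Idx p.1.Idx K) = p.1.x K (p.1.simple i) t →
        ((α g : GL p.1.Idx K) : Matrix p.1.Idx p.1.Idx K) = p.1.x K (p.1.simple (p.2.getD i (0, 1)).1) (t ^ (p.2.getD i (0, 1)).2)) ∧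
      (((g : GL p.1.Idx K) : Matrix p.1.Idx p.1.Idx K) = p.1.x K (p.1.neg (p.1.simple i)) t →
        ((α g : GL p.1.Idx K) : Matrix p.1.Idx p.1.Idx K) = p.1.x K (p.1.neg (p.1.simple (p.2.getD i (0, 1)).1)) (t ^ (p.2.getD i (0, 1)).2)) := by
  open Cfsg.Agent.Chev in
  have key : ∀ {D : Cfsg.Lie.ChevalleyDatum} {c : Cert} (h : Checked D c) (ρ : h.toCD.Sym) (e : ℕ)
      (L : List (ℕ × ℕ)), (∀ i, (ρ.ρI i).val = (L.getD i (0, 1)).1 ∧ look e 2 (h.toCD.sim i) = (L.getD i (0, 1)).2 ∧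
        look e 2 (h.toCD.neg (h.toCD.sim i)) = (L.getD i (0, 1)).2) →
      (∀ r, ρ.ρ (ρ.ρ r) = r ∧ look e 2 r * look e 2 (ρ.ρ r) = 2) →
      (∃ φ : D.group K →* D.group K, ∀ r t, φ ((h.adj K).x r t) = (h.adj K).x (ρ.ρ r) (t ^ look e 2 r)) →
      ∃ α : ↥(D.group K) ≃* ↥(D.group K), ∀ (g : ↥(D.group K)) (i : ℕ) (t : K), i < D.rank →
      (((g : GL D.Idx K) : Matrix D.Idx D.Idx K) = D.x K (D.simple i) t →
        ((α g : GL D.Idx K) : Matrix D.Idx D.Idx K) = D.x K (D.simple (L.getD i (0, 1)).1) (t ^ (L.getD i (0, 1)).2)) ∧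
      (((g : GL D.Idx K) : Matrix D.Idx D.Idx K) = D.x K (D.neg (D.simple i)) t →
        ((α g : GL D.Idx K) : Matrix D.Idx D.Idx K) = D.x K (D.neg (D.simple (L.getD i (0, 1)).1)) (t ^ (L.getD i (0, 1)).2)) := by
    rintro D c h ρ e L hL h1 ⟨φ, hφ⟩
    refine ⟨MulEquiv.ofBijective φ (h.bij_of_sq 2 hperf hφ (fun r => (h1 r).1) fun r => (h1 r).2),
      fun g i t hi => ⟨fun e => ?_, fun e => ?_⟩⟩
    · rw [(h.eq_adj_x (h.sim_lt hi)).1 e]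
      have := hφ (h.toCD.sim ⟨i, hi⟩) t
      rw [(hL _).2.1, ρ.sim] at this
      exact (congrArg (fun g : D.group K => ((g : GL D.Idx K) : Matrix D.Idx D.Idx K)) this).trans
        ((hL ⟨i, hi⟩).1 ▸ rfl)
    · rw [(h.eq_adj_x (h.neg_lt (h.sim_lt hi))).1 e]
      have := hφ (h.toCD.neg (h.toCD.sim ⟨i, hi⟩)) t
      rw [(hL _).2.2, ρ.neg, ρ.sim] at this
      exact (congrArg (fun g : D.group K => ((g : GL D.Idx K) : Matrix D.Idx D.Idx K)) this).trans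
        ((hL ⟨i, hi⟩).1 ▸ rfl)
  simp only [List.mem_cons, List.not_mem_nil, or_false] at hp
  open Cfsg.Agent.Chev in
  rcases hp with rfl | rfl
  exacts [key checkedB2 symB2 _ _ (by decide +kernel) (by decide +kernel) (graph_B2 hperf),
    key checkedF4 symF4 _ _ (by decide +kernel) (by decide +kernel) (graph_F4 hperf)]

end Cfsg.Agent.S1098
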