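import Cfsg.Statements.S1099
import Cfsg.Agent.Lib.Chev.Aut

set_option autoImplicit false
open Cfsg

namespace Cfsg.Agent.S1099

/-- Graph automorphism of G₂ in characteristic 3 (K perfect): `x_a(t) ↦ x_b(t³)`, `x_b(t) ↦ x_a(t)`, `x_{-a}(t) ↦ x_{-b}(t³)`, `x_{-b}(t) ↦ x_{-a}(t)` extend to an automorphism of the group. -/
theorem result {K : Type*} [Field K] [CharP K 3] (hperf : ∀ x : K, ∃ y : K, y ^ 3 = x) :
    ∃ α : ↥(Cfsg.Lie.chevG2.group K) ≃* ↥(Cfsg.Lie.chevG2.group K), ∀ (g : ↥(Cfsg.Lie.chevG2.group K)) (t : K),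
      (((g : GL Cfsg.Lie.chevG2.Idx K) : Matrix _ _ K) = Cfsg.Lie.chevG2.x K Cfsg.Lie.g2a t →
        ((α g : GL Cfsg.Lie.chevG2.Idx K) : Matrix _ _ K) = Cfsg.Lie.chevG2.x K Cfsg.Lie.g2b (t ^ 3)) ∧
      (((g : GL Cfsg.Lie.chevG2.Idx K) : Matrix _ _ K) = Cfsg.Lie.chevG2.x K Cfsg.Lie.g2b t →
        ((α g : GL Cfsg.Lie.chevG2.Idx K) : Matrix _ _ K) = Cfsg.Lie.chevG2.x K Cfsg.Lie.g2a t) ∧
      (((g : GL Cfsg.Lie.chevG2.Idx K) : Matrix _ _ K) = Cfsg.Lie.chevG2.x K Cfsg.Lie.g2ma t →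
        ((α g : GL Cfsg.Lie.chevG2.Idx K) : Matrix _ _ K) = Cfsg.Lie.chevG2.x K Cfsg.Lie.g2mb (t ^ 3)) ∧
      (((g : GL Cfsg.Lie.chevG2.Idx K) : Matrix _ _ K) = Cfsg.Lie.chevG2.x K Cfsg.Lie.g2mb t →
        ((α g : GL Cfsg.Lie.chevG2.Idx K) : Matrix _ _ K) = Cfsg.Lie.chevG2.x K Cfsg.Lie.g2ma t) := by
  open Cfsg.Agent.Chev in
  obtain ⟨φ, hφ⟩ := graph_G2 hperf
  have key : ∀ (r s e : ℕ) (hr : r < Cfsg.Lie.chevG2.nroots), (symG2.ρ ⟨r, hr⟩).val = s ∧ look exG2 2 r = e →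
      ∀ (g : ↥(Cfsg.Lie.chevG2.group K)) (t : K),
      ((g : GL Cfsg.Lie.chevG2.Idx K) : Matrix _ _ K) = Cfsg.Lie.chevG2.x K r t →
        ((φ g : GL Cfsg.Lie.chevG2.Idx K) : Matrix _ _ K) = Cfsg.Lie.chevG2.x K s (t ^ e) := by
    rintro r _ _ hr ⟨rfl, rfl⟩ g t e
    rw [(checkedG2.eq_adj_x hr).1 e, hφ]; rfl
  refine ⟨MulEquiv.ofBijective φ (checkedG2.bij_of_sq 3 hperf hφ (by decide +kernel) (by decide +kernel)),
    fun g t => ⟨key _ _ _ (by decide) (by decide +kernel) g t, ?_,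
      key _ _ _ (by decide) (by decide +kernel) g t, ?_⟩⟩
  · simpa using key Cfsg.Lie.g2b Cfsg.Lie.g2a 1 (by decide) (by decide +kernel) g t
  · simpa using key Cfsg.Lie.g2mb Cfsg.Lie.g2ma 1 (by decide) (by decide +kernel) g t

end Cfsg.Agent.S1099
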