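import Cfsg.Statements.S1100
import Cfsg.Agent.Lib.Chev.Bridge

set_option autoImplicit false
open Cfsg

namespace Cfsg.Agent.S1100

/-- Canonical form `g = b n_w u` (`b ∈ B`, `u ∈ U_w⁻ = ⟨X_r : r > 0, n_w X_r n_w⁻¹ ≤ V⟩`): such a decomposition exists for every element of the group; the coset `n_w H` is determined by `g`; and for a fixed representative `n_w` the factors `b`, `u` are unique. -/
theorem result {F : Type*} [Field F] (D : Cfsg.Lie.ChevalleyDatum) (hD : D ∈ [Cfsg.Lie.chevG2, Cfsg.Lie.chevB2, Cfsg.Lie.chevD4, Cfsg.Lie.chevF4, Cfsg.Lie.chevE6, Cfsg.Lie.chevE7, Cfsg.Lie.chevE8]) :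
    (∀ g ∈ D.group F, ∃ b ∈ D.borelSubgroup F, ∃ n ∈ D.monomialSubgroup F,
      ∃ u ∈ Subgroup.closure {x : GL D.Idx F | ∃ (r : ℕ) (t : F), D.IsPosRoot r ∧
            (D.rootSubgroup F r).map (MulAut.conj n).toMonoidHom ≤ D.negUnipotent F ∧ (x : Matrix D.Idx D.Idx F) = D.x F r t},
        g = b * n * u) ∧
    (∀ (b b' n n' u u' : GL D.Idx F), b ∈ D.borelSubgroup F → b' ∈ D.borelSubgroup F →
      n ∈ D.monomialSubgroup F → n' ∈ D.monomialSubgroup F →
      u ∈ Subgroup.closure {x : GL D.Idx F | ∃ (r : ℕ) (t : F), D.IsPosRoot r ∧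
            (D.rootSubgroup F r).map (MulAut.conj n).toMonoidHom ≤ D.negUnipotent F ∧ (x : Matrix D.Idx D.Idx F) = D.x F r t} →
      u' ∈ Subgroup.closure {x : GL D.Idx F | ∃ (r : ℕ) (t : F), D.IsPosRoot r ∧
            (D.rootSubgroup F r).map (MulAut.conj n').toMonoidHom ≤ D.negUnipotent F ∧ (x : Matrix D.Idx D.Idx F) = D.x F r t} →
      b * n * u = b' * n' * u' → n⁻¹ * n' ∈ D.diagonalSubgroup F ∧ (n = n' → b = b' ∧ u = u')) := by
  obtain ⟨c, h⟩ := Chev.checked_of_mem hD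
  have key : ∀ (n : GL D.Idx F) (w : h.toRS.W), (h.st F).Acts n w →
      Subgroup.closure {x : GL D.Idx F | ∃ (r : ℕ) (t : F), D.IsPosRoot r ∧
        (D.rootSubgroup F r).map (MulAut.conj n).toMonoidHom ≤ D.negUnipotent F ∧
          (x : Matrix D.Idx D.Idx F) = D.x F r t} = (h.st F).Uw w := by
    intro n w hw
    have e := h.closure_eq (F := F) (fun r => D.IsPosRoot r ∧
      (D.rootSubgroup F r).map (MulAut.conj n).toMonoidHom ≤ D.negUnipotent F) fun _ h => h.1.1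
    simp only [and_assoc] at e
    rw [e]
    refine congrArg (h.st F).Ux ?_
    ext r
    simp only [Set.mem_ofPred_eq, h.isPos_iff, h.root_eq r.2, h.V_eq]
    refine and_congr_right fun hp => ⟨fun hle hp' => ?_, fun hn => ?_⟩
    · obtain ⟨χ, -, e⟩ := hw
      have h1 : n * (h.st F).x r 1 * n⁻¹ ∈ (h.st F).V :=
        hle ⟨_, Chev.St.x_mem (Set.mem_singleton _) 1, rfl⟩
      rw [e] at h1
      simpa [Chev.St.x_eq_one_iff] using
        Chev.St.eq_one_of_mem_B_V (Chev.St.U_le_B (Chev.St.x_mem_U hp' _)) h1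
    · rintro _ ⟨u, hu, rfl⟩
      exact hw.conj_mem (by rintro _ rfl; exact hn) hu
  rw [h.B_eq, h.N_eq, h.H_eq, h.group_eq]
  constructor
  · intro g hg
    obtain ⟨b, hb, m, hm, w, hw, u, hu, e⟩ := Chev.St.bruhat hg
    exact ⟨b, hb, m, hm, u, by rwa [key m w hw], e⟩
  · intro b b' n n' u u' hb hb' hn hn' hu hu' e
    obtain ⟨w, hw⟩ := Chev.St.exists_acts hn
    obtain ⟨w', hw'⟩ := Chev.St.exists_acts hn'
    rw [key n w hw] at hu
    rw [key n' w' hw'] at hu'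
    obtain rfl := Chev.St.bruhat_unique' hn hn' hw hw' hb (Chev.St.U_le_B (Chev.St.Uw_le_U _ hu)) hb'
      (Chev.St.U_le_B (Chev.St.Uw_le_U _ hu')) e
    refine ⟨Chev.St.inv_mul_mem_H hn hn' hw hw', ?_⟩
    rintro rfl
    exact Chev.St.normal_form_unique hw hb hb' hu hu' e

end Cfsg.Agent.S1100
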