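import Cfsg.Statements.S1101
import Cfsg.Agent.Lib.Chev.TwG2

set_option autoImplicit false
open Cfsg

namespace Cfsg.Agent.S1101

/-- For ²G₂ over `K` with `|K| = 3^(2m+1)`, `θ = 3^m`: `U¹ = G¹ ∩ U` consists exactly of the elements `x_a(t^θ) x_b(t) x_{a+b}(t^{θ+1}+u^θ) x_{2a+b}(t^{2θ+1}+v^θ) x_{3a+b}(u) x_{3a+2b}(v)`, `t, u, v ∈ K`, and it has `|K|³` elements. -/
theorem result {K : Type*} [Field K] [Fintype K] {m : ℕ} (hK : Fintype.card K = 3 ^ (2 * m + 1)) :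
    (∀ g : GL Cfsg.Lie.chevG2.Idx K, g ∈ Cfsg.Lie.chevG2.posUnipotent K ⊓ Cfsg.Lie.twistedG2 K (3 ^ m) ↔
      ∃ t u v : K, (g : Matrix Cfsg.Lie.chevG2.Idx Cfsg.Lie.chevG2.Idx K) = Cfsg.Lie.chevG2.wordMat K (Cfsg.Lie.reeWordU (3 ^ m) t u v)) ∧
    Nat.card ↥(Cfsg.Lie.chevG2.posUnipotent K ⊓ Cfsg.Lie.twistedG2 K (3 ^ m)) = (3 ^ (2 * m + 1)) ^ 3 := by
  haveI : Fact (Nat.Prime 3) := ⟨Nat.prime_three⟩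
  obtain ⟨_, θ, hf, hθ⟩ := Chev.exists_theta hK
  refine ⟨fun g => ⟨fun ⟨h1, h2⟩ => ?_, fun ⟨t, u, v, h⟩ => ?_⟩, ?_⟩
  · have h3 := Chev.checkedG2.gen_le _ h2
    obtain ⟨p, e⟩ := (Chev.fix_iff_2G2 hf hθ (u := ⟨g, h3⟩)).1 ⟨by rw [Chev.checkedG2.adj_U]; exact h1,
      (Chev.sub_2G2 hf hθ).fix _ ⟨⟨g, h2⟩, rfl⟩⟩
    exact ⟨_, _, _, by rw [← Chev.checkedG2.wd_val, e]⟩
  · have h1 := ((Chev.fix_iff_2G2 hf hθ).2 ⟨(t, u, v), rfl⟩).1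
    rw [Chev.checkedG2.adj_U] at h1
    obtain rfl : g = _ := Units.ext (h.trans (Chev.checkedG2.wd_val _).symm)
    exact ⟨h1, Subgroup.subset_closure ⟨_, ⟨t, u, v, Or.inl rfl⟩, h⟩⟩
  · rw [← hK, ← Chev.card_U_2G2 hf hθ, Chev.checkedG2.card_inc_U]; rfl

end Cfsg.Agent.S1101
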