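import Cfsg.Statements.S1138
import Cfsg.Agent.Lib.Char.Hig3

set_option autoImplicit false
open Cfsg

namespace Cfsg.Agent.S1138


/-- Let `P` be a Suzuki 2-group with `|Z(P)| = q`. Then every square lies in `Z(P)` and `P/Z(P)` is abelian (so elementary abelian), `|P| = q²` or `|P| = q³`, and `P` has exponent 4. -/
theorem result {P : Type*} [Group P] (hP : Cfsg.IsSuzukiTwoGroup P) :
    (∀ x : P, x * x ∈ Subgroup.center P) ∧ (∀ x y : P, x⁻¹ * y⁻¹ * x * y ∈ Subgroup.center P) ∧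
      (Nat.card P = Nat.card (Subgroup.center P) ^ 2 ∨ Nat.card P = Nat.card (Subgroup.center P) ^ 3) ∧
      Monoid.exponent P = 4 := by
  obtain ⟨K, h⟩ := Hig.hs_of hP
  have := hP.1
  have hn := hP.2.2.1
  rw [h.center_eq hn]
  refine ⟨h.sq_mem_Z hn, fun x y => by simpa [commutatorElement_def] using h.comm_mem_Z hn x⁻¹ y⁻¹,
    h.card_cases hn, ?_⟩
  have h1 : ∀ x : P, x ^ 2 ^ 2 = 1 := fun x => by
    rw [← Hig.sq_pow, pow_one, sq, h.mem_Z.1 (h.sq_mem_Z hn x)]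
  obtain ⟨x, -, hx⟩ := SetLike.exists_of_lt (h.Z_lt hn)
  refine Nat.dvd_antisymm (Monoid.exponent_dvd_of_forall_pow_eq_one h1) ?_
  exact (orderOf_eq_prime_pow (n := 1) (fun e => hx (h.mem_Z.2 (by simpa [sq] using e))) (h1 x)).symm.dvd.trans
    (Monoid.order_dvd_exponent x)

end Cfsg.Agent.S1138
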