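import Cfsg.Statements.S1147
import Cfsg.Agent.Lib.Char.RankOne5

set_option autoImplicit false
open Cfsg

namespace Cfsg.Agent.S1147

open Cfsg.Agent.Char

/-- Let a finite simple Zassenhaus group `G` on `Ω` have a normal subgroup `U` of `G_a`, regular on `Ω` minus `a`, which is a non-abelian 2-group. Then `|Ω| = 2^(2n) + 1` with `n` odd, `n > 1`, a two-point stabiliser `G_a ⊓ G_b` is cyclic of order `2^n - 1`, and `U` is isomorphic to the type-A group over a field with `2^n` elements for some field automorphism `φ`. -/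
theorem result {G Ω : Type*} [Group G] [Finite G] [MulAction G Ω] [Finite Ω]
    (hZ : Cfsg.IsZassenhausGroup G Ω) [IsSimpleGroup G] {a b : Ω} (hab : a ≠ b)
    (U : Subgroup G) (hUle : U ≤ MulAction.stabilizer G a)
    (hUn : ∀ h ∈ MulAction.stabilizer G a, ∀ u ∈ U, h * u * h⁻¹ ∈ U)
    (hreg : ∀ c d : Ω, c ≠ a → d ≠ a → ∃! u : U, (u : G) • c = d)
    (hU2 : IsPGroup 2 U) (hUna : ∃ u ∈ U, ∃ v ∈ U, u * v ≠ v * u) :
    ∃ n : ℕ, Odd n ∧ 1 < n ∧ Nat.card Ω = 2 ^ (2 * n) + 1 ∧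
      IsCyclic ↥(MulAction.stabilizer G a ⊓ MulAction.stabilizer G b) ∧
      Nat.card ↥(MulAction.stabilizer G a ⊓ MulAction.stabilizer G b) = 2 ^ n - 1 ∧
      ∃ (F : Type) (_ : Field F) (_ : Fintype F) (φ : F ≃+* F), Fintype.card F = 2 ^ n ∧
        Nonempty (U ≃* Cfsg.suzukiTypeA F (φ : F →+* F)) := by
  have hK := Zass.zk_of_regular hZ hUle hreg
  obtain ⟨t, rfl, hS, h2, hD⟩ := RankOne.setup_of_zk hK (even_iff_two_dvd.2 (Solv.dvd_card_of_isPGroup hU2 hK.ne_bot)) hab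
  obtain ⟨m, h3, h4, h5, h6, h7⟩ := RankOne.zass_five hS h2 hU2 hUna hD
  refine ⟨2 * m + 1, odd_two_mul_add_one m, by omega, by rw [RankOne.card_Ω hS, h5, h4]; ring, ?_, h7, ?_⟩
  · change IsCyclic (RankOne.D a t)
    rw [h6]
    exact RankOne.isCyclic_KK hS h2
  let _ := RankOne.actK hS h2
  have h := RankOne.hs_Q hS h2 hU2
  have h8 := RankOne.card_Z_eq hS h2 hU2
  obtain ⟨F, _, _, _, φ, π, ζ, χ, δ, h9, -, -, h10, h11, h12⟩ :=
    h.exists_typeA (RankOne.na_Q hUna) (by rw [h5, h8])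
  exact ⟨F, inferInstance, inferInstance, φ, by rw [h9, h8, h4],
    h.iso_typeA h10 h11 h12 (h.sq_mem_Z (RankOne.na_Q hUna))⟩

end Cfsg.Agent.S1147
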