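import Cfsg.Statements.S1150
import Cfsg.Agent.Lib.Chev.Fix

set_option autoImplicit false
open Cfsg

namespace Cfsg.Agent.S1150

open Chev Cfsg.Lie Checked

/-- In the small Ree group ²G₂(q), q = 3^(2m+1), realised as G¹ inside the Chevalley group G₂ over the field with q elements (θ the 3^m-th power map), with H¹ = G¹ ∩ H and U¹ = G¹ ∩ U the intersections with the ambient diagonal and positive unipotent subgroups: `H¹` is cyclic. -/
theorem result {K : Type*} [Field K] [Fintype K] {m : ℕ} (hK : Fintype.card K = 3 ^ (2 * m + 1)) :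
    IsCyclic ↥(Cfsg.Lie.chevG2.diagonalSubgroup K ⊓ Cfsg.Lie.twistedG2 K (3 ^ m)) := by
  obtain ⟨_, θ, hf, hθ⟩ := exists_theta hK
  have h4 : Fintype.card K % 4 = 3 := hK ▸ three_pow_mod m
  let hm := St.hMul_of_inj (checkedG2.adj_inj (K := K))
  let ψ := ((chevG2.group K).subtype.comp hm.hT).comp (twG2 θ).tfix.subtype
  have e : ψ.range = chevG2.diagonalSubgroup K ⊓ twistedG2 K (3 ^ m) := by
    ext g; constructor
    · rintro ⟨c, rfl⟩
      obtain ⟨u, hu⟩ := hT_mem_2G2 hf hθ h4 c.2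
      have := hm.hT_mem c
      rw [checkedG2.adj_H] at this
      exact ⟨this, (congrArg Subtype.val hu ▸ u.2 :)⟩
    · rintro ⟨h1, h2⟩
      obtain ⟨c, hc⟩ := hm.exists_hT (g := checkedG2.inc (g2Words K (3 ^ m)) ⟨g, h2⟩) (by rw [checkedG2.adj_H]; exact h1)
      exact ⟨⟨c, (St.Tw.mem_tfix_iff _ hm (hT_inj_G2 hm) c).2 (hc ▸ (sub_2G2 hf hθ).fix _ ⟨_, rfl⟩)⟩,
        congrArg Subtype.val hc⟩
  haveI : IsCyclic (twG2 θ).tfix := isCyclic_of_injective
    ((Pi.evalMonoidHom (fun _ => Kˣ) (g2n 1)).comp (twG2 θ).tfix.subtype)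
    fun c c' h => Subtype.ext (tfix_ext_2G2 hθ c.2 c'.2 h)
  exact e ▸ isCyclic_of_surjective _ ψ.rangeRestrict_surjective

end Cfsg.Agent.S1150
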