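import Cfsg.Statements.S1151
import Cfsg.Agent.Lib.Chev.Fix
import Cfsg.Agent.S1150

set_option autoImplicit false
open Cfsg

namespace Cfsg.Agent.S1151

open Chev Cfsg.Lie Checked

/-- In the small Ree group ²G₂(q), q = 3^(2m+1), realised as G¹ inside the Chevalley group G₂ over the field with q elements (θ the 3^m-th power map), with H¹ = G¹ ∩ H and U¹ = G¹ ∩ U the intersections with the ambient diagonal and positive unipotent subgroups: `H¹` has exactly `(q - 1)/2` elements of odd order, and each non-identity one centralises no non-identity element of `U¹`. -/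
theorem result {K : Type*} [Field K] [Fintype K] {m : ℕ} (hK : Fintype.card K = 3 ^ (2 * m + 1)) :
    2 * Nat.card {h : ↥(Cfsg.Lie.chevG2.diagonalSubgroup K ⊓ Cfsg.Lie.twistedG2 K (3 ^ m)) // Odd (orderOf h)} = 3 ^ (2 * m + 1) - 1 ∧
      ∀ h ∈ (Cfsg.Lie.chevG2.diagonalSubgroup K ⊓ Cfsg.Lie.twistedG2 K (3 ^ m)), h ≠ 1 → Odd (orderOf h) →
        (Cfsg.Lie.chevG2.posUnipotent K ⊓ Cfsg.Lie.twistedG2 K (3 ^ m)) ⊓ Subgroup.centralizer {h} = ⊥ := by
  classical
  obtain ⟨_, θ, hf, hθ⟩ := exists_theta hK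
  have h4 : Fintype.card K % 4 = 3 := hK ▸ three_pow_mod m
  constructor
  · haveI := S1150.result hK
    have h1 := (checkedG2.card_inc_H _).symm.trans (card_H_2G2 hf hθ h4)
    obtain ⟨j, hj⟩ : ∃ j, Fintype.card K - 1 = 2 * (2 * j + 1) := ⟨Fintype.card K / 4, by omega⟩
    rw [← hK, hj]
    rw [hj] at h1
    change Nat.card (chevG2.diagonalSubgroup K ⊓ twistedG2 K (3 ^ m) : Subgroup _) = _ at h1
    generalize (chevG2.diagonalSubgroup K ⊓ twistedG2 K (3 ^ m) : Subgroup _) = A at *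
    letI : CommGroup A := IsCyclic.commGroup
    have := IsCyclic.card_powMonoidHom_ker (G := A) (2 * j + 1)
    rw [h1, Nat.gcd_eq_right (dvd_mul_left _ _)] at this
    rw [← this]
    refine congrArg _ (Nat.card_congr (Equiv.subtypeEquivRight fun g => ?_))
    rw [MonoidHom.mem_ker, powMonoidHom_apply, ← orderOf_dvd_iff_pow_eq_one]
    exact ⟨fun h => (Nat.coprime_two_right.2 h).dvd_of_dvd_mul_left (h1 ▸ orderOf_dvd_natCard g),
      Odd.of_dvd_nat ⟨j, rfl⟩⟩
  · rintro g ⟨h1, h2⟩ h3 h5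
    let hm := St.hMul_of_inj (checkedG2.adj_inj (K := K))
    obtain ⟨c, hc⟩ := hm.exists_hT (g := checkedG2.inc (g2Words K (3 ^ m)) ⟨g, h2⟩) (by rw [checkedG2.adj_H]; exact h1)
    have h6 := (St.Tw.mem_tfix_iff _ hm (hT_inj_G2 hm) c).2 (hc ▸ (sub_2G2 hf hθ).fix _ ⟨_, rfl⟩)
    obtain rfl : (hm.hT c : GL _ K) = g := congrArg Subtype.val hc
    refine eq_bot_iff.2 fun u hu => ?_
    have := (hm.isTor_hT c).eq_one_of_fix RS.unip_pos (u := checkedG2.inc (g2Words K (3 ^ m)) ⟨u, hu.1.2⟩)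
      (fun r hr h => h3 ?_) (by rw [← St.U, checkedG2.adj_U]; exact hu.1.1)
      (Subtype.ext (mul_inv_eq_iff_eq_mul.2 (hu.2 _ rfl)))
    · exact congrArg Subtype.val this
    have h7 : ∀ r, checkedG2.toCD.Pos r → checkedG2.toCD.A (g2n 0) r * checkedG2.toCD.A (g2n 0) r -
      (3 : ℕ) * checkedG2.toCD.A (g2n 1) r * checkedG2.toCD.A (g2n 1) r ∣ (3 : ℕ) * (2 : ℕ) := by decide +kernel
    rw [chi_zmap] at h
    have h8 := (Fin.prod_univ_two _).symm.trans h
    erw [(tfix_2G2 hθ).1 h6] at h8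
    have h9 : c ^ 2 = 1 := tfix_ext_2G2 hθ (pow_mem h6 _) (one_mem _)
      (pow_eq_one_of_tw (f := Units.map (θ : K →* K)) (fun c => Units.ext (hθ c)) h8 (h7 r hr))
    rw [← orderOf_eq_one_iff]
    refine (Nat.coprime_two_right.2 h5).eq_one_of_dvd (orderOf_dvd_of_pow_eq_one ?_)
    rw [← Subgroup.coe_pow, ← map_pow, h9, map_one]; rfl

end Cfsg.Agent.S1151
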