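import Cfsg.Statements.S1160
import Cfsg.Agent.Lib.Char.Huppert

set_option autoImplicit false
open Cfsg

namespace Cfsg.Agent.S1160

open Cfsg.Agent.Char

/-- Let `p ≠ 2` be prime and `P` a finite `p`-group acting faithfully by additive automorphisms on a finite elementary abelian `q`-group `E` (`q` prime), such that `|P_a|` is the same for all `a ≠ 0`. Then `P` is cyclic and every non-identity element of `P` fixes only `0`. -/
theorem result {P E : Type*} [Group P] [Finite P]
    [AddCommGroup E] [Finite E] [DistribMulAction P E] [FaithfulSMul P E]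
    {p q : ℕ} [Fact p.Prime] (hp2 : p ≠ 2) (hP : IsPGroup p P) (hq : q.Prime) (hE : ∀ e : E, q • e = 0)
    (hconst : ∀ a b : E, a ≠ 0 → b ≠ 0 →
      Nat.card (MulAction.stabilizer P a) = Nat.card (MulAction.stabilizer P b)) :
    IsCyclic P ∧ ∀ g : P, g ≠ 1 → ∀ a : E, g • a = a → a = 0 := by
  have hfa : ∀ g : P, (∀ v : E, g • v = v) → g = 1 := fun g h =>
    eq_of_smul_eq_smul fun v : E => (h v).trans (one_smul P v).symm
  let _ : MulDistribMulAction P (Multiplicative E) :=
    { smul := fun g v => Multiplicative.ofAdd (g • v.toAdd)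
      one_smul := fun v => one_smul P v.toAdd
      mul_smul := fun g h v => mul_smul g h v.toAdd
      smul_mul := fun g v w => smul_add g v.toAdd w.toAdd
      smul_one := fun g => smul_zero (A := E) g }
  obtain ⟨h1, h2⟩ := Hup.cyclic_fpf (E := Multiplicative E) (S := (⊤ : Subgroup P)) hp2
    (hP.to_subgroup ⊤) hq (fun v => hE v.toAdd)
    (fun g _ => hfa g)
    (fun a b ha hb => by rw [top_inf_eq, top_inf_eq]; exact hconst a.toAdd b.toAdd ha hb)
  exact ⟨isCyclic_of_surjective _ Subgroup.topEquiv.surjective, fun g hg a => h2 g trivial hg a⟩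

end Cfsg.Agent.S1160
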