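import Cfsg.Statements.S1161
import Cfsg.Agent.Lib.Char.Huppert

set_option autoImplicit false
open Cfsg

namespace Cfsg.Agent.S1161

open Cfsg.Agent.Char

/-- Let `D` be a finite group of odd order acting faithfully by additive automorphisms on a finite elementary abelian `q`-group `E ≠ 0` (`q` prime), transitively on `E ∖ {0}`. Then the Fitting subgroup `F(D)` is cyclic, its non-identity elements fix only `0`, and `D/F(D)` is abelian (the derived subgroup lies in `F(D)`). -/
theorem result {D E : Type*} [Group D] [Finite D]
    [AddCommGroup E] [Finite E] [Nontrivial E] [DistribMulAction D E] [FaithfulSMul D E]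
    (hodd : Odd (Nat.card D)) {q : ℕ} (hq : q.Prime) (hE : ∀ e : E, q • e = 0)
    (htrans : ∀ a b : E, a ≠ 0 → b ≠ 0 → ∃ d : D, d • a = b) :
    IsCyclic ↥(Cfsg.fittingSubgroup D) ∧
      (∀ g ∈ Cfsg.fittingSubgroup D, g ≠ 1 → ∀ a : E, g • a = a → a = 0) ∧
      commutator D ≤ Cfsg.fittingSubgroup D := by
  have hfa : ∀ g : D, (∀ v : E, g • v = v) → g = 1 := fun g h =>
    eq_of_smul_eq_smul fun v : E => (h v).trans (one_smul D v).symm
  let _ : MulDistribMulAction D (Multiplicative E) :=
    { smul := fun g v => Multiplicative.ofAdd (g • v.toAdd)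
      one_smul := fun v => one_smul D v.toAdd
      mul_smul := fun g h v => mul_smul g h v.toAdd
      smul_mul := fun g v w => smul_add g v.toAdd w.toAdd
      smul_one := fun g => smul_zero (A := E) g }
  exact Hup.fitting (E := Multiplicative E) hodd hq (fun v => hE v.toAdd)
    hfa htrans

end Cfsg.Agent.S1161
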