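import Cfsg.Statements.S1164
import Cfsg.Agent.Lib.Chev.CT3

set_option autoImplicit false
open Cfsg

namespace Cfsg.Agent.S1164

open Cfsg.Agent.Chev Cfsg.Lie

/-- Curtis–Tits: for the Chevalley datum of type D₄, F₄, E₆, E₇ or E₈ and a field `K` with at least four elements, there is an isomorphism from the group presented by the Curtis–Tits relators (additivity, the commutator relators and the `h̄`-relators only for roots inside a common rank-two subsystem spanned by two fundamental roots, all other generators killed) onto the group of Steinberg's presentation, sending each generator `x̄_r(t)` with `r` in such a subsystem to `x̄_r(t)`. -/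
theorem result (D : Cfsg.Lie.ChevalleyDatum)
    (hD : D ∈ [Cfsg.Lie.chevD4, Cfsg.Lie.chevF4, Cfsg.Lie.chevE6, Cfsg.Lie.chevE7, Cfsg.Lie.chevE8])
    (K : Type*) [Field K] [Fintype K] (hK : 4 ≤ Fintype.card K) :
    ∃ e : D.CurtisTitsGroup K ≃* D.SteinbergGroup K,
      ∀ (i j r : ℕ) (t : K), D.InRankTwoSub i j r →
        e (PresentedGroup.mk (D.curtisTitsRels K) (D.stX r t)) = D.stGen K r t := by
  classical
  obtain ⟨c, h, hw⟩ := wit2_of_mem hD
  obtain ⟨z, h1, h2⟩ := curtis_tits (h.toAdj K) hw (fun _ _ r t => PresentedGroup.mk (D.curtisTitsRels K) (D.stX r t))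
    (fun i j => ⟨fun r hr t u => by
      rw [← mul_inv_eq_one, ← map_inv, ← map_mul, ← map_mul]
      exact PresentedGroup.one_of_mem (.inl (.inl (.inr ⟨i, j, r, t, u, h.inRankTwo_iff.2 hr, rfl⟩))),
      fun r hr s hs t u a b => by
      have := PresentedGroup.one_of_mem (rels := D.curtisTitsRels K) (.inl (.inr ⟨i, j, r, s, t, u, h.inRankTwo_iff.2 hr,
        h.inRankTwo_iff.2 hs, fun e => a (Fin.ext e), fun e => b (Fin.ext e), rfl⟩))
      rw [← h.fl_comm (fun r t => PresentedGroup.mk (D.curtisTitsRels K) (D.stX r t)), fl_mk]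
      simp only [map_mul, map_inv, mul_inv_eq_one] at this
      rw [← this]; group⟩) fun _ _ _ _ _ => rfl
  obtain ⟨φ, hφ⟩ := h.uni_lift_fin h1
  let y : Fin D.nroots → K → D.SteinbergGroup K := fun r t => if ∃ i j, h.toCD.InJ {i, j} r then (h.uni K).x r t else 1
  have h3 : ∀ {i j r}, h.toCD.InJ {i, j} r → ∀ t, y r t = (h.uni K).x r t := fun a t => if_pos ⟨_, _, a⟩
  have h4 : ∀ {i j r : ℕ} (a : D.InRankTwoSub i j r), h.toCD.InJ {⟨i, a.2.1⟩, ⟨j, a.2.2.1⟩} ⟨r, a.1⟩ :=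
    fun a => h.inRankTwo_iff.1 a
  have H : ∀ g ∈ D.curtisTitsRels K, fl y g = 1 := by
    rintro g (((⟨r, t, a, b, rfl⟩ | ⟨i, j, r, t, u, a, rfl⟩) | ⟨i, j, r, s, t, u, a, b, d, e, rfl⟩) | ⟨i, j, r, t, u, a, b, d, rfl⟩)
    · rw [fl_stX _ a]
      exact if_neg fun ⟨i, j, e⟩ => b i j (h.inRankTwo_iff.2 e)
    · simp [fl_stX _ a.1, h3 (h4 a), St.add]
    · have := h.fl_comm y ⟨r, a.1⟩ ⟨s, b.1⟩ t u
      simp only [map_mul, map_inv, fl_stX y a.1, fl_stX y b.1, this, mul_inv_eq_one, h3 (h4 a), h3 (h4 b)]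
      rw [List.map_congr_left fun q hq => h3 (RS.Comb.inJ ⟨_, _, h.toCD.ct_rv _ _ q hq⟩ (h4 a) (h4 b)) _, mul_assoc _ (St.x _ _ u),
        (h.uni K).comm ⟨r, a.1⟩ ⟨s, b.1⟩ t u (fun e => d (congrArg Fin.val e)) (fun e' => e (congrArg Fin.val e'))]
      group
    · have e : ∀ t : K, fl y (D.stX (D.neg r) t) = (h.uni K).x (h.toCD.neg ⟨r, a.1⟩) t := fun t =>
        (fl_stX _ (h.neg_lt a.1) t).trans (h3 (h4 a).neg t)
      have e' : ∀ t : Kˣ, fl y (D.stH r t) = (h.uni K).h ⟨r, a.1⟩ t := fun t => by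
        simp [ChevalleyDatum.stH, ChevalleyDatum.stWord, ChevalleyDatum.hWord, ChevalleyDatum.nWord,
          fl_stX _ a.1, e, St.h, St.n, mul_assoc, h3 (h4 a)]
      have h1 := e' (Units.mk0 t b)
      have h2 := e' (Units.mk0 u d)
      have h3 := e' (Units.mk0 t b * Units.mk0 u d)
      simp only [Units.val_mk0, Units.val_mul] at h1 h2 h3
      simp only [map_mul, map_inv, h1, h2, h3, h.uni_hMul.all, mul_inv_cancel]
  have h5 : ∀ (r : Fin D.nroots) t, PresentedGroup.toGroup H (PresentedGroup.mk _ (D.stX r t)) = y r t := fun r t => by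
    rw [stX_fin]; exact PresentedGroup.toGroup.of _
  refine ⟨MonoidHom.toMulEquiv (PresentedGroup.toGroup H) φ (PresentedGroup.ext fun ⟨r, t⟩ => ?_)
    (St.hom_ext_sim h.uni_Gx fun i t => ?_), fun i j r t a => (h5 ⟨r, a.1⟩ t).trans (h3 (h4 a) t)⟩
  · rw [MonoidHom.comp_apply, MonoidHom.id_apply, PresentedGroup.of, ← stX_fin, h5]
    by_cases a : ∃ i j, h.toCD.InJ {i, j} r
    · obtain ⟨i, j, a⟩ := a
      rw [h3 a, hφ, h2 i j r a]
    · rw [show y r t = 1 from if_neg a, map_one]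
      exact (PresentedGroup.one_of_mem (.inl (.inl (.inl ⟨r, t, r.2, fun i j b => a ⟨_, _, h4 b⟩, rfl⟩)))).symm
  · have a : h.toCD.InJ {i, i} (h.toCD.sim i) := RS.inJ_sim.2 (by simp)
    simp only [MonoidHom.comp_apply, hφ, h2 i i _ a, h2 i i _ a.neg, h5, h3 a, h3 a.neg, MonoidHom.id_apply, and_self]

end Cfsg.Agent.S1164
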