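import Cfsg.Statements.S1166
import Cfsg.Agent.Lib.Char.RankOne

set_option autoImplicit false
open Cfsg

namespace Cfsg.Agent.S1166

open Cfsg.Agent.Char

/-- In the rank-one set-up (`G` finite and doubly transitive on `Ω`, `t` an involution moving `a`, `Q` normal in `G_a` with `G_a = Q D`, `Q ⊓ D = 1` for the two-point stabiliser `D = G_a ⊓ G_{t • a}`, `|Q|` even, `|D|` odd), with `t x t = g_x h_x t f_x` and `t y t = g_y h_y t f_y` (`g, f ∈ Q`, `h ∈ D`) for `x, y ∈ Q ∖ 1` with `x y ≠ 1`: then `z = f_x g_y ≠ 1`, and if `t z t = g_z h_z t f_z` and `t (x y) t = g' h' t f'` then `f' = (t h_y t)⁻¹ f_z (t h_y t) f_y` and `h' = h_x h_z h_y` (H6). -/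
theorem result {G Ω : Type*} [Group G] [Finite G] [MulAction G Ω] {a : Ω} {t : G} {Q : Subgroup G}
    (hS : Cfsg.IsRankOneSetup G Ω a t Q)
    (x y gx hx fx gy hy fy : G) (hxQ : x ∈ Q) (hx1 : x ≠ 1) (hyQ : y ∈ Q) (hy1 : y ≠ 1) (hxy : x * y ≠ 1)
    (hgx : gx ∈ Q) (hhx : hx ∈ (MulAction.stabilizer G a ⊓ MulAction.stabilizer G (t • a))) (hfx : fx ∈ Q) (ex : t * x * t = gx * hx * t * fx)
    (hgy : gy ∈ Q) (hhy : hy ∈ (MulAction.stabilizer G a ⊓ MulAction.stabilizer G (t • a))) (hfy : fy ∈ Q) (ey : t * y * t = gy * hy * t * fy) :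
    fx * gy ≠ 1 ∧
      ∀ gz hz fz g' h' f' : G, gz ∈ Q → hz ∈ (MulAction.stabilizer G a ⊓ MulAction.stabilizer G (t • a)) → fz ∈ Q → t * (fx * gy) * t = gz * hz * t * fz →
        g' ∈ Q → h' ∈ (MulAction.stabilizer G a ⊓ MulAction.stabilizer G (t • a)) → f' ∈ Q → t * (x * y) * t = g' * h' * t * f' →
          f' = (t * hy * t)⁻¹ * fz * (t * hy * t) * fy ∧ h' = hx * hz * hy := by
  have htt := hS.mul_self
  have ht := RankOne.inv_t hS
  have h0 : ∀ y : G, t * (t * y) = y := fun y => by rw [← mul_assoc, htt, one_mul]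
  have hD := fun {d : G} (hd : d ∈ RankOne.D a t) => RankOne.conj_t_mem' hS hd
  have hQ := fun {d y : G} (hd : d ∈ RankOne.D a t) (hy : y ∈ Q) => hS.conj_mem d hd.1 y hy
  have hQ' := fun {d y : G} (hd : d ∈ RankOne.D a t) (hy : y ∈ Q) => RankOne.conj_mem' hS hd.1 hy
  have e1 : t * (x * y) * t = gx * hx * t * (fx * gy) * hy * t * fy := by
    calc t * (x * y) * t = (t * x * t) * (t * y * t) := by simp [mul_assoc, h0]
      _ = _ := by rw [ex, ey]; group
  refine ⟨fun e => RankOne.tst_ne hS (mul_mem hxQ hyQ) hxy ?_, fun gz hz fz g' h' f' k1 k2 k3 e k4 k5 k6 e' => ?_⟩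
  · rw [e1, e, mul_one, show gx * hx * t * hy * t * fy = gx * hx * (t * hy * t) * fy by group]
    exact mul_mem (mul_mem (mul_mem (hS.le hgx) hhx.1) (hD hhy).1) (hS.le hfy)
  · have := RankOne.canon_unique hS k4 (mul_mem hgx (hQ hhx k1)) k5
      (mul_mem (mul_mem hhx k2) hhy) k6 (mul_mem (hQ' (hD hhy) k3) hfy) (by
      rw [← e', e1]
      calc _ = gx * hx * (t * (fx * gy) * t) * (t * hy * t) * fy := by simp [mul_assoc, h0]
        _ = _ := by rw [e]; simp [ht, mul_assoc, h0])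
    exact ⟨this.2.2, this.2.1⟩

end Cfsg.Agent.S1166
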