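import Cfsg.Statements.S1167
import Cfsg.Agent.Lib.Char.Zass5

set_option autoImplicit false
open Cfsg

namespace Cfsg.Agent.S1167

open Cfsg.Agent.Char

/-- Let `G` be a finite simple Zassenhaus group on `Ω`, `U` a normal subgroup of `G_a` regular on `Ω` minus `a` which is an abelian 2-group, and `v` an involution with `v • a ≠ a`. Then there is a unique `u₀ ∈ U`, `u₀ ≠ 1`, with `v u₀ v = u₀ v u₀`. -/
theorem result {G Ω : Type*} [Group G] [Finite G] [MulAction G Ω] [Finite Ω]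
    (hZ : Cfsg.IsZassenhausGroup G Ω) [IsSimpleGroup G] {a : Ω}
    (U : Subgroup G) (hUle : U ≤ MulAction.stabilizer G a)
    (hUn : ∀ h ∈ MulAction.stabilizer G a, ∀ u ∈ U, h * u * h⁻¹ ∈ U)
    (hreg : ∀ c d : Ω, c ≠ a → d ≠ a → ∃! u : U, (u : G) • c = d)
    (hU2 : IsPGroup 2 U) (hUab : ∀ u ∈ U, ∀ u' ∈ U, u * u' = u' * u)
    (v : G) (hv1 : v ≠ 1) (hv2 : v * v = 1) (hva : v • a ≠ a) :
    ∃! u₀ : G, u₀ ∈ U ∧ u₀ ≠ 1 ∧ v * u₀ * v = u₀ * v * u₀ := by
  open Zass in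
  have hK := zk_of_regular hZ hUle hreg
  have hab := hva.symm
  have hn := hK.card
  obtain ⟨k, hk⟩ := IsPGroup.iff_card.1 hU2
  have hk0 : k ≠ 0 := by rintro rfl; exact hK.ne_bot (Subgroup.card_eq_one.1 hk)
  have hodd : Odd (Nat.card Ω) := by rw [← hn, hk]; exact (even_two.pow_of_ne_zero hk0).add_one
  have h3 := three_le_card hZ
  have he : Odd (Nat.card (E G a (v • a))) :=
    (Nat.Odd.sub_even (by omega) hodd even_two).of_dvd_nat (card_E_dvd hZ hab)
  have hO : ZO G a (v • a) := ⟨hZ, inferInstance, hab, he⟩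
  obtain ⟨p, hp, -, h4⟩ := hK.elementary hab (Nat.sub_le_of_le_add
    ((feit_zass hab _ G U rfl hK he).resolve_right fun ⟨_, ⟨x, y, h⟩, _⟩ =>
      h (Subtype.ext (hUab x x.2 y y.2))))
  obtain rfl : p = 2 := by
    have := Fact.mk hp
    obtain ⟨m, hm⟩ := IsPGroup.iff_card.1 (Solv.isPGroup_of_pow_eq_one h4)
    exact ((Nat.prime_dvd_prime_iff_eq Nat.prime_two hp).1
      (Nat.prime_two.dvd_of_dvd_pow (hm ▸ hk ▸ dvd_pow_self 2 hk0))).symm
  have hv : orderOf v = 2 := orderOf_eq_prime (by rwa [sq]) hv1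
  obtain ⟨c, hc⟩ := hO.exists_fix hodd hv
  have hvv : v • v • a = a := by rw [← mul_smul, hv2, one_smul]
  have hca : c ≠ a := by rintro rfl; exact hva hc
  have hcb : c ≠ v • a := by rintro rfl; exact hva (hc.symm.trans hvv)
  obtain ⟨u, hu, hu'⟩ := hreg _ c hva hca
  have hua : ∀ w ∈ U, w • a = a := hUle
  have huc : (u : G) • c = v • a := by rw [← hu, ← mul_smul, ← sq, h4 u u.2, one_smul]
  refine ⟨u, ⟨u.2, fun e => hcb (by rw [← hu, e, one_smul]), ?_⟩, ?_⟩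
  · refine inv_mul_eq_one.1 (hZ.2.2.1 _ a (v • a) c hab hcb.symm hca.symm ?_ ?_ ?_) <;>
      simp only [mul_smul (_⁻¹), inv_smul_eq_iff, mul_smul, hu, hc, hua u u.2, hvv, huc]
  · rintro w ⟨hw, -, e⟩
    have := congrArg (· • a) e
    simp only [mul_smul, hua w hw] at this
    exact congrArg Subtype.val (hu' ⟨w, hw⟩ (hO.fix_unique hv this hc))

end Cfsg.Agent.S1167
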