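import Cfsg.Statements.S1176
import Cfsg.Agent.Lib.Transfer.Count

set_option autoImplicit false
open Cfsg

namespace Cfsg.Agent.S1176

set_option linter.unusedSectionVars false
set_option linter.unusedVariables false
set_option linter.style.haveILetI false
set_option linter.unusedSimpArgs false

open Subgroup Cfsg.Agent.Transfer
open scoped commutatorElement

/-- Let x₀ be an involution of the finite group G and D its conjugacy class. Assume (a) for each x ∈ D the subgroup W(x) generated by the members of D commuting with x is a 2-group of nilpotency class at most 2, and (b) the product of two distinct commuting members of D again lies in D. Then for all x, y ∈ D, if xy has even order greater than 2, its order is 4. -/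
theorem result {G : Type*} [Group G] [Finite G] (x₀ : G) (hx₀ : orderOf x₀ = 2) (ha : ∀ x : G, IsConj x₀ x → IsPGroup 2 ↥(Subgroup.closure {y : G | IsConj x₀ y ∧ Commute y x}) ∧ ⁅⁅Subgroup.closure {y : G | IsConj x₀ y ∧ Commute y x}, Subgroup.closure {y : G | IsConj x₀ y ∧ Commute y x}⁆, Subgroup.closure {y : G | IsConj x₀ y ∧ Commute y x}⁆ = ⊥) (hb : ∀ x y : G, IsConj x₀ x → IsConj x₀ y → x ≠ y → Commute x y → IsConj x₀ (x * y)) (x y : G) (hx : IsConj x₀ x) (hy : IsConj x₀ y) (heven : Even (orderOf (x * y))) (hgt : 2 < orderOf (x * y)) : orderOf (x * y) = 4 := by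
  have hx2 : orderOf x = 2 := by rw [IsConj.orderOf_eq' hx, hx₀]
  have hy2 : orderOf y = 2 := by rw [IsConj.orderOf_eq' hy, hx₀]
  have hx1 := mul_self_of_orderOf hx2
  have hy1 := mul_self_of_orderOf hy2
  obtain ⟨z, ⟨i, hi⟩, hz, h1, h2⟩ := exists_invol_of_even hx1 hy1 heven
  simp only at hi
  have h3 : IsConj x₀ (z * x) := by
    rw [← hi]
    rcases conj_or_conj_of_zpow_mul hx1 hy1 i with ⟨c, -, h⟩ | ⟨c, -, h⟩
    · exact hx.trans (isConj_iff.2 ⟨c, h⟩)
    · exact hy.trans (isConj_iff.2 ⟨c, h⟩)
  have h4 := hb _ _ h3 hx (fun h => ne_one_of_orderOf hz (mul_eq_right.1 h))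
    (h1.mul_left (Commute.refl x))
  rw [mul_assoc, hx1, mul_one] at h4
  have h5 := (ha z h4).2
  have hxW : x ∈ closure {y : G | IsConj x₀ y ∧ Commute y z} := subset_closure ⟨hx, h1.symm⟩
  have hyW : y ∈ closure {y : G | IsConj x₀ y ∧ Commute y z} := subset_closure ⟨hy, h2.symm⟩
  have h6 := commutator_mem_commutator (commutator_mem_commutator hxW hyW) hxW
  rw [h5, mem_bot, commutatorElement_eq_one_iff_commute] at h6
  have h7 : ⁅x, y⁆ = (x * y) ^ 2 := by
    rw [commutatorElement_def, inv_eq_of_orderOf hx2, inv_eq_of_orderOf hy2, pow_two]; group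
  rw [h7] at h6
  have h8 := conj_pow_of_inverts (inverts_mul_left hx1 hy1) 2
  rw [commute_iff_conj.1 h6.symm, ← mul_eq_one_iff_eq_inv, ← pow_add] at h8
  have h9 := Nat.le_of_dvd (by decide) (orderOf_dvd_of_pow_eq_one h8)
  obtain ⟨k, hk⟩ := heven
  omega

end Cfsg.Agent.S1176
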