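import Cfsg.Statements.S1177
import Cfsg.Agent.Lib.Transfer.Count

set_option autoImplicit false
open Cfsg

namespace Cfsg.Agent.S1177

set_option linter.unusedSectionVars false
set_option linter.unusedVariables false
set_option linter.style.haveILetI false
set_option linter.unusedSimpArgs false

open Subgroup Cfsg.Agent.Transfer

/-- Let A be a nontrivial elementary abelian 2-subgroup of a finite group G which is a T.I. set (each conjugate of A meets A trivially or equals A) and which does not commute elementwise with any conjugate of A other than A itself. Then for every a ∈ A, a ≠ 1, every conjugate of A contained in C_G(a) is equal to A (A is weakly closed in C_G(a)). -/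
theorem result {G : Type*} [Group G] [Finite G] (A : Subgroup G) (hA : Cfsg.IsElementaryAbelian 2 A) (hA1 : A ≠ ⊥) (hTI : ∀ g : G, A.map (MulAut.conj g).toMonoidHom ⊓ A = ⊥ ∨ A.map (MulAut.conj g).toMonoidHom = A) (hb : ∀ g : G, (∀ a ∈ A, ∀ b ∈ A.map (MulAut.conj g).toMonoidHom, a * b = b * a) → A.map (MulAut.conj g).toMonoidHom = A) (a : G) (ha : a ∈ A) (ha1 : a ≠ 1) (g : G) (hg : A.map (MulAut.conj g).toMonoidHom ≤ Subgroup.centralizer ({a} : Set G)) : A.map (MulAut.conj g).toMonoidHom = A := by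
  change cj g A = A
  by_contra hne
  have hinf : cj g A ⊓ A = ⊥ := (hTI g).resolve_right hne
  have hcomm : ∀ x ∈ A, ∀ y ∈ A, x * y = y * x := fun x hx y hy =>
    congrArg Subtype.val (hA.1.is_comm.comm (⟨x, hx⟩ : A) ⟨y, hy⟩)
  have hN : ∀ b : G, ∀ a ∈ A, a ≠ 1 → Commute b a → b ∈ normalizer (A : Set G) := by
    intro b a ha ha1 h
    rw [mem_normalizer_iff_cj]
    refine (hTI b).resolve_left fun h' => ha1 ?_
    have : a ∈ cj b A ⊓ A := mem_inf.2 ⟨by
      have := conj_mem_cj (g := b) ha
      rwa [commute_iff_conj.1 h] at this, ha⟩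
    rwa [h', mem_bot] at this
  have hN' : ∀ c : G, ∀ b ∈ cj g A, b ≠ 1 → Commute c b → c ∈ normalizer (cj g A : Set G) := by
    intro c b hb hb1 h
    rw [← cj_normalizer, mem_cj]
    refine hN _ _ (mem_cj.1 hb) (by simpa [mul_assoc, inv_mul_eq_one] using hb1) ?_
    simpa using h.map (MulAut.conj g⁻¹)
  have hBA : ∀ b ∈ cj g A, b ∈ normalizer (A : Set G) := fun b hb =>
    hN b a ha ha1 (mem_centralizer_singleton'.1 (hg hb))
  have hC : ∀ c ∈ A, ∀ b ∈ cj g A, b ≠ 1 → Commute c b → c ∈ centralizer (cj g A : Set G) := by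
    intro c hc b hb hb1 h b' hb'
    have h1 : c * b' * c⁻¹ * b'⁻¹ ∈ cj g A ⊓ A := by
      refine mem_inf.2 ⟨mul_mem (conj_mem_of_mem_normalizer (hN' c b hb hb1 h) hb') (inv_mem hb'), ?_⟩
      have := mul_mem hc (conj_mem_of_mem_normalizer (hBA b' hb') (inv_mem hc))
      simpa [mul_assoc] using this
    rw [hinf, mem_bot, mul_inv_eq_one, mul_inv_eq_iff_eq_mul] at h1
    exact h1.symm
  have hx : ∃ x ∈ A, x ∉ centralizer (cj g A : Set G) := by
    by_contra hc
    push Not at hc
    exact hne (hb g fun a ha b hb => (hc a ha b hb).symm)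
  obtain ⟨x, hx, hx'⟩ := hx
  have hsq : ∀ b ∈ cj g A, b * b = 1 := fun b hb => by
    obtain ⟨c, hc, rfl⟩ := hb
    exact conj_mul_self (by rw [← pow_two]; exact hA.2 c hc) g
  have h1 : Nat.card (cj g A) ≤ Nat.card (A ⊓ centralizer (cj g A : Set G) : Subgroup G) := by
    refine cnt_le_of_injOn (p := fun b => b ∈ cj g A) (fun b => x * (b * x * b⁻¹)) (fun b hb => ?_) ?_
    · have h2 := conj_mem_of_mem_normalizer (hBA b hb) hx
      refine mem_inf.2 ⟨mul_mem hx h2, ?_⟩
      by_cases hb1 : b = 1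
      · rw [hb1, one_mul, inv_one, mul_one, ← pow_two, hA.2 x hx]; exact one_mem _
      refine hC _ (mul_mem hx h2) b hb hb1 (commute_iff_conj.2 ?_).symm
      calc b * (x * (b * x * b⁻¹)) * b⁻¹ = (b * x * b⁻¹) * ((b * b) * x * (b * b)⁻¹) := by group
        _ = _ := by rw [hsq b hb, one_mul, inv_one, mul_one, hcomm _ h2 x hx]
    · intro b b' hb hb' h
      simp only [mul_right_inj] at h
      by_contra hne'
      exact hx' (hC x hx _ (mul_mem (inv_mem hb') hb) (fun h => hne' (inv_mul_eq_one.1 h).symm)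
        (conj_eq_conj_iff.1 h).symm)
  rw [card_cj] at h1
  have := eq_of_le_of_card_ge inf_le_left h1
  exact hx' (mem_inf.1 (this.symm ▸ hx)).2

end Cfsg.Agent.S1177
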