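import Cfsg.Statements.S1181
import Cfsg.Agent.Lib.Transfer.Invol

set_option autoImplicit false
open Cfsg

namespace Cfsg.Agent.S1181

set_option linter.unusedSectionVars false
set_option linter.unusedVariables false
set_option linter.style.haveILetI false
set_option linter.unusedSimpArgs false

open Subgroup Cfsg.Agent.Transfer

/-- Let z be an isolated involution of the finite group G and N a normal subgroup with z ∉ N. Then the centralizer of zN in G/N is the image of C_G(z), and zN is an isolated involution of G/N. -/
theorem result {G : Type*} [Group G] [Finite G] (z : G) (hz : Cfsg.IsIsolatedInvolution z) (N : Subgroup G) [N.Normal] (hzN : z ∉ N) : Subgroup.centralizer ({(QuotientGroup.mk z : G ⧸ N)} : Set (G ⧸ N)) = (Subgroup.centralizer ({z} : Set G)).map (QuotientGroup.mk' N) ∧ Cfsg.IsIsolatedInvolution (QuotientGroup.mk z : G ⧸ N) := by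
  have h1 := mul_self_of_orderOf hz.1
  constructor
  · ext x
    obtain ⟨g, rfl⟩ := QuotientGroup.mk_surjective x
    constructor
    · intro hg
      obtain ⟨c, hc, h, -⟩ := isolated_exists_conj hz g
      have hcN : c ∈ N := by
        refine zpowers_le.2 ?_ hc
        rw [← QuotientGroup.eq_one_iff]
        have := commute_iff_conj.1 (mem_centralizer_singleton'.1 hg)
        simp only [QuotientGroup.mk_mul, QuotientGroup.mk_inv, this]
        rw [← QuotientGroup.mk_mul, h1, QuotientGroup.mk_one]
      refine ⟨c⁻¹ * g, mem_centralizer_singleton'.2 (commute_iff_conj.2 ?_), ?_⟩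
      · calc _ = c⁻¹ * (g * z * g⁻¹) * c := by group
          _ = z := by rw [← h]; group
      · simp [(QuotientGroup.eq_one_iff c).2 hcN]
    · rintro ⟨c, hc, he⟩
      rw [← he]
      exact mem_centralizer_singleton'.2 ((mem_centralizer_singleton'.1 hc).map (QuotientGroup.mk' N))
  · refine isolated_of_odd (orderOf_eq_two (by rw [← QuotientGroup.mk_mul, h1, QuotientGroup.mk_one])
      (by rwa [Ne, QuotientGroup.eq_one_iff])) fun x => ?_
    obtain ⟨g, rfl⟩ := QuotientGroup.mk_surjective x
    exact (isolated_odd hz g).of_dvd_nat (orderOf_map_dvd (QuotientGroup.mk' N) (z * (g * z * g⁻¹)))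

end Cfsg.Agent.S1181
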