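import Cfsg.Statements.S1183
import Cfsg.Agent.Lib.Transfer.Invol

set_option autoImplicit false
open Cfsg

namespace Cfsg.Agent.S1183

set_option linter.unusedSectionVars false
set_option linter.unusedVariables false
set_option linter.style.haveILetI false
set_option linter.unusedSimpArgs false

open Subgroup Cfsg.Agent.Transfer

/-- Let z be an isolated involution of the finite group G and C = C_G(z). Then the subgroup of G generated by its elements of odd order is all of G if and only if the subgroup of C generated by its elements of odd order is all of C. -/
theorem result {G : Type*} [Group G] [Finite G] (z : G) (hz : Cfsg.IsIsolatedInvolution z) : Cfsg.pResidual 2 G = ⊤ ↔ Cfsg.pResidual 2 ↥(Subgroup.centralizer ({z} : Set G)) = ⊤ := by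
  obtain ⟨P, hP⟩ := (isPGroup_two_zpowers (mul_self_of_orderOf hz.1)).exists_le_sylow
  have hPC := isolated_le_centralizer hz P.2 (hP (mem_zpowers z))
  have key := sylow_inf_pResidual_eq_of_controls P hPC (fun x hx g hg => by
    obtain ⟨c, -, h1, h2⟩ := isolated_controls hz (H := ⊤) (le_normalizer (mem_top z)) (A := {x})
      (mem_top g) (by simpa using mem_centralizer_singleton'.1 (hPC hx))
      (by simpa using mem_centralizer_singleton'.1 (hPC hg))
    exact ⟨c, mem_centralizer_singleton'.2 h1, h2 x rfl⟩)
  rw [← res_eq_self_iff]
  constructor
  · intro h
    rw [h, inf_top_eq, left_eq_inf] at key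
    have := ((isSyl_top P).mono hPC le_top).res_sup
    rwa [sup_eq_left.2 key] at this
  · intro h
    rw [h, inf_eq_left.2 hPC, inf_eq_left] at key
    have := pResidual_sup_sylow P
    rwa [sup_eq_left.2 key] at this

end Cfsg.Agent.S1183
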