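import Cfsg.Statements.S1184
import Cfsg.Agent.Lib.Transfer.Invol

set_option autoImplicit false
open Cfsg

namespace Cfsg.Agent.S1184

set_option linter.unusedSectionVars false
set_option linter.unusedVariables false
set_option linter.style.haveILetI false
set_option linter.unusedSimpArgs false

open Subgroup Cfsg.Agent.Transfer

/-- Let z be an isolated involution of the finite group G. If s and t are distinct conjugates of z, then st does not commute with z. -/
theorem result {G : Type*} [Group G] [Finite G] (z : G) (hz : Cfsg.IsIsolatedInvolution z) (g h : G) (hne : g * z * g⁻¹ ≠ h * z * h⁻¹) : ¬ Commute (g * z * g⁻¹ * (h * z * h⁻¹)) z := by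
  intro hc
  have h1 := mul_self_of_orderOf hz.1
  have h2 := mul_self_eq_one_of_commute_of_inverts h1 (conj_mul_self h1 g) (isolated_odd hz g) hc.symm
    (inverts_mul_left (conj_mul_self h1 g) (conj_mul_self h1 h))
  have h3 := eq_one_of_odd_of_mul_self (isolated_odd' hz g h) h2
  exact hne (by rw [← inv_eq_of_mul_eq_one_right h3, inv_eq_of_mul_eq_one_right (conj_mul_self h1 g)])

end Cfsg.Agent.S1184
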