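import Cfsg.Statements.S1185
import Cfsg.Agent.Lib.Transfer.Invol

set_option autoImplicit false
open Cfsg

namespace Cfsg.Agent.S1185

set_option linter.unusedSectionVars false
set_option linter.unusedVariables false
set_option linter.style.haveILetI false
set_option linter.unusedSimpArgs false

open Subgroup Cfsg.Agent.Transfer

/-- Let z be an isolated involution of the finite group G with centralizer C. Then for every g ∈ G there is exactly one element k in the coset gC that has odd order and is inverted by z. -/
theorem result {G : Type*} [Group G] [Finite G] (z : G) (hz : Cfsg.IsIsolatedInvolution z) (g : G) : ∃! k : G, (Odd (orderOf k) ∧ z * k * z⁻¹ = k⁻¹) ∧ g⁻¹ * k ∈ Subgroup.centralizer ({z} : Set G) := by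
  have key : ∀ k : G, g⁻¹ * k ∈ centralizer ({z} : Set G) ↔ k * z * k⁻¹ = g * z * g⁻¹ := by
    intro k
    rw [mem_centralizer_singleton', commute_iff_conj]
    constructor
    · intro h
      calc _ = g * (g⁻¹ * k * z * (g⁻¹ * k)⁻¹) * g⁻¹ := by group
        _ = _ := by rw [h]
    · intro h
      calc _ = g⁻¹ * (k * z * k⁻¹) * g := by group
        _ = _ := by rw [h]; group
  obtain ⟨c, -, h, h1, h2⟩ := isolated_exists_conj hz g
  refine ⟨c, ⟨⟨h1, h2⟩, (key c).2 h⟩, ?_⟩
  rintro k ⟨⟨h3, h4⟩, h5⟩
  exact eq_of_conj_eq_of_inverts h3 h1 h4 h2 (((key k).1 h5).trans h.symm)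

end Cfsg.Agent.S1185
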