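import Cfsg.Statements.S1186
import Cfsg.Agent.Lib.Transfer.Count

set_option autoImplicit false
open Cfsg

namespace Cfsg.Agent.S1186

set_option linter.unusedSectionVars false
set_option linter.unusedVariables false
set_option linter.style.haveILetI false
set_option linter.unusedSimpArgs false

open Subgroup Cfsg.Agent.Transfer

/-- Let z be an isolated involution of the finite group G, C = C_G(z), K the set of elements of odd order inverted by z, and s an involution of C. Then |G| = |C| · |C_K(sz)| · |C_K(s)|. -/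
theorem result {G : Type*} [Group G] [Finite G] (z : G) (hz : Cfsg.IsIsolatedInvolution z) (s : G) (hs : orderOf s = 2) (hsz : Commute s z) : Nat.card G = Nat.card (Subgroup.centralizer ({z} : Set G)) * Nat.card {k : G // Odd (orderOf k) ∧ z * k * z⁻¹ = k⁻¹ ∧ Commute k (s * z)} * Nat.card {k : G // Odd (orderOf k) ∧ z * k * z⁻¹ = k⁻¹ ∧ Commute k s} := by
  have hz1 := mul_self_of_orderOf hz.1
  have hs1 := mul_self_of_orderOf hs
  have hK : ∀ w : G, Commute w z → ∀ y, IsConj z y → Commute y w →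
      ∃ k, (Odd (orderOf k) ∧ z * k * z⁻¹ = k⁻¹ ∧ Commute k w) ∧ k * z * k⁻¹ = y := by
    intro w hw y hy hyw
    obtain ⟨g, rfl⟩ := isConj_iff.1 hy
    obtain ⟨c, hc, h1, h2, h3⟩ := isolated_exists_conj hz g
    exact ⟨c, ⟨h2, h3, mem_centralizer_singleton'.1 (zpowers_le.2
      (mem_centralizer_singleton'.2 (hw.symm.mul_left hyw)) hc)⟩, h1⟩
  rw [← card_isConj_mul z, mul_assoc, mul_comm]
  congr 1
  rw [← cnt_prod]
  symm
  refine cnt_eq_of_bij (fun p : G × G => p.2 * (p.1 * z * p.1⁻¹) * p.2⁻¹) ?_ ?_ ?_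
  · intro p _
    exact (isConj_conj _ _).trans (isConj_conj _ _)
  · have key : ∀ a b : G, Commute b (s * z) → Commute a s → ∃ m, Odd m ∧
        (s * (a * (b * z * b⁻¹) * a⁻¹)) ^ m = s * (a * z * a⁻¹) := by
      intro a b hb ha
      refine ⟨_, isolated_odd hz b, ?_⟩
      have h1 : Commute (s * z) (z * (b * z * b⁻¹)) := by
        have h0 : Commute (s * z) z := hsz.mul_left (Commute.refl z)
        exact h0.mul_right ((hb.symm.mul_right h0).mul_right hb.symm.inv_right)
      have h2 : s * (a * (b * z * b⁻¹) * a⁻¹) = a * ((s * z) * (z * (b * z * b⁻¹))) * a⁻¹ := by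
        rw [mul_assoc s, ← mul_assoc z, hz1, one_mul, ← mul_assoc a s, ha.eq]; group
      obtain ⟨m, hm⟩ := isolated_odd hz b
      have h3 : (s * z) ^ 2 = 1 := by rw [hsz.mul_pow, pow_two, pow_two, hs1, hz1, one_mul]
      rw [h2, conj_pow, h1.mul_pow, pow_orderOf_eq_one, mul_one, hm, pow_succ, pow_mul, h3, one_pow,
        one_mul, ← mul_assoc a, ha.eq]
      group
    have key2 : ∀ a : G, Commute a s → ∀ m, Odd m → (s * (a * z * a⁻¹)) ^ m = s * (a * z * a⁻¹) := by
      rintro a ha m ⟨k, rfl⟩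
      have h1 : Commute s (a * z * a⁻¹) := (ha.symm.mul_right hsz).mul_right ha.symm.inv_right
      rw [pow_succ, pow_mul, h1.mul_pow, pow_two, pow_two, hs1, conj_mul_self hz1, one_mul, one_pow,
        one_mul]
    rintro ⟨b, a⟩ ⟨b', a'⟩ ⟨⟨hb1, hb2, hb3⟩, ha1, ha2, ha3⟩ ⟨⟨hb1', hb2', hb3'⟩, ha1', ha2', ha3'⟩ he
    simp only at *
    obtain ⟨m, hm, h1⟩ := key a b hb3 ha3
    obtain ⟨m', hm', h2⟩ := key a' b' hb3' ha3'
    have h3 : s * (a * z * a⁻¹) = s * (a' * z * a'⁻¹) := by
      rw [← key2 a ha3 m' hm', ← key2 a' ha3' m hm, ← h1, ← h2, he, ← pow_mul, ← pow_mul, mul_comm]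
    rw [mul_right_inj] at h3
    have h4 := eq_of_conj_eq_of_inverts ha1 ha1' ha2 ha2' h3
    subst h4
    rw [mul_left_inj, mul_right_inj] at he
    rw [eq_of_conj_eq_of_inverts hb1 hb1' hb2 hb2' he]
  · intro y hy
    have h1 : ∃ y', IsConj z y' ∧ Commute y' s ∧ Commute y (s * y') := by
      by_cases hsz' : IsConj s z
      · refine ⟨s, hsz'.symm, Commute.refl s, by rw [hs1]; exact Commute.one_right y⟩
      obtain ⟨g, rfl⟩ := isConj_iff.1 hy
      have h2 := isolated_orderOf_mul (isolated_conj hz g) hs1 fun h => hsz' (h.trans hy.symm)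
      set y := g * z * g⁻¹
      have hy1 : y * y = 1 := conj_mul_self hz1 g
      obtain ⟨k, hk⟩ : ∃ k, orderOf (s * y) / 2 = 2 * k + 1 := ⟨orderOf (s * y) / 4, by omega⟩
      have h3 := mul_self_of_orderOf (orderOf_pow_half (a := s * y) ⟨orderOf (s * y) / 2, by omega⟩)
      rw [hk] at h3
      have h4 := commute_of_inverts_of_sq (conj_pow_of_inverts (inverts_mul_left hs1 hy1) _) h3
      have h5 := commute_of_inverts_of_sq (conj_pow_of_inverts (inverts_mul_right hs1 hy1) _) h3
      refine ⟨(s * y) ^ (2 * k + 1) * s, hy.trans (isConj_iff.2 ⟨(s * y) ^ (k + 1), ?_⟩),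
        h4.mul_left (Commute.refl s), ?_⟩
      · rw [conj_eq_of_inverts (conj_pow_of_inverts (inverts_mul_right hs1 hy1) _), ← pow_add,
          show k + 1 + (k + 1) = 2 * k + 1 + 1 by ring, pow_succ, mul_assoc, mul_assoc, hy1, mul_one]
      · rw [h4.eq, ← mul_assoc, hs1, one_mul]
        exact h5.symm
    obtain ⟨y', h1, h2, h3⟩ := h1
    obtain ⟨a, ha, rfl⟩ := hK s hsz y' h1 h2
    obtain ⟨b, hb, h4⟩ := hK (s * z) (hsz.mul_left (Commute.refl z)) (a⁻¹ * y * a⁻¹⁻¹)
      (hy.trans (isConj_conj _ _)) (by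
        have := h3.map (MulAut.conj a⁻¹)
        simp only [MulAut.conj_apply] at this
        convert this using 1
        rw [← mul_assoc, ← mul_assoc, ← mul_assoc, ha.2.2.inv_left.eq]
        group)
    exact ⟨(b, a), ⟨hb, ha⟩, by simp only; rw [h4]; group⟩

end Cfsg.Agent.S1186
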