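import Cfsg.Statements.S1189
import Cfsg.Agent.Lib.Transfer.MC

set_option autoImplicit false
open Cfsg

namespace Cfsg.Agent.S1189

set_option linter.unusedSectionVars false
set_option linter.unusedVariables false
set_option linter.style.haveILetI false
set_option linter.unusedSimpArgs false

open Subgroup Transfer MS

/-- A quasi-dihedral 2-group has exactly two conjugacy classes of elements of order 2 and exactly two conjugacy classes of elements of order 4. -/
theorem result {S : Type*} [Group S] [Finite S] (hS : Cfsg.IsQuasiDihedral S) : Nat.card {C : ConjClasses S // ∃ t : S, orderOf t = 2 ∧ ConjClasses.mk t = C} = 2 ∧ Nat.card {C : ConjClasses S // ∃ t : S, orderOf t = 4 ∧ ConjClasses.mk t = C} = 2 := by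
  obtain ⟨a, b, n, h⟩ := qd_top hS
  refine ⟨classes_eq_two h.ord_z h.ord_b (fun e => ?_) fun t ht => ?_,
    classes_eq_two (h.ord_w h.one) h.ord_ab (fun e => ?_) fun t ht => ?_⟩
  · obtain ⟨g, e⟩ := isConj_iff.1 e
    exact h.notMem (e ▸ h.a2.conj_mem (mem_top g) h.z_mem)
  · exact (h.invol (mem_top t) ht).imp (fun e => by rw [e]) fun ⟨u, _, e⟩ => isConj_iff.2 ⟨u, e⟩
  · obtain ⟨g, e⟩ := isConj_iff.1 e
    exact h.ab_out (e ▸ h.a2.conj_mem (mem_top g) (pow_mem (mem_zpowers a) _))
  · exact (h.four (mem_top t) ht).imp (fun ⟨u, _, e⟩ => isConj_iff.2 ⟨u, e⟩) fun ⟨u, _, e⟩ => isConj_iff.2 ⟨u, e⟩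

end Cfsg.Agent.S1189
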