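import Cfsg.Statements.S1190
import Cfsg.Agent.Lib.Transfer.MC

set_option autoImplicit false
open Cfsg

namespace Cfsg.Agent.S1190

set_option linter.unusedSectionVars false
set_option linter.unusedVariables false
set_option linter.style.haveILetI false
set_option linter.unusedSimpArgs false

open Subgroup Transfer MS

/-- In a quasi-dihedral 2-group S, any two Klein four-subgroups are conjugate, and every Klein four-subgroup T satisfies C_S(T) = T and |N_S(T) : T| = 2. -/
theorem result {S : Type*} [Group S] [Finite S] (hS : Cfsg.IsQuasiDihedral S) : (∀ T₁ T₂ : Subgroup S, IsKleinFour T₁ → IsKleinFour T₂ → ∃ s : S, T₁.map (MulAut.conj s).toMonoidHom = T₂) ∧ (∀ T : Subgroup S, IsKleinFour T → Subgroup.centralizer (T : Set S) = T ∧ T.relIndex (Subgroup.normalizer (T : Set S)) = 2) := by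
  obtain ⟨a, b, n, h⟩ := qd_top hS
  refine ⟨fun T₁ T₂ h1 h2 => ?_, fun T hT => ?_⟩
  · obtain ⟨u, -, rfl⟩ := h.klein' le_top h1
    obtain ⟨v, -, rfl⟩ := h.klein' le_top h2
    exact ⟨v * u⁻¹, by rw [← cj, cj_cj, inv_mul_cancel_right]⟩
  · obtain ⟨s, hs, hs', -, rfl⟩ := h.klein le_top hT
    have h1 := h.out hs hs'
    refine ⟨le_antisymm ((le_inf le_top (cc_le_C1 (h1.b_mem_X n))).trans h1.cc_b.le) (ab_cc (klein_isMulCommutative hT)), ?_⟩
    obtain ⟨m, rfl⟩ := Nat.exists_eq_add_of_le' h.one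
    have := h1.nn_X le_rfl
    rw [top_inf_eq] at this
    rw [this]; exact (h1.ix2_XX le_rfl).idx

end Cfsg.Agent.S1190
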