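import Cfsg.Statements.S1191
import Cfsg.Agent.Lib.Transfer.MC

set_option autoImplicit false
open Cfsg

namespace Cfsg.Agent.S1191

set_option linter.unusedSectionVars false
set_option linter.unusedVariables false
set_option linter.style.haveILetI false
set_option linter.unusedSimpArgs false

open Subgroup Transfer MS

/-- In a quasi-dihedral 2-group S, any two subgroups isomorphic to the quaternion group of order 8 are conjugate, and each such subgroup Q satisfies C_S(Q) = Z(Q) and |N_S(Q) : Q| = 2. -/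
theorem result {S : Type*} [Group S] [Finite S] (hS : Cfsg.IsQuasiDihedral S) : (∀ Q₁ Q₂ : Subgroup S, Nonempty (Q₁ ≃* QuaternionGroup 2) → Nonempty (Q₂ ≃* QuaternionGroup 2) → ∃ s : S, Q₁.map (MulAut.conj s).toMonoidHom = Q₂) ∧ (∀ Q : Subgroup S, Nonempty (Q ≃* QuaternionGroup 2) → Subgroup.centralizer (Q : Set S) = (Subgroup.center Q).map Q.subtype ∧ Q.relIndex (Subgroup.normalizer (Q : Set S)) = 2) := by
  obtain ⟨a, b, n, h⟩ := qd_top hS
  refine ⟨fun T₁ T₂ h1 h2 => ?_, fun T hT => ?_⟩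
  · obtain ⟨u, -, rfl⟩ := h.q8' le_top h1
    obtain ⟨v, -, rfl⟩ := h.q8' le_top h2
    exact ⟨v * u⁻¹, by rw [← cj, cj_cj, inv_mul_cancel_right]⟩
  · obtain ⟨-, s, hs, hs', -, rfl⟩ := h.q8 le_top hT
    have h1 := h.out hs hs'
    obtain ⟨m, rfl⟩ := Nat.exists_eq_add_of_le' h.two
    refine ⟨?_, ?_⟩
    · rw [map_center_eq]
      exact (inf_eq_right.2 (((le_inf le_top (cc_le_C1 (h1.b_mem_X _))).trans h1.cc_b.le).trans
        (sup_le_sup_right (h.pow_le_pow (by omega)) _))).symm
    · have := h1.nn_X (k := m) (by omega)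
      rw [top_inf_eq] at this
      show (Xk a (m + 1) s).relIndex (NN (Xk a (m + 1) s)) = 2
      rw [this]; exact (h1.ix2_XX (by omega)).idx

end Cfsg.Agent.S1191
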