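import Cfsg.Statements.S1192
import Cfsg.Agent.Lib.Transfer.MC

set_option autoImplicit false
open Cfsg

namespace Cfsg.Agent.S1192

set_option linter.unusedSectionVars false
set_option linter.unusedVariables false
set_option linter.style.haveILetI false
set_option linter.unusedSimpArgs false

open Subgroup Transfer MS

/-- A quasi-dihedral group S of order 2^(n+1) has exactly three maximal subgroups; one is cyclic, one is isomorphic to the generalized quaternion group of order 2^n and one to the dihedral group of order 2^n. -/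
theorem result {S : Type*} [Group S] [Finite S] (hS : Cfsg.IsQuasiDihedral S) (n : ℕ) (hn : Nat.card S = 2 ^ (n + 1)) : ∃ M₁ M₂ M₃ : Subgroup S, IsCoatom M₁ ∧ IsCoatom M₂ ∧ IsCoatom M₃ ∧ M₁ ≠ M₂ ∧ M₁ ≠ M₃ ∧ M₂ ≠ M₃ ∧ (∀ M : Subgroup S, IsCoatom M → M = M₁ ∨ M = M₂ ∨ M = M₃) ∧ IsCyclic M₁ ∧ Nonempty (M₂ ≃* QuaternionGroup (2 ^ (n - 2))) ∧ Nonempty (M₃ ≃* DihedralGroup (2 ^ (n - 1))) := by
  obtain ⟨a, b, m, h⟩ := qd_top hS
  obtain rfl : n = m + 1 := by
    have := h.card; rw [card_top, hn] at this; have := Nat.pow_right_injective le_rfl this; omega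
  exact ⟨zpowers a, Xk a 1 (a * b), Xk a 1 b, h.a2.coatom, (h.mc'.ix2_M h.one).coatom, (h.ix2_M h.one).coatom,
    fun e => h.ab_out (e ▸ h.mc'.b_mem_X 1), fun e => h.notMem (e ▸ h.b_mem_X 1),
    fun e => h.ab_notMem h.one (e ▸ h.mc'.b_mem_X 1),
    fun M hM => by have := h.ix2_cases h.one (ix2_of_coatom (h.pg.of_equiv topEquiv) hM); tauto,
    cyc_zpowers a, h.mc'.quat_M h.one h.sq_ab, h.dih_M h.one h.sq1⟩

end Cfsg.Agent.S1192
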