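import Cfsg.Statements.S1193
import Cfsg.Agent.Lib.Transfer.MC

set_option autoImplicit false
open Cfsg

namespace Cfsg.Agent.S1193

set_option linter.unusedSectionVars false
set_option linter.unusedVariables false
set_option linter.style.haveILetI false
set_option linter.unusedSimpArgs false

open Subgroup Transfer MS

/-- Let S be quasi-dihedral of order 2^(n+1). Then S' = Φ(S) is cyclic of order 2^(n-1), the centre of S has order 2, and the subgroup generated by the involutions of S is dihedral of order 2^n. -/
theorem result {S : Type*} [Group S] [Finite S] (hS : Cfsg.IsQuasiDihedral S) (n : ℕ) (hn : Nat.card S = 2 ^ (n + 1)) : commutator S = frattini S ∧ IsCyclic (commutator S) ∧ Nat.card (commutator S) = 2 ^ (n - 1) ∧ Nat.card (Subgroup.center S) = 2 ∧ Nonempty (↥(Subgroup.closure {x : S | orderOf x = 2}) ≃* DihedralGroup (2 ^ (n - 1))) := by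
  obtain ⟨a, b, m, h⟩ := qd_top hS
  obtain rfl : n = m + 1 := by
    have := h.card; rw [card_top, hn] at this; have := Nat.pow_right_injective le_rfl this; omega
  have h1 : _root_.commutator S = zpowers (a * a) := h.der h.one
  refine ⟨le_antisymm (le_iInf₂ fun M hM => (ix2_of_coatom (h.pg.of_equiv topEquiv) hM).der_le) fun x hx => ?_,
    h1 ▸ cyc_zpowers _, ?_, ?_, ?_⟩
  · rw [h1]
    simpa [pow_two] using h.X_inf h.one (frattini_le_coatom h.a2.coatom hx) (frattini_le_coatom (h.ix2_M h.one).coatom hx)
  · rw [h1, Nat.card_zpowers, (h.mc_M h.one).ord, Nat.sub_add_cancel h.one]; rfl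
  · have := h.center h.one
    rw [top_inf_eq, coe_top, centralizer_univ] at this
    rw [this, Nat.card_zpowers, h.ord_z]
  · have := h.omega
    simp only [mem_top, true_and] at this
    rw [this]; exact h.dih_M h.one h.sq1

end Cfsg.Agent.S1193
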