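import Cfsg.Statements.S1194
import Cfsg.Agent.Lib.Transfer.MC

set_option autoImplicit false
open Cfsg

namespace Cfsg.Agent.S1194

set_option linter.unusedSectionVars false
set_option linter.unusedVariables false
set_option linter.style.haveILetI false
set_option linter.unusedSimpArgs false

open Subgroup Transfer MS

/-- In a quasi-dihedral 2-group S, every proper normal subgroup is either a maximal subgroup or a cyclic subgroup contained in the derived subgroup S'. -/
theorem result {S : Type*} [Group S] [Finite S] (hS : Cfsg.IsQuasiDihedral S) (N : Subgroup S) [N.Normal] (hN : N ≠ ⊤) : IsCoatom N ∨ (IsCyclic N ∧ N ≤ commutator S) := by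
  obtain ⟨a, b, m, h⟩ := qd_top hS
  by_cases e : N ≤ zpowers a
  · by_cases ha : N ≤ zpowers (a * a)
    · exact .inr ⟨cyc_mono (cyc_zpowers a) e, ha.trans (h.der h.one).ge⟩
    · obtain ⟨x, hx, hx'⟩ := SetLike.not_le_iff_exists.1 ha
      obtain ⟨w, hw, rfl⟩ | e1 := Solv.exists_pow_eq_or_mem Nat.prime_two h.ord (e hx)
      · exact absurd (pow_two w ▸ (ix2_sq h.ord).sq_mem hw) hx'
      · rw [le_antisymm e (zpowers_le.2 (zpowers_le.2 hx e1))]; exact .inl h.a2.coatom
  · obtain ⟨s, hs, hs'⟩ := SetLike.not_le_iff_exists.1 e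
    have h1 := h.out (mem_top s) hs'
    have h2 := (h1.ix2_M h.one).coatom
    rw [(h2.le_iff.1 (h1.M_le (nn_normal (mem_top a)) hs)).resolve_left hN]
    exact .inl h2

end Cfsg.Agent.S1194
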