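import Cfsg.Statements.S1195
import Cfsg.Agent.Lib.Transfer.Wr3

set_option autoImplicit false
open Cfsg

namespace Cfsg.Agent.S1195

set_option linter.unusedSectionVars false
set_option linter.unusedVariables false
set_option linter.style.haveILetI false
set_option linter.unusedSimpArgs false

open Subgroup Transfer MS

/-- A wreathed 2-group has exactly three conjugacy classes of elements of order 2. -/
theorem result {S : Type*} [Group S] [Finite S] (hS : Cfsg.IsWreathed S) : Nat.card {C : ConjClasses S // ∃ t : S, orderOf t = 2 ∧ ConjClasses.mk t = C} = 3 := by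
  obtain ⟨x, y, z, n, h⟩ := wr_top hS
  have h1 : ∀ s, IsConj ((x * y⁻¹) ^ 2 ^ n) s → s ∈ zpowers (x * y) := fun s e => by
    obtain ⟨g, rfl⟩ := isConj_iff.1 e
    rw [h.Z_cent h.t_mem g (mem_top g), mul_inv_cancel_right]; exact h.t_mem
  refine classes_eq_three h.ord_t h.ord_x0 h.ord_z (fun e => h.x0_notMem (h1 _ e)) (fun e => h.notMem (Wr.wU (h1 _ e)))
    (fun e => ?_) fun t ht => ?_
  · obtain ⟨g, e⟩ := isConj_iff.1 e
    exact h.notMem (e ▸ h.a2.conj_mem (mem_top g) (pow_mem Wr.xU _))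
  · obtain rfl | ⟨u, -, e⟩ | ⟨u, -, e⟩ := h.invol (mem_top t) ht
    exacts [.inl (IsConj.refl _), .inr (.inl (isConj_iff.2 ⟨u, e⟩)), .inr (.inr (isConj_iff.2 ⟨u, e⟩))]

end Cfsg.Agent.S1195
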