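import Cfsg.Statements.S1196
import Cfsg.Agent.Lib.Transfer.Wr3

set_option autoImplicit false
open Cfsg

namespace Cfsg.Agent.S1196

set_option linter.unusedSectionVars false
set_option linter.unusedVariables false
set_option linter.style.haveILetI false
set_option linter.unusedSimpArgs false

open Subgroup Transfer MS

/-- A wreathed 2-group S of order 2^(2n+1) has a unique commutative subgroup of order 2^(2n), and this subgroup is isomorphic to the direct product of two cyclic groups of order 2^n. -/
theorem result {S : Type*} [Group S] [Finite S] (hS : Cfsg.IsWreathed S) (n : ℕ) (hn : Nat.card S = 2 ^ (2 * n + 1)) : (∃! U : Subgroup S, IsMulCommutative U ∧ Nat.card U = 2 ^ (2 * n)) ∧ ∀ U : Subgroup S, IsMulCommutative U → Nat.card U = 2 ^ (2 * n) → Nonempty (U ≃* Multiplicative (ZMod (2 ^ n) × ZMod (2 ^ n))) := by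
  obtain ⟨x, y, z, m, h⟩ := wr_top hS
  obtain rfl := h.n_eq (card_top.trans hn)
  refine ⟨⟨_, ⟨h.abU, h.card_U⟩, fun U h1 => h.eq_U le_top h1.1 h1.2⟩, fun U h1 h2 => ?_⟩
  rw [h.eq_U le_top h1 h2]
  have hc : ∀ (a : zpowers x) (b : zpowers y), Commute ((zpowers x).subtype a) ((zpowers y).subtype b) :=
    fun a b => h.a2.comm (mem_sup_left a.2) (mem_sup_right b.2)
  have e := MonoidHom.ofInjective ((MonoidHom.noncommCoprod_injective _ _ hc).2 ⟨subtype_injective _,
    subtype_injective _, by rw [range_subtype, range_subtype, disjoint_iff, h.disj]⟩)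
  rw [MonoidHom.noncommCoprod_range, range_subtype, range_subtype] at e
  have key : ∀ a : S, orderOf a = 2 ^ (m + 1) → Nonempty (zpowers a ≃* Multiplicative (ZMod (2 ^ (m + 1)))) :=
    fun a ha => ⟨mulEquivOfCyclicCardEq (by simp [ha])⟩
  exact ⟨e.symm.trans (((key x h.ord).some.prodCongr (key y h.ord_y).some).trans (MulEquiv.prodMultiplicative _ _).symm)⟩

end Cfsg.Agent.S1196
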