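import Cfsg.Statements.S1197
import Cfsg.Agent.Lib.Transfer.Wr3

set_option autoImplicit false
open Cfsg

namespace Cfsg.Agent.S1197

set_option linter.unusedSectionVars false
set_option linter.unusedVariables false
set_option linter.style.haveILetI false
set_option linter.unusedSimpArgs false

open Subgroup Transfer MS

/-- Let S be a wreathed 2-group of order 2^(2n+1). Then Z(S) is cyclic of order 2^n, the derived subgroup S' is cyclic of order 2^n, and S/Z(S) is isomorphic to the dihedral group of order 2^(n+1). -/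
theorem result {S : Type*} [Group S] [Finite S] (hS : Cfsg.IsWreathed S) (n : ℕ) (hn : Nat.card S = 2 ^ (2 * n + 1)) : IsCyclic (Subgroup.center S) ∧ Nat.card (Subgroup.center S) = 2 ^ n ∧ IsCyclic (commutator S) ∧ Nat.card (commutator S) = 2 ^ n ∧ Nonempty (S ⧸ Subgroup.center S ≃* DihedralGroup (2 ^ n)) := by
  obtain ⟨x, y, z, m, h⟩ := wr_top hS
  obtain rfl := h.n_eq (card_top.trans hn)
  have h1 := center_eq_of_top h.center
  have h2 : _root_.commutator S = zpowers (x * y⁻¹) := h.der
  refine ⟨h1 ▸ cyc_zpowers _, by rw [h1, Nat.card_zpowers, h.ord_w], h2 ▸ cyc_zpowers _,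
    by rw [h2, Nat.card_zpowers, h.ord_c], ?_⟩
  set f := QuotientGroup.mk' (center S)
  have h3 : f.ker = zpowers (x * y) := (QuotientGroup.ker_mk' _).trans h1
  have h4 : f z * f x * (f z)⁻¹ = (f x)⁻¹ := by
    rw [← map_inv, ← map_mul, ← map_mul, h.cnj, eq_inv_iff_mul_eq_one, ← map_mul, ← h.comm.eq, ← MonoidHom.mem_ker, h3]
    exact mem_zpowers _
  have h5 : orderOf (f x) = 2 ^ (m + 1) := orderOf_eq_prime_pow (by
    rw [← map_pow, ← MonoidHom.mem_ker, h3]; exact h.x0_notMem) (by rw [← map_pow, ← h.ord, pow_orderOf_eq_one, map_one])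
  refine Classical.nonempty_dihedral_of_card (f x) (f z) h5 (by rw [← map_mul, h.sq, map_one]) (by
    rw [← h4, ← mul_assoc, ← mul_assoc, ← map_mul f z z, h.sq, map_one, one_mul, mul_right_inj, eq_inv_iff_mul_eq_one,
      ← map_mul, h.sq, map_one]) (fun e => h.notMem ?_) ?_
  · rw [← MonoidHom.map_zpowers, ← mem_comap, comap_map_eq, h3] at e
    exact sup_le le_sup_left Wr.wU e
  · have := (center S).card_eq_card_quotient_mul_card_subgroup
    rw [hn, h1, Nat.card_zpowers, h.ord_w, ← h1] at this
    refine Nat.eq_of_mul_eq_mul_right (Nat.two_pow_pos (m + 1)) (this.symm.trans ?_); ring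

end Cfsg.Agent.S1197
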