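import Cfsg.Statements.S1198
import Cfsg.Agent.Lib.Transfer.Wr3

set_option autoImplicit false
open Cfsg

namespace Cfsg.Agent.S1198

set_option linter.unusedSectionVars false
set_option linter.unusedVariables false
set_option linter.style.haveILetI false
set_option linter.unusedSimpArgs false

open Subgroup Transfer MS

/-- A wreathed 2-group S has a normal Klein four-subgroup T such that every Klein four-subgroup of S other than T is conjugate in S to any other such subgroup; in particular S has exactly two conjugacy classes of Klein four-subgroups. -/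
theorem result {S : Type*} [Group S] [Finite S] (hS : Cfsg.IsWreathed S) : ∃ T : Subgroup S, IsKleinFour T ∧ T.Normal ∧ (∃ T₀ : Subgroup S, IsKleinFour T₀ ∧ T₀ ≠ T) ∧ ∀ T₁ T₂ : Subgroup S, IsKleinFour T₁ → IsKleinFour T₂ → T₁ ≠ T → T₂ ≠ T → ∃ s : S, T₁.map (MulAut.conj s).toMonoidHom = T₂ := by
  obtain ⟨x, y, z, n, h⟩ := wr_top hS
  have h1 : ∀ K : Subgroup S, IsKleinFour K → K ≠ ZZ (x ^ 2 ^ n) (y ^ 2 ^ n) → ∃ u, cj u (ZZ ((x * y⁻¹) ^ 2 ^ n) z) = K :=
    fun K hK e => by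
    have h2 := fun s hs => elem_mul_self (klein_elem hK) (a := s) hs
    obtain ⟨s, hs, hs'⟩ := SetLike.not_le_iff_exists.1 fun e1 : K ≤ ZZ x y => e (eq_of_card_le
      (fun s hs => h.mem_T (e1 hs) (h2 s hs)) (by rw [hK.card_four, h.klein_T.card_four]))
    obtain ⟨u, -, rfl⟩ := h.out_conj (mem_top z) h.notMem (mem_top s) hs' (h.sq.trans (h2 s hs).symm)
    have h3 := h.a2.inf le_top hs hs'
    refine ⟨u, (eq_of_card_le (h3.le_of hs (fun e => hs' e.2) (fun v hv => ?_) (conj_mem_cj Wr.yU)) ?_).symm⟩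
    · rcases h.Z_inv (h.ab_le le_top (klein_isMulCommutative hK) hs hs' hv) (h2 v hv.1) with rfl | rfl
      · exact one_mem _
      · have := conj_mem_cj (g := u) (Wr.xU (x := (x * y⁻¹) ^ 2 ^ n) (y := z))
        rwa [conj_eq_of_C1 (mem_C1.2 (h.Z_cent h.t_mem u (mem_top u)))] at this
    · rw [card_cj, hK.card_four, ((h.mc (mem_top z) h.notMem (h.sq ▸ one_mem _)).klein_X h.sq).card_four]
  refine ⟨_, h.klein_T, ⟨fun v hv g => h.mem_T (h.a2.conj_mem (mem_top g) (Wr.T_le hv))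
    (conj_mul_self (elem_mul_self (klein_elem h.klein_T) hv) g)⟩,
    ⟨_, (h.mc (mem_top z) h.notMem (h.sq ▸ one_mem _)).klein_X h.sq, fun e => h.notMem (Wr.T_le (e.le Wr.yU))⟩,
    fun T₁ T₂ a b c d => ?_⟩
  obtain ⟨u, rfl⟩ := h1 T₁ a c
  obtain ⟨v, rfl⟩ := h1 T₂ b d
  exact ⟨v * u⁻¹, by rw [← cj, cj_cj, inv_mul_cancel_right]⟩

end Cfsg.Agent.S1198
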