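import Cfsg.Statements.S1199
import Cfsg.Agent.Lib.Transfer.Wr3

set_option autoImplicit false
open Cfsg

namespace Cfsg.Agent.S1199

set_option linter.unusedSectionVars false
set_option linter.unusedVariables false
set_option linter.style.haveILetI false
set_option linter.unusedSimpArgs false

open Subgroup Transfer MS

/-- A wreathed 2-group S of order 2^(2n+1) has exactly one subgroup of order 2^(n+1) isomorphic to a generalized quaternion group, and that subgroup is normal in S. -/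
theorem result {S : Type*} [Group S] [Finite S] (hS : Cfsg.IsWreathed S) (n : ℕ) (hn : Nat.card S = 2 ^ (2 * n + 1)) : (∃! Y : Subgroup S, Nat.card Y = 2 ^ (n + 1) ∧ Nonempty (Y ≃* QuaternionGroup (2 ^ (n - 1)))) ∧ ∀ Y : Subgroup S, Nat.card Y = 2 ^ (n + 1) → Nonempty (Y ≃* QuaternionGroup (2 ^ (n - 1))) → Y.Normal := by
  obtain ⟨x, y, z, m, h⟩ := wr_top hS
  obtain rfl := h.n_eq (card_top.trans hn)
  have key : ∀ Y : Subgroup S, Nonempty (Y ≃* QuaternionGroup (2 ^ m)) → Y = ZZ (x * y⁻¹) (x ^ 2 ^ m * z) :=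
    fun Y ⟨e⟩ => by
    obtain ⟨a, b, h1, h2, h3⟩ := mc_of_quaternion e
    exact eq_of_card_le (h.quat_le le_top h1 h.one h2 h3) (by rw [h1.card, h.mcY.card])
  refine ⟨⟨_, ⟨h.mcY.card, h.quat_Y⟩, fun Y hY => key Y hY.2⟩, fun Y _ hY => ?_⟩
  rw [key Y hY]; exact normalizer_eq_top_iff.1 (eq_top_iff.2 h.nn_Y)

end Cfsg.Agent.S1199
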