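import Cfsg.Statements.S1200
import Cfsg.Agent.Lib.Transfer.Wr3

set_option autoImplicit false
open Cfsg

namespace Cfsg.Agent.S1200

set_option linter.unusedSectionVars false
set_option linter.unusedVariables false
set_option linter.style.haveILetI false
set_option linter.unusedSimpArgs false

open Subgroup Transfer MS

/-- Let S be a wreathed 2-group of order 2^(2n+1) and Ω the subgroup generated by its involutions. Then Ω has order 2^(n+2) and S/Ω is cyclic: some s ∈ S together with Ω generates S. -/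
theorem result {S : Type*} [Group S] [Finite S] (hS : Cfsg.IsWreathed S) (n : ℕ) (hn : Nat.card S = 2 ^ (2 * n + 1)) : Nat.card (Subgroup.closure {x : S | orderOf x = 2}) = 2 ^ (n + 2) ∧ ∃ s : S, Subgroup.closure {x : S | orderOf x = 2} ⊔ Subgroup.zpowers s = ⊤ := by
  obtain ⟨x, y, z, m, h⟩ := wr_top hS
  obtain rfl := h.n_eq (card_top.trans hn)
  have h1 := h.mc (mem_top z) h.notMem (h.sq ▸ one_mem _)
  have h2 := ix2_sup (U := ZZ (x * y⁻¹) z) (s := x ^ 2 ^ m) (nn_of_der_le (h.der.le.trans le_sup_left) le_top (mem_top _))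
    (mul_self_of_orderOf h.ord_x0 ▸ one_mem _) fun e => by
      obtain e | ⟨u, hu, e⟩ := h1.a2.cases h1.mem_b h1.notMem e
      · exact h.x0_notMem ((h1.inv_eq e (mul_self_of_orderOf h.ord_x0)).resolve_left h.x0_ne ▸ h.t_mem)
      · exact h.notMem ((Subgroup.mul_mem_cancel_left _ (Wr.cU hu)).1 (e ▸ pow_mem Wr.xU _))
  have hz : z ∈ closure {x : S | orderOf x = 2} := subset_closure h.ord_z
  have hc : x * y⁻¹ ∈ closure {x : S | orderOf x = 2} := (Subgroup.mul_mem_cancel_right _ hz).1 (subset_closure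
    (orderOf_eq_two (by rw [h.a2.sq_out, h.inv_c (mem_top z) h.notMem, h.sq]; simp) fun e => h1.ab_out (e ▸ one_mem _)))
  have h3 : closure {x : S | orderOf x = 2} = ZZ (x * y⁻¹) z ⊔ zpowers (x ^ 2 ^ m) := by
    refine le_antisymm ((closure_le _).2 fun s hs => ?_) (sup_le (sup_le (zpowers_le.2 hc) (zpowers_le.2 hz))
      (zpowers_le.2 (subset_closure h.ord_x0)))
    have a1 : z ∈ ZZ (x * y⁻¹) z ⊔ zpowers (x ^ 2 ^ m) := mem_sup_left Wr.yU
    have a2 : x ^ 2 ^ m ∈ ZZ (x * y⁻¹) z ⊔ zpowers (x ^ 2 ^ m) := mem_sup_right (mem_zpowers _)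
    by_cases e : s ∈ ZZ x y
    · exact sup_le (zpowers_le.2 a2) (zpowers_le.2 (h.cnj_x0 (mem_top z) h.notMem ▸ mul_mem (mul_mem a1 a2) (inv_mem a1)))
        (h.mem_T e (mul_self_of_orderOf hs))
    · exact (Subgroup.mul_mem_cancel_right _ (inv_mem a1)).1 (mem_sup_left (mem_sup_left
        (h.out_div (mem_top z) h.notMem (mem_top s) e (h.sq.trans (mul_self_of_orderOf hs).symm))))
  refine ⟨by rw [h3, h2.card, h1.card, ← pow_succ'], x, eq_top_iff.2 (h.eq.le.trans (sup_le (sup_le le_sup_right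
    (zpowers_le.2 ?_)) (zpowers_le.2 (mem_sup_left hz))))⟩
  exact inv_mem_iff.1 ((Subgroup.mul_mem_cancel_left _ (mem_sup_right (mem_zpowers x))).1 (mem_sup_left hc))

end Cfsg.Agent.S1200
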