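import Cfsg.Statements.S1203
import Cfsg.Agent.Lib.Transfer.MC

set_option autoImplicit false
open Cfsg

namespace Cfsg.Agent.S1203

set_option linter.unusedSectionVars false
set_option linter.unusedVariables false
set_option linter.style.haveILetI false
set_option linter.unusedSimpArgs false

open Subgroup Transfer MS

/-- Let G be a finite group with quasi-dihedral Sylow 2-subgroup S, T a Klein four-subgroup of S and Q a quaternion subgroup of order 8 of S. Then |N_G(T) : C_G(T)| ∈ {2, 6} and |N_G(Q) : Q C_G(Q)| ∈ {2, 6}. -/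
theorem result {G : Type*} [Group G] [Finite G] (S : Sylow 2 G) (hS : Cfsg.IsQuasiDihedral (S : Subgroup G)) (T : Subgroup G) (hT : IsKleinFour T) (hTS : T ≤ S) (Q : Subgroup G) (hQS : Q ≤ S) (eQ : Q ≃* QuaternionGroup 2) : ((Subgroup.centralizer (T : Set G)).relIndex (Subgroup.normalizer (T : Set G)) = 2 ∨ (Subgroup.centralizer (T : Set G)).relIndex (Subgroup.normalizer (T : Set G)) = 6) ∧ ((Q ⊔ Subgroup.centralizer (Q : Set G)).relIndex (Subgroup.normalizer (Q : Set G)) = 2 ∨ (Q ⊔ Subgroup.centralizer (Q : Set G)).relIndex (Subgroup.normalizer (Q : Set G)) = 6) := by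
  obtain ⟨a, b, n, h⟩ := qd_of hS
  constructor
  · obtain ⟨s, hs, hs', h0, rfl⟩ := h.klein hTS hT
    have h1 := h.out hs hs'
    obtain ⟨m, rfl⟩ := Nat.exists_eq_add_of_le' h.one
    obtain ⟨u, hu, hu'⟩ := (h1.ix2_XX (k := m) le_rfl).exists_out
    exact two_or_six (BG.relIndex_Ct_dvd_of_el_two ⟨klein_elem hT, hT.card_four⟩ le_rfl) (nn_cc le_rfl)
      ((h1.nn_X le_rfl).ge hu).2 (fun e => hu' (h1.cc_b.le ⟨h1.X_le _ hu, cc_le_C1 (h1.b_mem_X _) e⟩))
      (h.pg.to_le (zpowers_le.2 (h1.X_le _ hu)))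
  · have h8 : IsQ8 Q := ⟨eQ⟩
    obtain ⟨-, s, hs, hs', h0, e⟩ := h.q8 hQS h8
    have h1 := h.out hs hs'
    obtain ⟨m, rfl⟩ := Nat.exists_eq_add_of_le' h.two
    obtain ⟨u, hu, hu'⟩ := (h1.ix2_XX (k := m) (by omega)).exists_out
    have e : Q = Xk a (m + 1) s := e
    have h2 := h8.relIndex_dvd
    rw [← relIndex_mul_relIndex _ (Q ⊔ CC Q) _ le_sup_right (sup_le (le_nn _) (cc_le_nn _)),
      relIndex_sup_of_le_normalizer (nn_cc (le_nn Q)), h8.relIndex_cc] at h2
    refine two_or_six (Nat.dvd_of_mul_dvd_mul_left (by decide : 0 < 4) h2) (nn_sup le_rfl (nn_cc le_rfl))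
      (e ▸ ((h1.nn_X (by omega)).ge hu).2) (fun e1 => hu' ?_) (h.pg.to_le (zpowers_le.2 (h1.X_le _ hu)))
    have h3 := (dedekind' hQS (nn_cc (le_nn Q))).le ⟨e1, h1.X_le _ hu⟩
    rw [e] at h3
    exact sup_le le_rfl (((inf_comm _ _).le.trans (inf_le_inf_left _ (cc_le_C1 (h1.b_mem_X _)))).trans
      (h1.cc_b.le.trans (sup_le_sup_right (h.pow_le_pow (by omega)) _))) h3

end Cfsg.Agent.S1203
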