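import Cfsg.Statements.S1205
import Cfsg.Agent.Lib.Transfer.MC

set_option autoImplicit false
open Cfsg

namespace Cfsg.Agent.S1205

set_option linter.unusedSectionVars false
set_option linter.unusedVariables false
set_option linter.style.haveILetI false
set_option linter.unusedSimpArgs false

open Subgroup Transfer MS

/-- Let G be a finite group with quasi-dihedral Sylow 2-subgroup S, T a Klein four-subgroup and Q a quaternion subgroup of order 8 of S, with |N_G(T) : C_G(T)| = 2 and |N_G(Q) : Q C_G(Q)| = 6. Then G has a normal subgroup K of index 2 whose Sylow 2-subgroups are generalized quaternion and which has no subgroup of index 2; the centre of S is weakly closed in S; and G has exactly two classes of involutions and one class of elements of order 4. -/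
theorem result {G : Type*} [Group G] [Finite G] (S : Sylow 2 G) (hS : Cfsg.IsQuasiDihedral (S : Subgroup G)) (T : Subgroup G) (hT : IsKleinFour T) (hTS : T ≤ S) (Q : Subgroup G) (hQS : Q ≤ S) (eQ : Q ≃* QuaternionGroup 2) (h₁ : (Subgroup.centralizer (T : Set G)).relIndex (Subgroup.normalizer (T : Set G)) = 2) (h₂ : (Q ⊔ Subgroup.centralizer (Q : Set G)).relIndex (Subgroup.normalizer (Q : Set G)) = 6) : (∃ K : Subgroup G, K.Normal ∧ K.index = 2 ∧ (∀ P : Sylow 2 ↥K, ∃ m : ℕ, 1 ≤ m ∧ Nonempty ((P : Subgroup ↥K) ≃* QuaternionGroup (2 ^ m))) ∧ (∀ H : Subgroup ↥K, H.index ≠ 2)) ∧ Cfsg.IsWeaklyClosed ((Subgroup.center (S : Subgroup G)).map (S : Subgroup G).subtype) (S : Subgroup G) ∧ Nat.card {C : ConjClasses G // ∃ t : G, orderOf t = 2 ∧ ConjClasses.mk t = C} = 2 ∧ Nat.card {C : ConjClasses G // ∃ t : G, orderOf t = 4 ∧ ConjClasses.mk t = C} = 1 := by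
  obtain ⟨a, b, n, h⟩ := qd_of hS
  have h1 := mt (h.essT hTS hT).2 (not_ess_of_two h₁)
  have h2 := (h.essQ hQS ⟨eQ⟩).1 (ess_of_six le_sup_right h₂)
  obtain ⟨h3, h4, h5⟩ := res_data S (h.res_eq_Q h1 h2)
  refine ⟨⟨_, inferInstance, h3.trans (h.mc'.ix2_M h.one).idx, fun P => ⟨n - 1, by have := h.two; omega,
    ⟨(h4 P).some.trans (h.mc'.quat_M h.one h.sq_ab).some⟩⟩, h5⟩, ?_, h.cls2.2 h1, h.cls4.1 h2⟩
  rw [map_center_eq, h.center h.one]
  refine ⟨zpowers_le.2 (h.le h.z_mem), fun g hg => ?_⟩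
  rw [← cj, cj_zpowers] at hg ⊢
  rw [h.z_closed h1 (hg (mem_zpowers _))]

end Cfsg.Agent.S1205
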