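import Cfsg.Statements.S1211
import Cfsg.Agent.Lib.Transfer.Wr3

set_option autoImplicit false
open Cfsg

namespace Cfsg.Agent.S1211

set_option linter.unusedSectionVars false
set_option linter.unusedVariables false
set_option linter.style.haveILetI false
set_option linter.unusedSimpArgs false

open Subgroup Transfer MS

/-- Let G be a finite group whose Sylow 2-subgroup S is wreathed of order 2^(2n+1), U the commutative subgroup of index 2 in S, Q a quaternion subgroup of order 8 of S and V = Q Z(S). If |N_G(U) : C_G(U)| = 6 and |N_G(V) : V C_G(V)| = 2, then G has a normal subgroup K of index 2 containing U (so U is a Sylow 2-subgroup of K) which has no subgroup of index 2, and G has exactly two classes of involutions. -/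
theorem result {G : Type*} [Group G] [Finite G] (S : Sylow 2 G) (hS : Cfsg.IsWreathed (S : Subgroup G)) (n : ℕ) (hn : Nat.card S = 2 ^ (2 * n + 1)) (U : Subgroup G) (hUS : U ≤ S) (hUab : IsMulCommutative U) (hUcard : Nat.card U = 2 ^ (2 * n)) (Q : Subgroup G) (hQS : Q ≤ S) (eQ : Q ≃* QuaternionGroup 2) (h₁ : (Subgroup.centralizer (U : Set G)).relIndex (Subgroup.normalizer (U : Set G)) = 6) (h₂ : ((Q ⊔ ((Subgroup.center (S : Subgroup G)).map (S : Subgroup G).subtype)) ⊔ Subgroup.centralizer ((Q ⊔ ((Subgroup.center (S : Subgroup G)).map (S : Subgroup G).subtype) : Subgroup G) : Set G)).relIndex (Subgroup.normalizer ((Q ⊔ ((Subgroup.center (S : Subgroup G)).map (S : Subgroup G).subtype) : Subgroup G) : Set G)) = 2) : (∃ K : Subgroup G, K.Normal ∧ K.index = 2 ∧ U ≤ K ∧ (∀ H : Subgroup ↥K, H.index ≠ 2)) ∧ Nat.card {C : ConjClasses G // ∃ t : G, orderOf t = 2 ∧ ConjClasses.mk t = C} = 2 := by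
  obtain ⟨x, y, z, m, h⟩ := wr_of hS
  obtain rfl := h.n_eq hn
  obtain rfl := h.eq_U hUS hUab hUcard
  rw [map_center_eq, h.center] at h₂
  have h1 := ess_of_six le_rfl h₁
  have h2 := not_ess_of_two' (h.pg.to_le (h.V_le hQS)) h₂
  obtain ⟨h3, h4, h5⟩ := res_data S (h.res_eq_U hQS ⟨eQ⟩ h1 h2)
  exact ⟨⟨_, inferInstance, h3.trans h.a2.idx, h.U_le_res h1, h5⟩, classes_eq_two h.ord_t h.ord_z
    (fun e => h.notMem (h.U_closed hQS ⟨eQ⟩ h2 (Wr.wU h.t_mem) h.mem_z e)) fun t ht =>
      (h.invol' ht).elim .inl fun e => e.imp_left (h.isConj_tx h1).trans⟩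

end Cfsg.Agent.S1211
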