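import Cfsg.Statements.S1212
import Cfsg.Agent.Lib.Transfer.Wr3

set_option autoImplicit false
open Cfsg

namespace Cfsg.Agent.S1212

set_option linter.unusedSectionVars false
set_option linter.unusedVariables false
set_option linter.style.haveILetI false
set_option linter.unusedSimpArgs false

open Subgroup Transfer MS

/-- Let G be a finite group whose Sylow 2-subgroup S is wreathed of order 2^(2n+1), U the commutative subgroup of index 2 in S, Q a quaternion subgroup of order 8 of S and V = Q Z(S). If |N_G(U) : C_G(U)| = 2 and |N_G(V) : V C_G(V)| = 2, then G has a normal 2-complement and exactly three conjugacy classes of involutions. -/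
theorem result {G : Type*} [Group G] [Finite G] (S : Sylow 2 G) (hS : Cfsg.IsWreathed (S : Subgroup G)) (n : ℕ) (hn : Nat.card S = 2 ^ (2 * n + 1)) (U : Subgroup G) (hUS : U ≤ S) (hUab : IsMulCommutative U) (hUcard : Nat.card U = 2 ^ (2 * n)) (Q : Subgroup G) (hQS : Q ≤ S) (eQ : Q ≃* QuaternionGroup 2) (h₁ : (Subgroup.centralizer (U : Set G)).relIndex (Subgroup.normalizer (U : Set G)) = 2) (h₂ : ((Q ⊔ ((Subgroup.center (S : Subgroup G)).map (S : Subgroup G).subtype)) ⊔ Subgroup.centralizer ((Q ⊔ ((Subgroup.center (S : Subgroup G)).map (S : Subgroup G).subtype) : Subgroup G) : Set G)).relIndex (Subgroup.normalizer ((Q ⊔ ((Subgroup.center (S : Subgroup G)).map (S : Subgroup G).subtype) : Subgroup G) : Set G)) = 2) : Cfsg.HasNormalPComplement 2 G ∧ Nat.card {C : ConjClasses G // ∃ t : G, orderOf t = 2 ∧ ConjClasses.mk t = C} = 3 := by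
  obtain ⟨x, y, z, m, h⟩ := wr_of hS
  obtain rfl := h.n_eq hn
  obtain rfl := h.eq_U hUS hUab hUcard
  rw [map_center_eq, h.center] at h₂
  have h1 := not_ess_of_two h₁
  have h2 := not_ess_of_two' (h.pg.to_le (h.V_le hQS)) h₂
  exact ⟨h.npc hQS ⟨eQ⟩ h1 h2, classes_eq_three h.ord_t h.ord_x0 h.ord_z
    (h.not_isConj_t h1 (h.le (pow_mem Wr.xU _)) h.x0_notMem) (h.not_isConj_t h1 h.mem_z fun e => h.notMem (Wr.wU e))
    (fun e => h.notMem (h.U_closed hQS ⟨eQ⟩ h2 (pow_mem Wr.xU _) h.mem_z e)) fun t => h.invol'⟩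

end Cfsg.Agent.S1212
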