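import Cfsg.Statements.S1213
import Cfsg.Agent.Lib.Transfer.Wr3

set_option autoImplicit false
open Cfsg

namespace Cfsg.Agent.S1213

set_option linter.unusedSectionVars false
set_option linter.unusedVariables false
set_option linter.style.haveILetI false
set_option linter.unusedSimpArgs false

open Subgroup Transfer MS

/-- Let G be a finite group with quasi-dihedral or wreathed Sylow 2-subgroups and no subgroup of index 2, and let x be an involution with centralizer C. Then C has a Sylow 2-subgroup R which is a Sylow 2-subgroup of G; C has a normal subgroup K of index a power of 2 which has no subgroup of index 2 and whose Sylow 2-subgroups are generalized quaternion; and every subgroup of the centre of R is weakly closed in R with respect to C. -/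
theorem result {G : Type*} [Group G] [Finite G] (S : Sylow 2 G) (hS : Cfsg.IsQuasiDihedral (S : Subgroup G) ∨ Cfsg.IsWreathed (S : Subgroup G)) (hG : ∀ H : Subgroup G, H.index ≠ 2) (x : G) (hx : orderOf x = 2) : ∃ R : Sylow 2 ↥(Subgroup.centralizer ({x} : Set G)), Nat.card R = Nat.card S ∧ (∃ K : Subgroup ↥(Subgroup.centralizer ({x} : Set G)), K.Normal ∧ (∃ a : ℕ, K.index = 2 ^ a) ∧ (∀ H : Subgroup ↥K, H.index ≠ 2) ∧ (∀ P : Sylow 2 ↥K, ∃ m : ℕ, 1 ≤ m ∧ Nonempty ((P : Subgroup ↥K) ≃* QuaternionGroup (2 ^ m)))) ∧ (∀ Z₀ : Subgroup ↥(Subgroup.centralizer ({x} : Set G)), Z₀ ≤ ((Subgroup.center (R : Subgroup ↥(Subgroup.centralizer ({x} : Set G)))).map (R : Subgroup ↥(Subgroup.centralizer ({x} : Set G))).subtype) → Cfsg.IsWeaklyClosed Z₀ (R : Subgroup ↥(Subgroup.centralizer ({x} : Set G)))) := by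
  obtain ⟨t, -, -, h1, h2, -, h3, -, -, -, Q, h4, h5, h6⟩ := qw_data S (qw_congr (.refl _) hS) hG
  obtain ⟨g, rfl⟩ := isConj_iff.1 (h3 x hx)
  have h7 := (h4.cj g).not_npc (conj_mem_cj h5) hx (h6.cj g)
  have h8 : IsSyl 2 (cj g S) (C1 (g * t * g⁻¹)) := by
    rw [← cj_centralizer_singleton]; exact ((isSyl_top S).mono (le_C1_iff.2 h2.2) le_top).cj g
  obtain ⟨R, hR⟩ := h8.exists_sylow_sub
  have e : (S : Subgroup G) ≃* (R : Subgroup (C1 (g * t * g⁻¹))) :=
    (cjEquiv g _).trans ((subgroupOfEquivOfLe h8.le).symm.trans (MulEquiv.subgroupCongr hR.symm))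
  refine ⟨R, (Nat.card_congr e.toEquiv).symm, ?_⟩
  set u : C1 (g * t * g⁻¹) := ⟨_, self_mem_C1 _⟩
  have a1 : ∀ k, k * u * k⁻¹ = u := fun k => Subtype.ext (conj_eq_of_C1 k.2)
  have a2 : orderOf u = 2 := (orderOf_mk _ _).trans hx
  have a3 : u ∈ (R : Subgroup _) ⊓ CC (R : Subgroup (C1 (g * t * g⁻¹))) :=
    ⟨by rw [hR]; exact conj_mem_cj h2.1, fun k _ => mul_inv_eq_iff_eq_mul.1 (a1 k)⟩
  rw [map_center_eq]
  obtain ⟨a, b, n, h⟩ | ⟨x, y, z, n, h⟩ := qw_congr e hS
  · rw [h.center h.one] at a3 ⊢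
    have b1 := invol_eq_of_mem_zpowers a3 (mem_zpowers _) a2 h.ord_z
    have b2 : ¬ Ess (Xk a n b) := fun e => by
      obtain ⟨k, e⟩ := isConj_iff.1 (h.isConj_zb e)
      exact h.notMem (by rw [← e, ← b1, a1, b1]; exact h.z_mem)
    obtain ⟨b3, b4, b5⟩ := res_data R (h.res_eq_Q b2 (by_contra fun e => h7 (h.npc b2 e)))
    refine ⟨⟨_, inferInstance, index_pResidual, b5, fun P => ⟨n - 1, by have := h.two; omega,
      ⟨(b4 P).some.trans (h.mc'.quat_M h.one h.sq_ab).some⟩⟩⟩, fun Z hZ => wc_of_fixed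
        (hZ.trans (zpowers_le.2 (h.le h.z_mem))) fun v hv k _ => ?_⟩
    rcases (mem_zpowers_iff_of_sq h.z_mul).1 (hZ hv) with rfl | rfl
    · simp
    · rw [← b1, a1]
  · rw [h.center] at a3 ⊢
    have b1 := (h.Z_inv a3 (mul_self_of_orderOf a2)).resolve_left (ne_one_of_orderOf a2)
    have b2 : ¬ Ess (ZZ x y) := fun e => by
      obtain ⟨k, e⟩ := isConj_iff.1 (h.isConj_tx e)
      exact h.x0_notMem (by rw [← e, ← b1, a1]; exact a3)
    have hQ := h.X_le h.mem_s0 (n - 1)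
    have hq := h.q8_X h.mem_s0 h.s0_out h.sq_s0
    obtain ⟨b3, b4, b5⟩ := res_data R (h.res_eq_Y hQ hq b2 (by_contra fun e => h7 (h.npc hQ hq b2 e)))
    exact ⟨⟨_, inferInstance, index_pResidual, b5, fun P => ⟨n, h.one, ⟨(b4 P).some.trans h.quat_Y.some⟩⟩⟩,
      fun Z hZ => wc_of_fixed (hZ.trans h.Z_le) fun u hu g => h.Z_closed b2 (hZ hu)⟩

end Cfsg.Agent.S1213
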