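import Cfsg.Statements.S1214
import Cfsg.Agent.Lib.Transfer.Wr3

set_option autoImplicit false
open Cfsg

namespace Cfsg.Agent.S1214

set_option linter.unusedSectionVars false
set_option linter.unusedVariables false
set_option linter.style.haveILetI false
set_option linter.unusedSimpArgs false

open Subgroup Transfer MS

theorem aux {X : Type*} [Group X] [Finite X] (P : Sylow 2 X) (hO : oddCore X = ⊥) (hG' : ∀ H : Subgroup X, H.index ≠ 2)
    {t s b : X} (h1 : orderOf t = 2) (h2 : t ∈ (P : Subgroup X) ⊓ CC (P : Subgroup X))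
    (h3 : IsCyclic ((P : Subgroup X) ⊓ CC (P : Subgroup X) : Subgroup X)) (h4 : ∀ u, orderOf u = 2 → IsConj t u)
    (h5 : orderOf b = 2) (h6 : (P : Subgroup X) ≤ ZZ s b) (h7 : ¬ IsMulCommutative P) :
    ∃ L : Subgroup X, L.Normal ∧ Odd L.index ∧ IsSimpleGroup L ∧ ¬ IsMulCommutative L := by
  set L := normalClosure ({t} : Set X)
  have ht : t ∈ L := subset_normalClosure rfl
  have a1 : Odd L.index := by
    rw [← Nat.not_even_iff_odd]
    intro he
    refine (exists_index_two_of_hasNPC he (hasNPC_two_of_isCyclic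
      (P.mapSurjective (QuotientGroup.mk'_surjective L)) (cyc_mono (cyc_zpowers (QuotientGroup.mk' L s)) ?_))).elim
      fun H hH => hG' _ ((H.index_comap_of_surjective (QuotientGroup.mk'_surjective _)).trans hH)
    obtain ⟨g, rfl⟩ := isConj_iff.1 (h4 b h5)
    rw [Sylow.coe_mapSurjective, ← MonoidHom.map_zpowers, map_le_iff_le_comap, comap_map_eq, QuotientGroup.ker_mk']
    exact h6.trans (sup_le_sup_left (zpowers_le.2 (normalClosure_normal.conj_mem t ht g)) _)
  have a2 : (P : Subgroup X) ≤ L := fun x hx => by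
    obtain ⟨k, hk⟩ := Solv.exists_orderOf_eq_pow P.isPGroup' hx
    exact mem_of_pow_mem_coprime (hk ▸ (Nat.coprime_two_left.2 a1).pow_left k) (L.pow_index_mem x)
  haveI : (O {2}ᶜ L).Normal := normalizer_eq_top_iff.1 (eq_top_iff.2 (nn_O nn_normal))
  have a3 : ∀ M ≤ L, L ≤ NN M → M ≠ ⊥ → t ∈ M := fun M hM h8 h9 => by
    have b1 : (P : Subgroup X) ⊓ M ≠ ⊥ := fun e => h9 (eq_bot_iff.2 ((le_O hM h8 (pi_compl_iff.2
      ((((isSyl_top P).mono a2 le_top).inf_of_le_normalizer hM h8).eq_bot_iff.1 e))).trans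
        ((le_oddCore (Nat.odd_iff.2 (Nat.two_dvd_ne_zero.1 (pi_compl_iff.1 (O_pi _ _))))).trans hO.le)))
    · obtain ⟨Y, hY, b2⟩ := pg_exists_card ((P.isPGroup'.to_le inf_le_left).to_le inf_le_left)
        (nil_meet (nil_of_pg P.isPGroup') inf_le_left (nn_inf (le_nn _) (a2.trans h8)) b1)
      exact (hY ((cyc_eq h3 (hY.trans (inf_le_inf_right _ inf_le_left)) (zpowers_le.2 h2)
        (by rw [b2, Nat.card_zpowers, h1])).ge (mem_zpowers t))).1.2
  refine ⟨L, normalClosure_normal, a1, ?_, fun e => h7 (ab_mono e a2)⟩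
  haveI : Nontrivial L := (nontrivial_iff_ne_bot _).2 (ne_bot_of_mem ht (ne_one_of_orderOf h1))
  refine ⟨fun N hN => or_iff_not_imp_left.2 fun h8 => eq_top_iff.2 fun x _ => ?_⟩
  have b1 : L ≤ (N.map L.subtype).normalCore := normalClosure_le_normal (Set.singleton_subset_iff.2 fun g => ?_)
  · obtain ⟨y, hy, e⟩ := normalCore_le _ (b1 x.2)
    exact Subtype.ext e ▸ hy
  have b2 := a3 (cj g⁻¹ (N.map L.subtype)) (cj_le (map_subtype_le N) (nn_normal (mem_top _)))
    (nn_cj_of (fun k hk => mem_normalizer_of_conj_mem fun _ ⟨y, hy, e⟩ => e ▸ ⟨_, hN.conj_mem y hy ⟨k, hk⟩, rfl⟩)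
      (nn_normal (mem_top _)))
    (by rwa [ne_eq, cj_eq_bot_iff, map_eq_bot_iff_of_injective _ (subtype_injective _)])
  simpa only [inv_inv] using mem_cj.1 b2

/-- Let G be a finite group with quasi-dihedral or wreathed Sylow 2-subgroups and no subgroup of index 2. Then G/O(G), the quotient by the largest normal subgroup of odd order, has a normal subgroup of odd index which is a non-abelian simple group. -/
theorem result {G : Type*} [Group G] [Finite G] (S : Sylow 2 G) (hS : Cfsg.IsQuasiDihedral (S : Subgroup G) ∨ Cfsg.IsWreathed (S : Subgroup G)) (hG : ∀ H : Subgroup G, H.index ≠ 2) : ∃ L : Subgroup (G ⧸ Cfsg.oddCore G), L.Normal ∧ Odd L.index ∧ IsSimpleGroup L ∧ ¬ IsMulCommutative L := by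
  obtain ⟨P, -, ⟨e⟩⟩ := exists_sylow_quot S (N := oddCore G) (Solv.coprime_card_pPrimeCore (G := G) 2)
  have hO : oddCore (G ⧸ oddCore G) = ⊥ := Solv.pPrimeCore_quotient_pPrimeCore
  have hG' : ∀ H : Subgroup (G ⧸ oddCore G), H.index ≠ 2 := fun H h =>
    hG _ ((H.index_comap_of_surjective (QuotientGroup.mk'_surjective _)).trans h)
  obtain ⟨t, s, b, h1, h2, h3, h4, h5, h6, h7, -⟩ := qw_data P (qw_congr e.symm hS) hG'
  exact aux P hO hG' h1 h2 h3 h4 h5 h6 h7

end Cfsg.Agent.S1214
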