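import Cfsg.Statements.S1215
import Cfsg.Agent.Lib.Transfer.Wr3

set_option autoImplicit false
open Cfsg

namespace Cfsg.Agent.S1215

set_option linter.unusedSectionVars false
set_option linter.unusedVariables false
set_option linter.style.haveILetI false
set_option linter.unusedSimpArgs false

open Subgroup Transfer MS

/-- Let H be a finite group with quasi-dihedral or wreathed Sylow 2-subgroup S such that H has a normal subgroup K of index a power of 2 with no subgroup of index 2 and with generalized quaternion Sylow 2-subgroups, and such that every subgroup of Z(S) is weakly closed in S with respect to H. Then H = O(H) C_H(Z(S)): every element of H is the product of an element of the largest normal odd-order subgroup and an element centralizing Z(S). -/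
theorem result {H : Type*} [Group H] [Finite H] (S : Sylow 2 H) (hS : Cfsg.IsQuasiDihedral (S : Subgroup H) ∨ Cfsg.IsWreathed (S : Subgroup H)) (hQ : (∃ K : Subgroup H, K.Normal ∧ (∃ a : ℕ, K.index = 2 ^ a) ∧ (∀ M : Subgroup ↥K, M.index ≠ 2) ∧ (∀ P : Sylow 2 ↥K, ∃ m : ℕ, 1 ≤ m ∧ Nonempty ((P : Subgroup ↥K) ≃* QuaternionGroup (2 ^ m)))) ∧ (∀ Z₀ : Subgroup H, Z₀ ≤ ((Subgroup.center (S : Subgroup H)).map (S : Subgroup H).subtype) → Cfsg.IsWeaklyClosed Z₀ (S : Subgroup H))) (h : H) : ∃ o ∈ Cfsg.oddCore H, ∃ c ∈ Subgroup.centralizer (((Subgroup.center (S : Subgroup H)).map (S : Subgroup H).subtype : Subgroup H) : Set H), h = o * c := by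
  obtain ⟨w, hw⟩ : ∃ w, (S : Subgroup H) ⊓ CC (S : Subgroup H) = zpowers w := by
    obtain ⟨a, b, n, h⟩ | ⟨x, y, z, n, h⟩ := qw_congr (.refl _) hS
    exacts [⟨_, h.center h.one⟩, ⟨_, h.center⟩]
  rw [map_center_eq, hw] at hQ ⊢
  have h1 := isol_of_wc S (hw.ge (mem_zpowers w)).2 (hQ.2 _ le_rfl)
  have h2 := S.isPGroup'.to_le (hw.ge.trans inf_le_left)
  haveI := normal_core_sup h1 h2
  obtain ⟨m, hm, c, hc, rfl⟩ := isol_frattini h1 h2 (N := oddCore H ⊔ zpowers w) (mem_sup_right (mem_zpowers w))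
    (nn_normal (mem_top h))
  obtain ⟨o, ho, d, hd, rfl⟩ := (mem_sup_l nn_normal).1 hm
  exact ⟨o, ho, d * c, cc_zpowers w ▸ mul_mem (zpowers_le.2 (self_mem_C1 w) hd) hc, mul_assoc _ _ _⟩

end Cfsg.Agent.S1215
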