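import Cfsg.Statements.S1219
import Mathlib

set_option autoImplicit false
open scoped MatrixGroups
open Cfsg

namespace Cfsg.Agent.S1219

open Matrix Module

variable {F : Type*} [Field F]

/-- block embedding -/
def blk : GL (Fin 2) F →* SpecialLinearGroup (Fin 3) F where
  toFun A := ⟨!![A 0 0, A 0 1, 0; A 1 0, A 1 1, 0; 0, 0, (A.1.det)⁻¹], by
    have := A.det_ne_zero
    rw [det_fin_three]; simp only [det_fin_two] at this ⊢; simp; field_simp⟩
  map_one' := Subtype.ext (by ext i j; fin_cases i <;> fin_cases j <;> simp)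
  map_mul' A B := Subtype.ext (by
    change _ = (!![_, _, _; _, _, _; _, _, _] * !![_, _, _; _, _, _; _, _, _] : Matrix (Fin 3) (Fin 3) F)
    ext i j; fin_cases i <;> fin_cases j <;> simp [Matrix.mul_apply, Fin.sum_univ_succ, mul_comm])

theorem blk_val (A : GL (Fin 2) F) :
    (blk A).1 = !![A 0 0, A 0 1, 0; A 1 0, A 1 1, 0; 0, 0, (A.1.det)⁻¹] := rfl

theorem blk_inj : Function.Injective (blk (F := F)) := fun A B h => Units.ext (by
  have k : ∀ i j, (blk A).1 i j = (blk B).1 i j := fun i j => by rw [h]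
  ext i j; fin_cases i <;> fin_cases j
  exacts [k 0 0, k 0 1, k 1 0, k 1 1])

/-- the diagonal involution -/
def dg : SpecialLinearGroup (Fin 3) F := ⟨!![-1, 0, 0; 0, -1, 0; 0, 0, 1], by simp [det_fin_three]⟩

theorem range_blk (h2 : (2 : F) ≠ 0) (g : SpecialLinearGroup (Fin 3) F) : g ∈ blk.range ↔ g * dg = dg * g := by
  constructor
  · rintro ⟨A, rfl⟩
    refine Subtype.ext ?_
    change (blk A).1 * dg.1 = dg.1 * (blk A).1
    ext i j; fin_cases i <;> fin_cases j <;> simp [blk_val, dg, Matrix.mul_apply, Fin.sum_univ_succ]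
  · intro h
    have k : ∀ i j, (g.1 * (dg (F := F)).1) i j = ((dg (F := F)).1 * g.1) i j := fun i j => congrFun (congrFun (congrArg Subtype.val h) i) j
    have z : ∀ x : F, x = -x → x = 0 := fun x h => (mul_eq_zero.1 (by linear_combination h)).resolve_left h2
    have a := z _ (by simpa [dg, Matrix.mul_apply, Fin.sum_univ_succ] using k 0 2 : g.1 0 2 = _)
    have b := z _ (by simpa [dg, Matrix.mul_apply, Fin.sum_univ_succ] using k 1 2 : g.1 1 2 = _)
    have c := z _ (by simpa [dg, Matrix.mul_apply, Fin.sum_univ_succ] using (k 2 0).symm : g.1 2 0 = _)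
    have d := z _ (by simpa [dg, Matrix.mul_apply, Fin.sum_univ_succ] using (k 2 1).symm : g.1 2 1 = _)
    have e := g.2
    rw [det_fin_three, a, b, c, d] at e
    have e' : (g.1 0 0 * g.1 1 1 - g.1 0 1 * g.1 1 0) * g.1 2 2 = 1 := by linear_combination e
    refine ⟨GeneralLinearGroup.mkOfDetNeZero !![g.1 0 0, g.1 0 1; g.1 1 0, g.1 1 1]
      (by rw [det_fin_two_of]; exact left_ne_zero_of_mul_eq_one e'), Subtype.ext ?_⟩
    ext i j; fin_cases i <;> fin_cases j <;> simp [blk_val, a, b, c, d]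
    exact inv_eq_of_mul_eq_one_right e'

theorem exists_conj (h2 : (2 : F) ≠ 0) (T : SpecialLinearGroup (Fin 3) F) (h : T * T = 1) (h1 : T ≠ 1) :
    ∃ P : SpecialLinearGroup (Fin 3) F, T * P = P * dg := by
  let τ := toLin' T.1
  have tt : ∀ x, τ (τ x) = x := fun x => by
    simp only [τ, toLin'_apply, mulVec_mulVec]
    rw [show T.1 * T.1 = 1 from congrArg Subtype.val h, one_mulVec]
  have c : IsCompl (LinearMap.ker (τ + 1)) (LinearMap.ker (τ - 1)) := by
    refine ⟨Submodule.disjoint_def.2 fun x a b => ?_, codisjoint_iff.2 (eq_top_iff.2 fun x _ => ?_)⟩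
    · have a : τ x + x = 0 := a
      have b : τ x - x = 0 := b
      exact (smul_eq_zero.1 (show (2 : F) • x = 0 by rw [two_smul]; linear_combination (exp := 1) a - b)).resolve_left h2
    · refine Submodule.mem_sup.2 ⟨(2 : F)⁻¹ • (x - τ x), ?_, (2 : F)⁻¹ • (x + τ x), ?_, ?_⟩
      · simp [tt]
      · simp [tt, add_comm]
      · rw [← smul_add, show x - τ x + (x + τ x) = (2 : F) • x by module, smul_smul, inv_mul_cancel₀ h2, one_smul]
  have m1 : ∀ x : LinearMap.ker (τ + 1), τ x = -x := fun x => eq_neg_of_add_eq_zero_left x.2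
  have m2 : ∀ x : LinearMap.ker (τ - 1), τ x = x := fun x => sub_eq_zero.1 x.2
  have d : (-1 : F) ^ finrank F (LinearMap.ker (τ + 1)) = 1 := by
    have e : τ = (Submodule.prodEquivOfIsCompl _ _ c : _ →ₗ[F] _) ∘ₗ
        LinearMap.prodMap ((-1 : F) • LinearMap.id) LinearMap.id ∘ₗ (Submodule.prodEquivOfIsCompl _ _ c).symm.toLinearMap := by
      refine LinearMap.ext fun x => ?_
      obtain ⟨⟨a, b⟩, rfl⟩ := (Submodule.prodEquivOfIsCompl _ _ c).surjective x
      simp [m1, m2]
    have := congrArg LinearMap.det e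
    rw [LinearMap.det_conj, LinearMap.det_prodMap, LinearMap.det_smul, LinearMap.det_toLin', T.2] at this
    simpa using this.symm
  have s := Submodule.finrank_add_eq_of_isCompl c
  rw [finrank_fin_fun] at s
  have n0 : finrank F (LinearMap.ker (τ + 1)) ≠ 0 := fun h0 => h1 (Subtype.ext (toLin'.injective (by
    have := Submodule.eq_top_of_finrank_eq (S := LinearMap.ker (τ - 1)) (by rw [finrank_fin_fun]; omega)
    exact (sub_eq_zero.1 (LinearMap.ker_eq_top.1 this)).trans toLin'_one.symm)))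
  have n2 : finrank F (LinearMap.ker (τ + 1)) = 2 := by
    have := (neg_one_pow_eq_one_iff_even (fun h => h2 (by linear_combination -h))).1 d
    obtain ⟨k, hk⟩ := this
    omega
  let b1 := finBasisOfFinrankEq F _ n2
  let b2 := finBasisOfFinrankEq F (LinearMap.ker (τ - 1)) (n := 1) (by omega)
  let b := ((b1.prod b2).map (Submodule.prodEquivOfIsCompl _ _ c)).reindex finSumFinEquiv
  have e0 : b 0 = b1 0 := by simp [b, show finSumFinEquiv.symm (0 : Fin (2 + 1)) = Sum.inl 0 from rfl]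
  have e1 : b 1 = b1 1 := by simp [b, show finSumFinEquiv.symm (1 : Fin (2 + 1)) = Sum.inl 1 from rfl]
  have e2 : b 2 = b2 0 := by simp [b, show finSumFinEquiv.symm (2 : Fin (2 + 1)) = Sum.inr 0 from rfl]
  have u := (Pi.basisFun F (Fin 3)).isUnit_det b
  rw [Basis.det_apply] at u
  have f0 := congrFun (show τ (b 0) = -b 0 from e0 ▸ m1 (b1 0))
  have f1 := congrFun (show τ (b 1) = -b 1 from e1 ▸ m1 (b1 1))
  have f2 := congrFun (show τ (b 2) = b 2 from e2 ▸ m2 (b2 0))
  set Q := (Pi.basisFun F (Fin 3)).toMatrix b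
  have q : T.1 * Q = Q * dg.1 := by
    ext i j
    fin_cases j
    · simpa [τ, Q, dg, Matrix.mul_apply, Fin.sum_univ_succ, Basis.toMatrix_apply, mulVec, dotProduct] using f0 i
    · simpa [τ, Q, dg, Matrix.mul_apply, Fin.sum_univ_succ, Basis.toMatrix_apply, mulVec, dotProduct] using f1 i
    · simpa [τ, Q, dg, Matrix.mul_apply, Fin.sum_univ_succ, Basis.toMatrix_apply, mulVec, dotProduct] using f2 i
  refine ⟨⟨Q * !![1, 0, 0; 0, 1, 0; 0, 0, Q.det⁻¹], by simp [det_fin_three (!![_, _, _; _, _, _; _, _, _]), u.ne_zero]⟩,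
    Subtype.ext ?_⟩
  change T.1 * (Q * _) = Q * _ * dg.1
  rw [← Matrix.mul_assoc, q, Matrix.mul_assoc, Matrix.mul_assoc]
  congr 1
  ext i j; fin_cases i <;> fin_cases j <;> simp [dg, Matrix.mul_apply, Fin.sum_univ_succ]

/-- Let F be a finite field of odd order q and t an involution of PSL(3,F). Then C(t) is isomorphic to the quotient of GL(2,F) by a central subgroup of order gcd(q−1, 3). -/
theorem result {F : Type*} [Field F] [Fintype F] (hF : Odd (Fintype.card F)) (t : Matrix.ProjectiveSpecialLinearGroup (Fin 3) F) (ht : orderOf t = 2) : ∃ (Z : Subgroup (GL (Fin 2) F)) (_ : Z.Normal), Z ≤ Subgroup.center (GL (Fin 2) F) ∧ Nat.card Z = Nat.gcd (Fintype.card F - 1) 3 ∧ Nonempty (↥(Subgroup.centralizer ({t} : Set (Matrix.ProjectiveSpecialLinearGroup (Fin 3) F))) ≃* GL (Fin 2) F ⧸ Z) := by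
  classical
  have h2 : (2 : F) ≠ 0 := by
    refine Ring.two_ne_zero fun h => ?_
    exact (Nat.not_even_iff_odd.2 hF) (Nat.even_iff.2 ((FiniteField.even_card_iff_char_two).1 h))
  have z : ∀ g ∈ Subgroup.center (SpecialLinearGroup (Fin 3) F), g ^ 3 = 1 := fun g hg => by
    obtain ⟨c, h1, h2⟩ := Matrix.SpecialLinearGroup.mem_center_iff.1 hg
    exact Subtype.ext (by rw [Matrix.SpecialLinearGroup.coe_pow, ← h2, ← map_pow, show c ^ 3 = 1 from h1, map_one]; rfl)
  obtain ⟨S, rfl⟩ := QuotientGroup.mk_surjective t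
  have t2 := ht ▸ pow_orderOf_eq_one (S : ProjectiveSpecialLinearGroup (Fin 3) F)
  have t3 : ((S ^ 3 : SpecialLinearGroup (Fin 3) F) : ProjectiveSpecialLinearGroup (Fin 3) F) = S := by
    rw [QuotientGroup.mk_pow, pow_succ, t2, one_mul]
  have s2 : S ^ 3 * S ^ 3 = 1 := by
    rw [← z _ ((QuotientGroup.eq_one_iff (S ^ 2)).1 t2)]; group
  obtain ⟨P, hP⟩ := exists_conj h2 _ s2 fun h => by
    rw [← t3, h, QuotientGroup.mk_one, orderOf_one] at ht; omega
  rw [← t3]
  generalize S ^ 3 = T at *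
  let ψ := (MulAut.conj P).toMonoidHom.comp (blk (F := F))
  have inj : Function.Injective ψ := (MulAut.conj P).injective.comp blk_inj
  have r : ∀ g, g ∈ ψ.range ↔ g * T = T * g := fun g => by
    rw [show g ∈ ψ.range ↔ P⁻¹ * g * P ∈ blk.range from ⟨fun ⟨A, h⟩ => ⟨A, by rw [← h]; simp [ψ, mul_assoc]⟩,
      fun ⟨A, h⟩ => ⟨A, by simp [ψ, h, mul_assoc]⟩⟩, range_blk h2, show dg = P⁻¹ * T * P by rw [mul_assoc, hP]; group]
    simp [mul_assoc]
    rw [← mul_assoc, ← mul_assoc, mul_left_inj]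
  let θ := (QuotientGroup.mk' (Subgroup.center _)).comp ψ
  have k : θ.ker = (Subgroup.center _).comap ψ := by
    rw [← MonoidHom.comap_ker, QuotientGroup.ker_mk']
  refine ⟨θ.ker, inferInstance, fun A hA => Subgroup.mem_center_iff.2 fun B => inj ?_, ?_,
    ⟨(MulEquiv.subgroupCongr ?_).trans (QuotientGroup.quotientKerEquivRange θ).symm⟩⟩
  · rw [k] at hA
    rw [map_mul, map_mul]; exact Subgroup.mem_center_iff.1 hA _
  · rw [k, ← Subgroup.card_map_of_injective inj, Subgroup.map_comap_eq_self fun g hg =>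
      (r g).2 (Subgroup.mem_center_iff.1 hg T).symm,
      Nat.card_congr (Matrix.SpecialLinearGroup.center_equiv_rootsOfUnity' 0).toEquiv, ← Fintype.card_units,
      ← Nat.card_eq_fintype_card (α := Fˣ), ← IsCyclic.card_powMonoidHom_ker]
    rfl
  · ext x
    obtain ⟨g, rfl⟩ := QuotientGroup.mk_surjective x
    rw [Subgroup.mem_centralizer_singleton_iff]
    refine ⟨fun h => ?_, ?_⟩
    · obtain ⟨A, hA⟩ := (r g).2 (by
        have c0 : g⁻¹ * T * g * T⁻¹ ∈ Subgroup.center _ := (QuotientGroup.eq_one_iff _).1 (by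
          simp only [QuotientGroup.mk_mul, QuotientGroup.mk_inv]
          rw [mul_assoc _⁻¹, ← h]; group)
        have c1 : (g⁻¹ * T * g) ^ 3 = T ^ 3 := by
          rw [show g⁻¹ * T * g = g⁻¹ * T * g * T⁻¹ * T by group,
            Commute.mul_pow (Subgroup.mem_center_iff.1 c0 T).symm, z _ c0, one_mul]
        have c2 := conj_pow (a := g⁻¹) (b := T) (i := 3)
        rw [inv_inv, c1, mul_assoc, eq_inv_mul_iff_mul_eq, pow_succ, pow_two, s2, one_mul] at c2
        exact c2)
      exact ⟨A, congrArg _ hA⟩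
    · rintro ⟨A, hA⟩
      rw [← hA]
      exact congrArg (QuotientGroup.mk' (Subgroup.center _)) ((r _).1 ⟨A, rfl⟩)

end Cfsg.Agent.S1219
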