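import Cfsg.Statements.S1222
import Cfsg.Agent.Lib.Char.RankOne17

set_option autoImplicit false
open Cfsg

namespace Cfsg.Agent.S1222

open Cfsg.Agent.Char

/-- Let G be a finite simple group with a strongly embedded subgroup H such that H permutes transitively the cosets gH with g ∉ H, and H has a normal subgroup Q acting regularly on those cosets (transitively, with only the identity fixing any of them). Then G is isomorphic to PSL(2,F) with F of characteristic 2 and at least 4 elements, or is simple with the order of a Suzuki group, or is isomorphic to PSU(3) over a field with q² elements, q ≥ 4 a power of 2. -/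
theorem result {G : Type*} [Group G] [Finite G] [IsSimpleGroup G] (H : Subgroup G) (hH : Cfsg.IsStronglyEmbedded H) (Q : Subgroup G) (hQH : Q ≤ H) (hQn : (Q.subgroupOf H).Normal) (htrans : ∀ g₁ g₂ : G, g₁ ∉ H → g₂ ∉ H → ∃ u ∈ Q, g₂⁻¹ * (u * g₁) ∈ H) (hreg : ∀ g : G, g ∉ H → ∀ u ∈ Q, g⁻¹ * (u * g) ∈ H → u = 1) : (∃ (F : Type) (_ : Field F) (_ : Fintype F), CharP F 2 ∧ 4 ≤ Fintype.card F ∧ Nonempty (G ≃* Matrix.ProjectiveSpecialLinearGroup (Fin 2) F)) ∨ Cfsg.IsSuzuki G ∨ (∃ (F : Type) (_ : Field F) (_ : Fintype F) (q : ℕ), Fintype.card F = q ^ 2 ∧ Even q ∧ 4 ≤ q ∧ Nonempty (G ≃* Cfsg.PSU 3 F q)) := by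
  obtain ⟨t, ht, h1⟩ := Transfer.se_exists_invol_notMem hH
  have h2 : ∀ g x : G, g • (x : G ⧸ H) = (x : G ⧸ H) ↔ x⁻¹ * (g * x) ∈ H := fun g x => by
    rw [eq_comm, MulAction.Quotient.smul_mk, QuotientGroup.eq, smul_eq_mul]
  have h3 : MulAction.stabilizer G ((1 : G) : G ⧸ H) = H := MulAction.stabilizer_quotient H
  have h4 : t • ((1 : G) : G ⧸ H) = (t : G ⧸ H) := by simp
  have hS : IsRankOneSetup G (G ⧸ H) (1 : G) t Q := RankOne.setup_mk' (Transfer.mul_self_of_orderOf ht)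
    (fun e => h1 (h3.le e)) (hQH.trans h3.ge) (h3.le.trans ((Subgroup.normal_subgroupOf_iff_le_normalizer hQH).1 hQn))
    (fun x hx e => hreg t h1 x hx ((h2 x t).1 (h4 ▸ e))) (fun c hc => by
      obtain ⟨c, rfl⟩ := QuotientGroup.mk_surjective c
      obtain ⟨u, hu, h5⟩ := htrans t c h1 fun h => hc (QuotientGroup.eq.2 (by simpa using h))
      exact ⟨u, hu, by rw [h4, eq_comm, MulAction.Quotient.smul_mk, QuotientGroup.eq]; exact h5⟩)
    (h3.symm ▸ hH.2.1) (by
      rw [RankOne.D, MulAction.stabilizer_smul_eq_stabilizer_map_conj, h3]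
      exact hH.2.2 t h1)
  refine (RankOne.suzuki_simple hS).imp (fun ⟨F, _, _, ⟨n, hn, hF⟩, h⟩ => ⟨F, _, _,
    charP_of_card_eq_prime_pow hF, hF ▸ Nat.pow_le_pow_right two_pos hn, h⟩) (Or.imp RankOne.isSuzuki_of_iso
      fun ⟨F, _, _, n, hn, hF, h⟩ => ⟨F, _, _, _, hF, by simp [Nat.even_pow]; omega,
        Nat.pow_le_pow_right two_pos hn, h⟩)

end Cfsg.Agent.S1222
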