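import Cfsg.Statements.S1224
import Cfsg.Agent.Lib.Transfer.Count

set_option autoImplicit false
open Cfsg

namespace Cfsg.Agent.S1224

set_option linter.unusedSectionVars false
set_option linter.unusedVariables false
set_option linter.style.haveILetI false
set_option linter.unusedSimpArgs false

open Subgroup Cfsg.Agent.Transfer

/-- Let H be a strongly embedded subgroup of the finite group G and x ≠ y two cosets in G/H. Then the number of involutions i of G with i • x = y equals the number of involutions lying in H. -/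
theorem result {G : Type*} [Group G] [Finite G] (H : Subgroup G) (hH : Cfsg.IsStronglyEmbedded H) (x y : G ⧸ H) (hxy : x ≠ y) : Nat.card {i : G // orderOf i = 2 ∧ i • x = y} = Nat.card {t : G // orderOf t = 2 ∧ t ∈ H} := by
  obtain ⟨a, rfl⟩ := QuotientGroup.mk_surjective x
  obtain ⟨b, rfl⟩ := QuotientGroup.mk_surjective y
  have hH' := se_cj hH a
  obtain ⟨t, ht, ht2⟩ := exists_invol_mem hH'.2.1
  have key : ∀ i : G, i • (a : G ⧸ H) = b ↔ b⁻¹ * i * a ∈ H := fun i => by
    rw [eq_comm, MulAction.Quotient.smul_mk, QuotientGroup.eq, smul_eq_mul, mul_assoc]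
  have hab : b⁻¹ * a ∉ H := fun h => hxy (QuotientGroup.eq.2 h).symm
  have hnot : ∀ i : G, b⁻¹ * i * a ∈ H → i ∉ cj a H := fun i hi h => hab (by
    have := mul_mem hi (inv_mem (mem_cj.1 h))
    simpa [mul_assoc] using this)
  simp only [key]
  refine cnt_eq_of_bij (fun i => b⁻¹ * (i * t * i⁻¹) * b) ?_ ?_ ?_
  · rintro i ⟨hi, h⟩
    refine ⟨by rw [orderOf_conj', orderOf_conj, ht2], ?_⟩
    have := mul_mem (mul_mem h (mem_cj.1 ht)) (inv_mem h)
    simpa [mul_assoc] using this
  · rintro i j ⟨hi, h⟩ ⟨hj, h'⟩ he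
    simp only [mul_left_inj, mul_right_inj] at he
    exact se_eq_of_conj_eq hH' ht ht2 (hnot i h) hi hj he
  · rintro s ⟨hs2, hs⟩
    obtain ⟨v, hv, -, h1⟩ := se_exists_invol_conj hH' ht ht2 (y := b * s * b⁻¹) (fun h => hab (by
      have := se_mem hH hs hs2 (g := a⁻¹ * b) (by simpa [mul_assoc] using mem_cj.1 h)
      simpa using inv_mem this)) (by rw [orderOf_conj, hs2])
    refine ⟨v, ⟨hv, se_mem hH (mem_cj.1 ht) (by rw [orderOf_conj', ht2]) ?_⟩, by rw [h1]; group⟩
    rw [show b⁻¹ * v * a * (a⁻¹ * t * a) * (b⁻¹ * v * a)⁻¹ = b⁻¹ * (v * t * v⁻¹) * b by group, h1]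
    simpa [mul_assoc] using hs

end Cfsg.Agent.S1224
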