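import Cfsg.Statements.S1228
import Cfsg.Agent.Lib.Transfer.ElemC

set_option autoImplicit false
open Cfsg

namespace Cfsg.Agent.S1228

set_option linter.unusedSectionVars false
set_option linter.unusedVariables false
set_option linter.style.haveILetI false
set_option linter.unusedSimpArgs false

open Subgroup Cfsg.Agent.Transfer

/-- Let G be a finite group with a Sylow 2-subgroup T that is neither cyclic nor normal, such that the centralizer of every involution is an elementary abelian 2-group; put H = N_G(T), let u be an involution outside H and D = H ∩ uHu⁻¹. Then N_G(D) = D ⊔ ⟨u⟩, and a coset gH is fixed by every element of D exactly when gH = H or gH = uH. -/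
theorem result {G : Type*} [Group G] [Finite G] (T : Sylow 2 G) (hnc : ¬ IsCyclic (T : Subgroup G)) (hnn : ¬ (T : Subgroup G).Normal) (hC : ∀ t : G, orderOf t = 2 → IsMulCommutative (Subgroup.centralizer ({t} : Set G)) ∧ ∀ c ∈ Subgroup.centralizer ({t} : Set G), c ^ 2 = 1) (u : G) (hu : orderOf u = 2) (huH : u ∉ Subgroup.normalizer ((T : Subgroup G) : Set G)) : Subgroup.normalizer ((Subgroup.normalizer ((T : Subgroup G) : Set G) ⊓ (Subgroup.normalizer ((T : Subgroup G) : Set G)).map (MulAut.conj u).toMonoidHom : Subgroup G) : Set G) = (Subgroup.normalizer ((T : Subgroup G) : Set G) ⊓ (Subgroup.normalizer ((T : Subgroup G) : Set G)).map (MulAut.conj u).toMonoidHom) ⊔ Subgroup.zpowers u ∧ ∀ g : G, ((∀ d ∈ Subgroup.normalizer ((T : Subgroup G) : Set G) ⊓ (Subgroup.normalizer ((T : Subgroup G) : Set G)).map (MulAut.conj u).toMonoidHom, d • (QuotientGroup.mk g : G ⧸ Subgroup.normalizer ((T : Subgroup G) : Set G)) = QuotientGroup.mk g) ↔ (QuotientGroup.mk g : G ⧸ Subgroup.normalizer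 ((T : Subgroup G) : Set G)) = QuotientGroup.mk 1 ∨ (QuotientGroup.mk g : G ⧸ Subgroup.normalizer ((T : Subgroup G) : Set G)) = QuotientGroup.mk u) := by
  have h : ElemC T := ⟨hnc, hnn, hC⟩
  set H := normalizer ((T : Subgroup G) : Set G) with hH
  change normalizer ((H ⊓ cj u H : Subgroup G) : Set G) = (H ⊓ cj u H) ⊔ zpowers u ∧
    ∀ g : G, (∀ d ∈ H ⊓ cj u H, d • (g : G ⧸ H) = g) ↔ _
  have hu1 := mul_self_of_orderOf hu
  have hne : ((1 : G) : G ⧸ H) ≠ u := fun h' => huH (by simpa using QuotientGroup.eq.1 h')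
  have hD : ∀ d, d ∈ H ⊓ cj u H ↔ d • ((1 : G) : G ⧸ H) = (1 : G) ∧ d • (u : G ⧸ H) = u := fun d => by
    rw [mem_inf, ElemC.smul_one_iff, smul_mk_eq_self_iff]
  have hfix : ∀ x : G ⧸ H, (∀ d ∈ H ⊓ cj u H, d • x = x) ↔ x = (1 : G) ∨ x = u := by
    intro x
    constructor
    · intro hx
      by_contra hc
      push Not at hc
      have h1 : H ⊓ cj u H = ⊥ := eq_bot_iff.2 fun d hd =>
        h.eq_one_of_fix hne hc.1.symm hc.2.symm ((hD d).1 hd).1 ((hD d).1 hd).2 (hx d hd)
      have h2 := h.card_inf huH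
      have h3 := h.two_lt
      rw [← hH, h1, card_bot] at h2
      omega
    · rintro (rfl | rfl) d hd
      exacts [((hD d).1 hd).1, ((hD d).1 hd).2]
  have hun : u ∈ normalizer ((H ⊓ cj u H : Subgroup G) : Set G) := by
    rw [mem_normalizer_iff_cj, cj_inf, cj_cj, hu1, cj_one, inf_comm]
  refine ⟨le_antisymm ?_ (sup_le le_normalizer (zpowers_le.2 hun)), fun g => hfix g⟩
  have key : ∀ n ∈ normalizer ((H ⊓ cj u H : Subgroup G) : Set G), ∀ x : G ⧸ H,
      x = (1 : G) ∨ x = u → n • x = (1 : G) ∨ n • x = u := by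
    intro n hn x hx
    rw [← hfix] at hx ⊢
    intro d hd
    have := hx _ (inv_conj_mem_of_mem_normalizer hn hd)
    rw [mul_smul, mul_smul, inv_smul_eq_iff] at this
    exact this
  have key2 : ∀ n ∈ normalizer ((H ⊓ cj u H : Subgroup G) : Set G),
      n • ((1 : G) : G ⧸ H) = (1 : G) → n ∈ H ⊓ cj u H := fun n hn h1 =>
    (hD n).2 ⟨h1, (key n hn u (Or.inr rfl)).resolve_left (ElemC.smul_ne h1 hne.symm)⟩
  intro n hn
  rcases key n hn _ (Or.inl rfl) with h1 | h1
  · exact mem_sup_left (key2 n hn h1)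
  · have := key2 _ (mul_mem hun hn) (by
      rw [mul_smul, h1, MulAction.Quotient.smul_mk, smul_eq_mul, hu1])
    have h2 := mul_mem (mem_sup_right (mem_zpowers u)) (mem_sup_left this : _ ∈ H ⊓ cj u H ⊔ zpowers u)
    rwa [← mul_assoc, hu1, one_mul] at h2

end Cfsg.Agent.S1228
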