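import Cfsg.Statements.S1231
import Cfsg.Agent.Lib.Transfer.Rank

set_option autoImplicit false
open Cfsg

namespace Cfsg.Agent.S1231

set_option linter.unusedSectionVars false
set_option linter.unusedVariables false
set_option linter.style.haveILetI false
set_option linter.unusedSimpArgs false

open Subgroup Cfsg.Agent.Transfer

/-- Let H be a subgroup of the finite group G, p a prime, k ≥ 1, and P a Sylow p-subgroup of H whose p-rank is at least k. Then N_G(X) ≤ H for every subgroup X of P of p-rank at least k if and only if H ∩ gHg⁻¹ has p-rank less than k for every g ∉ H. -/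
theorem result {G : Type*} [Group G] [Finite G] {p : ℕ} [Fact p.Prime] (k : ℕ) (hk : 1 ≤ k) (H : Subgroup G) (P : Sylow p ↥H) (hP : ¬ Cfsg.PRankLE p (k - 1) ↥(P : Subgroup ↥H)) : (∀ X : Subgroup G, X ≤ (P : Subgroup ↥H).map H.subtype → ¬ Cfsg.PRankLE p (k - 1) ↥X → Subgroup.normalizer (X : Set G) ≤ H) ↔ (∀ g : G, g ∉ H → Cfsg.PRankLE p (k - 1) ↥(H ⊓ H.map (MulAut.conj g).toMonoidHom)) := by
  have hS := isSyl_map_subtype P
  constructor
  · intro h' g hg
    have h'' : ∀ X : Subgroup G, IsPGroup p X → X ≤ H → ¬ PRankLE p (k - 1) X →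
        normalizer (X : Set G) ≤ H := by
      intro X hX hXH hX1 g hg
      obtain ⟨k, hk, hle⟩ := hS.exists_cj_le hX hXH
      have := h' _ hle (by rwa [pRankLE_cj]) (by
        rw [← cj_normalizer]; exact conj_mem_cj hg)
      simpa [mul_assoc] using mul_mem (mul_mem (inv_mem hk) this) hk
    refine pRankLE_sub_iff.2 fun A hA hA' => ?_
    obtain ⟨R, hR, hAR⟩ := exists_isSyl_ge (elem_isPGroup hA') hA
    by_contra hc
    have hR1 : ¬ PRankLE p (k - 1) R := fun h => hc (pRankLE_sub_iff.1 h A hAR hA')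
    have hN : normalizer (R : Set G) ≤ H ⊓ cj g H := by
      refine le_inf (h'' R hR.pgroup (hR.le.trans inf_le_left) hR1) ?_
      rw [le_cj_iff_cj_inv_le, cj_normalizer]
      exact h'' _ (IsPGroup.cj hR.pgroup _) (le_cj_iff_cj_inv_le.1 (hR.le.trans inf_le_right))
        (by rwa [pRankLE_cj])
    have hT := hR.top_of_normalizer_le hN
    have h1 : IsSyl p R H := hT.mono (hR.le.trans inf_le_left) le_top
    have h2 : IsSyl p (cj g⁻¹ R) H := by
      have := (hT.mono (hR.le.trans inf_le_right) le_top).cj g⁻¹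
      rwa [cj_inv_cj] at this
    obtain ⟨k, hk, he⟩ := h1.exists_cj_eq h2
    rw [cj_cj, ← mem_normalizer_iff_cj] at he
    have := (mem_inf.1 (hN he)).1
    exact hg (by simpa using mul_mem (inv_mem this) hk)
  · intro h X hX hX1 g hg
    by_contra hn
    have hXH : X ≤ H := hX.trans hS.le
    exact hX1 (pRankLE_mono (h g hn) (le_inf hXH (cj_eq_of_mem_normalizer hg ▸ cj_mono g hXH)))

end Cfsg.Agent.S1231
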