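import Cfsg.Statements.S1236
import Cfsg.Agent.Lib.Transfer.Tet

set_option autoImplicit false
open Cfsg

namespace Cfsg.Agent.S1236

set_option linter.unusedSectionVars false
set_option linter.unusedVariables false
set_option linter.style.haveILetI false
set_option linter.unusedSimpArgs false

open Subgroup Transfer MS

/-- Let R be a finite group, t a central involution of R such that R ⧸ ⟨t⟩ is dihedral (of order ≥ 4) or quasi-dihedral, and A ≤ R an elementary abelian subgroup of order 8 containing t. Then C_R(A) = A. -/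
theorem result {R : Type*} [Group R] [Finite R] (t : R) (ht : orderOf t = 2) (htz : t ∈ Subgroup.center R) [(Subgroup.zpowers t).Normal] (hq : (∃ m : ℕ, 2 ≤ m ∧ Nonempty (R ⧸ Subgroup.zpowers t ≃* DihedralGroup m)) ∨ Cfsg.IsQuasiDihedral (R ⧸ Subgroup.zpowers t)) (A : Subgroup R) (hA : Cfsg.IsElementaryAbelian 2 A) (hA8 : Nat.card A = 8) (htA : t ∈ A) : Subgroup.centralizer (A : Set R) = A := by
  set f := QuotientGroup.mk' (zpowers t)
  have h1 : IsKleinFour (A.map f) := by
    refine klein_of_elem (elem_map hA f) ?_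
    have := Solv.card_map_mul_card_inf_ker f A
    rw [QuotientGroup.ker_mk', inf_eq_right.2 (zpowers_le.2 htA), Nat.card_zpowers, ht, hA8] at this
    omega
  have h2 : ⊤ ⊓ CC (A.map f) ≤ A.map f := by
    obtain ⟨m, hm, ⟨e⟩⟩ | hq := hq
    · haveI : NeZero m := ⟨by omega⟩
      obtain ⟨a, b, -, h2, h3, h4, h5⟩ := exists_gens_of_dihedral (topEquiv.trans e)
      have h6 := ix2_sup (mem_normalizer_zpowers (h2 ▸ inv_mem (mem_zpowers a))) (sq b ▸ h3 ▸ one_mem _) h4
      rw [← closure_pair_eq, ← h5] at h6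
      refine h6.cc_klein le_top h1 fun s hs hs' c hc e => ?_
      have h7 := (A2.mk h6 (ab_of_cyc (cyc_zpowers a))).conj_eq hs hs' (mem_top b) h4 hc
      rwa [e, mul_inv_cancel_right, inverts_of_mem_zpowers h2 hc, eq_inv_iff_mul_eq_one] at h7
    · obtain ⟨a, b, n, h⟩ := qd_top hq
      exact h.a2.cc_klein le_top h1 fun s hs hs' c hc e => (h.out hs hs').fix hc e
  refine le_antisymm (fun x hx => ?_) (ab_cc hA.1)
  have h3 := h2 ⟨mem_top _, map_centralizer_le_centralizer_image _ f (mem_map_of_mem f hx)⟩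
  rwa [← mem_comap, comap_map_eq, QuotientGroup.ker_mk', sup_eq_left.2 (zpowers_le.2 htA)] at h3

end Cfsg.Agent.S1236
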