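import Cfsg.Statements.S1239
import Cfsg.Agent.Lib.Transfer.Wr3

set_option autoImplicit false
open Cfsg

namespace Cfsg.Agent.S1239

set_option linter.unusedSectionVars false
set_option linter.unusedVariables false
set_option linter.style.haveILetI false
set_option linter.unusedSimpArgs false

open Subgroup Transfer MS

/-- Let X be a finite group whose Sylow 2-subgroup S is quasi-dihedral or wreathed, and suppose some involution of S is isolated in X. Then the product of the largest normal odd-order subgroup O(X) with the centre of S is normal in X. -/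
theorem result {X : Type*} [Group X] [Finite X] (S : Sylow 2 X) (hS : Cfsg.IsQuasiDihedral (S : Subgroup X) ∨ Cfsg.IsWreathed (S : Subgroup X)) (z : X) (hzS : z ∈ S) (hz : Cfsg.IsIsolatedInvolution z) : (Cfsg.oddCore X ⊔ (Subgroup.center (S : Subgroup X)).map (S : Subgroup X).subtype).Normal := by
  have h1 : z ∈ (S : Subgroup X) ⊓ CC (S : Subgroup X) := ⟨hzS, le_C1_iff.1 (isol_le_Ce1 hz.2 S.isPGroup' hzS)⟩
  rw [map_center_eq]
  obtain ⟨a, b, n, h⟩ | ⟨x, y, w, n, h⟩ := qw_congr (.refl _) hS
  · rw [h.center h.one] at h1 ⊢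
    rw [← invol_eq_of_mem_zpowers h1 (mem_zpowers _) hz.1 h.ord_z]
    exact normal_core_sup hz.2 (S.isPGroup'.to_le (zpowers_le.2 hzS))
  rw [h.center] at h1 ⊢
  obtain rfl := (h.Z_inv h1 (mul_self_of_orderOf hz.1)).resolve_left (ne_one_of_orderOf hz.1)
  refine normal_core_sup (isol_of_sylow S (h.Z_le (mem_zpowers _)) fun g => h.Z_closed (fun e => ?_) (mem_zpowers _))
    (h.pg.to_le h.Z_le)
  obtain ⟨g, e⟩ := isConj_iff.1 (h.isConj_tx e)
  exact h.x0_notMem (by rw [← e, isol_eq_of_mem hz.2 h.pg hzS (e ▸ h.le (pow_mem Wr.xU _))]; exact h1)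

end Cfsg.Agent.S1239
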