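import Cfsg.Statements.S1241
import Cfsg.Agent.Lib.Transfer.Hall

set_option autoImplicit false
open Cfsg

namespace Cfsg.Agent.S1241

set_option linter.unusedSectionVars false
set_option linter.unusedVariables false
set_option linter.style.haveILetI false
set_option linter.unusedSimpArgs false

open Cfsg.Agent.Transfer Subgroup
open scoped IsMulCommutative

/-- Let G be a finite group, p a prime, H a subgroup of index prime to p, K a subgroup of H normal in H with H/K commutative, and g ∈ H ∖ K an element of p-power order such that for all integers m and all a ∈ G with a g^m a⁻¹ ∈ H one has a g^m a⁻¹ ∈ g^m K. Then g ∉ G'. -/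
theorem result {G : Type*} [Group G] [Finite G] {p : ℕ} [Fact p.Prime] (H K : Subgroup G) (hHK : K ≤ H) (hKn : (K.subgroupOf H).Normal) (hab : ∀ x ∈ H, ∀ y ∈ H, x * y * x⁻¹ * y⁻¹ ∈ K) (hidx : Nat.Coprime p H.index) (g : G) (hgH : g ∈ H) (hgK : g ∉ K) (hgp : ∃ k : ℕ, orderOf g = p ^ k) (hctrl : ∀ (m : ℤ) (a : G), a * g ^ m * a⁻¹ ∈ H → (a * g ^ m * a⁻¹) * (g ^ m)⁻¹ ∈ K) : g ∉ commutator G := by
  haveI : IsMulCommutative (H ⧸ K.subgroupOf H) := by
    rw [Normal.quotient_commutative_iff_commutator_le, _root_.commutator_def, commutator_le]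
    intro a _ b _
    exact hab a a.2 b b.2
  intro hg
  have key := transfer_eq_pow_of_mem (QuotientGroup.mk' (K.subgroupOf H)) hgH (by
    intro k a h
    have h1 := hctrl k a⁻¹ (by simpa using h)
    rw [← map_pow, eq_comm, QuotientGroup.mk'_eq_mk']
    have h2 : ((⟨_, h⟩ : H) * (⟨g, hgH⟩ ^ k)⁻¹) ∈ K.subgroupOf H := by
      simpa [mem_subgroupOf] using h1
    exact ⟨_, hKn.conj_mem' _ h2 (⟨g, hgH⟩ ^ k), by group⟩)
  have h4 : MonoidHom.transfer (QuotientGroup.mk' (K.subgroupOf H)) g = 1 :=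
    Abelianization.commutator_subset_ker _ hg
  rw [h4] at key
  obtain ⟨k, hk⟩ := hgp
  have h5 : orderOf (QuotientGroup.mk' (K.subgroupOf H) ⟨g, hgH⟩) ∣ p ^ k := by
    refine (orderOf_map_dvd _ _).trans ?_
    simp [hk]
  have h6 := Nat.eq_one_of_dvd_coprimes (Nat.Coprime.pow_left k hidx) h5
    (orderOf_dvd_of_pow_eq_one key.symm)
  rw [orderOf_eq_one_iff, QuotientGroup.mk'_apply, QuotientGroup.eq_one_iff] at h6
  exact hgK h6

end Cfsg.Agent.S1241
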