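import Cfsg.Statements.S1242
import Cfsg.Agent.Lib.Transfer.Hall

set_option autoImplicit false
open Cfsg

namespace Cfsg.Agent.S1242

set_option linter.unusedSectionVars false
set_option linter.unusedVariables false
set_option linter.style.haveILetI false
set_option linter.unusedSimpArgs false

open Cfsg.Agent.Transfer Subgroup

/-- Let G be a finite group, p a prime and H a subgroup of index prime to p such that any two elements of H of p-power order that are conjugate in G are conjugate in H. Then (O^p(G)·G') ∩ H = O^p(H)·H', where O^p denotes the subgroup generated by the elements of order prime to p. -/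
theorem result {G : Type*} [Group G] [Finite G] {p : ℕ} [Fact p.Prime] (H : Subgroup G) (hidx : Nat.Coprime p H.index) (hfus : ∀ g ∈ H, (∃ k : ℕ, orderOf g = p ^ k) → ∀ a : G, a * g * a⁻¹ ∈ H → ∃ h ∈ H, h * g * h⁻¹ = a * g * a⁻¹) : (Cfsg.pResidual p G ⊔ commutator G) ⊓ H = (Cfsg.pResidual p ↥H ⊔ commutator ↥H).map H.subtype := by
  rw [Subgroup.map_sup, map_subtype_commutator, ← res_def]
  apply le_antisymm
  · obtain ⟨S, hS⟩ := exists_isSyl p H
    have hS' : IsSyl p S ⊤ := hS.trans le_top (by
      rw [relIndex_top_right]; exact (Nat.Prime.coprime_iff_not_dvd Fact.out).1 hidx)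
    have key := hS'.inf_commutator_eq_of_controls hS.le le_top (fun x hx g _ hg =>
      hfus x (hS.le hx) (by
        obtain ⟨k, hk⟩ := IsPGroup.iff_orderOf.1 hS.pgroup ⟨x, hx⟩
        exact ⟨k, by simpa using hk⟩) g (hS.le hg))
    intro x hx
    obtain ⟨a, ha, s, hs, rfl⟩ := hS.exists_res_mul (mem_inf.1 hx).2
    refine mul_mem (mem_sup_left ha) (mem_sup_right (commutator_mono hS.le le_rfl (key ?_)))
    refine mem_inf.2 ⟨hs, ?_⟩
    rw [res_top, sup_comm]
    have := mul_mem (inv_mem (mem_sup_left (res_le_pResidual H ha))) (mem_inf.1 hx).1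
    rwa [inv_mul_cancel_left] at this
  · exact le_inf (sup_le_sup (res_le_pResidual H) (commutator_mono le_top le_top))
      (sup_le (res_le H) (commutator_le_self H))

end Cfsg.Agent.S1242
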