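import Cfsg.Statements.S1244
import Cfsg.Agent.Lib.Block.Syl2

set_option autoImplicit false
open Cfsg

namespace Cfsg.Agent.S1244

open Cfsg.Agent.Blk
open Cfsg.Agent.Char hiding cj cj_mul cj_inv_cj cj_cj_inv
open Subgroup Cfsg.Agent.Transfer
open scoped IsMulCommutative

/-- Let G be a finite group with no subgroup of index 2 whose Sylow 2-subgroup S is commutative, and let R ≤ S be a subgroup whose 2-rank is exactly one less than the 2-rank r of S. Then every involution of S is conjugate, by an element of N_G(S), to an element of R. -/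
theorem result {G : Type*} [Group G] [Finite G] (hG : ∀ H : Subgroup G, H.index ≠ 2) (S : Sylow 2 G) (hS : IsMulCommutative (S : Subgroup G)) (r : ℕ) (hr1 : 1 ≤ r) (hSr : Cfsg.PRankLE 2 r (S : Subgroup G) ∧ ¬ Cfsg.PRankLE 2 (r - 1) (S : Subgroup G)) (R : Subgroup G) (hRS : R ≤ S) (hRr : Cfsg.PRankLE 2 (r - 1) R ∧ (r = 1 ∨ ¬ Cfsg.PRankLE 2 (r - 2) R)) (t : G) (ht : orderOf t = 2) (htS : t ∈ S) : ∃ n ∈ Subgroup.normalizer ((S : Subgroup G) : Set G), n * t * n⁻¹ ∈ R := by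
  by_contra hc
  push Not at hc
  let Ω : Subgroup S := (powMonoidHom 2 : S →* S).ker
  let Q : Subgroup S := Ω ⊓ R.subgroupOf S
  have h1 : Nat.card Ω ≤ 2 ^ r := hSr.1 Ω inferInstance fun a ha => ha
  have h2 : 2 ^ (r - 1) ≤ Nat.card Q := by
    rcases hRr.2 with rfl | h
    · exact Nat.card_pos
    unfold PRankLE at h
    push Not at h
    obtain ⟨A, -, a2, a3⟩ := h
    obtain ⟨k, hk⟩ := IsPGroup.iff_card.1 ((S.isPGroup'.to_le hRS).to_subgroup A)
    rw [hk, Nat.pow_lt_pow_iff_right (by norm_num)] at a3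
    refine (Nat.pow_le_pow_right (by norm_num) (by omega : r - 1 ≤ k)).trans (hk.ge.trans ?_)
    rw [← card_map_of_injective (inclusion_injective hRS)]
    refine card_le_of_le ?_
    rintro _ ⟨a, ha, rfl⟩
    exact ⟨(map_pow _ _ _).symm.trans (by rw [a2 a ha, map_one]), a.2⟩
  have t2 : t ^ 2 = 1 := ht ▸ pow_orderOf_eq_one t
  have h3 : ∀ (a : G) (h : a⁻¹ * t * a ∈ S), (⟨_, h⟩ : S) ∈ Ω ∧ (⟨_, h⟩ : S) ∉ Q := fun a h =>
    ⟨Subtype.ext (by
      change (a⁻¹ * t * a) ^ 2 = 1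
      rw [← inv_inv a, inv_inv a⁻¹, conj_pow, t2]; simp), fun k => by
      obtain ⟨n, hn, e⟩ := exists_normalizer_conj_of_abelian S hS htS (g := a⁻¹) (by simpa using h)
      exact hc n hn (by rw [e, inv_inv]; exact k.2)⟩
  have h4 := h3 1 (by simpa using htS)
  simp only [inv_one, one_mul, mul_one] at h4
  have h5 : Q.relIndex Ω = 2 := by
    have a1 := Solv.card_mul_relIndex (inf_le_left : Q ≤ Ω)
    have a2 : Q.relIndex Ω ≠ 1 := fun e => h4.2 (relIndex_eq_one.1 e h4.1)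
    have a3 : Q.relIndex Ω ≠ 0 := index_ne_zero_of_finite
    have a4 : 2 ^ r = 2 ^ (r - 1) * 2 := by rw [← pow_succ]; congr 1; omega
    have a5 := Nat.card_pos (α := Q)
    by_contra a6
    have : 3 ≤ Q.relIndex Ω := by omega
    change Nat.card Q * Q.relIndex Ω = _ at a1
    nlinarith
  have h6 : (QuotientGroup.mk' Q ⟨t, htS⟩) ^ 2 = 1 := by
    rw [← map_pow, show (⟨t, htS⟩ : S) ^ 2 = 1 from h4.1, map_one]
  have h7 := transfer_eq_pow_of_mem (QuotientGroup.mk' Q) htS fun k a h => by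
    rcases Nat.even_or_odd' k with ⟨j, rfl | rfl⟩
    · simp only [pow_mul, t2, h6, one_pow, mul_one, inv_mul_cancel]
      exact map_one _
    · simp only [pow_succ, pow_mul, t2, h6, one_pow, one_mul] at h ⊢
      refine QuotientGroup.eq.2 ((mul_mem_iff_of_index_two (H := Q.subgroupOf Ω) h5
        (a := ⟨_, inv_mem (h3 a h).1⟩) (b := ⟨_, h4.1⟩)).2 (iff_of_false ?_ h4.2))
      exact fun e => (h3 a h).2 (inv_mem_iff.1 e)
  have h8 := pResidual_le_ker (S.isPGroup'.to_quotient Q) (MonoidHom.transfer (QuotientGroup.mk' Q))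
    (pResidual_two_eq_top_iff.2 hG ▸ mem_top t)
  obtain ⟨j, hj⟩ := odd_index_sylow_two S
  rw [MonoidHom.mem_ker, h7, hj, pow_succ, pow_mul, h6, one_pow, one_mul] at h8
  exact h4.2 ((QuotientGroup.eq_one_iff _).1 h8)

end Cfsg.Agent.S1244
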