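import Cfsg.Statements.S1247
import Cfsg.Agent.Lib.Block.Syl1
import Cfsg.Agent.Lib.Comp.Res
import Cfsg.Agent.Lib.Comp.SylIn
import Cfsg.Agent.Lib.Solv.Coprime
import Cfsg.Agent.Lib.Solv.Cores

set_option autoImplicit false
open Cfsg

namespace Cfsg.Agent.S1247

open Cfsg.Agent.Blk
open Cfsg.Agent.Char hiding cj cj_mul cj_inv_cj cj_cj_inv
open Subgroup Cfsg.Agent.Comp

/-- Let G be a non-abelian finite simple group, A a maximal subgroup, F = F*(A) its generalized Fitting subgroup (viewed in G), and S ≤ F a subgroup subnormal in F with C_F(S) ≤ S. Let B be any subgroup of G containing S. Then (a) for every prime q not dividing |F(A)|, O_q(B) ∩ A = 1; and (b) for every prime p dividing |F(A)|, O_p(B) commutes elementwise with the subgroup of F generated by its elements of order prime to p. -/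
theorem result {G : Type*} [Group G] [Finite G] [IsSimpleGroup G] (hna : ¬ IsMulCommutative G) (A : Subgroup G) (hA : IsCoatom A) (S : Subgroup G) (hSF : S ≤ (Cfsg.generalizedFittingSubgroup ↥A).map A.subtype) (hSsn : (S.subgroupOf ((Cfsg.generalizedFittingSubgroup ↥A).map A.subtype)).IsSubnormal) (hSC : (Cfsg.generalizedFittingSubgroup ↥A).map A.subtype ⊓ Subgroup.centralizer (S : Set G) ≤ S) (B : Subgroup G) (hSB : S ≤ B) : (∀ q : ℕ, q.Prime → ¬ q ∣ Nat.card (Cfsg.fittingSubgroup ↥A) → (Cfsg.pCore q ↥B).map B.subtype ⊓ A = ⊥) ∧ (∀ p : ℕ, p.Prime → p ∣ Nat.card (Cfsg.fittingSubgroup ↥A) → ∀ x ∈ (Cfsg.pCore p ↥B).map B.subtype, ∀ y ∈ (Cfsg.pResidual p ↥(Cfsg.generalizedFittingSubgroup ↥A)).map ((Cfsg.generalizedFittingSubgroup ↥A).subtype) , x * (A.subtype y) = (A.subtype y) * x) := by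
  classical
  rw [map_fstar] at hSF hSsn hSC
  have hS : SubnIn S (Fstar A) := subnIn_iff.2 ⟨hSF, hSsn⟩
  have hSA : S ≤ A := hSF.trans (Fstar_le A)
  have hES : Lay A ≤ S := by
    rw [Lay_le_iff]
    intro K hK
    rcases hK.le_or_le_centralizer (hS.trans (Fstar_subnIn A)) with h | h
    · exact h
    · exact (le_inf (hK.le_Lay.trans (Lay_le_Fstar A)) (le_centralizer_iff.1 h)).trans hSC
  have hFn := isNilpotent_Fit A
  have hAF : A ≤ normalizer (Fit A : Set G) := le_normalizer_Fit_of_le le_rfl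
  have hSd : S = Lay A ⊔ (Fit A ⊓ S) := by
    have := sup_inf_of_le_normalizer (A := Lay A) (B := Fit A) (C := S) ((Lay_le A).trans hAF) hES
    rw [← this]
    exact (inf_eq_right.2 hSF).symm
  have hN : ∀ X : Subgroup G, X ≠ ⊥ → X ≤ A → A ≤ normalizer (X : Set G) → normalizer (X : Set G) ≤ A := by
    intro X h0 h1 h2
    rcases h2.lt_or_eq with h | h
    · have hX : X.Normal := normalizer_eq_top_iff.1 (hA.2 _ h)
      rcases hX.eq_bot_or_eq_top with h3 | h3
      · exact absurd h3 h0
      · exact absurd (top_le_iff.1 (h3 ▸ h1)) hA.1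
    · exact h.ge
  -- elements of O_{r'}(F) centralizing O_{r'}(F) ⊓ S lie in S
  have hcS : ∀ (r : ℕ) [Fact r.Prime], Opp r (Fit A) ⊓ centralizer ((Opp r (Fit A) ⊓ S : Subgroup G) : Set G) ≤ S := by
    intro r _
    refine le_trans (le_inf ((inf_le_left.trans (Opp_le r _)).trans (Fit_le_Fstar A)) ?_) hSC
    have hn : Group.IsNilpotent (Fit A ⊓ S : Subgroup G) := isNilpotent_of_le inf_le_left hFn
    have hsub : SubnIn (Fit A ⊓ S) (Fit A) := subnIn_of_isNilpotent hFn inf_le_left
    rw [le_centralizer_iff]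
    refine hSd.le.trans (sup_le ?_ ?_)
    · rw [le_centralizer_iff]
      exact (inf_le_left.trans (Opp_le r _)).trans (Fit_le_centralizer_Lay A)
    · rw [← Op_sup_Opp_of_isNilpotent (p := r) hn]
      refine sup_le ?_ ?_
      · exact ((hsub.Op_le r).trans (Op_le_centralizer_Opp r _)).trans (centralizer_mono inf_le_left)
      · rw [le_centralizer_iff]
        exact inf_le_right.trans (centralizer_mono (le_inf (hsub.Opp_le r) ((Opp_le r _).trans inf_le_right)))
  have L1 : ∀ (r : ℕ) [Fact r.Prime] (Q : Subgroup G), IsPGroup r Q → Q ≤ A → S ≤ normalizer (Q : Set G) →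
      Q ≤ centralizer ((Lay A ⊔ Opp r (Fit A) : Subgroup G) : Set G) := by
    intro r _ Q hQ hQA hSQ
    rw [centralizer_sup]
    refine le_inf (le_centralizer_Lay_of_isSolvable hQA (hES.trans hSQ) (isSolvable_of_isPGroup hQ)) ?_
    have hQD : Q ≤ normalizer (Opp r (Fit A) : Set G) := le_normalizer_Opp (hQA.trans hAF)
    have h1 : Opp r (Fit A) ⊓ S ≤ centralizer (Q : Set G) := by
      rw [← commutator_eq_bot_iff']
      refine eq_bot_iff.2 (le_trans (le_inf ?_ ?_) (inf_eq_bot_of_isPGroup hQ (coprime_Opp r (Fit A))).le)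
      · exact commutator_le_left_of_le_normalizer (inf_le_right.trans hSQ)
      · exact (commutator_mono le_rfl inf_le_left).trans (commutator_le_right_of_le_normalizer hQD)
    refine Solv.coprime_le_centralizer_of_self_centralizing (isNilpotent_of_le (Opp_le r _) hFn) hQD
      (coprime_of_isPGroup hQ (coprime_Opp r _)) ?_
    refine le_trans (le_inf inf_le_left ?_) h1
    exact le_trans (inf_le_inf_left _ (centralizer_mono (le_inf inf_le_left h1))) (hcS r)
  have hSP : ∀ r : ℕ, S ≤ normalizer (Op r B : Set G) := fun r => le_normalizer_Op_of_le hSB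
  refine ⟨fun q hq hqF => ?_, fun p hp hpF x hx y hy => ?_⟩
  · haveI : Fact q.Prime := ⟨hq⟩
    rw [map_pCore]
    have hc : (Nat.card (Fit A)).Coprime q := by
      rw [← map_fitting, card_map_subtype]
      exact ((Nat.Prime.coprime_iff_not_dvd hq).2 hqF).symm
    have hQ : IsPGroup q (Op q B ⊓ A : Subgroup G) := (isPGroup_Op q B).to_inf_left
    have := L1 q (Op q B ⊓ A) hQ inf_le_right (le_normalizer_inf (hSP q) (hSA.trans le_normalizer))
    rw [Opp_eq_self hc] at this
    have h2 := le_Fit_of_le_centralizer_Fstar inf_le_right this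
    exact eq_bot_iff.2 ((le_inf le_rfl h2).trans (inf_eq_bot_of_isPGroup hQ hc).le)
  · haveI : Fact p.Prime := ⟨hp⟩
    rw [map_pCore] at hx
    have hy' : A.subtype y ∈ Res p (Fstar A) := by
      rw [map_pResidual] at hy
      rw [← map_fstar, ← map_Res]
      exact mem_map_of_mem _ hy
    have hRD := Op_sup_Opp_of_isNilpotent (p := p) hFn
    have hAR : A ≤ normalizer (Op p (Fit A) : Set G) := le_normalizer_Op hAF
    have hAD : A ≤ normalizer (Opp p (Fit A) : Set G) := le_normalizer_Opp hAF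
    have hR0 : Op p (Fit A) ≠ ⊥ := by
      intro h
      rw [h, bot_sup_eq] at hRD
      have := coprime_Opp p (Fit A)
      rw [hRD, ← map_fitting, card_map_subtype] at this
      exact ((Nat.Prime.coprime_iff_not_dvd hp).1 this.symm) hpF
    have hres : Res p (Fstar A) ≤ Lay A ⊔ Opp p (Fit A) := by
      have : Fstar A = (Lay A ⊔ Opp p (Fit A)) ⊔ Op p (Fit A) := by
        rw [sup_assoc, sup_comm (Opp p (Fit A)), hRD]; rfl
      rw [this]
      exact Res_sup_le' (((Op_le p _).trans (Fit_le A)).trans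
        (le_normalizer_sup (le_normalizer_Lay_self A) hAD)) (isPGroup_Op p _)
    suffices h : Op p B ≤ centralizer ((Lay A ⊔ Opp p (Fit A) : Subgroup G) : Set G) from
      (mem_centralizer_iff.1 (h hx) _ (hres hy')).symm
    set Z : Subgroup G := Op p (Fit A) ⊓ centralizer (Op p (Fit A) : Set G) with hZ
    have hZ0 : Z ≠ ⊥ := Solv.inf_centralizer_ne_bot_of_nilpotent (isPGroup_Op p _).isNilpotent le_rfl
      le_normalizer hR0
    have hZF : Z ≤ Fit A := inf_le_left.trans (Op_le p _)
    have hAZ : A ≤ normalizer (Z : Set G) := le_normalizer_inf hAR (le_normalizer_centralizer hAR)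
    have hZp : IsPGroup p Z := (isPGroup_Op p _).to_inf_left
    have hZC : Z ≤ centralizer (Fstar A : Set G) := by
      have : Fstar A = Lay A ⊔ (Op p (Fit A) ⊔ Opp p (Fit A)) := by rw [hRD]; rfl
      rw [this, centralizer_sup, centralizer_sup]
      exact le_inf (hZF.trans (Fit_le_centralizer_Lay A))
        (le_inf inf_le_right (inf_le_left.trans (Op_le_centralizer_Opp p _)))
    have hZS : Z ≤ S := (le_inf (hZF.trans (Fit_le_Fstar A)) (hZC.trans (centralizer_mono hSF))).trans hSC
    have hCZ : centralizer (Z : Set G) ≤ A :=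
      (centralizer_le_normalizer _).trans (hN Z hZ0 (hZF.trans (Fit_le A)) hAZ)
    have hP0 := L1 p (Op p B ⊓ centralizer (Z : Set G)) (isPGroup_Op p B).to_inf_left
      (inf_le_right.trans hCZ) (le_normalizer_inf (hSP p) (le_normalizer_centralizer (hSA.trans hAZ)))
    have hT : ∀ Y : Subgroup G, Y ≤ S → Y ≤ Lay A ⊔ Opp p (Fit A) → (Nat.card Y).Coprime p →
        Y ≤ centralizer (Op p B : Set G) := by
      intro Y h1 h2 h3
      exact le_centralizer_Op_of_pxq hZp (hZS.trans hSB) (h1.trans hSB) h3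
        (le_centralizer_iff.1 (hZC.trans (centralizer_mono (h1.trans hSF))))
        (hP0.trans (centralizer_mono h2))
    have hE : Lay A ≤ centralizer (Op p B : Set G) := by
      rw [← Res_eq_self_of_perfect (p := p) (Lay_perfect A)]
      refine ResPi_le_of_forall fun q hq hqp Q hQ1 hQ2 => hT Q (hQ1.trans hES) (hQ1.trans le_sup_left) ?_
      haveI : Fact q.Prime := ⟨hq⟩
      obtain ⟨k, hk⟩ := IsPGroup.iff_card.1 hQ2
      rw [hk]
      exact Nat.Coprime.pow_left k ((Nat.coprime_primes hq hp).2 hqp)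
    have hD : Opp p (Fit A) ⊓ S ≤ centralizer (Op p B : Set G) :=
      hT _ inf_le_right (inf_le_left.trans le_sup_right)
        (Nat.Coprime.coprime_dvd_left (card_dvd_of_le inf_le_left) (coprime_Opp p _))
    by_cases hD0 : Opp p (Fit A) = ⊥
    · rw [hD0, sup_bot_eq]
      exact le_centralizer_iff.1 hE
    refine L1 p _ (isPGroup_Op p B) ?_ (hSP p)
    set Z' : Subgroup G := Opp p (Fit A) ⊓ centralizer (Opp p (Fit A) : Set G) with hZ'
    have hZ'0 : Z' ≠ ⊥ := Solv.inf_centralizer_ne_bot_of_nilpotent (isNilpotent_of_le (Opp_le p _) hFn) le_rfl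
      le_normalizer hD0
    have hZ'S : Z' ≤ S := le_trans (inf_le_inf_left _ (centralizer_mono inf_le_left)) (hcS p)
    have h1 : Op p B ≤ centralizer (Z' : Set G) :=
      le_centralizer_iff.1 ((le_inf inf_le_left hZ'S).trans hD)
    exact h1.trans ((centralizer_le_normalizer _).trans (hN Z' hZ'0 (hZ'S.trans hSA)
      (le_normalizer_inf hAD (le_normalizer_centralizer hAD))))

end Cfsg.Agent.S1247
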