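import Cfsg.Statements.S1248
import Cfsg.Agent.Lib.Char.U3b

set_option autoImplicit false
open Cfsg

namespace Cfsg.Agent.S1248

open Cfsg.Agent.Char

/-- Let F be a field with 16 elements and S a Sylow 2-subgroup of PSU(3) over F (the unitary group U₃(4)). Then |S| = 64; the centre Z(S) is a Klein four-group and coincides with the subgroup generated by the involutions of S and with the derived subgroup; and every element of S ⧸ Z(S) squares to the identity, S ⧸ Z(S) having order 16. -/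
theorem result {F : Type*} [Field F] [Fintype F] (hF : Fintype.card F = 16) (S : Sylow 2 (Cfsg.PSU 3 F 4)) : Nat.card S = 64 ∧ IsKleinFour (Subgroup.center (S : Subgroup (Cfsg.PSU 3 F 4))) ∧ Subgroup.center (S : Subgroup (Cfsg.PSU 3 F 4)) = Subgroup.closure {x : (S : Subgroup (Cfsg.PSU 3 F 4)) | orderOf x = 2} ∧ Subgroup.center (S : Subgroup (Cfsg.PSU 3 F 4)) = commutator (S : Subgroup (Cfsg.PSU 3 F 4)) ∧ Nat.card ((S : Subgroup (Cfsg.PSU 3 F 4)) ⧸ Subgroup.center (S : Subgroup (Cfsg.PSU 3 F 4))) = 16 ∧ ∀ x : (S : Subgroup (Cfsg.PSU 3 F 4)) ⧸ Subgroup.center (S : Subgroup (Cfsg.PSU 3 F 4)), x ^ 2 = 1 := by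
  obtain ⟨h1, h2, h3⟩ : Nat.card (S : Subgroup (Cfsg.PSU 3 F 4)) = 64 ∧
      Nat.card (Subgroup.center (S : Subgroup (Cfsg.PSU 3 F 4))) = 4 ∧
      IsSuzukiTwoGroup (S : Subgroup (Cfsg.PSU 3 F 4)) :=
    RankOne.sylow_U (n := 2) le_rfl (by simpa using hF) S
  have hn := h3.2.2.1
  have := h3.1
  obtain ⟨K, h⟩ := Hig.hs_of h3
  have h4 := h.center_eq hn
  have h5 := Subgroup.card_eq_card_quotient_mul_card_subgroup (Subgroup.center (S : Subgroup (Cfsg.PSU 3 F 4)))
  refine ⟨h1, ⟨h2, ?_⟩, ?_, ?_, by rw [h1, h2] at h5; omega, fun x => ?_⟩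
  · have : Nontrivial (Subgroup.center (S : Subgroup (Cfsg.PSU 3 F 4))) :=
      Finite.one_lt_card_iff_nontrivial.1 (by omega)
    exact (Monoid.exponent_eq_prime_iff Nat.prime_two).2 fun x hx => Transfer.orderOf_eq_two
      (Subtype.ext (h.mem_Z.1 (h4 ▸ x.2))) hx
  · refine le_antisymm (fun x hx => ?_) ((Subgroup.closure_le _).2 fun x hx => h.central (by
      have h7 := pow_orderOf_eq_one x
      rwa [show orderOf x = 2 from hx, sq] at h7))
    by_cases e : x = 1
    · exact e ▸ one_mem _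
    · exact Subgroup.subset_closure (Transfer.orderOf_eq_two (h.mem_Z.1 (h4 ▸ hx)) e)
  · rw [h4]
    refine ((h.cov_Z.min _ (fun k x hx => ?_) bot_le (Subgroup.commutator_le.2 fun x _ y _ =>
      h.comm_mem_Z hn x y)).resolve_left fun e => ?_).symm
    · exact (Subgroup.characteristic_iff_map_le.1 inferInstance k.1) ⟨x, hx, rfl⟩
    · obtain ⟨x, y, h6⟩ := hn
      exact h6 (commutatorElement_eq_one_iff_mul_comm.1 (Subgroup.mem_bot.1 (e.le
        (Subgroup.commutator_mem_commutator trivial trivial))))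
  · obtain ⟨x, rfl⟩ := QuotientGroup.mk_surjective x
    rw [sq, ← QuotientGroup.mk_mul, QuotientGroup.eq_one_iff, h4]
    exact h.sq_mem_Z hn x

end Cfsg.Agent.S1248
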