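import Cfsg.Statements.S1249
import Cfsg.Agent.Lib.Transfer.Count

set_option autoImplicit false
open Cfsg

namespace Cfsg.Agent.S1249

set_option linter.unusedSectionVars false
set_option linter.unusedVariables false
set_option linter.style.haveILetI false
set_option linter.unusedSimpArgs false

open Subgroup Cfsg.Agent.Transfer

/-- Let P and Q be Sylow p-subgroups of the finite group G both containing the subgroup A. If A is strongly closed in P, then A is strongly closed in Q. -/
theorem result {G : Type*} [Group G] [Finite G] {p : ℕ} [Fact p.Prime] (P Q : Sylow p G) (A : Subgroup G) (hAQ : A ≤ Q) (hA : Cfsg.IsStronglyClosed A (P : Subgroup G)) : Cfsg.IsStronglyClosed A (Q : Subgroup G) := by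
  obtain ⟨h, hh⟩ := exists_cj_sylow_eq Q P
  have h1 : h ∈ normalizer (A : Set G) := mem_normalizer_of_conj_mem fun x hx =>
    hA.2 x hx h (hh ▸ conj_mem_cj (hAQ hx))
  refine ⟨hAQ, fun x hx g hg => ?_⟩
  have := hA.2 x hx (h * g) (by
    rw [← hh, show h * g * x * (h * g)⁻¹ = h * (g * x * g⁻¹) * h⁻¹ by group]
    exact conj_mem_cj hg)
  have := inv_conj_mem_of_mem_normalizer h1 this
  rwa [show h⁻¹ * (h * g * x * (h * g)⁻¹) * h = g * x * g⁻¹ by group] at this

end Cfsg.Agent.S1249
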