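import Cfsg.Statements.S1250
import Cfsg.Agent.Lib.Transfer.Count

set_option autoImplicit false
open Cfsg

namespace Cfsg.Agent.S1250

set_option linter.unusedSectionVars false
set_option linter.unusedVariables false
set_option linter.style.haveILetI false
set_option linter.unusedSimpArgs false

open Subgroup Cfsg.Agent.Transfer

/-- Let S be a Sylow p-subgroup of the finite group G, A ≤ S strongly closed in S, and N a normal subgroup. Then the image of A in G ⧸ N is strongly closed in the image of S (which is a Sylow p-subgroup of G ⧸ N). -/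
theorem result {G : Type*} [Group G] [Finite G] {p : ℕ} [Fact p.Prime] (S : Sylow p G) (A : Subgroup G) (hA : Cfsg.IsStronglyClosed A (S : Subgroup G)) (N : Subgroup G) [N.Normal] : Cfsg.IsStronglyClosed (A.map (QuotientGroup.mk' N)) ((S : Subgroup G).map (QuotientGroup.mk' N)) := by
  refine ⟨map_mono hA.1, ?_⟩
  rintro _ ⟨x, hx, rfl⟩ g ⟨s, hs, he⟩
  obtain ⟨g, rfl⟩ := QuotientGroup.mk_surjective g
  have h1 : g * x * g⁻¹ ∈ (S : Subgroup G) ⊔ N := by
    have : s⁻¹ * (g * x * g⁻¹) ∈ N := QuotientGroup.eq.1 he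
    simpa using mul_mem (mem_sup_left hs) (mem_sup_right this : _ ∈ (S : Subgroup G) ⊔ N)
  have h2 : IsSyl p (S : Subgroup G) (S ⊔ N) := (isSyl_top S).mono le_sup_left le_top
  obtain ⟨k, hk, hle⟩ := h2.exists_cj_le (Q := zpowers (g * x * g⁻¹))
    (by rw [← cj_zpowers]; exact IsPGroup.cj (S.2.to_le (zpowers_le.2 (hA.1 hx))) g) (zpowers_le.2 h1)
  obtain ⟨a, ha, n, hn, rfl⟩ := (mem_sup_iff_of_le_normalizer (by rw [normalizer_eq_top]; exact le_top)).1 hk
  have h3 := hle (conj_mem_cj (mem_zpowers _))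
  have h4 : n * g * x * (n * g)⁻¹ ∈ (S : Subgroup G) := by
    have := mul_mem (mul_mem (inv_mem ha) h3) ha
    rwa [show a⁻¹ * (a * n * (g * x * g⁻¹) * (a * n)⁻¹) * a = n * g * x * (n * g)⁻¹ by group] at this
  refine ⟨_, hA.2 x hx _ h4, ?_⟩
  simp [(QuotientGroup.eq_one_iff n).2 hn]

end Cfsg.Agent.S1250
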