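import Cfsg.Statements.S1251
import Cfsg.Agent.Lib.Transfer.AutS2

set_option autoImplicit false
open Cfsg

namespace Cfsg.Agent.S1251

set_option linter.unusedSectionVars false
set_option linter.unusedVariables false
set_option linter.style.haveILetI false
set_option linter.unusedSimpArgs false

open Subgroup Transfer MS

/-- Let S be a Sylow 2-subgroup of the finite group G and A ≤ S strongly closed in S. If H is a subgroup normalized by A with no nontrivial normal subgroup of odd order and A ∩ H = 1, then A ≤ C_G(H). -/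
theorem result {G : Type*} [Group G] [Finite G] (S : Sylow 2 G) (A : Subgroup G) (hA : Cfsg.IsStronglyClosed A (S : Subgroup G)) (H : Subgroup G) (hAH : A ≤ Subgroup.normalizer (H : Set G)) (hO : Cfsg.oddCore ↥H = ⊥) (hdisj : A ⊓ H = ⊥) : A ≤ Subgroup.centralizer (H : Set G) := by
  intro a ha
  have hA2 : IsPGroup 2 A := S.isPGroup'.to_le hA.1
  have h0 : zpowers a ≤ A := zpowers_le.2 ha
  have h0' : zpowers a ≤ NN H := h0.trans hAH
  obtain ⟨T, hT, hAT⟩ := exists_isSyl_ge (H := H ⊔ A) hA2 le_sup_right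
  obtain ⟨g, hg⟩ := exists_cj_le_sylow S hT.pgroup
  have hgA : cj g A = A := eq_of_card_le (fun x hx => by
    obtain ⟨y, hy, rfl⟩ := hx
    exact hA.2 y hy g (hg (conj_mem_cj (hAT hy)))) (card_cj g A).ge
  obtain ⟨n, hn⟩ := BG.relIndex_eq_pow hA2 H
  have hr : res 2 (H ⊔ A) ≤ H := res_le_of_relIndex (sup_le (le_nn H) hAH) ((relIndex_sup_l hAH).trans hn)
  refine cc_anti le_sup_left (le_C1_iff.1 ?_ : a ∈ CC (H ⊔ ⊥))
  rw [sup_bot_eq]
  have hT1 := hT.inf_of_le_normalizer (K := H) le_sup_left (sup_le (le_nn H) hAH)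
  obtain ⟨h1, h2, h3⟩ := isSyl_sup hT1 (hA2.to_le h0) (nn_inf (nn_of_le (h0.trans hAT)) h0') h0'
  refine le_trans le_sup_left (le_C1_iff.2 (zstar_sub_cc h1 (mem_sup_right (mem_zpowers a))
    (O_eq_bot_of_res le_sup_left h3 (O_odd_eq_bot_iff.2 hO)) fun k hk hka => ?_))
  have h4 : k * a * k⁻¹ ∈ A := by
    have h5 := hg (conj_mem_cj ((sup_le inf_le_left (h0.trans hAT) : _ ≤ T) hka))
    have h6 := hA.2 a ha (g * k) (by convert h5 using 1; group)
    rw [← hgA, ← conj_mem_cj_iff (g := g⁻¹), cj_inv_cj] at h6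
    convert h6 using 1; group
  have h5 : k * a * k⁻¹ * a⁻¹ ∈ H := by
    obtain ⟨x, hx, y, hy, rfl⟩ := (mem_sup_l h0').1 hk
    have h6 := conj_eq_of_C1 (zpowers_le.2 (self_mem_C1 a) hy)
    have h7 := mul_mem hx (conj_mem_of_mem_normalizer (hAH ha) (inv_mem hx))
    have : x * y * a * (x * y)⁻¹ * a⁻¹ = x * (y * a * y⁻¹) * x⁻¹ * a⁻¹ := by group
    rw [this, h6]
    convert h7 using 1; group
  exact mul_inv_eq_one.1 (eq_one_of_inf hdisj (mul_mem h4 (inv_mem ha)) h5)

end Cfsg.Agent.S1251
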