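import Cfsg.Statements.S1253
import Cfsg.Agent.Lib.Ez.A1

set_option autoImplicit false
open Cfsg

namespace Cfsg.Agent.S1253

/-- Let z be an isolated involution of the finite group G with centralizer C, p an odd prime and P a Sylow p-subgroup of G normalized by z. Then P ∩ C has p-power-free index in C (it is a Sylow p-subgroup of C), and |P : C_P(z)| equals the number of elements x ∈ P with z x z⁻¹ = x⁻¹. -/
theorem result {G : Type*} [Group G] [Finite G] (z : G) (hz : Cfsg.IsIsolatedInvolution z) {p : ℕ} [Fact p.Prime] (hp : p ≠ 2) (P : Sylow p G) (hzP : z ∈ Subgroup.normalizer ((P : Subgroup G) : Set G)) : ¬ p ∣ ((P : Subgroup G) ⊓ Subgroup.centralizer ({z} : Set G)).relIndex (Subgroup.centralizer ({z} : Set G)) ∧ ((P : Subgroup G) ⊓ Subgroup.centralizer ({z} : Set G)).relIndex (P : Subgroup G) = Nat.card {x : G // x ∈ P ∧ z * x * z⁻¹ = x⁻¹} := by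
  have hz2 : z * z = 1 := by rw [← pow_two, ← hz.1, pow_orderOf_eq_one]
  have hPo : Odd (Nat.card (P : Subgroup G)) := BG.odd_of_isPGroup hp P.isPGroup'
  constructor
  · set K : Subgroup G := (P : Subgroup G) ⊔ oddCore G with hK
    have hn : ∀ X : Subgroup G, X ≤ Subgroup.normalizer (oddCore G : Set G) := fun X => by
      simp [Subgroup.normalizer_eq_top]
    have hKo : (Nat.card K).Coprime 2 := Comp.coprime_sup (hn _)
      (Nat.coprime_two_right.2 hPo) (Nat.coprime_two_right.2 Transfer.odd_card_oddCore)
    have hzP' : Subgroup.zpowers z ≤ Subgroup.normalizer ((P : Subgroup G) : Set G) := by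
      simpa using hzP
    have h1 := (Comp.sylIn_of_sylow_le P (M := K) le_sup_left).inf_centralizer_of_invariant
      (A := Subgroup.zpowers z) (Comp.le_normalizer_sup hzP' (hn _))
      (by rw [Nat.card_zpowers, hz.1]; exact hKo.symm)
      (Or.inl (Comp.isSolvable_of_le_centralizer (by
        rw [Comp.centralizer_zpowers]; exact Comp.zpowers_le_centralizer_singleton z))) hzP'
    rw [Comp.centralizer_zpowers] at h1
    refine (h1.trans_of_not_dvd inf_le_right ?_).not_dvd_relIndex
    rw [Subgroup.inf_relIndex_right,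
      Ez.relIndex_eq_index_of_sup (Transfer.zstar_sup hz) le_sup_right]
    exact fun h => P.not_dvd_index (h.trans (Subgroup.index_dvd_of_le le_sup_left))
  · have h1 := Ez.card_eq_cent_mul_inv hPo hz2 hzP
    have h2 := Comp.relIndex_mul_card (K := (P : Subgroup G) ⊓ Subgroup.centralizer ({z} : Set G))
      (M := P) inf_le_left
    exact Nat.eq_of_mul_eq_mul_right Nat.card_pos (h2.trans h1.symm)

end Cfsg.Agent.S1253
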