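import Cfsg.Statements.S1254
import Cfsg.Agent.Lib.Transfer.Dih

set_option autoImplicit false
open Cfsg

namespace Cfsg.Agent.S1254

set_option linter.unusedSectionVars false
set_option linter.unusedVariables false
set_option linter.style.haveILetI false
set_option linter.unusedSimpArgs false

open Subgroup Transfer MS

/-- Let X be a finite group whose Sylow 2-subgroup S is dihedral (of order at least 4). Then X has a normal 2-complement if and only if, for every Klein four-subgroup U ≤ S, the normalizer N_X(U) is generated by C_X(U) and N_S(U). -/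
theorem result {X : Type*} [Group X] [Finite X] (S : Sylow 2 X) (m : ℕ) (hm : 2 ≤ m) (eS : (S : Subgroup X) ≃* DihedralGroup m) : Cfsg.HasNormalPComplement 2 X ↔ ∀ U : Subgroup X, U ≤ S → IsKleinFour U → Subgroup.normalizer (U : Set X) = Subgroup.centralizer (U : Set X) ⊔ ((S : Subgroup X) ⊓ Subgroup.normalizer (U : Set X)) := by
  obtain ⟨a, b, n, h⟩ := dh_of S.isPGroup' hm eS
  refine ⟨fun h1 U hU _ => npc_nn h1 S hU, fun h1 => npc_ess S fun B hB _ he => ?_⟩
  obtain ⟨g, h2, h3, h4⟩ := id he
  rw [h1 B hB (h.ess' hB he), sup_comm] at h2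
  exact h4 (odd_mem_cc (S.isPGroup'.to_le inf_le_left) (nn_cc inf_le_right) h3 h2)

end Cfsg.Agent.S1254
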