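import Cfsg.Statements.S1255
import Cfsg.Agent.Lib.Transfer.Dih

set_option autoImplicit false
open Cfsg

namespace Cfsg.Agent.S1255

set_option linter.unusedSectionVars false
set_option linter.unusedVariables false
set_option linter.style.haveILetI false
set_option linter.unusedSimpArgs false

open Subgroup Transfer MS

/-- Let X be a finite group whose Sylow 2-subgroup S is dihedral of order 2m ≥ 4. Then X has no subgroup of index 2 and no isolated involution if and only if either all involutions of X are conjugate, or for every Klein four-subgroup U ≤ S the index |N_X(U) : C_X(U)| equals 3 when |S| = 4 and equals 6 when |S| > 4. -/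
theorem result {X : Type*} [Group X] [Finite X] (S : Sylow 2 X) (m : ℕ) (hm : 2 ≤ m) (eS : (S : Subgroup X) ≃* DihedralGroup m) : ((∀ H : Subgroup X, H.index ≠ 2) ∧ (∀ z : X, ¬ Cfsg.IsIsolatedInvolution z)) ↔ ((∀ a b : X, orderOf a = 2 → orderOf b = 2 → IsConj a b) ∨ (∀ U : Subgroup X, U ≤ S → IsKleinFour U → (Subgroup.centralizer (U : Set X)).relIndex (Subgroup.normalizer (U : Set X)) = (if Nat.card S = 4 then 3 else 6))) := by
  obtain ⟨a, b, n, h⟩ := dh_of S.isPGroup' hm eS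
  have key : ∀ a b : X, Ess (Xk a n b) → Ess (Xk a n (a * b)) → DH (S : Subgroup X) a b n →
      ∀ s t : X, orderOf s = 2 → orderOf t = 2 → IsConj s t := fun a b h1 h2 h s t hs ht =>
    (h.isConj_z h1 h2 hs).symm.trans (h.isConj_z h1 h2 ht)
  refine ⟨fun h1 => .inl ?_, fun h1 => ?_⟩
  · have h2 := pResidual_two_eq_top_iff.2 h1.1
    exact key a b (h.ess_of_res (h2 ▸ mem_top _)) (h.dh'.ess_of_res (h2 ▸ mem_top _)) h
  have h2 : ∀ b, DH (S : Subgroup X) a b n → Ess (Xk a n b) := fun b h => h1.elim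
    (fun h1 => h.ess_of_conj (h1 _ _ h.ord_z h.ord_b)) fun h1 =>
      exists_odd_of_relIndex (by rw [h1 _ (h.X_le n) h.kl]; split_ifs <;> decide)
  refine ⟨no_two_of_le S (h.le_res (h2 b h) (h2 _ h.dh')), fun z ⟨h3, h4⟩ => ?_⟩
  obtain ⟨g, rfl⟩ := isConj_iff.1 (h.isConj_z (h2 b h) (h2 _ h.dh') h3)
  obtain ⟨c, e⟩ := isConj_iff.1 (h.isConj_zb (h2 b h))
  have h5 := h4 (g * c * g⁻¹)
  rw [show g * c * g⁻¹ * (g * a ^ 2 ^ n * g⁻¹) * (g * c * g⁻¹)⁻¹ = g * (c * a ^ 2 ^ n * c⁻¹) * g⁻¹ by group, e] at h5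
  have h6 := h5 (Commute.conj (h.z_cent b h.mem_b).symm g)
  rw [mul_left_inj, mul_right_inj] at h6
  exact h.notMem (h6 ▸ h.z_mem)

end Cfsg.Agent.S1255
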