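import Cfsg.Statements.S1256
import Cfsg.Agent.Lib.Transfer.Dih

set_option autoImplicit false
open Cfsg

namespace Cfsg.Agent.S1256

set_option linter.unusedSectionVars false
set_option linter.unusedVariables false
set_option linter.style.haveILetI false
set_option linter.unusedSimpArgs false

open Subgroup Transfer MS

/-- Let X be a finite group whose Sylow 2-subgroup S is dihedral of order 2m ≥ 4. If |S| = 4, any two Klein four-subgroups of X are conjugate; if |S| > 4, there are Klein four-subgroups U₁, U₂ of X that are not conjugate, and every Klein four-subgroup of X is conjugate to U₁ or to U₂. -/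
theorem result {X : Type*} [Group X] [Finite X] (S : Sylow 2 X) (m : ℕ) (hm : 2 ≤ m) (eS : (S : Subgroup X) ≃* DihedralGroup m) : (Nat.card S = 4 → ∀ U V : Subgroup X, IsKleinFour U → IsKleinFour V → (∃ x : X, U.map (MulAut.conj x).toMonoidHom = V)) ∧ (4 < Nat.card S → ∃ U₁ U₂ : Subgroup X, IsKleinFour U₁ ∧ IsKleinFour U₂ ∧ ¬ (∃ x : X, U₁.map (MulAut.conj x).toMonoidHom = U₂) ∧ ∀ V : Subgroup X, IsKleinFour V → (∃ x : X, V.map (MulAut.conj x).toMonoidHom = U₁) ∨ (∃ x : X, V.map (MulAut.conj x).toMonoidHom = U₂)) := by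
  obtain ⟨a, b, n, h⟩ := dh_of S.isPGroup' hm eS
  refine ⟨fun h1 U V hU hV => ?_, fun h1 => ⟨_, _, h.kl, h.dh'.kl, fun ⟨g, e⟩ => h.not_conj_X ?_ g e,
    fun V hV => h.klein_conj hV⟩⟩
  · have key : ∀ V : Subgroup X, IsKleinFour V → ∃ g, cj g V = S := fun V hV => by
      obtain ⟨g, hg⟩ := exists_cj_le_sylow S (IsPGroup.of_card (n := 2) hV.card_four)
      exact ⟨g, eq_of_card_le hg (by rw [card_cj, hV.card_four, h1])⟩
    obtain ⟨g, h2⟩ := key U hU
    obtain ⟨k, h3⟩ := key V hV
    exact ⟨k⁻¹ * g, by rw [← cj, ← cj_cj, h2, ← h3, cj_inv_cj]⟩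
  · rw [h.card] at h1
    rcases n with _ | n <;> simp at h1 ⊢

end Cfsg.Agent.S1256
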