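import Cfsg.Statements.S1258
import Cfsg.Agent.Lib.Comp.Comp

set_option autoImplicit false
open Cfsg

namespace Cfsg.Agent.S1258

open Cfsg.Agent.Comp Subgroup

/-- If the central quotient of a finite group X is non-abelian simple, then X = X' Z(X) and the commutator subgroup X' is quasisimple. -/
theorem result {X : Type*} [Group X] [Finite X] (hs : IsSimpleGroup (X ⧸ Subgroup.center X)) (hna : ¬ IsMulCommutative (X ⧸ Subgroup.center X)) : commutator X ⊔ Subgroup.center X = ⊤ ∧ Cfsg.IsQuasisimple ↥(commutator X) := by
  have hc : (center X : Subgroup X) ≤ centralizer ((⊤ : Subgroup X) : Set X) := by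
    rw [coe_top, centralizer_univ]
  have hs' := QuotientGroup.mk'_surjective (center X)
  obtain ⟨h1, h2⟩ := qs_commutator_of_chief (X := ⊤) (Z := center X) le_top hc (fun N a _ c => by
    have hn : N.Normal := normal_iff_top_le_normalizer.2 c
    rcases (hn.map _ hs').eq_bot_or_eq_top with e | e
    · left
      rw [Subgroup.map_eq_bot_iff, QuotientGroup.ker_mk'] at e
      exact le_antisymm e a
    · right
      have := congrArg (comap (QuotientGroup.mk' (center X))) e
      rwa [comap_map_eq, QuotientGroup.ker_mk', comap_top, sup_eq_left.2 a] at this) (fun h => hna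
        (Subgroup.Normal.quotient_commutative_iff_commutator_le.2 h))
  exact ⟨h2, h1.isQuasisimple⟩

end Cfsg.Agent.S1258
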