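import Cfsg.Statements.S1264
import Cfsg.Agent.Lib.Comp.Comp

set_option autoImplicit false
open Cfsg

namespace Cfsg.Agent.S1264

open Cfsg.Agent.Comp Subgroup

/-- Let G be finite, C = C_G(F(G)) the centralizer of the Fitting subgroup, and N a solvable subgroup of C normalized by C. Then N ≤ Z(F(G)). -/
theorem result {G : Type*} [Group G] [Finite G] (N : Subgroup G) (hN : N ≤ Subgroup.centralizer (Cfsg.fittingSubgroup G : Set G)) (hnorm : Subgroup.centralizer (Cfsg.fittingSubgroup G : Set G) ≤ Subgroup.normalizer (N : Set G)) (hsolv : Group.IsSolvable ↥N) : N ≤ (Subgroup.center ↥(Cfsg.fittingSubgroup G)).map (Cfsg.fittingSubgroup G).subtype := by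
  rw [map_center_subtype]
  refine le_inf ?_ hN
  have h1 : SubnIn N ⊤ := (SubnIn.of_normalizer hN hnorm).trans (SubnIn.of_normal _)
  have h2 : N ≤ centralizer (Lay (⊤ : Subgroup G) : Set G) :=
    (h1.le_Sol hsolv).trans (Sol_le_centralizer_Lay ⊤)
  rw [← Fit_top] at hN ⊢
  refine le_Fit_of_le_centralizer_Fstar le_top ?_
  rw [Fstar, centralizer_sup]
  exact le_inf h2 hN

end Cfsg.Agent.S1264
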