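import Cfsg.Statements.S1267
import Cfsg.Agent.Lib.Comp.Bal

set_option autoImplicit false
open Cfsg

namespace Cfsg.Agent.S1267

open Cfsg.Agent.Comp Subgroup

/-- Let G be finite and P ≤ O_p(G). Then E(N_G(P)) = E(G). -/
theorem result {G : Type*} [Group G] [Finite G] (p : ℕ) [Fact p.Prime] (P : Subgroup G) (hP : P ≤ Cfsg.pCore p G) : (Cfsg.layer ↥(Subgroup.normalizer ((P : Subgroup G) : Set G))).map (Subgroup.normalizer ((P : Subgroup G) : Set G)).subtype = Cfsg.layer G := by
  rw [map_layer, ← Lay_top]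
  rw [← Op_top] at hP
  have hC : centralizer (Op p (⊤ : Subgroup G) : Set G) ≤ normalizer (P : Set G) :=
    le_normalizer_of_le_centralizer (centralizer_mono hP)
  refine le_antisymm ?_ (Lay_le_Lay_of_le
    ((le_centralizer_iff.1 (Op_le_centralizer_Lay p ⊤)).trans hC) le_top)
  refine (Lay_le_Lay_of_le ?_ hC).trans (Lay_mono_subnIn (SubnIn.of_normal _))
  exact (Lay_le_PLay_sup_Opp _).trans (PLay_sup_Opp_le_centralizer_Op
    ((isPGroup_Op p ⊤).to_le hP) le_normalizer
    (inf_le_right.trans (centralizer_le_normalizer _)) le_top le_rfl)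

end Cfsg.Agent.S1267
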