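import Cfsg.Statements.S1271
import Cfsg.Agent.Lib.Comp.Bal

set_option autoImplicit false
open Cfsg

namespace Cfsg.Agent.S1271

open Cfsg.Agent.Comp Subgroup
open scoped commutatorElement

/-- Let G be finite with O_{p'}(G) = 1. Suppose that for every component L of G and every subgroup H ≥ L in which L is normal, the quotient H / C_H(L) is balanced for the prime p. Then G is balanced for p. -/
theorem result {G : Type*} [Group G] [Finite G] (p : ℕ) [Fact p.Prime] (hO : Cfsg.pPrimeCore p G = ⊥) (h : ∀ L : Subgroup G, Cfsg.IsComponent L → ∀ H : Subgroup G, L ≤ H → (L.subgroupOf H).Normal → ∀ [((Subgroup.centralizer (L : Set G)).subgroupOf H).Normal], Cfsg.IsBalancedFor p (↥H ⧸ (Subgroup.centralizer (L : Set G)).subgroupOf H)) : Cfsg.IsBalancedFor p G := by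
  intro x hx
  rw [hO, le_bot_iff, centralizerPPrimeCore_eq]
  have hO' : Opp p (⊤ : Subgroup G) = ⊥ := (Opp_top p).trans hO
  have hxp := isPGroup_zpowers_of_orderOf_eq hx
  set X := Opp p (centralizer ({x} : Set G)) with hX
  have hXe : X = Opp p (⊤ ⊓ centralizer ({x} : Set G)) := by rw [top_inf_eq]
  refine eq_bot_of_isPGroup_of_coprime (p := p) ((isPGroup_Op p ⊤).to_le ?_) (coprime_Opp p _)
  rw [← Fit_eq_Op hO']
  refine le_Fit_of_le_centralizer_Fstar le_top (le_centralizer_sup ?_ ?_)
  swap
  · rw [Fit_eq_Op hO', hXe]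
    exact le_sup_right.trans (PLay_sup_Opp_centralizer_le_centralizer_Op (mem_top x) hxp)
  refine le_centralizer_sSup.2 fun L (hL : CompIn L ⊤) => ?_
  by_cases hne : ⁅L, zpowers x⁆ = L
  swap
  · rw [hXe]; exact hL.Opp_centralizer_le_centralizer hO' (mem_top x) hx hne
  have hxL : zpowers x ≤ normalizer (L : Set G) := le_normalizer_iff_commutator_le_left.2 hne.le
  set P := zpowers x ⊔ Op p ⊤ with hP
  have hPp : IsPGroup p P := hxp.to_sup_of_normal_right (isPGroup_Op p ⊤)
  set X1 := Opp p (⊤ ⊓ normalizer (P : Set G)) with hX1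
  have hXX1 : X ≤ X1 := by
    have h1 : X ≤ centralizer (P : Set G) := le_centralizer_sup
      (by rw [centralizer_zpowers]; exact Opp_le p _) (hXe ▸ le_sup_right.trans
        (PLay_sup_Opp_centralizer_le_centralizer_Op (mem_top x) hxp))
    refine (Opp_le_Opp (K := centralizer (P : Set G)) ?_ h1).trans (SubnIn.Opp_le ?_ p)
    · rw [← centralizer_zpowers]; exact centralizer_mono le_sup_left
    · exact SubnIn.of_normalizer (le_inf le_top (centralizer_le_normalizer _))
        (le_normalizer_centralizer inf_le_right)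
  refine hXX1.trans ?_
  have hX1L : X1 ≤ normalizer (L : Set G) :=
    le_sup_right.trans (hL.PLay_sup_Opp_le_normalizer_aux hO' hPp le_top le_sup_right)
  have hX1x : X1 ≤ centralizer ({x} : Set G) := by
    rw [← centralizer_zpowers]
    exact (le_centralizer_iff.1 (Op_le_centralizer_Opp p _)).trans (centralizer_mono
      (le_sup_left.trans (le_Op (le_inf le_top le_normalizer) inf_le_right hPp)))
  set H := L ⊔ (zpowers x ⊔ X1) with hH
  have hHL : H ≤ normalizer (L : Set G) := sup_le le_normalizer (sup_le hxL hX1L)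
  have hn : ((centralizer (L : Set G)).subgroupOf H).Normal :=
    normal_subgroupOf_of_le_normalizer (le_normalizer_centralizer hHL)
  have hb := h L (compIn_top_iff.1 hL) H le_sup_left (normal_subgroupOf_of_le_normalizer hHL)
  set f := QuotientGroup.mk' ((centralizer (L : Set G)).subgroupOf H) with hf
  have hfs : Function.Surjective f := QuotientGroup.mk'_surjective _
  have hker : ∀ a : H, f a = 1 ↔ (a : G) ∈ centralizer (L : Set G) := fun a => by
    rw [← MonoidHom.mem_ker, QuotientGroup.ker_mk', mem_subgroupOf]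
  have hxH : x ∈ H := mem_sup_right (mem_sup_left (mem_zpowers x))
  have hX1H : X1 ≤ H := le_sup_right.trans le_sup_right
  have hord : orderOf (f ⟨x, hxH⟩) = p := by
    have h1 : orderOf (f ⟨x, hxH⟩) ∣ p := by
      rw [← hx, ← orderOf_mk x hxH]; exact orderOf_map_dvd _ _
    refine ((Nat.dvd_prime Fact.out).1 h1).resolve_left fun e => ?_
    rw [orderOf_eq_one_iff, hker] at e
    apply hL.qs.ne_bot
    rw [← hne, commutator_eq_bot_iff']
    exact zpowers_le.2 e
  have h1 : (X1.subgroupOf H).map f ≤ Opp p (centralizer {f ⟨x, hxH⟩}) := by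
    refine le_Opp ?_ (fun a ha => ?_) (coprime_map f (by
      rw [card_subgroupOf hX1H]; exact coprime_Opp p _))
    · rintro _ ⟨a, ha, rfl⟩
      rw [mem_centralizer_singleton_iff, ← map_mul, ← map_mul]
      congr 1
      exact Subtype.ext (mem_centralizer_singleton_iff.1 (hX1x ha))
    · obtain ⟨⟨a, haH⟩, rfl⟩ := hfs a
      refine le_normalizer_map f ⟨⟨a, haH⟩, ?_, rfl⟩
      rw [← subgroupOf_normalizer_eq hX1H]
      change a ∈ normalizer (X1 : Set G)
      refine le_normalizer_Opp_of_le le_rfl (⟨mem_top a, ?_⟩ : a ∈ ⊤ ⊓ normalizer (P : Set G))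
      obtain ⟨l, hl, u, hu, rfl⟩ := (mem_sup_of_le_normalizer' (sup_le hxL hX1L)).1 haH
      have hux : u ∈ centralizer ({x} : Set G) :=
        (sup_le (zpowers_le_centralizer_singleton x) hX1x) hu
      refine mul_mem ?_ ((sup_le (le_sup_left.trans le_normalizer)
        ((Opp_le p _).trans inf_le_right)) hu)
      have h2 : ⁅l * u, x⁆ ∈ centralizer (L : Set G) := by
        have := (hker ⁅(⟨l * u, haH⟩ : H), ⟨x, hxH⟩⁆).1 (by
          rw [map_commutatorElement, commutatorElement_eq_one_iff_mul_comm]
          exact mem_centralizer_singleton_iff.1 ha)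
        exact this
      have h3 : ⁅l * u, x⁆ = ⁅l, x⁆ := by
        have := mem_centralizer_singleton_iff.1 hux
        simp only [commutatorElement_def, mul_inv_rev]
        rw [mul_assoc l, this]; group
      have h4 : ⁅l, x⁆ ∈ Op p (⊤ : Subgroup G) := by
        rw [← Fit_eq_Op hO']
        exact ((center_le_Fit L).trans hL.subn.Fit_le)
          ⟨hne.le (commutator_mem_commutator hl (mem_zpowers x)), h3 ▸ h2⟩
      refine mem_normalizer_of_conj_mem fun k hk => cj_le_iff'.1 ?_ k hk
      rw [hP, cj_sup, cj_zpowers, cj_eq_self_of_normal]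
      refine sup_le (zpowers_le.2 ?_) le_sup_right
      have : l * x * l⁻¹ = ⁅l, x⁆ * x := by rw [commutatorElement_def]; group
      rw [this]
      exact mul_mem (mem_sup_right h4) (mem_sup_left (mem_zpowers x))
  have h2 := h1.trans (hb _ hord)
  have hLH : CompIn (L.subgroupOf H) ⊤ :=
    compIn_top_iff.2 (compIn_iff.1 (hL.of_le le_sup_left le_top)).2
  rcases hLH.le_or_le_centralizer (SubnIn.of_normal ((pPrimeCore p _).comap f)) with e | e
  · exfalso
    have h3 : Resp p (L.subgroupOf H) = L.subgroupOf H := map_injective H.subtype_injective (by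
      rw [map_Resp, map_subgroupOf_eq_of_le le_sup_left, hL.Resp_eq hO'])
    have h4 : (L.subgroupOf H).map f = ⊥ := by
      rw [← h3, map_Resp, Resp_eq_bot_iff]
      exact coprime_of_le (coprime_pPrimeCore p) (map_le_iff_le_comap.2 e)
    rw [Subgroup.map_eq_bot_iff, QuotientGroup.ker_mk'] at h4
    exact hL.qs.not_le_centralizer fun l hl => h4 (show (⟨l, mem_sup_left hl⟩ : H) ∈ _ from hl)
  · intro a ha l hl
    exact congrArg Subtype.val (e (map_le_iff_le_comap.1 h2
      (show (⟨a, hX1H ha⟩ : H) ∈ X1.subgroupOf H from ha)) ⟨l, mem_sup_left hl⟩ hl)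

end Cfsg.Agent.S1271
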