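import Cfsg.Statements.S1272
import Cfsg.Agent.Lib.Comp.Bal

set_option autoImplicit false
open Cfsg

namespace Cfsg.Agent.S1272

open Cfsg.Agent.Comp Subgroup

/-- Let X be finite and Q = X / O_{p'}(X). For every component Kbar of Q there is a unique p-component K of X whose image in Q is Kbar; and the image of the p-layer L_{p'}(X) in Q is E(Q). -/
theorem result {X : Type*} [Group X] [Finite X] (p : ℕ) [Fact p.Prime] : (∀ Kbar : Subgroup (X ⧸ Cfsg.pPrimeCore p X), Cfsg.IsComponent Kbar → ∃! K : Subgroup X, Cfsg.IsPComponent p K ∧ K.map (QuotientGroup.mk' (Cfsg.pPrimeCore p X)) = Kbar) ∧ (Cfsg.pLayer p X).map (QuotientGroup.mk' (Cfsg.pPrimeCore p X)) = Cfsg.layer (X ⧸ Cfsg.pPrimeCore p X) := by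
  refine ⟨fun Kbar hK => ?_, map_pLayer_mk⟩
  have hk := top_inf_ker_mk_pPrimeCore (G := X) (p := p)
  have hb : PCompIn p Kbar ((⊤ : Subgroup X).map (QuotientGroup.mk' (pPrimeCore p X))) :=
    CompIn.pCompIn_of_Opp_eq_bot (by rw [map_top_mk]; exact compIn_top_iff.2 hK)
      (Opp_map_eq_bot _ hk)
  obtain ⟨h1, h2⟩ := exists_pCompIn_map_eq _ (hk ▸ coprime_Opp p ⊤) hb
  refine ⟨_, ⟨pCompIn_top_iff.1 h1, h2⟩, fun K ⟨a, b⟩ => ?_⟩
  refine (pCompIn_top_iff.2 a).eq_of_sup_Opp_eq h1 ?_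
  have := congrArg (comap (QuotientGroup.mk' (pPrimeCore p X))) (b.trans h2.symm)
  rw [comap_map_eq, comap_map_eq, QuotientGroup.ker_mk'] at this
  rwa [Opp_top]

end Cfsg.Agent.S1272
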