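import Cfsg.Statements.S1273
import Cfsg.Agent.Lib.Comp.Bal

set_option autoImplicit false
open Cfsg

namespace Cfsg.Agent.S1273

open Cfsg.Agent.Comp Subgroup

/-- Let K be a p-component of the finite group X and N a normal subgroup of K whose index in K is prime to p. Then N = K. -/
theorem result {X : Type*} [Group X] [Finite X] (p : ℕ) [Fact p.Prime] (K : Subgroup X) (hK : Cfsg.IsPComponent p K) (N : Subgroup ↥K) [N.Normal] (hidx : (N.index).Coprime p) : N = ⊤ := by
  have h := (pCompIn_top_iff.2 hK).pqs.resp
  have h2 : Resp p (⊤ : Subgroup K) = ⊤ :=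
    map_injective K.subtype_injective (by rw [map_Resp, map_subtype_top, h])
  exact top_le_iff.1 (h2.ge.trans ((SubnIn.of_normal N).Resp_le (by rwa [relIndex_top_right])))

end Cfsg.Agent.S1273
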