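import Cfsg.Statements.S1277
import Cfsg.Agent.Lib.Comp.Bal

set_option autoImplicit false
open Cfsg

namespace Cfsg.Agent.S1277

open Cfsg.Agent.Comp Subgroup

/-- For a finite group X with core O(X): the image of E(X) in X / O(X) is all of E(X / O(X)) if and only if every 2-component of X is a component, i.e. L_{2'}(X) ≤ E(X). -/
theorem result {X : Type*} [Group X] [Finite X] : (Cfsg.layer X).map (QuotientGroup.mk' (Cfsg.oddCore X)) = Cfsg.layer (X ⧸ Cfsg.oddCore X) ↔ Cfsg.pLayer 2 X ≤ Cfsg.layer X := by
  constructor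
  · intro h
    rw [← map_pLayer_mk] at h
    have := Subgroup.map_le_map_iff.1 h.ge
    rw [QuotientGroup.ker_mk', ← PLay_top, ← Lay_top] at this
    rw [← PLay_top, ← Lay_top]
    exact (Resp_PLay ⊤).ge.trans ((ResPi_mono this).trans (Resp_sup_le'
      (le_normalizer_Lay (le_top.trans le_normalizer)) (coprime_pPrimeCore 2)))
  · intro h
    refine le_antisymm ?_ (by rw [← map_pLayer_mk]; exact map_mono h)
    rw [← Lay_top, ← Lay_top, ← map_top_mk]
    exact map_Lay_le _ _

end Cfsg.Agent.S1277
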