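import Cfsg.Statements.S1279
import Cfsg.Agent.Lib.Comp.Sig

set_option autoImplicit false
open Cfsg

namespace Cfsg.Agent.S1279

open Cfsg.Agent.Comp Subgroup

/-- Let A be a noncyclic elementary abelian p-subgroup of the finite group G such that C_G(a) is solvable for every non-identity a ∈ A. Then a ↦ O_{p'}(C_G(a)) is a solvable A-signalizer functor on G. -/
theorem result {G : Type*} [Group G] [Finite G] (p : ℕ) [Fact p.Prime] (A : Subgroup G) (hA : Cfsg.IsElementaryAbelian p A) (hA2 : p ^ 2 ≤ Nat.card ↥A) (hsolv : ∀ a ∈ A, a ≠ 1 → Group.IsSolvable ↥(Subgroup.centralizer ({a} : Set G))) : Cfsg.IsSolvableSignalizerFunctor p A (fun a => Cfsg.centralizerPPrimeCore p a) := by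
  refine (ssf_iff hA).1 ⟨hA, fun a _ _ => Opp_le p _, fun a _ _ => coprime_Opp p _,
    fun a ha _ => le_normalizer_Opp_of_le (IsElementaryAbelian.le_centralizer_singleton hA ha),
    fun a ha a1 b hb b1 => ?_, fun a ha a1 => isSolvable_of_le (Opp_le p _) (hsolv a ha a1)⟩
  refine le_trans ?_ (Opp_inf_centralizer_singleton_le (x := a)
    (PLay_eq_bot_of_isSolvable (hsolv b hb b1))
    (IsElementaryAbelian.le_centralizer_singleton hA hb ha)
    ((IsElementaryAbelian.isPGroup hA).to_le (zpowers_le.2 ha)))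
  exact (le_inf inf_le_left (le_inf inf_le_right (inf_le_left.trans (Opp_le p _)))).trans
    (Opp_inf_le inf_le_right)

end Cfsg.Agent.S1279
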