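import Cfsg.Statements.S1286
import Cfsg.Agent.Lib.Comp.Sig

set_option autoImplicit false
open Cfsg

namespace Cfsg.Agent.S1286

open Cfsg.Agent.Comp Subgroup Equiv

def a : Perm (Fin 5) := swap 0 1
def b : Perm (Fin 5) := swap 2 3
def x : Perm (Fin 5) := swap 2 3 * swap 3 4
def y : Perm (Fin 5) := swap 0 1 * swap 1 4

def A : Subgroup (Perm (Fin 5)) where
  carrier := {g | g = 1 ∨ g = a ∨ g = b ∨ g = a * b}
  one_mem' := Or.inl rfl
  mul_mem' := by
    rintro g h (rfl | rfl | rfl | rfl) (rfl | rfl | rfl | rfl) <;>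
      simp only [Set.mem_ofPred_eq] <;> decide
  inv_mem' := by
    rintro g (rfl | rfl | rfl | rfl) <;> simp only [Set.mem_ofPred_eq] <;> decide

def C (z : Perm (Fin 5)) (hz : z * z * z = 1) : Subgroup (Perm (Fin 5)) where
  carrier := {g | g = 1 ∨ g = z ∨ g = z * z}
  one_mem' := Or.inl rfl
  mul_mem' := by
    have h2 : z * (z * z) = 1 := by rw [← mul_assoc, hz]
    have h3 : z * z * (z * z) = z := by rw [← mul_assoc, hz, one_mul]
    rintro g h (rfl | rfl | rfl) (rfl | rfl | rfl) <;> simp [hz, h2, h3]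
  inv_mem' := by
    have h2 : z⁻¹ = z * z := by rw [inv_eq_iff_mul_eq_one, ← mul_assoc, hz]
    have h3 : (z * z)⁻¹ = z := by rw [inv_eq_iff_mul_eq_one, hz]
    rintro g (rfl | rfl | rfl) <;> simp only [Set.mem_ofPred_eq, h2, h3] <;> simp

theorem C_prop (z : Perm (Fin 5)) (hz : z * z * z = 1) :
    ¬ 2 ∣ Nat.card (C z hz) ∧ Group.IsSolvable (C z hz) := by
  have h : C z hz ≤ zpowers z := by
    rintro g (rfl | rfl | rfl)
    · exact one_mem _
    · exact mem_zpowers _
    · exact mul_mem (mem_zpowers _) (mem_zpowers _)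
  refine ⟨fun hd => ?_, isSolvable_of_le h (Solv.isSolvable_zpowers z)⟩
  have : 2 ∣ 3 := (hd.trans (card_dvd_of_le h)).trans (by
    rw [Nat.card_zpowers]; exact orderOf_dvd_of_pow_eq_one (by rw [pow_succ, sq, hz]))
  omega

def θ (g : Perm (Fin 5)) : Subgroup (Perm (Fin 5)) :=
  if g = a then C x (by decide) else if g = b then C y (by decide) else C 1 (by decide)

theorem θa : θ a = C x (by decide) := if_pos rfl
theorem θb : θ b = C y (by decide) := by rw [θ, if_neg (by decide), if_pos rfl]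
theorem θab : θ (a * b) = C 1 (by decide) := by rw [θ, if_neg (by decide), if_neg (by decide)]
theorem θ_prop (g : Perm (Fin 5)) : ¬ 2 ∣ Nat.card (θ g) ∧ Group.IsSolvable (θ g) := by
  by_cases h1 : g = a
  · rw [θ, if_pos h1]; exact C_prop _ _
  · by_cases h2 : g = b
    · rw [θ, if_neg h1, if_pos h2]; exact C_prop _ _
    · rw [θ, if_neg h1, if_neg h2]; exact C_prop _ _
theorem memC {z g : Perm (Fin 5)} {hz : z * z * z = 1} : g ∈ C z hz ↔ g = 1 ∨ g = z ∨ g = z * z :=
  Iff.rfl

/-- There exist a finite group X, an elementary abelian subgroup A of order 4 and a solvable A-signalizer functor θ on X for the prime 2 which is not complete. -/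
theorem result : ∃ (X : Type) (_ : Group X) (_ : Finite X) (A : Subgroup X) (θ : X → Subgroup X), Cfsg.IsElementaryAbelian 2 A ∧ Nat.card ↥A = 4 ∧ Cfsg.IsSolvableSignalizerFunctor 2 A θ ∧ ¬ Cfsg.IsCompleteSignalizerFunctor 2 A θ := by
  refine ⟨Perm (Fin 5), inferInstance, inferInstance, A, θ, ⟨⟨⟨?_⟩⟩, ?_⟩, ?_, ⟨⟨?_, ?_, ?_, ?_⟩, ?_⟩, ?_⟩
  · rintro ⟨g, rfl | rfl | rfl | rfl⟩ ⟨h, rfl | rfl | rfl | rfl⟩ <;> exact Subtype.ext (by decide)
  · rintro g (rfl | rfl | rfl | rfl) <;> decide
  · have : (A : Set (Perm (Fin 5))) = ({1, a, b, a * b} : Finset (Perm (Fin 5))) := by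
      ext g; simp; rfl
    change Nat.card (A : Set (Perm (Fin 5))) = 4
    rw [this]
    simp only [Finset.coe_sort_coe, Nat.card_eq_fintype_card, Fintype.card_coe]
    decide
  · rintro g (rfl | rfl | rfl | rfl) h
    · exact absurd rfl h
    all_goals
      simp only [θa, θb, θab]
      rintro g (rfl | rfl | rfl) <;> rw [mem_centralizer_singleton_iff] <;> decide
  · intro g _ _
    exact (θ_prop g).1
  · rintro g (rfl | rfl | rfl | rfl) h
    · exact absurd rfl h
    all_goals
      simp only [θa, θb, θab]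
      rintro g (rfl | rfl | rfl | rfl) k (rfl | rfl | rfl) <;> rw [memC] <;> decide
  · rintro g (rfl | rfl | rfl | rfl) h g' (rfl | rfl | rfl | rfl) h'
    any_goals exact absurd rfl h
    any_goals exact absurd rfl h'
    all_goals
      simp only [θa, θb, θab]
      rintro k ⟨rfl | rfl | rfl, hk⟩ <;> rw [memC] <;>
        first | decide | exact absurd (mem_centralizer_singleton_iff.1 hk) (by decide)
  · intro g _ _
    exact (θ_prop g).2
  · rintro ⟨-, X, -, h2, h3⟩
    have hx : x ∈ X := ((h3 a (Or.inr (Or.inl rfl)) (by decide)).ge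
      (by rw [θa]; exact Or.inr (Or.inl rfl))).1
    have hy : y ∈ X := ((h3 b (Or.inr (Or.inr (Or.inl rfl))) (by decide)).ge
      (by rw [θb]; exact Or.inr (Or.inl rfl))).1
    refine h2 (Dvd.dvd.trans ?_ (orderOf_dvd_natCard X
      (mul_mem (mul_mem (mul_mem hx hy) hx) (inv_mem hy))))
    rw [orderOf_eq_prime (p := 2) (by decide) (by decide)]

end Cfsg.Agent.S1286
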