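import Cfsg.Statements.S1288
import Cfsg.Agent.Lib.Comp.Sig

set_option autoImplicit false
open Cfsg

namespace Cfsg.Agent.S1288

open Cfsg.Agent.Comp Subgroup

/-- Let A be a noncyclic elementary abelian p-subgroup of a finite group H normalizing a solvable subgroup K of order prime to p, q a prime dividing |K|, and U ≤ K a subgroup of order prime to q such that ⁅U, C_K(B)⁆ has order prime to q for every subgroup B of index p in A. Then U ≤ O_{q'}(K). -/
theorem result {H : Type*} [Group H] [Finite H] (p : ℕ) [Fact p.Prime] (A K : Subgroup H) (hA : Cfsg.IsElementaryAbelian p A) (hA2 : p ^ 2 ≤ Nat.card ↥A) (hK : ¬ p ∣ Nat.card ↥K) (hKs : Group.IsSolvable ↥K) (hAK : A ≤ Subgroup.normalizer (K : Set H)) (q : ℕ) [Fact q.Prime] (hqK : q ∣ Nat.card ↥K) (U : Subgroup H) (hU : U ≤ K) (hUq : ¬ q ∣ Nat.card ↥U) (hcomm : ∀ B : Subgroup H, B ≤ A → B.relIndex A = p → ¬ q ∣ Nat.card ↥⁅U, K ⊓ Subgroup.centralizer (B : Set H)⁆) : U ≤ (Cfsg.pPrimeCore q ↥K).map K.subtype := by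
  have hK' := coprime_iff_not_dvd.2 hK
  have hO : Oppp q K ≤ K := Oppp_le K
  obtain ⟨T, hT, hAT⟩ := exists_invariant_sylIn q (le_normalizer_Oppp (p := q) hAK)
    (coprime_of_isPGroup (IsElementaryAbelian.isPGroup hA) (coprime_of_le hK' hO))
    (Or.inr (isSolvable_of_le hO hKs))
  have hTK := hT.le.trans hO
  refine le_Opp_of_le_Oppp (le_Oppp_of_commutator_sylIn_le (PLay_eq_bot_of_isSolvable hKs) hU hT ?_)
    (coprime_iff_not_dvd.2 hUq)
  rw [commutator_comm]
  refine (le_actKer_iff.1 (le_of_forall_hyperplane hA (ne_bot_of_pow_le_card hA2) hAT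
    (coprime_of_le hK' hTK) fun B a b => le_actKer_iff.2
      ⟨le_normalizer_Opp_of_le (inf_le_left.trans hTK), ?_⟩)).2
  rw [commutator_comm]
  refine le_Opp_of_le_Oppp ((commutator_mono le_rfl (inf_le_left.trans hT.le)).trans
    (commutator_le_right_of_le_normalizer (hU.trans (le_normalizer_Oppp_self K))))
    (coprime_of_le (coprime_iff_not_dvd.2 (hcomm B a b))
      (commutator_mono le_rfl (inf_le_inf_right _ hTK)))

end Cfsg.Agent.S1288
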