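import Cfsg.Statements.S1289
import Cfsg.Agent.Lib.Comp.Sig

set_option autoImplicit false
open Cfsg

namespace Cfsg.Agent.S1289

open Cfsg.Agent.Comp Subgroup

/-- A p-component K of the finite group X is subnormal, perfect, of order divisible by p, and minimal among the subnormal perfect subgroups of X of order divisible by p. -/
theorem result {X : Type*} [Group X] [Finite X] (p : ℕ) [Fact p.Prime] (K : Subgroup X) (hK : Cfsg.IsPComponent p K) : K.IsSubnormal ∧ ⁅K, K⁆ = K ∧ p ∣ Nat.card ↥K ∧ ∀ H : Subgroup X, H ≤ K → H.IsSubnormal → ⁅H, H⁆ = H → p ∣ Nat.card ↥H → H = K := by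
  have h := (pCompIn_top_iff.2 hK).pqs
  refine ⟨hK.1, h.perfect, h.dvd_card, fun H a b c d => ?_⟩
  refine (h.subnIn ((SubnIn.of_isSubnormal b).of_le a le_top)).resolve_right fun e => ?_
  exact coprime_iff_not_dvd.1 (coprime_of_le (coprime_Opp p K)
    (c.ge.trans ((commutator_mono le_rfl a).trans e))) d

end Cfsg.Agent.S1289
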