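import Cfsg.Statements.S1292
import Cfsg.Agent.Lib.Comp.Sig

set_option autoImplicit false
open Cfsg

namespace Cfsg.Agent.S1292

open Cfsg.Agent.Comp Subgroup

/-- Let G be a finite group such that F*(C_G(t)) = O_2(C_G(t)) for every involution t. Then F*(N_G(T)) = O_2(N_G(T)) for every nontrivial 2-subgroup T of G. -/
theorem result {G : Type*} [Group G] [Finite G] (h : ∀ t : G, orderOf t = 2 → Cfsg.generalizedFittingSubgroup ↥(Subgroup.centralizer ({t} : Set G)) = Cfsg.pCore 2 ↥(Subgroup.centralizer ({t} : Set G))) (T : Subgroup G) (hT : IsPGroup 2 ↥T) (hT1 : T ≠ ⊥) : Cfsg.generalizedFittingSubgroup ↥(Subgroup.normalizer (T : Set G)) = Cfsg.pCore 2 ↥(Subgroup.normalizer (T : Set G)) := by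
  rw [← charP_iff_fstar_subtype]
  obtain ⟨z, hz, ho⟩ := exists_mem_orderOf_eq (dvd_card_of_isPGroup (p := 2) hT.to_inf_left
    (inf_centralizer_ne_bot_of_isNilpotent hT.isNilpotent le_rfl le_normalizer hT1))
  have h1 := (charP_iff_fstar_subtype.2 (h z ho)).inf_centralizer hT
    (le_centralizer_singleton_iff.2 hz.2)
  rw [inf_eq_right.2 (centralizer_le_centralizer_singleton hz.1)] at h1
  refine charP_of_forall fun Y a b c => h1.eq_bot
    (b.trans (centralizer_mono (le_Op le_normalizer le_rfl hT))) (b.trans (centralizer_mono ?_)) c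
  exact (SubnIn.of_normalizer (centralizer_le_normalizer _)
    (normalizer_le_normalizer_centralizer T)).Op_le 2

end Cfsg.Agent.S1292
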