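import Cfsg.Statements.S1294
import Cfsg.Agent.Lib.SSF.Final
import Cfsg.Agent.Lib.SSF.App

set_option autoImplicit false
open Cfsg

namespace Cfsg.Agent.S1294

open Cfsg.Agent.Sg Cfsg.Agent.MS Subgroup
open Cfsg.Agent.Transfer hiding im im_nn im_mono mem_im

/-- Let G be finite with O_{p'}(G) = 1 and p-rank at least 3, whose reduced rank-2 commuting graph for p is connected. Let θ assign to every element a of order p with m_p(C_G(a)) ≥ 3 a solvable subgroup θ a ≤ C_G(a) of order prime to p, so that θ (g a g⁻¹) = g (θ a) g⁻¹ for all g and θ a ∩ C_G(b) ≤ θ b for commuting such a, b. Then θ a = 1 for every such a. -/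
theorem result {G : Type*} [Group G] [Finite G] (p : ℕ) [Fact p.Prime] (hO : Cfsg.pPrimeCore p G = ⊥) (hrk : ¬ Cfsg.PRankLE p 2 G) (hconn : Cfsg.IsRankGraphConnected p 2 G) (θ : G → Subgroup G) (hC : ∀ a : G, (orderOf a = p ∧ ¬ Cfsg.PRankLE p 2 ↥(Subgroup.centralizer ({a} : Set G))) → θ a ≤ Subgroup.centralizer ({a} : Set G) ∧ ¬ p ∣ Nat.card ↥(θ a) ∧ Group.IsSolvable ↥(θ a)) (heq : ∀ a g : G, (orderOf a = p ∧ ¬ Cfsg.PRankLE p 2 ↥(Subgroup.centralizer ({a} : Set G))) → θ (g * a * g⁻¹) = (θ a).map (MulAut.conj g).toMonoidHom) (hbal : ∀ a b : G, (orderOf a = p ∧ ¬ Cfsg.PRankLE p 2 ↥(Subgroup.centralizer ({a} : Set G))) → (orderOf b = p ∧ ¬ Cfsg.PRankLE p 2 ↥(Subgroup.centralizer ({b} : Set G))) → a * b = b * a → θ a ⊓ Subgroup.centralizer {b} ≤ θ b) (a : G) (ha : (orderOf a = p ∧ ¬ Cfsg.PRankLE p 2 ↥(Subgroup.centralizer ({a} : Set G)))) : θ a = ⊥ := by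
  have hp : p.Prime := Fact.out
  have g1 : ∀ K : Subgroup G, IsElementaryAbelian p K → p ^ 3 ≤ #K → ∀ b ∈ K, b ≠ 1 →
      orderOf b = p ∧ ¬ PRankLE p 2 (C1 b) := fun K hK h3 b hb h0 =>
    ⟨orderOf_eq_prime (hK.2 b hb) h0, fun h => prankLE_iff.1 h
      (rk_of_elem hK (Comp.IsElementaryAbelian.le_centralizer_singleton hK hb) h3)⟩
  have g2 : ∀ K : Subgroup G, IsElementaryAbelian p K → p ^ 3 ≤ #K → Comp.SSF p K θ :=
    fun K hK h3 => ⟨hK, fun b hb h0 => (hC b (g1 K hK h3 b hb h0)).1,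
      fun b hb h0 => ((Nat.Prime.coprime_iff_not_dvd hp).2 (hC b (g1 K hK h3 b hb h0)).2.1).symm,
      fun b hb h0 g hg => by
        have := heq b g (g1 K hK h3 b hb h0)
        rw [conj_eq_of_C1 (Comp.IsElementaryAbelian.le_centralizer_singleton hK hb hg)] at this
        exact mem_normalizer_of_cj_le this.ge,
      fun b hb h0 c hc h1 => hbal b c (g1 K hK h3 b hb h0) (g1 K hK h3 c hc h1)
        (elem_commute hK hb hc),
      fun b hb h0 => (hC b (g1 K hK h3 b hb h0)).2.2⟩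
  have g3 : ∀ E : Subgroup G, IsRankGraphVertex p 2 E →
      ∃ K, IsElementaryAbelian p K ∧ p ^ 3 ≤ #K ∧ E ≤ K := fun E hE => by
    obtain ⟨D, hD⟩ : Rk p 3 (CC E) := not_not.1 (mt prankLE_iff.2 hE.2.2)
    exact ⟨D ⊔ E, elem_sup hD.elem hE.1 hD.le, hD.card.ge.trans (card_le_of_le le_sup_left),
      le_sup_right⟩
  have g4 : ∀ A B : Subgroup G, IsRankGraphVertex p 2 A → IsRankGraphVertex p 2 B →
      (∀ a ∈ A, ∀ b ∈ B, a * b = b * a) → signalizerClosure A θ = signalizerClosure B θ := by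
    intro A B hA hB h
    have h1 : IsElementaryAbelian p (A ⊔ B : Subgroup G) :=
      elem_sup hA.1 hB.1 fun a ha b hb => (h a ha b hb).symm
    by_cases h3 : p ^ 3 ≤ #(A ⊔ B : Subgroup G)
    · rw [clo_eq (g2 _ h1 h3) le_sup_left hA.2.1, clo_eq (g2 _ h1 h3) le_sup_right hB.2.1]
    · obtain ⟨n, hn⟩ := elem_exists_el h1
      rw [hn.card, Nat.pow_le_pow_iff_right hp.one_lt] at h3
      have h4 : #(A ⊔ B : Subgroup G) ≤ p ^ 2 := hn.card ▸ Nat.pow_le_pow_right hp.pos (by omega)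
      rw [eq_of_le_of_card_ge (le_sup_left : A ≤ A ⊔ B) (h4.trans hA.2.1)]
      exact congrArg (signalizerClosure · θ)
        (eq_of_le_of_card_ge (le_sup_right : B ≤ A ⊔ B) (h4.trans hB.2.1)).symm
  have g5 : ∀ A B : Subgroup G, IsRankGraphVertex p 2 A → IsRankGraphVertex p 2 B →
      signalizerClosure A θ = signalizerClosure B θ := fun A B hA hB => by
    have := hconn A B hA hB
    clear hB
    induction this with
    | refl => rfl
    | tail _ h ih => exact ih.trans (g4 _ _ h.1 h.2.1 h.2.2)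
  obtain ⟨D, hD⟩ : Rk p 3 (C1 a) := not_not.1 (mt prankLE_iff.2 ha.2)
  have a1 : a ^ p = 1 := ha.1 ▸ pow_orderOf_eq_one a
  have a0 : a ≠ 1 := fun e => hp.one_lt.ne' (by rw [← ha.1, e, orderOf_one])
  have f1 : IsElementaryAbelian p (D ⊔ zpowers a : Subgroup G) :=
    elem_sup hD.elem (elem_zpowers a1) (by rw [cc_zpowers]; exact hD.le)
  set K := D ⊔ zpowers a
  have f2 : p ^ 3 ≤ #K := hD.card.ge.trans (card_le_of_le le_sup_left)
  have v : ∀ K : Subgroup G, IsElementaryAbelian p K → p ^ 3 ≤ #K → IsRankGraphVertex p 2 K :=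
    fun K f1 f2 => ⟨f1, (Nat.pow_le_pow_right hp.pos (by omega)).trans f2,
      fun h => prankLE_iff.1 h (rk_of_elem f1 (ab_cc f1.1) f2)⟩
  haveI : (signalizerClosure K θ).Normal := by
    rw [← normalizer_eq_top_iff, eq_top_iff]
    intro g _
    refine mem_normalizer_of_cj_le ?_
    rw [g5 K (cj g K) (v K f1 f2) (v _ (elem_cj f1 g) (by rwa [card_cj]))]
    conv_lhs => rw [← g5 K (cj g K) (v K f1 f2) (v _ (elem_cj f1 g) (by rwa [card_cj]))]
    exact cj_clo_le fun b hb h0 => (heq b g (g1 K f1 f2 b hb h0)).ge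
  have := Comp.le_pPrimeCore (ssft (g2 K f1 f2) f2).cop
  rw [hO] at this
  exact le_bot_iff.1 ((le_clo (mem_sup_right (mem_zpowers a)) a0).trans this)

end Cfsg.Agent.S1294
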