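import Cfsg.Statements.S1295
import Cfsg.Agent.Lib.SSF.Final
import Cfsg.Agent.Lib.SSF.App
import Cfsg.Agent.S1294

set_option autoImplicit false
open Cfsg

namespace Cfsg.Agent.S1295

open Cfsg.Agent.Sg Cfsg.Agent.MS Subgroup
open Cfsg.Agent.Transfer hiding im im_nn im_mono mem_im

/-- Let G be finite with O_{p'}(G) = 1 and p-rank at least 3, whose reduced rank-2 commuting graph for p is connected. Suppose that for every element a of order p with m_p(C_G(a)) ≥ 3 the p-layer of C_G(a) is trivial and O_{p'}(C_G(a)) is solvable. Then F*(C_G(a)) = O_p(C_G(a)) for every such a. -/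
theorem result {G : Type*} [Group G] [Finite G] (p : ℕ) [Fact p.Prime] (hO : Cfsg.pPrimeCore p G = ⊥) (hrk : ¬ Cfsg.PRankLE p 2 G) (hconn : Cfsg.IsRankGraphConnected p 2 G) (hL : ∀ a : G, (orderOf a = p ∧ ¬ Cfsg.PRankLE p 2 ↥(Subgroup.centralizer ({a} : Set G))) → Cfsg.pLayer p ↥(Subgroup.centralizer ({a} : Set G)) = ⊥ ∧ Group.IsSolvable ↥(Cfsg.centralizerPPrimeCore p a)) (a : G) (ha : (orderOf a = p ∧ ¬ Cfsg.PRankLE p 2 ↥(Subgroup.centralizer ({a} : Set G)))) : Cfsg.generalizedFittingSubgroup ↥(Subgroup.centralizer ({a} : Set G)) = Cfsg.pCore p ↥(Subgroup.centralizer ({a} : Set G)) := by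
  have hp : p.Prime := Fact.out
  have e0 : ∀ b : G, centralizerPPrimeCore p b = O {p}ᶜ (C1 b) := fun b => map_pPrimeCore _
  have h1 := S1294.result p hO hrk hconn (fun b => O {p}ᶜ (C1 b))
    (fun b hb => ⟨O_le _ _, (Nat.Prime.coprime_iff_not_dvd hp).1
      (pi_compl_iff_coprime.1 (O_pi _ _)).symm, e0 b ▸ (hL b hb).2⟩)
    (fun b g _ => (cj_OC _ g b).symm)
    (fun b c hb hc h => bal_of_PLay (Comp.PLay_eq_bot_iff_subtype.2 (hL c hc).1) (mem_C1.2 h)
      (elem_isPGroup (elem_zpowers (hb.1 ▸ pow_orderOf_eq_one b)))) a ha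
  refine Comp.charP_iff_fstar_subtype.1 (Comp.charP_iff_PLay_Opp.2
    ⟨Comp.PLay_eq_bot_iff_subtype.2 (hL a ha).1, ?_⟩)
  rw [← Comp.map_pPrimeCore, map_pPrimeCore]; exact h1

end Cfsg.Agent.S1295
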