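import Cfsg.Statements.S1300
import Cfsg.Agent.Lib.Comp.Sig

set_option autoImplicit false
open Cfsg

namespace Cfsg.Agent.S1300

open Cfsg.Agent.Comp Subgroup

/-- For a finite group G, balance in the sense of commuting involutions is the same as 1-balance for the prime 2. -/
theorem result {G : Type*} [Group G] [Finite G] : Cfsg.IsBalanced G ↔ Cfsg.IsKBalanced 2 1 G := by
  have key : ∀ x : G, orderOf x = 2 → signalizerDelta 2 (zpowers x) = centralizerPPrimeCore 2 x := by
    intro x hx
    have h1 : x ≠ 1 := by rintro rfl; simp at hx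
    refine le_antisymm (iInf_le _ (⟨x, mem_zpowers x, h1⟩ : {a : G // a ∈ zpowers x ∧ a ≠ 1}))
      (le_iInf fun a => ?_)
    obtain ⟨a, ha, a1⟩ := a
    have : a = x := by
      classical
      rw [mem_zpowers_iff_mem_range_orderOf, hx] at ha
      simp only [Finset.mem_image, Finset.mem_range] at ha
      obtain ⟨k, hk, rfl⟩ := ha
      interval_cases k
      · simp at a1
      · simp
    subst this
    exact le_rfl
  constructor
  · intro h A hA hc b hb hab
    have hne : A ≠ ⊥ := ne_bot_of_pow_le_card (k := 0) hc.ge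
    obtain ⟨x, hx, x1⟩ := exists_mem_ne_one hne
    refine (inf_le_inf_right _ (iInf_le _ (⟨x, hx, x1⟩ : {a : G // a ∈ A ∧ a ≠ 1}))).trans ?_
    rw [h x b (IsElementaryAbelian.orderOf_eq hA hx x1) hb (hab x hx)]
    exact inf_le_left
  · intro h
    have key2 : ∀ x y : G, orderOf x = 2 → orderOf y = 2 → x * y = y * x →
        centralizerPPrimeCore 2 x ⊓ centralizer {y} ≤ centralizerPPrimeCore 2 y ⊓ centralizer {x} := by
      intro x y hx hy hxy
      refine le_inf ?_ (inf_le_left.trans (Opp_le 2 _))
      rw [← key x hx]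
      refine h _ (isElementaryAbelian_zpowers (hx ▸ pow_orderOf_eq_one x))
        (by rw [Nat.card_zpowers, hx]; rfl) y hy fun a ha => ?_
      exact mem_centralizer_singleton_iff.1
        (zpowers_le.2 (mem_centralizer_singleton_iff.2 hxy) ha)
    exact fun x y hx hy hxy => le_antisymm (key2 x y hx hy hxy) (key2 y x hy hx hxy.symm)

end Cfsg.Agent.S1300
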