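import Cfsg.Statements.S1303
import Cfsg.Agent.Lib.BG.PLen

set_option autoImplicit false
open Cfsg

namespace Cfsg.Agent.S1303

/-- The group X = SL(2, 3): it is 2-constrained, O_{2'}(X) = 1, its centre A = Z(X) contains every involution of X = C_X(A), and X has a subgroup of order 3 (normalized by A) not contained in O_{2'}(X). -/
theorem result : Cfsg.IsPConstrained 2 (Matrix.SpecialLinearGroup (Fin 2) (ZMod 3)) ∧ Cfsg.pPrimeCore 2 (Matrix.SpecialLinearGroup (Fin 2) (ZMod 3)) = ⊥ ∧ (∀ t : Matrix.SpecialLinearGroup (Fin 2) (ZMod 3), orderOf t = 2 → t ∈ Subgroup.center (Matrix.SpecialLinearGroup (Fin 2) (ZMod 3))) ∧ ∃ Q : Subgroup (Matrix.SpecialLinearGroup (Fin 2) (ZMod 3)), Nat.card ↥Q = 3 ∧ ¬ (Q ≤ Cfsg.pPrimeCore 2 (Matrix.SpecialLinearGroup (Fin 2) (ZMod 3))) := by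
  open Pointwise commutatorElement Subgroup in
  open Cfsg.Agent.Comp Cfsg.Agent.BG Subgroup commutatorElement in
  have hc : Nat.card (Matrix.SpecialLinearGroup (Fin 2) (ZMod 3)) = 24 := by
    rw [Nat.card_eq_fintype_card]; decide +kernel
  let a : Matrix.SpecialLinearGroup (Fin 2) (ZMod 3) := ⟨!![1, 1; 0, 1], by decide⟩
  have h9 : a ≠ 1 := fun e => absurd (congrArg (fun x : Matrix.SpecialLinearGroup (Fin 2) (ZMod 3) => x.1 0 1) e) (by decide)
  have h0 : pPrimeCore 2 (Matrix.SpecialLinearGroup (Fin 2) (ZMod 3)) = ⊥ := by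
    rw [eq_bot_iff]
    intro x hx
    by_contra h
    have h1 : ∀ x : Matrix.SpecialLinearGroup (Fin 2) (ZMod 3), x ≠ 1 → ∃ g : Matrix.SpecialLinearGroup (Fin 2) (ZMod 3),
        (x ^ 3) ≠ 1 ∨ (x * (g * x * g⁻¹)) ^ 3 ≠ 1 := by decide +kernel
    have h2 : ∀ y ∈ pPrimeCore 2 (Matrix.SpecialLinearGroup (Fin 2) (ZMod 3)), y ^ 3 = 1 := fun y hy => by
      refine orderOf_dvd_iff_pow_eq_one.1 (Nat.Coprime.dvd_of_dvd_mul_left (m := 2 ^ 3)
        (((Solv.coprime_card_pPrimeCore 2).coprime_dvd_left (dvd_card_of_mem hy)).pow_right 3) ?_)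
      exact (orderOf_dvd_natCard y).trans (by rw [hc])
    obtain ⟨g, h3 | h3⟩ := h1 x h
    · exact h3 (h2 x hx)
    · exact h3 (h2 _ (mul_mem hx (Normal.conj_mem inferInstance x hx g)))
  refine ⟨isPConstrained_iff.2 (PLay_eq_bot_of_isSolvable (Solv.isSolvable_top_iff.2
    (Solv.isSolvable_of_primes_subset Nat.prime_two Nat.prime_three fun r hr h => ?_))), h0, fun t ht => ?_, zpowers a, ?_, ?_⟩
  · rw [hc, show 24 = 2 ^ 3 * 3 from rfl, hr.dvd_mul] at h
    exact h.imp (fun h => (Nat.prime_dvd_prime_iff_eq hr Nat.prime_two).1 (hr.dvd_of_dvd_pow h))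
      (Nat.prime_dvd_prime_iff_eq hr Nat.prime_three).1
  · have h1 : ∀ x : Matrix.SpecialLinearGroup (Fin 2) (ZMod 3), x ^ 2 = 1 → ∀ g, g * x = x * g := by decide +kernel
    exact mem_center_iff.2 (h1 t (orderOf_dvd_iff_pow_eq_one.1 ht.dvd))
  · rw [Nat.card_zpowers]; exact orderOf_eq_prime (Subtype.ext (by decide +kernel)) h9
  · rw [h0, zpowers_le, mem_bot]; exact h9

end Cfsg.Agent.S1303
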