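import Cfsg.Statements.S1305
import Cfsg.Agent.Lib.FT.Pump4

set_option autoImplicit false
open Cfsg

namespace Cfsg.Agent.S1305

/-- Let G be a finite group of component type with the B-property and no nontrivial normal subgroup of odd order. Let a be an involution and K a component of C_G(a) such that (a) |K| is maximal among the orders of components of centralizers of involutions of G, (b) subject to (a) the 2-rank of the centralizer of K in C_G(a) is as large as possible, and (c) K has 2-rank at least 2. If B is an elementary abelian 2-subgroup of that centralizer of the largest possible order, then K is a component of C_G(b) for every non-identity b ∈ B. -/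
theorem result {G : Type*} [Group G] [Finite G] (hO : Cfsg.oddCore G = ⊥) (hB : Cfsg.HasBProperty G) (hct : Cfsg.IsComponentType G) (a : G) (ha : orderOf a = 2) (K : Subgroup G) (hKa : K ≤ Subgroup.centralizer ({a} : Set G)) (hK : Cfsg.IsComponent (K.subgroupOf (Subgroup.centralizer ({a} : Set G)))) (hmax : ∀ y : G, orderOf y = 2 → ∀ K' : Subgroup G, K' ≤ Subgroup.centralizer ({y} : Set G) → Cfsg.IsComponent (K'.subgroupOf (Subgroup.centralizer ({y} : Set G))) → Nat.card ↥K' ≤ Nat.card ↥K ∧ (Nat.card ↥K' = Nat.card ↥K → ∀ k : ℕ, Cfsg.PRankLE 2 k ↥(Subgroup.centralizer ({a} : Set G) ⊓ Subgroup.centralizer (K : Set G)) → Cfsg.PRankLE 2 k ↥(Subgroup.centralizer ({y} : Set G) ⊓ Subgroup.centralizer (K' : Set G)))) (hrk : ¬ Cfsg.PRankLE 2 1 ↥K) (B : Subgroup G) (hBle : B ≤ Subgroup.centralizer ({a} : Set G) ⊓ Subgroup.centralizer (K : Set G)) (hBel : Cfsg.IsElementaryAbelian 2 B) (hBmax : ∀ B' : Subgroup G, B' ≤ Subgroup.centralizer ({a} : Set G) ⊓ Subgroup.centralizer (K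 : Set G) → Cfsg.IsElementaryAbelian 2 B' → Nat.card ↥B' ≤ Nat.card ↥B) (b : G) (hb : b ∈ B) (hb1 : b ≠ 1) : K ≤ Subgroup.centralizer ({b} : Set G) ∧ Cfsg.IsComponent (K.subgroupOf (Subgroup.centralizer ({b} : Set G))) := by
  open Cfsg.Agent.Comp Subgroup in
  have hK' : CompIn K (centralizer ({a} : Set G)) := compIn_iff.2 ⟨hKa, hK⟩
  have hb2 : orderOf b = 2 := IsElementaryAbelian.orderOf_eq hBel hb hb1
  have haa : a ^ 2 = 1 := ha ▸ pow_orderOf_eq_one a
  have haB : a ∈ B := by
    have h1 : IsElementaryAbelian 2 (B ⊔ zpowers a) := IsElementaryAbelian.sup hBel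
      (isElementaryAbelian_zpowers haa) (by rw [centralizer_zpowers]; exact hBle.trans inf_le_left)
    rw [eq_of_le_of_card_ge (le_sup_left : B ≤ B ⊔ zpowers a) (hBmax _ (sup_le hBle (zpowers_le.2
      ⟨mem_centralizer_singleton_self a, le_centralizer_singleton_iff.1 hKa⟩)) h1)]
    exact mem_sup_right (mem_zpowers a)
  have hKb : K ≤ centralizer ({b} : Set G) := le_centralizer_singleton_iff.2 (hBle hb).2
  have hBb : B ≤ centralizer ({b} : Set G) := IsElementaryAbelian.le_centralizer_singleton hBel hb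
  have h1 : PLay 2 (centralizer ({b} : Set G)) ≤ Lay (centralizer ({b} : Set G)) := by
    have h5 := hB b hb2
    rw [map_commutator, map_pLayer, map_pPrimeCore, hO, le_bot_iff, commutator_eq_bot_iff'] at h5
    exact PLay_le_iff.2 fun J hJ => (hJ.compIn_iff.2 ((hJ.subn.Opp_le 2).trans
      (h5.trans (centralizer_mono hJ.le_PLay)))).le_Lay
  obtain ⟨L, hL, h | ⟨h, -, -⟩ | ⟨h2, h3, δ, h4, h5, -, -, -⟩⟩ := (hK'.of_le (le_inf hKb hKa)
    inf_le_right).pCompIn_two.pump_two ha (le_normalizer (hBb haB)) h1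
  · exact compIn_iff.1 (h ▸ hL)
  · exact absurd (hmax b hb2 L hL.le (compIn_iff.1 hL).2).1 (not_le.2 (card_lt_of_lt h))
  exfalso
  obtain ⟨h6, h7⟩ := hmax b hb2 L hL.le (compIn_iff.1 hL).2
  have h8 : δ.ker = ⊥ := by
    have := card_eq_card_quotient_mul_card_subgroup δ.ker
    rw [Nat.card_congr (QuotientGroup.quotientKerEquivRange δ).toEquiv, h5] at this
    refine eq_bot_of_card_le _ (Nat.le_of_mul_le_mul_left ?_ (Nat.card_pos (α := K)))
    rw [← this, mul_one]; exact h6
  have hδ := (MonoidHom.ker_eq_bot_iff δ).1 h8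
  have e : L ≃* K := (MonoidHom.ofInjective hδ).trans (MulEquiv.subgroupCongr h5)
  obtain ⟨k, hk⟩ := IsPGroup.iff_card.1 (IsElementaryAbelian.isPGroup hBel)
  have h9 := h7 (Nat.card_congr e.toEquiv) k (fun A h1 h2 => by
    rw [← hk, ← card_map_subtype]
    exact hBmax _ (map_subtype_le _) (IsElementaryAbelian.map ⟨h1, h2⟩ _))
  simp only [PRankLE, not_forall, not_le] at hrk
  obtain ⟨V, v1, v2, v3⟩ := hrk
  let V' := cj(a, (V.map e.symm.toMonoidHom).map L.subtype)
  have w1 : IsElementaryAbelian 2 V' := IsElementaryAbelian.map (IsElementaryAbelian.map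
    (IsElementaryAbelian.map ⟨v1, v2⟩ _) _) _
  have w2 : Nat.card V' = Nat.card V := by
    rw [card_cj, card_map_subtype, card_map_of_injective e.symm.injective]
  have w3 : V' ≤ cj(a, L) := cj_mono a (map_subtype_le _)
  let B₀ := B ⊓ normalizer (L : Set G)
  have hBc := IsElementaryAbelian.le_centralizer hBel
  have hn : B₀ ≤ normalizer (cj(a, L) : Set G) := fun c hc => by
    rw [← cj_eq_self_iff, ← cj_mul, mem_centralizer_iff.1 (hBc haB) c hc.1, cj_mul, cj_eq_self_iff.2 hc.2]
  have w4 : ∀ c ∈ B₀, c ∈ centralizer (L : Set G) := fun c hc =>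
    mem_centralizer_of_diag hL.qs.perfect h3 (hn hc) fun l hl => by
      have := mem_centralizer_iff.1 (hBle hc.1).2 (δ ⟨l, hl⟩) (h5 ▸ ⟨_, rfl⟩)
      rwa [h4] at this
  have w5 : B₀ ≤ centralizer (cj(a, L) : Set G) := fun c hc => by
    rw [← cj_centralizer, mem_cj, mul_assoc, mem_centralizer_iff.1 (hBc haB) c hc.1, inv_mul_cancel_left]
    exact w4 c hc
  have w6 : B₀ ⊓ V' = ⊥ := eq_bot_iff.2 fun z hz => by
    have a1 : a⁻¹ * z * a = z := by
      rw [mul_assoc, mem_centralizer_iff.1 (hBc haB) z hz.1.1, inv_mul_cancel_left]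
    have a2 : z ∈ L := a1 ▸ mem_cj.1 (w3 hz.2)
    have : (⟨z, a2⟩ : L) ∈ δ.ker := by
      rw [MonoidHom.mem_ker, h4]
      change z * (a * z * a⁻¹) = 1
      rw [← mem_centralizer_iff.1 (hBc haB) z hz.1.1, mul_inv_cancel_right, ← sq, hBel.2 z hz.1.1]
    rw [h8, mem_bot, Subtype.ext_iff] at this
    exact this
  have w7 : IsElementaryAbelian 2 (B₀ ⊔ V') := IsElementaryAbelian.sup
    (IsElementaryAbelian.of_le hBel inf_le_left) w1 (w5.trans (centralizer_mono w3))
  have w8 : B₀ ⊔ V' ≤ centralizer ({b} : Set G) ⊓ centralizer (L : Set G) :=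
    sup_le (le_inf (inf_le_left.trans hBb) w4) (w3.trans (le_inf
      (hL.cj_of_mem (le_normalizer (hBb haB))).le h3))
  have w9 := h9 ((B₀ ⊔ V').subgroupOf _) (by
    have := w7.1; infer_instance) fun x hx => Subtype.ext (w7.2 x hx)
  have w10 := card_sup_mul_card_inf (le_normalizer_of_le_centralizer (w5.trans (centralizer_mono w3)))
  rw [w6, card_bot, mul_one] at w10
  rw [card_subgroupOf w8, w10, w2, ← hk] at w9
  have w11 : B₀.relIndex B ≤ 2 := by
    have : B₀.relIndex B = 2 := by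
      refine relIndex_eq_two_iff.2 ⟨a, haB, fun c hc => ?_⟩
      by_cases hcL : c ∈ normalizer (L : Set G)
      · exact Or.inr ⟨⟨hc, hcL⟩, fun h => h2 ((mul_mem_cancel_left hcL).1 h.2)⟩
      refine Or.inl ⟨⟨mul_mem hc haB, ?_⟩, fun h => hcL h.2⟩
      have := (hL.cj_eq_or_of_diag (le_normalizer (hBb haB)) (le_normalizer (hBb hc)) h3 fun l hl => by
        have := mem_centralizer_iff.1 (hBle hc).2 (δ ⟨l, hl⟩) (h5 ▸ ⟨_, rfl⟩)
        rwa [h4] at this).resolve_left fun e => hcL (cj_eq_self_iff.1 e)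
      refine cj_eq_self_iff.1 ?_
      rw [cj_mul, ← this, ← cj_mul, ← sq, hBel.2 c hc, cj_one]
    omega
  have w12 := relIndex_mul_card (inf_le_left : B₀ ≤ B)
  have w13 := Nat.card_pos (α := B₀)
  have w14 : 2 < Nat.card V := v3
  nlinarith

end Cfsg.Agent.S1305
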