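import Cfsg.Statements.S1306
import Cfsg.Agent.Lib.Comp.Loc

set_option autoImplicit false
open Cfsg

namespace Cfsg.Agent.S1306

/-- Let G be finite, x an involution and L ≤ C_G(x) a component of C_G(x). Suppose L is a component of C_G(y) for every involution y ∈ C_G(L), and ⁅L, g L g⁻¹⁆ ≠ 1 whenever g L g⁻¹ ≠ L. Then L is a standard subgroup of G. -/
theorem result {G : Type*} [Group G] [Finite G] (x : G) (hx : orderOf x = 2) (L : Subgroup G) (hLx : L ≤ Subgroup.centralizer ({x} : Set G)) (hL : Cfsg.IsComponent (L.subgroupOf (Subgroup.centralizer ({x} : Set G)))) (hne : ∀ y : G, orderOf y = 2 → y ∈ Subgroup.centralizer (L : Set G) → L ≤ Subgroup.centralizer ({y} : Set G) ∧ Cfsg.IsComponent (L.subgroupOf (Subgroup.centralizer ({y} : Set G)))) (hnc : ∀ g : G, L.map (MulAut.conj g).toMonoidHom ≠ L → ⁅L, L.map (MulAut.conj g).toMonoidHom⁆ ≠ ⊥) : Cfsg.IsStandardSubgroup L := by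
  open Cfsg.Agent.Comp Subgroup in
  have hL' : CompIn L (centralizer ({x} : Set G)) := compIn_iff.2 ⟨hLx, hL⟩
  have hxL : x ∈ centralizer (L : Set G) := le_centralizer_singleton_iff.1 hLx
  have key : ∀ g y : G, orderOf y = 2 → y ∈ centralizer (L : Set G) → y ∈ cj(g, centralizer (L : Set G)) →
      g ∈ normalizer (L : Set G) := fun g y hy h1 h2 => by
    have a := compIn_iff.2 (hne y hy h1)
    have b := (compIn_iff.2 (hne (g⁻¹ * y * g) (by
      rw [← hy]; simpa using (MulAut.conj g⁻¹).orderOf_eq y) (mem_cj.1 h2))).cj g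
    rw [cj_centralizer_singleton, show g * (g⁻¹ * y * g) * g⁻¹ = y by group] at b
    by_contra hg
    have hne' : cj(g, L) ≠ L := fun e => hg (cj_eq_self_iff.1 e)
    exact hnc g hne' (commutator_eq_bot_iff_le_centralizer.2 (a.le_centralizer_of_ne b hne'.symm))
  refine ⟨hL'.qs.isQuasisimple, ⟨even_iff_two_dvd.2 (hx ▸ orderOf_dvd_natCard _ hxL), fun g hg => ?_⟩, hnc,
    le_antisymm (normalizer_le_normalizer_centralizer L) fun g hg => key g x hx hxL ?_⟩
  · rw [← Nat.not_even_iff_odd, even_iff_two_dvd]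
    intro h
    obtain ⟨y, hy, hy2⟩ := exists_mem_orderOf_eq h
    exact hg (normalizer_le_normalizer_centralizer L (key g y hy2 hy.1 hy.2))
  · rwa [cj_eq_self_iff.2 hg]

end Cfsg.Agent.S1306
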