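import Cfsg.Statements.S1307
import Cfsg.Agent.Lib.Comp.SPE
import Cfsg.Agent.Lib.Transfer.AutS

set_option autoImplicit false
open Cfsg

namespace Cfsg.Agent.S1307

/-- Let G be finite, x an involution and L ≤ C_G(x) a component of C_G(x) of even order and 2-rank 1, such that L is a component of C_G(y) for every involution y ∈ C_G(L). Then some involution of L is a classical involution of G. -/
theorem result {G : Type*} [Group G] [Finite G] (x : G) (hx : orderOf x = 2) (L : Subgroup G) (hLx : L ≤ Subgroup.centralizer ({x} : Set G)) (hL : Cfsg.IsComponent (L.subgroupOf (Subgroup.centralizer ({x} : Set G)))) (heven : Even (Nat.card ↥L)) (hrk : Cfsg.PRankLE 2 1 ↥L) (hne : ∀ y : G, orderOf y = 2 → y ∈ Subgroup.centralizer (L : Set G) → L ≤ Subgroup.centralizer ({y} : Set G) ∧ Cfsg.IsComponent (L.subgroupOf (Subgroup.centralizer ({y} : Set G)))) : ∃ t ∈ L, Cfsg.IsClassicalInvolution t := by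
  open Cfsg.Agent.Comp Subgroup in
  have hL' : CompIn L (centralizer ({x} : Set G)) := compIn_iff.2 ⟨hLx, hL⟩
  obtain ⟨S⟩ : Nonempty (Sylow 2 L) := inferInstance
  have hq : ∃ n : ℕ, Nonempty ((S : Subgroup L) ≃* QuaternionGroup (2 ^ (n + 1))) := by
    have hnc : ¬ IsCyclic S := fun h =>
      hL'.qs.not_isSolvable (Transfer.sol_of_hasNPC_two (Transfer.hasNPC_two_of_isCyclic S h))
    rcases rankOne_or_exists_elementary S.isPGroup' with (h | ⟨-, n, ⟨e⟩⟩) | ⟨E, -, h1, h2⟩
    · exact absurd h hnc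
    · cases n with
      | zero => exact absurd (e.isCyclic.2 QuaternionGroup.quaternionGroup_one_isCyclic) hnc
      | succ n => exact ⟨n, ⟨e⟩⟩
    · have := hrk E h1.1 h1.2
      omega
  obtain ⟨n, ⟨e⟩⟩ := hq
  obtain ⟨t, ht, ht2⟩ := exists_mem_orderOf_eq (p := 2) (H := (⊤ : Subgroup L))
    (by rw [card_top]; exact even_iff_two_dvd.1 heven)
  have hiso : IsIsolatedInvolution t := ⟨ht2, fun g hg => by
    classical
    have h1 : IsElementaryAbelian 2 (zpowers t ⊔ zpowers (g * t * g⁻¹)) :=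
      IsElementaryAbelian.sup (isElementaryAbelian_zpowers (ht2 ▸ pow_orderOf_eq_one t))
        (isElementaryAbelian_zpowers (by rw [conj_pow, ← ht2, pow_orderOf_eq_one]; group))
        (by rw [centralizer_zpowers]; exact zpowers_le.2 (mem_centralizer_singleton_iff.2 hg.eq))
    have h2 := hrk _ h1.1 h1.2
    have h3 : zpowers t = zpowers t ⊔ zpowers (g * t * g⁻¹) :=
      eq_of_le_of_card_ge le_sup_left (by rw [Nat.card_zpowers, ht2]; exact h2)
    have h4 : g * t * g⁻¹ ∈ zpowers t := h3 ▸ mem_sup_right (mem_zpowers _)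
    rw [mem_zpowers_iff_mem_range_orderOf, ht2] at h4
    obtain ⟨i, hi, h5⟩ := Finset.mem_image.1 h4
    have : i = 0 ∨ i = 1 := by have := Finset.mem_range.1 hi; omega
    rcases this with rfl | rfl
    · rw [pow_zero, eq_comm, conj_eq_one_iff] at h5
      rw [h5, orderOf_one] at ht2; omega
    · rw [← h5, pow_one]⟩
  have h1 : (t : G) ∈ centralizer (L : Set G) := by
    have a : Opp 2 L ≤ centralizer (L : Set G) := (hL'.pCompIn (even_iff_two_dvd.1 heven)).compIn_iff.1 hL'
    have b : ⁅zpowers (t : G), L⁆ ≤ Opp 2 L := commutator_zpowers_left_le (le_normalizer_Opp_of_le le_rfl t.2)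
      fun c hc => by
        rw [← map_pPrimeCore]; exact ⟨_, Transfer.zstar hiso ⟨c, hc⟩, rfl⟩
    exact commutator_eq_bot_iff_le_centralizer.1 (commutator_eq_bot_of_perfect hL'.qs.perfect
      (commutator_eq_bot_iff_le_centralizer.2 (b.trans a))) (mem_zpowers _)
  have h2 : orderOf (t : G) = 2 := by rw [Subgroup.orderOf_coe, ht2]
  exact ⟨t, t.2, h2, L, (hne t h2 h1).1, t.2, (hne t h2 h1).2.1, S, n, ⟨e⟩⟩

end Cfsg.Agent.S1307
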