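import Cfsg.Statements.S3752
import Cfsg.Agent.Lib.BG.Sec1

set_option autoImplicit false
open Cfsg

namespace Cfsg.Agent.S3752
section
open Pointwise commutatorElement Subgroup
section
open Subgroup Cfsg.Agent.Comp
open scoped commutatorElement
variable {G : Type*} [Group G] [Finite G] {A B : Subgroup G} {p : ℕ} [Fact p.Prime]

theorem lay_le (hB : Fstar B ≤ A) (hA : Fstar A ≤ B) : Lay A ≤ Lay B := Lay_le_iff.2 fun K hK => by
  have h1 : K ≤ B := (hK.le_Lay.trans (Lay_le_Fstar A)).trans hA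
  refine (hK.le_or_le_centralizer_of_normalizer ((Lay_le_Fstar B).trans hB) (h1.trans (le_normalizer_Lay_self B))).resolve_right
    fun h => hK.qs.not_le_of_isSolvable (have := isNilpotent_Fit B; inferInstance) (le_Fit_of_le_centralizer_Fstar h1 ?_)
  rw [Fstar, Comp.centralizer_sup]
  exact le_inf (BG.le_Ct_comm.1 h) (BG.le_Ct_comm.1 (hK.le_centralizer_of_isSolvable ((Fit_le_Fstar B).trans hB)
    (le_normalizer_Fit_of_le h1) (have := isNilpotent_Fit B; inferInstance)))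

theorem fstar_eq (h : Lay A = ⊥) : Fstar A = Op p A ⊔ Opp p (Fit A) := by
  rw [Fstar, h, bot_sup_eq, ← Op_Fit, Op_sup_Opp_of_isNilpotent (isNilpotent_Fit A)]

theorem cent (hB : Fstar B ≤ A) (hA : Fstar A ≤ B) : Opp p (Fit A) ≤ centralizer (Op p B : Set G) := by
  obtain ⟨n, hn⟩ := (isPGroup_Op p B).exists_card_eq
  exact BG.le_Ct_of_coprime (le_normalizer_Op_of_le (((Opp_le p _).trans (Fit_le_Fstar A)).trans hA))
    (le_normalizer_Opp (le_normalizer_Fit_of_le ((Op_le_Fstar B).trans hB))) (hn ▸ (coprime_Opp p _).pow_right n)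

theorem opp_bot (hB : Fstar B ≤ A) (hA : Fstar A ≤ B) (h : Lay B = ⊥) (h1 : Opp p (Fit B) = ⊥) : Opp p (Fit A) = ⊥ := by
  have h2 := fstar_eq (p := p) h
  rw [h1, sup_bot_eq] at h2
  exact (charP_iff_Fstar.2 h2).eq_bot (((Opp_le p _).trans (Fit_le_Fstar A)).trans hA) (cent hB hA) (coprime_Opp p _)

theorem key (hB : Fstar B ≤ A) (hA : Fstar A ≤ B) (h : Lay A = ⊥)
    (h1 : A ⊓ normalizer (Opp p (Fit B) : Set G) ≤ B) : Op p B ≤ Op p A := by
  have a1 : Opp p (Fit B) ≤ A := ((Opp_le p _).trans (Fit_le_Fstar B)).trans hB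
  have a2 : A ≤ normalizer (Opp p (Fit A) : Set G) := le_normalizer_Opp (le_normalizer_Fit_of_le le_rfl)
  obtain ⟨C, hC⟩ : ∃ C, C = A ⊓ centralizer (Opp p (Fit A) : Set G) := ⟨_, rfl⟩
  have a3 : A ≤ normalizer (C : Set G) := hC ▸ Comp.le_normalizer_inf le_normalizer (Comp.le_normalizer_centralizer a2)
  have a4 : C ≤ A := hC.le.trans inf_le_left
  have a5 : ⁅Opp p (Fit B), C⁆ ≤ C := Subgroup.commutator_comm C _ ▸ Solv.commutator_le_left_of_le_normalizer (a1.trans a3)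
  have a6 : ⁅Opp p (Fit B), C⁆ ≤ Fit A := le_Fit_of_le_centralizer_Fstar (a5.trans a4) (by
    rw [fstar_eq (p := p) h, Comp.centralizer_sup]
    exact le_inf (le_sup_right.trans (sup_commutator_le (cent hA hB) (Comp.le_normalizer_centralizer
      (le_normalizer_Op_of_le a4)))) (a5.trans (hC.le.trans inf_le_right)))
  have a7 : ⁅Opp p (Fit B), C⁆ ≤ Opp p (Opp p (Fit B) ⊔ ⁅Opp p (Fit B), C⁆) := le_sup_right.trans (sup_commutator_le
    (le_Opp le_sup_left (sup_le le_normalizer (le_normalizer_Opp (le_normalizer_Fit_of_le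
      ((a6.trans (Fit_le_Fstar A)).trans hA)))) (coprime_Opp p _)) (le_normalizer_Opp (le_normalizer_sup_commutator _ _)))
  have a8 : ⁅Opp p (Fit B), C⁆ ≤ Opp p (Fit A) := le_Opp_of_isNilpotent (isNilpotent_Fit A) a6
    ((coprime_Opp p _).coprime_dvd_left (card_dvd_of_le a7))
  have a9 : Op p B ≤ A := (Op_le_Fstar B).trans hB
  have b1 : Op p B ≤ C := hC ▸ le_inf a9 (BG.le_Ct_comm.1 (cent hB hA))
  have b2 : Op p B ⊔ ⁅Op p B, A⁆ ≤ centralizer (Opp p (Fit B) : Set G) := by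
    rw [sup_commutator_eq_iSup]
    refine iSup_le fun g => ?_
    have b3 := cj_le_of_mem b1 (a3 g.2)
    obtain ⟨n, hn⟩ := (isPGroup_cj_iff.2 (isPGroup_Op p B) : IsPGroup p cj((g : G), Op p B)).exists_card_eq
    exact BG.le_Ct_of_commutator_le (hn ▸ (coprime_Opp p _).symm.pow_left n) ((commutator_mono le_rfl b3).trans a8)
      (b3.trans (hC.le.trans inf_le_right))
  have b3 : Op p B ⊔ ⁅Op p B, A⁆ ≤ A := sup_commutator_le a9 le_normalizer
  exact ((SubnIn.of_normalizer le_sup_left (le_normalizer_Op_of_le ((le_inf b3 (b2.trans (centralizer_le_normalizer _))).trans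
    h1))).trans (.of_normalizer b3 (le_normalizer_sup_commutator _ _))).le_Op (isPGroup_Op p B)
end
end

/-- Bender's Theorem on primitive pairs. Two distinct subgroups M₁, M₂ of G form a primitive pair when, for {i, j} = {1, 2}, every non-trivial normal subgroup A of M_i contained in M₁ ∩ M₂ satisfies N_{M_j}(A) = M₁ ∩ M₂; the pair has characteristic p when moreover C_{M_i}(O_p(M_i)) ≤ O_p(M_i) for both i and O_p(M₁)O_p(M₂) ≤ M₁ ∩ M₂. If (M₁, M₂) is a primitive pair of the finite group G with F*(M₁) ≤ M₂ and F*(M₂) ≤ M₁, then for some prime p the pair has characteristic p. -/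
theorem result {G : Type*} [Group G] [Finite G] (M₁ M₂ : Subgroup G) (hne : M₁ ≠ M₂) (hP : ∀ A : Subgroup G, A ≠ ⊥ → A ≤ M₁ ⊓ M₂ → (M₁ ≤ Subgroup.normalizer (A : Set G) → M₂ ⊓ Subgroup.normalizer (A : Set G) = M₁ ⊓ M₂) ∧ (M₂ ≤ Subgroup.normalizer (A : Set G) → M₁ ⊓ Subgroup.normalizer (A : Set G) = M₁ ⊓ M₂)) (h₁ : (Cfsg.generalizedFittingSubgroup ↥M₁).map M₁.subtype ≤ M₂) (h₂ : (Cfsg.generalizedFittingSubgroup ↥M₂).map M₂.subtype ≤ M₁) : ∃ p : ℕ, p.Prime ∧ Subgroup.centralizer (Cfsg.pCore p ↥M₁ : Set ↥M₁) ≤ Cfsg.pCore p ↥M₁ ∧ Subgroup.centralizer (Cfsg.pCore p ↥M₂ : Set ↥M₂) ≤ Cfsg.pCore p ↥M₂ ∧ (Cfsg.pCore p ↥M₁).map M₁.subtype ⊔ (Cfsg.pCore p ↥M₂).map M₂.subtype ≤ M₁ ⊓ M₂ := by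
  open Pointwise commutatorElement Subgroup in
  open Cfsg.Agent.Comp in
  rw [map_fstar] at h₁ h₂
  have h0 : ∀ A : Subgroup G, A ≤ M₁ → A ≤ M₂ → M₁ ≤ normalizer (A : Set G) → M₂ ≤ normalizer (A : Set G) → A = ⊥ :=
    fun A a1 a2 a3 a4 => by_contra fun h => hne (le_antisymm
      ((le_inf le_rfl a3).trans (((hP A h (le_inf a1 a2)).2 a4).le.trans inf_le_right))
      ((le_inf le_rfl a4).trans (((hP A h (le_inf a1 a2)).1 a3).le.trans inf_le_left)))
  have e := le_antisymm (lay_le h₂ h₁) (lay_le h₁ h₂)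
  have l1 : Lay M₁ = ⊥ := h0 _ (Lay_le _) (e.le.trans (Lay_le _)) (le_normalizer_Lay_self _) (e ▸ le_normalizer_Lay_self _)
  have l2 : Lay M₂ = ⊥ := e ▸ l1
  obtain ⟨p, hp, h3⟩ : ∃ p : ℕ, p.Prime ∧ Op p M₁ ≠ ⊥ := by
    by_contra h; push Not at h
    have : M₁ = ⊥ := eq_bot_of_Fstar_eq_bot (by rw [Fstar, l1, Fit_eq_bot_iff.2 h, sup_bot_eq])
    exact hne (this.trans (eq_bot_of_Fstar_eq_bot (eq_bot_iff.2 (h₂.trans this.le))).symm)
  haveI := Fact.mk hp
  have f1 : ∀ M : Subgroup G, Opp p (Fit M) ≤ Fstar M := fun M => (Opp_le p _).trans (Fit_le_Fstar M)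
  have f2 : ∀ M : Subgroup G, M ≤ normalizer (Opp p (Fit M) : Set G) := fun M => le_normalizer_Opp (le_normalizer_Fit_of_le le_rfl)
  have h4 : Opp p (Fit M₁) = ⊥ := by_contra fun h => by
    have h' := mt (opp_bot h₂ h₁ l2) h
    have e := le_antisymm (key h₁ h₂ l2 (((hP _ h (le_inf ((f1 _).trans (Fstar_le _)) ((f1 _).trans h₁))).1 (f2 _)).le.trans
      inf_le_left)) (key h₂ h₁ l1 (((hP _ h' (le_inf ((f1 _).trans h₂) ((f1 _).trans (Fstar_le _)))).2 (f2 _)).le.trans inf_le_right))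
    exact h3 (h0 _ (Op_le p _) (e.le.trans (Op_le p _)) (le_normalizer_Op_of_le le_rfl) (e ▸ le_normalizer_Op_of_le le_rfl))
  refine ⟨p, hp, charP_iff_subtype.1 (charP_iff_Fstar.2 ?_), charP_iff_subtype.1 (charP_iff_Fstar.2 ?_), ?_⟩
  · rw [fstar_eq (p := p) l1, h4, sup_bot_eq]
  · rw [fstar_eq (p := p) l2, opp_bot h₁ h₂ l1 h4, sup_bot_eq]
  rw [map_pCore, map_pCore]
  exact sup_le (le_inf (Op_le p _) ((Op_le_Fstar _).trans h₁)) (le_inf ((Op_le_Fstar _).trans h₂) (Op_le p _))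

end Cfsg.Agent.S3752
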