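import Cfsg.Statements.S1312
import Cfsg.Agent.S3752
import Cfsg.Agent.S1856

set_option autoImplicit false
open Cfsg

namespace Cfsg.Agent.S1312

/-- Let G be a non-abelian finite simple group and M ≠ N maximal subgroups of G with F*(M) ≤ N and F*(N) ≤ M. Then there is a prime p such that F*(M) and F*(N) are both p-groups. -/
theorem result {G : Type*} [Group G] [Finite G] [IsSimpleGroup G] (hna : ¬ IsMulCommutative G) (M N : Subgroup G) (hM : IsCoatom M) (hN : IsCoatom N) (hMN : M ≠ N) (h1 : (Cfsg.generalizedFittingSubgroup ↥M).map M.subtype ≤ N) (h2 : (Cfsg.generalizedFittingSubgroup ↥N).map N.subtype ≤ M) : ∃ p : ℕ, p.Prime ∧ IsPGroup p ↥(Cfsg.generalizedFittingSubgroup ↥M) ∧ IsPGroup p ↥(Cfsg.generalizedFittingSubgroup ↥N) := by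
  open Pointwise commutatorElement Subgroup in
  open Cfsg.Agent.Comp in
  obtain ⟨p, hp, a1, a2, -⟩ := S3752.result M N hMN (fun A b1 b2 => ⟨fun h => by
    rw [S1856.nm hM b1 (b2.trans inf_le_left) h, inf_comm], fun h => by rw [S1856.nm hN b1 (b2.trans inf_le_right) h]⟩) h1 h2
  haveI := Fact.mk hp
  have h : ∀ M : Subgroup G, centralizer (pCore p M : Set M) ≤ pCore p M → IsPGroup p (generalizedFittingSubgroup M) := fun M h =>
    isPGroup_map_subtype_iff.1 (by rw [map_fstar]; exact charP_iff_isPGroup_Fstar.1 (charP_iff_subtype.2 h))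
  exact ⟨p, hp, h M a1, h N a2⟩

end Cfsg.Agent.S1312
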