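import Cfsg.Statements.S1313
import Cfsg.Agent.Lib.Comp.Sig

set_option autoImplicit false
open Cfsg

namespace Cfsg.Agent.S1313

open Cfsg.Agent.Comp Subgroup

/-- For a finite group H, |H| ≤ |F*(H)|!. -/
theorem result {H : Type*} [Group H] [Finite H] : Nat.card H ≤ Nat.factorial (Nat.card ↥(Cfsg.generalizedFittingSubgroup H)) := by
  classical
  set F := generalizedFittingSubgroup H with hF
  let f : H →* MulAut F := MulAut.conjNormal
  have hk : f.ker ≤ F := by
    refine le_trans (fun x hx => mem_centralizer_iff.2 fun y hy => ?_) centralizer_fstar_le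
    have : x * y * x⁻¹ = y :=
      congrArg (fun e : MulAut F => (e ⟨y, hy⟩ : H)) (MonoidHom.mem_ker.1 hx)
    exact (mul_inv_eq_iff_eq_mul.1 this).symm
  have h1 : Nat.card (MulAut F) ≤ Nat.factorial (Nat.card F - 1) := by
    let g : MulAut F → Equiv.Perm {x : F // x ≠ 1} := fun e =>
      Equiv.Perm.subtypePerm e.toEquiv fun x => by simp
    have hg : Function.Injective g := fun a b e => by
      ext x
      by_cases hx : x = 1
      · simp [hx]
      · exact congrArg (fun e : Equiv.Perm {x : F // x ≠ 1} => ((e ⟨x, hx⟩ : F) : H)) e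
    refine (Nat.card_le_card_of_injective g hg).trans ?_
    rw [Nat.card_perm]
    have : Nat.card {x : F // x ≠ 1} = Nat.card F - 1 := by
      have := Fintype.ofFinite F
      simp only [Nat.card_eq_fintype_card, ne_eq, Fintype.card_subtype_compl,
        Fintype.card_unique]
    rw [this]
  have h2 : Nat.card H ≤ Nat.card (MulAut F) * Nat.card F := by
    rw [card_eq_card_quotient_mul_card_subgroup f.ker]
    exact Nat.mul_le_mul (Nat.card_le_card_of_injective _ (QuotientGroup.kerLift_injective f))
      (card_le_of_le hk)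
  refine h2.trans ((Nat.mul_le_mul_right _ h1).trans ?_)
  rw [mul_comm, Nat.mul_factorial_pred Nat.card_pos.ne']

end Cfsg.Agent.S1313
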