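import Cfsg.Statements.S1314
import Cfsg.Agent.Lib.FT.Pump

set_option autoImplicit false
open Cfsg

namespace Cfsg.Agent.S1314

/-- Let x be an involution of a group G and L a perfect subgroup with ⁅L, x L x⁻¹⁆ = 1. Then l ↦ l (x l x⁻¹) is a group homomorphism π from L to G whose kernel is central in L and whose image lies in C_G(x); and the commutator subgroup of C_{L ⊔ xLx⁻¹}(x) equals the image of π. -/
theorem result {G : Type*} [Group G] [Finite G] (x : G) (hx : orderOf x = 2) (L : Subgroup G) (hperf : ⁅L, L⁆ = L) (hcomm : ⁅L, L.map (MulAut.conj x).toMonoidHom⁆ = ⊥) : ∃ π : ↥L →* G, (∀ l : ↥L, π l = (l : G) * (x * (l : G) * x⁻¹)) ∧ π.ker ≤ Subgroup.center ↥L ∧ π.range ≤ Subgroup.centralizer ({x} : Set G) ∧ ⁅(L ⊔ L.map (MulAut.conj x).toMonoidHom) ⊓ Subgroup.centralizer ({x} : Set G), (L ⊔ L.map (MulAut.conj x).toMonoidHom) ⊓ Subgroup.centralizer ({x} : Set G)⁆ = π.range := by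
  open Cfsg.Agent.Comp Subgroup in
  have hxx : x * x = 1 := by rw [← sq, ← hx, pow_orderOf_eq_one]
  have hc := commutator_eq_bot_iff'.1 hcomm
  have hc' := le_centralizer_iff.1 hc
  have hm : ∀ l ∈ L, x * l * x⁻¹ ∈ centralizer (L : Set G) := fun l hl => hc (conj_mem_cj.2 hl)
  let π : L →* G := MonoidHom.mk' (fun l => l * (x * l * x⁻¹)) fun a b => by
    have := hm a a.2 b b.2
    calc _ = a * (b * (x * a * x⁻¹)) * (x * b * x⁻¹) := by simp only [coe_mul]; group
      _ = _ := by rw [this]; group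
  have hπ : ∀ l : L, π l = l * (x * l * x⁻¹) := fun _ => rfl
  have h1 : π.range ≤ centralizer ({x} : Set G) := by
    rintro _ ⟨l, rfl⟩
    refine mem_centralizer_singleton_iff.2 ?_
    rw [hπ, hm l l.2 l l.2, show x⁻¹ = x from inv_eq_of_mul_eq_one_right hxx]
    have := hm l l.2 l l.2
    rw [show x⁻¹ = x from inv_eq_of_mul_eq_one_right hxx] at this
    calc _ = x * (l * (x * l * x)) := by group
      _ = _ := by rw [this]
  have h2 : π.range ≤ L ⊔ cj(x, L) := by
    rintro _ ⟨l, rfl⟩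
    exact mul_mem (mem_sup_left l.2) (mem_sup_right (conj_mem_cj.2 l.2))
  have h3 : ⁅π.range, π.range⁆ = π.range := by
    rw [MonoidHom.range_eq_map, ← map_commutator]; congr 1
    refine map_injective L.subtype_injective ?_
    rw [map_commutator, map_subtype_top, hperf]
  refine ⟨π, hπ, fun l hl => ?_, h1, le_antisymm ?_ ?_⟩
  · rw [← subgroupOf_centralizer_self, mem_subgroupOf]
    have := eq_inv_of_mul_eq_one_left (show (l : G) * (x * l * x⁻¹) = 1 from hl)
    rw [this]; exact inv_mem (hm l l.2)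
  · set J := L ⊔ cj(x, L)
    have h4 : J ⊓ centralizer ({x} : Set G) ≤ π.range ⊔ (J ⊓ centralizer (J : Set G)) := by
      rintro c ⟨c1, c2⟩
      obtain ⟨l, hl, d, hd, rfl⟩ := (mem_sup_of_le_normalizer' (le_normalizer_of_le_centralizer hc)).1 c1
      have e : l * d = π ⟨l, hl⟩ * ((π ⟨l, hl⟩)⁻¹ * (l * d)) := by group
      rw [e]
      refine mul_mem (mem_sup_left ⟨_, rfl⟩) (mem_sup_right ⟨Subgroup.mul_mem _ (Subgroup.inv_mem _
        (h2 ⟨_, rfl⟩)) c1, ?_⟩)
      have h5 : (π ⟨l, hl⟩)⁻¹ * (l * d) ∈ centralizer (L : Set G) := by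
        have e : (π ⟨l, hl⟩)⁻¹ * (l * d) = (x * l * x⁻¹)⁻¹ * d := by rw [hπ]; group
        rw [e]; exact Subgroup.mul_mem _ (Subgroup.inv_mem _ (hm l hl)) (hc hd)
      have := inf_centralizer_le_centralizer_Orb (zpowers x) L ⟨by
        rw [centralizer_zpowers]; exact Subgroup.mul_mem _ (Subgroup.inv_mem _ (h1 ⟨_, rfl⟩)) c2, h5⟩
      exact centralizer_mono (sup_le (le_Orb _ _) (cj_le_Orb _ (mem_zpowers x))) this
    rw [← h3, ← commutator_sup_central (inf_le_right.trans (centralizer_mono h2))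
      (inf_le_right.trans (centralizer_mono inf_le_left))]
    exact commutator_mono h4 h4
  · rw [← h3]; exact commutator_mono (le_inf h2 h1) (le_inf h2 h1)

end Cfsg.Agent.S1314
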