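import Cfsg.Statements.S1316
import Cfsg.Agent.Lib.Comp.Sig

set_option autoImplicit false
open Cfsg

namespace Cfsg.Agent.S1316

open Cfsg.Agent.Comp Subgroup

/-- For a finite group X, E(X) equals the intersection of the derived series of F*(X) (its last term). -/
theorem result {X : Type*} [Group X] [Finite X] : (⨅ n : ℕ, (derivedSeries ↥(Cfsg.generalizedFittingSubgroup X) n).map (Cfsg.generalizedFittingSubgroup X).subtype) = Cfsg.layer X := by
  have key : ∀ n, (derivedSeries (generalizedFittingSubgroup X) (n + 1)).map
      (generalizedFittingSubgroup X).subtype = ⁅(derivedSeries (generalizedFittingSubgroup X) n).map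
      (generalizedFittingSubgroup X).subtype, (derivedSeries (generalizedFittingSubgroup X) n).map
      (generalizedFittingSubgroup X).subtype⁆ := fun n => by
    rw [derivedSeries_succ, map_commutator]
  apply le_antisymm
  · have : Group.IsSolvable (fittingSubgroup X) :=
      have := isNilpotent_fitting (G := X); inferInstance
    obtain ⟨n, hn⟩ := (Group.isSolvable_of_surjective (f := (QuotientGroup.mk' ((layer X).subgroupOf
      (generalizedFittingSubgroup X))).comp (inclusion (le_sup_right : fittingSubgroup X ≤ _))) (by
        intro y
        obtain ⟨⟨x, hx⟩, rfl⟩ := QuotientGroup.mk'_surjective _ y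
        obtain ⟨a, ha, b, hb, rfl⟩ := mem_sup_of_normal_left.1 hx
        refine ⟨⟨b, hb⟩, ?_⟩
        simp only [MonoidHom.comp_apply, QuotientGroup.mk'_apply, QuotientGroup.eq, mem_subgroupOf]
        change b⁻¹ * (a * b) ∈ layer X
        simpa [mul_assoc] using (layer_normal (G := X)).conj_mem' a ha b)).solvable
    refine (iInf_le _ n).trans ?_
    rw [map_subtype_le_iff, ← QuotientGroup.ker_mk' ((layer X).subgroupOf _),
      ← Subgroup.map_eq_bot_iff, map_derivedSeries_eq (QuotientGroup.mk'_surjective _), hn]
  · refine le_iInf fun n => ?_
    induction n with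
    | zero => rw [derivedSeries_zero, map_subtype_top]; exact le_sup_left
    | succ n ih =>
      rw [key, ← Lay_top, ← Lay_perfect, Lay_top]
      exact commutator_mono ih ih

end Cfsg.Agent.S1316
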