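import Cfsg.Statements.S1319
import Cfsg.Agent.Lib.Comp.Sig

set_option autoImplicit false
open Cfsg

namespace Cfsg.Agent.S1319

open Cfsg.Agent.Comp Subgroup

/-- Let A be a subnormal subgroup of the finite group X with E(A) = A. Then A ≤ E(X) and A is normal in E(X). -/
theorem result {X : Type*} [Group X] [Finite X] (A : Subgroup X) (hsn : A.IsSubnormal) (hA : Cfsg.layer ↥A = ⊤) : A ≤ Cfsg.layer X ∧ (A.subgroupOf (Cfsg.layer X)).Normal := by
  have h : Lay A = A := by rw [← map_layer, hA, map_subtype_top]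
  have hs := SubnIn.of_isSubnormal hsn
  rw [← Lay_top]
  refine ⟨h ▸ Lay_mono_subnIn hs, normal_subgroupOf_of_le_normalizer ?_⟩
  rw [← Lay_sup_LayNot hs, h]
  exact sup_le le_normalizer (le_normalizer_of_le_centralizer (LayNot_le_centralizer hs))

end Cfsg.Agent.S1319
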