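import Cfsg.Statements.S1322
import Cfsg.Agent.Lib.FT.Pump3

set_option autoImplicit false
open Cfsg

namespace Cfsg.Agent.S1322

/-- Let G be finite with L_{2'}(G) = E(G), t an involution and L ≤ C_G(t) a component of C_G(t). Then there is a component D of G with: L = D; or L < D and D = ⁅D, ⟨t⟩⁆; or tDt⁻¹ ≠ D and L is the layer of C_{D ⊔ tDt⁻¹}(t). -/
theorem result {G : Type*} [Group G] [Finite G] (hL2 : Cfsg.pLayer 2 G = Cfsg.layer G) (t : G) (ht : orderOf t = 2) (L : Subgroup G) (hLt : L ≤ Subgroup.centralizer ({t} : Set G)) (hL : Cfsg.IsComponent (L.subgroupOf (Subgroup.centralizer ({t} : Set G)))) : ∃ D : Subgroup G, Cfsg.IsComponent D ∧ (L = D ∨ (L < D ∧ D = ⁅D, Subgroup.zpowers t⁆) ∨ (D.map (MulAut.conj t).toMonoidHom ≠ D ∧ L = (Cfsg.layer ↥((D ⊔ D.map (MulAut.conj t).toMonoidHom) ⊓ Subgroup.centralizer ({t} : Set G))).map ((D ⊔ D.map (MulAut.conj t).toMonoidHom) ⊓ Subgroup.centralizer ({t} : Set G)).subtype))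 := by
  open Cfsg.Agent.Comp Subgroup in
  have h1 : CompIn L (⊤ ⊓ centralizer ({t} : Set G)) := by rw [top_inf_eq]; exact compIn_iff.2 ⟨hLt, hL⟩
  obtain ⟨D, hD, h | ⟨a, -, b⟩ | ⟨a, -, δ, -, -, b, c, d⟩⟩ := h1.pCompIn_two.pump_two ht
    (le_normalizer_normal ⊤ ⊤ (mem_top t)) (by rw [PLay_top, Lay_top, hL2])
  · exact ⟨D, compIn_top_iff.1 hD, Or.inl h⟩
  · exact ⟨D, compIn_top_iff.1 hD, Or.inr (Or.inl ⟨a, b.symm⟩)⟩
  · refine ⟨D, compIn_top_iff.1 hD, Or.inr (Or.inr ⟨fun e => a (cj_eq_self_iff.1 e), ?_⟩)⟩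
    rw [map_layer]
    refine le_antisymm (h1.of_le (le_inf c hLt) (inf_le_inf_right _ le_top)).le_Lay ?_
    have h2 := (Lay_le _).trans d
    rw [← Lay_perfect, ← b.perfect, ← commutator_sup_central (inf_le_right.trans (centralizer_mono c))
      (inf_le_right.trans (centralizer_mono inf_le_left))]
    exact commutator_mono h2 h2

end Cfsg.Agent.S1322
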