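import Cfsg.Statements.S1328
import Cfsg.Agent.Lib.Comp.Bal
import Cfsg.Agent.Lib.Comp.Loc

set_option autoImplicit false
open Cfsg

namespace Cfsg.Agent.S1328

/-- Let G be finite, H ≤ G with O(H) = 1, t an involution of G normalizing H, and Y a nontrivial subgroup of O(C_H(t)). Then some component E of H is normalized by t and by Y and centralized by neither t nor Y. -/
theorem result {G : Type*} [Group G] [Finite G] (H : Subgroup G) (hO : Cfsg.oddCore ↥H = ⊥) (t : G) (ht : orderOf t = 2) (htH : t ∈ Subgroup.normalizer (H : Set G)) (Y : Subgroup G) (hY1 : Y ≠ ⊥) (hY : Y ≤ (Cfsg.oddCore ↥(H ⊓ Subgroup.centralizer ({t} : Set G))).map (H ⊓ Subgroup.centralizer ({t} : Set G)).subtype) : ∃ E : Subgroup ↥H, Cfsg.IsComponent E ∧ (E.map H.subtype).map (MulAut.conj t).toMonoidHom = E.map H.subtype ∧ Y ≤ Subgroup.normalizer ((E.map H.subtype : Subgroup G) : Set G) ∧ ¬ (t ∈ Subgroup.centralizer ((E.map H.subtype : Subgroup G) : Set G)) ∧ ¬ (Y ≤ Subgroup.centralizer ((E.map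 H.subtype : Subgroup G) : Set G)) := by
  open Cfsg.Agent.Comp Subgroup in
  have hT : IsPGroup 2 (zpowers t) := isPGroup_zpowers_of_orderOf_eq ht
  have hn : zpowers t ≤ normalizer (H : Set G) := zpowers_le.2 htH
  set M := H ⊔ zpowers t with hM
  have hHM : SubnIn H M := SubnIn.of_normalizer le_sup_left (sup_le le_normalizer hn)
  have htM : t ∈ M := mem_sup_right (mem_zpowers t)
  have hO' : Opp 2 M = ⊥ := by
    have h1 : Opp 2 M ≤ H := (le_Res (Opp_le 2 M) (coprime_Opp 2 M)).trans (Res_sup_le' hn hT)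
    exact le_bot_iff.1 ((Opp_le_Opp le_sup_left h1).trans (Opp_eq_bot_iff.2 hO).le)
  rw [map_pPrimeCore] at hY
  have hY' : Y ≤ Opp 2 (M ⊓ centralizer ({t} : Set G)) := hY.trans ((hHM.inf_right _).Opp_le 2)
  have h1 : ∃ L, CompIn L M ∧ ¬ Y ≤ centralizer (L : Set G) := by
    by_contra h
    push Not at h
    have a : Y ≤ Fit M := le_Fit_of_le_centralizer_Fstar (hY'.trans ((Opp_le _ _).trans inf_le_left)) (by
      rw [Fstar, Fit_eq_Op hO']
      exact le_centralizer_sup (le_centralizer_sSup.2 h) (hY'.trans (le_sup_right.trans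
        (PLay_sup_Opp_centralizer_le_centralizer_Op htM hT))))
    rw [Fit_eq_Op hO'] at a
    exact hY1 (eq_bot_of_le_of_coprime a hY' (coprime_card_of_isPGroup (isPGroup_Op 2 M) (coprime_Opp 2 _)))
  obtain ⟨L, hL, h2⟩ := h1
  have h3 : ⁅L, zpowers t⁆ = L := by
    by_contra h
    exact h2 (hY'.trans (hL.Opp_centralizer_le_centralizer hO' htM ht h))
  have hLH : L ≤ H := le_of_perfect_of_le_sup hL.qs.perfect (isSolvable_of_isPGroup hT) hn hL.le
  refine ⟨L.subgroupOf H, (compIn_iff.1 (hL.of_le hLH le_sup_left)).2, ?_⟩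
  rw [map_subgroupOf_eq_of_le hLH]
  refine ⟨cj_eq_self_iff.2 ?_, hY'.trans (le_sup_right.trans
    (hL.PLay_sup_Opp_centralizer_le_normalizer hO' htM hT)), fun h => hL.qs.ne_bot ?_, h2⟩
  · have := sup_le_normalizer_commutator L (zpowers t) (mem_sup_right (mem_zpowers t))
    rwa [h3] at this
  · rw [← h3, commutator_eq_bot_iff']; exact zpowers_le.2 h

end Cfsg.Agent.S1328
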