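import Cfsg.Statements.S1335
import Cfsg.Agent.Lib.Comp.SylIn

set_option autoImplicit false
open Cfsg

namespace Cfsg.Agent.S1335

/-- Let H be a subgroup of the finite group G, p a prime, k ≥ 1, P a Sylow p-subgroup of H of p-rank at least k, and suppose N_G(X) ≤ H for every subgroup X ≤ P of p-rank at least k. Then P is a Sylow p-subgroup of G. -/
theorem result {G : Type*} [Group G] [Finite G] {p : ℕ} [Fact p.Prime] (k : ℕ) (hk : 1 ≤ k) (H : Subgroup G) (P : Sylow p ↥H) (hP : ¬ Cfsg.PRankLE p (k - 1) ↥(P : Subgroup ↥H)) (hΓ : (∀ X : Subgroup G, X ≤ (P : Subgroup ↥H).map H.subtype → ¬ Cfsg.PRankLE p (k - 1) ↥X → Subgroup.normalizer (X : Set G) ≤ H)) : ∃ Q : Sylow p G, (Q : Subgroup G) = (P : Subgroup ↥H).map H.subtype := by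
  open Cfsg.Agent.Comp Subgroup in
  have h1 := sylIn_sylow P
  have h2 := hΓ _ le_rfl fun h => hP fun A a b => by
    let e := (P : Subgroup H).equivMapOfInjective _ H.subtype_injective
    rw [← card_map_of_injective (f := e.toMonoidHom) e.injective]
    refine h _ inferInstance ?_
    rintro _ ⟨x, hx, rfl⟩
    rw [← map_pow, b x hx, map_one]
  exact ⟨(SylIn.of_normalizer le_top (h1.of_le (le_inf le_top le_normalizer)
    (inf_le_right.trans h2))).toSylowTop, rfl⟩

end Cfsg.Agent.S1335
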