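import Cfsg.Statements.S1336
import Cfsg.Agent.Lib.BG.PLen

set_option autoImplicit false
open Cfsg

namespace Cfsg.Agent.S1336

/-- Let G be finite and p prime. Then G has a proper subgroup H with p ∣ |H| and p ∤ |H ∩ gHg⁻¹| for every g ∉ H (a strongly p-embedded subgroup) if and only if G is not 1-connected for p. -/
theorem result {G : Type*} [Group G] [Finite G] (p : ℕ) [Fact p.Prime] : (∃ H : Subgroup G, H ≠ ⊤ ∧ p ∣ Nat.card ↥H ∧ ∀ g : G, g ∉ H → ¬ p ∣ Nat.card ↥(H ⊓ H.map (MulAut.conj g).toMonoidHom)) ↔ ¬ Cfsg.IsKConnected p 1 G := by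
  open Pointwise commutatorElement Subgroup in
  open Cfsg.Agent.Comp Cfsg.Agent.BG Subgroup commutatorElement in
  have hp : p.Prime := Fact.out
  have hz : ∀ x : G, orderOf x = p → IsElementaryAbelian p (zpowers x) ∧ p ^ 1 ≤ Nat.card (zpowers x) := fun x hx =>
    ⟨⟨inferInstance, by rintro _ ⟨k, rfl⟩; rw [← hx, ← zpow_natCast, ← zpow_mul, mul_comm, zpow_mul, zpow_natCast,
      pow_orderOf_eq_one, one_zpow]⟩, by rw [Nat.card_zpowers, hx, pow_one]⟩
  have hx : ∀ A : Subgroup G, IsElementaryAbelian p A → p ^ 1 ≤ Nat.card A → ∃ x ∈ A, orderOf x = p := fun A h1 h2 => by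
    obtain ⟨x, x1, x2⟩ := Solv.exists_ne_one_of_ne_bot (H := A) fun e => by
      rw [e, card_bot, pow_one] at h2; exact hp.one_lt.not_ge h2
    exact ⟨x, x1, orderOf_eq_prime (h1.2 x x1) x2⟩
  simp only [← spe_top_iff']
  refine ⟨fun ⟨H, h⟩ hc => ?_, fun h => not_isSylowChainConnected_iff.1 fun hc => h fun E E' e1 e2 e3 e4 => ?_⟩
  · obtain ⟨x, x1, x2⟩ := exists_mem_orderOf_eq h.dvd
    refine h.not_le fun g _ => h.mem x x1 x2 g (mem_top g) (zpowers_le.1 ?_)
    have x3 := (Comp.orderOf_conj g x).trans x2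
    have h1 := hc _ _ (hz x x2).1 (hz x x2).2 (hz _ x3).1 (hz _ x3).2
    generalize zpowers (g * x * g⁻¹) = B at h1
    induction h1 with
    | refl => exact zpowers_le.2 x1
    | tail _ h2 ih =>
      obtain ⟨y, y1, y2⟩ := hx _ h2.1 h2.2.1
      exact fun b hb => h.centralizer_le (ih y1) y2 ⟨mem_top b, mem_centralizer_singleton_iff.2 (h2.2.2.2.2 y y1 b hb).symm⟩
  · obtain ⟨S, hS⟩ := (Solv.isPGroup_of_pow_eq_one e1.2).exists_le_sylow
    obtain ⟨T, hT⟩ := (Solv.isPGroup_of_pow_eq_one e3.2).exists_le_sylow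
    have key : ∀ (T : Sylow p G) (A B : Subgroup G), IsElementaryAbelian p A → p ^ 1 ≤ Nat.card A → IsElementaryAbelian p B →
        p ^ 1 ≤ Nat.card B → A ≤ T → B ≤ T → Relation.ReflTransGen (fun A B : Subgroup G => IsElementaryAbelian p A ∧
          p ^ 1 ≤ Nat.card ↥A ∧ IsElementaryAbelian p B ∧ p ^ 1 ≤ Nat.card ↥B ∧ ∀ a ∈ A, ∀ b ∈ B, a * b = b * a) A B := by
      intro T A B a1 a2 b1 b2 a3 b3
      obtain ⟨x, x1, x2⟩ := hx A a1 a2
      obtain ⟨z, z1, z2⟩ := exists_mem_orderOf_eq (dvd_card_of_isPGroup (T.2.to_inf_left (K := Ct((T : Subgroup G))))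
        (Solv.inf_centralizer_ne_bot_of_nilpotent T.2.isNilpotent le_rfl le_normalizer
          (ne_bot_of_mem (a3 x1) fun e => hp.one_lt.ne (by rw [← x2, e, orderOf_one]))))
      have z3 := zpowers_le.2 z1.2
      exact .head ⟨a1, a2, (hz z z2).1, (hz z z2).2, fun a ha b hb => z3 hb a (a3 ha)⟩
        (.single ⟨(hz z z2).1, (hz z z2).2, b1, b2, fun a ha b hb => (z3 ha b (b3 hb)).symm⟩)
    have h1 := isSylowChainConnected_iff.1 hc S T
    induction h1 generalizing E' with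
    | refl => exact key S _ _ e1 e2 e3 e4 hS hT
    | @tail A B _ h2 ih =>
      obtain ⟨z, z1, z2⟩ := exists_mem_orderOf_eq (dvd_card_of_isPGroup A.2.to_inf_left h2)
      exact (ih _ (hz z z2).1 (hz z z2).2 (zpowers_le.2 z1.1)).trans
        (key B _ _ (hz z z2).1 (hz z z2).2 e3 e4 (zpowers_le.2 z1.2) hT)

end Cfsg.Agent.S1336
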