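import Cfsg.Statements.S1337
import Cfsg.Agent.Lib.BG.MinNA

set_option autoImplicit false
open Cfsg

namespace Cfsg.Agent.S1337

/-- Let P be a finite p-group of p-rank greater than 2. Then P has a normal elementary abelian subgroup U of order p², and for every elementary abelian X ≤ P with |X| ≥ p²: X is joined to U by a chain of pairwise commuting elementary abelian subgroups of order ≥ p² if and only if C_P(X) has p-rank greater than 2. -/
theorem result {P : Type*} [Group P] [Finite P] (p : ℕ) [Fact p.Prime] (hP : IsPGroup p P) (hrk : ¬ Cfsg.PRankLE p 2 P) : ∃ U : Subgroup P, U.Normal ∧ Cfsg.IsElementaryAbelian p U ∧ Nat.card ↥U = p ^ 2 ∧ ∀ X : Subgroup P, Cfsg.IsElementaryAbelian p X → p ^ 2 ≤ Nat.card ↥X → (Relation.ReflTransGen (fun A B : Subgroup P => Cfsg.IsElementaryAbelian p A ∧ p ^ 2 ≤ Nat.card ↥A ∧ Cfsg.IsElementaryAbelian p B ∧ p ^ 2 ≤ Nat.card ↥B ∧ ∀ a ∈ A, ∀ b ∈ B, a * b = b * a) X U ↔ ¬ Cfsg.PRankLE p 2 ↥(Subgroup.centralizer (X : Set P)))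 := by
  open Pointwise commutatorElement Subgroup in
  open Cfsg.Agent.Comp Cfsg.Agent.BG Subgroup commutatorElement in
  have hp : p.Prime := Fact.out
  have h3 : 3 ≤ prank p (⊤ : Subgroup P) := by
    rw [← prank_top_le_iff] at hrk
    omega
  obtain ⟨U, u1, u2⟩ : ∃ U : Subgroup P, El p 2 U ∧ ⊤ ≤ Nm(U) := by
    have nc : ¬ IsCyclic (⊤ : Subgroup P) := fun e => by have := prank_le_one_of_isCyclic (p := p) e; omega
    by_cases h2 : p = 2
    · subst h2
      by_cases h : ∀ A ≤ (⊤ : Subgroup P), ⊤ ≤ Nm(A) → IsMulCommutative A → IsCyclic A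
      · obtain ⟨a, b, m, e1, -, -, e2, -⟩ := Solv.two_group_normal_form (hP.to_subgroup ⊤) h nc
        have e3 := prank_le_add (p := 2) (K := zpowers a) (H := ⊤) (j := 1) (le_of_eq (Nat.eq_of_mul_eq_mul_left
          (Nat.card_pos (α := zpowers a)) (by rw [Solv.card_mul_relIndex le_top, e2, Nat.card_zpowers, e1]; ring)))
        have := prank_le_one_of_isCyclic (p := 2) (H := zpowers a) inferInstance
        omega
      push Not at h
      obtain ⟨A, -, a1, a2, a3⟩ := h
      obtain ⟨E, -, e1, e2, e3, e4⟩ := Solv.exists_normal_elementary_sq_of_abelian (hP.to_subgroup ⊤).isNilpotent a2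
        (hP.to_subgroup A) le_top a1 a3
      exact ⟨E, ⟨⟨e2, e3⟩, e1⟩, e4⟩
    · obtain ⟨E, -, e1, e2⟩ := exists_normal_el_two h2 (hP.to_subgroup ⊤) le_rfl le_normalizer nc
      exact ⟨E, e1, e2⟩
  have k : ∀ E : Subgroup P, El p 3 E → ∃ C, C ≤ E ⊓ Ct(U) ∧ El p 2 C := fun E e => e.exists_le_inf (j := 1)
    ((relIndex_Ct_le (hP.to_subgroup E) u1.isP (le_top.trans u2) u1.card.le).trans (pow_one p).ge) le_rfl
  have m : ∀ X B : Subgroup P, IsElementaryAbelian p X → IsElementaryAbelian p B → p ^ 2 ≤ Nat.card X → B ≤ Ct(X) →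
      PRankLE p 2 Ct(X) → B ≤ X := fun X B a b c d e =>
    le_sup_left.trans (eq_of_le_of_card_ge le_sup_right (((card_le_pow_prank (elem_sup b a d)
      (sup_le d (elem_le_Ct a))).trans (Nat.pow_le_pow_right hp.pos (prank_le_iff.2 e))).trans c)).ge
  refine ⟨U, normalizer_eq_top_iff.1 (top_le_iff.1 u2), u1.elem, u1.card, fun X x1 x2 => ⟨fun h e => ?_, fun h => ?_⟩⟩
  · have : U = X := by
      clear k u1 u2
      induction h with
      | refl => rfl
      | tail _ h ih =>
        subst ih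
        exact eq_of_le_of_card_ge (m _ _ x1 h.2.2.1 x2 (fun b hb a ha => h.2.2.2.2 a ha b hb) e)
          (((card_le_pow_prank x1 (elem_le_Ct x1)).trans (Nat.pow_le_pow_right hp.pos (prank_le_iff.2 e))).trans h.2.2.2.1)
    subst this
    obtain ⟨E, -, e1⟩ := exists_el_of_le_prank h3
    obtain ⟨C, c1, c2⟩ := k E e1
    obtain rfl := c2.eq_of_le u1 (m U C x1 c2.elem x2 (c1.trans inf_le_right) e)
    have := e1.le_prank (H := Ct(C)) (e1.le_Ct.trans (centralizer_le (c1.trans inf_le_left)))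
    have := prank_le_iff.2 e
    omega
  · obtain ⟨E, e0, e1⟩ := exists_el_of_le_prank (not_pRankLE_iff.1 h)
    obtain ⟨C, c1, c2⟩ := k E e1
    refine Relation.ReflTransGen.head (b := C) ⟨x1, x2, c2.elem, c2.card.ge, fun a ha b hb => e0 (c1 hb).1 a ha⟩
      (Relation.ReflTransGen.single ⟨c2.elem, c2.card.ge, u1.elem, u1.card.ge, fun a ha b hb => ((c1 ha).2 b hb).symm⟩)

end Cfsg.Agent.S1337
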