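import Cfsg.Statements.S1340
import Mathlib
import Cfsg.Agent.Lib.Perm.Std

set_option autoImplicit false
open Cfsg

namespace Cfsg.Agent.S1340

open Cfsg.Agent.Perm.Std Matrix

/-- Let F be a finite field of odd order and n ≥ 3 with (n, |F|) ≠ (3, 3). Then GL(n, F) has a non-central involution t such that C(t) / O(C(t)) has a component. -/
theorem result {F : Type*} [Field F] [Fintype F] [DecidableEq F] (hF : Odd (Fintype.card F)) (n : ℕ) (hn : 3 ≤ n) (h33 : ¬ (n = 3 ∧ Fintype.card F = 3)) : ∃ t : Matrix.GeneralLinearGroup (Fin n) F, orderOf t = 2 ∧ t ∉ Subgroup.center (Matrix.GeneralLinearGroup (Fin n) F) ∧ Cfsg.HasComponent (↥(Subgroup.centralizer ({t} : Set (Matrix.GeneralLinearGroup (Fin n) F))) ⧸ Cfsg.oddCore ↥(Subgroup.centralizer ({t} : Set (Matrix.GeneralLinearGroup (Fin n) F)))) := by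
  obtain ⟨m, h⟩ : ∃ m, m + 1 = n := ⟨n - 1, by omega⟩
  have h2 := two_ne hF
  have tt : bk h (-1 : Matrix (Fin m) (Fin m) F) 1 * bk h (-1) 1 = 1 := by rw [bk_mul, ← bk_one h]; simp
  let t : GL (Fin n) F := ⟨bk h (-1) 1, bk h (-1) 1, tt, tt⟩
  have ne1 : (-1 : F) ≠ 1 := fun e => h2 (by linear_combination -e)
  have tc : t ∉ Subgroup.center (GL (Fin n) F) := by
    intro hc
    obtain ⟨r, hr⟩ := Matrix.GeneralLinearGroup.mem_center_iff_val_mem_range_scalar.1 hc
    change _ = bk h (-1) 1 at hr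
    rw [bk_diag] at hr
    have e1 := congrFun (congrFun hr ⟨0, by omega⟩) ⟨0, by omega⟩
    have e2 := congrFun (congrFun hr ⟨m, by omega⟩) ⟨m, by omega⟩
    simp only [scalar_apply, diagonal_apply_eq, h, if_true] at e1 e2
    rw [if_neg (by omega), e2] at e1
    exact ne1 e1.symm
  refine ⟨t, orderOf_eq_prime (by rw [pow_two]; exact Units.ext tt) (fun e => tc (e ▸ one_mem _)), tc, ?_⟩
  have hij : (⟨0, by omega⟩ : Fin m) ≠ ⟨1, by omega⟩ := by simp
  let f : Matrix.SpecialLinearGroup (Fin m) F →* GL (Fin n) F := Matrix.SpecialLinearGroup.toGL.comp (ps h)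
  have fi : Function.Injective f := Matrix.SpecialLinearGroup.toGL_injective.comp (ps_inj h)
  refine hasC (L := f.range) ?_ ?_ ?_ (x := f (Matrix.SpecialLinearGroup.diag2n hij (-1) (by simp))) ⟨_, rfl⟩ ?_
  · rw [MonoidHom.range_eq_map]
    refine (qsSL (by omega) ?_).map_of_injective fi
    have := Fintype.one_lt_card (α := F)
    rw [Nat.card_eq_fintype_card]
    obtain ⟨k, hk⟩ := hF
    omega
  · rintro _ ⟨s, rfl⟩
    rw [Subgroup.mem_centralizer_singleton_iff]
    refine Units.ext ?_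
    change bk h s.1 1 * bk h (-1) 1 = bk h (-1) 1 * bk h s.1 1
    rw [bk_mul, bk_mul]; simp
  · rw [Subgroup.commutator_le]
    have k : ∀ x ∈ Subgroup.centralizer ({t} : Set (GL (Fin n) F)), ∃ A d, x.1 = bk h A d :=
      fun x hx => bk_cen h h2 (congrArg Units.val (Subgroup.mem_centralizer_singleton_iff.1 hx))
    intro x hx y hy
    obtain ⟨A, a, e1⟩ := k x hx
    obtain ⟨B, b, e2⟩ := k y hy
    obtain ⟨A', a', e3⟩ := k _ (inv_mem hx)
    obtain ⟨B', b', e4⟩ := k _ (inv_mem hy)
    obtain ⟨s, hs⟩ := comm4 h (A := A) (a := a) (A' := A') (a' := a') (B := B) (b := b) (B' := B') (b' := b')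
      (by rw [← e1, ← e3]; exact congrArg Units.val (mul_inv_cancel x))
      (by rw [← e2, ← e4]; exact congrArg Units.val (mul_inv_cancel y))
    refine ⟨s, Units.ext ?_⟩
    change (ps h s).1 = _
    rw [← hs, ← e1, ← e2, ← e3, ← e4]; rfl
  · rw [orderOf_injective f fi]
    refine orderOf_eq_prime (Subtype.ext ?_) fun e => ?_
    · rw [pow_two]
      change diagonal _ * diagonal _ = 1
      rw [diagonal_mul_diagonal, ← diagonal_one]
      congr 1
      ext k
      split_ifs <;> simp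
    · have := congrFun (congrFun (congrArg Subtype.val e) ⟨0, by omega⟩) ⟨0, by omega⟩
      simp [Matrix.SpecialLinearGroup.diag2n_coe] at this
      exact ne1 this

end Cfsg.Agent.S1340
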