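import Cfsg.Statements.S1343
import Cfsg.Agent.Lib.FT.Ext2

set_option autoImplicit false
open Cfsg

namespace Cfsg.Agent.S1343

/-- Let X be finite. Then L*_{2'}(X) = L_{2'}(X) ⊔ F for some subgroup F of odd order normalized by a Sylow 2-subgroup of X. -/
theorem result {X : Type*} [Group X] [Finite X] : ∃ F : Subgroup X, Odd (Nat.card ↥F) ∧ (∃ S : Sylow 2 X, (S : Subgroup X) ≤ Subgroup.normalizer (F : Set X)) ∧ Cfsg.extendedTwoLayer X = Cfsg.pLayer 2 X ⊔ F := by
  open Cfsg.Agent.Comp Subgroup in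
  obtain ⟨S⟩ : Nonempty (Sylow 2 X) := inferInstance
  have hT := (sylIn_top S).inf_normal (N := pLayer 2 X ⊔ pPrimePCore 2 X) le_top (le_normalizer_normal _ _)
  refine ⟨oddCore X ⊔ Opp 2 (centralizer (((S : Subgroup X) ⊓ (pLayer 2 X ⊔ pPrimePCore 2 X) : Subgroup X) :
    Set X)), Nat.coprime_two_right.1 (coprime_sup' (le_normalizer_normal _ _) (coprime_pPrimeCore 2)
      (coprime_Opp 2 _)), ⟨S, le_normalizer_sup (le_normalizer_normal _ _) (le_normalizer_Opp
        (le_normalizer_centralizer (le_normalizer_inf le_normalizer (le_normalizer_normal _ _))))⟩, ?_⟩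
  rw [extendedTwoLayer_eq hT, sup_assoc]

end Cfsg.Agent.S1343
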