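import Cfsg.Statements.S1344
import Cfsg.Agent.Lib.FT.Ext2

set_option autoImplicit false
open Cfsg

namespace Cfsg.Agent.S1344

/-- Let K be a 2-component of the finite group X. Then K ≤ L*_{2'}(X) and K is normal in L*_{2'}(X). -/
theorem result {X : Type*} [Group X] [Finite X] (K : Subgroup X) (hK : Cfsg.IsPComponent 2 K) : K ≤ Cfsg.extendedTwoLayer X ∧ (K.subgroupOf (Cfsg.extendedTwoLayer X)).Normal := by
  open Cfsg.Agent.Comp Subgroup in
  have hK' := pCompIn_top_iff.2 hK
  have h1 : K ≤ extendedTwoLayer X := (hK'.le_PLay.trans PLay_top.le).trans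
    (le_sup_left.trans (extendedTwoLayer_le_iff.1 le_rfl).1)
  refine ⟨h1, (normal_subgroupOf_iff_le_normalizer h1).2 (extendedTwoLayer_le_iff.2 ⟨sup_le ?_ ?_,
    fun T hT => ?_⟩)⟩
  · rw [← PLay_top]; exact hK'.PLay_le_normalizer
  · rw [oddCore, ← Opp_top]; exact hK'.Opp_le_normalizer
  let f := QuotientGroup.mk' (pPrimeCore 2 X)
  have hk : ⊤ ⊓ f.ker = Opp 2 (⊤ : Subgroup X) := by rw [top_inf_eq, QuotientGroup.ker_mk', Opp_top]
  have h2 := hK'.compIn_map f hk
  rw [map_top_of_surjective _ (QuotientGroup.mk'_surjective _)] at h2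
  have h3 := le_sup_right.trans (h2.PLay_sup_Opp_le_normalizer (by rw [Opp_top]; exact pPrimeCore_quotient)
    (hT.isP.map f) le_normalizer (inf_le_right.trans (centralizer_le_normalizer _)) le_top le_rfl)
  have h4 := map_inf_normalizer f (M := ⊤) le_top hT.isP (by rw [hk]; exact coprime_Opp 2 _)
  rw [top_inf_eq, map_top_of_surjective _ (QuotientGroup.mk'_surjective _), top_inf_eq] at h4
  rw [← h4] at h3
  have h5 := le_normalizer_comap_of_map f (((map_mono ((SubnIn.of_normalizer (centralizer_le_normalizer _)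
    (normalizer_le_normalizer_centralizer T)).Opp_le 2)).trans (map_Opp_le _ _)).trans h3)
  rw [comap_map_eq, QuotientGroup.ker_mk', ← Opp_top] at h5
  exact hK'.le_normalizer_of_sup h5

end Cfsg.Agent.S1344
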