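import Cfsg.Statements.S1347
import Cfsg.Agent.Lib.FT.Pump4

set_option autoImplicit false
open Cfsg

namespace Cfsg.Agent.S1347

/-- Let A be a standard subgroup of the finite group G with O(G) = 1, and t an involution of C_G(A). Then (i) A is normal in G; or (ii) there is a non-abelian simple subgroup X ≅ A with X and tXt⁻¹ commuting, meeting trivially and generating E(G), and C_G(A) = ⟨t⟩; or (iii) A ≤ E(G) and E(G) is non-abelian simple. -/
theorem result {G : Type*} [Group G] [Finite G] (A : Subgroup G) (hA : Cfsg.IsStandardSubgroup A) (hO : Cfsg.oddCore G = ⊥) (t : G) (ht : orderOf t = 2) (htA : t ∈ Subgroup.centralizer (A : Set G)) : A.Normal ∨ (∃ X : Subgroup G, IsSimpleGroup ↥X ∧ ¬ IsMulCommutative ↥X ∧ Nonempty (↥X ≃* ↥A) ∧ (∀ a ∈ X, ∀ b ∈ X.map (MulAut.conj t).toMonoidHom, a * b = b * a) ∧ X ⊓ X.map (MulAut.conj t).toMonoidHom = ⊥ ∧ X ⊔ X.map (MulAut.conj t).toMonoidHom = Cfsg.layer G ∧ Subgroup.centralizer (A : Set G) = Subgroup.zpowers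 t) ∨ (A ≤ Cfsg.layer G ∧ IsSimpleGroup ↥(Cfsg.layer G) ∧ ¬ IsMulCommutative ↥(Cfsg.layer G)) := by
  open Cfsg.Agent.Comp Subgroup in
  obtain ⟨hq, ⟨-, hte⟩, hnc, hN⟩ := hA
  have hq' := qs_iff.2 hq
  have key : ∀ s ∈ centralizer (A : Set G), orderOf s = 2 → centralizer ({s} : Set G) ≤ normalizer (A : Set G) :=
    fun s hs hs2 g hg => by
    rw [hN]
    by_contra h
    have h1 : s ∈ centralizer (A : Set G) ⊓ cj(g, centralizer (A : Set G)) :=
      ⟨hs, mem_cj.2 (by rwa [mul_assoc, ← mem_centralizer_singleton_iff.1 hg, inv_mul_cancel_left])⟩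
    exact (Nat.not_even_iff_odd.2 (hte g h)) (even_iff_two_dvd.2 (hs2 ▸ orderOf_dvd_natCard _ h1))
  have hO' : Opp 2 (⊤ : Subgroup G) = ⊥ := by rw [Opp_top]; exact hO
  have h1 : CompIn A (⊤ ⊓ centralizer ({t} : Set G)) :=
    ⟨SubnIn.of_normalizer (le_inf le_top (le_centralizer_singleton_iff.2 htA))
      (inf_le_right.trans (key t htA ht)), hq'⟩
  have hn : ∀ g : G, g ∈ normalizer ((⊤ : Subgroup G) : Set G) := fun g => le_normalizer_normal ⊤ ⊤ (mem_top g)
  by_cases hc : CompIn A ⊤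
  · refine Or.inl (normal_iff_cj.2 fun g => by_contra fun h => hnc g h ?_)
    exact commutator_eq_bot_iff'.2 ((hc.cj_of_mem (hn g)).le_centralizer_of_ne hc h)
  right
  have key2 : ∀ J, SubnIn J ⊤ → A ≤ J → ∀ X, SubnIn X ⊤ → X ≤ centralizer (J : Set G) → X = ⊥ :=
    fun J hJ hAJ X hX hXJ => by
    by_cases h2 : 2 ∣ Nat.card X
    · obtain ⟨s, hs, hs2⟩ := exists_mem_orderOf_eq h2
      exact absurd ⟨(SubnIn.of_normalizer hAJ ((le_centralizer_singleton_iff.2 (hXJ hs)).trans
        (key s (centralizer_mono hAJ (hXJ hs)) hs2))).trans hJ, hq'⟩ hc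
    · exact le_bot_iff.1 (hO' ▸ hX.le_Opp (coprime_iff_not_dvd.2 h2))
  have simple : ∀ L : Subgroup G, QS L → L ⊓ centralizer (L : Set G) = ⊥ →
      IsSimpleGroup L ∧ ¬ IsMulCommutative L := fun L hL h => by
    refine ⟨?_, fun h => hL.not_le_centralizer (isMulCommutative_iff_le.1 h)⟩
    rw [← map_center_subtype, map_eq_bot_iff_of_injective _ L.subtype_injective] at h
    have := hL.isQuasisimple.2
    exact ((QuotientGroup.quotientMulEquivOfEq h).trans QuotientGroup.quotientBot).symm.isSimpleGroup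
  have hZ : ∀ L : Subgroup G, SubnIn L ⊤ → SubnIn (L ⊓ centralizer (L : Set G)) ⊤ := fun L hL =>
    (SubnIn.of_normalizer inf_le_left (le_normalizer_inf le_normalizer
      (le_normalizer_centralizer le_normalizer))).trans hL
  obtain ⟨L, hL, h | ⟨h, -, -⟩ | ⟨h2, h3, δ, h4, h5, -, h6, -⟩⟩ := h1.pCompIn_two.pump_two ht (hn t)
    (PLay_le_iff.2 fun J hJ => (hJ.compIn_of_Opp_eq_bot hO').le_Lay)
  · exact absurd (h ▸ hL) hc
  · have e : layer G = L := by
      rw [← Lay_top]
      refine le_antisymm (Lay_le_iff.2 fun K hK => ?_) hL.le_Lay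
      rcases hK.eq_or_le_centralizer hL with a | a
      · exact a.le
      · exact absurd (key2 L hL.subn h.le K hK.subn a) hK.qs.ne_bot
    rw [e]
    exact Or.inr ⟨h.le, simple L hL.qs (key2 L hL.subn h.le _ (hZ L hL.subn) inf_le_right)⟩
  left
  have hL' := hL.cj_of_mem (hn t)
  have hJ := hL.subn.sup hL'.subn
  have h7 : L ⊓ centralizer (L : Set G) = ⊥ := key2 _ hJ h6 _ (hZ L hL.subn)
    (le_centralizer_sup inf_le_right (inf_le_left.trans (le_centralizer_iff.1 h3)))
  have h8 : L ⊓ cj(t, L) = ⊥ := le_bot_iff.1 ((inf_le_inf_left L h3).trans h7.le)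
  have e : L ⊔ cj(t, L) = layer G := by
    rw [← Lay_top]
    refine le_antisymm (sup_le hL.le_Lay hL'.le_Lay) (Lay_le_iff.2 fun K hK => ?_)
    rcases hK.eq_or_le_centralizer hL with a | a
    · exact a.le.trans le_sup_left
    rcases hK.eq_or_le_centralizer hL' with b | b
    · exact b.le.trans le_sup_right
    · exact absurd (key2 _ hJ h6 K hK.subn (le_centralizer_sup a b)) hK.qs.ne_bot
  have hδ : Function.Injective δ := (injective_iff_map_eq_one δ).2 fun l hl => by
    rw [h4] at hl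
    have : (l : G) ∈ L ⊓ cj(t, L) :=
      ⟨l.2, by rw [eq_inv_of_mul_eq_one_left hl]; exact Subgroup.inv_mem _ (conj_mem_cj.2 l.2)⟩
    rw [h8] at this; exact Subtype.ext this
  have htt : t * t = 1 := by rw [← sq, ← ht, pow_orderOf_eq_one]
  have hd : ∀ c ∈ centralizer (A : Set G), ∀ l ∈ L, l * (t * l * t⁻¹) * c = c * (l * (t * l * t⁻¹)) :=
    fun c hc l hl => by
    have := mem_centralizer_iff.1 hc (δ ⟨l, hl⟩) (h5 ▸ ⟨_, rfl⟩)
    rwa [h4] at this
  have h9 : ∀ c ∈ centralizer (A : Set G), cj(c, cj(t, L)) = cj(t, L) → c = 1 := fun c hc h => by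
    have a := mem_centralizer_of_diag hL.qs.perfect h3 (cj_eq_self_iff.1 h) (hd c hc)
    have b : c ∈ centralizer (cj(t, L) : Set G) := by
      rintro _ ⟨l, hl, rfl⟩
      have := hd c hc l hl
      rw [← mul_assoc c, ← a l hl, mul_assoc, mul_assoc l c] at this
      exact mul_left_cancel this
    have hLn : (layer G).Normal := inferInstance
    have := key2 _ hJ h6 (centralizer ((L ⊔ cj(t, L) : Subgroup G) : Set G))
      (by rw [e]; exact SubnIn.of_normal _) le_rfl
    rw [← mem_bot, ← this, centralizer_sup]; exact ⟨a, b⟩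
  refine ⟨L, (simple L hL.qs h7).1, (simple L hL.qs h7).2,
    ⟨(MonoidHom.ofInjective hδ).trans (MulEquiv.subgroupCongr h5)⟩, fun a ha b hb => h3 hb a ha, h8, e,
    le_antisymm (fun c hc => ?_) (zpowers_le.2 htA)⟩
  by_cases h : cj(c, cj(t, L)) = cj(t, L)
  · rw [h9 c hc h]; exact one_mem _
  · have a := (hL.cj_eq_or_of_diag (hn t) (hn (c * t)) h3 (hd _ (mul_mem hc htA))).resolve_right
      (by rwa [cj_mul])
    have b := (hL.cj_eq_or_of_diag (hn t) (hn c) h3 (hd _ hc)).resolve_left fun b => by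
      rw [cj_mul] at a
      exact h2 (cj_eq_self_iff.1 (cj_inj.1 (a.trans b.symm)))
    have := h9 _ (mul_mem hc htA) (by rw [← cj_mul, mul_assoc, htt, mul_one, b])
    rw [eq_inv_of_mul_eq_one_left this]; exact inv_mem (mem_zpowers t)

end Cfsg.Agent.S1347
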