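import Cfsg.Statements.S1348
import Mathlib
import Cfsg.Agent.Lib.Perm.Std

set_option autoImplicit false
open Cfsg

namespace Cfsg.Agent.S1348

open Cfsg.Agent.Perm.Std Matrix

/-- Let F be a finite field of odd order, n ≥ 7 odd, and t ∈ SL(n, F) the diagonal matrix with entries −1, …, −1, 1. Then E(C(t)) is a standard subgroup of SL(n, F). -/
theorem result {F : Type*} [Field F] [Fintype F] [DecidableEq F] (hF : Odd (Fintype.card F)) (n : ℕ) (hn : 7 ≤ n) (hodd : Odd n) (t : Matrix.SpecialLinearGroup (Fin n) F) (ht : (t : Matrix (Fin n) (Fin n) F) = Matrix.diagonal (fun i : Fin n => if (i : ℕ) + 1 = n then (1 : F) else -1)) : Cfsg.IsStandardSubgroup ((Cfsg.layer ↥(Subgroup.centralizer ({t} : Set (Matrix.SpecialLinearGroup (Fin n) F)))).map (Subgroup.centralizer ({t} : Set (Matrix.SpecialLinearGroup (Fin n) F))).subtype) := by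
  obtain ⟨m, h⟩ : ∃ m, m + 1 = n := ⟨n - 1, by omega⟩
  have h2 := two_ne hF
  have hm : Even m := by
    subst h
    exact Nat.not_odd_iff_even.1 (Nat.odd_add_one.1 hodd)
  rw [← bk_diag h] at ht
  haveI : Nonempty (Fin m) := ⟨⟨0, by omega⟩⟩
  have dm : (-1 : Matrix (Fin m) (Fin m) F).det = 1 := by rw [det_neg, det_one, Fintype.card_fin, hm.neg_one_pow, one_mul]
  have tL : t = ps h ⟨-1, dm⟩ := Subtype.ext ht
  refine std (L := (ps h).range) ?_ ?_ ?_ ⟨_, tL.symm⟩ ?_ ?_ ?_
  · rw [MonoidHom.range_eq_map]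
    exact (qsSL (by omega) (Or.inl (by omega))).map_of_injective (ps_inj h)
  · rintro _ ⟨s, rfl⟩
    rw [Subgroup.mem_centralizer_singleton_iff]
    refine Subtype.ext ?_
    change bk h s.1 1 * t.1 = t.1 * bk h s.1 1
    rw [ht, bk_mul, bk_mul]; simp
  · rw [Subgroup.commutator_le]
    have k : ∀ x : Matrix.SpecialLinearGroup (Fin n) F, x ∈ Subgroup.centralizer ({t} : Set (Matrix.SpecialLinearGroup (Fin n) F)) → ∃ A d, (x : Matrix.SpecialLinearGroup (Fin n) F).1 = bk h A d :=
      fun x hx => bk_cen h h2 (by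
        rw [← ht]
        have : x * t = t * x := Subgroup.mem_centralizer_singleton_iff.1 hx
        exact congrArg Subtype.val this)
    intro x hx y hy
    obtain ⟨A, a, e1⟩ := k x hx
    obtain ⟨B, b, e2⟩ := k y hy
    obtain ⟨A', a', e3⟩ := k x⁻¹ (Subgroup.inv_mem _ hx)
    obtain ⟨B', b', e4⟩ := k y⁻¹ (Subgroup.inv_mem _ hy)
    obtain ⟨s, hs⟩ := comm4 h (A := A) (a := a) (A' := A') (a' := a') (B := B) (b := b) (B' := B') (b' := b')
      (by rw [← e1, ← e3]; exact congrArg Subtype.val (mul_inv_cancel x))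
      (by rw [← e2, ← e4]; exact congrArg Subtype.val (mul_inv_cancel y))
    refine ⟨s, Subtype.ext ?_⟩
    rw [← hs, ← e1, ← e2, ← e3, ← e4]; rfl
  · intro h1
    rw [h1, Matrix.SpecialLinearGroup.coe_one, ← bk_one h] at ht
    have := congrFun (congrFun (bk_inj h ht).1 ⟨0, by omega⟩) ⟨0, by omega⟩
    simp only [one_apply_eq, Matrix.neg_apply] at this
    exact h2 (by linear_combination this)
  · refine Subtype.ext ?_
    change t.1 * t.1 = 1
    rw [ht, bk_mul, ← bk_one h]; simp
  · intro x hx x2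
    have k : ∀ s : Matrix.SpecialLinearGroup (Fin m) F, bk h s.1 1 * x.1 = x.1 * bk h s.1 1 := fun s =>
      congrArg Subtype.val (hx (ps h s) ⟨s, rfl⟩)
    obtain ⟨A, a, e1⟩ := bk_cen h h2 (k ⟨-1, dm⟩).symm
    obtain ⟨r, hr⟩ : A ∈ Set.range (Matrix.scalar (Fin m)) := by
      refine Matrix.mem_range_scalar_of_commute_transvectionStruct fun u => ?_
      have := k ⟨u.toMatrix, by simp⟩
      rw [e1, bk_mul, bk_mul] at this
      exact (bk_inj h this).1
    have e2 : x.1 * x.1 = 1 := congrArg Subtype.val x2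
    rw [e1, bk_mul, ← bk_one h, ← hr, ← map_mul, ← map_one (Matrix.scalar (Fin m))] at e2
    have e3 : r * r = 1 := Matrix.scalar_inj.1 (bk_inj h e2).1
    have e4 := x.2
    rcases mul_self_eq_one_iff.1 e3 with rfl | rfl
    · left
      rw [map_one] at hr
      rw [e1, bk_det, ← hr, det_one, one_mul] at e4
      exact Subtype.ext (by rw [e1, ← hr, e4, bk_one]; rfl)
    · right
      rw [map_neg, map_one] at hr
      rw [e1, bk_det, ← hr, dm, one_mul] at e4
      exact Subtype.ext (by rw [e1, ← hr, e4, ht])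

end Cfsg.Agent.S1348
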