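import Cfsg.Statements.S1355
import Cfsg.Agent.Lib.MS.Sec16

set_option autoImplicit false
open Cfsg

namespace Cfsg.Agent.S1355

open MS

/-- Let G be a minimal simple group of odd order and M a maximal subgroup. Then the largest normal nilpotent Hall subgroup M_F of M is nontrivial and contained in M_σ, M_σ is contained in the derived subgroup M', M' is proper in M, and the image of M' in M/M_F is nilpotent. -/
theorem result {G : Type*} [Group G] [Finite G] (hG : Cfsg.IsMinSimpleOddOrder G)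
    (M : Subgroup G) (hM : IsCoatom M) :
    Cfsg.fittingHallOf M ≠ ⊥ ∧ Cfsg.fittingHallOf M ≤ Cfsg.sigmaCore M ∧ Cfsg.sigmaCore M ≤ ⁅M, M⁆ ∧ ⁅M, M⁆ < M ∧
      Group.IsNilpotent ↥((commutator ↥M).map (QuotientGroup.mk' (Cfsg.fittingHall ↥M))) := by
  haveI : MinS G := ⟨hG⟩
  refine ⟨MF_ne_bot hM, MF_le_Sg hM, Sg_le_der hM, der_lt_max hM, ?_⟩
  have q : QM (fittingHallOf M) M (QuotientGroup.mk' (fittingHall M)) :=
    ⟨MF_le M, QuotientGroup.mk'_surjective _, by rw [QuotientGroup.ker_mk', FT.MF_subgroupOf]⟩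
  have := (q.nilMod_iff (der_le M)).1 (bg15_5 hM).2.2.1
  rwa [im, ← FT.sub_comm le_rfl le_rfl, Subgroup.subgroupOf_self] at this

end Cfsg.Agent.S1355
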