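import Cfsg.Statements.S1359
import Cfsg.Agent.Lib.MS.Sec16

set_option autoImplicit false
open Cfsg

namespace Cfsg.Agent.S1359

open MS

/-- Let G be a minimal simple group of odd order and M a maximal subgroup with standard factorisation M = K U M_σ. Then the subgroup generated by those elements of U which centralize some non-identity element of M_σ is abelian. -/
theorem result {G : Type*} [Group G] [Finite G] (hG : Cfsg.IsMinSimpleOddOrder G)
    (M : Subgroup G) (hM : IsCoatom M) (K U : Subgroup G) (hKU : Cfsg.IsSigmaDecomposition M K U) :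
    IsMulCommutative (Subgroup.closure ((U : Set G) ∩ Cfsg.sigmaHat M)) := by
  haveI : MinS G := ⟨hG⟩
  obtain ⟨⟨A, -, -, a, b⟩, -⟩ := bg15_1de hM ((kc_iff hM).1 hKU).hU
  exact ab_mono a ((Subgroup.closure_le _).2 fun x ⟨h1, _, y, h2, h3, h4⟩ => b y h2 h3 ⟨h1, mem_C1.2 h4⟩)

end Cfsg.Agent.S1359
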