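import Cfsg.Statements.S1363
import Cfsg.Agent.Lib.MS.Sec16

set_option autoImplicit false
open Cfsg

namespace Cfsg.Agent.S1363

open MS Transfer

/-- Let G be a minimal simple group of odd order and M a maximal subgroup with standard factorisation M = K U M_σ and K ≠ 1. Then U is abelian and the normalizer of U in G is not contained in M. -/
theorem result {G : Type*} [Group G] [Finite G] (hG : Cfsg.IsMinSimpleOddOrder G)
    (M : Subgroup G) (hM : IsCoatom M) (K U : Subgroup G) (hKU : Cfsg.IsSigmaDecomposition M K U) (hK1 : K ≠ ⊥) :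
    IsMulCommutative U ∧ ¬ Subgroup.normalizer (U : Set G) ≤ M := by
  haveI : MinS G := ⟨hG⟩
  have h := (kc_iff hM).1 hKU
  refine ⟨h.ab hM hK1, fun e => ?_⟩
  rcases eq_or_ne U ⊥ with rfl | h0
  · exact hM.1 (top_le_iff.1 (nn_bot.trans e))
  obtain ⟨r, hr, hd⟩ := exists_prime_dvd h0
  haveI := Fact.mk hr
  obtain ⟨R, hR⟩ := exists_isSyl r U
  obtain ⟨H, hH, b3⟩ := exists_max (pg_nn_ne_top hR.pgroup (syl_ne_bot hR hd))
  obtain ⟨N, hp⟩ := bg14_7 hM h.hK hK1
  exact (bg14_12 hM h hK1 hp hR hH b3).2.2.2.1 (inf_le_right.trans e)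

end Cfsg.Agent.S1363
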