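import Cfsg.Statements.S1366
import Cfsg.Agent.Lib.MS.Sec16

set_option autoImplicit false
open Cfsg

namespace Cfsg.Agent.S1366

open MS

/-- Let G be a minimal simple group of odd order, M a maximal subgroup with standard factorisation M = K U M_σ, K ≠ 1, and K* = M_σ ∩ C_G(K). Then there is exactly one maximal subgroup M* of G such that K = M*_σ ∩ C_G(K*) and K* is a Hall κ(M*)-subgroup of M* (in particular κ(M*) is nonempty). -/
theorem result {G : Type*} [Group G] [Finite G] (hG : Cfsg.IsMinSimpleOddOrder G)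
    (M : Subgroup G) (hM : IsCoatom M) (K U : Subgroup G) (hKU : Cfsg.IsSigmaDecomposition M K U) (hK1 : K ≠ ⊥) :
    ∃! Mstar : Subgroup G, IsCoatom Mstar ∧ K = Cfsg.sigmaCore Mstar ⊓ Subgroup.centralizer ((Cfsg.sigmaCore M ⊓ Subgroup.centralizer (K : Set G)) : Set G) ∧
        Cfsg.IsPiHallOf (Cfsg.kappa Mstar) (Cfsg.sigmaCore M ⊓ Subgroup.centralizer (K : Set G)) Mstar := by
  haveI : MinS G := ⟨hG⟩
  have h := ((kc_iff hM).1 hKU).hK
  obtain ⟨N, hp⟩ := bg14_7 hM h hK1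
  obtain ⟨X, a, b⟩ := exists_prime_sub hK1
  exact ⟨N, ⟨hp.max, hp.cc.symm, hp.hk⟩, fun L hL =>
    (hp.um X a b).eq ((partner_of hM h hK1 hL.1 hL.2.2 hL.2.1).um X a b)⟩

end Cfsg.Agent.S1366
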