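import Cfsg.Statements.S1370
import Cfsg.Agent.Lib.MS.Sec16

set_option autoImplicit false
open Cfsg

namespace Cfsg.Agent.S1370

open MS

/-- Let G be a minimal simple group of odd order, M a maximal subgroup with standard factorisation M = K U M_σ, K ≠ 1, K* = M_σ ∩ C_G(K) and Z the subgroup generated by K and K*. Then the set of elements of Z lying in neither K nor K* is a TI-subset of G, and its set-normalizer in G is exactly Z. -/
theorem result {G : Type*} [Group G] [Finite G] (hG : Cfsg.IsMinSimpleOddOrder G)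
    (M : Subgroup G) (hM : IsCoatom M) (K U : Subgroup G) (hKU : Cfsg.IsSigmaDecomposition M K U) (hK1 : K ≠ ⊥) :
    Cfsg.IsTISubset ((↑(K ⊔ (Cfsg.sigmaCore M ⊓ Subgroup.centralizer (K : Set G))) : Set G) \ ((K : Set G) ∪ ↑(Cfsg.sigmaCore M ⊓ Subgroup.centralizer (K : Set G)))) ∧ Subgroup.normalizer ((↑(K ⊔ (Cfsg.sigmaCore M ⊓ Subgroup.centralizer (K : Set G))) : Set G) \ ((K : Set G) ∪ ↑(Cfsg.sigmaCore M ⊓ Subgroup.centralizer (K : Set G)))) = K ⊔ (Cfsg.sigmaCore M ⊓ Subgroup.centralizer (K : Set G)) := by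
  haveI : MinS G := ⟨hG⟩
  have h := ((kc_iff hM).1 hKU).hK
  obtain ⟨N, hp⟩ := bg14_7 hM h hK1
  have s := hp.snc hM h hK1
  obtain ⟨a, ha, a1⟩ := exists_ne_one s.1
  obtain ⟨b, hb, b1⟩ := exists_ne_one s.2.1
  have e := s.2.2.2.2.2 _ le_rfl ⟨a * b, mul_mem (Subgroup.mem_sup_left ha) (Subgroup.mem_sup_right hb), by
    rintro (c | c)
    exacts [b1 (eq_one_of_inf s.2.2.1 ((mul_mem_cancel_left ha).1 c) hb),
      a1 (eq_one_of_inf s.2.2.1 ha ((mul_mem_cancel_right hb).1 c))]⟩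
  refine ⟨fun g hg x hx h1 => absurd (hp.ti' x ⟨hx.1, fun c => hx.2 (Or.inl c), fun c => hx.2 (Or.inr c)⟩ g
    ⟨h1.1, fun c => h1.2 (Or.inl c), fun c => h1.2 (Or.inr c)⟩) (e ▸ hg), e⟩

end Cfsg.Agent.S1370
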