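import Cfsg.Statements.S1371
import Cfsg.Agent.Lib.MS.Sec16

set_option autoImplicit false
open Cfsg

namespace Cfsg.Agent.S1371

open MS Transfer

/-- Let G be a minimal simple group of odd order, M a maximal subgroup with standard factorisation M = K U M_σ, K ≠ 1, K* = M_σ ∩ C_G(K), and Ẑ the set of elements of K K* outside K ∪ K*. Then the union of the M-conjugates of Ẑ equals A₀(M) with A(M) removed, and it is a TI-subset of G. -/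
theorem result {G : Type*} [Group G] [Finite G] (hG : Cfsg.IsMinSimpleOddOrder G)
    (M : Subgroup G) (hM : IsCoatom M) (K U : Subgroup G) (hKU : Cfsg.IsSigmaDecomposition M K U) (hK1 : K ≠ ⊥) :
    {a : G | ∃ m ∈ M, ∃ z ∈ ((↑(K ⊔ (Cfsg.sigmaCore M ⊓ Subgroup.centralizer (K : Set G))) : Set G) \ ((K : Set G) ∪ ↑(Cfsg.sigmaCore M ⊓ Subgroup.centralizer (K : Set G)))), a = m * z * m⁻¹} = Cfsg.sigmaA0 M K \ Cfsg.sigmaA M U ∧
      Cfsg.IsTISubset (Cfsg.sigmaA0 M K \ Cfsg.sigmaA M U) := by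
  haveI : MinS G := ⟨hG⟩
  have h := (kc_iff hM).1 hKU
  obtain ⟨N, hp⟩ := bg14_7 hM h.hK hK1
  have zp : ZP _ M K := ⟨hM, h.hK, hK1, rfl⟩
  have k : ∀ x, x ∈ U ⊔ sigmaCore M ↔ x ∈ M ∧ PiE (kappa M)ᶜ x := fun x =>
    sup_comm (sigmaCore M) U ▸ mem_hall_iff (x := x) (h.hall hM) (bg15_1a hM h).1
  have zh : ∀ z, z ∈ ((↑(K ⊔ (sigmaCore M ⊓ CC K)) : Set G) \ ((K : Set G) ∪ ↑(sigmaCore M ⊓ CC K))) ↔
      z ∈ Zh K (sigmaCore M ⊓ CC K) := fun z =>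
    ⟨fun a => ⟨a.1, fun c => a.2 (Or.inl c), fun c => a.2 (Or.inr c)⟩, fun a => ⟨a.1, fun c => c.elim a.2.1 a.2.2⟩⟩
  simp only [zh]
  have e : {a : G | ∃ m ∈ M, ∃ z ∈ Zh K (sigmaCore M ⊓ CC K), a = m * z * m⁻¹} = sigmaA0 M K \ sigmaA M U := by
    ext a
    constructor
    · rintro ⟨m, hm, z, hz, rfl⟩
      obtain ⟨a1, a2, -⟩ := zp.part hz
      refine ⟨⟨⟨mul_mem (mul_mem hm (zp.le hz.1)) (inv_mem hm), cent_iff.2 ?_⟩, fun ⟨s, b1, _, n, _, b2⟩ => a2 ?_⟩,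
        fun c => Zh_not_piE hM h.hK hK1 hz ?_⟩
      · rw [← cj_centralizer_singleton, ← cj_nn (nn_Sg' le_rfl hm), ← cj_inf]
        exact mt cj_eq_bot_iff.1 (ne_bot_of_mem (Subgroup.mem_inf.2 ⟨a1.1,
          mem_C1_comm.1 (C1_le_part _ z (self_mem_C1 z))⟩) a2)
      · have := (b2 ▸ ((kappa_pi_ns h.hK.pi).piE b1).conj n).conj m⁻¹
        exact part_eq_one.2 (by simpa [mul_assoc] using this)
      · simpa [mul_assoc] using ((k _).1 c.2).2.conj m⁻¹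
    · rintro ⟨⟨a1, a2⟩, a3⟩
      have a4 : ¬ PiE (kappa M)ᶜ a := fun c => a3 ⟨a1, (k a).2 ⟨a1.1, c⟩⟩
      obtain ⟨m, hm, a5⟩ := h.hK.exists_cj_le (max_sol hM) (Subgroup.zpowers_le.2 (part_mem_of a1.1))
        (part_pi _ a)
      rw [cj_zpowers, Subgroup.zpowers_le, ← part_conj] at a5
      have a6 : ¬ PiE (kappa M)ᶜ (m * a * m⁻¹) := fun c => a4 (by simpa [mul_assoc] using c.conj m⁻¹)
      refine ⟨m⁻¹, inv_mem hm, m * a * m⁻¹, ⟨(hp.c1 _ a5 (mt part_eq_one.1 a6)).le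
        ⟨M.mul_mem (M.mul_mem hm a1.1) (M.inv_mem hm), C1_le_part _ _ (self_mem_C1 _)⟩,
        fun c => a2 ⟨_, c, fun c => a6 (c ▸ PiE.one), m⁻¹, inv_mem hm, by group⟩,
        fun c => a6 (((Sg_pi M).piE c.1).sub fun p a b => kappa_ns b a)⟩, by group⟩
  refine ⟨e, e ▸ ti_of_mem (M := M) ?_ ?_⟩
  · rintro n hn _ ⟨m, hm, z, hz, rfl⟩
    exact ⟨n * m, mul_mem hn hm, z, hz, by group⟩
  · rintro _ ⟨m, hm, z, hz, rfl⟩ - g ⟨n, hn, w, hw, c⟩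
    refine (mul_mem_cancel_right hm).1 (zp.ti hz (g := g * m) ?_)
    rw [show g * m * z * (g * m)⁻¹ = g * (m * z * m⁻¹) * g⁻¹ by group, c]
    exact mul_mem (mul_mem hn (zp.le hw.1)) (inv_mem hn)

end Cfsg.Agent.S1371
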