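import Cfsg.Statements.S1372
import Cfsg.Agent.Lib.MS.Sec16

set_option autoImplicit false
open Cfsg

namespace Cfsg.Agent.S1372

open MS

/-- Let G be a minimal simple group of odd order and M a maximal subgroup with standard factorisation M = K U M_σ, K ≠ 1 and U ≠ 1. Then K has prime order, and the Fitting subgroup F(M) contains M_σ and is a TI-subset of G. -/
theorem result {G : Type*} [Group G] [Finite G] (hG : Cfsg.IsMinSimpleOddOrder G)
    (M : Subgroup G) (hM : IsCoatom M) (K U : Subgroup G) (hKU : Cfsg.IsSigmaDecomposition M K U) (hK1 : K ≠ ⊥) (hU1 : U ≠ ⊥) :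
    (Nat.card K).Prime ∧ Cfsg.IsTISubset (Cfsg.fittingOf M : Set G) ∧ Cfsg.sigmaCore M ≤ Cfsg.fittingOf M := by
  haveI : MinS G := ⟨hG⟩
  have h := (kc_iff hM).1 hKU
  have t : TP2 M := ⟨(kappa_nonempty_iff h.hK).2 hK1, mt h.tp1_iff.1 hU1⟩
  exact ⟨(bg14_2g hM h.hK t).2.1, F_ti hM (Or.inl t), MF_eq_of_not_tp1 hM t.2 ▸ MF_le_F M⟩

end Cfsg.Agent.S1372
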