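import Cfsg.Statements.S1374
import Cfsg.Agent.Lib.MS.Sec16

set_option autoImplicit false
open Cfsg

namespace Cfsg.Agent.S1374

open MS Transfer

/-- Let G be a minimal simple group of odd order, M a maximal subgroup and x a non-identity element of M_σ. Then C_M(x) has order coprime to its index in C_G(x), and C_G(x) has a normal subgroup R complementing C_M(x) such that for every conjugate gMg⁻¹ containing x there is exactly one r ∈ R with rMr⁻¹ = gMg⁻¹. -/
theorem result {G : Type*} [Group G] [Finite G] (hG : Cfsg.IsMinSimpleOddOrder G)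
    (M : Subgroup G) (hM : IsCoatom M) (x : G) (hx : x ∈ Cfsg.sigmaCore M) (hx1 : x ≠ 1) :
    (Nat.card ↥(M ⊓ Subgroup.centralizer ({x} : Set G))).Coprime ((M ⊓ Subgroup.centralizer ({x} : Set G)).relIndex (Subgroup.centralizer ({x} : Set G))) ∧
      ∃ R : Subgroup G, Subgroup.centralizer ({x} : Set G) ≤ Subgroup.normalizer (R : Set G) ∧ Cfsg.IsComplIn (M ⊓ Subgroup.centralizer ({x} : Set G)) R (Subgroup.centralizer ({x} : Set G)) ∧
        ∀ g : G, x ∈ M.map (MulAut.conj g).toMonoidHom → ∃! r : G, r ∈ R ∧ M.map (MulAut.conj r).toMonoidHom = M.map (MulAut.conj g).toMonoidHom := by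
  haveI : MinS G := ⟨hG⟩
  have a1 := RR_inf hM hx hx1
  have a2 : RR x ⊔ (M ⊓ C1 x) = C1 x := by
    by_cases h : C1 x ≤ M
    · rw [RR_eq_bot hM hx h, bot_sup_eq, inf_eq_right.2 h]
    · exact (bg14_4 hM hx hx1 h).choose_spec.2.2.2.2.2.1
  have a3 : M ⊓ C1 x ≤ NN (RR x) := inf_le_right.trans (nn_RR x)
  have a4 : RR x ⊓ (M ⊓ C1 x) = ⊥ := inf_bot_mono a1 le_rfl inf_le_left
  refine ⟨?_, RR x, nn_RR x, complIn_symm ((isComplIn_iff a3).2 ⟨a2, a4⟩), fun g hg => ?_⟩
  · by_cases h : C1 x ≤ M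
    · rw [inf_eq_right.2 h, Subgroup.relIndex_self]; exact Nat.coprime_one_right _
    obtain ⟨N, b1, -, b2, -, -, -, -, -, b3, -⟩ := bg14_4 hM hx hx1 h
    have c1 : IsPi (sigma N) (RR x) := b2 ▸ (Sg_pi N).mono inf_le_left
    have c2 : IsPi (sigma N)ᶜ (M ⊓ C1 x) := b3.pi.mono (inf_le_inf_left _ b1.le)
    have c3 := Hall.of_sup' c2 c1.compl_compl a3
    rw [sup_comm, a2] at c3
    exact c3.coprime
  · obtain ⟨r, b1, b2⟩ := bg14_4t hM hx hx1 (max_cj hM g)
      (mem_Sg (max_cj hM g) hg (sigma_cj g M ▸ (Sg_pi M).piE hx))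
    refine ⟨r, ⟨b1, b2⟩, fun s hs => ?_⟩
    have c : cj (r⁻¹ * s) M = M := by
      rw [← cj_cj, show cj s M = cj g M from hs.2, ← b2, cj_inv_cj]
    exact (inv_mul_eq_one.1 (eq_one_of_inf a1 (mul_mem (inv_mem b1) hs.1) ((cj_max_iff hM).1 c))).symm

end Cfsg.Agent.S1374
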