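import Cfsg.Statements.S1375
import Cfsg.Agent.Lib.MS.Sec16

set_option autoImplicit false
open Cfsg

namespace Cfsg.Agent.S1375

open MS Transfer

/-- Let G be a minimal simple group of odd order, M a maximal subgroup, x ≠ 1 in M_σ with C_G(x) not contained in M. Then exactly one maximal subgroup N contains C_G(x); for it N_σ = N_F, C_{N_σ}(x) is a normal subgroup of C_G(x) complementing C_M(x), M ∩ N is a complement to N_σ in N, and for every standard factorisation N = K' U' N_σ one has U' ≠ 1 and x ∈ A(N) with x ∉ N_σ. -/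
theorem result {G : Type*} [Group G] [Finite G] (hG : Cfsg.IsMinSimpleOddOrder G)
    (M : Subgroup G) (hM : IsCoatom M) (x : G) (hx : x ∈ Cfsg.sigmaCore M) (hx1 : x ≠ 1) (hxM : ¬ Subgroup.centralizer ({x} : Set G) ≤ M) :
    ∃ N : Subgroup G, (IsCoatom N ∧ Subgroup.centralizer ({x} : Set G) ≤ N) ∧ (∀ L : Subgroup G, IsCoatom L → Subgroup.centralizer ({x} : Set G) ≤ L → L = N) ∧
        Cfsg.sigmaCore N = Cfsg.fittingHallOf N ∧
        Subgroup.centralizer ({x} : Set G) ≤ Subgroup.normalizer ((Cfsg.sigmaCore N ⊓ Subgroup.centralizer ({x} : Set G) : Subgroup G) : Set G) ∧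
        Cfsg.IsComplIn (M ⊓ Subgroup.centralizer ({x} : Set G)) (Cfsg.sigmaCore N ⊓ Subgroup.centralizer ({x} : Set G)) (Subgroup.centralizer ({x} : Set G)) ∧
        Cfsg.IsComplIn (M ⊓ N) (Cfsg.sigmaCore N) N ∧
        ∀ K' U' : Subgroup G, Cfsg.IsSigmaDecomposition N K' U' → U' ≠ ⊥ ∧ x ∈ Cfsg.sigmaA N U' ∧ x ∉ Cfsg.sigmaCore N := by
  haveI : MinS G := ⟨hG⟩
  obtain ⟨N, a1, a2, a3, a4, a5, a6, -, -, a7, -⟩ := bg14_4 hM hx hx1 hxM
  have hN := a1.max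
  refine ⟨N, ⟨hN, a1.le⟩, a1.uniq, (MF_eq_of_not_tp1 hN a5).symm, a3 ▸ nn_RR x, a3 ▸ complIn_symm
    ((isComplIn_iff (inf_le_right.trans (nn_RR x))).2 ⟨a6, inf_bot_mono (RR_inf hM hx hx1) le_rfl inf_le_left⟩),
    (hall_ns_iff hN).2 a7, fun K U h => ?_⟩
  replace h := (kc_iff hN).1 h
  have b := a1.le (self_mem_C1 x)
  refine ⟨mt h.tp1_iff.2 a5, ⟨⟨b, cent_iff.2 (a3 ▸ a4)⟩, ?_⟩, fun e => hx1
    (((Sg_pi N).piE e).eq_one (a2.sub fun p => tau2_ns))⟩
  rw [sup_comm]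
  exact (mem_hall_iff (h.hall hN) (bg15_1a hN h).1).2 ⟨b, a2.sub fun p a b => kappa_not2 b a⟩

end Cfsg.Agent.S1375
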