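import Cfsg.Statements.S1376
import Cfsg.Agent.Lib.MS.Sec16

set_option autoImplicit false
open Cfsg

namespace Cfsg.Agent.S1376

open MS Transfer

/-- Let G be a minimal simple group of odd order, M a maximal subgroup, x ≠ 1 in M_σ with C_G(x) not contained in M, and N a maximal subgroup containing C_G(x) with κ(N) nonempty. Then κ(M) is empty, M has a cyclic Frobenius complement (M is a Frobenius group), and M_F is not a TI-subset of G. -/
theorem result {G : Type*} [Group G] [Finite G] (hG : Cfsg.IsMinSimpleOddOrder G)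
    (M : Subgroup G) (hM : IsCoatom M) (x : G) (hx : x ∈ Cfsg.sigmaCore M) (hx1 : x ≠ 1) (hxM : ¬ Subgroup.centralizer ({x} : Set G) ≤ M)
    (N : Subgroup G) (hN : IsCoatom N) (hxN : Subgroup.centralizer ({x} : Set G) ≤ N) (hkN : (Cfsg.kappa N).Nonempty) :
    Cfsg.kappa M = ∅ ∧ (∃ E : Subgroup ↥M, Cfsg.IsFrobeniusComplement E ∧ IsCyclic E) ∧ ¬ Cfsg.IsTISubset (Cfsg.fittingHallOf M : Set G) := by
  haveI : MinS G := ⟨hG⟩
  obtain ⟨a1, -, a2, a3⟩ := bg15_9 hM hx hx1 hxM hN hxN hkN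
  obtain ⟨E, hE⟩ := exists_hall (max_sol hM) (sigma M)ᶜ
  refine ⟨a1, ⟨_, (exists_frobC (Sg_sup hM hE) (nn_Sg' le_rfl) (Sg_ne_bot hM) (fun e => ?_) (a3 E hE).2).1, ?_⟩,
    mt (ti_iff (nn_MF_max hM)).1 a2⟩
  · have := Sg_sup hM hE
    rw [e, sup_bot_eq] at this
    exact (der_lt_max hM).not_ge (this.ge.trans (Sg_le_der hM))
  · haveI := (a3 E hE).1
    exact isCyclic_of_surjective _ (Subgroup.subgroupOfEquivOfLe hE.le).symm.surjective

end Cfsg.Agent.S1376
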