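import Cfsg.Statements.S1390
import Cfsg.Agent.Lib.MS.Sec16

set_option autoImplicit false
open Cfsg

namespace Cfsg.Agent.S1390

open MS Transfer

/-- Let G be a minimal simple group of odd order, M a maximal subgroup and H = M_F; suppose M is of Type I and U is a complement to H in M, or M is of Type II and U is a complement to H in M'. Then every Sylow subgroup of U is abelian with no elementary abelian subgroup of order p ^ 3; for every nonempty set X of non-identity elements of U centralizing a non-identity element of H, C_G(X) ≤ M and M is the unique maximal subgroup containing C_G(X); and A(M) with A₁(M) removed is a TI-subset of G. -/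
theorem result {G : Type*} [Group G] [Finite G] (hG : Cfsg.IsMinSimpleOddOrder G)
    (M : Subgroup G) (hM : IsCoatom M) (U : Subgroup G)
    (hU : (Cfsg.IsOfTypeI M ∧ Cfsg.IsComplIn (Cfsg.fittingHallOf M) U M) ∨ (Cfsg.IsOfTypeII M ∧ Cfsg.IsComplIn (Cfsg.fittingHallOf M) U ⁅M, M⁆)) :
    (∀ (p : ℕ), p.Prime → ∀ P : Sylow p U, IsMulCommutative (P : Subgroup U) ∧ Cfsg.PRankLE p 2 (P : Subgroup U)) ∧
      (∀ X : Set G, X ⊆ (U : Set G) \ {1} → X.Nonempty → Cfsg.fittingHallOf M ⊓ Subgroup.centralizer X ≠ ⊥ →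
        Subgroup.centralizer X ≤ M ∧ ∀ L : Subgroup G, IsCoatom L → Subgroup.centralizer X ≤ L → L = M) ∧
      Cfsg.IsTISubset (Cfsg.typeA M \ Cfsg.typeA1 M) := by
  haveI : MinS G := ⟨hG⟩
  have k : Cfsg.IsOfTypeI M → Agent.IsOfTypeI M := fun t => by
    obtain ⟨K, hK⟩ := exists_hall (max_sol hM) (kappa M)
    refine (typeI_iff hM).2 ((kappa_eq_empty_iff hK).2 (by_contra fun e => ?_))
    obtain ⟨V, hV⟩ := exists_typeP hM hK e
    exact (FT.exists_TF t.1).elim fun _ => hV.not_TF
  have e : Cfsg.typeA M = Agent.typeA M := by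
    rcases hU with ⟨t, -⟩ | ⟨t, -⟩
    · rw [Cfsg.typeA, Agent.typeA, if_pos t, if_pos (k t)]
    · obtain ⟨_, _, _, s⟩ := FT.typeP_of (Or.inl t)
      rw [Cfsg.typeA, Agent.typeA, if_neg (mt k s.not_typeI), if_neg s.not_typeI]
  replace hU := hU.imp_left (And.imp_left k)
  obtain ⟨a, b, c⟩ := (bg16 (G := G)).compl M U hM hU
  refine ⟨fun p hp P => ?_, fun X h1 ⟨x, hx⟩ h2 => ?_, e ▸ c⟩
  · haveI := Fact.mk hp
    obtain ⟨a, b⟩ := a p hp _ (isSyl_map_subtype P)
    have e := Subgroup.equivMapOfInjective (P : Subgroup U) _ U.subtype_injective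
    exact ⟨⟨⟨fun x y => e.injective (by rw [map_mul, map_mul, a.1.1])⟩⟩, (pRankLE_congr e).2 (prankLE_iff.2 b)⟩
  · rw [← Subgroup.centralizer_closure] at h2 ⊢
    have := b _ ((Subgroup.closure_le _).2 fun y hy => (h1 hy).1)
      (ne_bot_of_mem (Subgroup.subset_closure hx) (h1 hx).2) h2
    exact ⟨this.le, this.uniq⟩

end Cfsg.Agent.S1390
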