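import Cfsg.Statements.S1396
import Cfsg.Agent.Lib.MS.Sec7

set_option autoImplicit false
open Cfsg

namespace Cfsg.Agent.S1396

set_option linter.unusedSectionVars false
set_option linter.unusedVariables false
set_option linter.style.haveILetI false
set_option linter.unusedSimpArgs false

/-- Let G be a minimal simple group of odd order, p a prime dividing the order of G and A an abelian p-subgroup. Suppose either (1) A consists exactly of the elements x of C_G(A) with x^p = 1, and every proper subgroup of G has p-length at most one, or (2) A is normal and self-centralizing in some Sylow p-subgroup of G and has rank at least 2. Then A satisfies the transitivity hypothesis. -/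
theorem result {G : Type*} [Group G] [Finite G] (hG : Cfsg.IsMinSimpleOddOrder G)
    (p : ℕ) [Fact p.Prime] (hp : p ∣ Nat.card G) (A : Subgroup G) (hAp : IsPGroup p A) (hAc : IsMulCommutative A)
    (h : (∀ x ∈ Subgroup.centralizer (A : Set G), x ^ p = 1 ↔ x ∈ A) ∧ (∀ H : Subgroup G, H ≠ ⊤ → Cfsg.PLengthLE p 1 H) ∨
      ∃ P : Sylow p G, Cfsg.IsSCN (P : Subgroup G) A ∧ ¬ Cfsg.PRankLE p 1 A) :
    Cfsg.TransitivityHypothesis A := by
  haveI : MS.MinS G := ⟨hG⟩
  rw [MS.nc_iff]
  rcases h with ⟨h1, h2⟩ | ⟨P, h1, h2⟩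
  · refine MS.bg7_5a (p := p) (fun e => ?_) (MS.maxEl_of_mem le_top ⟨hAc, fun a ha => (h1 a (MS.ab_cc hAc ha)).2 ha⟩
      fun x _ a b => (h1 x a).1 b) fun H hH => MS.pl1_iff.2 (h2 H hH)
    obtain ⟨x, hx⟩ := exists_prime_orderOf_dvd_card' p hp
    have h3 := (h1 x (by rw [e, MS.cc_bot]; trivial)).1 (hx ▸ pow_orderOf_eq_one x)
    rw [e, Subgroup.mem_bot] at h3
    rw [h3, orderOf_one] at hx
    exact (Fact.out : p.Prime).one_lt.ne hx
  · exact MS.bg7_5b (Transfer.isSyl_top P) h1 (not_not.1 (MS.prankLE_iff.not.1 h2))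

end Cfsg.Agent.S1396
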