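import Cfsg.Statements.S1405
import Cfsg.Agent.Lib.MS.Sec10a

set_option autoImplicit false
open Cfsg

namespace Cfsg.Agent.S1405

set_option linter.unusedSectionVars false
set_option linter.unusedVariables false
set_option linter.style.haveILetI false
set_option linter.unusedSimpArgs false

/-- Let G be a minimal simple group of odd order and M a maximal subgroup, α(M) the set of primes p with M of p-rank at least 3, and M_α = O_{α(M)}(M). Then M_α is a Hall α(M)-subgroup of M and of G, M_α ≤ M_σ, the quotient M/M_α has no elementary abelian subgroup of order p ^ 3 for any prime p, and the image of M' in M/M_α is nilpotent. -/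
theorem result {G : Type*} [Group G] [Finite G] (hG : Cfsg.IsMinSimpleOddOrder G)
    (M : Subgroup G) (hM : IsCoatom M) :
    Cfsg.IsPiHallOf (Cfsg.alpha M) (Cfsg.alphaCore M) M ∧ Cfsg.IsPiHall (Cfsg.alpha M) (Cfsg.alphaCore M) ∧
      Cfsg.alphaCore M ≤ Cfsg.sigmaCore M ∧ Cfsg.RankLE 2 (↥M ⧸ Cfsg.piCore (Cfsg.alpha M) ↥M) ∧
      Group.IsNilpotent ↥((commutator ↥M).map (QuotientGroup.mk' (Cfsg.piCore (Cfsg.alpha M) ↥M))) := by
  haveI : MS.MinS G := ⟨hG⟩
  have q : MS.QM (alphaCore M) M (QuotientGroup.mk' (piCore (alpha M) M)) :=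
    ⟨MS.Al_le M, QuotientGroup.mk'_surjective _, by
      rw [QuotientGroup.ker_mk', MS.Al_eq, MS.O_subgroupOf]⟩
  refine ⟨MS.Al_hall hM, ?_, MS.Al_le_Sg hM, ?_, ?_⟩
  · exact ⟨MS.Al_pi M, fun p a b => by simpa using (MS.Al_hall_top hM).nd a b⟩
  · intro p hp
    haveI := Fact.mk hp
    rw [MS.prankLE_top, ← q.im_top]
    intro h
    by_cases e : p ∈ alpha M
    · have h1 := (MS.Al_hall hM).im (f := QuotientGroup.mk' (piCore (alpha M) M)) le_rfl
      rw [q.im_N] at h1
      exact h1.eq_bot_iff.1 rfl p hp h.dvd e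
    · exact e (MS.alpha_iff.2 (q.rk_of_im le_rfl q.le ((MS.Al_pi M).not_dvd hp e) h))
  · have := (MS.Al_quo hM q).2
    rwa [MS.im_comm le_rfl le_rfl, q.im_top, ← Subgroup.map_top_of_surjective _ q.surj,
      ← Subgroup.map_commutator] at this

end Cfsg.Agent.S1405
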