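import Cfsg.Statements.S1407
import Cfsg.Agent.Lib.MS.Sec10a

set_option autoImplicit false
open Cfsg

namespace Cfsg.Agent.S1407

set_option linter.unusedSectionVars false
set_option linter.unusedVariables false
set_option linter.style.haveILetI false
set_option linter.unusedSimpArgs false

/-- Let G be a minimal simple group of odd order, M a maximal subgroup with M_α ≠ 1, p a prime dividing the order of M but not in σ(M), and P a Sylow p-subgroup of M. Then there is an element x of order p in the centre of P such that M_α ∩ C_G(x) has all Sylow subgroups cyclic and M is not the unique maximal subgroup of G containing C_G(x). -/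
theorem result {G : Type*} [Group G] [Finite G] (hG : Cfsg.IsMinSimpleOddOrder G)
    (M : Subgroup G) (hM : IsCoatom M) (hMα : Cfsg.alphaCore M ≠ ⊥) (p : ℕ) [Fact p.Prime] (hpM : p ∣ Nat.card M) (hp : p ∉ Cfsg.sigma M) (P : Sylow p M) :
    ∃ x : G, x ∈ ((Subgroup.center ↥(P : Subgroup M)).map (P : Subgroup M).subtype).map M.subtype ∧ orderOf x = p ∧
        IsZGroup ↥(Cfsg.alphaCore M ⊓ Subgroup.centralizer ({x} : Set G)) ∧
        ¬ (Subgroup.centralizer ({x} : Set G) ≤ M ∧ ∀ L : Subgroup G, IsCoatom L → Subgroup.centralizer ({x} : Set G) ≤ L → L = M) := by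
  haveI : MS.MinS G := ⟨hG⟩
  have hP := Transfer.isSyl_map_subtype P
  obtain ⟨X, h1, h2, h3, h4⟩ := MS.bg10_4b hM hp hP (MS.syl_ne_bot hP hpM)
  have h5 : (Nat.card X).Prime := h2 ▸ Fact.out
  obtain ⟨x, h6, h7⟩ := MS.exists_ne_one (MS.prime_ne_bot h5)
  rw [← MS.prime_cc h5 h6 h7] at h3 h4
  refine ⟨x, ?_, by rw [← Nat.card_zpowers, MS.prime_eq_zpowers h5 h6 h7, h2],
    (MS.zgroup_iff (MS.odd_sub _)).2 h4, fun h => h3 ⟨hM, h.1, h.2⟩⟩
  obtain ⟨y, a, rfl⟩ := (h1 h6).1
  refine ⟨y, ⟨⟨y, a⟩, Subgroup.mem_center_iff.2 fun z => Subtype.ext (Subtype.ext ?_), rfl⟩, rfl⟩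
  exact (h1 h6).2 _ ⟨z, z.2, rfl⟩

end Cfsg.Agent.S1407
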