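import Cfsg.Statements.S1414
import Cfsg.Agent.Lib.MS.Sec10b

set_option autoImplicit false
open Cfsg

namespace Cfsg.Agent.S1414

set_option linter.unusedSectionVars false
set_option linter.unusedVariables false
set_option linter.style.haveILetI false
set_option linter.unusedSimpArgs false

/-- Let G be a minimal simple group of odd order, M a maximal subgroup, β(M) the set of ideal primes in α(M), and M_β = O_{β(M)}(M). Then M_β is a Hall β(M)-subgroup of M and of G; M' and M_σ each have a nilpotent Hall β(M)'-subgroup; and for each prime p dividing the order of M with p ∉ β(M), both M' and M_σ have normal p-complements and every prime dividing the index of O_{p'}(M) in M is at most p. -/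
theorem result {G : Type*} [Group G] [Finite G] (hG : Cfsg.IsMinSimpleOddOrder G)
    (M : Subgroup G) (hM : IsCoatom M) :
    Cfsg.IsPiHallOf (Cfsg.beta M) (Cfsg.piCoreOf (Cfsg.beta M) M) M ∧ Cfsg.IsPiHall (Cfsg.beta M) (Cfsg.piCoreOf (Cfsg.beta M) M) ∧
      (∃ H : Subgroup G, Cfsg.IsPiHallOf {q | q.Prime ∧ q ∉ Cfsg.beta M} H ⁅M, M⁆ ∧ Group.IsNilpotent H) ∧
      (∃ H : Subgroup G, Cfsg.IsPiHallOf {q | q.Prime ∧ q ∉ Cfsg.beta M} H (Cfsg.sigmaCore M) ∧ Group.IsNilpotent H) ∧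
      ∀ p : ℕ, p.Prime → p ∣ Nat.card M → p ∉ Cfsg.beta M →
        Cfsg.HasNormalPComplement p ↥⁅M, M⁆ ∧ Cfsg.HasNormalPComplement p ↥(Cfsg.sigmaCore M) ∧
        ∀ q : ℕ, q.Prime → q ∣ (Cfsg.pPrimeCore p ↥M).index → q ≤ p := by
  haveI : MS.MinS G := ⟨hG⟩
  have key : ∀ K ≤ ⁅M, M⁆, ∃ H : Subgroup G, Cfsg.IsPiHallOf {q | q.Prime ∧ q ∉ Cfsg.beta M} H K ∧
      Group.IsNilpotent H := fun K hK => by
    obtain ⟨H, h⟩ := MS.exists_hall (MS.sol_of_le hM (hK.trans (MS.der_le M))) (beta M)ᶜ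
    exact ⟨H, h.congr fun p a _ => ⟨fun b => ⟨a, b⟩, fun b => b.2⟩, MS.nil_of_nb hM (h.le.trans hK) h.pi⟩
  refine ⟨MS.Be_hall hM, ⟨MS.Be_pi M, fun p a b => by simpa using (MS.Be_hall_top hM).nd a b⟩, key _ le_rfl,
    key _ (MS.Sg_le_der hM), fun p a _ b => ?_⟩
  haveI := Fact.mk a
  obtain ⟨h1, h2⟩ := MS.bg10_8c hM b
  refine ⟨MS.npc_iff.1 h1, MS.npc_iff.1 (h1.mono (MS.Sg_le_der hM)), fun q c d => h2 q c ?_⟩
  rwa [← MS.map_pPrimeCore, Subgroup.relIndex, Subgroup.subgroupOf, Subgroup.comap_map_eq_self_of_injective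
    M.subtype_injective]

end Cfsg.Agent.S1414
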