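import Cfsg.Statements.S1441
import Cfsg.Agent.Lib.BG.Sec1

set_option autoImplicit false
open Cfsg

namespace Cfsg.Agent.S1441

/-- Let G be a finite group, H a solvable subgroup and A a subgroup normalizing H. Suppose there is a chain H = H₀ ≥ H₁ ≥ ⋯ ≥ H_n = 1 of subgroups normal in H and normalized by A such that A acts trivially on each factor H_{i-1}/H_i (that is, [H_{i-1}, A] ≤ H_i). Then every prime dividing the index of C_A(H) in A divides the order of H. -/
theorem result {G : Type*} [Group G] [Finite G] (H A : Subgroup G) (hH : Group.IsSolvable H) (hA : (A ≤ Subgroup.normalizer (H : Set G)))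
    (n : ℕ) (c : Fin (n + 1) → Subgroup G) (hc0 : c 0 = H) (hcn : c (Fin.last n) = ⊥) (hanti : Antitone c)
    (hcN : ∀ i, H ≤ Subgroup.normalizer ((c i : Subgroup G) : Set G)) (hcA : ∀ i, A ≤ Subgroup.normalizer ((c i : Subgroup G) : Set G))
    (htriv : ∀ i : Fin n, ⁅c i.castSucc, A⁆ ≤ c i.succ) :
    ∀ p : ℕ, p.Prime → p ∣ (A ⊓ Subgroup.centralizer (H : Set G)).relIndex A → p ∣ Nat.card H := by
  open Pointwise commutatorElement Subgroup in
  open Cfsg.Agent.BG Cfsg.Agent.Comp in
  intro p hp hd
  by_contra hn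
  haveI := Fact.mk hp
  obtain ⟨P, hP⟩ := exists_sylIn p A
  have hc : (Nat.card H).Coprime p := (Nat.Prime.coprime_iff_not_dvd hp).2 hn |>.symm
  have key : ∀ k : ℕ, ∀ i : Fin (n + 1), i.val + k = n → P ≤ Subgroup.centralizer (c i : Set G) := by
    intro k
    induction k with
    | zero =>
      intro i hi
      obtain rfl : i = Fin.last n := Fin.ext (by simpa using hi)
      rw [hcn]; exact le_Ct_comm.1 bot_le
    | succ k ih =>
      intro i hi
      have hlt : i.val < n := by omega
      have h1 := htriv ⟨i, hlt⟩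
      refine le_Ct_of_commutator_le ?_ ((commutator_mono le_rfl hP.le).trans h1) (ih _ (by simp; omega))
      exact coprime_of_isPGroup hP.isP (Nat.Coprime.of_dvd_left
        (card_dvd_of_le (hc0 ▸ hanti (Fin.zero_le _))) hc)
  have h1 := key n 0 (by simp)
  rw [hc0] at h1
  exact hP.not_dvd_relIndex (hd.trans (relIndex_dvd_of_le (le_inf hP.le h1) inf_le_left))

end Cfsg.Agent.S1441
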