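import Cfsg.Statements.S1447
import Cfsg.Agent.Lib.BG.Meta
import Cfsg.Agent.S0638

set_option autoImplicit false
open Cfsg

namespace Cfsg.Agent.S1447

/-- Let G be a finite group, p an odd prime, R a metacyclic p-subgroup and A a subgroup of order coprime to p normalizing R. Then [R, A] is abelian; R is generated by [R, A] and R ∩ C_G(A), which meet trivially; and if R is non-abelian and A does not centralize R, then [R, A] and R ∩ C_G(A) are nontrivial cyclic groups and [R, R] ≤ [R, A]. -/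
theorem result {G : Type*} [Group G] [Finite G] (p : ℕ) [Fact p.Prime] (hp : p ≠ 2) (R A : Subgroup G) (hR : IsPGroup p R) (hRm : Cfsg.IsMetacyclic R)
    (hA : (A ≤ Subgroup.normalizer (R : Set G))) (hcop : (Nat.card A).Coprime p) :
    IsMulCommutative ↥⁅R, A⁆ ∧ ⁅R, A⁆ ⊔ (R ⊓ Subgroup.centralizer (A : Set G)) = R ∧ ⁅R, A⁆ ⊓ (R ⊓ Subgroup.centralizer (A : Set G)) = ⊥ ∧
      (¬ IsMulCommutative R → ¬ A ≤ Subgroup.centralizer (R : Set G) →
        ⁅R, A⁆ ≠ ⊥ ∧ IsCyclic ↥⁅R, A⁆ ∧ (R ⊓ Subgroup.centralizer (A : Set G)) ≠ ⊥ ∧ IsCyclic ↥(R ⊓ Subgroup.centralizer (A : Set G)) ∧ ⁅R, R⁆ ≤ ⁅R, A⁆) := by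
  open Pointwise commutatorElement Subgroup in
  open Cfsg.Agent.BG Cfsg.Agent.Comp in
  refine coprime_metacyclic hp hR ?_ (meta_iff.2 hRm).isCyclic_der hA hcop
  by_cases h : IsCyclic R
  · exact (card_le_pow_prank (isElementaryAbelian_omegaOne (comm_iff_le.1 (comm_of_isCyclic h)))
      (omegaOne_le p R)).trans (Nat.pow_le_pow_right (Fact.out : p.Prime).pos
        ((prank_le_one_of_isCyclic h).trans one_le_two))
  · rw [← (Cfsg.Agent.S0638.result hp hR hRm h).2, ← Subgroup.subgroupOf_self, ← subgroupOf_omegaOne le_rfl,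
      card_subgroupOf (omegaOne_le p R)]

end Cfsg.Agent.S1447
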