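import Cfsg.Statements.S1450
import Cfsg.Agent.Lib.BG.Sec5

set_option autoImplicit false
open Cfsg

namespace Cfsg.Agent.S1450

/-- Let G be a solvable group of odd order, p a prime dividing its order with G having no elementary abelian subgroup of order p ^ 3. Then every prime dividing the index of O_{p'}(G) is at most p; if p = 3 or p is the smallest prime divisor of #G then G has a normal p-complement; the derived subgroup G' has a normal p-complement; every subgroup of G' of order coprime to p lies in O_{p'}(G'); and G/O_{p',p}(G) is abelian of order coprime to p. -/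
theorem result {G : Type*} [Group G] [Finite G] [Group.IsSolvable G] (hodd : Odd (Nat.card G)) (p : ℕ) [Fact p.Prime] (hpG : p ∣ Nat.card G) (hr : Cfsg.PRankLE p 2 G) :
    (∀ q : ℕ, q.Prime → q ∣ (Cfsg.pPrimeCore p G).index → q ≤ p) ∧
      ((p = 3 ∨ ∀ q : ℕ, q.Prime → q ∣ Nat.card G → p ≤ q) → Cfsg.HasNormalPComplement p G) ∧
      Cfsg.HasNormalPComplement p ↥(commutator G) ∧
      (∀ L : Subgroup ↥(commutator G), (Nat.card L).Coprime p → L ≤ Cfsg.pPrimeCore p ↥(commutator G)) ∧
      commutator G ≤ Cfsg.pPrimePCore p G ∧ ((Cfsg.pPrimePCore p G).index).Coprime p := by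
  open Pointwise commutatorElement Subgroup in
  open Cfsg.Agent.BG Cfsg.Agent.Comp in
  have hs : Group.IsSolvable (⊤ : Subgroup G) := inferInstance
  have ho : Odd (Nat.card (⊤ : Subgroup G)) := odd_subgroup hodd _
  obtain ⟨T, hTs, hT⟩ := exists_narrow_of_prank_le (prank_top_le_iff.2 hr)
  have h1 := hT.der_le_Oppp hs ho hTs
  have h2 : Cfsg.HasNormalPComplement p ↥(commutator G) := hasNPC_der_of_le_Oppp h1
  refine ⟨fun q hq hd => hT.le_of_dvd_relIndex_Opp hs ho hTs hq (by rwa [Opp_top, Subgroup.relIndex_top_right]),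
    fun h => Cfsg.Agent.Transfer.hasNPC_top.1 (hT.hasNPC hs ho hTs (by simpa using h)), h2, fun L hL => ?_,
    by rw [← Oppp_top]; exact h1, pLengthLE_one_iff.1 (pl1_top_iff.1 (pl1_of_der_le_Oppp h1))⟩
  rw [← Opp_top]
  exact le_Opp_of_hasNPC (Cfsg.Agent.Transfer.hasNPC_top.2 h2) le_top hL

end Cfsg.Agent.S1450
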