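import Cfsg.Statements.S1451
import Cfsg.Agent.Lib.BG.Sec5

set_option autoImplicit false
open Cfsg

namespace Cfsg.Agent.S1451

/-- Let G be a solvable group of odd order such that G, or its Fitting subgroup, has no elementary abelian subgroup of order q ^ 3 for any prime q. Then G' is nilpotent; for every Sylow subgroup S of G, every characteristic subgroup T of S with T ≤ [S, S] is normal in G; and for every prime p, G has a characteristic subgroup that is a Hall subgroup for the set of primes greater than p. -/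
theorem result {G : Type*} [Group G] [Finite G] [Group.IsSolvable G] (hodd : Odd (Nat.card G)) (hr : Cfsg.RankLE 2 G ∨ Cfsg.RankLE 2 (Cfsg.fittingSubgroup G)) :
    Group.IsNilpotent ↥(commutator G) ∧
      (∀ (q : ℕ) [Fact q.Prime] (S : Sylow q G) (T : Subgroup ↥(S : Subgroup G)), T.Characteristic → T.map (S : Subgroup G).subtype ≤ ⁅(S : Subgroup G), (S : Subgroup G)⁆ →
        (T.map (S : Subgroup G).subtype).Normal) ∧
      ∀ p : ℕ, ∃ N : Subgroup G, N.Characteristic ∧ Cfsg.IsPiHall {q | q.Prime ∧ p < q} N := by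
  open Pointwise commutatorElement Subgroup in
  open Cfsg.Agent.BG Cfsg.Agent.Comp in
  have hs : Group.IsSolvable (⊤ : Subgroup G) := inferInstance
  have ho : Odd (Nat.card (⊤ : Subgroup G)) := odd_subgroup hodd _
  have h0 : rank (Fit (⊤ : Subgroup G)) ≤ 2 := by
    rcases hr with h | h
    · exact (rank_mono le_top).trans (rank_top_le_iff.2 h)
    · rw [Fit_top]; exact rank_le_iff.2 h
  have h1 := der_le_Fit_of_rank_le hs ho h0
  refine ⟨isNilpotent_of_le h1 (isNilpotent_Fit _), fun q _ S T hT h => ?_, fun p => ⟨Cfsg.piCore {q | q.Prime ∧ p < q} G, inferInstance, ?_⟩⟩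
  · exact Cfsg.Agent.Comp.normal_iff_top_le_normalizer.2 (le_normalizer_of_der_le_Fit h1 (sylIn_top S) h
      (inf_le_right.trans (Cfsg.Agent.Solv.normalizer_le_normalizer_map_of_characteristic _ T)))
  · rw [← hallIn_top_iff, ← Opi_top]
    exact hallIn_Opi_of_rank_Fit_le (fun q r _ b c d => ⟨b, c.2.trans_le d⟩) hs ho h0

end Cfsg.Agent.S1451
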