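import Cfsg.Statements.S1454
import Cfsg.Agent.Lib.BG.Meta

set_option autoImplicit false
open Cfsg

namespace Cfsg.Agent.S1454

/-- Let G be a finite group, p an odd prime, R a narrow p-subgroup and A a solvable subgroup of odd order normalizing R with A ∩ C_G(R) = 1. Then [A, A] ≤ O_p(A) and the index of O_p(A) in A is coprime to p; if R has an elementary abelian subgroup of order p ^ 3 then the order of every element of A of order coprime to p divides p − 1; and if the order of A is a prime not dividing p(p − 1), then 2·#A divides p + 1, and if in addition [R, A] = R and R is non-abelian then #R = p ^ 3. -/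
theorem result {G : Type*} [Group G] [Finite G] (p : ℕ) [Fact p.Prime] (hp : p ≠ 2) (R A : Subgroup G) (hR : IsPGroup p R) (hRn : Cfsg.IsNarrow p R)
    (hA : (A ≤ Subgroup.normalizer (R : Set G))) (hAs : Group.IsSolvable A) (hAodd : Odd (Nat.card A)) (hfaith : A ⊓ Subgroup.centralizer (R : Set G) = ⊥) :
    (commutator ↥A ≤ Cfsg.pCore p ↥A ∧ ((Cfsg.pCore p ↥A).index).Coprime p) ∧
      (¬ Cfsg.PRankLE p 2 R → ∀ a ∈ A, (orderOf a).Coprime p → orderOf a ∣ p - 1) ∧
      ((Nat.card A).Prime → ¬ Nat.card A ∣ p * (p - 1) →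
        2 * Nat.card A ∣ p + 1 ∧ (⁅R, A⁆ = R → ¬ IsMulCommutative R → Nat.card R = p ^ 3)) := by
  open Pointwise commutatorElement Subgroup in
  open Cfsg.Agent.BG Cfsg.Agent.Comp in
  have hn := (isNarrow_iff hp hR).1 hRn
  have h1 : ⁅A, A⁆ ≤ Op p A := le_Op (der_le A) (le_Nm_of_der_le le_rfl (der_le A)) (Res_eq_bot_iff.1
    (eq_bot_iff.2 (hfaith ▸ le_inf ((Res_le p _).trans (der_le A)) (hn.res_der_le hp hR hA hAodd))))
  refine ⟨⟨?_, ?_⟩, fun h a ha hc => orderOf_dvd_of_pow_eq_one (Subgroup.mem_bot.1 (hfaith ▸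
    ⟨pow_mem ha _, hn.pow_mem_Ct hp hR (not_pRankLE_iff.1 h) (hA ha) hc⟩)), fun hq hd =>
    hn.prime_act hp hR hA hq hAodd (fun e => ?_) hd⟩
  · rw [← map_pCore, ← Subgroup.map_subtype_commutator] at h1
    exact (Subgroup.map_le_map_iff_of_injective A.subtype_injective).1 h1
  · obtain ⟨P, hP⟩ := exists_sylIn p A
    have := hP.not_dvd_relIndex
    rw [hP.eq_Op (le_Nm_of_der_le (h1.trans hP.Op_le) hP.le), ← map_pCore,
      Cfsg.Agent.Solv.relIndex_map_subtype] at this
    exact coprime_iff_not_dvd.2 this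
  · rw [inf_eq_left.2 e] at hfaith
    rw [hfaith, Subgroup.card_bot] at hq
    exact Nat.not_prime_one hq

end Cfsg.Agent.S1454
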