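import Cfsg.Statements.S1463
import Cfsg.Agent.Lib.FT.Final
import Cfsg.Agent.Lib.BG.GL2
import Cfsg.Agent.Lib.Solv.Cores
import Cfsg.Agent.Lib.Solv.SylowIn

set_option autoImplicit false
open scoped MatrixGroups
open Cfsg

namespace Cfsg.Agent.S1463

open Subgroup Cfsg.Agent.BG Cfsg.Agent.Solv Cfsg.Agent.Perm Cfsg.Agent.Perm.GL2

theorem key {F : Type*} [Field F] {X : Type*} [Group X] [Finite X] (φ : X →* GL (Fin 2) F)
    (hφ : Function.Injective φ) (ho : Odd (Nat.card X)) {x g : X} {n : ℕ} (hno : Odd n)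
    (hn : (n : F) ≠ 0) (hx : x ^ n = 1) (h : Commute (g * x * g⁻¹) x) : Commute g x := by
  have inj : ∀ u v : X, (φ u : M2 F) * φ v = φ v * φ u → Commute u v := fun u v e =>
    hφ (by rw [map_mul, map_mul]; exact Units.ext e)
  by_cases hs : IsScal (φ x : M2 F)
  · exact inj _ _ (hs.comm _)
  have hD := disc_ne_zero hs hno hn (by rw [← Units.val_pow_eq_pow_val, ← map_pow, hx, map_one]; rfl)
  have hcj : IsConj (φ x) (φ (g * x * g⁻¹)) := isConj_iff.2 ⟨φ g, by simp⟩
  have h1 : (φ (g * x * g⁻¹) : M2 F) * φ g = φ g * φ x := by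
    rw [← Units.val_mul, ← Units.val_mul, ← map_mul, ← map_mul, inv_mul_cancel_right]
  rcases eq_or_eq_adj_of_comm hs hD (y := φ (g * x * g⁻¹))
    (by rw [← Units.val_mul, ← Units.val_mul, ← map_mul, ← map_mul, h.eq])
    (trace_eq_of_isConj hcj).symm (det_eq_of_isConj hcj).symm with e | e
  · exact inj _ _ (by rw [← h1, e])
  · refine commute_of_commute_sq (ho.of_dvd_nat (orderOf_dvd_natCard g)) (inj _ _ ?_)
    rw [e] at h1
    rw [map_mul, Units.val_mul, mul_assoc, ← h1, ← mul_assoc, mul_sub, ← h1]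
    simp [sub_mul, mul_assoc]

theorem mem_span_of_ker {F : Type*} [Field F] {n : Matrix (Fin 2) (Fin 2) F} (hn : n ≠ 0)
    {v w : Fin 2 → F} (hv : v ≠ 0) (h1 : n.mulVec v = 0) (h2 : n.mulVec w = 0) :
    ∃ c : F, w = c • v := by
  have hd : v 0 * w 1 - v 1 * w 0 = 0 := by
    by_contra hd
    apply hn
    ext i j
    have e1 := congrFun h1 i
    have e2 := congrFun h2 i
    simp [Matrix.mulVec, dotProduct, Fin.sum_univ_two] at e1 e2
    fin_cases j
    · apply mul_left_cancel₀ hd
      simp only [Fin.zero_eta, Matrix.zero_apply]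
      linear_combination w 1 * e1 - v 1 * e2
    · apply mul_left_cancel₀ hd
      simp only [Fin.mk_one, Matrix.zero_apply]
      linear_combination v 0 * e2 - w 0 * e1
  by_cases h0 : v 0 = 0
  · have h3 : v 1 ≠ 0 := fun h3 => hv (by ext i; fin_cases i <;> simpa)
    refine ⟨w 1 / v 1, ?_⟩
    ext i; fin_cases i
    · simp only [Fin.zero_eta, Pi.smul_apply, smul_eq_mul, h0, mul_zero]
      apply mul_left_cancel₀ h3
      rw [h0] at hd
      linear_combination -hd
    · simp [h3]
  · refine ⟨w 0 / v 0, ?_⟩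
    ext i; fin_cases i
    · simp [h0]
    · simp only [Fin.mk_one, Pi.smul_apply, smul_eq_mul]
      field_simp
      linear_combination hd

/-- Let F be a field of odd characteristic p and H a finite subgroup of odd order of GL(2, F) that leaves no 1-dimensional subspace of F² invariant. Then p does not divide the order of H. -/
theorem result {F : Type*} [Field F] (p : ℕ) [Fact p.Prime] [CharP F p] (hp : p ≠ 2)
    (H : Subgroup (GL (Fin 2) F)) [Finite H] (hodd : Odd (Nat.card H))
    (hirr : ∀ v : Fin 2 → F, v ≠ 0 → ∃ g ∈ H, (g : Matrix (Fin 2) (Fin 2) F).mulVec v ∉ Submodule.span F {v}) :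
    ¬ p ∣ Nat.card H := by
  intro hpd
  have hP : p.Prime := Fact.out
  have hsol := PF.odd_solvable hodd
  have hO : pCore p H = ⊥ := by
    by_contra hO
    have hnt : Nontrivial (pCore p H) := (nontrivial_iff_ne_bot _).2 hO
    have := (isPGroup_pCore p H).center_nontrivial
    obtain ⟨z, hz⟩ := exists_ne (1 : center (pCore p H))
    obtain ⟨k, hk⟩ := isPGroup_pCore p H z.1
    set u : H := z.1.1 with hu
    have hu1 : u ≠ 1 := fun e => hz (Subtype.ext (Subtype.ext e))
    have hupow : u ^ p ^ k = 1 := congrArg Subtype.val hk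
    have hn0 : ∀ w : H, w ≠ 1 → ((w : GL (Fin 2) F) : M2 F) - 1 ≠ 0 := fun w hw e =>
      hw (Subtype.ext (Units.ext (sub_eq_zero.1 e)))
    have hnil : (((u : GL (Fin 2) F) : M2 F) - 1) ^ p ^ k = 0 := by
      rw [sub_pow_char_pow_of_commute _ _ (Commute.one_right _), one_pow, ← Units.val_pow_eq_pow_val,
        ← Subgroup.coe_pow, hupow]
      simp
    have hdet : (((u : GL (Fin 2) F) : M2 F) - 1).det = 0 := by
      have := congrArg Matrix.det hnil
      rw [Matrix.det_pow, Matrix.det_zero] at this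
      exact pow_eq_zero_iff (pow_pos hP.pos k).ne' |>.1 this
    obtain ⟨v, hv0, hv⟩ := Matrix.exists_mulVec_eq_zero_iff.2 hdet
    obtain ⟨g, hg, hgv⟩ := hirr v hv0
    apply hgv
    set n : M2 F := ((u : GL (Fin 2) F) : M2 F) - 1 with hn
    set u' : H := ⟨g, hg⟩ * u * ⟨g, hg⟩⁻¹ with hu'
    have hu'1 : u' ≠ 1 := by rw [hu']; simpa using hu1
    have hc : u' * u = u * u' := by
      have h1 : u' ∈ pCore p H := Normal.conj_mem inferInstance _ z.1.2 _
      exact congrArg Subtype.val (mem_center_iff.1 z.2 ⟨u', h1⟩)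
    set n' : M2 F := ((u' : GL (Fin 2) F) : M2 F) - 1 with hn'
    have hcm : n' * n = n * n' := by
      have h1 : ((u' : GL (Fin 2) F) : M2 F) * ((u : GL (Fin 2) F) : M2 F) =
          ((u : GL (Fin 2) F) : M2 F) * ((u' : GL (Fin 2) F) : M2 F) := by
        rw [← Units.val_mul, ← Units.val_mul, ← Subgroup.coe_mul, ← Subgroup.coe_mul, hc]
      rw [hn, hn']
      simp only [sub_mul, mul_sub, h1, mul_one, one_mul]
      abel
    have h2 : n' * (g : M2 F) = (g : M2 F) * n := by
      have h1 : ((u' : GL (Fin 2) F) : M2 F) * (g : M2 F) = (g : M2 F) * ((u : GL (Fin 2) F) : M2 F) := by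
        rw [← Units.val_mul, ← Units.val_mul, hu']
        simp
      rw [hn, hn', sub_mul, mul_sub, h1, one_mul, mul_one]
    have h3 : n'.mulVec ((g : M2 F).mulVec v) = 0 := by
      rw [Matrix.mulVec_mulVec, h2, ← Matrix.mulVec_mulVec, hv, Matrix.mulVec_zero]
    have h4 : (g : M2 F).mulVec v ≠ 0 := fun e => hv0 (by
      have := congrArg ((g⁻¹ : GL (Fin 2) F) : M2 F).mulVec e
      rwa [Matrix.mulVec_mulVec, Units.inv_mul, Matrix.one_mulVec, Matrix.mulVec_zero] at this)
    obtain ⟨c, hc'⟩ := mem_span_of_ker (hn0 u' hu'1) h4 h3 (w := n.mulVec ((g : M2 F).mulVec v)) (by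
      rw [Matrix.mulVec_mulVec, ← hn', hcm, ← Matrix.mulVec_mulVec, h3, Matrix.mulVec_zero])
    have h5 : ∀ j : ℕ, (n ^ j).mulVec ((g : M2 F).mulVec v) = c ^ j • (g : M2 F).mulVec v := by
      intro j
      induction j with
      | zero => simp
      | succ j ih => rw [pow_succ, ← Matrix.mulVec_mulVec, hc', Matrix.mulVec_smul, ih, smul_smul, pow_succ']
    have h6 := h5 (p ^ k)
    rw [hnil, Matrix.zero_mulVec, eq_comm, smul_eq_zero] at h6
    have h7 : c = 0 := pow_eq_zero_iff (pow_pos hP.pos k).ne' |>.1 (h6.resolve_right h4)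
    rw [h7, zero_smul] at hc'
    obtain ⟨d, hd⟩ := mem_span_of_ker (hn0 u hu1) hv0 hv hc'
    rw [hd]
    exact Submodule.smul_mem _ _ (Submodule.mem_span_singleton_self v)
  have hF : ¬ p ∣ Nat.card (fittingSubgroup H) := by
    have h1 : fittingSubgroup H ≤ pPrimeCore p H := by
      have := fitting_le_pCore_sup_pPrimeCore (G := H) (p := p)
      rwa [hO, bot_sup_eq] at this
    exact fun h => not_dvd_card_pPrimeCore (h.trans (card_dvd_of_le h1))
  have hFo : Odd (Nat.card (fittingSubgroup H)) := hodd.of_dvd_nat (card_subgroup_dvd_card _)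
  have hF0 : (Nat.card (fittingSubgroup H) : F) ≠ 0 := fun e => hF ((CharP.cast_eq_zero_iff F p _).1 e)
  have := Fintype.ofFinite H
  obtain ⟨g, hg⟩ := exists_prime_orderOf_dvd_card' p hpd
  have h1 : g ∈ centralizer (fittingSubgroup H : Set H) := by
    intro x hx
    refine (key H.subtype H.subtype_injective hodd hFo hF0 (x := x) (g := g) ?_ ?_).symm.eq
    · exact pow_card_eq_one_of_mem hx
    · have h2 : g * x * g⁻¹ ∈ fittingSubgroup H := Normal.conj_mem inferInstance _ hx _
      have := comm_of_gl2 (H.subtype.comp (fittingSubgroup H).subtype)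
        (H.subtype_injective.comp (fittingSubgroup H).subtype_injective) hFo hF0 ⟨_, h2⟩ ⟨_, hx⟩
      exact congrArg Subtype.val this.eq
  exact hF (hg ▸ orderOf_dvd_card_of_mem (centralizer_fitting_le h1))

end Cfsg.Agent.S1463
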