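import Cfsg.Statements.S1465
import Cfsg.Agent.Lib.BG.Sec1

set_option autoImplicit false
open Cfsg

namespace Cfsg.Agent.S1465

/-- Let p be an odd prime, G a solvable group of odd order, P a normal p-subgroup of G, and X the subgroup generated by a family of abelian p-subgroups of G each normalized by P. Then the image of X in G/C_G(P) lies in O_p(G/C_G(P)); and if O_{p'}(G) = 1 and O_p(G) ∩ C_G(P) ≤ P then X ≤ O_p(G). -/
theorem result {G : Type*} [Group G] [Finite G] [Group.IsSolvable G] (hodd : Odd (Nat.card G)) (p : ℕ) [Fact p.Prime] (hp : p ≠ 2) (P : Subgroup G) [P.Normal] (hP : IsPGroup p P)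
    (S : Set (Subgroup G)) (hS : ∀ B ∈ S, IsMulCommutative B ∧ IsPGroup p B ∧ P ≤ Subgroup.normalizer (B : Set G)) :
    (sSup S).map (QuotientGroup.mk' (Subgroup.centralizer (P : Set G))) ≤ Cfsg.pCore p (G ⧸ Subgroup.centralizer (P : Set G)) ∧
      (Cfsg.pPrimeCore p G = ⊥ → Cfsg.pCore p G ⊓ Subgroup.centralizer (P : Set G) ≤ P → sSup S ≤ Cfsg.pCore p G) := by
  open Pointwise commutatorElement Subgroup in
  open Cfsg.Agent.BG Cfsg.Agent.Comp in
  refine ⟨?_, fun h0 h1 => sSup_le fun B hB => ?_⟩
  · rw [Subgroup.map_le_iff_le_comap]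
    refine sSup_le fun B hB a ha => ?_
    rw [Subgroup.mem_comap]
    refine Transfer.mk_mem_pCore_of_pairs fun g => ?_
    have h1 : ⁅⁅P, zpowers a⁆, zpowers a⁆ = ⊥ :=
      Transfer.quad_mono le_rfl (zpowers_le.2 ha) (quadratic_of_comm (hS B hB).1 (hS B hB).2.2)
    exact Transfer.res_le_centralizer_of_quadratic hp hP le_normalizer_of_normal rfl h1
      (Transfer.quad_cj (le_normalizer_of_normal (mem_top g)) h1) default
      (sylow_two_comm (odd_subgroup hodd _) _)
  · rw [← Op_top] at h1 ⊢
    rw [← Opp_top] at h0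
    have hC : CharP p (⊤ ⊓ Subgroup.centralizer (P : Set G)) :=
      (charP_of_isSolvable inferInstance h0).inf_centralizer hP le_top
    refine le_Op_of_quadratic hp (odd_subgroup hodd _) hP le_normalizer_of_normal le_top
      (quadratic_of_comm (hS B hB).1 (hS B hB).2.2) ((isPGroup_Op p _).to_le (le_trans ?_ hC))
    refine le_inf le_rfl (le_trans inf_le_right (centralizer_mono (le_trans ?_ h1)))
    refine le_inf (Op_le_Op_of_normal le_top le_normalizer_of_normal) ((Op_le _ _).trans inf_le_right)

end Cfsg.Agent.S1465
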