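import Cfsg.Statements.S1466
import Cfsg.Agent.Lib.BG.Puig

set_option autoImplicit false
open Cfsg

namespace Cfsg.Agent.S1466

/-- Let p be a prime and R a nontrivial finite p-group. Then for every i > 0, Z(R) ≤ C_R(L_i(R)) ≤ L_i(R); likewise Z(R) ≤ C_R(L_*(R)) ≤ L_*(R) and Z(R) ≤ C_R(L(R)) ≤ L(R); and L(R) ≠ 1, L_*(R) ≠ 1. -/
theorem result {R : Type*} [Group R] [Finite R] (p : ℕ) [Fact p.Prime] (hR : IsPGroup p R) [Nontrivial R] :
    (∀ i : ℕ, 0 < i → Subgroup.center R ≤ Subgroup.centralizer ((Cfsg.puigSeq R i : Subgroup R) : Set R) ∧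
        Subgroup.centralizer ((Cfsg.puigSeq R i : Subgroup R) : Set R) ≤ Cfsg.puigSeq R i) ∧
      (Subgroup.center R ≤ Subgroup.centralizer ((Cfsg.puigLower R : Subgroup R) : Set R) ∧ Subgroup.centralizer ((Cfsg.puigLower R : Subgroup R) : Set R) ≤ Cfsg.puigLower R) ∧
      (Subgroup.center R ≤ Subgroup.centralizer ((Cfsg.puigSubgroup R : Subgroup R) : Set R) ∧ Subgroup.centralizer ((Cfsg.puigSubgroup R : Subgroup R) : Set R) ≤ Cfsg.puigSubgroup R) ∧
      Cfsg.puigSubgroup R ≠ ⊥ ∧ Cfsg.puigLower R ≠ ⊥ := by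
  open Pointwise commutatorElement Subgroup in
  simp only [← Puig.seq_top, ← Puig.LL_top, ← Puig.Ls_top]
  have h : ∀ X : Subgroup R, (∀ A : Subgroup R, A ≤ ⊤ → IsMulCommutative A → ⊤ ≤ normalizer (A : Set R) → A ≤ X) →
      center R ≤ centralizer (X : Set R) ∧ centralizer (X : Set R) ≤ X := fun X h =>
    ⟨center_le_centralizer _, (top_inf_eq _).ge.trans (Puig.inf_Ct_le (hR.to_subgroup ⊤).isNilpotent h)⟩
  have h1 := h (Puig.Ls ⊤) fun A => Puig.le_Ls
  have h2 : Puig.Ls (⊤ : Subgroup R) ≠ ⊥ := fun e => by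
    have := h1.2
    rw [e, coe_bot, centralizer_eq_top_iff_subset.2 (by simp)] at this
    exact bot_ne_top (top_le_iff.1 this)
  exact ⟨fun i hi => h _ fun A a b c => by obtain ⟨i, rfl⟩ := Nat.exists_eq_succ_of_ne_zero hi.ne'; exact Puig.le_seq a b c i, h1,
    h _ fun A a b c => (Puig.le_Ls a b c).trans (Puig.Ls_le_LL _), fun e => h2 (eq_bot_iff.2 ((Puig.Ls_le_LL _).trans e.le)), h2⟩

end Cfsg.Agent.S1466
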