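import Cfsg.Statements.S1469
import Cfsg.Agent.Lib.BG.Puig

set_option autoImplicit false
open Cfsg

namespace Cfsg.Agent.S1469
section
open Pointwise commutatorElement Subgroup
theorem aux {G : Type*} [Group G] [Finite G] [Group.IsSolvable G] (hodd : Odd (Nat.card G)) (p : ℕ) [Fact p.Prime] (hp : p ≠ 2)
    {S : Subgroup G} (hS : Comp.SylIn p S ⊤) (h : pPrimeCore p G = ⊥) :
    (Puig.LL S ⊓ Subgroup.centralizer (Puig.LL S : Set G)).Normal := Comp.normal_iff_top_le_normalizer.2
  (Puig.le_Nm_ZL hp (by rwa [Subgroup.card_top]) (Comp.charP_of_isSolvable inferInstance ((Comp.Opp_top p).trans h)) hS)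
end

/-- Let p be an odd prime, G a solvable group of odd order and S a Sylow p-subgroup, and let Z be the centre of the Puig subgroup L(S), viewed inside G. Then G is generated by O_{p'}(G) and N_G(Z); and if O_{p'}(G) = 1 then Z is normal in G. -/
theorem result {G : Type*} [Group G] [Finite G] [Group.IsSolvable G] (hodd : Odd (Nat.card G)) (p : ℕ) [Fact p.Prime] (hp : p ≠ 2) (S : Sylow p G) :
    Cfsg.pPrimeCore p G ⊔ Subgroup.normalizer ((((Subgroup.center ↥(Cfsg.puigSubgroup ↥(S : Subgroup G))).map (Cfsg.puigSubgroup ↥(S : Subgroup G)).subtype).map (S : Subgroup G).subtype : Subgroup G) : Set G) = ⊤ ∧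
      (Cfsg.pPrimeCore p G = ⊥ → (((Subgroup.center ↥(Cfsg.puigSubgroup ↥(S : Subgroup G))).map (Cfsg.puigSubgroup ↥(S : Subgroup G)).subtype).map (S : Subgroup G).subtype).Normal) := by
  open Pointwise commutatorElement Subgroup in
  open Cfsg.Agent.Comp in
  rw [map_center_subtype, map_center_of_injective (Subgroup.subtype_injective _), Puig.map_puigSubgroup]
  refine ⟨?_, aux hodd p hp (sylIn_top S)⟩
  have h0 : (Nat.card (pPrimeCore p G)).Coprime p := by rw [← Opp_top]; exact coprime_Opp p ⊤
  have h1 := (sylIn_top S).map (QuotientGroup.mk' (pPrimeCore p G))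
  rw [map_top_of_surjective _ (QuotientGroup.mk'_surjective _)] at h1
  have h2 := aux (hodd.of_dvd_nat (card_quotient_dvd_card _)) p hp h1 pPrimeCore_quotient
  rw [← Puig.map_ZL (by rw [QuotientGroup.ker_mk']; exact Comp.inf_eq_bot_of_isPGroup S.2 h0)] at h2
  have h3 := h2.comap (QuotientGroup.mk' (pPrimeCore p G))
  rw [comap_map_eq, QuotientGroup.ker_mk'] at h3
  have h5 : IsPGroup p (Puig.LL (S : Subgroup G) ⊓ centralizer (Puig.LL (S : Subgroup G) : Set G) : Subgroup G) :=
    S.2.to_le (inf_le_left.trans (Puig.LL_le _))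
  generalize Puig.LL (S : Subgroup G) ⊓ centralizer (Puig.LL (S : Subgroup G) : Set G) = Z at h3 h5
  have h4 := (BG.sylIn_sup_left h5 h0 (.inl le_normalizer_of_normal)).frattini le_top le_normalizer_of_normal
  rwa [top_inf_eq, sup_comm _ (pPrimeCore p G), sup_assoc, sup_eq_right.2 le_normalizer] at h4

end Cfsg.Agent.S1469
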