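import Cfsg.Statements.S1475
import Cfsg.Agent.Lib.BG.Sec1
import Cfsg.Agent.Lib.Solv.Frob3

set_option autoImplicit false
open Cfsg

namespace Cfsg.Agent.S1475

/-- Let G be a finite solvable group such that the order of every element is a prime power (1 included). Then at most two distinct primes divide the order of G. -/
theorem result {G : Type*} [Group G] [Finite G] [Group.IsSolvable G] (h : ∀ g : G, IsPrimePow (orderOf g) ∨ g = 1) :
    (Nat.card G).primeFactors.card ≤ 2 := by
  open Pointwise commutatorElement Subgroup Cfsg.Agent.Solv in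
  open Cfsg.Agent.Comp in
  have h0 : ∀ x y : G, x * y = y * x → (orderOf x).Coprime (orderOf y) → x ≠ 1 → y = 1 := fun x y a1 a2 a3 => by
    have e := Commute.orderOf_mul_eq_mul_orderOf_of_coprime a1 a2
    rcases h (x * y) with h | h
    · rw [e] at h
      rcases (a2.isPrimePow_dvd_mul h).1 dvd_rfl with h | h
      · exact orderOf_eq_one_iff.1 (Nat.eq_one_of_dvd_coprimes a2 (dvd_of_mul_left_dvd h) dvd_rfl)
      · exact absurd (orderOf_eq_one_iff.1 (Nat.eq_one_of_dvd_coprimes a2 dvd_rfl (dvd_of_mul_right_dvd h))) a3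
    · rw [h, orderOf_one] at e
      exact orderOf_eq_one_iff.1 (Nat.eq_one_of_mul_eq_one_left e.symm)
  rcases subsingleton_or_nontrivial G with hG | hG
  · simp [Nat.card_of_subsingleton (1 : G)]
  obtain ⟨p, hp, E, -, a2, a3, a4⟩ := BG.exists_elem_invariant (X := (⊤ : Subgroup G)) le_normalizer inferInstance top_ne_bot
  haveI := Fact.mk hp
  obtain ⟨H, hH⟩ := BG.exists_hallIn (M := (⊤ : Subgroup G)) inferInstance {p}ᶜ
  have a5 : ∀ q, q.Prime → q ∣ Nat.card G → q ≠ p → q ∣ Nat.card H := fun q b1 b2 b3 => hH.dvd_card b1 b3 (by rwa [card_top])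
  by_cases h1 : H = ⊥
  · refine (Finset.card_le_card (t := {p}) fun q hq => Finset.mem_singleton.2 (by_contra fun e => ?_)).trans (by simp)
    have := a5 q (Nat.prime_of_mem_primeFactors hq) (Nat.dvd_of_mem_primeFactors hq) e
    rw [h1, card_bot] at this
    exact (Nat.prime_of_mem_primeFactors hq).not_dvd_one this
  obtain ⟨x, hx, b1, b2⟩ := exists_central_of_fpf (le_top.trans a4.nU) (fun y hy b1 => fpf_iff.2 fun k hk e => h0 y k e
    (((BG.piN_compl_singleton.1 hH.isPi).coprime_dvd_left (Solv.orderOf_dvd_card_of_mem hy)).coprime_dvd_right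
      (orderOf_dvd_of_pow_eq_one (a3.2 k hk))) b1) a2 h1
  refine (Finset.card_le_card (t := {p, orderOf x}) fun q hq => ?_).trans Finset.card_le_two
  have hq' := Nat.prime_of_mem_primeFactors hq
  by_contra e
  simp only [Finset.mem_insert, Finset.mem_singleton, not_or] at e
  obtain ⟨y, hy, b3⟩ := exists_subgroup_card_prime hq' (a5 q hq' (Nat.dvd_of_mem_primeFactors hq) e.1)
  exact ne_one_of_orderOf_prime b1 (h0 y x (b2 y hy) (b3 ▸ (Nat.coprime_primes hq' b1).2 e.2) (ne_one_of_orderOf_prime (b3 ▸ hq')))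

end Cfsg.Agent.S1475
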