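import Cfsg.Statements.S1477
import Cfsg.Agent.Lib.BG.Sec1
import Cfsg.Agent.Lib.Solv.Frob3

set_option autoImplicit false
open Cfsg

namespace Cfsg.Agent.S1477
section
open Pointwise commutatorElement Subgroup Cfsg.Agent.Solv
section
open Subgroup Cfsg.Agent.Comp
variable {G : Type*} [Group G] [Finite G] {H : Subgroup G} {p : ℕ} [Fact p.Prime]

theorem cent (hCN : IsCNGroup G) (hH : Group.IsNilpotent H) (hmax : ∀ L : Subgroup G, Group.IsNilpotent L → H ≤ L → L = H)
    {y : G} (h1 : y ∈ Op p H) (h2 : y ∈ centralizer (Op p H : Set G)) (h3 : y ≠ 1) : centralizer {y} = H :=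
  hmax _ (hCN y h3) (le_centralizer_singleton_iff.2 (by
    rw [← Op_sup_Opp_of_isNilpotent (p := p) hH, Comp.centralizer_sup]
    exact ⟨h2, Op_le_centralizer_Opp p H h1⟩))

theorem syl (hCN : IsCNGroup G) (hH : Group.IsNilpotent H) (hmax : ∀ L : Subgroup G, Group.IsNilpotent L → H ≤ L → L = H)
    (h : p ∣ Nat.card H) : SylIn p (Op p H) ⊤ := by
  have a0 := mt (sylIn_Op_of_isNilpotent hH).eq_bot_iff.1 (not_not.2 h)
  obtain ⟨S, a1, hS⟩ := exists_sylIn_ge (isPGroup_Op p H) le_top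
  obtain ⟨y, hy, a2, a3⟩ := exists_fixed_orderOf (isPGroup_Op p H) (isPGroup_Op p H) le_normalizer a0
  obtain ⟨z, hz, a4, a5⟩ := exists_fixed_orderOf hS.isP hS.isP le_normalizer (ne_bot_of_le_ne_bot a0 a1)
  have a6 := cent hCN hH hmax hy (le_centralizer_singleton_iff.1 a3) (ne_one_of_orderOf_eq a2)
  have a7 : z ∈ Op p H := le_Op_of_isNilpotent hH (zpowers_le.2 (a6.le (BG.mem_C1.2 (BG.mem_C1.1 (a5 (a1 hy))).symm)))
    (isPGroup_zpowers_of_orderOf_eq a4) (mem_zpowers z)
  have a8 := cent hCN hH hmax a7 (le_centralizer_singleton_iff.1 (a1.trans a5)) (ne_one_of_orderOf_eq a4)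
  rwa [le_antisymm a1 (le_Op_of_isNilpotent hH (a5.trans a8.le) hS.isP)]
end
end

/-- Let G be a finite group in which every non-identity element has nilpotent centralizer, and H a nilpotent subgroup not properly contained in any nilpotent subgroup. Then the order of H is coprime to its index; if the order of H is not a prime power then H ∩ gHg⁻¹ = 1 whenever gHg⁻¹ ≠ H; and if H ∩ gHg⁻¹ = 1 whenever gHg⁻¹ ≠ H, then C_G(x) ≤ H for every non-identity x ∈ H. -/
theorem result {G : Type*} [Group G] [Finite G] (hCN : Cfsg.IsCNGroup G) (H : Subgroup G) (hH : Group.IsNilpotent H)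
    (hmax : ∀ L : Subgroup G, Group.IsNilpotent L → H ≤ L → L = H) :
    (Nat.card H).Coprime H.index ∧
      (¬ IsPrimePow (Nat.card H) → Nat.card H ≠ 1 → ∀ g : G, H.map (MulAut.conj g).toMonoidHom ≠ H → H ⊓ H.map (MulAut.conj g).toMonoidHom = ⊥) ∧
      ((∀ g : G, H.map (MulAut.conj g).toMonoidHom ≠ H → H ⊓ H.map (MulAut.conj g).toMonoidHom = ⊥) → ∀ x ∈ H, x ≠ 1 → Subgroup.centralizer ({x} : Set G) ≤ H) := by
  open Pointwise commutatorElement Subgroup Cfsg.Agent.Solv in
  open Cfsg.Agent.Comp in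
  refine ⟨Nat.coprime_of_dvd fun q hq a1 a2 => ?_, fun h1 h2 g hg => by_contra fun h0 => ?_, fun h x hx h1 => ?_⟩
  · haveI := Fact.mk hq
    exact (syl hCN hH hmax a1).not_dvd_relIndex_of_le (Op_le q H) le_top (by rwa [relIndex_top_right])
  · obtain ⟨x, hx, hp⟩ := exists_prime_order_mem h0
    obtain ⟨q, hq, a1, a2⟩ : ∃ q : ℕ, q.Prime ∧ q ∣ Nat.card H ∧ q ≠ orderOf x := by
      by_contra h; push Not at h
      exact h1 ⟨orderOf x, _, hp.prime, Nat.pos_of_ne_zero fun e => h2 (by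
        have := Nat.eq_prime_pow_of_unique_prime_dvd Nat.card_pos.ne' fun {d} => h d
        rwa [e] at this), (Nat.eq_prime_pow_of_unique_prime_dvd Nat.card_pos.ne' fun {d} => h d).symm⟩
    haveI := Fact.mk hq
    have b1 := BG.isNilpotent_cj (g := g).2 hH
    have b2 : ∀ L : Subgroup G, Group.IsNilpotent L → cj(g, H) ≤ L → L = cj(g, H) := fun L c1 c2 => by
      rw [← hmax _ (BG.isNilpotent_cj.2 c1) (cj_le_iff.1 c2), cj_cj_inv]
    have b3 : ∀ K : Subgroup G, Group.IsNilpotent K → SylIn q (Op q K) ⊤ → x ∈ K → Op q K = Op q (centralizer {x}) := fun K c1 c2 c3 => by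
      have hn := hCN x (ne_one_of_orderOf_prime hp)
      obtain ⟨n, e⟩ := (isPGroup_Op q K).exists_card_eq
      refine (c2.max _ (isPGroup_Op q _) (le_Op_of_isNilpotent hn ?_ (isPGroup_Op q K)) le_top).symm
      rw [← Solv.centralizer_zpowers]
      exact le_centralizer_of_nilpotent_of_coprime c1 (Op_le q K) (zpowers_le.2 c3) (by
        rw [e, Nat.card_zpowers]; exact ((Nat.coprime_primes hq hp).2 a2).pow_left n)
    have b4 := (b3 H hH (syl hCN hH hmax a1) hx.1).trans (b3 _ b1 (syl hCN b1 b2 (by rwa [card_cj])) hx.2).symm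
    obtain ⟨y, hy, c1, c2⟩ := exists_fixed_orderOf (isPGroup_Op q H) (isPGroup_Op q H) le_normalizer
      (mt (sylIn_Op_of_isNilpotent hH).eq_bot_iff.1 (not_not.2 a1))
    have c3 := le_centralizer_singleton_iff.1 c2
    exact hg ((cent hCN b1 b2 (b4 ▸ hy) (b4 ▸ c3) (ne_one_of_orderOf_eq c1)).symm.trans
      (cent hCN hH hmax hy c3 (ne_one_of_orderOf_eq c1)))
  have a1 : centralizer {x} ≤ normalizer (H : Set G) := fun c hc => cj_eq_self_iff.1 (by_contra fun e => h1 (mem_bot.1 ((h c e).le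
    (mem_inf.2 ⟨hx, mem_cj.2 (by rwa [mul_assoc, BG.mem_C1.1 hc, inv_mul_cancel_left])⟩))))
  refine le_of_isNilpotent_of_Op_le (hCN x h1) fun q hq _ => ?_
  haveI := Fact.mk hq
  by_cases e : q ∣ Nat.card H
  · exact ((syl hCN hH hmax e).le_of_normalizer (isPGroup_Op q _) le_top (le_normalizer_Op ((Op_le q _).trans a1))).trans (Op_le q H)
  obtain ⟨z, hz, b1⟩ := exists_prime_order_mem (inf_centralizer_ne_bot_of_isNilpotent hH le_rfl le_normalizer
    fun e => h1 (mem_bot.1 (e.le hx)))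
  obtain ⟨n, hn⟩ := (isPGroup_Op q (centralizer {x})).exists_card_eq
  rw [← hmax _ (hCN z (ne_one_of_orderOf_prime b1)) (le_centralizer_singleton_iff.2 hz.2), ← Solv.centralizer_zpowers z]
  exact le_centralizer_of_nilpotent_of_coprime (hCN x h1) (Op_le q _) (zpowers_le.2 (BG.mem_C1.2 (hz.2 x hx))) (by
    rw [hn, Nat.card_zpowers]
    exact (((Nat.Prime.coprime_iff_not_dvd hq).2 e).coprime_dvd_right (Solv.orderOf_dvd_card_of_mem hz.1)).pow_left n)

end Cfsg.Agent.S1477
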