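import Cfsg.Statements.S1480
import Cfsg.Agent.Lib.Fusion.Trans

set_option autoImplicit false
open Cfsg

namespace Cfsg.Agent.S1480

open Subgroup Cfsg.Agent.BG Cfsg.Agent.Comp
open scoped commutatorElement

/-- Let G be a finite group and p a prime such that the normalizer of every nontrivial p-subgroup of G is p-constrained; if p = 2 assume also that the Sylow 2-subgroups of G have nilpotency class at most 2. Let E be an abelian p-subgroup containing an elementary abelian subgroup of order p ^ 3 and containing every element of p-power order of C_G(E). Then for every prime q ≠ p, any two maximal E-invariant q-subgroups of G are conjugate by an element of O_{p'}(C_G(E)). -/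
theorem result {G : Type*} [Group G] [Finite G] (p : ℕ) [Fact p.Prime]
    (hloc : ∀ T : Subgroup G, IsPGroup p T → T ≠ ⊥ → Cfsg.IsPConstrained p ↥(Subgroup.normalizer (T : Set G)))
    (h2 : p = 2 → ∀ S : Sylow p G, Group.IsNilpotent (S : Subgroup G) ∧ Group.nilpotencyClass (S : Subgroup G) ≤ 2)
    (E : Subgroup G) (hEp : IsPGroup p E) (hEc : IsMulCommutative E) (hE3 : ¬ Cfsg.PRankLE p 2 E)
    (hEfull : ∀ x ∈ Subgroup.centralizer (E : Set G), IsPGroup p (Subgroup.zpowers x) → x ∈ E)
    (q : ℕ) [Fact q.Prime] (hqp : q ≠ p) :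
    ∀ Q₁ ∈ Cfsg.maxInvSubgroups ⊤ E {q}, ∀ Q₂ ∈ Cfsg.maxInvSubgroups ⊤ E {q},
        ∃ k ∈ Cfsg.piCoreOf (Cfsg.primesNotDvd p) (Subgroup.centralizer (E : Set G)), Q₂ = Q₁.map (MulAut.conj k).toMonoidHom := by
  intro Q₁ h₁ Q₂ h₂
  have hp : p.Prime := Fact.out
  have hEc' : E ≤ centralizer (E : Set G) := le_centralizer_iff_isMulCommutative.2 hEc
  have h2' : p = 2 → ∀ T : Subgroup G, IsPGroup p T → ⁅T, T⁆ ≤ centralizer (T : Set G) := by
    intro e T hT
    obtain ⟨S, hS⟩ := hT.exists_le_sylow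
    obtain ⟨hn, hc⟩ := h2 e S
    have h3 := (Subgroup.lowerCentralSeries_eq_bot_iff_nilpotencyClass_le (G := (S : Subgroup G))).2 hc
    rw [← commutator_eq_bot_iff_le_centralizer, eq_bot_iff, commutator_le]
    intro x hx y hy
    have h4 : ⁅⁅T, T⁆, T⁆ ≤ ((⊤ : Subgroup (S : Subgroup G)).lowerCentralSeries 2).map (S : Subgroup G).subtype := by
      show _ ≤ Subgroup.map (S : Subgroup G).subtype ⁅⁅(⊤ : Subgroup (S : Subgroup G)), (⊤ : Subgroup (S : Subgroup G))⁆, (⊤ : Subgroup (S : Subgroup G))⁆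
      rw [Subgroup.map_commutator, Subgroup.map_commutator, ← MonoidHom.range_eq_map, range_subtype]
      exact commutator_mono (commutator_mono hS hS) hS
    rw [h3, Subgroup.map_bot] at h4
    exact h4 (commutator_mem_commutator hx hy)
  simp only [Cfsg.PRankLE, not_forall, not_le] at hE3
  obtain ⟨A, hA1, hA2, hA3⟩ := hE3
  have hAE : A.map E.subtype ≤ E := map_subtype_le A
  have hA : Cfsg.IsElementaryAbelian p (A.map E.subtype) := by
    refine ⟨le_centralizer_iff_isMulCommutative.1 ((hAE.trans hEc').trans (centralizer_le hAE)), ?_⟩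
    rintro _ ⟨a, ha, rfl⟩
    simpa using congrArg Subtype.val (hA2 a ha)
  have hsyl : Cfsg.Agent.Transfer.IsSyl p E (centralizer (E : Set G)) :=
    Cfsg.Agent.Transfer.isSyl_of_maximal hEp hEc' fun R hR h1 _ x hx =>
      hEfull x (h1 hx) (hR.to_le (zpowers_le.2 hx))
  have hn := Cfsg.Agent.Transfer.hasNPC_sub_iff.1 (hsyl.hasNPC_of_le_centralizer inf_le_left)
  refine transitivity hloc h2' hEp hEc' hAE hA (by rwa [card_map_of_injective E.subtype_injective])
    hEfull (map_subtype_le _) (fun x hx h => ?_) hqp _ Q₁ h₁ Q₂ h₂ rfl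
  refine Cfsg.Agent.Solv.le_map_subtype_piCore (π := Cfsg.primesNotDvd p) (fun r hr hd => ⟨hr, fun h' => ?_⟩) (map_subtype_le _)
    (Cfsg.Agent.Transfer.le_normalizer_res _) (Cfsg.Agent.Transfer.mem_res hx h)
  exact hn (((Nat.prime_dvd_prime_iff_eq hr hp).1 h') ▸ hd)

end Cfsg.Agent.S1480
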