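import Cfsg.Statements.S1487
import Cfsg.Agent.Lib.Char.Clifford

set_option autoImplicit false
open Cfsg

namespace Cfsg.Agent.S1487

open Cfsg.Agent.Char

/-- Let A ≤ H be normal subgroups of the finite group G and θ an irreducible character of H. Then θ takes the value θ 1 on all of A if and only if the function induced from θ to G takes its value at 1 on all of A. -/
theorem result {G : Type*} [Group G] [Fintype G] (A H : Subgroup G) [A.Normal] [H.Normal] (hAH : A ≤ H) (θ : H → ℂ) (hθ : Cfsg.IsIrrCharacter H θ) : (∀ a : H, (a : G) ∈ A → θ a = θ 1) ↔ (∀ a : G, a ∈ A → Cfsg.indFun H θ a = Cfsg.indFun H θ 1) := by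
  have := Fintype.ofFinite H
  constructor
  · intro h a ha
    rw [show a = ((⟨a, hAH ha⟩ : H) : G) from rfl, show (1 : G) = ((1 : H) : G) from rfl,
      indFun_normal_apply, indFun_normal_apply]
    congr 1
    refine Finset.sum_congr rfl fun g _ => ?_
    rw [cj_apply_one]
    exact h _ (Subgroup.Normal.conj_mem inferInstance a ha g)
  · intro h a ha
    have h1 : a ∈ charKer (fun x : H => indFun H θ x) :=
      (hθ.isCharacter.ind.res H).mem_charKer.2 (h a ha)
    refine hθ.isCharacter.mem_charKer.1
      ((hθ.isCharacter.ind.res H).charKer_le_of_constituent hθ ?_ h1)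
    rw [← frobenius_right _ _ (isClassFunction_indFun _ _), Ne, classInner_self_eq_zero]
    intro h2
    have := congrFun h2 1
    rw [indFun_one] at this
    exact mul_ne_zero (by exact_mod_cast Subgroup.FiniteIndex.index_ne_zero)
      hθ.apply_one_ne_zero this

end Cfsg.Agent.S1487
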