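import Cfsg.Statements.S1491
import Cfsg.Agent.Lib.Char.Down

set_option autoImplicit false
open Cfsg

namespace Cfsg.Agent.S1491

open Cfsg.Agent.Char

/-- Let H be a normal subgroup of the finite group G and θ an irreducible character of H with inertia group T, where T/H is abelian (commutators of T lie in H) and the index of H in T is coprime to the order of H. Then the function induced from θ is the sum of a set of exactly [T:H] irreducible characters of G, each of degree [G:T] * θ(1). -/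
theorem result {G : Type*} [Group G] [Fintype G] (H T : Subgroup G) [hN : H.Normal] (θ : H → ℂ) (hθ : Cfsg.IsIrrCharacter H θ) (hT : ∀ g : G, g ∈ T ↔ ∀ h : H, θ ⟨g * h * g⁻¹, hN.conj_mem h h.2 g⟩ = θ h) (hab : ∀ x ∈ T, ∀ y ∈ T, x * y * x⁻¹ * y⁻¹ ∈ H) (hcop : Nat.Coprime (Nat.card H) (H.relIndex T)) : ∃ C : Finset (G → ℂ), (∀ χ ∈ C, Cfsg.IsIrrCharacter G χ) ∧ C.card = H.relIndex T ∧ Cfsg.indFun H θ = ∑ χ ∈ C, χ ∧ ∀ χ ∈ C, χ 1 = (T.index : ℂ) * θ 1 := by
  obtain rfl := eq_inertia hT
  have := Fintype.ofFinite H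
  have hHT := le_inertia hθ.isClassFunction
  let e := Subgroup.subgroupOfEquivOfLe hHT
  obtain ⟨ψ, h1, h2⟩ := (hθ.comp_equiv e).exists_ext_of_coprime
    (fun g => funext fun n => congrFun g.2 (e n))
    (by rw [Solv.card_subgroupOf_of_le hHT]; exact hcop.symm)
  have h3 : classInner (fun n : H => ψ ⟨n, hHT n.2⟩) θ = 1 := by
    rw [← hθ.classInner_self]; congr 1; ext n; exact h2 (e.symm n)
  obtain ⟨h4, h5⟩ := hθ.clifford_ind rfl hHT h1 (by rw [h3]; simp)
  rw [h3] at h5
  obtain ⟨C, h2, h3, h4, h5⟩ := indFun_eq_smul_sum hθ (e := 1) fun ψ hψ h => by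
    rw [Nat.cast_one, ← h5]
    exact classInner_eq_of_inertia_comm hθ (Subgroup.commutator_le.2 hab) hψ h4 h
      (by rw [h5]; simp)
  exact ⟨C, fun χ h => ((h2 χ).1 h).1, by simpa using h3, by simpa using h4, by simpa using h5⟩

end Cfsg.Agent.S1491
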