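import Cfsg.Statements.S1492
import Cfsg.Agent.Lib.Char.Down

set_option autoImplicit false
open Cfsg

namespace Cfsg.Agent.S1492

open Cfsg.Agent.Char

/-- Let ψ be an irreducible character of the finite group G and B ≤ D ≤ C subgroups with B normal in C, every commutator of an element of D with an element of C lying in B (so D/B is central in C/B), and ψ constant equal to ψ 1 on B. Then ψ(1) ^ 2 * |C| * |D| ≤ |G| ^ 2. -/
theorem result {G : Type*} [Group G] [Finite G] (ψ : G → ℂ) (hψ : Cfsg.IsIrrCharacter G ψ) (B C D : Subgroup G) (hBD : B ≤ D) (hDC : D ≤ C) (hBn : ∀ c ∈ C, ∀ b ∈ B, c * b * c⁻¹ ∈ B) (hcent : ∀ d ∈ D, ∀ c ∈ C, d * c * d⁻¹ * c⁻¹ ∈ B) (hker : ∀ b ∈ B, ψ b = ψ 1) : ‖ψ 1‖ ^ 2 * (Nat.card C : ℝ) * (Nat.card D : ℝ) ≤ (Nat.card G : ℝ) ^ 2 := by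
  have := Fintype.ofFinite C
  obtain ⟨θ, hθ, h1⟩ := hψ.exists_irr_under C
  obtain ⟨e, he⟩ := (hψ.isCharacter.res C).classInner_eq_nat hθ.isCharacter
  obtain ⟨c, -, hc⟩ := hψ.exists_degree
  obtain ⟨d, -, hd⟩ := hθ.exists_degree
  have h2 := hψ.degree_le_index_mul hθ.isCharacter he hc hd
  have h3 : e ≠ 0 := by rintro rfl; exact h1 (by simpa using he)
  have h4 : c ≤ C.index * d := le_trans (Nat.le_mul_of_pos_left _ (Nat.pos_of_ne_zero h3)) h2
  have h5 := hθ.degree_sq_le_index (Z := D.subgroupOf C) (fun x hx => hθ.mem_charCenter_iff.2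
    fun g => (hψ.isCharacter.res C).charKer_le_of_constituent hθ h1
      ((hψ.isCharacter.res C).mem_charKer.2 (hker _ (hcent x hx g g.2)))) hd
  have h6 := Solv.card_mul_relIndex hDC
  have h7 := C.card_mul_index
  rw [hc, Complex.norm_natCast]
  norm_cast
  calc c ^ 2 * Nat.card C * Nat.card D
      ≤ (C.index ^ 2 * D.relIndex C) * Nat.card C * Nat.card D := by
        gcongr
        exact (Nat.pow_le_pow_left h4 2).trans (by rw [mul_pow]; gcongr; exact h5)
    _ = Nat.card G ^ 2 := by rw [← h7]; nth_rewrite 2 [← h6]; rw [← h6]; ring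

end Cfsg.Agent.S1492
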