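import Cfsg.Statements.S1499
import Cfsg.Agent.Lib.Char.Dade

set_option autoImplicit false
open Cfsg

namespace Cfsg.Agent.S1499

open Cfsg.Agent.Char

/-- Under the Dade hypothesis for (A, L, H), let a, b ∈ A. If an element of the coset a·H(a) is conjugate in G to an element of b·H(b), then a and b are conjugate by an element of L. Moreover the set normaliser of the coset a·H(a) is the centraliser of a. -/
theorem result {G : Type*} [Group G] [Finite G] (A : Set G) (L : Subgroup G) (H : G → Subgroup G) (hD : Cfsg.DadeHypothesis A L H) (a b : G) (ha : a ∈ A) (hb : b ∈ A) : ((∃ u ∈ H a, ∃ v ∈ H b, ∃ g : G, g * (a * u) * g⁻¹ = b * v) → ∃ x ∈ L, x * a * x⁻¹ = b) ∧ Subgroup.normalizer ((fun u : G => a * u) '' (H a : Set G)) = Subgroup.centralizer ({a} : Set G) := by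
  refine ⟨fun ⟨u, hu, v, hv, g, h⟩ => hD.exists_conj_of_conj ha hb hu hv h, ?_⟩
  ext g
  rw [Subgroup.mem_set_normalizer_iff, Subgroup.mem_centralizer_singleton_iff]
  constructor
  · intro h
    obtain ⟨u, hu, h1⟩ := (h a).1 ⟨1, (H a).one_mem, mul_one a⟩
    have h2 := congrArg (piPart (dadePi A L)) h1
    simp only at h2
    rw [hD.piPart_mul ha hu, piPart_conj, piPart_of_isPiElt (hD.isPiElt ha)] at h2
    exact mul_inv_eq_iff_eq_mul.1 h2.symm
  · intro h x
    have h1 := Subgroup.mem_normalizer_iff.1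
      (hD.centralizer_le_normalizer ha (Subgroup.mem_centralizer_singleton_iff.2 h))
    have h2 : ∀ u, g * (a * u) * g⁻¹ = a * (g * u * g⁻¹) := fun u => by
      simp only [← mul_assoc, h]
    constructor
    · rintro ⟨u, hu, rfl⟩
      exact ⟨_, (h1 u).1 hu, (h2 u).symm⟩
    · rintro ⟨u, hu, h3⟩
      refine ⟨g⁻¹ * u * g, (h1 _).2 (by simpa [mul_assoc] using hu), ?_⟩
      apply (MulAut.conj g).injective
      simp only [MulAut.conj_apply, h2]
      simpa [mul_assoc] using h3

end Cfsg.Agent.S1499
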