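import Cfsg.Statements.S1503
import Cfsg.Agent.Lib.Char.CycBridge

set_option autoImplicit false
open Cfsg

namespace Cfsg.Agent.S1503

open Cfsg.Agent.Char

/-- Let W₁, W₂ ≤ G with W = W₁ ⊔ W₂ and let χ an orthonormal family of irreducible characters of G up to sign, indexed by the linear characters ω of W, with χ_1 = 1, χ_ω = ω on W outside W₁ ∪ W₂, and the induction identity for (1 − φ)(1 − ψ). If θ is an irreducible character of G orthogonal to χ ω for every linear character ω of W, then θ vanishes at every element of W lying outside W₁ ∪ W₂. -/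
theorem result {G : Type*} [Group G] [Fintype G] (W₁ W₂ : Subgroup G) (hW : Cfsg.IsSelfNormalizingCyclic W₁ W₂) (χ : (↥(W₁ ⊔ W₂) →* ℂˣ) → (G → ℂ)) (hχ : Cfsg.IsCyclicTIFamily W₁ W₂ χ) (θ : G → ℂ) (hθ : Cfsg.IsIrrCharacter G θ) (horth : ∀ ω, Cfsg.classInner θ (χ ω) = 0) (w : ↥(W₁ ⊔ W₂)) (hw₁ : (w : G) ∉ W₁) (hw₂ : (w : G) ∉ W₂) : θ w = 0 := by
  classical
  have hd := hW.2.2.1
  have hc := hW.2.2.2.1
  have := hW.2.2.2.2.1
  have h1 : IsCyclic W₁ := isCyclic_of_injective (Subgroup.inclusion (le_sup_left : W₁ ≤ W₁ ⊔ W₂))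
      (Subgroup.inclusion_injective _)
  have h2 : IsCyclic W₂ := isCyclic_of_injective (Subgroup.inclusion (le_sup_right : W₂ ≤ W₁ ⊔ W₂))
      (Subgroup.inclusion_injective _)
  obtain ⟨⟨a, b⟩, rfl⟩ := (prodEquiv hc hd).surjective w
  refine eq_zero_of_orth_om (comm_of_isCyclic h1) (comm_of_isCyclic h2)
    (φ := fun w => θ (prodHom hc w)) (fun i j => ?_) (mt (mul_mem_right_iff hd a b).2 hw₂)
    (mt (mul_mem_left_iff hd a b).2 hw₁)
  by_cases hi : i = 1
  · simp [hi]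
  by_cases hj : j = 1
  · simp [hj]
  obtain ⟨φ, rfl, h3⟩ := exists_res hc hd i 1
  obtain ⟨ψ, h4, rfl⟩ := exists_res hc hd 1 j
  have h5 := hχ.induced_eq φ ψ (by rintro rfl; exact hi rfl) (by rintro rfl; exact hj rfl)
    ((resR_eq_iff (ω' := 1)).1 h3) ((resL_eq_iff (ω' := 1)).1 h4)
  rw [indFun_sup_eq hc hd] at h5
  rw [← frobenius_hom' (prodHom_injective hc hd) _ hθ.isClassFunction]
  have h6 : indHom (prodHom hc) (om 1 1 - om (resL φ) 1 - om 1 (resR ψ) + om (resL φ) (resR ψ)) =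
      χ 1 - χ φ - χ ψ + χ (φ * ψ) := by
    rw [hχ.map_one]
    refine Eq.trans (congrArg _ (funext fun w => ?_)) h5
    simp only [← om_res hc hd, h3, h4]
    simp
  rw [h6]
  simp [classInner_add_right, classInner_sub_right, horth]

end Cfsg.Agent.S1503
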