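import Cfsg.Statements.S1504
import Cfsg.Agent.Lib.Char.CycBridge

set_option autoImplicit false
open Cfsg

namespace Cfsg.Agent.S1504

open Cfsg.Agent.Char

/-- Let W₁, W₂ be subgroups of a finite group with W₁ ⊓ W₂ = ⊥ whose elements commute, and W = W₁ ⊔ W₂. For linear characters φ, ψ of W with φ trivial on W₂ and ψ trivial on W₁, the function (1 − φ)(1 − ψ) vanishes on W₁ ∪ W₂; and the family of these functions, indexed by pairs (φ, ψ) with φ ≠ 1 ≠ ψ, is linearly independent over ℂ. -/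
theorem result {G : Type*} [Group G] [Finite G] (W₁ W₂ : Subgroup G) (hdisj : W₁ ⊓ W₂ = ⊥) (hcomm : ∀ a ∈ W₁, ∀ b ∈ W₂, a * b = b * a) : (∀ φ ψ : ↥(W₁ ⊔ W₂) →* ℂˣ, (∀ w : ↥(W₁ ⊔ W₂), (w : G) ∈ W₂ → φ w = 1) → (∀ w : ↥(W₁ ⊔ W₂), (w : G) ∈ W₁ → ψ w = 1) → ∀ w : ↥(W₁ ⊔ W₂), ((w : G) ∈ W₁ ∨ (w : G) ∈ W₂) → (1 - (φ w : ℂ) - (ψ w : ℂ) + (φ w : ℂ) * (ψ w : ℂ)) = 0) ∧ LinearIndependent ℂ (fun p : {p : (↥(W₁ ⊔ W₂) →* ℂˣ) × (↥(W₁ ⊔ W₂) →* ℂˣ) // p.1 ≠ 1 ∧ p.2 ≠ 1 ∧ (∀ w : ↥(W₁ ⊔ W₂), (w : G) ∈ W₂ → p.1 w = 1) ∧ (∀ w : ↥(W₁ ⊔ W₂), (w : G) ∈ W₁ → p.2 w = 1)} => fun w : ↥(W₁ ⊔ W₂) => 1 - (p.1.1 w : ℂ) - (p.1.2 w : ℂ) + (p.1.1 w : ℂ) * (p.1.2 w : ℂ)) := by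
  classical
  refine ⟨fun φ ψ h1 h2 w hw => ?_, ?_⟩
  · rcases hw with hw | hw
    · simp [h2 w hw]
    · simp [h1 w hw]
  have := Fintype.ofFinite G
  rw [Fintype.linearIndependent_iff]
  rintro c hc ⟨⟨φ, ψ⟩, h1, h2, h3, h4⟩
  have h5 := congrArg (classInner · (lc (φ * ψ))) hc
  have h3' : resR φ = 1 := (resR_eq_iff (ω' := 1)).2 h3
  have h4' : resL ψ = 1 := (resL_eq_iff (ω' := 1)).2 h4
  have h1' : 1 ≠ resL φ := fun h => h1 ((res_eq_iff hcomm hdisj).1 ⟨h.symm, h3'⟩)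
  have h2' : 1 ≠ resR ψ := fun h => h2 ((res_eq_iff hcomm hdisj).1 ⟨h4', h.symm⟩)
  have h6 : ∀ φ' ψ' : ↥(W₁ ⊔ W₂) →* ℂˣ, resR φ' = 1 → resL ψ' = 1 →
      classInner (fun w : ↥(W₁ ⊔ W₂) => 1 - (φ' w : ℂ) - (ψ' w : ℂ) + (φ' w : ℂ) * (ψ' w : ℂ))
      (lc (φ * ψ)) = if φ' = φ ∧ ψ' = ψ then 1 else 0 := by
    intro φ' ψ' h7 h8
    have : (fun w : ↥(W₁ ⊔ W₂) => 1 - (φ' w : ℂ) - (ψ' w : ℂ) + (φ' w : ℂ) * (ψ' w : ℂ)) =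
        lc 1 - lc φ' - lc ψ' + lc (φ' * ψ') := by ext; simp
    have h9 : resL (1 : ↥(W₁ ⊔ W₂) →* ℂˣ) = 1 := rfl
    simp only [this, classInner_add_left, classInner_sub_left, classInner_lc,
      ← res_eq_iff hcomm hdisj, resL_mul, resR_mul, h3', h4', h7, h8, lc_mul_one, lc_one_mul, h9,
      h1', h2', false_and, and_false, if_false, and_true, true_and]
    simp
  simp only [classInner_sum_left, classInner_smul_left, classInner_zero_left] at h5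
  rw [Finset.sum_eq_single ⟨⟨φ, ψ⟩, h1, h2, h3, h4⟩] at h5
  · simpa [h6 φ ψ h3' h4'] using h5
  · rintro ⟨⟨φ', ψ'⟩, h7, h8, h9, h10⟩ - h11
    rw [h6 φ' ψ' ((resR_eq_iff (ω' := 1)).2 h9) ((resL_eq_iff (ω' := 1)).2 h10), if_neg, mul_zero]
    rintro ⟨rfl, rfl⟩
    exact h11 rfl
  · simp

end Cfsg.Agent.S1504
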