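import Cfsg.Statements.S1505
import Cfsg.Agent.Lib.Char.CycBridge

set_option autoImplicit false
open Cfsg

namespace Cfsg.Agent.S1505

open Cfsg.Agent.Char

attribute [-instance] instDecEqLinChar in
open Classical in
/-- Let W₁, W₂ ≤ G form a self-normalising cyclic subgroup W = W₁ ⊔ W₂. For nontrivial linear characters φ, φ' of W trivial on W₂ and ψ, ψ' trivial on W₁, put α = (1 − φ)(1 − ψ) and α' = (1 − φ')(1 − ψ'). Then the function induced from α to G has inner product 1 with the principal character, and the inner product of the functions induced from α and α' is 1 + a + b + ab where a = 1 if φ = φ' (else 0) and b = 1 if ψ = ψ' (else 0). -/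
theorem result {G : Type*} [Group G] [Fintype G] (W₁ W₂ : Subgroup G) (hW : Cfsg.IsSelfNormalizingCyclic W₁ W₂) (φ φ' ψ ψ' : ↥(W₁ ⊔ W₂) →* ℂˣ) (hφ : φ ≠ 1) (hφ' : φ' ≠ 1) (hψ : ψ ≠ 1) (hψ' : ψ' ≠ 1) (hφ₂ : ∀ w : ↥(W₁ ⊔ W₂), (w : G) ∈ W₂ → φ w = 1 ∧ φ' w = 1) (hψ₁ : ∀ w : ↥(W₁ ⊔ W₂), (w : G) ∈ W₁ → ψ w = 1 ∧ ψ' w = 1) : Cfsg.classInner (Cfsg.indFun (W₁ ⊔ W₂) (fun w => 1 - (φ w : ℂ) - (ψ w : ℂ) + (φ w : ℂ) * (ψ w : ℂ))) (fun _ => 1) = 1 ∧ Cfsg.classInner (Cfsg.indFun (W₁ ⊔ W₂) (fun w => 1 - (φ w : ℂ) - (ψ w : ℂ) + (φ w : ℂ) * (ψ w : ℂ))) (Cfsg.indFun (W₁ ⊔ W₂) (fun w => 1 - (φ' w : ℂ) - (ψ' w : ℂ) + (φ' w : ℂ) * (ψ' w : ℂ))) = 1 + (if φ = φ' then 1 else 0) + (if ψ = ψ' then 1 else 0) + (if φ = φ' then 1 else 0) * (if ψ = ψ' then 1 else 0) := by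
  have hd := hW.2.2.1
  have hc := hW.2.2.2.1
  have h1 : resR φ = 1 := (resR_eq_iff (ω' := 1)).2 fun w h => (hφ₂ w h).1
  have h2 : resR φ' = 1 := (resR_eq_iff (ω' := 1)).2 fun w h => (hφ₂ w h).2
  have h3 : resL ψ = 1 := (resL_eq_iff (ω' := 1)).2 fun w h => (hψ₁ w h).1
  have h4 : resL ψ' = 1 := (resL_eq_iff (ω' := 1)).2 fun w h => (hψ₁ w h).2
  have h5 : resL φ ≠ 1 := fun h => hφ ((res_eq_iff hc hd).1 ⟨h, h1⟩)
  have h6 : resL φ' ≠ 1 := fun h => hφ' ((res_eq_iff hc hd).1 ⟨h, h2⟩)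
  have h7 : resR ψ ≠ 1 := fun h => hψ ((res_eq_iff hc hd).1 ⟨h3, h⟩)
  have h8 : resR ψ' ≠ 1 := fun h => hψ' ((res_eq_iff hc hd).1 ⟨h4, h⟩)
  have key : ∀ φ ψ : ↥(W₁ ⊔ W₂) →* ℂˣ, resR φ = 1 → resL ψ = 1 →
      indFun (W₁ ⊔ W₂) (fun w => 1 - (φ w : ℂ) - (ψ w : ℂ) + (φ w : ℂ) * (ψ w : ℂ)) =
      indHom (prodHom hc) (om 1 1 - om (resL φ) 1 - om 1 (resR ψ) + om (resL φ) (resR ψ)) := by
    intro φ ψ h1 h2
    rw [indFun_sup_eq hc hd]
    refine congrArg _ (funext fun w => ?_)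
    simp only [← om_res hc hd, h1, h2]
    simp
  have := hW.2.2.2.2.1
  have h9 : ∀ a b : W₁ × W₂, a * b = b * a := fun a b => (prodEquiv hc hd).injective (by
    rw [map_mul, map_mul, comm_of_isCyclic this])
  rw [key φ ψ h1 h3, key φ' ψ' h2 h4]
  constructor
  · rw [frobenius_hom (prodHom_injective hc hd) _ (IsClassFunction.const 1), ← om_one_one]
    simp only [classInner_add_left, classInner_sub_left, classInner_om, h5, h7]
    simp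
  · rw [classInner_indHom_of_TI (prodHom_injective hc hd) (isClassFunction_of_comm h9 _),
      classInner_alpha h5 h7 h6 h8]
    · simp only [← res_eq_iff hc hd, h1, h2, h3, h4, and_true, true_and]
      split_ifs <;> norm_num
    · rintro ⟨a, b⟩ hu g hg
      obtain ⟨ha, hb⟩ := supp_alpha _ _ a b hu
      rw [range_prodHom] at hg ⊢
      exact mem_of_conj_mem_sup hW (Subgroup.mul_mem_sup a.2 b.2)
        (mt (mul_mem_left_iff hd a b).1 hb) (mt (mul_mem_right_iff hd a b).1 ha) hg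

end Cfsg.Agent.S1505
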