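import Cfsg.Statements.S1507
import Cfsg.Agent.Lib.Char.CycBridge

set_option autoImplicit false
open Cfsg

namespace Cfsg.Agent.S1507

open Cfsg.Agent.Char

open Classical in
/-- Let W₁, W₂ ≤ G form a self-normalising cyclic subgroup W = W₁ ⊔ W₂ of odd order with Nat.card W₁ < Nat.card W₂, and χ an orthonormal family of irreducible characters of G up to sign, indexed by the linear characters ω of W, with χ_1 = 1, χ_ω = ω on W outside W₁ ∪ W₂, and the induction identity for (1 − φ)(1 − ψ). Let θ be a class function of G vanishing on W outside W₁ ∪ W₂, and suppose fewer than 2 · Nat.card W₁ linear characters ω of W have ⟨θ, χ ω⟩ ≠ 0. Then one of: all ⟨θ, χ ω⟩ vanish; or there are ψ₀ and a with ⟨θ, χ ω⟩ = a when ω ψ₀⁻¹ is trivial on W₂ and 0 otherwise; or there are φ₀ and a with ⟨θ, χ ω⟩ = a when ω φ₀⁻¹ is trivial on W₁ and 0 otherwise. -/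
theorem result {G : Type*} [Group G] [Fintype G] (W₁ W₂ : Subgroup G) (hW : Cfsg.IsSelfNormalizingCyclic W₁ W₂) (hodd : Odd (Nat.card ↥(W₁ ⊔ W₂))) (χ : (↥(W₁ ⊔ W₂) →* ℂˣ) → (G → ℂ)) (hχ : Cfsg.IsCyclicTIFamily W₁ W₂ χ) (hlt : Nat.card W₁ < Nat.card W₂) (θ : G → ℂ) (hθ : Cfsg.IsClassFunction G θ) (hθV : ∀ w : ↥(W₁ ⊔ W₂), (w : G) ∉ W₁ → (w : G) ∉ W₂ → θ w = 0) (hfew : Nat.card {ω : ↥(W₁ ⊔ W₂) →* ℂˣ // Cfsg.classInner θ (χ ω) ≠ 0} < 2 * Nat.card W₁) : (∀ ω, Cfsg.classInner θ (χ ω) = 0) ∨ (∃ (ψ₀ : ↥(W₁ ⊔ W₂) →* ℂˣ) (a : ℂ), ∀ ω, Cfsg.classInner θ (χ ω) = if (∀ w : ↥(W₁ ⊔ W₂), (w : G) ∈ W₂ → (ω * ψ₀⁻¹) w = 1) then a else 0) ∨ (∃ (φ₀ : ↥(W₁ ⊔ W₂) →* ℂˣ) (a : ℂ), ∀ ω, Cfsg.classInner θ (χ ω) = if (∀ w : ↥(W₁ ⊔ W₂), (w : G) ∈ W₁ → (ω * φ₀⁻¹) w = 1) then a else 0) := by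
  classical
  obtain ⟨η, h, h1⟩ := cycFam_of_family hW hodd hχ
  have hd := hW.2.2.1
  have hc := hW.2.2.2.1
  have h2 : (Finset.univ.filter fun p : (W₁ →* ℂˣ) × (W₂ →* ℂˣ) =>
      classInner θ (η p.1 p.2) ≠ 0).card < 2 * Nat.card W₁ := by
    rw [← Fintype.card_subtype, ← Nat.card_eq_fintype_card]
    refine lt_of_eq_of_lt (Nat.card_congr ?_).symm hfew
    exact (resEquiv hc hd).subtypeEquiv fun ω => by rw [h1]; rfl
  obtain ⟨k, hk⟩ := h.ti.oddA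
  obtain ⟨l, hl⟩ := h.ti.oddB
  rcases grid_trichotomy (a := fun i j => classInner θ (η i j)) (fun i j k l =>
    h.exchange hθ (fun a b ha hb => hθV (prodEquiv hc hd (a, b))
      (mt (mul_mem_left_iff hd a b).1 hb) (mt (mul_mem_right_iff hd a b).1 ha)) i k j l) _
    (fun i j h => Finset.mem_filter.2 ⟨Finset.mem_univ _, h⟩) (by rwa [h.ti.card_lcA])
    (by rw [h.ti.card_lcB]; omega) (by rw [h.ti.card_lcA, h.ti.card_lcB]; omega) with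
    ⟨j, c, h3⟩ | ⟨i, c, h3⟩
  · obtain ⟨ψ, -, rfl⟩ := exists_res hc hd 1 j
    refine Or.inr (Or.inl ⟨ψ, c, fun ω => ?_⟩)
    rw [h1, h3]
    refine if_congr (resR_eq_iff.trans ?_) rfl rfl
    simp [mul_inv_eq_one]
  · obtain ⟨ψ, rfl, -⟩ := exists_res hc hd i 1
    refine Or.inr (Or.inr ⟨ψ, c, fun ω => ?_⟩)
    rw [h1, h3]
    refine if_congr (resL_eq_iff.trans ?_) rfl rfl
    simp [mul_inv_eq_one]

end Cfsg.Agent.S1507
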