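import Cfsg.Statements.S1510
import Cfsg.Agent.Lib.Char.PrimeTI

set_option autoImplicit false
open Cfsg

namespace Cfsg.Agent.S1510

open Cfsg.Agent.Char

/-- Let L be a finite group with a normal subgroup K and a nontrivial cyclic subgroup W₁ of order coprime to its index, K ⊓ W₁ = ⊥ and K ⊔ W₁ = ⊤; let W₂ ≠ ⊥ be a cyclic subgroup of K with K ⊓ C_L(x) = W₂ for every non-identity x ∈ W₁, and suppose W₁ ⊔ W₂ has odd order. Then (W₁, W₂) is a self-normalising cyclic pair in L. -/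
theorem result {L : Type*} [Group L] [Fintype L] (K W₁ W₂ : Subgroup L) [hK : K.Normal] (hKW₁ : K ⊓ W₁ = ⊥) (hKW₁' : K ⊔ W₁ = ⊤) (hW₁ : W₁ ≠ ⊥) (hW₁c : IsCyclic W₁) (hHall : Nat.Coprime (Nat.card W₁) W₁.index) (hW₂ : W₂ ≠ ⊥) (hW₂c : IsCyclic W₂) (hW₂K : W₂ ≤ K) (hC : ∀ x ∈ W₁, x ≠ 1 → K ⊓ Subgroup.centralizer ({x} : Set L) = W₂) (hodd : Odd (Nat.card ↥(W₁ ⊔ W₂))) : Cfsg.IsSelfNormalizingCyclic W₁ W₂ := by
  have h := primeTI_of_subgroups hKW₁ hKW₁' hW₁ hW₁c hHall hW₂ hW₂c hW₂K hC hodd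
  have hc := comm_of_inf_centralizer hC
  have hd : W₁ ⊓ W₂ = ⊥ := eq_bot_iff.2 fun _ hx => hKW₁ ▸ ⟨hW₂K hx.2, hx.1⟩
  refine selfNormalizing_of_TI hW₁ hW₂ hd hc ?_ fun v hv h1 h2 g hg => ?_
  · exact (prodEquiv hc hd).isCyclic.1 (Group.isCyclic_prod_iff.2 ⟨hW₁c, hW₂c, h.coprime⟩)
  · rw [← range_prodHom hc] at hv hg ⊢
    obtain ⟨⟨a, b⟩, rfl⟩ := hv
    exact h.ti (mt (mul_mem_right_iff hd a b).2 h2) b g hg

end Cfsg.Agent.S1510
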