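import Cfsg.Statements.S1511
import Cfsg.Agent.Lib.Char.PrimeTI

set_option autoImplicit false
open Cfsg

namespace Cfsg.Agent.S1511

open Cfsg.Agent.Char

/-- Let L be a finite group with K normal with complement W₁ ≠ 1 a cyclic Hall subgroup, and W₂ ≠ 1 a cyclic subgroup of K equal to C_K(x) for every non-identity x ∈ W₁, with W₁W₂ of odd order. Then there are a map μ from the linear characters of W = W₁ ⊔ W₂ to irreducible characters of L, injective, and a sign δ(ω) ∈ {1, −1} depending only on the values of ω on W₂, such that: for ω, ω' agreeing on W₂, the function induced to L from ω − ω' equals δ(ω) • (μ ω − μ ω'); μ ω x = δ(ω) ω x for x ∈ W outside W₂; every irreducible character of L not of the form μ ω vanishes on W outside W₂; and μ ω 1 − δ(ω) is an integer multiple of Nat.card W₁. -/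
theorem result {L : Type*} [Group L] [Fintype L] (K W₁ W₂ : Subgroup L) [hK : K.Normal] (hKW₁ : K ⊓ W₁ = ⊥) (hKW₁' : K ⊔ W₁ = ⊤) (hW₁ : W₁ ≠ ⊥) (hW₁c : IsCyclic W₁) (hHall : Nat.Coprime (Nat.card W₁) W₁.index) (hW₂ : W₂ ≠ ⊥) (hW₂c : IsCyclic W₂) (hW₂K : W₂ ≤ K) (hC : ∀ x ∈ W₁, x ≠ 1 → K ⊓ Subgroup.centralizer ({x} : Set L) = W₂) (hodd : Odd (Nat.card ↥(W₁ ⊔ W₂))) : ∃ (μ : (↥(W₁ ⊔ W₂) →* ℂˣ) → (L → ℂ)) (δ : (↥(W₁ ⊔ W₂) →* ℂˣ) → ℂ), Function.Injective μ ∧ (∀ ω, Cfsg.IsIrrCharacter L (μ ω)) ∧ (∀ ω, δ ω = 1 ∨ δ ω = -1) ∧ (∀ ω ω' : ↥(W₁ ⊔ W₂) →* ℂˣ, (∀ w : ↥(W₁ ⊔ W₂), (w : L) ∈ W₂ → ω w = ω' w) → δ ω = δ ω' ∧ Cfsg.indFun (W₁ ⊔ W₂) (fun w => (ω w : ℂ) - (ω' w : ℂ)) = δ ω • (μ ω - μ ω')) ∧ (∀ ω, ∀ w : ↥(W₁ ⊔ W₂), (w : L) ∉ W₂ → μ ω w = δ ω * (ω w : ℂ)) ∧ (∀ θ : L → ℂ, Cfsg.IsIrrCharacter L θ → (∀ ω, θ ≠ μ ω) → ∀ w : ↥(W₁ ⊔ W₂), (w :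 L) ∉ W₂ → θ w = 0) ∧ (∀ ω, ∃ n : ℤ, μ ω 1 - δ ω = n * (Nat.card W₁ : ℂ)) := by
  have h := primeTI_of_subgroups hKW₁ hKW₁' hW₁ hW₁c hHall hW₂ hW₂c hW₂K hC hodd
  have hc := comm_of_inf_centralizer hC
  have hd : W₁ ⊓ W₂ = ⊥ := eq_bot_iff.2 fun _ hx => hKW₁ ▸ ⟨hW₂K hx.2, hx.1⟩
  obtain ⟨μ, δ, hf⟩ := h.exists_fam
  refine ⟨fun ω => μ (resL ω) (resR ω), fun ω => δ (resR ω),
    fun ω ω' e => (res_eq_iff hc hd).1 (hf.inj e), fun ω => hf.irr _ _, fun ω => hf.signC _,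
    fun ω ω' e => ?_, fun ω w hw => ?_, fun θ hθ hne w hw => ?_, fun ω => ?_⟩
  · have e := resR_eq_iff.2 e
    refine ⟨by simp only [e], ?_⟩
    rw [indFun_sup_eq hc hd]
    simp only [← om_res hc hd, ← e]
    exact hf.ind_sub _ _ _
  · obtain ⟨⟨a, b⟩, rfl⟩ := (prodEquiv hc hd).surjective w
    rw [← om_res hc hd]
    exact hf.eq_on _ _ a b (mt (mul_mem_right_iff hd a b).2 hw)
  · obtain ⟨⟨a, b⟩, rfl⟩ := (prodEquiv hc hd).surjective w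
    refine hf.eq_zero_of_ne hθ (fun i j => ?_) (mt (mul_mem_right_iff hd a b).2 hw) b
    obtain ⟨ω, rfl, rfl⟩ := exists_res hc hd i j
    exact hne ω
  · obtain ⟨n, hn⟩ := hf.exists_degree (resL ω) (resR ω)
    exact ⟨n, by simp only [hn]; ring⟩

end Cfsg.Agent.S1511
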