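import Cfsg.Statements.S1513
import Cfsg.Agent.Lib.Char.PrimeTI

set_option autoImplicit false
open Cfsg

namespace Cfsg.Agent.S1513

open Cfsg.Agent.Char

/-- Let L be a finite group with K normal with complement W₁ ≠ 1 a cyclic Hall subgroup, and W₂ ≠ 1 a cyclic subgroup of K equal to C_K(x) for every non-identity x ∈ W₁, with W₁W₂ of odd order. For an irreducible character θ of K: if θ is not fixed under conjugation by some element of W₁, then the function induced from θ to L is an irreducible character of L; and the irreducible characters of K fixed by all of W₁ are exactly Nat.card W₂ in number, each inducing to the sum of Nat.card W₁ pairwise distinct irreducible characters of L. -/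
theorem result {L : Type*} [Group L] [Fintype L] (K W₁ W₂ : Subgroup L) [hK : K.Normal] (hKW₁ : K ⊓ W₁ = ⊥) (hKW₁' : K ⊔ W₁ = ⊤) (hW₁ : W₁ ≠ ⊥) (hW₁c : IsCyclic W₁) (hHall : Nat.Coprime (Nat.card W₁) W₁.index) (hW₂ : W₂ ≠ ⊥) (hW₂c : IsCyclic W₂) (hW₂K : W₂ ≤ K) (hC : ∀ x ∈ W₁, x ≠ 1 → K ⊓ Subgroup.centralizer ({x} : Set L) = W₂) (hodd : Odd (Nat.card ↥(W₁ ⊔ W₂))) : (∀ θ : K → ℂ, Cfsg.IsIrrCharacter K θ → (∃ x ∈ W₁, (fun k : K => θ ⟨x * k * x⁻¹, hK.conj_mem (k : L) k.2 x⟩) ≠ θ) → Cfsg.IsIrrCharacter L (Cfsg.indFun K θ)) ∧ Nat.card {θ : Cfsg.IrrCharacter K // ∀ x ∈ W₁, (fun k : K => (θ : K → ℂ) ⟨x * k * x⁻¹, hK.conj_mem (k : L) k.2 x⟩) = θ} = Nat.card W₂ ∧ (∀ θ : K → ℂ, Cfsg.IsIrrCharacter K θ → (∀ x ∈ W₁, (fun k : K => θ ⟨x * k * x⁻¹, hK.conj_mem (k : L) k.2 x⟩) = θ) → ∃ C : Finset (L → ℂ), C.card = Nat.card W₁ ∧ (∀ μ ∈ C, Cfsg.IsIrrCharacter L μ) ∧ Cfsg.indFun K θ = ∑ μ ∈ C, μ) :=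 by
  classical
  have h := primeTI_of_subgroups hKW₁ hKW₁' hW₁ hW₁c hHall hW₂ hW₂c hW₂K hC hodd
  obtain ⟨μ, δ, hf⟩ := h.exists_fam
  obtain ⟨a, ha⟩ := h.exists_ne_one
  have key : ∀ θ : K → ℂ, IsIrrCharacter K θ → (∀ x ∈ W₁, cj K x θ = θ) → ∃ j, θ = pchi K μ j :=
    fun θ hθ e => hf.exists_eq_pchi hθ ha (by simpa using e a a.2)
  refine ⟨fun θ hθ ⟨x, _, hne⟩ => hf.isIrr_ind hθ ?_, ?_, fun θ hθ e => ?_⟩
  · rintro j rfl
    exact hne (hf.cj_pchi x j)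
  · rw [← h.cycTI.card_lcB]
    refine (Nat.card_congr (Equiv.ofBijective (fun j => ⟨⟨pchi K μ j, hf.isIrr_pchi j⟩,
      fun x _ => hf.cj_pchi x j⟩) ⟨fun j l e => hf.pchi_injective (congrArg (fun x => x.1.1) e),
      fun ⟨⟨θ, hθ⟩, e⟩ => ?_⟩)).symm
    obtain ⟨j, rfl⟩ := key θ hθ e
    exact ⟨j, rfl⟩
  · obtain ⟨j, rfl⟩ := key θ hθ e
    have hi : Function.Injective fun i => μ i j := fun i k e => (hf.inj e).1
    refine ⟨Finset.univ.image fun i => μ i j, ?_, ?_, ?_⟩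
    · rw [Finset.card_image_of_injective _ hi, Finset.card_univ, hf.card_lcA]
    · simp only [Finset.mem_image]
      rintro _ ⟨i, -, rfl⟩
      exact hf.irr i j
    · rw [Finset.sum_image hi.injOn]
      exact hf.pmu_eq_sum j

end Cfsg.Agent.S1513
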