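import Cfsg.Statements.S1518
import Cfsg.Agent.Lib.Char.Coh2

set_option autoImplicit false
open Cfsg

namespace Cfsg.Agent.S1518

open Cfsg.Agent.Char

/-- Under the Dade hypothesis for (A, L, H): if χ is an irreducible character of L vanishing at every non-identity element of L outside A, then the Dade image of χ − conj χ equals μ − conj μ for some irreducible character μ of G. -/
theorem result {G : Type*} [Group G] [Fintype G] (A : Set G) (L : Subgroup G) [Fintype L] (H : G → Subgroup G) (hD : Cfsg.DadeHypothesis A L H) (χ : L → ℂ) (hχ : Cfsg.IsIrrCharacter L χ) (hsupp : ∀ x : L, x ≠ 1 → (x : G) ∉ A → χ x = 0) : ∃ μ : G → ℂ, Cfsg.IsIrrCharacter G μ ∧ Cfsg.dadeIsometry A L H (χ - Cfsg.conjFun χ) = μ - Cfsg.conjFun μ := by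
  by_cases e : conjFun χ = χ
  · exact ⟨fun _ => 1, isIrrCharacter_one, by
      rw [e, sub_self, ← coe_dadeLin, map_zero]; ext; simp [conjFun]⟩
  have h1 : ∀ x : L, (x : G) ∉ A → (χ - conjFun χ) x = 0 := fun x hx => by
    by_cases e : x = 1
    · simp [e, hχ.isCharacter.conjFun_one]
    · simp [conjFun, hsupp x e hx]
  have h2 := hχ.isGen.sub hχ.conjFun.isGen
  rw [← coe_dadeLin]
  refine exists_eq_sub_conj (hD.isGen_dade h2 h1) ?_ (hD.dade_one _) ?_
  · rw [rip, hD.isometry h2.isClassFunction h2.isClassFunction h1, ← rip, rip_sub_conj hχ e]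
  · rw [← dadeLin_conjFun, ← map_neg, conjFun_sub, conjFun_conjFun, neg_sub]

end Cfsg.Agent.S1518
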