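import Cfsg.Statements.S1524
import Cfsg.Agent.Lib.Char.Sec6B

set_option autoImplicit false
open Cfsg

namespace Cfsg.Agent.S1524

open Cfsg.Agent.Char

/-- Let G be a finite group and H ≤ L subgroups with L of odd order, H ≠ ⊥ nilpotent and normal in L with a nontrivial complement W₁ in L (H ⊓ W₁ = ⊥, H ⊔ W₁ = L) acting on H without non-identity fixed points (L is a Frobenius group with kernel H), and suppose the underlying set of H is a TI-subset of G whose normaliser is L. Let S be the set of functions on L induced from the non-principal irreducible characters of H. Then (S, L minus 1, induction to G) is coherent. -/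
theorem result {G : Type*} [Group G] [Fintype G] (H L W₁ : Subgroup G) [Fintype L] (hodd : Odd (Nat.card L)) (hHL : H ≤ L) (hW₁L : W₁ ≤ L) (hH1 : H ≠ ⊥) (hW1 : W₁ ≠ ⊥) (hnil : Group.IsNilpotent H) (hHn : ∀ x ∈ L, ∀ h ∈ H, x * h * x⁻¹ ∈ H) (hinf : H ⊓ W₁ = ⊥) (hsup : H ⊔ W₁ = L) (hfpf : ∀ w ∈ W₁, w ≠ 1 → ∀ h ∈ H, w * h = h * w → h = 1) (hTI : Cfsg.IsTISubset (H : Set G)) (hN : Subgroup.normalizer (H : Set G) = L) : Cfsg.IsCoherent (Cfsg.inducedIrrAbove (H.subgroupOf L) ⊥) {1}ᶜ (fun α : L → ℂ => Cfsg.indFun L α) := by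
  have hn : (H.subgroupOf L).Normal := ⟨fun n hn g => hHn g g.2 n hn⟩
  have ti : ∀ x ∈ H.subgroupOf L, x ≠ 1 → ∀ y ∈ H.subgroupOf L, ∀ g : G, g * x * g⁻¹ = y → g ∈ L :=
    fun x hx h1 y hy g e => by_contra fun hg =>
      h1 (Subtype.ext (hTI g (hN ▸ hg) x hx (e ▸ hy)))
  have hfrob : FrobMod (H.subgroupOf L) (H.subgroupOf L) ⊥ := frobMod_bot_iff.2
    (centralizer_le_of_fpf (H := W₁.subgroupOf L)
      (by rw [← Subgroup.subgroupOf_sup hHL hW₁L, hsup, Subgroup.subgroupOf_self])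
      fun w hw h1 k hk e => Subtype.ext (hfpf w hw (by simpa using h1) k hk (congrArg Subtype.val e)))
  rw [inducedIrrAbove_eq]
  have h0 : ¬ H.subgroupOf L ≤ ⊥ := by
    rw [le_bot_iff, Subgroup.subgroupOf_eq_bot, disjoint_iff, inf_eq_left.2 hHL]; exact hH1
  obtain ⟨χ, hχ⟩ := indD_nonempty le_rfl bot_le h0
  refine (sibley_frob hodd (Solv.isNilpotent_subgroupOf hnil L) ti hfrob).isCoherent
    (fun _ _ => rfl) ⟨χ - conjFun χ, mem_zspanOn_one.2 ⟨sub_mem_span hχ (conj_mem_indD hχ), by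
      simp [(isCharacter_of_mem_indD hχ).conjFun_one]⟩,
      sub_ne_zero.2 (conj_ne_of_mem_indD hodd hχ).symm⟩

end Cfsg.Agent.S1524
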