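import Cfsg.Statements.S1527
import Cfsg.Agent.Lib.Char.Sec7

set_option autoImplicit false
open Cfsg

namespace Cfsg.Agent.S1527

open Cfsg.Agent.Char

/-- Let G be a finite group and H i (i in a finite index type) subgroups of pairwise coprime orders, each of whose underlying sets is a TI-subset of G, such that every non-identity element of G is conjugate to an element of some H i. Then Nat.card G − 1 = Σ_i [G : N_G(H i)] · (Nat.card (H i) − 1). -/
theorem result {G : Type*} [Group G] [Finite G] {ι : Type*} [Fintype ι] (H : ι → Subgroup G) (hcop : ∀ i j, i ≠ j → Nat.Coprime (Nat.card (H i)) (Nat.card (H j))) (hTI : ∀ i, Cfsg.IsTISubset (H i : Set G)) (hcover : ∀ g : G, g ≠ 1 → ∃ i, ∃ x : G, x * g * x⁻¹ ∈ H i) : Nat.card G - 1 = ∑ i, (Subgroup.normalizer (H i : Set G)).index * (Nat.card (H i) - 1) := by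
  classical
  have := Fintype.ofFinite G
  have hD : ∀ i, DadeHypothesis {x | x ∈ H i ∧ x ≠ 1} (Subgroup.normalizer (H i : Set G)) fun _ => ⊥ :=
    fun i => Char.dadeHypothesis_of_TI (fun h => h.2 rfl) (fun x hx => Subgroup.le_normalizer hx.1)
      (fun x hx a ha => ⟨(Subgroup.mem_normalizer_iff.1 hx a).1 ha.1,
        by simpa [mul_inv_eq_one] using ha.2⟩)
      fun a ha g hg => by_contra fun h => ha.2 (hTI i g h a ha.1 hg.1)
  have hs : ∀ i g, g ∈ Char.dadeSupp {x | x ∈ H i ∧ x ≠ 1} (fun _ => ⊥) ↔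
      g ≠ 1 ∧ ∃ x, x * g * x⁻¹ ∈ H i := fun i g => by
    constructor
    · rintro ⟨a, ⟨ha, ha1⟩, u, hu, x, e⟩
      rw [Subgroup.mem_bot.1 hu, mul_one] at e
      exact ⟨by rintro rfl; exact ha1 (by simp [← e]), x, e ▸ ha⟩
    · rintro ⟨hg, x, hx⟩
      exact ⟨_, ⟨hx, by simpa [mul_inv_eq_one] using hg⟩, 1, Subgroup.one_mem _, x, (mul_one _).symm⟩
  have hU : (⋃ i ∈ (Finset.univ : Finset ι), Char.dadeSupp {x | x ∈ H i ∧ x ≠ 1} (fun _ => ⊥)) =
      {1}ᶜ := by
    ext g
    simp only [Finset.mem_univ, Set.iUnion_true, Set.mem_iUnion, Set.mem_compl_iff,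
      Set.mem_singleton_iff, hs]
    exact ⟨fun ⟨i, h⟩ => h.1, fun h => (hcover g h).imp fun i hi => ⟨h, hi⟩⟩
  have h1 := Char.nrm_add_compl ({1} : Set G) fun _ => 1
  rw [← hU, Char.nrm_biUnion, Char.isIrrCharacter_one.rip_self, Char.nrm_singleton] at h1
  · simp only [(hD _).nrm_one_dadeSupp] at h1
    have h0 : (Nat.card G : ℝ) ≠ 0 := Nat.cast_ne_zero.2 Nat.card_pos.ne'
    have h2 : (Nat.card G : ℝ) = 1 + ∑ i, (((Subgroup.normalizer (H i : Set G)).index *
        (Nat.card (H i) - 1) : ℕ) : ℝ) := by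
      conv_lhs => rw [← mul_one (Nat.card G : ℝ), ← h1, mul_add, Finset.mul_sum]
      congr 1
      · rw [norm_one, one_pow, mul_one_div_cancel h0]
      · refine Finset.sum_congr rfl fun i _ => ?_
        have h3 : (Nat.card (Subgroup.normalizer (H i : Set G)) : ℝ) ≠ 0 :=
          Nat.cast_ne_zero.2 Nat.card_pos.ne'
        rw [← Char.ncard_sharp (H i), ← (Subgroup.normalizer (H i : Set G)).index_mul_card]
        push_cast
        field_simp
    have h3 : Nat.card G = 1 + ∑ i, (Subgroup.normalizer (H i : Set G)).index *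
        (Nat.card (H i) - 1) := by exact_mod_cast h2
    omega
  · intro i _ j _ e
    refine Set.disjoint_left.2 fun g hi hj => ?_
    obtain ⟨hg, x, hx⟩ := (hs i g).1 hi
    obtain ⟨-, y, hy⟩ := (hs j g).1 hj
    have e1 := (H i).orderOf_dvd_natCard hx
    have e2 := (H j).orderOf_dvd_natCard hy
    rw [← MulAut.conj_apply, MulEquiv.orderOf_eq] at e1 e2
    exact hg (orderOf_eq_one_iff.1 (Nat.eq_one_of_dvd_coprimes (hcop i j e) e1 e2))

end Cfsg.Agent.S1527
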