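import Cfsg.Statements.S1529
import Cfsg.Agent.Lib.Char.Vchar

set_option autoImplicit false
open Cfsg

namespace Cfsg.Agent.S1529

open Cfsg.Agent.Char

/-- Let N be a subgroup of the finite group G, S a set of irreducible characters of N with at least two members, and τ₁ a linear isometry on the integer combinations of S with virtual-character values such that τ₁ α vanishes at 1 whenever α ∈ ℤ[S] does. Then there is ε ∈ {1, −1} such that ε • τ₁ χ is an irreducible character of G for every χ ∈ S, and distinct members of S give distinct characters. -/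
theorem result {G : Type*} [Group G] [Fintype G] (N : Subgroup G) [Fintype N] (S : Set (N → ℂ)) (hirr : ∀ χ ∈ S, Cfsg.IsIrrCharacter N χ) (htwo : ∃ χ ∈ S, ∃ ψ ∈ S, χ ≠ ψ) (τ₁ : (N → ℂ) → (G → ℂ)) (hτ₁ : Cfsg.IsLinearIsometryOn (Cfsg.zspan S) τ₁) (h0 : ∀ α ∈ Cfsg.zspan S, α 1 = 0 → τ₁ α 1 = 0) : ∃ ε : ℂ, (ε = 1 ∨ ε = -1) ∧ (∀ χ ∈ S, Cfsg.IsIrrCharacter G (ε • τ₁ χ)) ∧ (∀ χ ∈ S, ∀ ψ ∈ S, τ₁ χ = τ₁ ψ → χ = ψ) := by
  obtain ⟨h1, h2, h3, h4⟩ := hτ₁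
  have hS : ∀ χ ∈ S, χ ∈ zspan S := fun χ h => Submodule.subset_span h
  have hd : ∀ χ : S, IsDirr G (τ₁ χ) := fun χ => (h4 _ (hS _ χ.2)).isDirr (rip_eq_one (by
    rw [h3 _ (hS _ χ.2) _ (hS _ χ.2), (hirr _ χ.2).classInner_self]))
  obtain ⟨χ₀, h5, -⟩ := htwo
  choose d hd0 hd1 using fun χ : S => (hirr χ χ.2).exists_degree
  obtain ⟨ε, hε, h6⟩ := exists_common_sign hd (d := fun χ => d χ) (fun χ => by exact_mod_cast hd0 χ)
    (c := τ₁ χ₀ 1 / d ⟨χ₀, h5⟩) (fun χ => by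
      have h7 : ((d ⟨χ₀, h5⟩ : ℤ) • χ.1) ∈ zspan S := Submodule.smul_mem _ _ (hS _ χ.2)
      have h8 : ((-d χ : ℤ) • χ₀) ∈ zspan S := Submodule.smul_mem _ _ (hS _ h5)
      have h9 := h0 _ (Submodule.add_mem _ h7 h8) (by
        have : χ₀ 1 = _ := hd1 ⟨χ₀, h5⟩
        simp [hd1 χ, this, mul_comm])
      rw [h1 _ h7 _ h8, h2 _ (hS _ χ.2), h2 _ (hS _ h5)] at h9
      have h10 : (d ⟨χ₀, h5⟩ : ℂ) ≠ 0 := by exact_mod_cast (hd0 _).ne'
      simp only [Pi.add_apply, Pi.smul_apply] at h9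
      simp only [zsmul_eq_mul, Int.cast_natCast, Int.cast_neg] at h9
      field_simp
      simp only [Complex.ofReal_natCast]
      linear_combination h9)
  refine ⟨ε, hε, fun χ h => h6 ⟨χ, h⟩, fun χ hχ ψ hψ h => ?_⟩
  refine (hirr χ hχ).eq_of_classInner_ne_zero (hirr ψ hψ) ?_
  rw [← h3 _ (hS _ hχ) _ (hS _ hψ), ← h, (hd ⟨χ, hχ⟩).classInner_self]
  exact one_ne_zero

end Cfsg.Agent.S1529
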