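import Cfsg.Statements.S1530
import Cfsg.Agent.Lib.Char.Coh2

set_option autoImplicit false
open Cfsg

namespace Cfsg.Agent.S1530

open Cfsg.Agent.Char

/-- Let N be a subgroup of the finite group G and S₀ a finite set of irreducible characters of N, χ an irreducible character of N not in S₀, with degrees ξ 1 = d ξ. Let τ be a linear isometry on the integer combinations of S₀ ∪ {χ} vanishing at 1, with values virtual characters of G vanishing at 1, such that (S₀, N minus 1, τ) is coherent. If some ψ ∈ S₀ has d ψ dividing d χ and 2 · d ψ · d χ < Σ_{ξ ∈ S₀} (d ξ)², then (S₀ ∪ {χ}, N minus 1, τ) is coherent. -/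
theorem result {G : Type*} [Group G] [Fintype G] (N : Subgroup G) [Fintype N] (S₀ : Finset (N → ℂ)) (χ : N → ℂ) (hirr : ∀ ξ ∈ S₀, Cfsg.IsIrrCharacter N ξ) (hχ : Cfsg.IsIrrCharacter N χ) (hχS : χ ∉ S₀) (d : (N → ℂ) → ℕ) (hd : ∀ ξ ∈ insert χ S₀, ξ 1 = (d ξ : ℂ)) (τ : (N → ℂ) → (G → ℂ)) (hτ : Cfsg.IsLinearIsometryOn (Cfsg.zspanOn (↑(insert χ S₀) : Set (N → ℂ)) {1}ᶜ) τ) (hτ1 : ∀ α ∈ Cfsg.zspanOn (↑(insert χ S₀) : Set (N → ℂ)) {1}ᶜ, τ α 1 = 0) (hcoh : Cfsg.IsCoherent (↑S₀ : Set (N → ℂ)) {1}ᶜ τ) (ψ : N → ℂ) (hψ : ψ ∈ S₀) (hdvd : d ψ ∣ d χ) (hlt : 2 * d ψ * d χ < ∑ ξ ∈ S₀, d ξ ^ 2) : Cfsg.IsCoherent (↑(insert χ S₀) : Set (N → ℂ)) {1}ᶜ τ := by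
  have hi : ∀ ξ ∈ (↑(insert χ S₀) : Set (N → ℂ)), IsIrrCharacter N ξ := by
    simp only [Finset.coe_insert, Set.mem_insert_iff]
    rintro _ (rfl | h); exacts [hχ, hirr _ h]
  obtain ⟨T, hT, h⟩ := exists_isoOn (fun χ hχ => (hi χ hχ).isCharacter) hτ hτ1
  have hS : (↑S₀ : Set (N → ℂ)) ⊆ ↑(insert χ S₀) := by simp
  obtain ⟨ν, hν⟩ := coh_of_isCoherent (fun χ hχ => h.char χ (hS hχ))
    (fun α hα => hT α (zspanOn_mono hS hα)) hcoh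
  obtain ⟨a, ha⟩ := hdvd
  have hd₀ : ∀ ξ ∈ S₀, ξ 1 = d ξ := fun ξ hξ => hd ξ (Finset.mem_insert_of_mem hξ)
  have hd₁ := hd χ (Finset.mem_insert_self _ _)
  obtain ⟨h1, h2⟩ := h.extend_irr hS hν hi (χ := χ) (by simp) hχS hψ (a := a)
    (by rw [hd₁, hd₀ ψ hψ, ha]; push_cast; ring) subset_rfl (by
      rw [deg_eq_nat hd₁, deg_eq_nat (hd₀ ψ hψ),
        Finset.sum_congr rfl fun ξ hξ => by rw [deg_eq_nat (hd₀ ξ hξ)]]
      exact_mod_cast (by linarith : 2 * d χ * d ψ < _))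
  refine (h.pivot subset_rfl hν.ext (Submodule.subset_span (hS hψ)) (hirr ψ hψ).apply_one_ne_zero
    (hν.iso _ hψ _ hψ) ?_).coh.isCoherent hT (hcoh.1.imp fun α hα => ⟨zspanOn_mono hS hα.1, hα.2⟩)
  simp only [Finset.coe_insert, Set.mem_insert_iff]
  rintro ξ (rfl | hξ)
  · exact ⟨h1, by rw [h2, hχ.classInner_of_ne (hirr ψ hψ) (by rintro rfl; exact hχS hψ)]⟩
  · exact ⟨hν.gen _ hξ, hν.iso _ hξ _ hψ⟩

end Cfsg.Agent.S1530
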