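import Cfsg.Statements.S1531
import Cfsg.Agent.Lib.Char.Coh2

set_option autoImplicit false
open Cfsg

namespace Cfsg.Agent.S1531

open Cfsg.Agent.Char

/-- Let N be a subgroup of the finite group G, S a set of irreducible characters of N, and α a linear isometry on the integer combinations of S vanishing at 1 with values virtual characters of G vanishing at 1. Let X, Y ⊆ S be disjoint, each with at least two members, and σ, τ linear isometries on ℤ[X], ℤ[Y] into virtual characters agreeing with α on the members vanishing at 1. Then ⟨σ χ, τ η⟩ = 0 for χ ∈ X, η ∈ Y; and if for some χ₀ ∈ X, η₀ ∈ Y with degrees c = χ₀ 1, e = η₀ 1 one has α (c • η₀ − e • χ₀) = c • τ η₀ − e • σ χ₀, then (X ∪ Y, N minus 1, α) is coherent. -/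
theorem result {G : Type*} [Group G] [Fintype G] (N : Subgroup G) [Fintype N] (S X Y : Set (N → ℂ)) (hirr : ∀ ξ ∈ S, Cfsg.IsIrrCharacter N ξ) (hXS : X ⊆ S) (hYS : Y ⊆ S) (hXY : Disjoint X Y) (hX2 : ∃ a ∈ X, ∃ b ∈ X, a ≠ b) (hY2 : ∃ a ∈ Y, ∃ b ∈ Y, a ≠ b) (α : (N → ℂ) → (G → ℂ)) (hα : Cfsg.IsLinearIsometryOn (Cfsg.zspanOn S {1}ᶜ) α) (hα1 : ∀ θ ∈ Cfsg.zspanOn S {1}ᶜ, α θ 1 = 0) (σ τ : (N → ℂ) → (G → ℂ)) (hσ : Cfsg.IsLinearIsometryOn (Cfsg.zspan X) σ) (hσα : ∀ θ ∈ Cfsg.zspanOn X {1}ᶜ, σ θ = α θ) (hτ : Cfsg.IsLinearIsometryOn (Cfsg.zspan Y) τ) (hτα : ∀ θ ∈ Cfsg.zspanOn Y {1}ᶜ, τ θ = α θ) : (∀ χ ∈ X, ∀ η ∈ Y, Cfsg.classInner (σ χ) (τ η) = 0) ∧ ((∃ χ₀ ∈ X, ∃ η₀ ∈ Y, α (χ₀ 1 • η₀ - η₀ 1 • χ₀) = χ₀ 1 • τ η₀ - η₀ 1 • σ χ₀) → Cfsg.IsCoherent (X ∪ Y) {1}ᶜ α) := by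
  obtain ⟨T, hT, h⟩ := exists_isoOn (fun χ hχ => (hirr χ hχ).isCharacter) hα hα1
  obtain ⟨ν₁, hν₁, e₁⟩ := exists_cohWith_of_isometry (T := T) (fun χ hχ => h.char χ (hXS hχ)) hσ
    fun θ hθ => (hσα θ hθ).trans (hT θ (zspanOn_mono hXS hθ)).symm
  obtain ⟨ν₂, hν₂, e₂⟩ := exists_cohWith_of_isometry (T := T) (fun χ hχ => h.char χ (hYS hχ)) hτ
    fun θ hθ => (hτα θ hθ).trans (hT θ (zspanOn_mono hYS hθ)).symm
  have ho := fun χ hχ η hη => h.orth_irr hirr hXS hYS hν₁ hν₂ hXY hX2 hY2 (χ := χ) (φ := η) hχ hη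
  refine ⟨fun χ hχ η hη => ?_, fun ⟨χ₀, h₀, η₀, h₁, e⟩ => ?_⟩
  · rw [← e₁ χ (Submodule.subset_span hχ), ← e₂ η (Submodule.subset_span hη), ho χ hχ η hη]
  have hm : ∀ a ∈ S, ∀ b ∈ S, a 1 • b - b 1 • a ∈ zspanOn S {1}ᶜ := fun a ha b hb => by
    obtain ⟨m, hm⟩ := (h.char a ha).exists_degree
    obtain ⟨n, hn⟩ := (h.char b hb).exists_degree
    refine mem_zspanOn_one.2 ⟨?_, by simp [mul_comm]⟩
    rw [hm, hn, Nat.cast_smul_eq_nsmul, Nat.cast_smul_eq_nsmul, ← natCast_zsmul, ← natCast_zsmul]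
    exact smul_sub_smul_mem_span hb ha _ _
  rw [← hT _ (hm _ (hXS h₀) _ (hYS h₁)), hν₂.ext.smul_sub_smul (mul_comm _ _),
    ← e₁ _ (Submodule.subset_span h₀), ← e₂ _ (Submodule.subset_span h₁), sub_right_inj] at e
  obtain rfl := hν₂.ext.unique hν₁.ext (hirr _ (hXS h₀)).apply_one_ne_zero
    (smul_right_injective _ (hirr _ (hYS h₁)).apply_one_ne_zero e)
  have hU := Set.union_subset hXS hYS
  refine (h.pivot hU hν₁.ext (Submodule.subset_span (hXS h₀)) (hirr _ (hXS h₀)).apply_one_ne_zero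
    (hν₁.iso _ h₀ _ h₀) ?_).coh.isCoherent (fun θ hθ => hT θ (zspanOn_mono hU hθ)) ?_
  · rintro ξ (hξ | hξ)
    · exact ⟨hν₁.gen _ hξ, hν₁.iso _ hξ _ h₀⟩
    · exact ⟨hν₂.gen _ hξ, by
        rw [classInner_eq_zero_comm.1 (ho _ h₀ _ hξ),
          (hirr _ (hYS hξ)).classInner_of_ne (hirr _ (hXS h₀)) (hXY.ne_of_mem h₀ hξ).symm]⟩
  · have hm' : χ₀ 1 • η₀ - η₀ 1 • χ₀ ∈ zspanOn (X ∪ Y) {1}ᶜ := by
      obtain ⟨m, hm⟩ := (h.char _ (hXS h₀)).exists_degree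
      obtain ⟨n, hn⟩ := (h.char _ (hYS h₁)).exists_degree
      refine mem_zspanOn_one.2 ⟨?_, by simp [mul_comm]⟩
      rw [hm, hn, Nat.cast_smul_eq_nsmul, Nat.cast_smul_eq_nsmul, ← natCast_zsmul, ← natCast_zsmul]
      exact smul_sub_smul_mem_span (Set.mem_union_right X h₁) (Set.mem_union_left Y h₀) _ _
    refine ⟨_, hm', fun e => ?_⟩
    have := congrArg (classInner · η₀) e
    simp [classInner_sub_left, classInner_smul_left, (hirr _ (hYS h₁)).classInner_self,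
      (hirr _ (hXS h₀)).classInner_of_ne (hirr _ (hYS h₁)) (hXY.ne_of_mem h₀ h₁),
      (hirr _ (hXS h₀)).apply_one_ne_zero] at this

end Cfsg.Agent.S1531
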