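import Cfsg.Statements.S1532
import Cfsg.Agent.Lib.Char.TIFrob

set_option autoImplicit false
open Cfsg

namespace Cfsg.Agent.S1532

open Cfsg.Agent.Char

/-- Let G be a finite group, p an odd prime and P a Sylow p-subgroup that is non-abelian, whose underlying set is a TI-subset of G, with P properly contained in its set normaliser N and C_G(x) ≤ P for every non-identity x ∈ P. Let Z be a nontrivial subgroup of the centre of P normalised by N. Then the set of irreducible characters χ of N with χ z ≠ χ 1 for some z ∈ Z is coherent for the map induced by induction from N to G. -/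
theorem result {G : Type*} [Group G] [Fintype G] (p : ℕ) [Fact p.Prime] (hp : p ≠ 2) (P : Sylow p G) (hna : ¬ IsMulCommutative (P : Subgroup G)) (hTI : Cfsg.IsTISubset ((P : Subgroup G) : Set G)) (hlt : (P : Subgroup G) < Subgroup.normalizer ((P : Subgroup G) : Set G)) (hC : ∀ k ∈ (P : Subgroup G), k ≠ 1 → Subgroup.centralizer ({k} : Set G) ≤ (P : Subgroup G)) [Fintype ↥(Subgroup.normalizer ((P : Subgroup G) : Set G))] (Z : Subgroup G) (hZ1 : Z ≠ ⊥) (hZP : ∀ z ∈ Z, z ∈ (P : Subgroup G) ∧ ∀ y ∈ (P : Subgroup G), z * y = y * z) (hZn : ∀ x ∈ Subgroup.normalizer ((P : Subgroup G) : Set G), ∀ z ∈ Z, x * z * x⁻¹ ∈ Z) : Cfsg.IsCoherent {χ : ↥(Subgroup.normalizer ((P : Subgroup G) : Set G)) → ℂ | Cfsg.IsIrrCharacter ↥(Subgroup.normalizer ((P : Subgroup G) : Set G)) χ ∧ ∃ z : ↥(Subgroup.normalizer ((P : Subgroup G) : Set G)), (z : G) ∈ Z ∧ χ z ≠ χ 1} {1}ᶜ (fun α => Cfsg.indFun (Subgroup.normalizer ((P : Subgroup G) : Set G)) α) := by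
  have hp' : p.Prime := Fact.out
  have frob := frobMod_subgroupOf (Subgroup.normalizer ((P : Subgroup G) : Set G)) hC
  have hZ : (Z.subgroupOf (Subgroup.normalizer ((P : Subgroup G) : Set G))).Normal :=
    ⟨fun z hz x => hZn x x.2 z hz⟩
  have hle : Z.subgroupOf (Subgroup.normalizer ((P : Subgroup G) : Set G)) ≤
      (P : Subgroup G).subgroupOf _ := fun z hz => (hZP z hz).1
  have he : Odd ((P : Subgroup G).subgroupOf
      (Subgroup.normalizer ((P : Subgroup G) : Set G))).index := Nat.not_even_iff_odd.1 fun e => by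
    have := Subgroup.commutator_eq_bot_iff_le_centralizer.1 (frob.comm_of_even e)
    refine hna ⟨⟨fun a b => Subtype.ext ?_⟩⟩
    have := congrArg Subtype.val (this (x := ⟨b, hlt.le b.2⟩) b.2 ⟨a, hlt.le a.2⟩ a.2)
    exact this
  obtain ⟨n, hn⟩ := IsPGroup.iff_card.1 P.2
  have hodd : Odd (Nat.card (Subgroup.normalizer ((P : Subgroup G) : Set G))) := by
    rw [← Subgroup.index_mul_card ((P : Subgroup G).subgroupOf _), card_subgroupOf_normalizer, hn]
    exact he.mul (hp'.odd_of_ne_two hp).pow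
  have h1 := (sibley_frob hodd (frob.isNilpotent (subgroupOf_ne_top hlt)) (ti_subgroupOf hTI)
    frob).mono (indD_subset _ (Z.subgroupOf _) ⊥)
  refine (frob.set_eq' hle).symm ▸ h1.isCoherent (fun _ _ => rfl)
    (exists_vanish_of_nontrivial (fun _ => frob.irr) ?_)
  obtain ⟨χ, hχ⟩ := indD_nonempty hle bot_le (M := ⊥) (fun e => hZ1 (eq_bot_iff.2 fun z hz =>
    congrArg Subtype.val (Subgroup.mem_bot.1 (e (x := ⟨z, hlt.le (hZP z hz).1⟩) hz))))
  exact ⟨_, conj_mem_indD hχ, χ, hχ, conj_ne_of_mem_indD hodd hχ⟩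

end Cfsg.Agent.S1532
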