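import Cfsg.Statements.S1534
import Cfsg.Agent.Lib.Char.TIFrob

set_option autoImplicit false
open Cfsg

namespace Cfsg.Agent.S1534

open Cfsg.Agent.Char

/-- Let G be a finite group and K a nontrivial nilpotent subgroup whose underlying set is a TI-subset of G, properly contained in its set normaliser N, with C_G(k) ≤ K for every non-identity k ∈ K; let e be the index of K in N and S the set of irreducible characters χ of N with χ k ≠ χ 1 for some k ∈ K. Then one of: S has exactly one member, Nat.card K = e + 1 and K is an elementary abelian p-group for some prime p; or K is a Sylow 2-subgroup of G (Nat.card K is the largest power of 2 dividing Nat.card G) and [K : [K,K]] < 4e²; or (S, N minus 1, induction to G) is coherent. -/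
theorem result {G : Type*} [Group G] [Fintype G] (K : Subgroup G) (hK1 : K ≠ ⊥) (hnil : Group.IsNilpotent K) (hTI : Cfsg.IsTISubset (K : Set G)) (hlt : K < Subgroup.normalizer (K : Set G)) (hC : ∀ k ∈ K, k ≠ 1 → Subgroup.centralizer ({k} : Set G) ≤ K) [Fintype ↥(Subgroup.normalizer (K : Set G))] : (Nat.card {χ : ↥(Subgroup.normalizer (K : Set G)) → ℂ // Cfsg.IsIrrCharacter ↥(Subgroup.normalizer (K : Set G)) χ ∧ ∃ k : ↥(Subgroup.normalizer (K : Set G)), (k : G) ∈ K ∧ χ k ≠ χ 1} = 1 ∧ Nat.card K = (K.subgroupOf (Subgroup.normalizer (K : Set G))).index + 1 ∧ ∃ p : ℕ, p.Prime ∧ Cfsg.IsElementaryAbelian p K) ∨ (Nat.card K = 2 ^ (Nat.card G).factorization 2 ∧ (⁅K, K⁆.subgroupOf K).index < 4 * (K.subgroupOf (Subgroup.normalizer (K : Set G))).index ^ 2) ∨ Cfsg.IsCoherent {χ : ↥(Subgroup.normalizer (K : Set G)) → ℂ | Cfsg.IsIrrCharacter ↥(Subgroup.normalizer (K : Set G)) χ ∧ ∃ k : ↥(Subgroup.normalizer (K : Set G)), (k : G) ∈ K ∧ χ k ≠ χ 1} {1}ᶜ (fun α => Cfsg.indFun (Subgroup.normalizer (K : Set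 G)) α) := by
  have frob := frobMod_subgroupOf (Subgroup.normalizer (K : Set G)) hC
  have h0 : K.subgroupOf (Subgroup.normalizer (K : Set G)) ≠ ⊥ := fun e => hK1 (by
    rw [← Subgroup.card_eq_one, ← card_subgroupOf_normalizer, e, Subgroup.card_bot])
  have h1 := subgroupOf_ne_top hlt
  by_cases he : Nat.card K = (K.subgroupOf (Subgroup.normalizer (K : Set G))).index + 1
  · have he' := card_subgroupOf_normalizer.trans he
    refine Or.inl ⟨?_, he, (frob.elementary h1 he').imp fun p h =>
      ⟨h.1, isElementaryAbelian_of_subgroupOf hlt.le h.2⟩⟩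
    rw [← frob.card_eq_one h0 he', ← ti_set_eq hC]
    rfl
  right
  rw [ti_set_eq hC]
  refine (feit_sibley hTI hlt hC).symm.imp (fun h => ⟨?_, h.2.2⟩) fun h => h.isCoherent
    (fun _ _ => rfl) (exists_vanish_of_nontrivial (fun _ => frob.irr)
      (frob.nontrivial h0 h1 (by rwa [card_subgroupOf_normalizer])))
  obtain ⟨n, hn⟩ := IsPGroup.iff_card.1 h.1
  have h2 : 2 ∣ Nat.card K := hn ▸ dvd_pow_self 2 (by
    rintro rfl
    exact hK1 (Subgroup.card_eq_one.1 hn))
  exact Sylow.card_eq_multiplicity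
    (h.1.toSylow (not_dvd_index_of_centralizer_le hC Nat.prime_two h2))

end Cfsg.Agent.S1534
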