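import Cfsg.Statements.S1536
import Cfsg.Agent.Lib.Char.PermLemma

set_option autoImplicit false
open Cfsg

namespace Cfsg.Agent.S1536

open Cfsg.Agent.Char

/-- Let H be a normal subgroup of the finite group M whose order is coprime to its index. For x ∈ M: some non-principal irreducible character of H is unchanged under h ↦ θ(x h x⁻¹) if and only if some non-identity element of H commutes with x. -/
theorem result {M : Type*} [Group M] [Finite M] (H : Subgroup M) [hN : H.Normal] (hHall : Nat.Coprime (Nat.card H) H.index) (x : M) : (∃ θ : H → ℂ, Cfsg.IsIrrCharacter H θ ∧ θ ≠ (fun _ => 1) ∧ (fun h : H => θ ⟨x * h * x⁻¹, hN.conj_mem h h.2 x⟩) = θ) ↔ ∃ h ∈ H, h ≠ 1 ∧ x * h = h * x := by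
  constructor
  · rintro ⟨θ, hθ, h1, h2⟩
    by_contra hcon
    push Not at hcon
    have hfpf : ∀ k ∈ H, x * k = k * x → k = 1 := fun k hk e => by
      by_contra h; exact hcon k hk h e
    refine h1 (eq_one_of_comp_equiv_eq (MulAut.conjNormal x) (fun g hg => ?_) hθ (congrFun h2))
    obtain ⟨y, hy⟩ := isConj_iff.1 hg
    have hy' : (y : M) * (x * g * x⁻¹) * (y : M)⁻¹ = g := congrArg Subtype.val hy
    obtain ⟨z, hz, e⟩ := exists_conj_eq_mul_of_fpf hfpf y.2
    have := hfpf (z⁻¹ * g * z) (H.mul_mem (H.mul_mem (H.inv_mem hz) g.2) hz) (by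
      have e1 : x = z⁻¹ * (y * x) * z := by rw [← e]; group
      have e2 : y * x * g = g * (y * x) := by
        conv_rhs => rw [← hy']
        group
      rw [e1]
      calc z⁻¹ * (y * x) * z * (z⁻¹ * g * z) = z⁻¹ * (y * x * g) * z := by group
        _ = _ := by rw [e2]; group)
    exact Subtype.ext (by simpa [mul_assoc, inv_mul_eq_one] using this)
  · rintro ⟨k, hk, h1, e⟩
    by_contra hcon
    push Not at hcon
    refine h1 (congrArg Subtype.val (eq_one_of_isConj_equiv (G := H) (MulAut.conjNormal x)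
      (fun χ hχ h => ?_) (g := ⟨k, hk⟩) ?_))
    · by_contra h'
      exact hcon χ hχ h' (funext h)
    · have : MulAut.conjNormal x (⟨k, hk⟩ : H) = ⟨k, hk⟩ := Subtype.ext (by simp [e])
      rw [this]

end Cfsg.Agent.S1536
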