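import Cfsg.Statements.S1551
import Cfsg.Agent.Lib.Spor.Act

set_option autoImplicit false
open scoped Pointwise
open Cfsg

namespace Cfsg.Agent.S1551

set_option linter.unusedSectionVars false
set_option linter.unusedVariables false
set_option linter.style.haveILetI false
set_option linter.unusedSimpArgs false

open Cfsg.Agent.Spor Cfsg.Agent.PC MulAction Finset Matrix
def L : List (ℕ × ℕ) := [(3592, 3592), (557076, 557076), (1056898, 1056898), (2097504, 2097504), (4653056, 4653056), (8409089, 8409089)]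
theorem memL (g : M24) : (∀ t ∈ sext (bset 8409089), g • t = t) ↔ ∀ x ∈ L, g • bset x.1 = bset x.2 := by
  simp [sext_base, L]
theorem facts {S : Finset (Finset GolayPt)} (hS : S ∈ sextets) : Nat.card {g : M24 // (∀ t ∈ S, g • t = t) ∧ True} = 192 ∧
    Nat.card {g : M24 // (∀ t ∈ S, g • t = t) ∧ g ^ 2 = 1} = 64 ∧ ∀ g : M24, (∀ t ∈ S, g • t = t) → g ^ 2 = 1 ∨ g ^ 3 = 1 := by
  obtain ⟨a, rfl⟩ := sext_trans (sext_mem (t := bset 8409089) (by rw [card_bset]; decide +kernel)) hS
  refine ⟨(card_conj a fun g => by rw [fixS_conj, memL, and_true]).trans (full1.cardS L (by decide) (by decide +kernel)),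
    (card_conj a fun g => by rw [fixS_conj, memL, conj_pow, conj_eq_one']).trans
    (full1.card (fun c => (∀ x ∈ L, img c x.1 = x.2) ∧ pwc c 2 = idc) ((prS_ok L).mono fun _ h => h.1)
    (fun g c a => and_congr (a.S_iff (by decide)) (a.pow 2).eq_one) (by decide +kernel)), fun g h => ?_⟩
  obtain ⟨g, rfl⟩ := (MulAut.conj a).surjective g
  obtain ⟨c, b⟩ := exists_is g
  rw [MulAut.conj_apply, fixS_conj, memL] at h
  rw [MulAut.conj_apply, conj_pow, conj_pow, conj_eq_one', conj_eq_one', (b.pow 2).eq_one, (b.pow 3).eq_one]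
  exact full1.allS L (by decide) (fun c => pwc c 2 = idc ∨ pwc c 3 = idc) (by decide +kernel) b h

/-- Structure of a sextet stabiliser: it induces every permutation of the six tetrads, the subgroup fixing each tetrad setwise has order 192, and there is a normal subgroup of order 64 consisting of elements squaring to the identity. -/
theorem result (S : Finset (Finset Cfsg.GolayPt)) (hS : S ∈ Cfsg.sextets) : (∀ e : Equiv.Perm ↥S, ∃ g ∈ MulAction.stabilizer Cfsg.M24 S, ∀ t : ↥S, (g : Equiv.Perm Cfsg.GolayPt) • (t : Finset Cfsg.GolayPt) = ((e t : ↥S) : Finset Cfsg.GolayPt)) ∧ Nat.card {g : ↥(MulAction.stabilizer Cfsg.M24 S) // ∀ t ∈ S, ((g : Cfsg.M24) : Equiv.Perm Cfsg.GolayPt) • t = t} = 192 ∧ ∃ N : Subgroup ↥(MulAction.stabilizer Cfsg.M24 S), N.Normal ∧ Nat.card N = 64 ∧ ∀ x ∈ N, x * x = 1 := by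
  obtain ⟨f1, f2, f3⟩ := facts hS
  have k : Nat.card (resS S).ker = 192 := (Nat.card_congr (Equiv.subtypeEquivRight fun g =>
    (resS_eq_one g).trans (and_iff_left trivial).symm)).trans ((card_fixS S fun _ => True).trans f1)
  refine ⟨fun e => ?_, (Nat.card_congr (Equiv.subtypeEquivRight fun g => (resS_eq_one g).symm)).trans k, ?_⟩
  · obtain ⟨g, rfl⟩ := surj_of_card (resS S) (b := 720) k (by
      rw [Nat.card_perm, Nat.card_eq_fintype_card, Fintype.card_coe, hS.1]; rfl) (card_stab_sext hS) (by norm_num) (by norm_num) e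
    exact ⟨g, g.2, fun _ => rfl⟩
  have c : Nat.card {x // x ∈ (resS S).ker ∧ x ^ 2 = 1} = 2 ^ 6 := (Nat.card_congr (Equiv.subtypeEquivRight fun g =>
    and_congr (resS_eq_one g) Subtype.ext_iff)).trans ((card_fixS S (· ^ 2 = 1)).trans f2)
  obtain ⟨N, hN⟩ := exists_pset (resS S).ker Nat.prime_two (by rw [k]; norm_num) (fun x hx h => by
    rcases f3 x ((resS_eq_one x).1 hx) with e | e
    · exact Subtype.ext e
    · have : x ^ 3 = 1 := Subtype.ext e
      rw [show 2 ^ 6 = 3 * 21 + 1 from rfl, pow_succ, pow_mul, this, one_pow, one_mul] at h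
      rw [h, one_pow]) c
  exact ⟨N, ⟨fun x hx g => (hN _).2 ⟨(MonoidHom.normal_ker _).conj_mem _ ((hN x).1 hx).1 g, by
    rw [conj_pow, ((hN x).1 hx).2]; simp⟩⟩, (Nat.card_congr (Equiv.subtypeEquivRight hN)).trans c,
    fun x hx => (sq x).symm.trans ((hN x).1 hx).2⟩

end Cfsg.Agent.S1551
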