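import Cfsg.Statements.S1553
import Cfsg.Agent.Lib.Spor.Six

set_option autoImplicit false
open scoped Pointwise
open Cfsg

namespace Cfsg.Agent.S1553

set_option linter.unusedSectionVars false
set_option linter.unusedVariables false
set_option linter.style.haveILetI false
set_option linter.unusedSimpArgs false

open Cfsg.Agent.Spor Cfsg.Agent.PC MulAction Finset
theorem ran {o : Finset GolayPt} (ho : o ∈ octads) :
    (resHom (stabilizer M24 o) o fun _ h => h).range = alternatingGroup o := by
  set f := resHom (stabilizer M24 o) o fun _ h => h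
  have k : Nat.card f.ker = 16 := (Nat.card_congr ((Equiv.subtypeEquivRight fun g => resHom_eq_one _ g).trans
    (Equiv.subtypeSubtypeEquivSubtype (q := fun g : M24 => ∀ p ∈ o, g • p = p) fun {g} h => by
      exact (msmul_eq_of_agree (π := 1) h).trans (one_smul _ _)))).trans (card_fix_oct ho)
  have a := f.ker.card_mul_index
  have b := f.range.card_mul_index
  rw [Subgroup.index_ker, k, card_stab_oct ho] at a
  rw [Nat.card_perm, show Nat.card o = 8 by simp [(mem_octads.1 ho).2], show Nat.card f.range = 20160 by omega] at b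
  exact Equiv.Perm.eq_alternatingGroup_of_index_eq_two (by norm_num [Nat.factorial] at b; omega)

/-- The stabiliser of an octad in the group of the length-24 code induces on the octad exactly its alternating group. -/
theorem result (o : Finset Cfsg.GolayPt) (ho : o ∈ Cfsg.octads) : {e : Equiv.Perm ↥o | ∃ g : Equiv.Perm Cfsg.GolayPt, g ∈ Cfsg.M24 ∧ ∃ h : (∀ x, g x ∈ o ↔ x ∈ o), g.subtypePerm h = e} = (alternatingGroup ↥o : Set (Equiv.Perm ↥o)) := by
  rw [← ran ho]
  ext e
  refine ⟨fun ⟨g, hg, h, k⟩ => ⟨⟨⟨g, hg⟩, eq_of_subset_of_card_le (fun x hx => ?_) (card_smul_finset _ _).ge⟩, k⟩,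
    fun ⟨g, k⟩ => ⟨g.1.1, g.1.2, fun x =>
      (iff_of_eq (congrArg (_ ∈ ·) (mem_stabilizer_iff.1 g.2).symm)).trans (smul_mem_smul_finset_iff g.1), k⟩⟩
  obtain ⟨y, hy, rfl⟩ := mem_smul_finset.1 hx
  exact (h y).2 hy

end Cfsg.Agent.S1553
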