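import Cfsg.Statements.S1554
import Cfsg.Agent.S1553

set_option autoImplicit false
open scoped Pointwise
open Cfsg

namespace Cfsg.Agent.S1554

set_option linter.unusedSectionVars false
set_option linter.unusedVariables false
set_option linter.style.haveILetI false
set_option linter.unusedSimpArgs false

open Cfsg.Agent.Spor Cfsg.Agent.PC MulAction Finset
theorem semi {o : Finset GolayPt} (ho : o ∈ octads) {p : GolayPt} (hp : p ∉ o) {g : M24} (h : ∀ q ∈ o, g • q = q)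
    (e : g • p = p) : g = 1 := by
  by_contra n
  have := card_le_card (s := insert p o) (t := Fx g) (insert_subset (mem_Fx.2 e) fun q hq => mem_Fx.2 (h q hq))
  rw [card_insert_of_notMem hp, (mem_octads.1 ho).2] at this
  have := fix_le n
  omega
theorem st {o : Finset GolayPt} {g : M24} (h : ∀ q ∈ o, g • q = q) : g • o = o :=
  (msmul_eq_of_agree (π := 1) h).trans (one_smul _ _)
theorem reg {o : Finset GolayPt} (ho : o ∈ octads) {p q : GolayPt} (hp : p ∉ o) (hq : q ∉ o) :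
    ∃ g : M24, (∀ x ∈ o, g • x = x) ∧ g • p = q := by
  have := orbit_eq_of_count (L := fixingSubgroup M24 (o : Set GolayPt)) (x := p) (S := (oᶜ : Finset GolayPt)) (Set.toFinite _)
    (fun a ha => by
      rw [mem_coe, mem_compl, ← st ((mem_fixingSubgroup_iff _).1 ha), smul_mem_smul_finset_iff]; exact hp)
    (cardLE_of_eq_one fun a ha => semi ho hp ((mem_fixingSubgroup_iff _).1 ha.1) ha.2) (by
      rw [Set.ncard_coe_finset, card_compl, card_golayPt, (mem_octads.1 ho).2, card_sub fun g => mem_fixingSubgroup_iff _]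
      exact (card_fix_oct ho).ge)
  obtain ⟨g, e⟩ : q ∈ orbit (fixingSubgroup M24 (o : Set GolayPt)) p := this ▸ mem_coe.2 (mem_compl.2 hq)
  exact ⟨g, (mem_fixingSubgroup_iff _).1 g.2, e⟩
theorem dec {o : Finset GolayPt} (ho : o ∈ octads) {p : GolayPt} (hp : p ∉ o) {g : M24} (h : g • o = o) :
    ∃ n k : M24, (∀ x ∈ o, n • x = x) ∧ k • o = o ∧ k • p = p ∧ n * k = g := by
  obtain ⟨n, a, b⟩ := reg ho hp (q := g • p) (by rwa [← h, smul_mem_smul_finset_iff])
  exact ⟨n, n⁻¹ * g, a, by rw [mul_smul, h, inv_smul_eq_iff, st a], by rw [mul_smul, ← b, inv_smul_smul], by simp⟩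

/-- An octad stabiliser is a split extension: the joint stabiliser of the octad and a point outside it is a complement to the pointwise stabiliser of the octad, and is isomorphic to the alternating group of degree 8. -/
theorem result (o : Finset Cfsg.GolayPt) (ho : o ∈ Cfsg.octads) (p : Cfsg.GolayPt) (hp : p ∉ o) : (Cfsg.M24 ⊓ fixingSubgroup (Equiv.Perm Cfsg.GolayPt) (o : Set Cfsg.GolayPt)) ⊓ (Cfsg.M24 ⊓ MulAction.stabilizer (Equiv.Perm Cfsg.GolayPt) o ⊓ MulAction.stabilizer (Equiv.Perm Cfsg.GolayPt) p) = ⊥ ∧ (Cfsg.M24 ⊓ fixingSubgroup (Equiv.Perm Cfsg.GolayPt) (o : Set Cfsg.GolayPt)) ⊔ (Cfsg.M24 ⊓ MulAction.stabilizer (Equiv.Perm Cfsg.GolayPt) o ⊓ MulAction.stabilizer (Equiv.Perm Cfsg.GolayPt) p) = (Cfsg.M24 ⊓ MulAction.stabilizer (Equiv.Perm Cfsg.GolayPt) o) ∧ Nonempty (↥(Cfsg.M24 ⊓ MulAction.stabilizer (Equiv.Perm Cfsg.GolayPt) o ⊓ MulAction.stabilizer (Equiv.Perm Cfsg.GolayPt) p) ≃* alternatingGroup (Fin 8)) := by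
  refine ⟨eq_bot_iff.2 fun g hg => congrArg Subtype.val (semi ho hp (g := ⟨g, hg.1.1⟩)
    ((mem_fixingSubgroup_iff _).1 hg.1.2) hg.2.2), le_antisymm (sup_le (fun g hg => ⟨hg.1, st (g := ⟨g, hg.1⟩)
    ((mem_fixingSubgroup_iff _).1 hg.2)⟩) inf_le_left) fun g hg => ?_, ?_⟩
  · obtain ⟨n, k, a, b, c, e⟩ := dec ho hp (g := ⟨g, hg.1⟩) hg.2
    rw [show g = n.1 * k.1 from congrArg Subtype.val e.symm]
    exact Subgroup.mul_mem_sup ⟨n.2, (mem_fixingSubgroup_iff _).2 a⟩ ⟨⟨k.2, b⟩, c⟩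
  · let f := resHom (stabilizer M24 o ⊓ stabilizer M24 p) o fun _ h => h.1
    have i : Function.Injective f := (injective_iff_map_eq_one f).2 fun g e =>
      Subtype.ext (semi ho hp ((resHom_eq_one _ g).1 e) g.2.2)
    have r : f.range = alternatingGroup o := by
      rw [← S1553.ran ho]
      refine le_antisymm (fun _ ⟨g, e⟩ => ⟨⟨g.1, g.2.1⟩, e⟩) fun _ ⟨g, e⟩ => ?_
      obtain ⟨n, k, a, b, c, m⟩ := dec ho hp g.2
      refine ⟨⟨k, b, c⟩, e ▸ Equiv.ext fun x => Subtype.ext ?_⟩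
      change k • x.1 = g.1 • x.1
      rw [← m, mul_smul, a _ (b.subset (smul_mem_smul_finset x.2))]
    exact ⟨(Spor.toPerm (L := stabilizer M24 o ⊓ stabilizer M24 p) (K := M24 ⊓ stabilizer _ o ⊓ stabilizer _ p)
      fun g => ⟨fun h => ⟨h.1.1, h.1.2, h.2⟩, fun ⟨a, b, c⟩ => ⟨⟨a, b⟩, c⟩⟩).symm.trans ((MonoidHom.ofInjective i).trans ((MulEquiv.subgroupCongr r).trans
      (Finset.equivFinOfCardEq (mem_octads.1 ho).2).altCongrHom))⟩

end Cfsg.Agent.S1554
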