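import Cfsg.Statements.S1558
import Cfsg.Agent.Lib.Spor.Act

set_option autoImplicit false
open scoped Pointwise
open Cfsg

namespace Cfsg.Agent.S1558

set_option linter.unusedSectionVars false
set_option linter.unusedVariables false
set_option linter.style.haveILetI false
set_option linter.unusedSimpArgs false

open Cfsg.Agent.Spor Cfsg.Agent.PC MulAction Finset Matrix
def σ (i : ℕ) : ℕ := Nat.land (Nat.shiftRight (nat_lit 0xc41c24854470831415065) (Nat.mul (nat_lit 12) i)) (nat_lit 4095)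
def ι (i : ℕ) : ℕ := Nat.land (Nat.shiftRight (nat_lit 0x0) (Nat.mul (nat_lit 1) i)) (nat_lit 1)
def T0 (i : ℕ) : ℕ := Nat.land (Nat.shiftRight (nat_lit 0x163057718d0) (Nat.mul (nat_lit 3) i)) (nat_lit 7)
noncomputable def T (j c : ℕ) : ℕ := T0 (Nat.add (Nat.mul (nat_lit 7) j) c)
def ML : List (Matrix (Fin 3) (Fin 3) (ZMod 2) × Matrix (Fin 3) (Fin 3) (ZMod 2)) := [(!![1, 0, 1; 0, 0, 1; 0, 1, 0], !![1, 1, 0; 0, 0, 1; 0, 1, 0]), (!![1, 0, 1; 1, 1, 0; 0, 1, 0], !![0, 1, 1; 0, 0, 1; 1, 1, 1])]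
def VL : List (Fin 3 → ZMod 2) := [![1, 0, 0], ![0, 1, 0], ![0, 0, 1], ![1, 1, 0], ![1, 0, 1], ![0, 1, 1], ![1, 1, 1]]
def k0 (i : ℕ) : ℕ := Nat.land (Nat.shiftRight (nat_lit 0xb6369568a12070104d) (Nat.mul (nat_lit 3) i)) (nat_lit 7)
def k1 (i : ℕ) : ℕ := Nat.land (Nat.shiftRight (nat_lit 0xb1a36c30c6004c268d) (Nat.mul (nat_lit 3) i)) (nat_lit 7)
def k2 (i : ℕ) : ℕ := Nat.land (Nat.shiftRight (nat_lit 0xb1a52d31501821a64c) (Nat.mul (nat_lit 3) i)) (nat_lit 7)
def L : List (ℕ × ℕ) := [(1613974, 1613974), (2101096, 2101096), (13062145, 13062145)]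
theorem memL (g : M24) : (∀ t ∈ trio 2999, g • t = t) ↔ ∀ x ∈ L, g • bset x.1 = bset x.2 := by
  simp [trio0_eq, L]
theorem σlt : ∀ c < 7, σ c < 4096 := by decide +kernel
def P (g : M24) : Prop := (∀ x ∈ L, g • bset x.1 = bset x.2) ∧ ∀ c < 7, g • cos (σ c) = cos (σ c)
def pr := ((((prS_ok L).add (prT_ok (σ 0) k0 (by decide +kernel))).add (prT_ok (σ 1) k1 (by decide +kernel))).add
  (prT_ok (σ 2) k2 (by decide +kernel))).mono (Q := P) fun g h => ⟨⟨⟨h.1, h.2 0 (by norm_num)⟩, h.2 1 (by norm_num)⟩, h.2 2 (by norm_num)⟩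
def Q (c : ℕ) : Prop := (∀ x ∈ L, img c x.1 = x.2) ∧ ∀ i < 7, syn (img c (rep (σ i))) = σ i
noncomputable instance (c : ℕ) : Decidable (Q c) := by unfold Q; infer_instance
theorem PQ (g : M24) (c : ℕ) (a : Is g c) : P g ↔ Q c :=
  and_congr (a.S_iff (by decide)) (forall₂_congr fun i hi => a.cos_iff _ (σlt i hi))
theorem ex : ∃ φ : stabilizer M24 (trio 2999) →* GL (Fin 3) (ZMod 2) × Equiv.Perm (Fin 3), Function.Surjective φ ∧
    ∀ x, φ x = 1 → x * x = 1 := by
  obtain ⟨φ, -, -, k, -⟩ := hom_of_tables (gT_ok'.repsS.restrict (σ := σ) (n := 7) (T' := T) (by decide +kernel))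
    (h := glU ML (by decide +kernel)) (py := fun c => VL.getD c 0) (fun j hj c hc => by
      change _ ∧ (ML.getD j (1, 1)).1 *ᵥ _ = _
      revert c; revert j; decide +kernel) (fun i hi j hj e => (by decide +kernel : ∀ i < 7, ∀ j < 7, σ i = σ j → i = j) i hi j hj
        (cos_inj _ (σlt i hi) _ (σlt j hj) e)) (by unfold Inj; decide +kernel)
    (fun b _ h => gl_eq_one fun i => by
      fin_cases i
      · exact (by decide +kernel : Pi.single (0 : Fin 3) (1 : ZMod 2) = VL.getD 0 0) ▸ h 0 (by norm_num)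
      · exact (by decide +kernel : Pi.single (1 : Fin 3) (1 : ZMod 2) = VL.getD 1 0) ▸ h 1 (by norm_num)
      · exact (by decide +kernel : Pi.single (2 : Fin 3) (1 : ZMod 2) = VL.getD 2 0) ▸ h 2 (by norm_num))
  revert φ
  rw [gT_gen]
  intro φ k
  let ψ := φ.prod ((Finset.equivFinOfCardEq trio0_mem.1).permCongrHom.toMonoidHom.comp (resS (trio 2999)))
  have m : ∀ x, ψ x = 1 ↔ P x.1 := fun x => by
    rw [Prod.ext_iff, and_comm]
    exact and_congr ((Finset.equivFinOfCardEq trio0_mem.1).permCongrHom.map_eq_one_iff.trans ((resS_eq_one x).trans (memL _))) (k x)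
  refine ⟨ψ, surj_of_card ψ (a := 64) (b := 1008) ((Nat.card_congr ((Equiv.subtypeEquivRight m).trans
    (Equiv.subtypeSubtypeEquivSubtype (q := P) fun h => stab_of_fix ((memL _).2 h.1)))).trans
    (full1.card Q pr PQ (by decide +kernel))) (by rw [Nat.card_prod, card_GL32, Nat.card_perm]; simp [Nat.factorial])
    (card_stab_trio trio0_mem) (by norm_num) (by norm_num), fun x hx => ?_⟩
  obtain ⟨c, a⟩ := exists_is x.1
  exact Subtype.ext ((a.mul a).eq_one.2 (full1.all (fun c => Q c → Spor.cmp c c = idc) pr (by decide +kernel) a ((m x).1 hx)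
    ((PQ _ _ a).1 ((m x).1 hx))))
theorem aux {G : Type*} [Group G] (e : stabilizer M24 (trio 2999) ≃* G) : ∃ (N : Subgroup G) (_ : N.Normal), Nat.card N = 64 ∧
    (∀ x ∈ N, x * x = 1) ∧ Nonempty (G ⧸ N ≃* GL (Fin 3) (ZMod 2) × Equiv.Perm (Fin 3)) := by
  obtain ⟨φ, hφ, h⟩ := ex
  have s : Function.Surjective (φ.comp e.symm.toMonoidHom) := hφ.comp e.symm.surjective
  refine ⟨_, inferInstance, ?_, fun x hx => e.symm.injective (by rw [map_mul, map_one]; exact h _ hx),
    ⟨QuotientGroup.quotientKerEquivOfSurjective _ s⟩⟩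
  have := (φ.comp e.symm.toMonoidHom).ker.card_mul_index
  rw [Subgroup.index_ker, MonoidHom.range_eq_top.2 s, Subgroup.card_top, Nat.card_prod, card_GL32, Nat.card_perm,
    ← Nat.card_congr e.toEquiv, card_stab_trio trio0_mem] at this
  rw [show Nat.card (Fin 3) = 3 by simp, show Nat.factorial 3 = 6 from rfl] at this
  omega

/-- Structure of a trio stabiliser: every permutation of the three octads is induced, and there is a normal subgroup of order 64 of elements squaring to the identity whose quotient is isomorphic to the product of GL(3, 2) with the symmetric group of degree 3. -/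
theorem result (T : Finset (Finset Cfsg.GolayPt)) (hT : T ∈ Cfsg.trios) : (∀ e : Equiv.Perm ↥T, ∃ g ∈ MulAction.stabilizer Cfsg.M24 T, ∀ o : ↥T, (g : Equiv.Perm Cfsg.GolayPt) • (o : Finset Cfsg.GolayPt) = ((e o : ↥T) : Finset Cfsg.GolayPt)) ∧ ∃ (N : Subgroup ↥(MulAction.stabilizer Cfsg.M24 T)) (_ : N.Normal), Nat.card N = 64 ∧ (∀ x ∈ N, x * x = 1) ∧ Nonempty (↥(MulAction.stabilizer Cfsg.M24 T) ⧸ N ≃* GL (Fin 3) (ZMod 2) × Equiv.Perm (Fin 3)) := by
  refine ⟨fun e => ?_, ?_⟩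
  · obtain ⟨a, b, n⟩ := Fintype.exists_pair_of_one_lt_card (α := T) (by rw [Fintype.card_coe, hT.1]; norm_num)
    have n1 : a.1 ≠ b.1 := fun h => n (Subtype.ext h)
    have n2 : (e a).1 ≠ (e b).1 := fun h => n (e.injective (Subtype.ext h))
    obtain ⟨g, g1, g2, g3⟩ := trio_trans2 hT hT a.2 b.2 n1 (e a).2 (e b).2 n2
    refine ⟨g, g1, fun c => ?_⟩
    by_cases p : a = c
    · exact p ▸ g2
    by_cases q : b = c
    · exact q ▸ g3
    rw [trio_third hT a.2 b.2 c.2 n1 (fun h => p (Subtype.ext h)) fun h => q (Subtype.ext h), trio_third hT (e a).2 (e b).2 (e c).2 n2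
      (fun h => p (e.injective (Subtype.ext h))) fun h => q (e.injective (Subtype.ext h)), ← g2, ← g3, ← smul_finset_union]
    exact msmul_compl g _
  · obtain ⟨a, rfl⟩ := trio_trans trio0_mem hT
    exact aux (conjEquiv a fun b => conj_mem_stab a b _)

end Cfsg.Agent.S1558
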