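import Cfsg.Statements.S1560
import Cfsg.Agent.Lib.Spor.Key2

set_option autoImplicit false
open scoped Pointwise
open Cfsg

namespace Cfsg.Agent.S1560

open Cfsg.Agent.Spor Cfsg.Agent.PC MulAction

/-- Intersection numbers of dodecads: a dodecad meets every other dodecad in 0, 4, 6 or 8 points, meeting 495 of them in 4 points, 1584 in 6 points and 495 in 8 points. -/
theorem result (d : Finset Cfsg.GolayPt) (hd : d ∈ Cfsg.dodecads) : (∀ d' ∈ Cfsg.dodecads, d' ≠ d → (d ∩ d').card = 0 ∨ (d ∩ d').card = 4 ∨ (d ∩ d').card = 6 ∨ (d ∩ d').card = 8) ∧ {d' : Finset Cfsg.GolayPt | d' ∈ Cfsg.dodecads ∧ (d ∩ d').card = 4}.ncard = 495 ∧ {d' : Finset Cfsg.GolayPt | d' ∈ Cfsg.dodecads ∧ (d ∩ d').card = 6}.ncard = 1584 ∧ {d' : Finset Cfsg.GolayPt | d' ∈ Cfsg.dodecads ∧ (d ∩ d').card = 8}.ncard = 495 := by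
  obtain ⟨a, rfl⟩ := dod_trans (bset_dod (n := 340831) (by decide +kernel)) hd
  refine ⟨?_, ?_, ?_, ?_⟩
  · intro d' hd' hne
    have h1 := card_symmDiff (a • bset 340831) d'
    have h2 := card_of_mem_gC (symmDiff_mem_gC hd.1 hd'.1)
    have h3 : (symmDiff (a • bset 340831) d').card ≠ 0 := by
      rw [Ne, Finset.card_eq_zero, ← Finset.bot_eq_empty, symmDiff_eq_bot]; exact hne.symm
    rw [hd.2, hd'.2] at h1
    omega
  · rw [ncard_pre a]
    refine cntC 12 0 0 340831 0 4 0 (by norm_num) (by norm_num) (fun s => ?_) (by decide +kernel)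
    simp only [Set.mem_setOf_eq, smul_mem_octads, smul_mem_dodecads, ← Finset.smul_finset_inter, Finset.card_smul_finset, Finset.smul_mem_smul_finset_iff]
    simp only [mem_octads, mem_dodecads, J11, J10, J1, J0, inter_bset_zero, bset_zero_inter, and_assoc, true_and, and_true]
  · rw [ncard_pre a]
    refine cntC 12 0 0 340831 0 6 0 (by norm_num) (by norm_num) (fun s => ?_) (by decide +kernel)
    simp only [Set.mem_setOf_eq, smul_mem_octads, smul_mem_dodecads, ← Finset.smul_finset_inter, Finset.card_smul_finset, Finset.smul_mem_smul_finset_iff]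
    simp only [mem_octads, mem_dodecads, J11, J10, J1, J0, inter_bset_zero, bset_zero_inter, and_assoc, true_and, and_true]
  · rw [ncard_pre a]
    refine cntC 12 0 0 340831 0 8 0 (by norm_num) (by norm_num) (fun s => ?_) (by decide +kernel)
    simp only [Set.mem_setOf_eq, smul_mem_octads, smul_mem_dodecads, ← Finset.smul_finset_inter, Finset.card_smul_finset, Finset.smul_mem_smul_finset_iff]
    simp only [mem_octads, mem_dodecads, J11, J10, J1, J0, inter_bset_zero, bset_zero_inter, and_assoc, true_and, and_true]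

end Cfsg.Agent.S1560
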