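import Cfsg.Statements.S1562
import Cfsg.Agent.Lib.Spor.Small

set_option autoImplicit false
open scoped Pointwise
open Cfsg

namespace Cfsg.Agent.S1562

set_option linter.unusedSectionVars false
set_option linter.unusedVariables false
set_option linter.style.haveILetI false
set_option linter.unusedSimpArgs false

open Cfsg.Agent.Spor Cfsg.Agent.PC MulAction Finset
theorem key (m : ℕ) (hm : m < 2 ^ 24) (h : (bset m).card = 3) (d : Disjoint (bset 8392705) (bset m)) :
    InO (bset 8392705 ∪ bset m) ↔ mw (8392705 ||| m) = 2 := by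
  rw [← bset_or]
  exact InO_six (Nat.or_lt_two_pow (by norm_num) hm) (by rw [bset_or, card_union_of_disjoint d, h, card_bset]; decide +kernel)

/-- Orbits of a triad stabiliser on the triads disjoint from it: the 210 triads inside a common octad with it form one orbit and the remaining 1120 another. -/
theorem result (T : Finset Cfsg.GolayPt) (hT : T.card = 3) : {U : Finset Cfsg.GolayPt | U.card = 3 ∧ Disjoint T U ∧ (∃ o ∈ Cfsg.octads, T ∪ U ⊆ o)}.ncard = 210 ∧ {U : Finset Cfsg.GolayPt | U.card = 3 ∧ Disjoint T U ∧ ¬ (∃ o ∈ Cfsg.octads, T ∪ U ⊆ o)}.ncard = 1120 ∧ ∀ U U' : Finset Cfsg.GolayPt, U.card = 3 → U'.card = 3 → Disjoint T U → Disjoint T U' → ((∃ o ∈ Cfsg.octads, T ∪ U ⊆ o) ↔ (∃ o ∈ Cfsg.octads, T ∪ U' ⊆ o)) → ∃ g : Equiv.Perm Cfsg.GolayPt, g ∈ Cfsg.M24 ∧ g • T = T ∧ g • U = U' := by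
  refine ⟨?_, ?_, fun U U' h h' d d' e => ?_⟩
  rotate_left 2
  · obtain ⟨g, p, q⟩ := mapJ6 (J := T) ((card_union_le _ _).trans (by omega)) (h.trans h'.symm)
      (fun j hj => iff_of_false (disjoint_left.1 d hj) (disjoint_left.1 d' hj)) e
    exact ⟨g, g.2, (msmul_eq_of_agree (π := 1) p).trans (one_smul _ _), q⟩
  all_goals
    obtain ⟨a, rfl⟩ := mapSet (s := bset 8392705) (t := T) (by rw [hT, card_bset]; decide +kernel)
      (by rw [card_bset]; decide +kernel)
  · refine (ncard_transport a (S := {U | U.card = 3 ∧ Disjoint (bset 8392705) U ∧ InO (bset 8392705 ∪ U)}) fun U => ?_).trans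
      (ncard_small le_rfl (fun m => Nat.add (Nat.land 8392705 m) (Nat.xor (mw (Nat.lor 8392705 m)) 2)) (fun m hm h => ?_)
        (by decide +kernel))
    · exact and_congr (by rw [card_smul_finset]) (and_congr (disjoint_image (MulAction.injective a)) (by rw [← smul_finset_union]; exact InO_smul a))
    · rw [Nat.add_eq, Nat.add_eq_zero_iff, xor_zero_iff]
      exact (and_congr_right (key m hm h)).trans (and_congr_left' (bset_disjoint_iff (by norm_num)))
  · refine (ncard_transport a (S := {U | U.card = 3 ∧ Disjoint (bset 8392705) U ∧ ¬ InO (bset 8392705 ∪ U)}) fun U => ?_).trans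
      (ncard_small le_rfl (fun m => Nat.add (Nat.land 8392705 m) (eqI (mw (Nat.lor 8392705 m)) 2)) (fun m hm h => ?_)
        (by decide +kernel))
    · exact and_congr (by rw [card_smul_finset]) (and_congr (disjoint_image (MulAction.injective a)) (by
        rw [← smul_finset_union]; exact (InO_smul a).not))
    · rw [Nat.add_eq, Nat.add_eq_zero_iff, eqI_eq, ite_eq_right_iff]
      exact (and_congr_right fun d => (key m hm h d).not.trans (by simp)).trans (and_congr_left' (bset_disjoint_iff (by norm_num)))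

end Cfsg.Agent.S1562
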