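import Cfsg.Statements.S1565
import Cfsg.Agent.Lib.Spor.Key2
import Cfsg.Agent.S1556

set_option autoImplicit false
open scoped Pointwise
open Cfsg

namespace Cfsg.Agent.S1565

open Cfsg.Agent.Spor Cfsg.Agent.PC MulAction
open scoped Pointwise

/-- The stabiliser of an octad is a maximal proper subgroup of the group of the length-24 code. -/
theorem result (o : Finset Cfsg.GolayPt) (ho : o ∈ Cfsg.octads) : IsCoatom (MulAction.stabilizer Cfsg.M24 o) := by
  obtain ⟨a, rfl⟩ := oct_trans (bset_oct (n := 13062145) (by decide +kernel)) ho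
  refine isCoatom_conj a (fun b => conj_mem_stab a b _) ?_
  have h0 := bset_oct (n := 13062145) (by decide +kernel)
  have hc : ∀ i n, i < 32 → Nat.beq (cnt (clsC 8 0 0 13062145 0) (1 + i + 32 * 0) 4096) n = true →
      {y | y ∈ Cfsg.octads ∧ (bset 13062145 ∩ y).card = i}.ncard = n := fun i n hi hc =>
    cntC 8 0 0 13062145 0 i 0 (by norm_num) hi (fun s => by
      simp only [Set.mem_setOf_eq, mem_octads, inter_bset_zero, bset_zero_inter, and_assoc, true_and, and_true]) hc
  refine isCoatom_abs (fun y => (bset 13062145 ∩ y).card) {0, 2, 4, 8}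
    (fun i => if i = 0 then 30 else if i = 2 then 448 else if i = 4 then 280 else 1) (S := Cfsg.octads)
    (Set.toFinite _) ?_ ?_ ?_ ?_ (by decide) (by decide +kernel)
  · rw [← orbit_top]
    exact orbit_eq_of (fun a _ => (smul_mem_octads a).mpr h0) fun y hy => by
      obtain ⟨g, e⟩ := oct_trans h0 hy; exact ⟨g, trivial, e⟩
  · intro y hy
    rcases oct_inter h0 hy with h | h | h | h
    · simp [h]
    · simp [h]
    · simp [h]
    · simp [← h, h0.2]
  · intro y hy z hz h
    obtain ⟨g, hg, h1, h2⟩ := S1556.result _ y z h0 hy hz h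
    exact ⟨⟨g, hg⟩, h1, h2⟩
  · intro k hk
    simp only [Finset.mem_insert, Finset.mem_singleton] at hk
    rcases hk with rfl | rfl | rfl | rfl <;> exact hc _ _ (by norm_num) (by decide +kernel)

end Cfsg.Agent.S1565
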