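import Cfsg.Statements.S1573
import Cfsg.Agent.Lib.Leech.Pair

set_option autoImplicit false
open Cfsg

namespace Cfsg.Agent.S1573

set_option linter.unusedSectionVars false
set_option linter.unusedVariables false
set_option linter.style.haveILetI false
set_option linter.unusedSimpArgs false

open Cfsg.Agent.Leech in

/-- Census of minimal vectors by inner product with a fixed minimal vector: 4600 have customary inner product −2, 47104 have −1, and 93150 are orthogonal. -/
theorem result (v : Cfsg.GolayPt → ℤ) (hv : v ∈ Cfsg.leechLattice) (hvn : Cfsg.sqNorm v = 32) : {w : Cfsg.GolayPt → ℤ | w ∈ Cfsg.leechLattice ∧ Cfsg.sqNorm w = 32 ∧ Cfsg.dotInt v w = -16}.ncard = 4600 ∧ {w : Cfsg.GolayPt → ℤ | w ∈ Cfsg.leechLattice ∧ Cfsg.sqNorm w = 32 ∧ Cfsg.dotInt v w = -8}.ncard = 47104 ∧ {w : Cfsg.GolayPt → ℤ | w ∈ Cfsg.leechLattice ∧ Cfsg.sqNorm w = 32 ∧ Cfsg.dotInt v w = 0}.ncard = 93150 := by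
  obtain ⟨g, hg⟩ := to_X0 ⟨v, hv⟩ hvn
  have k : ∀ (d : ℤ) (N : ℕ), N < 48 * 5 → (N : ℤ) = 32 * (5 : ℕ) + 32 + (4 ^ 2 + 4 ^ 2 + 22 * 0 ^ 2) + 2 * d → 32 * 5 ≤ N →
      {w : GolayPt → ℤ | w ∈ leechLattice ∧ sqNorm w = 32 ∧ dotInt v w = d}.ncard =
      cnt2 4 4 0 (fun _ => True) (fun _ => True) (fun _ => True) 5 N := fun d N h1 h2 h3 => by
    refine Eq.trans ?_ ((ncard_smul g _).trans (count2 4 4 0 d _ _ _ 5 N h1 (by decide) h2 h3))
    rw [← ncard_L fun w => sqNorm w = 32 ∧ dotInt v w = d]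
    congr 1
    ext x
    simp only [Set.mem_setOf_eq, norm_smul, ← X0_eq, dot_of hg rfl, implies_true, and_true]
  exact ⟨(k _ 192 (by decide) (by decide) (by decide)).trans (by decide +kernel),
    (k _ 208 (by decide) (by decide) (by decide)).trans (by decide +kernel),
    (k _ 224 (by decide) (by decide) (by decide)).trans (by decide +kernel)⟩

end Cfsg.Agent.S1573
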