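import Cfsg.Statements.S1574
import Cfsg.Agent.Lib.Leech.Co1

set_option autoImplicit false
open Cfsg

namespace Cfsg.Agent.S1574

set_option linter.unusedSectionVars false
set_option linter.unusedVariables false
set_option linter.style.haveILetI false
set_option linter.unusedSimpArgs false

open Cfsg.Agent.Leech Cfsg.Agent.Spor Finset in

/-- The stabiliser of a minimal vector is transitive on the minimal vectors of customary inner product −2 with it. -/
theorem result (v w w' : ↥Cfsg.leechLattice) (hv : Cfsg.sqNorm (v : Cfsg.GolayPt → ℤ) = 32) (hw : Cfsg.sqNorm (w : Cfsg.GolayPt → ℤ) = 32) (hw' : Cfsg.sqNorm (w' : Cfsg.GolayPt → ℤ) = 32) (hd : Cfsg.dotInt (v : Cfsg.GolayPt → ℤ) (w : Cfsg.GolayPt → ℤ) = -16) (hd' : Cfsg.dotInt (v : Cfsg.GolayPt → ℤ) (w' : Cfsg.GolayPt → ℤ) = -16) : ∃ g : ↥Cfsg.Co0, g • v = v ∧ g • w = w' := by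
  have ex : ∀ w : L, sqNorm (w : V) = 32 → dotInt (X0 : V) w = -16 → ∃ y ∈ Sp, dotInt (w : V) y = 16 := fun w hw hd => by
    rw [dX0] at hd
    rcases shape32 w.2 hw with ⟨s, p, q⟩ | ⟨s, p, q⟩ | ⟨s, q⟩
    · have a := q.cases pa
      have b := q.cases pb
      by_cases e : w.1 pa = 0
      · exact ⟨Y0, Y0_P, by rw [dot_comm, dY0]; omega⟩
      · exact ⟨-Y0, ⟨(norm_neg' _).trans nY0, by rw [dX0]; rfl⟩, by rw [dot_comm, dot_neg_left, dY0]; omega⟩
    · obtain ⟨i, hi, j, hj, n⟩ := one_lt_card.1 (show 1 < (s \ {pa, pb}).card by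
        have := le_card_sdiff {pa, pb} s
        rw [(mem_octads.1 p).2, pair_card] at this; omega)
      simp only [mem_sdiff, mem_insert, mem_singleton, not_or] at hi hj
      have a := q.pos hi.1
      have b := q.pos hj.1
      refine ⟨S2 i j (2 * w.1 i) (2 * w.1 j) (by omega), ⟨nS2 n _, ?_⟩, ?_⟩
      · rw [dS2, X0_eq, v3_o _ _ _ hi.2.1 hi.2.2, v3_o _ _ _ hj.2.1 hj.2.2]; simp
      · rw [dS2]; rcases a with a | a <;> rcases b with b | b <;> rw [a, b] <;> rfl
    · let c : gC := ⟨bset 4845570, (bset_mem_gC (by decide)).2 (by decide +kernel)⟩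
      have c8 : c.1.card = 8 := by rw [card_bset]; decide +kernel
      have a := q.cases pa
      have b := q.cases pb
      simp only [mem_singleton] at a b
      have d : ∀ i ∈ c.1, w.1 i ^ 2 = 1 := fun i hi => by
        have : i ∉ ({s} : Finset GolayPt) := by
          rw [mem_singleton]; rintro rfl
          rcases a with a | a
          · exact absurd (a.1 ▸ hi) (by decide)
          rcases b with b | b
          · exact absurd (b.1 ▸ hi) (by decide)
          omega
        rcases q.neg this with e | e <;> rw [e] <;> rfl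
      have y : ∀ i, (w - sgn c • w : L).1 i = if i ∈ c.1 then 2 * w.1 i else 0 := fun i => by
        rw [AddSubgroup.coe_sub, Pi.sub_apply, sgn_apply]; split_ifs <;> ring
      refine ⟨w - sgn c • w, ⟨?_, ?_⟩, ?_⟩
      · rw [sqNorm, sum_congr rfl (g := fun i => if i ∈ c.1 then 4 else 0) fun i _ => by
          rw [y]; split_ifs with h <;> [rw [mul_pow, d i h]; skip] <;> rfl]
        rw [sum_ite_mem, univ_inter, sum_const, c8]; rfl
      · rw [dX0, y, y, if_neg (by decide), if_neg (by decide)]; rfl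
      · rw [dotInt, sum_congr rfl (g := fun i => if i ∈ c.1 then 2 else 0) fun i _ => by
          rw [y]; split_ifs with h <;> [linear_combination 2 * d i h; exact mul_zero _]]
        rw [sum_ite_mem, univ_inter, sum_const, c8]; rfl
  have k : ∀ w : L, sqNorm (w : V) = 32 → dotInt (v : V) w = -16 → ∃ g : Co0, g • v = X0 ∧
      (g • w : L).1 pa = 0 ∧ (g • w : L).1 pb = -4 ∧ ty (g • w : L) = 0 := fun w hw hd => by
    obtain ⟨g, h⟩ := to_X0 v hv
    obtain ⟨y, hy, e⟩ := ex (g • w) ((norm_smul _ _).trans hw) ((dot_of h rfl).trans hd)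
    obtain ⟨a, h1, h2⟩ := to_XY X0 y nX0 hy.1 hy.2
    have h3 : (a * g) • v = X0 := by rw [mul_smul, h, h1]
    have p := dot_of h3 (rfl : _ • w = _)
    have q := dot_of h2 (mul_smul a g w).symm
    rw [dX0] at p
    rw [dY0, dot_comm] at q
    have r := (ty_iff (x := (a * g) • w) ((norm_smul _ _).trans hw) _).1 rfl pb
    unfold PT at r
    exact ⟨_, h3, by omega, by omega, by omega⟩
  obtain ⟨g, g1, g2⟩ := k w hw hd
  obtain ⟨h, h1, h2⟩ := k w' hw' hd'
  obtain ⟨σ, c, p, q⟩ := conjJ ((norm_smul g _).trans hw) ((norm_smul h _).trans hw') (J := {pa, pb})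
    (by rw [pair_card]; decide) (by simp only [mem_insert, mem_singleton]; rintro j (rfl | rfl) <;> omega) (by omega)
  refine ⟨h⁻¹ * (mono σ c * g), two_of (z := X0) ?_ h1, two_of (by rw [mul_smul, q]) rfl⟩
  rw [mul_smul, g1, mono_fix0 (p _ (by simp)).1 (p _ (by simp)).1 (p _ (by simp)).2 (p _ (by simp)).2 X0_eq]

end Cfsg.Agent.S1574
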