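import Cfsg.Statements.S1578
import Cfsg.Agent.Lib.Leech.Pair

set_option autoImplicit false
open Cfsg

namespace Cfsg.Agent.S1578

set_option linter.unusedSectionVars false
set_option linter.unusedVariables false
set_option linter.style.haveILetI false
set_option linter.unusedSimpArgs false

open Cfsg.Agent.Leech in

/-- A lattice vector of customary norm 6 is the sum of an unordered pair of minimal vectors in exactly 276 ways (552 ordered summands). -/
theorem result (u : ↥Cfsg.leechLattice) (hu : Cfsg.sqNorm (u : Cfsg.GolayPt → ℤ) = 48) : {v : ↥Cfsg.leechLattice | Cfsg.sqNorm (v : Cfsg.GolayPt → ℤ) = 32 ∧ Cfsg.sqNorm ((u - v) : Cfsg.GolayPt → ℤ) = 32}.ncard = 552 := by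
  obtain ⟨g, hg⟩ := to_U0 u hu
  refine Eq.trans ?_ ((ncard_smul g _).trans ((count2 5 1 1 24 (fun _ => True) (fun _ => True) (fun _ => True) 9 416
    (by decide) (by decide) (by decide) (by decide)).trans (by decide +kernel)))
  congr 1
  ext x
  simp only [Set.mem_setOf_eq, norm_smul, ← U0_eq, dot_of hg rfl, sqNorm_sub, implies_true, and_true]
  omega

end Cfsg.Agent.S1578
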