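import Cfsg.Statements.S1579
import Cfsg.Agent.Lib.Leech.Pair

set_option autoImplicit false
open Cfsg

namespace Cfsg.Agent.S1579

set_option linter.unusedSectionVars false
set_option linter.unusedVariables false
set_option linter.style.haveILetI false
set_option linter.unusedSimpArgs false

/-- The stabiliser of a vector of customary norm 6 is transitive on the 552 minimal vectors that complete it to a sum of two minimal vectors. -/
theorem result (u v v' : ↥Cfsg.leechLattice) (hu : Cfsg.sqNorm (u : Cfsg.GolayPt → ℤ) = 48) (hv : Cfsg.sqNorm (v : Cfsg.GolayPt → ℤ) = 32 ∧ Cfsg.sqNorm ((u - v) : Cfsg.GolayPt → ℤ) = 32) (hv' : Cfsg.sqNorm (v' : Cfsg.GolayPt → ℤ) = 32 ∧ Cfsg.sqNorm ((u - v') : Cfsg.GolayPt → ℤ) = 32) : ∃ g : ↥Cfsg.Co0, g • u = u ∧ g • v = v' := by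
  have a := hv.2
  have b := hv'.2
  rw [Leech.sqNorm_sub] at a b
  obtain ⟨g, h1, h2⟩ := Leech.to_223 u v hu hv.1 (by have := hv.1; omega)
  obtain ⟨h, h3, h4⟩ := Leech.to_223 u v' hu hv'.1 (by have := hv'.1; omega)
  exact ⟨_, Leech.two_of h1 h3, Leech.two_of h2 h4⟩

end Cfsg.Agent.S1579
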