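import Cfsg.Statements.S1580
import Cfsg.Agent.Lib.Leech.Co3

set_option autoImplicit false
open Cfsg

namespace Cfsg.Agent.S1580

set_option linter.unusedSectionVars false
set_option linter.unusedVariables false
set_option linter.style.haveILetI false
set_option linter.unusedSimpArgs false

open Cfsg.Agent.Leech in

/-- The McLaughlin configuration: for u of customary norm 6 and v minimal with u − v minimal, there are 275 further such summands x of customary inner product 2 with v, permuted transitively by the stabiliser of u and v. -/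
theorem result (u v : ↥Cfsg.leechLattice) (hu : Cfsg.sqNorm (u : Cfsg.GolayPt → ℤ) = 48) (hv : Cfsg.sqNorm (v : Cfsg.GolayPt → ℤ) = 32 ∧ Cfsg.sqNorm ((u - v) : Cfsg.GolayPt → ℤ) = 32) : {x : ↥Cfsg.leechLattice | Cfsg.sqNorm (x : Cfsg.GolayPt → ℤ) = 32 ∧ Cfsg.sqNorm ((u - x) : Cfsg.GolayPt → ℤ) = 32 ∧ Cfsg.dotInt (v : Cfsg.GolayPt → ℤ) (x : Cfsg.GolayPt → ℤ) = 16}.ncard = 275 ∧ ∀ x ∈ {x : ↥Cfsg.leechLattice | Cfsg.sqNorm (x : Cfsg.GolayPt → ℤ) = 32 ∧ Cfsg.sqNorm ((u - x) : Cfsg.GolayPt → ℤ) = 32 ∧ Cfsg.dotInt (v : Cfsg.GolayPt → ℤ) (x : Cfsg.GolayPt → ℤ) = 16}, ∀ x' ∈ {x : ↥Cfsg.leechLattice | Cfsg.sqNorm (x : Cfsg.GolayPt → ℤ) = 32 ∧ Cfsg.sqNorm ((u - x) : Cfsg.GolayPt → ℤ) = 32 ∧ Cfsg.dotInt (v : Cfsg.GolayPt → ℤ) (x : Cfsg.GolayPt → ℤ) = 16}, ∃ g : ↥Cfsg.Co0, g • u = u ∧ g • v = v ∧ g • x = x' := by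
  have d : ∀ x : L, sqNorm (x : V) = 32 → (sqNorm ((u - x) : V) = 32 ↔ dotInt (u : V) x = 24) := fun x h => by
    rw [sqNorm_sub]; omega
  have hd := (d v hv.1).1 hv.2
  rw [show {x : L | sqNorm (x : V) = 32 ∧ sqNorm ((u - x) : V) = 32 ∧ dotInt (v : V) (x : V) = 16} = X275 u v from
    Set.ext fun x => and_congr_right fun h => and_congr_left' (d x h)]
  refine ⟨card275 hu hv.1 hd, fun x hx y hy => ?_⟩
  obtain ⟨g, g1, g2, g3⟩ := to275 hu hv.1 hd hx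
  obtain ⟨k, k1, k2, k3⟩ := to275 hu hv.1 hd hy
  exact ⟨k⁻¹ * g, two_of g1 k1, two_of g2 k2, two_of g3 k3⟩

end Cfsg.Agent.S1580
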