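import Cfsg.Statements.S1581
import Cfsg.Agent.Lib.Leech.Co3

set_option autoImplicit false
open Cfsg

namespace Cfsg.Agent.S1581

set_option linter.unusedSectionVars false
set_option linter.unusedVariables false
set_option linter.style.haveILetI false
set_option linter.unusedSimpArgs false

open Cfsg.Agent.Leech in

/-- The McLaughlin group acts with rank 3 and subdegrees 1, 112, 162 on its 275 points: the point stabiliser has two orbits on the remaining points, distinguished by customary inner product 1 or 2 with the fixed point. -/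
theorem result (u v x : ↥Cfsg.leechLattice) (hu : Cfsg.sqNorm (u : Cfsg.GolayPt → ℤ) = 48) (hv : Cfsg.sqNorm (v : Cfsg.GolayPt → ℤ) = 32 ∧ Cfsg.sqNorm ((u - v) : Cfsg.GolayPt → ℤ) = 32) (hx : x ∈ {x : ↥Cfsg.leechLattice | Cfsg.sqNorm (x : Cfsg.GolayPt → ℤ) = 32 ∧ Cfsg.sqNorm ((u - x) : Cfsg.GolayPt → ℤ) = 32 ∧ Cfsg.dotInt (v : Cfsg.GolayPt → ℤ) (x : Cfsg.GolayPt → ℤ) = 16}) : {y : ↥Cfsg.leechLattice | y ∈ {x : ↥Cfsg.leechLattice | Cfsg.sqNorm (x : Cfsg.GolayPt → ℤ) = 32 ∧ Cfsg.sqNorm ((u - x) : Cfsg.GolayPt → ℤ) = 32 ∧ Cfsg.dotInt (v : Cfsg.GolayPt → ℤ) (x : Cfsg.GolayPt → ℤ) = 16} ∧ Cfsg.dotInt (x : Cfsg.GolayPt → ℤ) (y : Cfsg.GolayPt → ℤ) = 8}.ncard = 112 ∧ {y : ↥Cfsg.leechLattice | y ∈ {x : ↥Cfsg.leechLattice | Cfsg.sqNorm (x : Cfsg.GolayPt → ℤ) = 32 ∧ Cfsg.sqNorm ((u - x) : Cfsg.GolayPt → ℤ) = 32 ∧ Cfsg.dotInt (v : Cfsg.GolayPt → ℤ) (x : Cfsg.GolayPt → ℤ) = 16}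 ∧ y ≠ x ∧ Cfsg.dotInt (x : Cfsg.GolayPt → ℤ) (y : Cfsg.GolayPt → ℤ) = 16}.ncard = 162 ∧ ∀ y ∈ {x : ↥Cfsg.leechLattice | Cfsg.sqNorm (x : Cfsg.GolayPt → ℤ) = 32 ∧ Cfsg.sqNorm ((u - x) : Cfsg.GolayPt → ℤ) = 32 ∧ Cfsg.dotInt (v : Cfsg.GolayPt → ℤ) (x : Cfsg.GolayPt → ℤ) = 16}, ∀ y' ∈ {x : ↥Cfsg.leechLattice | Cfsg.sqNorm (x : Cfsg.GolayPt → ℤ) = 32 ∧ Cfsg.sqNorm ((u - x) : Cfsg.GolayPt → ℤ) = 32 ∧ Cfsg.dotInt (v : Cfsg.GolayPt → ℤ) (x : Cfsg.GolayPt → ℤ) = 16}, y ≠ x → y' ≠ x → Cfsg.dotInt (x : Cfsg.GolayPt → ℤ) (y : Cfsg.GolayPt → ℤ) = Cfsg.dotInt (x : Cfsg.GolayPt → ℤ) (y' : Cfsg.GolayPt → ℤ) → ∃ g : ↥Cfsg.Co0, g • u = u ∧ g • v = v ∧ g • x = x ∧ g • y = y' := by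
  have d : ∀ x : L, sqNorm (x : V) = 32 → (sqNorm ((u - x) : V) = 32 ↔ dotInt (u : V) x = 24) := fun x h => by
    rw [sqNorm_sub]; omega
  have hd := (d v hv.1).1 hv.2
  rw [show {x : L | sqNorm (x : V) = 32 ∧ sqNorm ((u - x) : V) = 32 ∧ dotInt (v : V) (x : V) = 16} = X275 u v from
    Set.ext fun x => and_congr_right fun h => and_congr_left' (d x h)] at hx ⊢
  have n : ∀ y : L, dotInt (x : V) y = 16 → y ≠ x := by rintro y h rfl; rw [dot_self, hx.1] at h; omega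
  have a := card162 hu hv.1 hd hx
  refine ⟨?_, ?_, fun y hy z hz n _ h => conj275 hu hv.1 hd hx hy hz n h⟩
  · have f : (X275 u v).Finite := finL32.subset fun x hx => hx.1
    have b := card275 hu hv.1 hd
    rw [show X275 u v = insert x ({y | y ∈ X275 u v ∧ dotInt (x : V) y = 8} ∪ {y | y ∈ X275 u v ∧ dotInt (x : V) y = 16}) from
      Set.ext fun y => ⟨fun h => or_iff_not_imp_left.2 fun n => (d275 hu hd hx h n).imp (⟨h, ·⟩) (⟨h, ·⟩), by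
        rintro (rfl | h | h); exacts [hx, h.1, h.1]⟩,
      Set.ncard_insert_of_notMem (by rintro (h | h) <;> have := h.2 <;> rw [dot_self, hx.1] at this <;> omega)
        (f.subset (by rintro y (h | h) <;> exact h.1)),
      Set.ncard_union_eq (Set.disjoint_left.2 fun y h h' => by have := h.2; have := h'.2; omega)
        (f.subset fun y h => h.1) (f.subset fun y h => h.1), a] at b
    exact Nat.add_right_cancel (Nat.add_right_cancel b)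
  · rw [← a]; congr 1; ext y
    exact and_congr_right fun _ => ⟨fun h => h.2, fun h => ⟨n y h, h⟩⟩

end Cfsg.Agent.S1581
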