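import Cfsg.Statements.S1583
import Cfsg.Agent.Lib.Leech.Pair

set_option autoImplicit false
open Cfsg

namespace Cfsg.Agent.S1583

set_option linter.unusedSectionVars false
set_option linter.unusedVariables false
set_option linter.style.haveILetI false
set_option linter.unusedSimpArgs false

open Cfsg.Agent.Leech in

/-- The Higman–Sims configuration: for two vectors of customary norm 6 with inner product −4, exactly 100 minimal vectors have customary inner products 3 and −3 with them, and the joint stabiliser permutes these transitively. -/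
theorem result (v w : ↥Cfsg.leechLattice) (hv : Cfsg.sqNorm (v : Cfsg.GolayPt → ℤ) = 48) (hw : Cfsg.sqNorm (w : Cfsg.GolayPt → ℤ) = 48) (hvw : Cfsg.dotInt (v : Cfsg.GolayPt → ℤ) (w : Cfsg.GolayPt → ℤ) = -32) : {x : ↥Cfsg.leechLattice | Cfsg.sqNorm (x : Cfsg.GolayPt → ℤ) = 32 ∧ Cfsg.dotInt (v : Cfsg.GolayPt → ℤ) (x : Cfsg.GolayPt → ℤ) = 24 ∧ Cfsg.dotInt (w : Cfsg.GolayPt → ℤ) (x : Cfsg.GolayPt → ℤ) = -24}.ncard = 100 ∧ ∀ x ∈ {x : ↥Cfsg.leechLattice | Cfsg.sqNorm (x : Cfsg.GolayPt → ℤ) = 32 ∧ Cfsg.dotInt (v : Cfsg.GolayPt → ℤ) (x : Cfsg.GolayPt → ℤ) = 24 ∧ Cfsg.dotInt (w : Cfsg.GolayPt → ℤ) (x : Cfsg.GolayPt → ℤ) = -24}, ∀ x' ∈ {x : ↥Cfsg.leechLattice | Cfsg.sqNorm (x : Cfsg.GolayPt → ℤ) = 32 ∧ Cfsg.dotInt (v : Cfsg.GolayPt → ℤ) (x : Cfsg.GolayPt → ℤ) = 24 ∧ Cfsg.dotInt (w : Cfsg.GolayPt → ℤ) (x : Cfsg.GolayPt → ℤ) = -24}, ∃ g : ↥Cfsg.Co0, g • v = v ∧ g • w = w ∧ g • x = x' := by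
  have hw' : sqNorm ((-w : L) : V) = 48 := by rw [AddSubgroup.coe_neg, sqNorm_neg, hw]
  have d : ∀ x : V, dotInt ((-w : L) : V) x = -dotInt (w : V) x := fun x => by
    rw [dot_comm, AddSubgroup.coe_neg, dot_neg, dot_comm]
  have hd : dotInt (v : V) (-w : L) = 32 := by rw [dot_comm, d, dot_comm, hvw]; rfl
  constructor
  · obtain ⟨g, e1, e2⟩ := to_233 v (-w) hv hw' hd
    refine Eq.trans ?_ ((ncard_smul g _).trans ((count2 6 6 2 48 (fun _ => True) (fun _ => True) (fun _ => True) 19 896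
      (by decide) (by decide) (by decide) (by decide)).trans (by decide +kernel)))
    congr 1
    ext x
    have e : v3 6 6 2 = (U0 : V) + U1 := by rw [U0_eq, U1_eq, v3_add]; rfl
    simp only [Set.mem_setOf_eq, norm_smul, e, implies_true, and_true]
    refine and_congr_right fun hx => ?_
    rw [dot_comm (_ + _), dot_add, dot_comm _ U0.1, dot_comm _ U1.1, dot_of e1 rfl, dot_of e2 rfl, d]
    have a := min_norm (v - x).2 fun e => by rw [show v = x from sub_eq_zero.1 (Subtype.ext e)] at hv; omega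
    have b := min_norm (-w - x).2 fun e => by rw [show -w = x from sub_eq_zero.1 (Subtype.ext e)] at hw'; omega
    rw [AddSubgroup.coe_sub, sqNorm_sub] at a b
    rw [d] at b
    omega
  · rintro x ⟨h1, h2, h3⟩ y ⟨h4, h5, h6⟩
    obtain ⟨g, e1, e2, e3⟩ := to_233x v (-w) x hv hw' h1 hd h2 (by rw [d, h3]; rfl)
    obtain ⟨h, e4, e5, e6⟩ := to_233x v (-w) y hv hw' h4 hd h5 (by rw [d, h6]; rfl)
    exact ⟨_, two_of e1 e4, neg_injective ((smul_neg _ _).symm.trans (two_of e2 e5)), two_of e3 e6⟩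

end Cfsg.Agent.S1583
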