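import Cfsg.Statements.S1585
import Cfsg.Agent.Lib.Leech.Pair

set_option autoImplicit false
open Cfsg

namespace Cfsg.Agent.S1585

set_option linter.unusedSectionVars false
set_option linter.unusedVariables false
set_option linter.style.haveILetI false
set_option linter.unusedSimpArgs false

/-- Two vectors of customary norm 6 with inner product −4 are exchanged by some automorphism of the lattice. -/
theorem result (v w : ↥Cfsg.leechLattice) (hv : Cfsg.sqNorm (v : Cfsg.GolayPt → ℤ) = 48) (hw : Cfsg.sqNorm (w : Cfsg.GolayPt → ℤ) = 48) (hvw : Cfsg.dotInt (v : Cfsg.GolayPt → ℤ) (w : Cfsg.GolayPt → ℤ) = -32) : ∃ g : ↥Cfsg.Co0, g • v = w ∧ g • w = v := by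
  obtain ⟨g, h1, h2⟩ := Leech.to_233 v (-w) hv (by rw [AddSubgroup.coe_neg, Leech.sqNorm_neg, hw])
    (by rw [AddSubgroup.coe_neg, Leech.dot_neg, hvw]; rfl)
  obtain ⟨h, h3, h4⟩ := Leech.to_233 (-w) v (by rw [AddSubgroup.coe_neg, Leech.sqNorm_neg, hw]) hv
    (by rw [Leech.dot_comm, AddSubgroup.coe_neg, Leech.dot_neg, hvw]; rfl)
  have a := Leech.two_of h1 h3
  have b := Leech.two_of h2 h4
  refine ⟨Leech.neg1 * (h⁻¹ * g), by rw [mul_smul, a, Leech.neg1_smul, neg_neg], ?_⟩
  rw [mul_smul, Leech.neg1_smul, ← smul_neg, b]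

end Cfsg.Agent.S1585
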