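import Cfsg.Statements.S1587
import Cfsg.Agent.Lib.Leech.Uniq2

set_option autoImplicit false
open Matrix
open Cfsg

namespace Cfsg.Agent.S1587

set_option linter.unusedSectionVars false
set_option linter.unusedVariables false
set_option linter.style.haveILetI false
set_option linter.unusedSimpArgs false

/-- First step of the characterisation of the rank-24 lattice: in an even lattice without roots, norm-8 vectors congruent modulo 2 are equal, opposite or orthogonal. -/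
theorem result (B : Matrix (Fin 24) (Fin 24) ℤ) (hsymm : B.IsSymm) (hpos : ∀ x : Fin 24 → ℤ, x ≠ 0 → 0 < x ⬝ᵥ (B *ᵥ x)) (heven : ∀ x : Fin 24 → ℤ, (2 : ℤ) ∣ x ⬝ᵥ (B *ᵥ x)) (h2 : ∀ x : Fin 24 → ℤ, x ⬝ᵥ (B *ᵥ x) ≠ 2) (x y : Fin 24 → ℤ) (hx : x ⬝ᵥ (B *ᵥ x) = 8) (hy : y ⬝ᵥ (B *ᵥ y) = 8) (hc : ∀ i, (2 : ℤ) ∣ (x - y) i) : y = x ∨ y = -x ∨ x ⬝ᵥ (B *ᵥ y) = 0 := by
  have h : Leech.EL B := ⟨hsymm, heven, fun x hx => by
    have a := hpos x hx
    have b := heven x
    have c := h2 x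
    unfold Leech.bf
    omega⟩
  rcases h.short (x := x) (y := y) hx.le hy.le (funext fun i =>
    (ZMod.intCast_eq_intCast_iff_dvd_sub _ _ 2).2 (by have := hc i; rw [Pi.sub_apply] at this; omega)) with e | e | e
  · exact Or.inl e.symm
  · exact Or.inr (Or.inl (by rw [e, neg_neg]))
  · exact Or.inr (Or.inr e.2.2)

end Cfsg.Agent.S1587
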