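import Cfsg.Statements.S1588
import Cfsg.Agent.Lib.Leech.Uniq2
import Cfsg.Agent.Lib.Leech.Trans

set_option autoImplicit false
open Matrix
open Cfsg

namespace Cfsg.Agent.S1588

set_option linter.unusedSectionVars false
set_option linter.unusedVariables false
set_option linter.style.haveILetI false
set_option linter.unusedSimpArgs false

/-- Second step of the characterisation: under the vector counts of the rank-24 lattice, the norm-8 vectors fall into congruence classes of exactly 48 modulo twice the lattice. -/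
theorem result (B : Matrix (Fin 24) (Fin 24) ℤ) (hsymm : B.IsSymm) (hpos : ∀ x : Fin 24 → ℤ, x ≠ 0 → 0 < x ⬝ᵥ (B *ᵥ x)) (heven : ∀ x : Fin 24 → ℤ, (2 : ℤ) ∣ x ⬝ᵥ (B *ᵥ x)) (h2 : ∀ x : Fin 24 → ℤ, x ⬝ᵥ (B *ᵥ x) ≠ 2) (h4 : {x : Fin 24 → ℤ | x ⬝ᵥ (B *ᵥ x) = 4}.ncard = 196560) (h6 : {x : Fin 24 → ℤ | x ⬝ᵥ (B *ᵥ x) = 6}.ncard = 16773120) (h8 : {x : Fin 24 → ℤ | x ⬝ᵥ (B *ᵥ x) = 8}.ncard = 398034000) (x : Fin 24 → ℤ) (hx : x ⬝ᵥ (B *ᵥ x) = 8) : {y : Fin 24 → ℤ | y ⬝ᵥ (B *ᵥ y) = 8 ∧ ∀ i, (2 : ℤ) ∣ (x - y) i}.ncard = 48 := by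
  have h : Leech.EL B := ⟨hsymm, heven, fun x hx => by
    have a := hpos x hx
    have b := heven x
    have c := h2 x
    unfold Leech.bf
    omega⟩
  obtain ⟨f, hf⟩ := h.iso h4 h6 h8
  have n : sqNorm (f x : GolayPt → ℤ) = 64 := by rw [hf]; unfold Leech.bf; omega
  rw [← Leech.cross_card (f x).2 n, ← Set.ncard_image_of_injective _ (Subtype.val_injective.comp f.injective)]
  congr 1
  ext y
  constructor
  · rintro ⟨y, ⟨h1, h2⟩, rfl⟩
    refine ⟨(f y).2, by rw [n]; exact (hf y).trans (by unfold Leech.bf; omega), _, (f fun i => (x - y) i / 2).2, ?_⟩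
    have : x - y = 2 • fun i => (x - y) i / 2 := funext fun i => by
      have := h2 i
      simp only [Pi.smul_apply, nsmul_eq_mul]; omega
    rw [← AddSubgroup.coe_nsmul, ← map_nsmul, ← this, map_sub]; rfl
  · rintro ⟨h1, h2, z, hz, e⟩
    obtain ⟨y', hy⟩ := f.surjective ⟨y, h1⟩
    obtain ⟨z', hz'⟩ := f.surjective ⟨z, hz⟩
    obtain rfl : (f y' : GolayPt → ℤ) = y := congrArg Subtype.val hy
    refine ⟨y', ⟨?_, fun i => ?_⟩, rfl⟩
    · rw [hf, n] at h2; unfold Leech.bf at h2; omega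
    · have : x - y' = 2 • z' := f.injective (Subtype.ext (by rw [map_sub, map_nsmul, hz']; exact e))
      rw [this]; simp

end Cfsg.Agent.S1588
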