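import Cfsg.Statements.S1589
import Mathlib
import Cfsg.Agent.Lib.Perm.M24S

set_option autoImplicit false
open scoped Pointwise
open Cfsg

namespace Cfsg.Agent.S1589

open Cfsg.Agent.Spor Cfsg.Agent.PC Cfsg.Agent.Steiner Cfsg.Agent.S1609 Cfsg.Agent.Perm.M24S MulAction Finset

theorem cd {H : Subgroup M24} {i n : ℕ} (h : H.index = i) (e : i * n = 244823040) : Nat.card H = n := by
  have := H.index_mul_card
  rw [h, card_M24, ← e] at this
  exact Nat.eq_of_mul_eq_mul_left (Nat.pos_of_ne_zero (by rintro rfl; simp at e)) this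

theorem intr {H : Subgroup M24} {n : ℕ} (c : Nat.card H = n) (h : 60480 < n ∧ ∀ o ≤ 12, 0 < o → o ∣ n → n / o ∣ 10200960 → 8 ∣ o)
    {D : Finset GolayPt} (i : Iv H D) (h0 : 0 < D.card) (h1 : D.card ≤ 12) : ∃ o ∈ octads, H ≤ stabilizer M24 o := by
  have : 8 ∣ D.card := dvo D i fun a _ o ho e => by
    rw [c] at e
    have p : 0 < o := Nat.pos_of_ne_zero fun z => by rw [z] at e; omega
    refine h.2 o (by omega) p (Dvd.intro _ e.symm) ?_
    rw [e, Nat.mul_div_cancel_left _ p]
    exact dvF (sx a) 1 (by simp) (by decide)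
  have e : D.card = 8 := by omega
  obtain ⟨o, ho, so⟩ | ⟨k, k1, -, k2⟩ := b6 (S := ∅) (fun g _ => mem_fx.2 (by simp)) i (by simp) 5 (by omega) rfl
  · rw [empty_union] at so
    exact ⟨o, ho, eq_of_subset_of_card_le so (by rw [ho.2, e]) ▸ st_iv i⟩
  · have := k2.trans (Nat.mul_le_mul_left _ (Nat.le_of_dvd (by decide) k1))
    rw [c, e, show Nat.descFactorial 8 (5 + 1) * 3 = 60480 from rfl] at this
    omega

theorem big {H : Subgroup M24} (t : ∀ x y : GolayPt, ∃ g ∈ H, g • x = y) {c : ℕ}
    (hc : ∀ u : GolayPt, Nat.card ↥(H ⊓ stabilizer M24 u) = c) (h : c = 13440 ∨ c = 40320) : False := by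
  obtain ⟨D, d1, d2, d3, d4⟩ | ⟨o, ho, i⟩ := split (sx (H := H) none) (by rw [hc]; omega) (by rw [hc]; omega)
  · obtain e | e | e : D.card = 1 ∨ D.card = 2 ∨ D.card = 3 := by omega
    · exact no1 t hc d1 d2 e 7 (by rcases h with rfl | rfl <;> decide)
    · exact no2 t hc d1 d2 e (by omega)
    · have := bd (sx none) d2 (disjoint_singleton_left.2 d1) 3 e.ge (by simp)
      rw [hc, e, card_singleton, show Nat.descFactorial 3 3 * (244823040 / Nat.descFactorial 24 (1 + 3)) = 5760 from rfl] at this
      omega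
  · by_cases m : none ∈ o
    · exact no7 t hc ho m i (by rcases h with rfl | rfl <;> decide)
    · have := no8 hc ho m i
      rcases h with rfl | rfl <;> exact absurd this (by decide)

/-- Subgroups of the group of the length-24 code of index 759, 276 and 1771 are exactly the octad, duad and sextet stabilisers, and no subgroup has index 253. -/
theorem result : (∀ H : Subgroup ↥Cfsg.M24, H.index = 759 → ∃ o ∈ Cfsg.octads, H = MulAction.stabilizer Cfsg.M24 o) ∧ (∀ H : Subgroup ↥Cfsg.M24, H.index = 276 → ∃ s : Finset Cfsg.GolayPt, s.card = 2 ∧ H = MulAction.stabilizer Cfsg.M24 s) ∧ (∀ H : Subgroup ↥Cfsg.M24, H.index = 1771 → ∃ S ∈ Cfsg.sextets, H = MulAction.stabilizer Cfsg.M24 S) ∧ ∀ H : Subgroup ↥Cfsg.M24, H.index ≠ 253 := by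
  haveI := fin24
  refine ⟨fun H h => ?_, fun H h => ?_, fun H h => ?_, fun H h => ?_⟩
  · have c : Nat.card H = 322560 := cd h rfl
    obtain ⟨D, d1, d2, d3⟩ | ⟨t, hc⟩ := tr_or H
    · obtain ⟨o, ho, l⟩ := intr c (by decide) d1 d2 d3
      exact ⟨o, ho, Subgroup.eq_of_le_of_card_ge l (by rw [card_stab_oct ho, c])⟩
    · exact (big t (c := 13440) (fun u => by have := hc u; omega) (.inl rfl)).elim
  · have c : Nat.card H = 887040 := cd h rfl
    obtain ⟨D, d1, d2, d3⟩ | ⟨t, hc⟩ := tr_or H
    · have f : ∀ K : Subgroup M24, K ≤ fx ∅ := fun K g _ => mem_fx.2 (by simp)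
      have a := rm 11 2 (by decide) (by rw [c]; decide) (by decide) (f H) d1 (by simp)
      have b := rm 7 3 (by decide) (by rw [c]; decide) (by decide) (f H) d1 (by simp)
      rw [card_empty] at a b
      obtain e | e : D.card = 1 ∨ D.card = 2 := by omega
      · obtain ⟨y, rfl⟩ := card_eq_one.1 e
        have := dvF (S := {y}) (K := H) (fun g hg => mem_fx.2 (by simpa using d1 g hg y (mem_singleton_self y))) 1 (by simp) (by decide)
        exact absurd (c ▸ this) (by decide)
      · refine ⟨D, e, Subgroup.eq_of_le_of_card_ge (st_iv d1) ?_⟩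
        have := bd (f (stabilizer M24 D)) (D := D) (fun g hg y hy => by
          rw [← show g • D = D from hg]; exact smul_mem_smul_finset hy) (by simp) 2 e.ge (by simp)
        rwa [e, card_empty, show Nat.descFactorial 2 2 * (244823040 / Nat.descFactorial 24 (0 + 2)) = 887040 from rfl, ← c] at this
    · have hc' : ∀ u : GolayPt, Nat.card ↥(H ⊓ stabilizer M24 u) = 36960 := fun u => by have := hc u; omega
      obtain ⟨D, d0, d1, d2, d3⟩ := half1 (sx (H := H) none) (by rw [hc']; decide)
      have a := rm 11 2 (by decide) (by rw [hc']; decide) (by decide) (sx none) d1 (disjoint_singleton_left.2 d0)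
      have b := rm 7 3 (by decide) (by rw [hc']; decide) (by decide) (sx none) d1 (disjoint_singleton_left.2 d0)
      rw [card_singleton] at a b
      exact (no1 t hc' d0 d1 (by omega) 7 (by decide)).elim
  · have c : Nat.card H = 138240 := cd h rfl
    obtain ⟨D, d1, d2, d3⟩ | ⟨t, hc⟩ := tr_or H
    · obtain ⟨o, ho, l⟩ := intr c (by decide) d1 d2 d3
      have := Subgroup.card_dvd_of_le l
      rw [card_stab_oct ho, c] at this
      exact absurd this (by decide)
    have hc' : ∀ u : GolayPt, Nat.card ↥(H ⊓ stabilizer M24 u) = 5760 := fun u => by have := hc u; omega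
    obtain ⟨D, d1, d2, d3, d4⟩ : ∃ D, none ∉ D ∧ Iv (H ⊓ stabilizer M24 none) D ∧ 0 < D.card ∧ D.card ≤ 3 := by
      obtain h | ⟨o, ho, i⟩ := split (sx (H := H) none) (by rw [hc']; decide) (by rw [hc']; decide)
      · exact h
      by_cases m : none ∈ o
      · have e : (o \ {none}).card = 7 := by rw [card_sdiff_of_subset (singleton_subset_iff.2 m), ho.2, card_singleton]
        obtain ⟨D, d1, d2, d3, d4⟩ := half (i.sd (iv_fx (sx none))) (by rw [e, hc']; decide) (by omega)
        exact ⟨D, fun h => by simpa using d1 h, d2, d3, by omega⟩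
      · exact absurd (no8 hc' ho m i) (by decide)
    obtain e | e | e : D.card = 1 ∨ D.card = 2 ∨ D.card = 3 := by omega
    · exact (no1 t hc' d1 d2 e 3 (by decide)).elim
    · exact (no2 t hc' d1 d2 e (by decide)).elim
    · have s := sext_mem (t := insert none D) (by rw [card_insert_of_notMem d1, e])
      exact ⟨_, s, Subgroup.eq_of_le_of_card_ge (sx3 t hc' d1 d2 e rfl) (by rw [card_stab_sext s, c])⟩
  · have c : Nat.card H = 967680 := cd h rfl
    obtain ⟨D, d1, d2, d3⟩ | ⟨t, hc⟩ := tr_or H
    · obtain ⟨o, ho, l⟩ := intr c (by decide) d1 d2 d3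
      have := Subgroup.card_le_of_le l
      rw [card_stab_oct ho, c] at this
      omega
    · exact big t (c := 40320) (fun u => by have := hc u; omega) (.inr rfl)

end Cfsg.Agent.S1589
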