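import Cfsg.Statements.S1591
import Cfsg.Agent.Lib.Steiner.Tern

set_option autoImplicit false
open Cfsg

namespace Cfsg.Agent.S1591

set_option linter.unusedSectionVars false
set_option linter.unusedVariables false
set_option linter.style.haveILetI false
set_option linter.unusedSimpArgs false

open Cfsg.Agent.Steiner

/-- Any two words of the length-12 ternary code have dot product zero. -/
theorem result (x y : Cfsg.ArrayPt → ZMod 3) (hx : x ∈ Cfsg.ternaryGolayCode) (hy : y ∈ Cfsg.ternaryGolayCode) : ∑ p, x p * y p = 0 := by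
  have h : ∀ j < 6, ∀ k < 6, ∑ p, gT j p * gT k p = 0 := by decide +kernel
  obtain ⟨a, rfl⟩ := mem_tern.mp hx
  obtain ⟨b, rfl⟩ := mem_tern.mp hy
  have h2 : ∀ j < 6, ∑ p, gT j p * enc b p = 0 := fun j hj => by
    simp only [enc, mul_add, Finset.sum_add_distrib, mul_left_comm (gT j _), ← Finset.mul_sum]
    simp [h j hj]
  simp only [enc.eq_1 a, add_mul, Finset.sum_add_distrib, mul_assoc, ← Finset.mul_sum]
  simp [h2]

end Cfsg.Agent.S1591
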