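import Cfsg.Statements.S1594
import Cfsg.Agent.Lib.Steiner.Tern

set_option autoImplicit false
open Cfsg

namespace Cfsg.Agent.S1594

set_option linter.unusedSectionVars false
set_option linter.unusedVariables false
set_option linter.style.haveILetI false
set_option linter.unusedSimpArgs false

open Cfsg.Agent.Steiner

/-- The monomial automorphism group of the length-12 ternary code has order 190080 and its permutation parts are exactly the automorphisms of its hexad system. -/
theorem result : Nat.card {f : Equiv.Perm Cfsg.ArrayPt × (Cfsg.ArrayPt → (ZMod 3)ˣ) // (∀ x ∈ Cfsg.ternaryGolayCode, Cfsg.monomialMap f.1 f.2 x ∈ Cfsg.ternaryGolayCode)} = 190080 ∧ {σ : Equiv.Perm Cfsg.ArrayPt | ∃ c : Cfsg.ArrayPt → (ZMod 3)ˣ, (∀ x ∈ Cfsg.ternaryGolayCode, Cfsg.monomialMap σ c x ∈ Cfsg.ternaryGolayCode)} = (Cfsg.setSystemAut {h : Finset Cfsg.ArrayPt | ∃ x ∈ Cfsg.ternaryGolayCode, Cfsg.ternarySupport x = h ∧ h.card = 6} : Set (Equiv.Perm Cfsg.ArrayPt)) := by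
  refine ⟨?_, congrArg (fun H : Subgroup (Equiv.Perm ArrayPt) => (H : Set (Equiv.Perm ArrayPt))) mon_eq⟩
  have h1 : {c : ArrayPt → (ZMod 3)ˣ | ∀ x ∈ ternaryGolayCode, monomialMap 1 c x ∈ ternaryGolayCode} = {1, -1} := by
    ext c
    refine ⟨fun h => (tern_diag c h).imp funext funext, ?_⟩
    rintro (rfl | rfl) x hx
    · rwa [mono_one]
    · have : monomialMap 1 (-1 : ArrayPt → (ZMod 3)ˣ) x = -x := by
        funext i; simp [monomialMap, Equiv.Perm.one_def]
      rw [this]; exact neg_mem hx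
  have h2 : Nat.card {c : ArrayPt → (ZMod 3)ˣ // ∀ x ∈ ternaryGolayCode, monomialMap 1 c x ∈ ternaryGolayCode} = 2 :=
    (Nat.card_coe_set_eq _).trans ((congrArg Set.ncard h1).trans (Set.ncard_pair (by decide)))
  rw [card_pairs, h2, mon_eq, (sht12 (by decide) hex_st.1).card]
  simp [Nat.descFactorial]

end Cfsg.Agent.S1594
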