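import Cfsg.Statements.S1596
import Cfsg.Agent.Lib.Spor.Quart

set_option autoImplicit false
open scoped Pointwise
open Cfsg

namespace Cfsg.Agent.S1596

set_option linter.unusedSectionVars false
set_option linter.unusedVariables false
set_option linter.style.haveILetI false
set_option linter.unusedSimpArgs false

open Cfsg.Agent.Spor Cfsg.Agent.PC Finset MulAction

theorem tr0 {t u : Finset GolayPt} (ct : t.card = 3) (cu : u.card = 3) (dj : Disjoint t u)
    (hh : t ∪ u ∈ hexadsOn (bset 340831)) :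
    ∃ a ∈ stabilizer M24 (bset 340831), a • bset 577 = t ∧ a • bset 4114 = u := by
  obtain ⟨c6, o, ho, e⟩ := hh
  have s : t ∪ u ⊆ bset 340831 := e ▸ inter_subset_right
  have st := subset_union_left.trans s
  have su := subset_union_right.trans s
  obtain ⟨x0, x1, x2, p1, p2, p3, rfl⟩ := card_eq_three.1 ct
  obtain ⟨y0, y1, y2, q1, q2, q3, rfl⟩ := card_eq_three.1 cu
  have dj' := dj
  simp only [disjoint_insert_left, disjoint_singleton_left, mem_insert, mem_singleton, not_or] at dj'
  simp only [insert_subset_iff, singleton_subset_iff] at st su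
  obtain ⟨⟨r1, r2, -⟩, ⟨r3, r4, -⟩, r5, r6, -⟩ := dj'
  obtain ⟨a, ha, m⟩ := m12_tuple d0_mem le_rfl ![gp 0, gp 6, gp 9, gp 1, gp 4] ![x0, x1, x2, y0, y1] (by decide) (by
    intro i j; fin_cases i <;> fin_cases j <;> simp [*, Ne.symm]) (by decide +kernel) (by
    intro i; fin_cases i <;> simp [st, su])
  have m0 : a • gp 0 = x0 := m 0
  have m1 : a • gp 6 = x1 := m 1
  have m2 : a • gp 9 = x2 := m 2
  have m3 : a • gp 1 = y0 := m 3
  have m4 : a • gp 4 = y1 := m 4
  have e1 : a • bset 577 = {x0, x1, x2} := by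
    rw [show bset 577 = {gp 0, gp 6, gp 9} by decide +kernel]; simp only [smul_finset_insert, smul_finset_singleton, m0, m1, m2]
  obtain ⟨-, o0, ho0, e0⟩ := hexE_zero (n := 4691) (by decide +kernel)
  have e2 : a • o0 = o := mapOct ho0 ho (s := bset 595) (s' := a • bset 595) (subset_trans (by decide +kernel)
    (e0 ▸ inter_subset_left)) (subset_trans (by
      rw [show bset 595 = {gp 0, gp 6, gp 9, gp 1, gp 4} by decide +kernel]
      simp [smul_finset_insert, m0, m1, m2, m3, m4, insert_subset_iff]) (e ▸ inter_subset_left))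
    (by rw [card_bset]; decide +kernel) rfl
  have e3 : a • bset 4114 = {y0, y1, y2} := by
    rw [show bset 4114 = bset 4691 \ bset 577 by decide +kernel, smul_finset_sdiff, ← e0, smul_finset_inter, e2, ha, e, e1,
      union_sdiff_cancel_left dj]
  exact ⟨a, ha, e1, e3⟩

/-- A quartet of a dodecad is determined by any two of its triples: two disjoint triples uniting to a hexad extend to exactly one quartet. -/
theorem result (d : Finset Cfsg.GolayPt) (hd : d ∈ Cfsg.dodecads) (t u : Finset Cfsg.GolayPt) (ht : t.card = 3) (hu : u.card = 3) (htu : Disjoint t u) (hh : t ∪ u ∈ Cfsg.hexadsOn d) : ∃! Q : Finset (Finset Cfsg.GolayPt), Q ∈ Cfsg.quartets d ∧ t ∈ Q ∧ u ∈ Q := by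
  obtain ⟨b, rfl⟩ := dod_trans d0_mem hd
  have hb : b⁻¹ • t ∪ b⁻¹ • u ∈ hexadsOn (bset 340831) := by
    rw [← smul_finset_union, ← smul_mem_hexads b, smul_inv_smul]; exact hh
  obtain ⟨a, ha, h1, h2⟩ := tr0 (t := b⁻¹ • t) (u := b⁻¹ • u) (by rw [card_smul_finset, ht]) (by rw [card_smul_finset, hu])
    (by rw [disjoint_iff_inter_eq_empty] at htu ⊢; rw [← smul_finset_inter, htu, smul_finset_empty]) hb
  have e0 : (b * a) • bset 340831 = b • bset 340831 := by rw [mul_smul, ha]
  have e1 : (b * a) • bset 577 = t := by rw [mul_smul, h1, smul_inv_smul]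
  have e2 : (b * a) • bset 4114 = u := by rw [mul_smul, h2, smul_inv_smul]
  rw [← e0, ← e1, ← e2]
  generalize b * a = g
  refine ⟨g • qu 153, ⟨(smul_mem_quartets g).2 (qu_mem _ (by norm_num)), ?_, ?_⟩, fun Q ⟨q1, q2, q3⟩ => ?_⟩
  · rw [smul_mem_smul_finset_iff, qu0_eq]; simp
  · rw [smul_mem_smul_finset_iff, qu0_eq]; simp
  · refine inv_smul_eq_iff.1 (qu_uniq ?_ ?_ ?_)
    · rw [← smul_mem_quartets g, smul_inv_smul]; exact q1
    · rwa [← smul_mem_smul_finset_iff g, smul_inv_smul]
    · rwa [← smul_mem_smul_finset_iff g, smul_inv_smul]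

end Cfsg.Agent.S1596
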