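import Cfsg.Statements.S1597
import Cfsg.Agent.Lib.Spor.Quart

set_option autoImplicit false
open scoped Pointwise
open Cfsg

namespace Cfsg.Agent.S1597

set_option linter.unusedSectionVars false
set_option linter.unusedVariables false
set_option linter.style.haveILetI false
set_option linter.unusedSimpArgs false

open Cfsg.Agent.Spor Cfsg.Agent.PC MulAction Finset Matrix

/-- A dodecad has 220 quartets and its stabiliser is transitive on them. -/
theorem result (d : Finset Cfsg.GolayPt) (hd : d ∈ Cfsg.dodecads) : (Cfsg.quartets d).ncard = 220 ∧ ∀ Q ∈ Cfsg.quartets d, ∀ Q' ∈ Cfsg.quartets d, ∃ g : Equiv.Perm Cfsg.GolayPt, g ∈ Cfsg.M24 ∧ g • d = d ∧ g • Q = Q' := by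
  refine ⟨?_, fun Q hQ Q' hQ' => ?_⟩
  · obtain ⟨a, rfl⟩ := dod_trans d0_mem hd
    exact (ncard_transport a fun _ => smul_mem_quartets a).trans ncard_quartets
  · obtain ⟨a, a1, rfl⟩ := qu_trans hd hQ
    obtain ⟨b, b1, rfl⟩ := qu_trans hd hQ'
    exact ⟨_, (b * a⁻¹).2, (mul_smul b a⁻¹ d).trans (by rw [inv_smul_eq_iff.2 a1.symm, b1]),
      (mul_smul b a⁻¹ _).trans (by rw [inv_smul_smul])⟩

end Cfsg.Agent.S1597
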