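import Cfsg.Statements.S1598
import Cfsg.Agent.Lib.Spor.Quart

set_option autoImplicit false
open scoped Pointwise
open Cfsg

namespace Cfsg.Agent.S1598

set_option linter.unusedSectionVars false
set_option linter.unusedVariables false
set_option linter.style.haveILetI false
set_option linter.unusedSimpArgs false

open Cfsg.Agent.Spor Cfsg.Agent.PC MulAction Finset Matrix
def X (j : ℕ) : ℕ := cds (nat_lit 0xbd16fa8a28b3a4c99cc32814483429b9e85b4a28539a17ac039a6ac80886bd54b28a309ba443d808a25e11b586bacf353628ab8442d12379ac184980bbe765b623a384ca9410524e444826bccb53ca235b9a453cd0b028140989baac77b6302b841a54c85826c1c889b95eaa0a233ba41b4d30a996c43480) j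
theorem X_ok : FamI X 8 := by decide +kernel
def T0 (i : ℕ) : ℕ := Nat.land (Nat.shiftRight (nat_lit 0x8d11f54e8dccf70654688fac) (Nat.mul (nat_lit 3) i)) (nat_lit 7)
noncomputable def T (j c : ℕ) : ℕ := T0 (Nat.add (Nat.mul (nat_lit 8) j) c)
def ML : List (Matrix (Fin 2) (Fin 2) (ZMod 3) × Matrix (Fin 2) (Fin 2) (ZMod 3)) := [(!![2, 0; 0, 2], !![2, 0; 0, 2]), (!![2, 1; 0, 1], !![2, 1; 0, 1]), (!![2, 0; 0, 1], !![2, 0; 0, 1]), (!![0, 2; 2, 2], !![1, 2; 2, 0])]
def VL : List (Fin 2 → ZMod 3) := [![1, 0], ![0, 1], ![1, 1], ![1, 2], ![2, 0], ![0, 2], ![2, 2], ![2, 1]]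
def L : List ℕ := [nat_lit 0xbdab49ca307b9ac5a928398a418820, nat_lit 0xbd8ebac2322b8607cc8d506861212c, nat_lit 0xb9d55a21c17c466994445b6c964012, nat_lit 0xbade7281cda45289a832b32a311a04, nat_lit 0xb94ef582219b923a29acb4aa821a02, nat_lit 0xb957550620a39827da063a26d49243, nat_lit 0xbaac77b6302b841a54c85826c1c889, nat_lit 0xb968b98e22b3a005548d7b0e9920c1, nat_lit 0xbd275b32292b8223aa0678d72011a8, nat_lit 0xbd8a7a32209b892aad0678d42485b0, nat_lit 0xbbcaaa31c35c48dacd30b00e240646, nat_lit 0xbae65a21c4b4600554413c9e960ccd]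
theorem Lok : AllOK L := by decide +kernel
theorem LH : ∀ c ∈ L, m24 c ∈ HQ := fun c hc => Subgroup.mem_inf.2 ⟨((Lok.is hc).bset_iff _ (by norm_num)).2 (by
  revert c; decide +kernel), ((Lok.is hc).sys_iff (y := quL 153) (quL_ok.1 153 (by norm_num))).2 (by revert c; decide +kernel)⟩
theorem aux {G : Type*} [Group G] (e : HQ ≃* G) (φ : HQ →* GL (Fin 2) (ZMod 3)) (hφ : Function.Surjective φ) :
    ∃ (N : Subgroup G) (_ : N.Normal), Nat.card N = 9 ∧ Nonempty (G ⧸ N ≃* GL (Fin 2) (ZMod 3)) := by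
  have s : Function.Surjective (φ.comp e.symm.toMonoidHom) := hφ.comp e.symm.surjective
  refine ⟨_, inferInstance, ?_, ⟨QuotientGroup.quotientKerEquivOfSurjective _ s⟩⟩
  have := (φ.comp e.symm.toMonoidHom).ker.card_mul_index
  rw [Subgroup.index_ker, MonoidHom.range_eq_top.2 s, Subgroup.card_top, card_GL23, ← Nat.card_congr e.toEquiv, card_HQ] at this
  omega
theorem ex : ∃ φ : HQ →* GL (Fin 2) (ZMod 3), Function.Surjective φ := by
  obtain ⟨φ, -, -, k, -⟩ := hom_of_tables (cj_reps gQ_ok X_ok (T := T) (by decide +kernel)) (h := glU ML (by decide +kernel))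
    (py := fun c => VL.getD c 0) (fun j hj c hc => by
      change _ ∧ (ML.getD j (1, 1)).1 *ᵥ _ = _
      revert c; revert j; decide +kernel) (cj_inj X_ok (by decide +kernel)) (by unfold Inj; decide +kernel)
    (fun b _ h => gl_eq_one fun i => by
      fin_cases i
      · exact (by decide +kernel : Pi.single (0 : Fin 2) (1 : ZMod 3) = VL.getD 0 0) ▸ h 0 (by norm_num)
      · exact (by decide +kernel : Pi.single (1 : Fin 2) (1 : ZMod 3) = VL.getD 1 0) ▸ h 1 (by norm_num))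
  revert φ
  rw [gQ_gen]
  refine fun φ k => ⟨φ, surj_of_card φ (a := 9) ((Nat.card_congr ((Equiv.subtypeEquivRight k).trans
    (Equiv.subtypeSubtypeEquivSubtypeInter (· ∈ HQ) fun g => ∀ c < 8, g • cjP X c = cjP X c))).trans ?_) card_GL23 card_HQ
    (by norm_num) (by norm_num)⟩
  refine full1.card (fun c => (img c 340831 = 340831 ∧ actE 4 c (quL 153) (quL 153) = 0) ∧
    ∀ i < 8, Spor.cmp c (X i) = Spor.cmp (X i) c) ((((prS_ok [(340831, 340831)]).add (prX_ok (X_ok.is (j := 0) (by norm_num))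
    (X_ok.is (j := 0) (by norm_num)))).add (prX_ok (X_ok.is (j := 1) (by norm_num)) (X_ok.is (j := 1) (by norm_num)))).mono
    fun g h => ⟨⟨List.forall_mem_singleton.2 h.1.1, cj_smul_iff.1 (h.2 0 (by norm_num))⟩, cj_smul_iff.1 (h.2 1 (by norm_num))⟩)
    (fun g c a => and_congr (and_congr (a.bset_iff _ (by norm_num)) (a.sys_iff (quL_ok.1 _ (by norm_num))))
      (forall₂_congr fun i hi => cj_smul_iff.trans (a.comm_iff (X_ok.is hi)))) (by decide +kernel)

/-- A quartet stabiliser inside the dodecad stabiliser has order 432, a normal subgroup of order 9 with quotient GL(2, 3), and is transitive on the dodecad. -/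
theorem result (d : Finset Cfsg.GolayPt) (hd : d ∈ Cfsg.dodecads) (Q : Finset (Finset Cfsg.GolayPt)) (hQ : Q ∈ Cfsg.quartets d) : Nat.card ↥(MulAction.stabilizer Cfsg.M24 d ⊓ MulAction.stabilizer Cfsg.M24 Q) = 432 ∧ (∃ (N : Subgroup ↥(MulAction.stabilizer Cfsg.M24 d ⊓ MulAction.stabilizer Cfsg.M24 Q)) (_ : N.Normal), Nat.card N = 9 ∧ Nonempty (↥(MulAction.stabilizer Cfsg.M24 d ⊓ MulAction.stabilizer Cfsg.M24 Q) ⧸ N ≃* GL (Fin 2) (ZMod 3))) ∧ ∀ p ∈ d, ∀ q ∈ d, ∃ g ∈ (MulAction.stabilizer Cfsg.M24 d ⊓ MulAction.stabilizer Cfsg.M24 Q), ((g : ↥Cfsg.M24) : Equiv.Perm Cfsg.GolayPt) p = q := by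
  obtain ⟨a, rfl, rfl⟩ := qu_trans hd hQ
  have e : ∀ g, a * g * a⁻¹ ∈ stabilizer M24 (a • bset 340831) ⊓ stabilizer M24 (a • qu 153) ↔ g ∈ HQ := fun g =>
    and_congr (conj_mem_stab a g _) (conj_mem_stab a g _)
  have c := (Nat.card_congr (conjEquiv a e).toEquiv).symm.trans card_HQ
  obtain ⟨φ, hφ⟩ := ex
  refine ⟨c, aux (conjEquiv a e) φ hφ, fun x hx y hy => ?_⟩
  obtain ⟨x, rfl⟩ := exists_smul a x
  obtain ⟨y, rfl⟩ := exists_smul a y
  rw [smul_mem_smul_finset_iff] at hx hy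
  obtain ⟨g, hg, m⟩ := Cov.trans (b := 0) (L := L) (H := HQ) (by decide +kernel) (by norm_num) Lok LH hx hy
  exact ⟨_, (e g).2 hg, cj_pt a m⟩

end Cfsg.Agent.S1598
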