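import Cfsg.Statements.S1599
import Cfsg.Agent.Lib.Spor.Quart

set_option autoImplicit false
open scoped Pointwise
open Cfsg

namespace Cfsg.Agent.S1599

set_option linter.unusedSectionVars false
set_option linter.unusedVariables false
set_option linter.style.haveILetI false
set_option linter.unusedSimpArgs false

open Cfsg.Agent.Spor Cfsg.Agent.PC MulAction Finset Matrix
def T0_t : TN := (TN.node (TN.node (TN.node (TN.node (TN.leaf (nat_lit 0x80c7d010588a397607bf015200780cb47cd5554e69605d6c5666195f6d59215c8b0e6fc17d0925cad7c2bbc00842443c751e46317a851a13374543d3c3d43533)) (TN.leaf (nat_lit 0x4ada196f9cc20faebe8e2420a0398fa51d4375b73dad057084ba6da7d489c04c0466a99742004dcc8aab26b132113b37a35691b90c35c9b223cd6168d18738ac))) (TN.node (TN.leaf (nat_lit 0x6364615f60d955696cdb66588a565d6f3a9570b5b90f1f4c4a4b493fbea01b2f930ad17e48b8c4383b53963c90bf0cb10ea801b444d4297520242d832722a62a)) (TN.leaf (nat_lit 0x2c6b3066ae453ccf1b0fdabcc5bbb4100698999a97656122132615597c7fd5b08882788a9f2d14be3f1fd9b7aaccb6c3a2a912942a43626c3d161a5a85878f86))))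 (TN.node (TN.node (TN.leaf (nat_lit 0x3679bcbd15b6777150ba8630a0ac9593abdaadb2afaa9d92a19b9cd8dbd9a7b39f91a9a5a69a99989796b190b0a89e944a8e4ccf1f3a494b87b50a685b547b3f)) (TN.leaf (nat_lit 0xb90248b50bb8db174a49ad4c4bcd0acaba92a3c6c811c7cbd8574dce645eab5c9dc0a8a49e40a11c6d2b5f462b8646d89fd6216b9bc64b8cc4b04e60472a511c))) (TN.node (TN.leaf (nat_lit 0x9e147167121744625a8c5e6a17d6022e03c54174aea4a2a37214c9777179d23d041c16183647bdbc15b64f3e86ba50300db2340581cf7fac7b870b32a12513ce)) (TN.leaf (nat_lit 0x0))))) (TN.node (TN.node (TN.node (TN.leaf (nat_lit 0x7f701b2f810bbe32b9380fc448d1b87e1d6e23286bce2b844d2665626164632a24cd292083cc223b53272d82573440b7c82c678d888f8973c60d06110512cb51)) (TN.leaf (nat_lit 0xa4d288cfa682c169137f0d2c086e54937440b596b3505ccea28072485e4165a16cc378c757afa87bd7073083d333991e64b43a29b8365590797e16d0255f6ac5))) (TN.node (TN.leaf (nat_lit 0xcccda74621097a08199a99979839520743781a37886e8dda6757898faab71223281daf73ad400611ab9dc692c8102cd080cbc751548e685b6bd85c6d8b596562))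 (TN.leaf (nat_lit 0x7d76758c4f393169c1c9c2bf93aca0951d47210107046e28234418415d421e0e3e25600958195556bd9c63084e38d2a5)))) (TN.node (TN.node (TN.leaf (nat_lit 0x84269f2b4d0082c245919bc0d7c1bbcaa5857c764e33b335a9429e9c947db0c3d3d5311ea3aea2a417d62e0204d2723d8c6a5e5a4118c94f3e47c57403161c14)) (TN.leaf (nat_lit 0x8eb277797271d6817e7b70d4d7b3738d80b18983847a748b68a6343b3533d12e3a2f32d0d3af5167a7536f525037366a5b5496059129249b0d902027030cc400))) (TN.node (TN.leaf (nat_lit 0xcbd931017663aab63f10733c59957a49589252189a5b459d1b2e09bcdbca9415275d8b7d4f1ad57c1f9877c82f228534028d2806bf035a3e810ebd530b0a2dbb)) (TN.leaf (nat_lit 0x0))))))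
noncomputable def T0 (i : ℕ) : ℕ := get2 T0_t (nat_lit 8) (nat_lit 255) i
noncomputable def T (j c : ℕ) : ℕ := T0 (Nat.add (Nat.mul (nat_lit 220) j) c)
def pV_t : TN := (TN.node (TN.node (TN.leaf (nat_lit 0x8360994547bd88c244ab4bee79cef23be2f73dd2b95ca6cab25bdf29dd0d6a5c905673ab00fbb400)) (TN.leaf (nat_lit 0xb5d6a9d1a8aca8f7de257aed35d4af7bded9ce6f95d339a80a6b5b34ce739d9ebb4d9594af1b3a4e))) (TN.node (TN.leaf (nat_lit 0xd462d692d24a9718ccd385e12b31f692d48b1af79ba539b9b482ef272a775ae738bd53b4d4624e2f)) (TN.leaf (nat_lit 0x8bdef7bd719ddee7a9d39d2674cf329ad92))))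
noncomputable def pV (i : ℕ) : ℕ := get2 pV_t (nat_lit 5) (nat_lit 31) i
def pO_t : TN := (TN.node (TN.node (TN.leaf (nat_lit 0x92495492d72ab63b6452db2daedb2db6596c6dd564965b6b)) (TN.leaf (nat_lit 0x95b96c96272c72c754964ae3b14acb6ac924b6cb65b2d95c))) (TN.node (TN.leaf (nat_lit 0xb6d6acb1c965b6cb2db13aedae5964aa5b6caedb64aed96d)) (TN.leaf (nat_lit 0xb1caadb6c91db6d96cb6d))))
noncomputable def pO (i : ℕ) : ℕ := get2 pO_t (nat_lit 3) (nat_lit 7) i
def pR (i : ℕ) : ℕ := Nat.land (Nat.shiftRight (nat_lit 0x105000b9900) (Nat.mul (nat_lit 8) i)) (nat_lit 255)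
theorem p_chk : ∀ c < 220, partE T 4 220 4 pV pO pR (fun _ => 1) 5 c = 0 := upTo_beq (by decide +kernel)
def part := Part4A.of_cert (gQ_ok.ok.repsSys quL_ok.1 (upTo_beq (f := sysE 4 220 4 quL gQ T) (by decide +kernel))) quL_ok.2 gQ_gen
  4 pV pO pR (fun _ => 1) quartets_eq p_chk 12 27 72 108 (by decide +kernel)

/-- A quartet stabiliser has five orbits on the quartets of its dodecad, of sizes 1, 12, 27, 72, 108. -/
theorem result (d : Finset Cfsg.GolayPt) (hd : d ∈ Cfsg.dodecads) (Q : Finset (Finset Cfsg.GolayPt)) (hQ : Q ∈ Cfsg.quartets d) : ∃ X₁ ∈ Cfsg.quartets d, ∃ X₂ ∈ Cfsg.quartets d, ∃ X₃ ∈ Cfsg.quartets d, ∃ X₄ ∈ Cfsg.quartets d, (MulAction.orbit ↥(MulAction.stabilizer Cfsg.M24 d ⊓ MulAction.stabilizer Cfsg.M24 Q) X₁).ncard = 12 ∧ (MulAction.orbit ↥(MulAction.stabilizer Cfsg.M24 d ⊓ MulAction.stabilizer Cfsg.M24 Q) X₂).ncard = 27 ∧ (MulAction.orbit ↥(MulAction.stabilizer Cfsg.M24 d ⊓ MulAction.stabilizer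 Cfsg.M24 Q) X₃).ncard = 72 ∧ (MulAction.orbit ↥(MulAction.stabilizer Cfsg.M24 d ⊓ MulAction.stabilizer Cfsg.M24 Q) X₄).ncard = 108 ∧ Cfsg.quartets d = {Q} ∪ MulAction.orbit ↥(MulAction.stabilizer Cfsg.M24 d ⊓ MulAction.stabilizer Cfsg.M24 Q) X₁ ∪ MulAction.orbit ↥(MulAction.stabilizer Cfsg.M24 d ⊓ MulAction.stabilizer Cfsg.M24 Q) X₂ ∪ MulAction.orbit ↥(MulAction.stabilizer Cfsg.M24 d ⊓ MulAction.stabilizer Cfsg.M24 Q) X₃ ∪ MulAction.orbit ↥(MulAction.stabilizer Cfsg.M24 d ⊓ MulAction.stabilizer Cfsg.M24 Q) X₄ := by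
  obtain ⟨a, rfl, rfl⟩ := qu_trans hd hQ
  have e : ∀ g, a * g * a⁻¹ ∈ stabilizer M24 (a • bset 340831) ⊓ stabilizer M24 (a • qu 153) ↔ g ∈ HQ := fun g =>
    and_congr (conj_mem_stab a g _) (conj_mem_stab a g _)
  obtain ⟨X1, h1, X2, h2, X3, h3, X4, h4, c1, c2, c3, c4, u⟩ := part
  refine ⟨a • X1, (smul_mem_quartets a).2 h1, a • X2, (smul_mem_quartets a).2 h2, a • X3, (smul_mem_quartets a).2 h3, a • X4,
    (smul_mem_quartets a).2 h4, (ncard_orbit_conj a e _).trans c1, (ncard_orbit_conj a e _).trans c2,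
    (ncard_orbit_conj a e _).trans c3, (ncard_orbit_conj a e _).trans c4, ?_⟩
  rw [image_transport a fun _ => smul_mem_quartets a, u, orbit_conj a e, orbit_conj a e, orbit_conj a e, orbit_conj a e,
    show pR 1 = 153 by decide +kernel]
  simp only [Set.image_union, Set.image_singleton]
  rfl

end Cfsg.Agent.S1599
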