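import Cfsg.Statements.S1600
import Cfsg.Agent.Lib.Spor.Iso2

set_option autoImplicit false
open scoped Pointwise
open Cfsg

namespace Cfsg.Agent.S1600

set_option linter.unusedSectionVars false
set_option linter.unusedVariables false
set_option linter.style.haveILetI false
set_option linter.unusedSimpArgs false

open Cfsg.Agent.Spor Cfsg.Agent.PC MulAction Finset Matrix
def L : List ℕ := [nat_lit 0xbdab49ca307b9ac5a928398a418820, nat_lit 0x515ee88670adc6cb5112598e223520, nat_lit 0x2ba6ba8df089d0cbd84451a814c9a0, nat_lit 0xa1eb79a6307a88c2ba41b196d10d00, nat_lit 0xaadea290f075c4c9d12188ec6921a0, nat_lit 0x3be33b8dd0b14cc52d01a4aa968880, nat_lit 0x5d671512f029ccca5a49705e81b440, nat_lit 0x9bd76b9ab03c44c715b2a114848c20, nat_lit 0x7dab438970ba9ac8b909990a60c860, nat_lit 0x8d4eb719f02cc8ca584850ee90b640, nat_lit 0xb5173bb6b03950c544c1791c21a640, nat_lit 0x745f55cad055ccc3d1a428a630a500]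
theorem Lok : AllOK L := by decide +kernel

/-- The pointwise stabiliser of three points of a dodecad inside the dodecad stabiliser (order 72) is transitive on the complementary dodecad. -/
theorem result (d : Finset Cfsg.GolayPt) (hd : d ∈ Cfsg.dodecads) (p q r : Cfsg.GolayPt) (hp : p ∈ d) (hq : q ∈ d) (hr : r ∈ d) (hpq : p ≠ q) (hpr : p ≠ r) (hqr : q ≠ r) : Nat.card ↥(MulAction.stabilizer Cfsg.M24 d ⊓ MulAction.stabilizer Cfsg.M24 p ⊓ MulAction.stabilizer Cfsg.M24 q ⊓ MulAction.stabilizer Cfsg.M24 r) = 72 ∧ ∀ x ∉ d, ∀ y ∉ d, ∃ g ∈ (MulAction.stabilizer Cfsg.M24 d ⊓ MulAction.stabilizer Cfsg.M24 p ⊓ MulAction.stabilizer Cfsg.M24 q ⊓ MulAction.stabilizer Cfsg.M24 r), ((g : ↥Cfsg.M24) : Equiv.Perm Cfsg.GolayPt) x = y := by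
  obtain ⟨a, rfl, rfl, rfl, rfl⟩ := m12_map3' hd hp hq hr hpq hpr hqr
  refine ⟨(Nat.card_congr (conjEquiv a (conj_M9 a)).toEquiv).symm.trans card_M9, fun x hx y hy => ?_⟩
  obtain ⟨x, rfl⟩ := exists_smul a x
  obtain ⟨y, rfl⟩ := exists_smul a y
  rw [smul_mem_smul_finset_iff, ← mem_compl, ← bset_compl] at hx hy
  obtain ⟨g, hg, e⟩ := Cov.trans (b := 23) (L := L) (H := M9) (by decide +kernel) (by norm_num) Lok
    (fun c hc => (Lok.is hc).mem_M9.2 (by revert c; decide +kernel)) hx hy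
  exact ⟨_, (conj_M9 a g).2 hg, cj_pt a e⟩

end Cfsg.Agent.S1600
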