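import Cfsg.Statements.S1601
import Cfsg.Agent.Lib.Spor.Iso2

set_option autoImplicit false
open scoped Pointwise
open Cfsg

namespace Cfsg.Agent.S1601

set_option linter.unusedSectionVars false
set_option linter.unusedVariables false
set_option linter.style.haveILetI false
set_option linter.unusedSimpArgs false

open Cfsg.Agent.Spor Cfsg.Agent.PC MulAction Finset Matrix
def C (j : ℕ) : ℕ := cds (nat_lit 0xb95cb7c14c8cc813d4c9a22cd14860bc665a094c7d52db1d1058dc691020baece38e329d506a3c902a54168980) j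
theorem C_ok : FamI C 3 := by decide +kernel
def X (j : ℕ) : ℕ := cds (nat_lit 0xbacf12b66ca584655603791d248500bbd6a2928d7552699c52b0e2c0a200b95f1b09449ae46a1d10a85cd4b060b9caeaa2898ac269d984789436ca00bacb13c1c153d06a55a3b267223040bacb37a68851c267586dac22c24840baecaaa68899e468960478dc268580b9df1b0a61554667150d5929062640b96d17a1cca546699c505a54d09240bbceeb128d555068ac6128a7092580bd573b36848bd2651d812c1c292060bd4b13c149758469adb27868361100) j
theorem X_ok : FamI X 12 := by decide +kernel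
def cV0 (i : ℕ) : ℕ := Nat.land (Nat.shiftRight (nat_lit 0x6cd5c9b9a781) (Nat.mul (nat_lit 4) i)) (nat_lit 15)
def cV1 (i : ℕ) : ℕ := Nat.land (Nat.shiftRight (nat_lit 0xfc7cd9ad4610) (Nat.mul (nat_lit 4) i)) (nat_lit 15)
def cV2 (i : ℕ) : ℕ := Nat.land (Nat.shiftRight (nat_lit 0x6900300c100) (Nat.mul (nat_lit 4) i)) (nat_lit 15)
noncomputable def cL : List Lev := [⟨nat_lit 0, nat_lit 12, nat_lit 2, cV0⟩, ⟨nat_lit 1, nat_lit 11, nat_lit 1, cV1⟩, ⟨nat_lit 2, nat_lit 5, nat_lit 0, cV2⟩]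
def T0 (i : ℕ) : ℕ := Nat.land (Nat.shiftRight (nat_lit 0x27a06319458bb73a6295184086a5427b9310) (Nat.mul (nat_lit 4) i)) (nat_lit 15)
noncomputable def T (j c : ℕ) : ℕ := T0 (Nat.add (Nat.mul (nat_lit 12) j) c)
def E0 (i : ℕ) : ℕ := Nat.land (Nat.shiftRight (nat_lit 0xa65192a348714218576a9a13975462183195) (Nat.mul (nat_lit 4) i)) (nat_lit 15)
noncomputable def E (j c : ℕ) : ℕ := E0 (Nat.add (Nat.mul (nat_lit 12) j) c)
def ML : List (Matrix (Fin 2) (Fin 2) (ZMod 11)) := [!![7, 1; 0, 8], !![6, 0; 0, 2], !![0, 8; 4, 5]]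
def VL : List (Fin 2 → ZMod 11) := [![1, 0], ![1, 1], ![1, 2], ![1, 3], ![1, 4], ![1, 5], ![1, 6], ![1, 7], ![1, 8], ![1, 9], ![1, 10], ![0, 1]]
instance i11 : Fact (Nat.Prime 11) := ⟨by norm_num⟩
theorem iso : Nonempty (↥(stabilizer M24 (bset 340831) ⊓ stabilizer M24 (gp 0) ⊓ stabilizer M24 (gp 23)) ≃*
    ProjectiveSpecialLinearGroup (Fin 2) (ZMod 11)) := by
  have hv : ∀ c, VL.getD c 1 ≠ 0 := getD_prop (P := (· ≠ 0)) (by decide +kernel)
  have hM : ∀ j, (ML.getD j 1).det = 1 := getD_all (det · = 1) (by decide +kernel)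
  have c := S0243.result (ZMod.card 11) 2 le_rfl
  refine iso_cert (sg_reps C_ok X_ok (fun c hc => (X_ok.is hc).ordp i11.out (by revert c; decide +kernel)) (T := T) (E := E)
    (by decide +kernel)) (psl_reps (RingEquiv.refl _).toRingHom hv hM (by decide +kernel)) (sg_inj X_ok (by decide +kernel))
    (psl_inj _ hv (by decide +kernel)) 3 cL (k := 660) (by decide +kernel) (gen_le fun j hj => ⟨⟨((C_ok.is hj).bset_iff _
      (by norm_num)).2 ?_, ((C_ok.is hj).gp_iff (by norm_num) (by norm_num)).2 ?_⟩, ((C_ok.is hj).gp_iff (by norm_num)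
      (by norm_num)).2 ?_⟩) (by rw [← gen11', ← chain11.1.1, chain11.1.2]) ?_ (by norm_num)
  iterate 3 revert j; decide +kernel
  generalize Nat.card _ = n at c ⊢
  norm_num [Fin.prod_univ_two] at c
  omega

/-- In the 3-transitive action of the smallest Mathieu group on the complementary dodecad, a point stabiliser is isomorphic to PSL(2, 11). -/
theorem result (d : Finset Cfsg.GolayPt) (hd : d ∈ Cfsg.dodecads) (p q : Cfsg.GolayPt) (hp : p ∈ d) (hq : q ∉ d) : Nonempty (↥(MulAction.stabilizer Cfsg.M24 d ⊓ MulAction.stabilizer Cfsg.M24 p ⊓ MulAction.stabilizer Cfsg.M24 q) ≃* Matrix.ProjectiveSpecialLinearGroup (Fin 2) (ZMod 11)) := by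
  obtain ⟨a, a1, a2, a3⟩ := map_pts_cw (p := gp 0) (p' := gp 23) (q := p) (q' := q) (by decide) (fun e => hq (e ▸ hp))
    (.inr ⟨d0_mem, hd⟩) (iff_of_true m0 hp) (iff_of_false (by decide +kernel) hq)
  obtain ⟨f⟩ := iso
  exact ⟨(conjEquiv a fun g => and_congr (and_congr (cst a3) (cst a1)) (cst a2)).symm.trans f⟩

end Cfsg.Agent.S1601
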