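import Cfsg.Statements.S1602
import Cfsg.Agent.Lib.Spor.Six

set_option autoImplicit false
open scoped Pointwise
open Cfsg

namespace Cfsg.Agent.S1602

set_option linter.unusedSectionVars false
set_option linter.unusedVariables false
set_option linter.style.haveILetI false
set_option linter.unusedSimpArgs false

open Cfsg.Agent.Spor Cfsg.Agent.PC MulAction Finset in

/-- In the 12-point action of the smallest Mathieu group the setwise stabiliser of a pair is isomorphic to the symmetric group of degree 5. -/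
theorem result (d : Finset Cfsg.GolayPt) (hd : d ∈ Cfsg.dodecads) (p q q' : Cfsg.GolayPt) (hp : p ∈ d) (hq : q ∉ d) (hq' : q' ∉ d) (hqq' : q ≠ q') : Nonempty (↥(MulAction.stabilizer Cfsg.M24 d ⊓ MulAction.stabilizer Cfsg.M24 p ⊓ MulAction.stabilizer Cfsg.M24 ({q, q'} : Finset Cfsg.GolayPt)) ≃* Equiv.Perm (Fin 5)) := by
  obtain ⟨a, rfl, rfl⟩ := map_pt_cw (p := gp 0) (q := p) (.inr ⟨d0_mem, hd⟩) (iff_of_true m0 hp)
  obtain ⟨q, rfl⟩ := exists_smul a q
  obtain ⟨q', rfl⟩ := exists_smul a q'
  rw [smul_mem_smul_finset_iff] at hq hq'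
  obtain ⟨b, b1, b2, rfl, rfl⟩ := m11_map2 (q := gp 23) (q' := gp 14) (by decide) (fun e => hqq' (congrArg _ e))
    (by decide +kernel) (by decide +kernel) hq hq'
  have k : ∀ g, g ∈ stabilizer M24 (bset 340831) ⊓ stabilizer M24 (gp 0) ⊓ stabilizer M24 (bset 8404992) ↔
      ∀ x ∈ [(340831, 340831), (2 ^ 0, 2 ^ 0), (8404992, 8404992)], g • bset x.1 = bset x.2 := fun g => by
    simp only [List.forall_mem_cons, smul_single (i := 0) (j := 0) (by norm_num) (by norm_num)]; simp [and_assoc]
  obtain ⟨f⟩ := iso_perm (H := stabilizer M24 (bset 340831) ⊓ stabilizer M24 (gp 0) ⊓ stabilizer M24 (bset 8404992))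
    (E := bset 270916) (n := 5) (by rw [card_bset]; decide +kernel) (fun g hg => by
      obtain ⟨c, b⟩ := exists_is g
      exact (b.bset_iff _ (by norm_num)).2 (full1.allS _ (by decide) (img · 270916 = 270916) (by decide +kernel) b ((k g).1 hg)))
    (fun g hg h => m12_five d0_mem (by decide +kernel) (by rw [card_bset]; decide +kernel) hg.1.1 h)
    ((card_sub k).trans (full1.cardS _ (by decide) (by decide +kernel)))
  exact ⟨(conjEquiv (a * b) fun g => and_congr (and_congr (cst (by rw [mul_smul, b1])) (cst (by rw [mul_smul, b2])))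
    (cst (by rw [show bset 8404992 = {gp 23, gp 14} by decide +kernel]; simp [mul_smul, smul_finset_insert]))).symm.trans f⟩

end Cfsg.Agent.S1602
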