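import Cfsg.Statements.S1603
import Cfsg.Agent.Lib.Spor.Iso2

set_option autoImplicit false
open scoped Pointwise
open Cfsg

namespace Cfsg.Agent.S1603

set_option linter.unusedSectionVars false
set_option linter.unusedVariables false
set_option linter.style.haveILetI false
set_option linter.unusedSimpArgs false

open Cfsg.Agent.Spor Cfsg.Agent.PC MulAction Finset Matrix
def C (j : ℕ) : ℕ := cds (nat_lit 0x796b458cecbb9b09a928892c690440bc6af2cacca38d03a8435b66442420bda6f28e2d750493acd2532a444020) j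
theorem C_ok : FamI C 3 := by decide +kernel
def cV0 (i : ℕ) : ℕ := Nat.land (Nat.shiftRight (nat_lit 0x79a965e1) (Nat.mul (nat_lit 4) i)) (nat_lit 15)
def cV1 (i : ℕ) : ℕ := Nat.land (Nat.shiftRight (nat_lit 0x9be640) (Nat.mul (nat_lit 3) i)) (nat_lit 7)
noncomputable def cL : List Lev := [⟨nat_lit 0, nat_lit 8, nat_lit 2, cV0⟩, ⟨nat_lit 2, nat_lit 6, nat_lit 0, cV1⟩]
def T0 (i : ℕ) : ℕ := Nat.land (Nat.shiftRight (nat_lit 0xf0e62a51ebc8bf3508) (Nat.mul (nat_lit 3) i)) (nat_lit 7)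
noncomputable def T (j c : ℕ) : ℕ := T0 (Nat.add (Nat.mul (nat_lit 8) j) c)
def σ (i : ℕ) : ℕ := Nat.land (Nat.shiftRight (nat_lit 0x4b0d068881) (Nat.mul (nat_lit 5) i)) (nat_lit 31)
def ι (i : ℕ) : ℕ := Nat.land (Nat.shiftRight (nat_lit 0x401e038141080) (Nat.mul (nat_lit 3) i)) (nat_lit 7)
def ML : List (Matrix (Fin 2) (Fin 2) (ZMod 3) × Matrix (Fin 2) (Fin 2) (ZMod 3)) := [(!![1, 0; 2, 1], !![1, 0; 1, 1]), (!![2, 0; 2, 1], !![2, 0; 2, 1]), (!![0, 1; 1, 0], !![0, 1; 1, 0])]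
def VL : List (Fin 2 → ZMod 3) := [![0, 1], ![0, 2], ![1, 0], ![1, 1], ![1, 2], ![2, 0], ![2, 1], ![2, 2]]
def x0 : ℕ := nat_lit 0xbc5545cacc7b9309d5a8288e119880
theorem ix : Is (m24 x0) x0 := is_of (by decide +kernel)
noncomputable abbrev A : Subgroup M24 := stabilizer M24 (bset 340831) ⊓ stabilizer M24 (gp 0) ⊓ Subgroup.centralizer {m24 x0}
theorem memA (g : M24) : g ∈ A ↔ (∀ x ∈ [(340831, 340831), (2 ^ 0, 2 ^ 0)], g • bset x.1 = bset x.2) ∧ g * m24 x0 = m24 x0 * g := by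
  simp only [List.forall_mem_cons, Spor.smul_single (i := 0) (j := 0) (by norm_num) (by norm_num)]
  simp [Subgroup.mem_centralizer_singleton_iff]
theorem isA {g : M24} {c : ℕ} (a : Is g c) : ((∀ x ∈ [(340831, 340831), (2 ^ 0, 2 ^ 0)], g • bset x.1 = bset x.2) ∧
    g * m24 x0 = m24 x0 * g) ↔ (∀ x ∈ [(340831, 340831), (2 ^ 0, 2 ^ 0)], img c x.1 = x.2) ∧ Spor.cmp c x0 = Spor.cmp x0 c :=
  and_congr (a.S_iff (by decide)) (a.comm_iff ix)
theorem iso : Nonempty (A ≃* GL (Fin 2) (ZMod 3)) := by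
  refine iso_cert (C_ok.ok.repsP.res σ 8 T (by decide +kernel)) (h := glU ML (by decide +kernel)) (py := fun c => VL.getD c 0)
    (fun j hj c hc => ?_) (gp_inj.res σ ι 8 (by decide +kernel)) ?_ 3 cL (k := 48) (by decide +kernel)
    (gen_le fun j hj => (memA _).2 ((isA (C_ok.is hj)).2 ?_)) ((card_sub memA).trans (full1.card _ ((prS_ok _).add (prX_ok ix ix))
      (fun _ _ => isA) (by decide +kernel))) card_GL23 (by norm_num)
  · change _ ∧ (ML.getD j (1, 1)).1 *ᵥ _ = _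
    revert c; revert j; decide +kernel
  · unfold Inj; decide +kernel
  · revert j; decide +kernel

/-- Involution centralisers in the smallest Mathieu group are isomorphic to GL(2, 3). -/
theorem result (d : Finset Cfsg.GolayPt) (hd : d ∈ Cfsg.dodecads) (p : Cfsg.GolayPt) (hp : p ∈ d) (x : ↥(MulAction.stabilizer Cfsg.M24 d ⊓ MulAction.stabilizer Cfsg.M24 p)) (hx : orderOf x = 2) : Nonempty (↥(Subgroup.centralizer ({x} : Set ↥(MulAction.stabilizer Cfsg.M24 d ⊓ MulAction.stabilizer Cfsg.M24 p))) ≃* GL (Fin 2) (ZMod 3)) := by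
  have o : orderOf x.1 = 2 := (Subgroup.orderOf_coe x).trans hx
  obtain ⟨h2, h1⟩ := orderOf_eq_prime_iff.1 o
  have i : ∀ p : GolayPt, x.1 • x.1 • p = p := fun p => by rw [← mul_smul, ← sq, h2, one_smul]
  have xd : x.1 • d = d := x.2.1
  have xp : x.1 • p = p := x.2.2
  have ex : ∀ s : Finset GolayPt, s.card ≤ 2 → ∃ u ∈ d, x.1 • u ≠ u ∧ u ∉ s := fun s hs => by
    have c : (Fx x.1 ∩ d).card ≤ 4 := by
      by_contra n
      exact h1 (m12_five hd inter_subset_right (by omega) xd fun p hp => mem_Fx.1 (mem_inter.1 hp).1)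
    obtain ⟨u, hu, n⟩ := exists_mem_notMem_of_card_lt_card (s := Fx x.1 ∩ d ∪ s) (t := d) (by
      have := card_union_le (Fx x.1 ∩ d) s
      rw [(mem_dodecads.1 hd).2]; omega)
    simp only [mem_union, mem_inter, mem_Fx, hu, and_true, not_or] at n
    exact ⟨u, hu, n⟩
  obtain ⟨u, hu, u1, -⟩ := ex ∅ (by simp)
  obtain ⟨v, hv, v1, n⟩ := ex {u, x.1 • u} card_le_two
  simp only [mem_insert, mem_singleton, not_or] at n
  have n1 : x.1 • v ≠ u := fun e => n.2 (by rw [← e, i])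
  have n2 : x.1 • v ≠ x.1 • u := fun e => n.1 (smul_left_cancel _ e)
  have p1 : p ≠ u := fun e => u1 (e ▸ xp)
  have p2 : p ≠ v := fun e => v1 (e ▸ xp)
  have p3 : p ≠ x.1 • u := fun e => p1 (smul_left_cancel x.1 (xp.trans e))
  have p4 : p ≠ x.1 • v := fun e => p2 (smul_left_cancel x.1 (xp.trans e))
  obtain ⟨a, ha⟩ := dod_trans d0_mem hd
  obtain ⟨b, hb, e⟩ := m12_tuple hd (k := 5) le_rfl (fun i => a • ![gp 0, gp 12, gp 16, gp 1, gp 4] i)
    ![p, u, x.1 • u, v, x.1 • v] ((MulAction.injective a).comp (by decide)) (by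
      intro s t; fin_cases s <;> fin_cases t <;> simp [u1, v1, n.1, n.2, n1, n2, p1, p2, p3, p4, u1.symm, v1.symm, Ne.symm n.1,
        Ne.symm n.2, n1.symm, n2.symm, p1.symm, p2.symm, p3.symm, p4.symm])
    (fun i => ha.subset (smul_mem_smul_finset (by revert i; decide +kernel))) (by
      intro s; fin_cases s <;> simp [hp, hu, hv, xd.subset (smul_mem_smul_finset hu), xd.subset (smul_mem_smul_finset hv)])
  have e0 : (b * a) • gp 0 = p := (mul_smul _ _ _).trans (e 0)
  have e1 : (b * a) • gp 12 = u := (mul_smul _ _ _).trans (e 1)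
  have e2 : (b * a) • gp 16 = x.1 • u := (mul_smul _ _ _).trans (e 2)
  have e3 : (b * a) • gp 1 = v := (mul_smul _ _ _).trans (e 3)
  have e4 : (b * a) • gp 4 = x.1 • v := (mul_smul _ _ _).trans (e 4)
  have e5 : (b * a) • bset 340831 = d := by rw [mul_smul, ha, hb]
  generalize b * a = k at e0 e1 e2 e3 e4 e5
  have q : ∀ i < 24, (k * m24 x0 * k⁻¹) • k • gp i = k • gp (pf x0 i) := fun i hi => by rw [conj_smul_smul, ix.gp hi]
  have kx : k * m24 x0 * k⁻¹ = x.1 := by
    rw [← mul_one x.1, ← inv_mul_eq_iff_eq_mul]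
    refine m12_five hd (s := image (k • ·) (bset 69651)) (e5 ▸ image_subset_image (by decide +kernel))
      (by rw [card_image_of_injective _ (MulAction.injective k), card_bset]; decide +kernel) (by
        rw [mul_smul, (cst e5).2 ((ix.bset_iff _ (by norm_num)).2 (by decide +kernel)), inv_smul_eq_iff, xd]) fun y hy => ?_
    rw [show bset 69651 = {gp 0, gp 12, gp 16, gp 1, gp 4} by decide +kernel] at hy
    simp only [image_insert, image_singleton, mem_insert, mem_singleton] at hy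
    rw [mul_smul, inv_smul_eq_iff]
    rcases hy with rfl | rfl | rfl | rfl | rfl
    · exact (q 0 (by norm_num)).trans (by rw [e0, xp]; exact e0)
    · exact (q 12 (by norm_num)).trans (by rw [e1]; exact e2)
    · exact (q 16 (by norm_num)).trans (by rw [e2, i]; exact e1)
    · exact (q 1 (by norm_num)).trans (by rw [e3]; exact e4)
    · exact (q 4 (by norm_num)).trans (by rw [e4, i]; exact e3)
  obtain ⟨f⟩ := iso
  refine ⟨(Subgroup.equivMapOfInjective _ _ (Subgroup.subtype_injective _)).trans ((conjEquiv k fun g => ?_).symm.trans f)⟩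
  rw [Subgroup.mem_inf, Subgroup.mem_inf, Subgroup.mem_centralizer_singleton_iff, ← comm_conj k, kx, ← cst e5, ← cst e0]
  exact ⟨fun ⟨y, hy, r⟩ => ⟨r ▸ y.2, r ▸ congrArg Subtype.val (Subgroup.mem_centralizer_singleton_iff.1 hy)⟩,
    fun h => ⟨⟨_, h.1⟩, Subgroup.mem_centralizer_singleton_iff.2 (Subtype.ext h.2), rfl⟩⟩

end Cfsg.Agent.S1603
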