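import Cfsg.Statements.S1604
import Cfsg.Agent.Lib.Spor.Key2

set_option autoImplicit false
open scoped Pointwise
open Cfsg

namespace Cfsg.Agent.S1604

open Cfsg.Agent.Spor Cfsg.Agent.PC MulAction
def cf (j : ℕ) : ℕ := cds (nat_lit 0xbc28f1c991259ae9850b5544649ca0bc1457ba32ab0f69ada81508330520) j
theorem cf_ok : FamOK cf 2 := famOK_of (by decide +kernel)
def kV_t : TN := (TN.node (TN.node (TN.node (TN.node (TN.node (TN.node (TN.leaf (nat_lit 0x840000000000c40a40000000000000c00000000000000000000a40800000000000000600a40000000040040)) (TN.leaf (nat_lit 0xa40000000400000000000000000000000000000000e00000000))) (TN.node (TN.leaf (nat_lit 0xc40c40000000000c40000000a00000000a40000000000600000000)) (TN.leaf (nat_lit 576)))) (TN.node (TN.node (TN.leaf (nat_lit 0xa00000000000000000000000000000000000000000000000000000000000840000000000c40)) (TN.leaf (nat_lit 0xc40000000000000000000000000c00000000000000000200000000))) (TN.node (TN.leaf (nat_lit 0xa40000000000)) (TN.leaf (nat_lit 0x840000000000000)))))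 (TN.node (TN.node (TN.node (TN.leaf (nat_lit 0xa00000000000000000000000000000000000000000a00000000c00000)) (TN.leaf (nat_lit 0x440000000000000000000000000000000000c00000000000000800000000000))) (TN.node (TN.leaf (nat_lit 0x600000000000000000000000000)) (TN.leaf (nat_lit 1600)))) (TN.node (TN.node (TN.leaf (nat_lit 0xa40000000000000000000000000000000000000640600)) (TN.leaf (nat_lit 0))) (TN.node (TN.leaf (nat_lit 0xa40000000000000000000000000000000000000000000000000)) (TN.leaf (nat_lit 0)))))) (TN.node (TN.node (TN.node (TN.node (TN.leaf (nat_lit 0xc00000000000000000000000000a00e00)) (TN.leaf (nat_lit 0xa00000000000000000000000a40000c00000000000000000000))) (TN.node (TN.leaf (nat_lit 0x800000000000000000000000000000000000000000000000000000000000000)) (TN.leaf (nat_lit 0x400000)))) (TN.node (TN.node (TN.leaf (nat_lit 0x840000000000000000000000000000000000000800000000000000840)) (TN.leaf (nat_lit 0))) (TN.node (TN.leaf (nat_lit 0xc40000000000000000000000000)) (TN.leaf (nat_lit 0)))))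 (TN.node (TN.node (TN.node (TN.leaf (nat_lit 0x840000000000000000000000000000000000000000000000000000000000000a40000000000440)) (TN.leaf (nat_lit 0))) (TN.node (TN.leaf (nat_lit 0x640000000)) (TN.leaf (nat_lit 0)))) (TN.node (TN.node (TN.leaf (nat_lit 0)) (TN.leaf (nat_lit 0))) (TN.node (TN.leaf (nat_lit 0)) (TN.leaf (nat_lit 0))))))) (TN.node (TN.node (TN.node (TN.node (TN.node (TN.leaf (nat_lit 0xc00000000000000000000000000040000a40000000000000000000)) (TN.leaf (nat_lit 0xa00000000e00c40))) (TN.node (TN.leaf (nat_lit 2112)) (TN.leaf (nat_lit 0x600000000000000000000000000000000000000000000000000000000000000000000000000000000)))) (TN.node (TN.node (TN.leaf (nat_lit 0x200000000000000000000000000000000a40000000000000000000640000000)) (TN.leaf (nat_lit 0))) (TN.node (TN.leaf (nat_lit 1024)) (TN.leaf (nat_lit 0))))) (TN.node (TN.node (TN.node (TN.leaf (nat_lit 0x800000000000000000000000c00000000000000000c40000000)) (TN.leaf (nat_lit 0))) (TN.node (TN.leaf (nat_lit 0xa00000000000000000))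 (TN.leaf (nat_lit 0)))) (TN.node (TN.node (TN.leaf (nat_lit 0)) (TN.leaf (nat_lit 0))) (TN.node (TN.leaf (nat_lit 0)) (TN.leaf (nat_lit 0)))))) (TN.node (TN.node (TN.node (TN.node (TN.leaf (nat_lit 0x840000000000640000000000000000000000000a40000000000)) (TN.leaf (nat_lit 0))) (TN.node (TN.leaf (nat_lit 3136)) (TN.leaf (nat_lit 0)))) (TN.node (TN.node (TN.leaf (nat_lit 0)) (TN.leaf (nat_lit 0))) (TN.node (TN.leaf (nat_lit 0)) (TN.leaf (nat_lit 0))))) (TN.node (TN.node (TN.node (TN.leaf (nat_lit 0)) (TN.leaf (nat_lit 0))) (TN.node (TN.leaf (nat_lit 0)) (TN.leaf (nat_lit 0)))) (TN.node (TN.node (TN.leaf (nat_lit 0)) (TN.leaf (nat_lit 2112))) (TN.node (TN.leaf (nat_lit 0)) (TN.leaf (nat_lit 0))))))))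
noncomputable def kV (i : ℕ) : ℕ := get2 kV_t (nat_lit 6) (nat_lit 63) i
def kR (i : ℕ) : ℕ := Nat.land (Nat.shiftRight (nat_lit 0x1000000000003000051000000000) (Nat.mul (nat_lit 12) i)) (nat_lit 4095)

/-- A hexad stabiliser in the two-point stabiliser has orbits of sizes 1, 16, 60 on the 77 hexads: the 16 hexads disjoint from it and the 60 meeting it in two points. -/
theorem result (p q : Cfsg.GolayPt) (hpq : p ≠ q) (o o' o'' : Finset Cfsg.GolayPt) (ho : o ∈ Cfsg.octads) (ho' : o' ∈ Cfsg.octads) (ho'' : o'' ∈ Cfsg.octads) (hp : p ∈ o ∧ p ∈ o' ∧ p ∈ o'') (hq : q ∈ o ∧ q ∈ o' ∧ q ∈ o'') (h : (o ∩ o').card = (o ∩ o'').card) : {x : Finset Cfsg.GolayPt | x ∈ Cfsg.octads ∧ p ∈ x ∧ q ∈ x ∧ (o ∩ x).card = 2}.ncard = 16 ∧ {x : Finset Cfsg.GolayPt | x ∈ Cfsg.octads ∧ p ∈ x ∧ q ∈ x ∧ (o ∩ x).card = 4}.ncard = 60 ∧ ∃ g : Equiv.Perm Cfsg.GolayPt, g ∈ Cfsg.M24 ∧ g p = p ∧ g q = q ∧ g • o = o ∧ g • o' = o'' := by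
  obtain ⟨a, rfl, rfl, rfl⟩ := map_pts_cw (p := gp 23) (p' := gp 0) (by decide) hpq (Or.inl ⟨(bset_oct (n := 13062145) (by decide +kernel)), ho⟩)
    (iff_of_true (by decide) hp.1) (iff_of_true (by decide) hq.1)
  refine ⟨?_, ?_, ?_⟩
  · rw [ncard_pre a]
    refine cntC 8 8388609 8388609 13062145 0 2 0 (by norm_num) (by norm_num) (fun s => ?_) (by decide +kernel)
    simp only [Set.mem_setOf_eq, smul_mem_octads, smul_mem_dodecads, ← Finset.smul_finset_inter, Finset.card_smul_finset, Finset.smul_mem_smul_finset_iff]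
    simp only [mem_octads, mem_dodecads, J11, J10, J1, J0, inter_bset_zero, bset_zero_inter, and_assoc, true_and, and_true]
  · rw [ncard_pre a]
    refine cntC 8 8388609 8388609 13062145 0 4 0 (by norm_num) (by norm_num) (fun s => ?_) (by decide +kernel)
    simp only [Set.mem_setOf_eq, smul_mem_octads, smul_mem_dodecads, ← Finset.smul_finset_inter, Finset.card_smul_finset, Finset.smul_mem_smul_finset_iff]
    simp only [mem_octads, mem_dodecads, J11, J10, J1, J0, inter_bset_zero, bset_zero_inter, and_assoc, true_and, and_true]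
  obtain ⟨o', rfl⟩ := exists_smul a o'
  obtain ⟨o'', rfl⟩ := exists_smul a o''
  simp only [Set.mem_setOf_eq, smul_mem_octads, smul_mem_dodecads, ← Finset.smul_finset_inter, Finset.card_smul_finset, Finset.smul_mem_smul_finset_iff] at ho' ho'' h hp hq
  obtain ⟨g, h1, h2⟩ := conjC cf_ok (le_inf (le_inf (gen_le_stabP cf_ok 23 (by norm_num) (by decide +kernel)) (gen_le_stabP cf_ok 0 (by norm_num) (by decide +kernel))) (gen_le_stabS cf_ok 13062145 (by decide +kernel))) 8 8388609 8388609 13062145 0 8 kV kR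
    (by norm_num) (by decide +kernel) ho'.1 ho''.1 ho'.2 ho''.2 (J11.mpr ⟨hp.2.1, hq.2.1⟩) (J11.mpr ⟨hp.2.2, hq.2.2⟩) h
    (by simp only [bset_zero_inter])
  exact ⟨_, (a * g * a⁻¹).2, cj_pt a h1.1.1, cj_pt a h1.1.2, cj_set a h1.2, cj_set a h2⟩

end Cfsg.Agent.S1604
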