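import Cfsg.Statements.S1605
import Cfsg.Agent.Lib.Spor.Key2

set_option autoImplicit false
open scoped Pointwise
open Cfsg

namespace Cfsg.Agent.S1605

open Cfsg.Agent.Spor Cfsg.Agent.PC MulAction
def cf (j : ℕ) : ℕ := cds (nat_lit 0xbd9d43b0d37ae4daa4318208328940b894f2b490905964a1d1a9d669d060) j
theorem cf_ok : FamOK cf 2 := famOK_of (by decide +kernel)
def kV_t : TN := (TN.node (TN.node (TN.node (TN.node (TN.node (TN.node (TN.leaf (nat_lit 0xe40000000000000000000c00200000000000003000000000000029000000000e00200000048000000000040010000000)) (TN.leaf (nat_lit 0x280000000008400000000000000000006401800000000000021000000000000290000000000000000c0028000000000a4038))) (TN.node (TN.leaf (nat_lit 0x4000000000000000000004000000000000030000000000000000000000000000000c000000000000084038)) (TN.leaf (nat_lit 0x190000000000004100000000000000000000000a003800c0000000000000000290000000)))) (TN.node (TN.node (TN.leaf (nat_lit 0x39000000000000000000031000000000c402000000000000029000000000c403900a0008000000000e00000000000)) (TN.leaf (nat_lit 0x4100000000000000000000000000000000000000000000000000000000000000000000000040038)))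 (TN.node (TN.leaf (nat_lit 0x10000000000000000000000000000000000000038000000000000000000000000003000000000000000000003900000000040031)) (TN.leaf (nat_lit 0x280000000000000000000000000000))))) (TN.node (TN.node (TN.node (TN.leaf (nat_lit 0x29000000000000000080000000000000a002100000000020029000000000000300000028000000000c40210000000)) (TN.leaf (nat_lit 0x3800000000000000000003800000000000021))) (TN.node (TN.leaf (nat_lit 0x1800000280000000000000000000000000000000000000a0000000000000000000000030000000000c0030)) (TN.leaf (nat_lit 0xc400000000000000000000000000000000000000000000000000000000000)))) (TN.node (TN.node (TN.leaf (nat_lit 0x3000000000000000000000000c00000000000000000000000400000000)) (TN.leaf (nat_lit 0x2900000000000000000000000000000000000000000000000000000000000000000c400000000000000018))) (TN.node (TN.leaf (nat_lit 0x2800000000000000)) (TN.leaf (nat_lit 0x410000000)))))) (TN.node (TN.node (TN.node (TN.node (TN.leaf (nat_lit 0x3000000000000000000000000000000000021000000000e003900000000080000000000000800310000021000000000c00190000000))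 (TN.leaf (nat_lit 0x28000000000000000000000000000000000000000000000000000000000000000000003100000000104000))) (TN.node (TN.leaf (nat_lit 0x310000000000000000e400000000000000000000000000000110000000000000000a002900000000000020)) (TN.leaf (nat_lit 0x110000000)))) (TN.node (TN.node (TN.leaf (nat_lit 0xc000000000000000039000000000000000000000000000000000090000000)) (TN.leaf (nat_lit 0xe400000000000000000000004100000000000039))) (TN.node (TN.leaf (nat_lit 25)) (TN.leaf (nat_lit 0x2000000000000000000000000000000000000000000000000000000000))))) (TN.node (TN.node (TN.node (TN.leaf (nat_lit 0x2900000000000000000000000000300124000000000000000000000000)) (TN.leaf (nat_lit 0x300000000000000000000000000000000000000000000000000000000000a4041))) (TN.node (TN.leaf (nat_lit 56)) (TN.leaf (nat_lit 0x28000000000000000000000000000000000000000000)))) (TN.node (TN.node (TN.leaf (nat_lit 0x290000000000000000000000000000000000000000090000000000000000000390000000)) (TN.leaf (nat_lit 0))) (TN.node (TN.leaf (nat_lit 409600)) (TN.leaf (nat_lit 0))))))) (TN.node (TN.node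 (TN.node (TN.node (TN.node (TN.leaf (nat_lit 0xa0018000001800000000000029000000000c400000000000000038000000000000000004028000000000c0040)) (TN.leaf (nat_lit 0x2800000000000000000000000000300000000000000001000000000000))) (TN.node (TN.leaf (nat_lit 0x31000000000a400000000000000018000000000000280000000000000001240300000000)) (TN.leaf (nat_lit 0x3900000000000000)))) (TN.node (TN.node (TN.leaf (nat_lit 0x480000000000000000c000000000000000031)) (TN.leaf (nat_lit 0x4000000000000029000000000000000000000000000000000200000000))) (TN.node (TN.leaf (nat_lit 0x3900000000000000000000000000000000000000000000000000000000)) (TN.leaf (nat_lit 540672))))) (TN.node (TN.node (TN.node (TN.leaf (nat_lit 0x20000000000000000000000000000000000000000000000000000000000000000000000000000000000000000000000a0029)) (TN.leaf (nat_lit 0x3900000000000000000000000e40000000038000000000000000000000))) (TN.node (TN.leaf (nat_lit 0x400000000)) (TN.leaf (nat_lit 16)))) (TN.node (TN.node (TN.leaf (nat_lit 0xc4000000000000000000000000000000000000000000000000002000000000000021)) (TN.leaf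 (nat_lit 0))) (TN.node (TN.leaf (nat_lit 0x200000000000000000000000000000)) (TN.leaf (nat_lit 0)))))) (TN.node (TN.node (TN.node (TN.node (TN.leaf (nat_lit 0x41000000000000000000000000000000000000000000000003100000000000018)) (TN.leaf (nat_lit 0x840000000000000000000000000000000000000000000180000000000000000000100000000))) (TN.node (TN.leaf (nat_lit 0xc00000000000000000000000000000000)) (TN.leaf (nat_lit 32)))) (TN.node (TN.node (TN.leaf (nat_lit 0x110000000000000000000000000000000000000000000000000000000000000000000000000000000a0031)) (TN.leaf (nat_lit 0))) (TN.node (TN.leaf (nat_lit 0x39000000000000000000000)) (TN.leaf (nat_lit 0))))) (TN.node (TN.node (TN.node (TN.leaf (nat_lit 0x2000000000000000000002900000000064000)) (TN.leaf (nat_lit 0))) (TN.node (TN.leaf (nat_lit 0x1100000000000000000000000000000000000000000000000000000000)) (TN.leaf (nat_lit 0)))) (TN.node (TN.node (TN.leaf (nat_lit 0)) (TN.leaf (nat_lit 0))) (TN.node (TN.leaf (nat_lit 0)) (TN.leaf (nat_lit 0))))))))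
noncomputable def kV (i : ℕ) : ℕ := get2 kV_t (nat_lit 7) (nat_lit 127) i
def kR (i : ℕ) : ℕ := Nat.land (Nat.shiftRight (nat_lit 0x400000000000600004a000000000) (Nat.mul (nat_lit 12) i)) (nat_lit 4095)

/-- The two-point stabiliser acts on the 176 octads through the first point avoiding the second with rank 3 and subdegrees 1, 70, 105 (intersections 8, 2, 4). -/
theorem result (p q : Cfsg.GolayPt) (hpq : p ≠ q) : {x : Finset Cfsg.GolayPt | (x ∈ Cfsg.octads ∧ p ∈ x ∧ q ∉ x)}.ncard = 176 ∧ (∀ o o' : Finset Cfsg.GolayPt, (o ∈ Cfsg.octads ∧ p ∈ o ∧ q ∉ o) → (o' ∈ Cfsg.octads ∧ p ∈ o' ∧ q ∉ o') → ∃ g : Equiv.Perm Cfsg.GolayPt, g ∈ Cfsg.M24 ∧ g p = p ∧ g q = q ∧ g • o = o') ∧ ∀ o : Finset Cfsg.GolayPt, (o ∈ Cfsg.octads ∧ p ∈ o ∧ q ∉ o) → {x : Finset Cfsg.GolayPt | (x ∈ Cfsg.octads ∧ p ∈ x ∧ q ∉ x) ∧ (o ∩ x).card = 2}.ncard = 70 ∧ {x : Finset Cfsg.GolayPt | (x ∈ Cfsg.octads ∧ p ∈ x ∧ q ∉ x) ∧ (o ∩ x).card = 4}.ncard = 105 ∧ ∀ o' o'' : Finset Cfsg.GolayPt, (o' ∈ Cfsg.octads ∧ p ∈ o' ∧ q ∉ o') → (o'' ∈ Cfsg.octads ∧ p ∈ o'' ∧ q ∉ o'') → (o ∩ o').card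 = (o ∩ o'').card → ∃ g : Equiv.Perm Cfsg.GolayPt, g ∈ Cfsg.M24 ∧ g p = p ∧ g q = q ∧ g • o = o ∧ g • o' = o'' := by
  refine ⟨?_, ?_, ?_⟩
  · obtain ⟨a, rfl, rfl⟩ := map2 (a := gp 23) (b := gp 0) (by decide) hpq
    rw [ncard_pre a]
    refine cntC 8 8388609 8388608 0 0 0 0 (by norm_num) (by norm_num) (fun s => ?_) (by decide +kernel)
    simp only [Set.mem_setOf_eq, smul_mem_octads, smul_mem_dodecads, ← Finset.smul_finset_inter, Finset.card_smul_finset, Finset.smul_mem_smul_finset_iff]
    simp only [mem_octads, J10, bset_zero_inter, and_assoc, and_true]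
  · intro o o' h h'
    obtain ⟨g, h1, h2, h3⟩ := map_pts_cw hpq hpq (Or.inl ⟨h.1, h'.1⟩) (iff_of_true h.2.1 h'.2.1) (iff_of_false h.2.2 h'.2.2)
    exact ⟨g, g.2, h1, h2, h3⟩
  intro o ho
  obtain ⟨a, rfl, rfl, rfl⟩ := map_pts_cw (p := gp 23) (p' := gp 0) (by decide) hpq (Or.inl ⟨(bset_oct (n := 13938692) (by decide +kernel)), ho.1⟩)
    (iff_of_true (by decide) ho.2.1) (iff_of_false (by decide) ho.2.2)
  refine ⟨?_, ?_, ?_⟩
  · rw [ncard_pre a]
    refine cntC 8 8388609 8388608 13938692 0 2 0 (by norm_num) (by norm_num) (fun s => ?_) (by decide +kernel)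
    simp only [Set.mem_setOf_eq, smul_mem_octads, smul_mem_dodecads, ← Finset.smul_finset_inter, Finset.card_smul_finset, Finset.smul_mem_smul_finset_iff]
    simp only [mem_octads, mem_dodecads, J11, J10, J1, J0, inter_bset_zero, bset_zero_inter, and_assoc, true_and, and_true]
  · rw [ncard_pre a]
    refine cntC 8 8388609 8388608 13938692 0 4 0 (by norm_num) (by norm_num) (fun s => ?_) (by decide +kernel)
    simp only [Set.mem_setOf_eq, smul_mem_octads, smul_mem_dodecads, ← Finset.smul_finset_inter, Finset.card_smul_finset, Finset.smul_mem_smul_finset_iff]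
    simp only [mem_octads, mem_dodecads, J11, J10, J1, J0, inter_bset_zero, bset_zero_inter, and_assoc, true_and, and_true]
  intro o' o'' ho' ho'' h
  obtain ⟨o', rfl⟩ := exists_smul a o'
  obtain ⟨o'', rfl⟩ := exists_smul a o''
  simp only [Set.mem_setOf_eq, smul_mem_octads, smul_mem_dodecads, ← Finset.smul_finset_inter, Finset.card_smul_finset, Finset.smul_mem_smul_finset_iff] at ho' ho'' h
  obtain ⟨g, h1, h2⟩ := conjC cf_ok (le_inf (le_inf (gen_le_stabP cf_ok 23 (by norm_num) (by decide +kernel)) (gen_le_stabP cf_ok 0 (by norm_num) (by decide +kernel))) (gen_le_stabS cf_ok 13938692 (by decide +kernel))) 8 8388609 8388608 13938692 0 8 kV kR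
    (by norm_num) (by decide +kernel) ho'.1.1 ho''.1.1 ho'.1.2 ho''.1.2 (J10.mpr ho'.2) (J10.mpr ho''.2) h
    (by simp only [bset_zero_inter])
  exact ⟨_, (a * g * a⁻¹).2, cj_pt a h1.1.1, cj_pt a h1.1.2, cj_set a h1.2, cj_set a h2⟩

end Cfsg.Agent.S1605
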