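import Cfsg.Statements.S1607
import Cfsg.Agent.Lib.Spor.Key2

set_option autoImplicit false
open scoped Pointwise
open Cfsg

namespace Cfsg.Agent.S1607

open Cfsg.Agent.Spor Cfsg.Agent.PC MulAction
def cf (j : ℕ) : ℕ := cds (nat_lit 0xbd9743c00c349ae9906fa89414a0b1b81a90c24c258ae1d54730a6f45171) j
theorem cf_ok : FamOK cf 2 := famOK_of (by decide +kernel)
def kV_t : TN := (TN.node (TN.node (TN.node (TN.node (TN.node (TN.node (TN.leaf (nat_lit 0x188001040000000400920000000e40200001800000003000000000000031420208001240280000001200100000c40400200080)) (TN.leaf (nat_lit 0x20000000000e000000000000000000010002800024800000021700000000000310000000000000000c4030000288000e0038))) (TN.node (TN.leaf (nat_lit 0x30000000000000000000038720080000000280001c0000000008200000000108000c0000000088000c0020)) (TN.leaf (nat_lit 0x210000000000002100000000000000000000000a00180120000000000000000380001880)))) (TN.node (TN.node (TN.leaf (nat_lit 0x380001c80000000000000380000000008002900000000000049000000000a40180100040000240000e00000001800)) (TN.leaf (nat_lit 0x380000000000000050000000000000000000000000000002000000000000000000001c0000a4039)))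 (TN.node (TN.leaf (nat_lit 0x100000000000000000000000000000000000000390000000000000000000000000028000000000000000000031820000000a0049)) (TN.leaf (nat_lit 0x380000000000180000000000000000))))) (TN.node (TN.node (TN.node (TN.leaf (nat_lit 0x500000000000000000c000000024000064038000000000a4019000000000000310000030000100000e00396000000)) (TN.leaf (nat_lit 0x20000000000000000000000000000000000003100004800000000000004182000000000048))) (TN.node (TN.leaf (nat_lit 0x3100000200000000000000000000000000000000000000840000001c000000000000002800000000120030)) (TN.leaf (nat_lit 0xe400000000000000000000000000000000000000000000000000000001c00)))) (TN.node (TN.node (TN.leaf (nat_lit 0x200001c800000000000000001000000000000000000000000293001c00)) (TN.leaf (nat_lit 0x4800000000000000000000000000000000000000000000000000000000000000000c400000000000000028))) (TN.node (TN.leaf (nat_lit 0x200000000000000000000000000000000000000000003000000000000000)) (TN.leaf (nat_lit 0x210000000)))))) (TN.node (TN.node (TN.node (TN.node (TN.leaf (nat_lit 0x3000000000000000000000000000000000021000000000a4039000000000c40000001c8000c00390000031000000000e40296002480))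 (TN.leaf (nat_lit 0x300000000000000000000000002080000000000000000000000000208000020000000039000000000c0000))) (TN.node (TN.leaf (nat_lit 0x300000000000208000c0000000000000000000000000000004800000000000000010402100000000000038)) (TN.leaf (nat_lit 0x212200000)))) (TN.node (TN.node (TN.leaf (nat_lit 0x1880010000000000000000031000000000000000000000800000000000380001800)) (TN.leaf (nat_lit 0xa000000000000000000000004800000000000029))) (TN.node (TN.leaf (nat_lit 0xc000000000000000000000000000020)) (TN.leaf (nat_lit 0x3800000000000000000000000000000000000000000000000000000000))))) (TN.node (TN.node (TN.node (TN.leaf (nat_lit 0x32000000000000000000000000000000029000000000000000000000000001800400000001c8000000000001000)) (TN.leaf (nat_lit 0x380000000000000000000000000000000000000000000000000000000000a0031))) (TN.node (TN.leaf (nat_lit 0x1c800000040)) (TN.leaf (nat_lit 0x31000000000000000000000000000000000000000000)))) (TN.node (TN.node (TN.leaf (nat_lit 0x390000000000000000000000000000000000000000190000000000000000000310000000)) (TN.leaf (nat_lit 0))) (TN.node (TN.leaf (nat_lit 671744)) (TN.leaf (nat_lit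 0))))))) (TN.node (TN.node (TN.node (TN.node (TN.node (TN.leaf (nat_lit 0xe4048000002900000000000038800000000c4000000000000000480002000000180000e4041000000000c0028)) (TN.leaf (nat_lit 0x29000000000000000000000000003900000000001c0001000005001880))) (TN.node (TN.leaf (nat_lit 0x310000000004400000000000000031000000000000290000000000000001640310002080)) (TN.leaf (nat_lit 0x4000000000000000000000000000000000000000000000000000000000000000000000000000002100000000000000)))) (TN.node (TN.node (TN.leaf (nat_lit 0x1400000000000000000000000000000000000198000000000000000a00000001c800000030)) (TN.leaf (nat_lit 0x2800000000000028000000000000000000000000000000000210000000))) (TN.node (TN.leaf (nat_lit 0x3100000000000000000000000000000000000000000000000000000c00)) (TN.leaf (nat_lit 933888))))) (TN.node (TN.node (TN.node (TN.leaf (nat_lit 0x38000000000000000000000000000000000000001800000000000000000000000000200000000000000000000200000a4038)) (TN.leaf (nat_lit 0x3800000000000000000000001200000000018000000000000000000000))) (TN.node (TN.leaf (nat_lit 0x820000000000390000000)) (TN.leaf (nat_lit 56)))) (TN.node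 (TN.node (TN.leaf (nat_lit 0xa4000000000000000000000000000000000000000000000000004000000000000038)) (TN.leaf (nat_lit 0))) (TN.node (TN.leaf (nat_lit 0x390000000000000000000000000000)) (TN.leaf (nat_lit 0)))))) (TN.node (TN.node (TN.node (TN.node (TN.leaf (nat_lit 0x200000c8000000000002080000000000000000000000000003082000000000040)) (TN.leaf (nat_lit 0x800000000000000000000000000000000000000000000380000000000000000000380000000))) (TN.node (TN.leaf (nat_lit 0xa00000000000000000000000000002800)) (TN.leaf (nat_lit 48)))) (TN.node (TN.node (TN.leaf (nat_lit 0x38000000000000000000000000000000000000000000000000000000000000000000000000000000040039)) (TN.leaf (nat_lit 0))) (TN.node (TN.leaf (nat_lit 0x40000000000000000000000)) (TN.leaf (nat_lit 0))))) (TN.node (TN.node (TN.node (TN.leaf (nat_lit 0x28000000000000000000029000000000e4000)) (TN.leaf (nat_lit 0))) (TN.node (TN.leaf (nat_lit 0x4800000000000000000000000000000000000000000000000000000000)) (TN.leaf (nat_lit 0)))) (TN.node (TN.node (TN.leaf (nat_lit 0)) (TN.leaf (nat_lit 1152))) (TN.node (TN.leaf (nat_lit 0)) (TN.leaf (nat_lit 0))))))))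
noncomputable def kV (i : ℕ) : ℕ := get2 kV_t (nat_lit 7) (nat_lit 127) i
def kR (i : ℕ) : ℕ := Nat.land (Nat.shiftRight (nat_lit 0x100000000000300000c000000000) (Nat.mul (nat_lit 12) i)) (nat_lit 4095)

/-- The point stabiliser acts on the 253 heptads of its S(4, 7, 23) with rank 3 and subdegrees 1, 112, 140 (intersections 8, 2, 4). -/
theorem result (x : Cfsg.GolayPt) (o : Finset Cfsg.GolayPt) (ho : o ∈ Cfsg.octads) (hx : x ∈ o) : {o' : Finset Cfsg.GolayPt | o' ∈ Cfsg.octads ∧ x ∈ o' ∧ (o ∩ o').card = 2}.ncard = 112 ∧ {o' : Finset Cfsg.GolayPt | o' ∈ Cfsg.octads ∧ x ∈ o' ∧ (o ∩ o').card = 4}.ncard = 140 ∧ ∀ o' o'' : Finset Cfsg.GolayPt, o' ∈ Cfsg.octads → o'' ∈ Cfsg.octads → x ∈ o' → x ∈ o'' → (o ∩ o').card = (o ∩ o'').card → ∃ g : Equiv.Perm Cfsg.GolayPt, g ∈ Cfsg.M24 ∧ g x = x ∧ g • o = o ∧ g • o' = o'' := by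
  obtain ⟨a, rfl, rfl⟩ := map_pt_cw (p := gp 23) (Or.inl ⟨(bset_oct (n := 13062145) (by decide +kernel)), ho⟩) (iff_of_true (by decide) hx)
  refine ⟨?_, ?_, ?_⟩
  · rw [ncard_pre a]
    refine cntC 8 8388608 8388608 13062145 0 2 0 (by norm_num) (by norm_num) (fun s => ?_) (by decide +kernel)
    simp only [Set.mem_setOf_eq, smul_mem_octads, smul_mem_dodecads, ← Finset.smul_finset_inter, Finset.card_smul_finset, Finset.smul_mem_smul_finset_iff]
    simp only [mem_octads, mem_dodecads, J11, J10, J1, J0, inter_bset_zero, bset_zero_inter, and_assoc, true_and, and_true]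
  · rw [ncard_pre a]
    refine cntC 8 8388608 8388608 13062145 0 4 0 (by norm_num) (by norm_num) (fun s => ?_) (by decide +kernel)
    simp only [Set.mem_setOf_eq, smul_mem_octads, smul_mem_dodecads, ← Finset.smul_finset_inter, Finset.card_smul_finset, Finset.smul_mem_smul_finset_iff]
    simp only [mem_octads, mem_dodecads, J11, J10, J1, J0, inter_bset_zero, bset_zero_inter, and_assoc, true_and, and_true]
  intro o' o'' ho' ho'' hx' hx'' h
  obtain ⟨o', rfl⟩ := exists_smul a o'
  obtain ⟨o'', rfl⟩ := exists_smul a o''
  simp only [Set.mem_setOf_eq, smul_mem_octads, smul_mem_dodecads, ← Finset.smul_finset_inter, Finset.card_smul_finset, Finset.smul_mem_smul_finset_iff] at ho' ho'' h hx' hx''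
  obtain ⟨g, h1, h2⟩ := conjC cf_ok (le_inf (gen_le_stabP cf_ok 23 (by norm_num) (by decide +kernel)) (gen_le_stabS cf_ok 13062145 (by decide +kernel))) 8 8388608 8388608 13062145 0 8 kV kR
    (by norm_num) (by decide +kernel) ho'.1 ho''.1 ho'.2 ho''.2 (J1.mpr hx') (J1.mpr hx'') h
    (by simp only [bset_zero_inter])
  exact ⟨_, (a * g * a⁻¹).2, cj_pt a h1.1, cj_set a h1.2, cj_set a h2⟩

end Cfsg.Agent.S1607
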