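import Cfsg.Statements.S5600
import Cfsg.Agent.Lib.Spor.Six

set_option autoImplicit false
open scoped Pointwise
open Cfsg

namespace Cfsg.Agent.S5600

set_option linter.unusedSectionVars false
set_option linter.unusedVariables false
set_option linter.style.haveILetI false
set_option linter.unusedSimpArgs false

open Cfsg.Agent.Spor Cfsg.Agent.PC MulAction Finset
theorem c1 : (bset 8605697).card = 6 := by rw [card_bset]; decide +kernel
theorem c2 : (bset 8474627).card = 6 := by rw [card_bset]; decide +kernel
theorem i1 : InO (bset 8605697) := ⟨_, O1_mem, (bset_subset_iff (by norm_num)).2 (by decide +kernel)⟩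
theorem i2 : ¬ InO (bset 8474627) := mt (mw_six (by norm_num) c2).1.1 (by decide +kernel)

/-- Although the group of the length-24 code is only 5-transitive on the 24 points, it induces the full symmetric group on every 6-element subset: every permutation of a 6-set E is the restriction of an element of the group mapping E to itself. The pointwise stabiliser of E has order 16 when E lies in an octad and order 3 otherwise; in the latter case the setwise stabiliser of E has order 2160. -/
theorem result (E : Finset Cfsg.GolayPt) (hE : E.card = 6) : (∀ σ : Equiv.Perm ↥E, ∃ g ∈ Cfsg.M24, ∀ p : ↥E, g p = σ p) ∧ ((∃ o ∈ Cfsg.octads, E ⊆ o) → Nat.card {g : Equiv.Perm Cfsg.GolayPt // g ∈ Cfsg.M24 ∧ ∀ p ∈ E, g p = p} = 16) ∧ ((¬ ∃ o ∈ Cfsg.octads, E ⊆ o) → Nat.card {g : Equiv.Perm Cfsg.GolayPt // g ∈ Cfsg.M24 ∧ ∀ p ∈ E, g p = p} = 3 ∧ Nat.card ↥(MulAction.stabilizer Cfsg.M24 E) = 2160) := by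
  refine ⟨fun σ => ?_, fun h => ?_, fun h => ?_⟩
  · obtain ⟨g, hg⟩ := agree6 (Equiv.Perm.ofSubtype σ) hE.le (by
      rw [eq_of_subset_of_card_le (s := Equiv.Perm.ofSubtype σ • E) (t := E) (fun x hx => by
        obtain ⟨y, hy, rfl⟩ := mem_smul_finset.1 hx
        rw [Equiv.Perm.smul_def, Equiv.Perm.ofSubtype_apply_of_mem σ hy]; exact (σ _).2) (card_smul_finset _ _).ge])
    exact ⟨g, g.2, fun p => (hg p p.2).trans (Equiv.Perm.ofSubtype_apply_coe σ p)⟩
  · obtain ⟨a, rfl⟩ := mapSet6 c1.le (c1.trans hE.symm) (iff_of_true i1 h)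
    exact (card_M24_sub fun g => ∀ p ∈ _, g p = p).trans ((card_conj a fun g => fix_conj a g _).trans
      (full2.card _ (prF_ok _) (fun _ _ a => a.fix_iff _) (by decide +kernel)))
  · obtain ⟨a, rfl⟩ := mapSet6 c2.le (c2.trans hE.symm) (iff_of_false i2 h)
    refine ⟨(card_M24_sub fun g => ∀ p ∈ _, g p = p).trans ((card_conj a fun g => fix_conj a g _).trans
      (full1.card _ (prF_ok _) (fun _ _ a => a.fix_iff _) (by decide +kernel))), ?_⟩
    rw [← Nat.card_congr (conjEquiv a fun b => conj_mem_stab a b _).toEquiv]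
    exact (card_sub fun g => by simp).trans (full1.cardS [(8474627, 8474627)] (by decide) (by decide +kernel))

end Cfsg.Agent.S5600
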