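import Cfsg.Statements.S1609
import Mathlib
import Cfsg.Agent.S5600
import Cfsg.Agent.Lib.Steiner.Aut

set_option autoImplicit false
open scoped Pointwise
open Cfsg

namespace Cfsg.Agent.S1609

open Cfsg.Agent.Spor Cfsg.Agent.PC Cfsg.Agent.Steiner MulAction Finset

def fx (E : Finset GolayPt) : Subgroup M24 := fixingSubgroup M24 (E : Set GolayPt)

theorem mem_fx {E : Finset GolayPt} {g : M24} : g ∈ fx E ↔ ∀ p ∈ E, g • p = p := mem_fixingSubgroup_iff M24

theorem fx_insert (a : GolayPt) (E : Finset GolayPt) : fx (insert a E) = fx E ⊓ stabilizer M24 a := Subgroup.ext fun g => by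
  simp only [mem_fx, Subgroup.mem_inf, mem_stabilizer_iff, forall_mem_insert, and_comm]

theorem fin24 : Finite M24 := Nat.finite_of_card_ne_zero (by rw [card_M24]; decide)

theorem cfx (E : Finset GolayPt) : E.card ≤ 5 → Nat.descFactorial 24 E.card * Nat.card (fx E) = 244823040 := by
  induction E using Finset.induction_on with
  | empty =>
    intro _
    rw [show fx ∅ = ⊤ from eq_top_iff.2 fun g _ => mem_fx.2 (by simp), Subgroup.card_top, card_M24]; rfl
  | insert a E ha ih =>
    rw [card_insert_of_notMem ha]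
    intro h
    have o : orbit (fx E) a = (Eᶜ : Finset GolayPt) := Set.ext fun y => by
      rw [mem_coe, mem_compl]
      constructor
      · rintro ⟨g, rfl⟩ hy
        have := mem_fx.1 g.2 _ hy
        exact ha ((smul_left_cancel g.1 this : (g.1 • a : GolayPt) = a) ▸ hy)
      · intro hy
        obtain ⟨g, h1, h2⟩ := exists_fix E (k := 1) (by omega) (fun _ => a) (fun _ => y) (Function.injective_of_subsingleton _)
          (Function.injective_of_subsingleton _) (fun _ => ha) fun _ => hy
        exact ⟨⟨g, mem_fx.2 h1⟩, h2 0⟩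
    have k := card_eq_orbit_mul (fx E) a
    rw [o, Set.ncard_coe_finset, card_compl, show Fintype.card GolayPt = 24 from rfl] at k
    rw [← ih (by omega), k, fx_insert, Nat.descFactorial_succ]
    ring

def Iv (K : Subgroup M24) (D : Finset GolayPt) : Prop := ∀ g ∈ K, ∀ y ∈ D, g • y ∈ D

theorem Iv.sd {K : Subgroup M24} {D E : Finset GolayPt} (h : Iv K D) (h' : Iv K E) : Iv K (D \ E) := fun g hg y hy =>
  mem_sdiff.2 ⟨h g hg y (mem_sdiff.1 hy).1, fun e => (mem_sdiff.1 hy).2 (by simpa using h' _ (inv_mem hg) _ e)⟩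

theorem iv_fx {K : Subgroup M24} {E : Finset GolayPt} (h : K ≤ fx E) : Iv K E := fun g hg y hy => by
  rwa [mem_fx.1 (h hg) y hy]

theorem orb {K : Subgroup M24} {D : Finset GolayPt} (h : Iv K D) {a : GolayPt} (ha : a ∈ D) :
    ∃ E ⊆ D, a ∈ E ∧ Iv K E ∧ Nat.card K = E.card * Nat.card ↥(K ⊓ stabilizer M24 a) := by
  refine ⟨(orbit K a).toFinite.toFinset, fun y hy => ?_, ?_, fun g hg y hy => ?_, ?_⟩
  · obtain ⟨g, rfl⟩ := (Set.Finite.mem_toFinset _).1 hy
    exact h g g.2 a ha
  · exact (Set.Finite.mem_toFinset _).2 (mem_orbit_self a)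
  · rw [Set.Finite.mem_toFinset] at hy ⊢
    exact mem_orbit_of_mem_orbit (⟨g, hg⟩ : K) hy
  · rw [← Set.ncard_eq_toFinset_card]; exact card_eq_orbit_mul K a

theorem chain {K : Subgroup M24} {D : Finset GolayPt} (h : Iv K D) (T : Finset GolayPt) :
    T ⊆ D → Nat.card K ≤ D.card.descFactorial T.card * Nat.card ↥(K ⊓ fx T) := by
  induction T using Finset.induction_on with
  | empty =>
    intro _
    rw [show fx ∅ = ⊤ from eq_top_iff.2 fun g _ => mem_fx.2 (by simp), inf_top_eq]; simp
  | insert a T ha ih =>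
    intro s
    have s' := (subset_insert a T).trans s
    obtain ⟨E, e1, -, -, e⟩ := orb (K := K ⊓ fx T) (Iv.sd (fun g hg => h g hg.1) (iv_fx inf_le_right))
      (mem_sdiff.2 ⟨s (mem_insert_self a T), ha⟩)
    have := card_le_card e1
    rw [card_sdiff_of_subset s'] at this
    rw [card_insert_of_notMem ha, Nat.descFactorial_succ, fx_insert, ← inf_assoc, mul_comm (D.card - T.card), mul_assoc]
    exact (ih s').trans (Nat.mul_le_mul_left _ (e ▸ Nat.mul_le_mul_right _ this))

theorem le_fx {K : Subgroup M24} {S T : Finset GolayPt} (h : K ≤ fx S) : K ⊓ fx T ≤ fx (S ∪ T) := fun g hg =>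
  mem_fx.2 fun p hp => (mem_union.1 hp).elim (mem_fx.1 (h hg.1) p) (mem_fx.1 hg.2 p)

/-- bound through the pointwise stabilizer of at most five points -/
theorem bd {K : Subgroup M24} {S D : Finset GolayPt} (hS : K ≤ fx S) (h : Iv K D) (d : Disjoint S D) (t : ℕ) (ht : t ≤ D.card)
    (h5 : S.card + t ≤ 5) : Nat.card K ≤ D.card.descFactorial t * (244823040 / Nat.descFactorial 24 (S.card + t)) := by
  haveI := fin24
  obtain ⟨T, s, rfl⟩ := exists_subset_card_eq ht
  have c := card_union_of_disjoint (d.mono_right s)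
  rw [← c] at h5 ⊢
  rw [← cfx _ h5, Nat.mul_div_cancel_left _ (Nat.descFactorial_pos.2 (by omega))]
  exact (chain h T s).trans (Nat.mul_le_mul_left _ (Subgroup.card_le_of_le (le_fx hS)))

/-- a set with a point outside the octad through five points -/
theorem b6 {K : Subgroup M24} {S D : Finset GolayPt} (hS : K ≤ fx S) (h : Iv K D) (d : Disjoint S D) (t : ℕ) (ht : t ≤ D.card)
    (h5 : S.card + t = 5) : (∃ o ∈ octads, S ∪ D ⊆ o) ∨
      ∃ c, c ∣ 3 ∧ c ∣ Nat.card K ∧ Nat.card K ≤ D.card.descFactorial (t + 1) * c := by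
  obtain ⟨T, s, rfl⟩ := exists_subset_card_eq ht
  have c := card_union_of_disjoint (d.mono_right s)
  obtain ⟨o, ⟨ho, so⟩, uo⟩ := steiner_octads.2 _ (c.trans h5)
  by_cases e : D ⊆ o
  · exact .inl ⟨o, ho, union_subset (subset_union_left.trans so) e⟩
  obtain ⟨p, hp, np⟩ := not_subset.1 e
  have nT : p ∉ S ∪ T := fun h => np (so h)
  have c3 := (((S5600.result (insert p (S ∪ T)) (by rw [card_insert_of_notMem nT, c, h5])).2.2 fun ⟨o', ho', so'⟩ =>
    np (uo o' ⟨ho', (subset_insert _ _).trans so'⟩ ▸ so' (mem_insert_self _ _))).1.symm.trans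
    (card_M24_sub fun g => ∀ q ∈ insert p (S ∪ T), g q = q)).symm
  have c4 : Nat.card (fx (S ∪ insert p T)) = 3 := by
    rw [union_insert, ← c3]
    exact Nat.card_congr (Equiv.subtypeEquivRight fun g => mem_fx)
  have := chain h (insert p T) (insert_subset hp s)
  rw [card_insert_of_notMem fun h => nT (mem_union_right _ h)] at this
  exact .inr ⟨_, c4 ▸ Subgroup.card_dvd_of_le (le_fx hS), Subgroup.card_dvd_of_le inf_le_left, this⟩

theorem st_iv {K : Subgroup M24} {D : Finset GolayPt} (h : Iv K D) : K ≤ stabilizer M24 D := fun g hg =>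
  eq_of_subset_of_card_le (fun y hy => by
    obtain ⟨z, hz, rfl⟩ := mem_smul_finset.1 hy
    exact h g hg z hz) (card_smul_finset g D).ge

theorem iv_st (D : Finset GolayPt) (x : GolayPt) : Iv (stabilizer M24 D ⊓ fx {x}) D := fun g hg y hy => by
  have : g • D = D := hg.1
  rw [← this]; exact smul_mem_smul_finset hy

theorem key {x : GolayPt} {K : Subgroup M24} (hx : K ≤ fx {x}) (c : Nat.card K = 40320) :
    (∃ s : Finset GolayPt, s.card = 2 ∧ x ∉ s ∧ Iv K s) ∨ ∃ o ∈ octads, x ∈ o ∧ Iv K o := by
  by_contra n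
  have u : Iv K univ := fun _ _ _ _ => mem_univ _
  have c24 : (univ : Finset GolayPt).card = 24 := rfl
  have m : ∀ D : Finset GolayPt, Iv K D → x ∉ D → D.Nonempty → ∃ E ⊆ D, Iv K E ∧ 10 ≤ E.card ∧ E.card ∣ 40320 := by
    rintro D hD hxD ⟨a, ha⟩
    obtain ⟨E, e1, e2, e3, e4⟩ := orb hD ha
    have d : Disjoint {x} E := disjoint_singleton_left.2 fun h => hxD (e1 h)
    refine ⟨E, e1, e3, ?_, c ▸ Dvd.intro _ e4.symm⟩
    by_contra l
    have p := card_pos.2 ⟨a, e2⟩
    have b := fun t h1 h2 => c ▸ bd hx e3 d t h1 h2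
    have b' := fun h1 => b6 hx e3 d 4 h1 rfl
    rw [card_singleton] at b
    rw [c] at b' e4
    have oc : ∀ o ∈ octads, {x} ∪ E ⊆ o → 7 ≤ E.card → False := fun o ho so l7 => by
      have := card_union_of_disjoint d
      rw [card_singleton] at this
      have e := eq_of_subset_of_card_le so (by rw [this, ho.2]; omega)
      exact n (.inr ⟨o, ho, so (mem_union_left _ (mem_singleton_self x)), e ▸ fun g hg y hy =>
        (mem_union.1 hy).elim (fun h => mem_union_left _ (iv_fx hx g hg y h)) fun h => mem_union_right _ (e3 g hg y h)⟩)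
    obtain h | h | h | h | h | h | h | h | h : E.card = 1 ∨ E.card = 2 ∨ E.card = 3 ∨ E.card = 4 ∨ E.card = 5 ∨ E.card = 6 ∨
      E.card = 7 ∨ E.card = 8 ∨ E.card = 9 := by omega
    · obtain ⟨a', rfl⟩ := card_eq_one.1 h
      have hS : K ≤ fx ({x} ∪ {a'}) := fun g hg => mem_fx.2 fun q hq => (mem_union.1 hq).elim (mem_fx.1 (hx hg) q) fun h => by
        rw [mem_singleton.1 h]; exact mem_singleton.1 (e3 g hg _ (mem_singleton_self _))
      have c2 : ({x} ∪ {a'} : Finset GolayPt).card = 2 := card_union_of_disjoint d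
      have i := u.sd (iv_fx hS)
      have ci : (univ \ ({x} ∪ {a'}) : Finset GolayPt).card = 22 := by rw [card_sdiff_of_subset (subset_univ _), c2, c24]
      obtain ⟨y, hy⟩ := card_pos.1 (show 0 < (univ \ ({x} ∪ {a'}) : Finset GolayPt).card by omega)
      obtain ⟨F, f1, f2, f3, f4⟩ := orb i hy
      have q : ∀ F ⊆ univ \ ({x} ∪ {a'}), Iv K F → 0 < F.card → F.card ≤ 10 → False := fun F f1 f3 l1 l2 => by
        have b := fun t h1 h2 => c ▸ bd hS f3 (disjoint_sdiff.mono_right f1) t h1 h2
        rw [c2] at b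
        have := b (min 3 F.card) (min_le_right _ _) (by omega)
        revert this
        generalize F.card = k at l1 l2
        interval_cases k <;> decide
      have l1 := card_pos.2 ⟨y, f2⟩
      have l2 := card_le_card f1
      have l3 := card_sdiff_of_subset f1
      have dv : F.card ∣ 40320 := c ▸ Dvd.intro _ f4.symm
      have : F.card ≠ 11 := fun e => absurd (e ▸ dv) (by decide)
      have : F.card ≠ 22 := fun e => absurd (e ▸ dv) (by decide)
      by_cases l : F.card ≤ 10
      · exact q F f1 f3 l1 l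
      · exact q _ sdiff_subset (i.sd f3) (by omega) (by omega)
    · exact n (.inl ⟨E, h, fun h => hxD (e1 h), e3⟩)
    · exact absurd (h ▸ b 3 (by omega) (by omega)) (by decide)
    · exact absurd (h ▸ b 4 (by omega) (by omega)) (by decide)
    · exact absurd (h ▸ b 4 (by omega) (by omega)) (by decide)
    · exact absurd (h ▸ b 4 (by omega) (by omega)) (by decide)
    · obtain ⟨o, ho, so⟩ | ⟨k, k1, -, k2⟩ := b' (by omega)
      · exact oc o ho so (by omega)
      · have := Nat.le_of_dvd (by decide) k1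
        rw [h, show Nat.descFactorial 7 (4 + 1) = 2520 by decide] at k2
        omega
    · obtain ⟨o, ho, so⟩ | ⟨k, k1, -, k2⟩ := b' (by omega)
      · exact oc o ho so (by omega)
      · have := Nat.le_of_dvd (by decide) k1
        rw [h, show Nat.descFactorial 8 (4 + 1) = 6720 by decide] at k2
        omega
    · have c1 : Nat.card ↥(K ⊓ stabilizer M24 a) = 4480 := by rw [h] at e4; omega
      have hS : K ⊓ stabilizer M24 a ≤ fx (insert a {x}) := fx_insert a {x} ▸ inf_le_inf_right _ hx
      have ax : a ∉ ({x} : Finset GolayPt) := disjoint_right.1 d e2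
      have i : Iv (K ⊓ stabilizer M24 a) (E \ insert a {x}) := Iv.sd (fun g hg => e3 g hg.1) (iv_fx hS)
      have ce : (E \ insert a {x}).card = 8 := by
        rw [sdiff_insert, sdiff_eq_self_of_disjoint d.symm, card_erase_of_mem e2, h]
      obtain ⟨o, ho, so⟩ | ⟨k, k1, k3, k2⟩ := b6 hS i disjoint_sdiff 3 (by omega) (by rw [card_insert_of_notMem ax, card_singleton])
      · have := card_le_card so
        rw [card_union_of_disjoint disjoint_sdiff, ce, ho.2, card_insert_of_notMem ax] at this
        omega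
      · rw [c1] at k2 k3
        rw [ce, show Nat.descFactorial 8 (3 + 1) = 1680 by decide] at k2
        rcases (Nat.dvd_prime Nat.prime_three).1 k1 with rfl | rfl
        · omega
        · exact absurd k3 (by decide)
  have i := u.sd (iv_fx hx)
  have ci : (univ \ {x} : Finset GolayPt).card = 23 := by rw [card_sdiff_of_subset (subset_univ _), card_singleton, c24]
  have nx : x ∉ (univ \ {x} : Finset GolayPt) := by simp
  obtain ⟨D, d1, d2, d3, d4⟩ := m _ i nx (card_pos.1 (by omega))
  have := card_le_card d1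
  have l1 := card_sdiff_of_subset d1
  have : D.card ≠ 23 := fun e => absurd (e ▸ d4) (by decide)
  obtain ⟨E, e1, e2, e3, e4⟩ := m _ (i.sd d2) (fun h => nx (sdiff_subset h)) (card_pos.1 (by omega))
  have := card_le_card e1
  have l2 := card_sdiff_of_subset e1
  have : D.card ≠ 11 := fun e => absurd (e ▸ d4) (by decide)
  have : D.card ≠ 13 := fun e => absurd (e ▸ d4) (by decide)
  have : E.card ≠ 11 := fun e => absurd (e ▸ e4) (by decide)
  have : E.card ≠ 13 := fun e => absurd (e ▸ e4) (by decide)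
  obtain ⟨F, f1, -, f3, -⟩ := m _ ((i.sd d2).sd e2) (fun h => nx (sdiff_subset (sdiff_subset h))) (card_pos.1 (by omega))
  have := card_le_card f1
  omega

/-- Subgroups of index 253 in the Mathieu group of degree 23 are exactly the duad stabilisers and the heptad stabilisers. -/
theorem result (x : Cfsg.GolayPt) (H : Subgroup ↥(MulAction.stabilizer Cfsg.M24 x)) (hH : H.index = 253) : (∃ s : Finset Cfsg.GolayPt, s.card = 2 ∧ x ∉ s ∧ H = (MulAction.stabilizer Cfsg.M24 s).subgroupOf (MulAction.stabilizer Cfsg.M24 x)) ∨ ∃ o ∈ Cfsg.octads, x ∈ o ∧ H = (MulAction.stabilizer Cfsg.M24 o).subgroupOf (MulAction.stabilizer Cfsg.M24 x) := by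
  haveI := fin24
  have sx : fx {x} = stabilizer M24 x := Subgroup.ext fun g => by simp [mem_fx]
  have c0 := cfx {x} (by simp)
  have c1 := H.index_mul_card
  rw [sx, card_singleton, Nat.descFactorial_one] at c0
  have c : Nat.card (H.map (stabilizer M24 x).subtype) = 40320 := by
    rw [Subgroup.card_map_of_injective Subtype.val_injective]
    rw [hH] at c1
    omega
  have f : ∀ D : Finset GolayPt, Iv (H.map (stabilizer M24 x).subtype) D → Nat.card ↥(stabilizer M24 D ⊓ fx {x}) ≤ 40320 →
      H = (stabilizer M24 D).subgroupOf (stabilizer M24 x) := fun D i l => by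
    refine Subgroup.map_injective (f := (stabilizer M24 x).subtype) Subtype.val_injective ?_
    rw [Subgroup.subgroupOf_map_subtype]
    exact Subgroup.eq_of_le_of_card_ge (le_inf (st_iv i) (Subgroup.map_subtype_le H)) (c ▸ sx ▸ l)
  obtain ⟨s, h1, h2, h3⟩ | ⟨o, h1, h2, h3⟩ := key (x := x) (by rw [sx]; exact Subgroup.map_subtype_le H) c
  · refine .inl ⟨s, h1, h2, f s h3 ?_⟩
    have := bd inf_le_right (iv_st s x) (disjoint_singleton_left.2 h2) 2 h1.ge (by simp)
    rwa [h1, card_singleton] at this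
  · refine .inr ⟨o, h1, h2, f o h3 ?_⟩
    have e : (o \ {x}).card = 7 := by rw [card_sdiff_of_subset (singleton_subset_iff.2 h2), h1.2, card_singleton]
    have := bd inf_le_right ((iv_st o x).sd (iv_fx inf_le_right)) disjoint_sdiff 4 (by omega) (by simp)
    rwa [e, card_singleton] at this

end Cfsg.Agent.S1609
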