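import Cfsg.Statements.S1610
import Cfsg.Agent.Lib.Steiner.Hexa

set_option autoImplicit false
open Cfsg

namespace Cfsg.Agent.S1610

set_option linter.unusedSectionVars false
set_option linter.unusedVariables false
set_option linter.style.haveILetI false
set_option linter.unusedSimpArgs false

open Cfsg.Agent.Steiner
set_option maxRecDepth 100000

/-- The hexacode has 64 words, minimum weight 4, and weight distribution 0^1 4^45 6^18. -/
theorem result (F : Type*) [Field F] [Fintype F] [DecidableEq F] (hF : Fintype.card F = 4) (ω : F) (hω : ω ^ 2 + ω + 1 = 0) : Nat.card ↥(Cfsg.hexacode F ω) = 64 ∧ (∀ x ∈ Cfsg.hexacode F ω, x ≠ 0 → (Finset.univ.filter fun i => x i ≠ 0).card = 4 ∨ (Finset.univ.filter fun i => x i ≠ 0).card = 6) ∧ {x : Fin 6 → F | x ∈ Cfsg.hexacode F ω ∧ (Finset.univ.filter fun i => x i ≠ 0).card = 4}.ncard = 45 ∧ {x : Fin 6 → F | x ∈ Cfsg.hexacode F ω ∧ (Finset.univ.filter fun i => x i ≠ 0).card = 6}.ncard = 18 := by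
  refine ⟨?_, fun x hx' h => ?_, ?_, ?_⟩
  · have := hexa_count hF hω (fun _ => True) (fun _ => True) (by simp)
    simp only [and_true] at this
    exact (Nat.card_coe_set_eq _).trans (this.trans (by simp))
  · obtain ⟨a, b, c, rfl⟩ := (mem_hexa hF hω).mp hx'
    rw [hexa_wt hF hω]
    have : ∀ a b c, (∀ i, hx a b c i = 0) ∨ (Finset.univ.filter fun i => hx a b c i ≠ 0).card = 4 ∨
      (Finset.univ.filter fun i => hx a b c i ≠ 0).card = 6 := by decide +kernel
    exact (this a b c).resolve_left fun h0 => h (funext fun i => by rw [h0]; rfl)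
  · rw [hexa_count hF hω (fun x => (Finset.univ.filter fun i => x i ≠ 0).card = 4)
      (fun a => (Finset.univ.filter fun i => hx a.1 a.2.1 a.2.2 i ≠ 0).card = 4) fun a b c => by
        rw [hexa_wt hF hω]]
    decide +kernel
  · rw [hexa_count hF hω (fun x => (Finset.univ.filter fun i => x i ≠ 0).card = 6)
      (fun a => (Finset.univ.filter fun i => hx a.1 a.2.1 a.2.2 i ≠ 0).card = 6) fun a b c => by
        rw [hexa_wt hF hω]]
    decide +kernel

end Cfsg.Agent.S1610
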