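import Cfsg.Statements.S1611
import Cfsg.Agent.Lib.Steiner.Hexa

set_option autoImplicit false
open Cfsg

namespace Cfsg.Agent.S1611

set_option linter.unusedSectionVars false
set_option linter.unusedVariables false
set_option linter.style.haveILetI false
set_option linter.unusedSimpArgs false

open Cfsg.Agent.Steiner

/-- The monomial automorphism group of the hexacode has order 1080: its diagonal part is the scalars and its permutation parts form the alternating group of degree 6. -/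
theorem result (F : Type*) [Field F] [Fintype F] [DecidableEq F] (hF : Fintype.card F = 4) (ω : F) (hω : ω ^ 2 + ω + 1 = 0) : Nat.card {f : Equiv.Perm (Fin 6) × (Fin 6 → Fˣ) // (∀ x ∈ Cfsg.hexacode F ω, Cfsg.monomialMap f.1 f.2 x ∈ Cfsg.hexacode F ω)} = 1080 ∧ (∀ c : Fin 6 → Fˣ, (∀ x ∈ Cfsg.hexacode F ω, Cfsg.monomialMap 1 c x ∈ Cfsg.hexacode F ω) → ∀ i j, c i = c j) ∧ {σ : Equiv.Perm (Fin 6) | ∃ c : Fin 6 → Fˣ, (∀ x ∈ Cfsg.hexacode F ω, Cfsg.monomialMap σ c x ∈ Cfsg.hexacode F ω)} = (alternatingGroup (Fin 6) : Set (Equiv.Perm (Fin 6))) := by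
  refine ⟨?_, hexa_diag hF hω,
    congrArg (fun H : Subgroup (Equiv.Perm (Fin 6)) => (H : Set (Equiv.Perm (Fin 6)))) (mon_hexa hF hω)⟩
  have h2 : Nat.card {c : Fin 6 → Fˣ // ∀ x ∈ hexacode F ω, monomialMap 1 c x ∈ hexacode F ω} = Nat.card Fˣ := by
    refine Nat.card_congr ⟨fun c => c.1 0, fun u => ⟨fun _ => u, fun x hx => ?_⟩,
      fun c => Subtype.ext (funext fun i => hexa_diag hF hω c.1 c.2 0 i), fun _ => rfl⟩
    exact Submodule.smul_mem _ (u : F) hx
  have h3 := two_mul_nat_card_alternatingGroup (α := Fin 6)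
  rw [Nat.card_perm, Nat.card_fin] at h3
  rw [card_pairs, h2, mon_hexa hF hω, Nat.card_units, Nat.card_eq_fintype_card (α := F), hF]
  simp only [Nat.factorial] at h3
  omega

end Cfsg.Agent.S1611
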