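import Cfsg.Statements.S1612
import Cfsg.Agent.Lib.Tr3.Rank

set_option autoImplicit false
open Cfsg

namespace Cfsg.Agent.S1612

set_option linter.unusedSectionVars false
set_option linter.unusedVariables false
set_option linter.style.haveILetI false
set_option linter.unusedSimpArgs false

open Cfsg.Agent.Tr3 Cfsg.Agent.Comp Subgroup

/-- In a 3-transposition group (no solvable normal subgroup, perfect derived group), the normaliser of a commuting set of transpositions of maximum size contains a Sylow 2-subgroup and is doubly transitive on the set. -/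
theorem result {G : Type*} [Group G] [Finite G] (hsol : ∀ N : Subgroup G, N.Normal → Group.IsSolvable ↥N → N = ⊥) (hperf : ⁅commutator G, commutator G⁆ = commutator G) {D : Set G} (hD : Cfsg.IsThreeTranspositionClass D) {E : Set G} (hE : E ⊆ D) (hc : ∀ a ∈ E, ∀ b ∈ E, Commute a b) (hmax : ∀ E' : Set G, E' ⊆ D → (∀ a ∈ E', ∀ b ∈ E', Commute a b) → E'.ncard ≤ E.ncard) : (∃ P : Sylow 2 G, (P : Subgroup G) ≤ Subgroup.normalizer E) ∧ ∀ a ∈ E, ∀ b ∈ E, ∀ c ∈ E, ∀ d ∈ E, a ≠ b → c ≠ d → ∃ g ∈ Subgroup.normalizer E, g * a * g⁻¹ = c ∧ g * b * g⁻¹ = d := by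
  have h := pw_of_fischer hsol hperf hD
  have t := h.tt
  have hp : ∀ E : Set G, E ⊆ D → (∀ a ∈ E, ∀ b ∈ E, Commute a b) → IsPGroup 2 (closure E) := fun E hE hE' => by
    haveI := isMulCommutative_closure (G := G) (k := E) fun a ha b hb => hE' a ha b hb
    refine Comp.isPGroup_of_forall fun x hx => ⟨1, ?_⟩
    induction hx using closure_induction with
    | mem a ha => rw [pow_one, pow_two]; exact t.sq a (hE ha)
    | one => simp
    | mul a b ha hb h1 h2 =>
      have : Commute a b := congrArg Subtype.val (this.is_comm.comm ⟨a, ha⟩ ⟨b, hb⟩)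
      rw [this.mul_pow, h1, h2, one_mul]
    | inv a _ h1 => rw [inv_pow, h1, inv_one]
  have key : ∀ T : Subgroup G, IsPGroup 2 T → closure E ≤ T → E = {x | x ∈ D ∧ x ∈ T} := fun T hT h1 =>
    Set.eq_of_subset_of_ncard_le (fun x hx => ⟨hE hx, h1 (subset_closure hx)⟩) (hmax _ (fun x hx => hx.1) fun a ha b hb =>
      commute_of_mem t (p := 2) (by norm_num) hT ha.1 hb.1 (pow_mem (mul_mem ha.2 hb.2) 2))
  have nrm : ∀ g : G, (∀ x ∈ E, g * x * g⁻¹ ∈ E) → g ∈ normalizer E := fun g hg => by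
    have := Set.eq_of_subset_of_ncard_le (s := (fun x => g * x * g⁻¹) '' E) (t := E) (by rintro _ ⟨x, hx, rfl⟩; exact hg x hx)
      (Set.ncard_image_of_injective _ fun x y e => conj_inj'.1 e).ge
    refine mem_set_normalizer_iff.2 fun x => ⟨hg x, fun hx => ?_⟩
    obtain ⟨y, hy, e⟩ := this.symm.subset hx
    exact conj_inj'.1 e ▸ hy
  refine ⟨?_, fun a ha b hb c hc' d hd hab hcd => ?_⟩
  · obtain ⟨P, hP⟩ := (hp E hE hc).exists_le_sylow
    refine ⟨P, fun g hg => nrm g fun x hx => ?_⟩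
    rw [key P P.isPGroup' hP] at hx ⊢
    exact ⟨t.conj g x hx.1, mul_mem (mul_mem hg hx.2) (inv_mem hg)⟩
  obtain ⟨g, rfl⟩ := cls_conj hD (hE ha) (hE hc')
  obtain ⟨k, hk, rfl⟩ := h.transD (hE hc') ⟨t.conj g b (hE hb), fun e => hab (conj_inj'.1 e).symm,
    commute_conj_iff.2 (hc a ha b hb)⟩ ⟨hE hd, hcd.symm, hc _ hc' _ hd⟩
  have hk' := Fi.conj_eq_iff.2 (closure_comm (fun x hx => hx.2.2) k hk)
  let C := centralizer ({g * a * g⁻¹, k * (g * b * g⁻¹) * k⁻¹} : Set G)
  obtain ⟨T, h1, hT⟩ := exists_sylIn_ge (M := C) (hp E hE hc) ((closure_le _).2 fun x hx => mem_centralizer_iff.2 (by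
    rintro y (rfl | rfl)
    exacts [hc _ hc' x hx, hc _ hd x hx]))
  obtain ⟨m, hm, h2⟩ := hT.exists_cj_le (Q := cj(k * g, closure E)) (isPGroup_cj_iff.2 (hp E hE hc)) (by
    rw [MonoidHom.map_closure, closure_le]
    rintro _ ⟨x, hx, rfl⟩
    refine mem_centralizer_iff.2 ?_
    rintro y (rfl | rfl)
    · rw [← hk']
      simpa [mul_assoc] using (commute_conj_iff (g := k * g).2 (hc a ha x hx)).eq
    · simpa [mul_assoc] using (commute_conj_iff (g := k * g).2 (hc b hb x hx)).eq)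
  have m1 := Fi.conj_eq_iff.2 (mem_centralizer_iff.1 hm _ (Or.inl rfl)).symm
  have m2 := Fi.conj_eq_iff.2 (mem_centralizer_iff.1 hm _ (Or.inr rfl)).symm
  refine ⟨m * (k * g), nrm _ fun x hx => ?_, ?_, ?_⟩
  · rw [key T hT.isP h1]
    refine ⟨t.conj _ x (hE hx), ?_⟩
    simpa [mul_assoc] using h2 (conj_mem_cj.2 (conj_mem_cj.2 (subset_closure hx)))
  · rw [← m1]; nth_rw 1 [← hk']; group
  · rw [← m2]; group

end Cfsg.Agent.S1612
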