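import Cfsg.Statements.S1615
import Cfsg.Agent.Lib.Tr3.Sym5

set_option autoImplicit false
open Cfsg

namespace Cfsg.Agent.S1615

set_option linter.unusedSectionVars false
set_option linter.unusedVariables false
set_option linter.style.haveILetI false
set_option linter.unusedSimpArgs false

open Cfsg.Agent.Tr3 Subgroup

/-- If O(⟨D_x⟩) is not central in ⟨D_x⟩ for some transposition x, the 3-transposition group is the symmetric group of degree 5. -/
theorem result {G : Type*} [Group G] [Finite G] (hsol : ∀ N : Subgroup G, N.Normal → Group.IsSolvable ↥N → N = ⊥) (hperf : ⁅commutator G, commutator G⁆ = commutator G) {D : Set G} (hD : Cfsg.IsThreeTranspositionClass D) (x : G) (hx : x ∈ D) (h : ¬ Cfsg.oddCore ↥(Subgroup.closure {y : G | y ∈ D ∧ y ≠ x ∧ Commute x y}) ≤ Subgroup.center ↥(Subgroup.closure {y : G | y ∈ D ∧ y ≠ x ∧ Commute x y})) : Nonempty (G ≃* Equiv.Perm (Fin 5)) := by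
  have P := pw_of_fischer hsol hperf hD
  have t := P.tt
  set E := {y : G | y ∈ D ∧ y ≠ x ∧ Commute x y} with hE
  have t' : Fi.TT {y : closure E | (y : G) ∈ E} := tt_sub t (fun y hy => hy.1) fun g hg =>
    perp_conj t (closure_comm (fun x hx => hx.2.2) g hg)
  rw [le_center_iff (D := {y : closure E | (y : G) ∈ E}) (closure_closure_coe_preimage)] at h
  push Not at h
  obtain ⟨g, hg, y, hy, hn⟩ := h
  have hy' := t'.conj g y hy
  have key := RW_of_odd t' (N := Cfsg.oddCore (closure E)) (fun a ha h => Transfer.eq_one_of_odd_of_mul_self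
    (Transfer.odd_orderOf_of_mem Transfer.odd_card_oddCore ha) (by rwa [← pow_two])) hy hy' (mul_conj_mem t' hy hg)
  refine P.sym5 hx hy.1 hy'.1 hy.2.2 hy'.2.2 hy.2.1 (fun hc => ?_) fun e he h1 h2 h3 h4 => ?_
  · exact (key _ hy' ⟨fun e => hn (Fi.conj_eq_iff.1 e), Subtype.ext hc⟩).1 rfl
  · exact congrArg Subtype.val (key ⟨e, subset_closure ⟨he, h1, h2⟩⟩ ⟨he, h1, h2⟩
      ⟨fun e => h3 (congrArg Subtype.val e), Subtype.ext h4⟩).2

end Cfsg.Agent.S1615
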