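import Cfsg.Statements.S1622
import Cfsg.Agent.Lib.J2.Mod

set_option autoImplicit false
open Quaternion
open Cfsg

namespace Cfsg.Agent.S1622

set_option linter.unusedSectionVars false
set_option linter.unusedVariables false
set_option linter.style.haveILetI false
set_option linter.unusedSimpArgs false

/-- The reflection group is transitive on its 315 reflections by conjugation. -/
theorem result (f f' : Equiv.Perm ↥Cfsg.Spor.icoLeech) (hf : Cfsg.Spor.IsIcoReflection f) (hf' : Cfsg.Spor.IsIcoReflection f') : ∃ g ∈ Cfsg.Spor.twoJ2, g * f * g⁻¹ = f' := by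
  obtain ⟨i, hi, rfl⟩ := J2.refl_eq.le hf
  obtain ⟨j, hj, rfl⟩ := J2.refl_eq.le hf'
  obtain ⟨a, ha⟩ := J2.pt_trans hi
  obtain ⟨b, hb⟩ := J2.pt_trans hj
  have : (b * a⁻¹) * J2.rr i * (b * a⁻¹)⁻¹ = J2.rr j := by rw [← ha, ← hb]; group
  exact ⟨_, (b * a⁻¹).2, congrArg Subtype.val this⟩

end Cfsg.Agent.S1622
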