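import Cfsg.Statements.S1630
import Cfsg.Agent.Lib.Tr3.Clas
import Cfsg.Agent.Lib.Classical.F2

set_option autoImplicit false
open scoped MatrixGroups
open Cfsg

namespace Cfsg.Agent.S1630

set_option linter.unusedSectionVars false
set_option linter.unusedVariables false
set_option linter.style.haveILetI false
set_option linter.unusedSimpArgs false

open Cfsg.Agent.Tr3 Cfsg.Agent.Classical

/-- The orthogonal transvections of the minus-type orthogonal group in dimension ≥ 6 over the field with two elements form a generating conjugacy class of 3-transpositions. -/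
theorem result (m : ℕ) (hm : 2 ≤ m) : Cfsg.IsThreeTranspositionClass {g : ↥(Cfsg.isometryGroup (ZMod 2) (Cfsg.quadFormMinus m (ZMod 2) 1 1)) | (((g : GL ((Fin m ⊕ Fin m) ⊕ Fin 2) (ZMod 2)) : Matrix ((Fin m ⊕ Fin m) ⊕ Fin 2) ((Fin m ⊕ Fin m) ⊕ Fin 2) (ZMod 2)) - 1).rank = 1} := by
  refine cls_equiv (orthEquiv (minusForm m (ZMod 2) 1 1)) (fun g => ?_)
    (cls_orth2 (minusForm_nondeg m F2.aniso11) (by simp; omega))
  exact (rank_sub_one (orthEquiv_apply (minusForm m (ZMod 2) 1 1) g)).congr_left

end Cfsg.Agent.S1630
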