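import Cfsg.Statements.S1633
import Mathlib
import Cfsg.Agent.Lib.Perm.LeeE
import Cfsg.Agent.Lib.J2.U35
import Cfsg.Agent.Lib.Spor.Iso2
import Cfsg.Agent.Lib.Leech.Co3
import Cfsg.Agent.S0280

set_option autoImplicit false
open Cfsg

namespace Cfsg.Agent.S1633

open Cfsg.Agent.PC Cfsg.Agent.Fi Cfsg.Agent.Ct Cfsg.Agent.Ct.Lee Cfsg.Agent.Leech MulAction Cfsg.Agent.Perm.LeeE
open Cfsg.Agent.J2 (su_reps su_inj bs_reps bs_inj)
open scoped Pointwise

def U (j : ℕ) : ℕ := get1 (nat_lit 0x779799777979999577977799888688666a6888888888868aa88868868a8a88a8aa8888889997797979777b7979779999868a6868a8a888888a68888899995797777779999777797988aa8a68888888a66888688888aa686888868a8a8868888866a868868886888a88888688888866688888a888a888a6a888a888866886688a8868886888aa6888888868aa8888866897799799799979979999b79988868aa88866888a8a8888869997997779997b7777977999888a66a8a6868888a888888868a8888888868a6a688888a88a8a86a688a88888a88888a88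a888888a88a88aa888686a8779999977977799757997779668888a88866888688a888687799977979b97997799797799799779977757979977999776888866a88a8888a8888a6886a868886888aa8a8888888687997777577799997979797999999799977799997b799999799997995799977799997779979797999799577979999999786a88a8888888688a68868a879957997999797999979997788888a868a866688a88888a868688a8688668888868888a89979997777777795979997797797797799777979979777b788868a8888868868a6888aa8997999799799997799b79979977979977779797b777797978aa888868a8aa8888a886888868aaa8a888686888688888879799995997777797977779988aaaa8aa8688886888888889b979999777977777779999968868886a888a88a88868a88666888888888a88a868688687b77797999979977999779799579997799977779979777978a688868888668668888888a) (nat_lit 2304) (2 ^ 2304 - 1) j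
def R (j : ℕ) : ℕ := get1 (nat_lit 0x87bb47346f6850864c5f5d0f007f75188da7f6ee107b8bf77be6755081c8252ced62b605b2178aea276ee067e2248caacb87dbe6b5c640fb71b58b1b9cf3a0fb22e41ba7e0d3f2a8757e8e10ca840d744c53be6db3d19e92736efeaca06356a0cc3a15b1ff29d433a2580e4039ba0fe3518109fe2a2511ef2eee03d990928576110d51e065206895b2aa1c27034863ed) (nat_lit 576) (2 ^ 576 - 1) j
def σ (j : ℕ) : ℕ := get1 (nat_lit 0x1a99e9b018ada84ae27697df244fd38e58798079cfb54366e5e7d84a04e1e4bd4168577021c6aadf6a0a27ac27d50de9d4bdc139c76760a24ba126a0a3dd526ba816848d56d576c004cf5ec917e389994f44aa7792f2a72bd7025020bb0602601c37ca06cf5ed1fb5a00ea3f96e2a7807e5e3ab55f5969dda499e3a6dd52e73c58f727ae849f4e08a637bfe6c107bf18d99718679ecd) (nat_lit 24) (nat_lit 16777215) j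
theorem ok : ∀ j < 2, okE U R j = 0 := upTo_beq (by decide +kernel)
def x0 : L := lv 0x888a88aaaaa8888888888a8a (by decide +kernel)
theorem h0 : x0 ∈ T16 ∧ o16 x0 = 0 := ⟨⟨by decide +kernel, by decide +kernel⟩, by decide +kernel⟩

theorem c0 {x : L} (h : x ∈ T16 ∧ o16 x = 0) : Nat.card ↥(KHS ⊓ stabilizer Co0 x) = 126000 := by
  have k := card_eq_orbit_mul KHS x
  rw [KHS_simple.2, orbit16' h.1, h.2, cnt16 0 (by decide), show s16 0 = 352 from rfl] at k
  omega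

theorem iso0 (F : Type) [Field F] [Fintype F] (hF : Fintype.card F = 25) :
    Nonempty (↥(KHS ⊓ stabilizer Co0 x0) ≃* PSU 3 F 5) ∧ Nat.card (PSU 3 F 5) = 126000 := by
  obtain ⟨f⟩ := exK (K := U35.K25) rfl hF
  have cd : Nat.card (PSU 3 F 5) = 126000 := by
    have := S0280.result (q := 5) hF 3 (by decide)
    norm_num [Fin.prod_univ_succ, Finset.prod_range_succ, Nat.even_iff] at this
    omega
  have i1 := su_inj (q := 5) hF f U35.ok2 U35.key (by decide +kernel)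
  have r2 := bs_reps (su_reps (q := 5) hF f U35.ok1 U35.ok2 U35.ok3) i1 (S := U35.S) (T' := U35.T2) (n := 50)
    (upTo_beq (by decide +kernel))
  have a : gen (lt U) 2 ≤ KHS ⊓ stabilizer Co0 x0 :=
    le_inf (le_inf (fix ok (c := 0xd99999999999999999999999) (by decide +kernel) (by decide +kernel))
      (fix ok (c := 0x99999999999999999999999d) (by decide +kernel) (by decide +kernel))) (fix ok rfl (by decide +kernel))
  have b : ∀ i < 50, σ i < 16777216 ∧ ∀ j < 50, σ i = σ j → i = j := by decide +kernel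
  exact ⟨Spor.iso_cert (T := U35.Q) (m := 4)
    (reps_tabs ((reps ok).res σ 50 U35.T2 (by decide +kernel)) (W := U35.W) (by decide +kernel) (upTo_beq (by decide +kernel)))
    (reps_tabs r2 (W := U35.W) (by decide +kernel) (upTo_beq (by decide +kernel)))
    (fun i hi j hj e => (b i hi).2 j hj (inj _ (b i hi).1 _ (b j hj).1 e)) (bs_inj i1 (S := U35.S) (by decide +kernel))
    8 (U35.l0 :: U35.lt) (by decide +kernel) ((gen_words (by decide +kernel)).trans a) (c0 h0) cd (by decide), cd⟩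

theorem sh {z : L} : (sqNorm (z : V) = 32 ∧ dotInt (U0 : V) z = 16 ∧ dotInt (U1 : V) z = 24) ↔ z ∈ T16 ∧ o16 z = 0 := by
  have e : dotInt (U0 : V) z = dotInt (U1 : V) z + dotInt (Y0 : V) z := by
    rw [← UY, AddSubgroup.coe_add, dot_comm, dot_add, dot_comm, dot_comm z.1]
  constructor
  · rintro ⟨a, b, c⟩
    exact ⟨⟨a, b⟩, by unfold o16; omega⟩
  · rintro ⟨h, c⟩
    have := d16 h
    have := h.2
    unfold o16 at c
    exact ⟨h.1, h.2, by omega⟩

/-- The Higman–Sims group acts transitively on 352 vectors, a set closed under x ↦ −w − x, with vector stabiliser isomorphic to PSU(3, 5). -/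
theorem result (v w : ↥Cfsg.leechLattice) (hv : Cfsg.sqNorm (v : Cfsg.GolayPt → ℤ) = 48) (hw : Cfsg.sqNorm (w : Cfsg.GolayPt → ℤ) = 48) (hvw : Cfsg.dotInt (v : Cfsg.GolayPt → ℤ) (w : Cfsg.GolayPt → ℤ) = -32) (F : Type) [Field F] [Fintype F] (hF : Fintype.card F = 25) : {x : ↥Cfsg.leechLattice | Cfsg.sqNorm (x : Cfsg.GolayPt → ℤ) = 32 ∧ Cfsg.dotInt (v : Cfsg.GolayPt → ℤ) (x : Cfsg.GolayPt → ℤ) = 16 ∧ Cfsg.dotInt (w : Cfsg.GolayPt → ℤ) (x : Cfsg.GolayPt → ℤ) = -24}.ncard = 352 ∧ (∀ x ∈ {x : ↥Cfsg.leechLattice | Cfsg.sqNorm (x : Cfsg.GolayPt → ℤ) = 32 ∧ Cfsg.dotInt (v : Cfsg.GolayPt → ℤ) (x : Cfsg.GolayPt → ℤ) = 16 ∧ Cfsg.dotInt (w : Cfsg.GolayPt → ℤ) (x : Cfsg.GolayPt → ℤ) = -24}, -w - x ∈ {x : ↥Cfsg.leechLattice | Cfsg.sqNorm (x : Cfsg.GolayPt → ℤ) = 32 ∧ Cfsg.dotInt (v : Cfsg.GolayPt → ℤ) (x : Cfsg.GolayPt → ℤ) = 16 ∧ Cfsg.dotInt (w : Cfsg.GolayPt → ℤ) (x : Cfsg.GolayPt → ℤ) = -24}) ∧ (∀ x ∈ {x : ↥Cfsg.leechLattice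 | Cfsg.sqNorm (x : Cfsg.GolayPt → ℤ) = 32 ∧ Cfsg.dotInt (v : Cfsg.GolayPt → ℤ) (x : Cfsg.GolayPt → ℤ) = 16 ∧ Cfsg.dotInt (w : Cfsg.GolayPt → ℤ) (x : Cfsg.GolayPt → ℤ) = -24}, ∀ x' ∈ {x : ↥Cfsg.leechLattice | Cfsg.sqNorm (x : Cfsg.GolayPt → ℤ) = 32 ∧ Cfsg.dotInt (v : Cfsg.GolayPt → ℤ) (x : Cfsg.GolayPt → ℤ) = 16 ∧ Cfsg.dotInt (w : Cfsg.GolayPt → ℤ) (x : Cfsg.GolayPt → ℤ) = -24}, ∃ g : ↥Cfsg.Co0, g • v = v ∧ g • w = w ∧ g • x = x') ∧ ∀ x ∈ {x : ↥Cfsg.leechLattice | Cfsg.sqNorm (x : Cfsg.GolayPt → ℤ) = 32 ∧ Cfsg.dotInt (v : Cfsg.GolayPt → ℤ) (x : Cfsg.GolayPt → ℤ) = 16 ∧ Cfsg.dotInt (w : Cfsg.GolayPt → ℤ) (x : Cfsg.GolayPt → ℤ) = -24}, Nonempty (↥(MulAction.stabilizer ↥Cfsg.Co0 v ⊓ MulAction.stabilizer ↥Cfsg.Co0 w ⊓ MulAction.stabilizer ↥Cfsg.Co0 x) ≃* Cfsg.PSU 3 F 5) := by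
  obtain ⟨g, g0, g1⟩ := to_233 v (-w) hv (by rw [norm_neg']; exact hw) (by rw [AddSubgroup.coe_neg, dot_neg, hvw]; rfl)
  have k : ∀ x : L, (sqNorm (x : V) = 32 ∧ dotInt (v : V) x = 16 ∧ dotInt (w : V) x = -24) ↔ g • x ∈ T16 ∧ o16 (g • x) = 0 :=
    fun x => by
      rw [← sh, norm_smul, ← g0, ← g1, dot_smul_smul, dot_smul_smul, dot_neg_left]
      omega
  have s : ∀ a : Co0, a • v = v ∧ a • w = w ↔ g * a * g⁻¹ ∈ KHS := fun a => by
    rw [KHS, Subgroup.mem_inf, mem_stabilizer_iff, mem_stabilizer_iff, ← g0, ← g1, mul_smul, mul_smul, mul_smul, mul_smul,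
      inv_smul_smul, inv_smul_smul, smul_left_cancel_iff, smul_left_cancel_iff, smul_neg, neg_inj]
  refine ⟨?_, fun x hx => ?_, fun x hx y hy => ?_, fun x hx => ?_⟩
  · rw [Set.ext k]
    exact (ncard_smul g fun z => z ∈ T16 ∧ o16 z = 0).trans (cnt16 0 (by decide))
  · obtain ⟨a, b, c⟩ := hx
    have e := hw
    rw [← dot_self] at e
    refine ⟨?_, ?_, ?_⟩
    · rw [AddSubgroup.coe_sub, sqNorm_sub, norm_neg', dot_neg_left]; omega
    · rw [AddSubgroup.coe_sub, dot_sub, AddSubgroup.coe_neg, dot_neg]; omega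
    · rw [AddSubgroup.coe_sub, dot_sub, AddSubgroup.coe_neg, dot_neg]; omega
  · obtain ⟨a, ha, e⟩ := conj16' _ ((k x).1 hx).1 _ ((k y).1 hy).1 (((k x).1 hx).2.trans ((k y).1 hy).2.symm)
    obtain ⟨p, q⟩ := (s (g⁻¹ * a * g)).2 (by simpa [mul_assoc] using ha)
    exact ⟨_, p, q, by rw [mul_smul, mul_smul, e, inv_smul_smul]⟩
  · obtain ⟨⟨e⟩, cd⟩ := iso0 F hF
    obtain ⟨a, ha, ea⟩ := conj16' _ ((k x).1 hx).1 _ h0.1 (((k x).1 hx).2.trans h0.2.symm)
    refine ⟨(MulEquiv.trans ?_ e)⟩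
    refine ((MulAut.conj (a * g)).subgroupMap _).trans (MulEquiv.subgroupCongr (Subgroup.ext fun b => ?_))
    refine Subgroup.mem_map_equiv.trans ?_
    rw [Subgroup.mem_inf, Subgroup.mem_inf, Subgroup.mem_inf (p := KHS), mem_stabilizer_iff,
      mem_stabilizer_iff, mem_stabilizer_iff, mem_stabilizer_iff, s, ← ea, MulAut.conj_symm_apply]
    refine and_congr ?_ ?_
    · rw [show g * ((a * g)⁻¹ * b * (a * g)) * g⁻¹ = a⁻¹ * b * a by group, Subgroup.mul_mem_cancel_right _ ha,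
        Subgroup.mul_mem_cancel_left _ (inv_mem ha)]
    · rw [mul_smul, mul_smul, inv_smul_eq_iff, mul_smul]

end Cfsg.Agent.S1633
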