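import Cfsg.Statements.S1634
import Cfsg.Agent.Lib.Leech.HS

set_option autoImplicit false
open Cfsg

namespace Cfsg.Agent.S1634

set_option linter.unusedSectionVars false
set_option linter.unusedVariables false
set_option linter.style.haveILetI false
set_option linter.unusedSimpArgs false

open Cfsg.Agent.Leech in

/-- The McLaughlin group acts on 2025 points (minimal vectors orthogonal to v with customary inner product 2 with w) transitively with rank 4 and subdegrees 1, 330, 462, 1232. -/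
theorem result (v w : ↥Cfsg.leechLattice) (hv : Cfsg.sqNorm (v : Cfsg.GolayPt → ℤ) = 32) (hw : Cfsg.sqNorm (w : Cfsg.GolayPt → ℤ) = 32) (hvw : Cfsg.dotInt (v : Cfsg.GolayPt → ℤ) (w : Cfsg.GolayPt → ℤ) = -8) : {x : ↥Cfsg.leechLattice | Cfsg.sqNorm (x : Cfsg.GolayPt → ℤ) = 32 ∧ Cfsg.dotInt (v : Cfsg.GolayPt → ℤ) (x : Cfsg.GolayPt → ℤ) = 0 ∧ Cfsg.dotInt (w : Cfsg.GolayPt → ℤ) (x : Cfsg.GolayPt → ℤ) = 16}.ncard = 2025 ∧ (∀ x ∈ {x : ↥Cfsg.leechLattice | Cfsg.sqNorm (x : Cfsg.GolayPt → ℤ) = 32 ∧ Cfsg.dotInt (v : Cfsg.GolayPt → ℤ) (x : Cfsg.GolayPt → ℤ) = 0 ∧ Cfsg.dotInt (w : Cfsg.GolayPt → ℤ) (x : Cfsg.GolayPt → ℤ) = 16}, ∀ x' ∈ {x : ↥Cfsg.leechLattice | Cfsg.sqNorm (x : Cfsg.GolayPt → ℤ) = 32 ∧ Cfsg.dotInt (v : Cfsg.GolayPt → ℤ) (x : Cfsg.GolayPt → ℤ) = 0 ∧ Cfsg.dotInt (w : Cfsg.GolayPt → ℤ) (x : Cfsg.GolayPt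 → ℤ) = 16}, ∃ g : ↥Cfsg.Co0, g • v = v ∧ g • w = w ∧ g • x = x') ∧ ∀ x ∈ {x : ↥Cfsg.leechLattice | Cfsg.sqNorm (x : Cfsg.GolayPt → ℤ) = 32 ∧ Cfsg.dotInt (v : Cfsg.GolayPt → ℤ) (x : Cfsg.GolayPt → ℤ) = 0 ∧ Cfsg.dotInt (w : Cfsg.GolayPt → ℤ) (x : Cfsg.GolayPt → ℤ) = 16}, ∃ y₁ ∈ {x : ↥Cfsg.leechLattice | Cfsg.sqNorm (x : Cfsg.GolayPt → ℤ) = 32 ∧ Cfsg.dotInt (v : Cfsg.GolayPt → ℤ) (x : Cfsg.GolayPt → ℤ) = 0 ∧ Cfsg.dotInt (w : Cfsg.GolayPt → ℤ) (x : Cfsg.GolayPt → ℤ) = 16}, ∃ y₂ ∈ {x : ↥Cfsg.leechLattice | Cfsg.sqNorm (x : Cfsg.GolayPt → ℤ) = 32 ∧ Cfsg.dotInt (v : Cfsg.GolayPt → ℤ) (x : Cfsg.GolayPt → ℤ) = 0 ∧ Cfsg.dotInt (w : Cfsg.GolayPt → ℤ) (x : Cfsg.GolayPt → ℤ) = 16}, ∃ y₃ ∈ {x : ↥Cfsg.leechLattice | Cfsg.sqNorm (x : Cfsg.GolayPt → ℤ) = 32 ∧ Cfsg.dotInt (v : Cfsg.GolayPt → ℤ) (x : Cfsg.GolayPt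 → ℤ) = 0 ∧ Cfsg.dotInt (w : Cfsg.GolayPt → ℤ) (x : Cfsg.GolayPt → ℤ) = 16}, (MulAction.orbit ↥(MulAction.stabilizer ↥Cfsg.Co0 v ⊓ MulAction.stabilizer ↥Cfsg.Co0 w ⊓ MulAction.stabilizer ↥Cfsg.Co0 x) y₁).ncard = 330 ∧ (MulAction.orbit ↥(MulAction.stabilizer ↥Cfsg.Co0 v ⊓ MulAction.stabilizer ↥Cfsg.Co0 w ⊓ MulAction.stabilizer ↥Cfsg.Co0 x) y₂).ncard = 462 ∧ (MulAction.orbit ↥(MulAction.stabilizer ↥Cfsg.Co0 v ⊓ MulAction.stabilizer ↥Cfsg.Co0 w ⊓ MulAction.stabilizer ↥Cfsg.Co0 x) y₃).ncard = 1232 := by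
  have k : ∀ g : Co0, g • v = X0 → g • w = W0 → ∀ x : L, (sqNorm (x : V) = 32 ∧ dotInt (v : V) x = 0 ∧ dotInt (w : V) x = 16) ↔
      g • x ∈ S2025 := fun g h1 h2 x => by
    simp only [S2025, Set.mem_setOf_eq, norm_smul, dot_of h1 rfl, dot_of h2 rfl]
  refine ⟨?_, ?_, ?_⟩
  · obtain ⟨g, h1, h2⟩ := to_223w v w hv hw hvw
    simp only [k g h1 h2]
    exact (ncard_smul g (· ∈ S2025)).trans card2025
  · rintro x ⟨h1, h2, h3⟩ y ⟨h4, h5, h6⟩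
    obtain ⟨g, e1, e2, e3⟩ := to_223x v w x hv hw h1 hvw h2 h3
    obtain ⟨h, e4, e5, e6⟩ := to_223x v w y hv hw h4 hvw h5 h6
    exact ⟨_, two_of e1 e4, two_of e2 e5, two_of e3 e6⟩
  · rintro x ⟨h1, h2, h3⟩
    obtain ⟨g, e1, e2, e3⟩ := to_223x v w x hv hw h1 hvw h2 h3
    have l : ∀ j ∈ ({0, 1, 2, 4} : Finset ℕ), ∃ y ∈ {x : L | sqNorm (x : V) = 32 ∧ dotInt (v : V) x = 0 ∧ dotInt (w : V) x = 16},
        (MulAction.orbit ↥(MulAction.stabilizer Co0 v ⊓ MulAction.stabilizer Co0 w ⊓ MulAction.stabilizer Co0 x) y).ncard =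
          s2025 j := fun j hj => by
      obtain ⟨y, hy, e⟩ := Set.nonempty_of_ncard_ne_zero ((cnt2025 j hj).trans_ne (by unfold s2025; split_ifs <;> decide))
      refine ⟨g⁻¹ • y, (k g e1 e2 _).2 (by rwa [smul_inv_smul]), ?_⟩
      rw [orbit_conj g (stab3_conj e1 e2 e3), smul_inv_smul, ← cnt2025 j hj, ← e, ← orbitM2025 hy, ← KMc_stab]
      exact ncard_smul g (· ∈ _)
    obtain ⟨y1, a1, b1⟩ := l 0 (by decide)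
    obtain ⟨y2, a2, b2⟩ := l 2 (by decide)
    obtain ⟨y3, a3, b3⟩ := l 1 (by decide)
    exact ⟨y1, a1, y2, a2, y3, a3, b1, b2, b3⟩

end Cfsg.Agent.S1634
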