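import Cfsg.Statements.S1635
import Cfsg.Agent.Lib.Steiner.Lin
import Cfsg.Agent.Lib.Spor.Key

set_option autoImplicit false
open Cfsg

namespace Cfsg.Agent.S1635

set_option linter.unusedSectionVars false
set_option linter.unusedVariables false
set_option linter.style.haveILetI false
set_option linter.unusedSimpArgs false

open Cfsg.Agent.Steiner Cfsg.Agent.Spor Finset
open scoped symmDiff

/-- Coset leaders of the length-24 code: a coset contains a unique word of weight ≤ 3, or else exactly six words of weight 4 and none lighter. -/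
theorem result (w : Cfsg.GolayPt → ZMod 2) : ({v : Cfsg.GolayPt → ZMod 2 | hammingNorm v ≤ 4 ∧ w - v ∈ Cfsg.golayCode}.ncard = 1 ∧ ∃ v : Cfsg.GolayPt → ZMod 2, hammingNorm v ≤ 3 ∧ w - v ∈ Cfsg.golayCode) ∨ ({v : Cfsg.GolayPt → ZMod 2 | hammingNorm v ≤ 4 ∧ w - v ∈ Cfsg.golayCode}.ncard = 6 ∧ ∀ v : Cfsg.GolayPt → ZMod 2, w - v ∈ Cfsg.golayCode → hammingNorm v ≤ 4 → hammingNorm v = 4) := by
  obtain ⟨n, hn, h1⟩ := exists_bset (support₂ w)
  obtain ⟨t, h2, h3, h4⟩ := mw_spec hn
  rw [h1] at h4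
  have finj : Function.Injective (support₂ : (GolayPt → ZMod 2) → _) := fun u v h => support_inj h
  have key : ∀ u, u ∈ {v : GolayPt → ZMod 2 | hammingNorm v ≤ 4 ∧ w - v ∈ golayCode} ↔ support₂ u ∈ sext t := fun u => by
    rw [← sext_congr h4, mem_sext, Set.mem_setOf_eq, ← support_mem_gC, support_sub, hammingNorm_eq, symmDiff_comm]
  have hc : {v : GolayPt → ZMod 2 | hammingNorm v ≤ 4 ∧ w - v ∈ golayCode}.ncard = (sext t).card := by
    rw [← Set.ncard_coe_finset, ← Set.ncard_image_of_injective _ finj]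
    congr 1
    ext s
    obtain ⟨u, rfl⟩ := exists_support s
    rw [finj.mem_set_image, key, mem_coe]
  rw [hc]
  by_cases h5 : t.card ≤ 3
  · left
    obtain ⟨u, rfl⟩ := exists_support t
    exact ⟨by rw [sext_small h5, card_singleton], u, by rwa [hammingNorm_eq],
      ((key u).mpr (self_mem_sext (by omega))).2⟩
  · right
    have h6 : t.card = 4 := by omega
    exact ⟨card_sext h6, fun u hu hu' => by
      rw [hammingNorm_eq]; exact (mem_sext4 h6 ((key u).mp ⟨hu', hu⟩)).1⟩

end Cfsg.Agent.S1635
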