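import Cfsg.Statements.S1637
import Cfsg.Agent.Lib.Steiner.P23

set_option autoImplicit false
open Cfsg

namespace Cfsg.Agent.S1637

set_option linter.unusedSectionVars false
set_option linter.unusedVariables false
set_option linter.style.haveILetI false
set_option linter.unusedSimpArgs false

open Cfsg.Agent.Steiner Cfsg.Agent.Spor Cfsg.Agent.PC Finset
open scoped symmDiff

/-- The punctured length-23 code is a perfect 3-error-correcting code: each word of length 23 is within distance 3 of exactly one codeword. -/
theorem result (u : ZMod 23 → ZMod 2) : ∃! c : ZMod 23 → ZMod 2, c ∈ {u : ZMod 23 → ZMod 2 | ∃ w ∈ Cfsg.golayCode, ∀ x : ZMod 23, u x = w (some x)} ∧ hammingDist u c ≤ 3 := by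
  rw [res_set]
  have hd : ∀ a b : ZMod 23 → ZMod 2, hammingNorm (a - b) = hammingDist a b := fun a b => by
    simp [hammingNorm, hammingDist, sub_eq_zero]
  have hm : ∀ a ∈ gC, a ≠ ∅ → 8 ≤ a.card := fun a ha h => by
    have := card_of_mem_gC ha
    have : a.card ≠ 0 := by simpa using h
    omega
  have hc : 4096 ≤ gC.ncard := by
    rw [ncard_cw subset_rfl (fun _ => 0) 0 fun k hk => by simp [cwd_mem hk]]; decide +kernel
  obtain ⟨_, ⟨w, hw, rfl⟩, t, -, h3, e⟩ := (sphere card_golayPt (fun _ ha _ hb => symmDiff_mem_gC ha hb) hm none).2 hc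
    ((support₂ u).map Function.Embedding.some) (by intro x hx; obtain ⟨y, -, rfl⟩ := mem_map.mp hx; simp)
  refine ⟨res w, ⟨⟨w, hw, rfl⟩, ?_⟩, ?_⟩
  · have : t = ((support₂ u) ∆ support₂ (res w)).map Function.Embedding.some := by
      rw [map_eq_image, image_symmDiff _ _ Function.Embedding.some.injective, ← map_eq_image, ← map_eq_image,
        ← e, supp_res, symmDiff_right_comm, symmDiff_self, bot_symmDiff]
    rwa [this, card_map, ← support_sub, ← hammingNorm_eq, hd] at h3
  · have h4 : hammingDist u (res w) ≤ 3 := by
      have : t = ((support₂ u) ∆ support₂ (res w)).map Function.Embedding.some := by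
        rw [map_eq_image, image_symmDiff _ _ Function.Embedding.some.injective, ← map_eq_image, ← map_eq_image,
          ← e, supp_res, symmDiff_right_comm, symmDiff_self, bot_symmDiff]
      rwa [this, card_map, ← support_sub, ← hammingNorm_eq, hd] at h3
    rintro _ ⟨⟨v, hv, rfl⟩, h5⟩
    have h6 := hammingDist_triangle_left (res v) (res w) u
    have h7 : res (v - w) = res v - res w := rfl
    have := res_min (golayCode.sub_mem hv hw) (by rw [h7, hd]; omega)
    rw [sub_eq_zero.mp this]

end Cfsg.Agent.S1637
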