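import Cfsg.Statements.S1638
import Cfsg.Agent.Lib.Spor.Small

set_option autoImplicit false
open scoped Pointwise
open Cfsg

namespace Cfsg.Agent.S1638

set_option linter.unusedSectionVars false
set_option linter.unusedVariables false
set_option linter.style.haveILetI false
set_option linter.unusedSimpArgs false

open Cfsg.Agent.Spor Cfsg.Agent.PC MulAction Finset
theorem ino (p q : GolayPt) (s t : Finset GolayPt) : (∃ o ∈ octads, p ∈ o ∧ q ∈ o ∧ s ∪ t ⊆ o) ↔ InO (insert p (insert q s) ∪ t) := by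
  simp only [InO, insert_union, insert_subset_iff]
def A (p q : GolayPt) (s t : Finset GolayPt) : Prop := (p ∉ t ∧ q ∉ t) ∧ Disjoint s t
theorem A_iff {p q : GolayPt} {s t : Finset GolayPt} : A p q s t ↔ Disjoint (insert p (insert q s)) t := by
  simp only [A, disjoint_insert_left, and_assoc]
theorem ct {J : Finset GolayPt} (hJ : J.card = 4) : {t | t.card = 2 ∧ Disjoint J t ∧ InO (J ∪ t)}.ncard = 30 ∧
    {t | t.card = 2 ∧ Disjoint J t ∧ ¬ InO (J ∪ t)}.ncard = 160 := by
  have key : ∀ m < 2 ^ 24, (bset m).card = 2 → Disjoint (bset 8409089) (bset m) →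
      (InO (bset 8409089 ∪ bset m) ↔ mw (8409089 ||| m) = 2) := fun m hm h d => by
    rw [← bset_or]
    exact InO_six (Nat.or_lt_two_pow (by norm_num) hm) (by rw [bset_or, card_union_of_disjoint d, h, card_bset]; decide +kernel)
  obtain ⟨a, rfl⟩ := mapSet (s := bset 8409089) (t := J) (by rw [hJ, card_bset]; decide +kernel)
    (by rw [card_bset]; decide +kernel)
  constructor
  · refine (ncard_transport a (S := {U | U.card = 2 ∧ Disjoint (bset 8409089) U ∧ InO (bset 8409089 ∪ U)}) fun U => ?_).trans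
      (ncard_small (by norm_num) (fun m => Nat.add (Nat.land 8409089 m) (Nat.xor (mw (Nat.lor 8409089 m)) 2)) (fun m hm h => ?_)
        (by decide +kernel))
    · exact and_congr (by rw [card_smul_finset]) (and_congr (disjoint_image (MulAction.injective a)) (by rw [← smul_finset_union]; exact InO_smul a))
    · rw [Nat.add_eq, Nat.add_eq_zero_iff, xor_zero_iff]
      exact (and_congr_right (key m hm h)).trans (and_congr_left' (bset_disjoint_iff (by norm_num)))
  · refine (ncard_transport a (S := {U | U.card = 2 ∧ Disjoint (bset 8409089) U ∧ ¬ InO (bset 8409089 ∪ U)}) fun U => ?_).trans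
      (ncard_small (by norm_num) (fun m => Nat.add (Nat.land 8409089 m) (eqI (mw (Nat.lor 8409089 m)) 2)) (fun m hm h => ?_)
        (by decide +kernel))
    · exact and_congr (by rw [card_smul_finset]) (and_congr (disjoint_image (MulAction.injective a)) (by
        rw [← smul_finset_union]; exact (InO_smul a).not))
    · rw [Nat.add_eq, Nat.add_eq_zero_iff, eqI_eq, ite_eq_right_iff]
      exact (and_congr_right fun d => (key m hm h d).not.trans (by simp)).trans (and_congr_left' (bset_disjoint_iff (by norm_num)))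

/-- Fix two points p ≠ q and a pair s of two further points. Among the pairs avoiding p, q and disjoint from s, exactly 30 lie in an octad together with p, q and s and exactly 160 do not; and any two pairs other than s that meet s in equally many points and agree on that octad property are carried to one another by an element of the group of the length-24 code fixing p, q and s. -/
theorem result (p q : Cfsg.GolayPt) (hpq : p ≠ q) (s : Finset Cfsg.GolayPt) (hs : (s.card = 2 ∧ p ∉ s ∧ q ∉ s)) : {t : Finset Cfsg.GolayPt | (t.card = 2 ∧ p ∉ t ∧ q ∉ t) ∧ Disjoint s t ∧ (∃ o ∈ Cfsg.octads, p ∈ o ∧ q ∈ o ∧ s ∪ t ⊆ o)}.ncard = 30 ∧ {t : Finset Cfsg.GolayPt | (t.card = 2 ∧ p ∉ t ∧ q ∉ t) ∧ Disjoint s t ∧ ¬ (∃ o ∈ Cfsg.octads, p ∈ o ∧ q ∈ o ∧ s ∪ t ⊆ o)}.ncard = 160 ∧ ∀ t t' : Finset Cfsg.GolayPt, (t.card = 2 ∧ p ∉ t ∧ q ∉ t) → (t'.card = 2 ∧ p ∉ t' ∧ q ∉ t') → t ≠ s → t' ≠ s → (s ∩ t).card = (s ∩ t').card → ((∃ o ∈ Cfsg.octads, p ∈ o ∧ q ∈ o ∧ s ∪ t ⊆ o) ↔ (∃ o ∈ Cfsg.octads, p ∈ o ∧ q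 ∈ o ∧ s ∪ t' ⊆ o)) → ∃ g : Equiv.Perm Cfsg.GolayPt, g ∈ Cfsg.M24 ∧ g p = p ∧ g q = q ∧ g • s = s ∧ g • t = t' := by
  obtain ⟨hs, hp, hq⟩ := hs
  have hJ : (insert p (insert q s)).card = 4 := by
    rw [card_insert_of_notMem (by simp [hpq, hp]), card_insert_of_notMem hq, hs]
  refine ⟨Eq.trans (congrArg _ ?_) (ct hJ).1, Eq.trans (congrArg _ ?_) (ct hJ).2, fun t t' h h' n n' c e => ?_⟩
  · ext t; simp only [Set.mem_setOf_eq, ino, ← A_iff, A, and_assoc]
  · ext t; simp only [Set.mem_setOf_eq, ino, ← A_iff, A, and_assoc]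
  have fin : ∀ t : Finset GolayPt, t.card = 2 ∧ p ∉ t ∧ q ∉ t → s ∩ t = s ∩ t' →
      (InO (insert p (insert q s) ∪ t) ↔ InO (insert p (insert q s) ∪ t')) →
      ∃ g : M24, g • p = p ∧ g • q = q ∧ g • s = s ∧ g • t = t' := fun t h c e => by
    obtain ⟨g, a, b⟩ := mapJ6 (J := insert p (insert q s)) ((card_union_le _ _).trans (by omega)) (h.1.trans h'.1.symm)
      (fun j hj => by
        simp only [mem_insert] at hj
        rcases hj with rfl | rfl | hj
        · exact iff_of_false h.2.1 h'.2.1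
        · exact iff_of_false h.2.2 h'.2.2
        · simpa [hj] using Finset.ext_iff.1 c j) e
    exact ⟨g, a p (by simp), a q (by simp), (msmul_eq_of_agree (π := 1) fun i hi => a i (by simp [hi])).trans (one_smul _ _), b⟩
  rw [ino, ino] at e
  by_cases z : s ∩ t = s ∩ t'
  · obtain ⟨g, a⟩ := fin t h z e
    exact ⟨g, g.2, a⟩
  have c1 : (s ∩ t).card = 1 := by
    have a := card_le_card (inter_subset_left (s₁ := s) (s₂ := t))
    have b : (s ∩ t).card ≠ 0 := fun k => z (by rw [card_eq_zero.1 k, card_eq_zero.1 (c.symm.trans k)])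
    have d : (s ∩ t).card ≠ 2 := fun k => n (eq_of_subset_of_card_le (inter_eq_left.1
      (eq_of_subset_of_card_le inter_subset_left (by omega))) (by omega)).symm
    omega
  obtain ⟨x, hx⟩ := card_eq_one.1 c1
  obtain ⟨y, hy⟩ := card_eq_one.1 (c ▸ c1)
  have x1 : x ∈ s := (mem_inter.1 (hx ▸ mem_singleton_self x)).1
  have y1 : y ∈ s := (mem_inter.1 (hy ▸ mem_singleton_self y)).1
  have xy : x ≠ y := fun k => z (by rw [hx, hy, k])
  obtain rfl : s = {x, y} := (eq_of_subset_of_card_le (by simp [insert_subset_iff, x1, y1]) (by rw [card_pair xy, hs])).symm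
  simp only [mem_insert, mem_singleton, not_or] at hp hq
  obtain ⟨k, hk⟩ := Leech.agree5 (Equiv.swap x y) (S := insert p (insert q {x, y})) (by omega)
  have k1 : k • p = p := (hk p (by simp)).trans (Equiv.swap_apply_of_ne_of_ne hp.1 hp.2)
  have k2 : k • q = q := (hk q (by simp)).trans (Equiv.swap_apply_of_ne_of_ne hq.1 hq.2)
  have k3 : k • x = y := (hk x (by simp)).trans (Equiv.swap_apply_left _ _)
  have k4 : k • y = x := (hk y (by simp)).trans (Equiv.swap_apply_right _ _)
  have k5 : k • ({x, y} : Finset GolayPt) = {x, y} := by rw [smul_finset_insert, smul_finset_singleton, k3, k4, pair_comm]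
  obtain ⟨g, a, b, c, d⟩ := fin (k • t) ⟨(card_smul_finset _ _).trans h.1, by rw [← k1, smul_mem_smul_finset_iff]; exact h.2.1,
    by rw [← k2, smul_mem_smul_finset_iff]; exact h.2.2⟩ (by rw [hy, ← k5, ← smul_finset_inter, hx, smul_finset_singleton, k3])
    (by rw [← e, ← InO_smul k (s := _ ∪ t), smul_finset_union, smul_finset_insert, smul_finset_insert, k1, k2, k5])
  exact ⟨_, (g * k).2, (mul_smul g k p).trans (by rw [k1, a]), (mul_smul g k q).trans (by rw [k2, b]),
    (mul_smul g k _).trans (by rw [k5, c]), (mul_smul g k t).trans d⟩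

end Cfsg.Agent.S1638
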