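import Cfsg.Statements.S1640
import Cfsg.Agent.Lib.Leech.Pair

set_option autoImplicit false
open Cfsg

namespace Cfsg.Agent.S1640

set_option linter.unusedSectionVars false
set_option linter.unusedVariables false
set_option linter.style.haveILetI false
set_option linter.unusedSimpArgs false

open Cfsg.Agent.Leech in

/-- The stabiliser of a vector of customary norm 6 is transitive on the 11178 minimal vectors of customary inner product −2 with it. -/
theorem result (u : ↥Cfsg.leechLattice) (hu : Cfsg.sqNorm (u : Cfsg.GolayPt → ℤ) = 48) : {x : ↥Cfsg.leechLattice | Cfsg.sqNorm (x : Cfsg.GolayPt → ℤ) = 32 ∧ Cfsg.dotInt (u : Cfsg.GolayPt → ℤ) (x : Cfsg.GolayPt → ℤ) = -16}.ncard = 11178 ∧ ∀ x ∈ {x : ↥Cfsg.leechLattice | Cfsg.sqNorm (x : Cfsg.GolayPt → ℤ) = 32 ∧ Cfsg.dotInt (u : Cfsg.GolayPt → ℤ) (x : Cfsg.GolayPt → ℤ) = -16}, ∀ x' ∈ {x : ↥Cfsg.leechLattice | Cfsg.sqNorm (x : Cfsg.GolayPt → ℤ) = 32 ∧ Cfsg.dotInt (u : Cfsg.GolayPt → ℤ) (x : Cfsg.GolayPt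 → ℤ) = -16}, ∃ g : ↥Cfsg.Co0, g • u = u ∧ g • x = x' := by
  constructor
  · obtain ⟨g, hg⟩ := to_U0 u hu
    refine Eq.trans ?_ ((ncard_smul g _).trans ((count2 5 1 1 (-16) (fun _ => True) (fun _ => True) (fun _ => True) 4 176
      (by decide) (by decide) (by decide) (by decide)).trans (by decide +kernel)))
    congr 1
    ext x
    simp only [Set.mem_setOf_eq, norm_smul, ← U0_eq, dot_of hg rfl, implies_true, and_true]
  · rintro x ⟨h1, h2⟩ y ⟨h3, h4⟩
    obtain ⟨g, e1, e2⟩ := to_233 u (u + x) hu (by rw [AddSubgroup.coe_add, sqNorm_add]; omega)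
      (by rw [AddSubgroup.coe_add, dot_add, dot_self]; omega)
    obtain ⟨h, e3, e4⟩ := to_233 u (u + y) hu (by rw [AddSubgroup.coe_add, sqNorm_add]; omega)
      (by rw [AddSubgroup.coe_add, dot_add, dot_self]; omega)
    have a := two_of e1 e3
    have b := two_of e2 e4
    rw [smul_add, a] at b
    exact ⟨_, a, add_left_cancel b⟩

end Cfsg.Agent.S1640
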