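import Cfsg.Statements.S1641
import Cfsg.Agent.Lib.Leech.Co3

set_option autoImplicit false
open Cfsg

namespace Cfsg.Agent.S1641

set_option linter.unusedSectionVars false
set_option linter.unusedVariables false
set_option linter.style.haveILetI false
set_option linter.unusedSimpArgs false

open Cfsg.Agent.Leech MulAction in

/-- The third Conway group acts on the 11178 cosets of the Higman–Sims group with rank 5 and subdegrees 1, 352, 1100, 4125, 5600. -/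
theorem result (u x : ↥Cfsg.leechLattice) (hu : Cfsg.sqNorm (u : Cfsg.GolayPt → ℤ) = 48) (hx : x ∈ {x : ↥Cfsg.leechLattice | Cfsg.sqNorm (x : Cfsg.GolayPt → ℤ) = 32 ∧ Cfsg.dotInt (u : Cfsg.GolayPt → ℤ) (x : Cfsg.GolayPt → ℤ) = -16}) : ∃ y₁ ∈ {x : ↥Cfsg.leechLattice | Cfsg.sqNorm (x : Cfsg.GolayPt → ℤ) = 32 ∧ Cfsg.dotInt (u : Cfsg.GolayPt → ℤ) (x : Cfsg.GolayPt → ℤ) = -16}, ∃ y₂ ∈ {x : ↥Cfsg.leechLattice | Cfsg.sqNorm (x : Cfsg.GolayPt → ℤ) = 32 ∧ Cfsg.dotInt (u : Cfsg.GolayPt → ℤ) (x : Cfsg.GolayPt → ℤ) = -16}, ∃ y₃ ∈ {x : ↥Cfsg.leechLattice | Cfsg.sqNorm (x : Cfsg.GolayPt → ℤ) = 32 ∧ Cfsg.dotInt (u : Cfsg.GolayPt → ℤ) (x : Cfsg.GolayPt → ℤ) = -16}, ∃ y₄ ∈ {x : ↥Cfsg.leechLattice | Cfsg.sqNorm (x : Cfsg.GolayPt → ℤ) = 32 ∧ Cfsg.dotInt (u : Cfsg.GolayPt → ℤ) (x : Cfsg.GolayPt → ℤ) = -16}, (MulAction.orbit ↥(MulAction.stabilizer ↥Cfsg.Co0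 u ⊓ MulAction.stabilizer ↥Cfsg.Co0 x) y₁).ncard = 352 ∧ (MulAction.orbit ↥(MulAction.stabilizer ↥Cfsg.Co0 u ⊓ MulAction.stabilizer ↥Cfsg.Co0 x) y₂).ncard = 1100 ∧ (MulAction.orbit ↥(MulAction.stabilizer ↥Cfsg.Co0 u ⊓ MulAction.stabilizer ↥Cfsg.Co0 x) y₃).ncard = 4125 ∧ (MulAction.orbit ↥(MulAction.stabilizer ↥Cfsg.Co0 u ⊓ MulAction.stabilizer ↥Cfsg.Co0 x) y₄).ncard = 5600 ∧ {x : ↥Cfsg.leechLattice | Cfsg.sqNorm (x : Cfsg.GolayPt → ℤ) = 32 ∧ Cfsg.dotInt (u : Cfsg.GolayPt → ℤ) (x : Cfsg.GolayPt → ℤ) = -16} = {x} ∪ MulAction.orbit ↥(MulAction.stabilizer ↥Cfsg.Co0 u ⊓ MulAction.stabilizer ↥Cfsg.Co0 x) y₁ ∪ MulAction.orbit ↥(MulAction.stabilizer ↥Cfsg.Co0 u ⊓ MulAction.stabilizer ↥Cfsg.Co0 x) y₂ ∪ MulAction.orbit ↥(MulAction.stabilizer ↥Cfsg.Co0 u ⊓ MulAction.stabilizer ↥Cfsg.Co0 x) y₃ ∪ MulAction.orbit ↥(MulAction.stabilizer ↥Cfsg.Co0 u ⊓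 MulAction.stabilizer ↥Cfsg.Co0 x) y₄ := by
  obtain ⟨g, g1, g2⟩ := to16 (-u) x ((norm_neg' _).trans hu) hx.1 (by rw [dot_neg_left, hx.2]; rfl)
  have m : ∀ z : L, z ∈ {x : L | sqNorm (x : V) = 32 ∧ dotInt (u : V) x = -16} ↔ g • z ∈ T16 := fun z => by
    simp only [T16, Set.mem_setOf_eq, norm_smul, dot_of g1 (rfl : g • z = _), dot_neg_left]
    exact and_congr_right fun _ => by omega
  have k : ∀ k ∈ ({0, 8, 16, 24, 40} : Finset ℕ), ∃ y ∈ {x : L | sqNorm (x : V) = 32 ∧ dotInt (u : V) x = -16},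
      orbit ↥(stabilizer Co0 u ⊓ stabilizer Co0 x) y = {z | g • z ∈ T16 ∧ o16 (g • z) = k} ∧
      (orbit ↥(stabilizer Co0 u ⊓ stabilizer Co0 x) y).ncard = s16 k := fun k hk => by
    obtain ⟨y, hy, e⟩ := Set.nonempty_of_ncard_ne_zero ((cnt16 k hk).trans_ne (by unfold s16; split_ifs <;> decide))
    have := orbit_conj g (A := stabilizer Co0 u ⊓ stabilizer Co0 x) (B := KHS) (fun a => by
      rw [← stab_neg u, stab2_conj g1 g2, ← K3_stab]; rfl) (g⁻¹ • y)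
    rw [smul_inv_smul, orbit16' hy, e] at this
    exact ⟨g⁻¹ • y, (m _).2 (by rwa [smul_inv_smul]), this,
      this ▸ (ncard_smul g fun z => z ∈ T16 ∧ o16 z = k).trans (cnt16 k hk)⟩
  obtain ⟨y1, a1, b1, c1⟩ := k 0 (by decide)
  obtain ⟨y2, a2, b2, c2⟩ := k 24 (by decide)
  obtain ⟨y3, a3, b3, c3⟩ := k 8 (by decide)
  obtain ⟨y4, a4, b4, c4⟩ := k 16 (by decide)
  refine ⟨y1, a1, y2, a2, y3, a3, y4, a4, c1, c2, c3, c4, ?_⟩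
  rw [b1, b2, b3, b4]
  ext z
  rw [m]
  simp only [Set.mem_union, Set.mem_setOf_eq, Set.mem_singleton_iff]
  refine ⟨fun h => ?_, ?_⟩
  · simp only [h, true_and, o16]
    rcases d16 h with e | e | e | e | e
    all_goals try omega
    exact Or.inl (Or.inl (Or.inl (Or.inl (smul_left_cancel g (e.2.trans g2.symm)))))
  · rintro ((((rfl | h) | h) | h) | h)
    exacts [(m _).1 hx, h.1, h.1, h.1, h.1]

end Cfsg.Agent.S1641
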