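import Cfsg.Statements.S1642
import Cfsg.Agent.Lib.Leech.Co1

set_option autoImplicit false
open Cfsg

namespace Cfsg.Agent.S1642

set_option linter.unusedSectionVars false
set_option linter.unusedVariables false
set_option linter.style.haveILetI false
set_option linter.unusedSimpArgs false

open Cfsg.Agent.Leech Cfsg.Agent.Spor Finset in

/-- Some involution of the Higman–Sims group acts without fixed points on its 100 points. -/
theorem result (v w : ↥Cfsg.leechLattice) (hv : Cfsg.sqNorm (v : Cfsg.GolayPt → ℤ) = 48) (hw : Cfsg.sqNorm (w : Cfsg.GolayPt → ℤ) = 48) (hvw : Cfsg.dotInt (v : Cfsg.GolayPt → ℤ) (w : Cfsg.GolayPt → ℤ) = -32) : ∃ g : ↥Cfsg.Co0, g • v = v ∧ g • w = w ∧ orderOf g = 2 ∧ ∀ x ∈ {x : ↥Cfsg.leechLattice | Cfsg.sqNorm (x : Cfsg.GolayPt → ℤ) = 32 ∧ Cfsg.dotInt (v : Cfsg.GolayPt → ℤ) (x : Cfsg.GolayPt → ℤ) = 24 ∧ Cfsg.dotInt (w : Cfsg.GolayPt → ℤ) (x : Cfsg.GolayPt → ℤ) = -24}, g • x ≠ x :=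 by
  obtain ⟨c, hc⟩ : ∃ c : gC, c.1.card = 12 :=
    ⟨⟨bset (4845570 ^^^ 5652556), (bset_mem_gC (by decide)).2 (by decide +kernel)⟩, by rw [card_bset]; decide +kernel⟩
  have hD : c.1ᶜ.card = 12 := by rw [card_compl, hc]; rfl
  obtain ⟨m, hm, m2⟩ := exists_subset_card_eq (s := c.1ᶜ) (n := 2) (by omega)
  have mk : ∀ m ⊆ c.1ᶜ, Even m.card → ∃ x : L, x.1 = bv 2 c.1ᶜ m ∧ sqNorm x.1 = 48 ∧ sgn c • x = x := fun m hm ⟨k, hk⟩ => by
    refine ⟨⟨bv 2 c.1ᶜ m, (⟨compl_mem_gC c.2, fun i => by unfold bv tw; split_ifs <;> rfl, by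
      rw [sum_bv _ hm, hD, hk]; push_cast; omega⟩ : LS (bv 2 c.1ᶜ m) 0 _).lat⟩, rfl, ?_, Subtype.ext (funext fun i => ?_)⟩
    · rw [sqNorm, sum_congr rfl (g := fun i => if i ∈ c.1ᶜ then 4 else 0) fun i _ => by
        simp only [bv]; split_ifs <;> rfl]
      rw [sum_ite_mem, univ_inter, sum_const, hD]; rfl
    · rw [sgn_apply]
      split_ifs with h
      · simp only [bv, mem_compl, h, not_true, if_false, neg_zero]
      · rfl
  obtain ⟨v0, v1, v2, v3⟩ := mk ∅ (empty_subset _) ⟨0, rfl⟩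
  obtain ⟨w0, w1, w2, w3⟩ := mk m hm ⟨1, m2⟩
  have dv : ∀ x : L, (∀ i ∈ c.1, x.1 i = 0) → dotInt (v0 : V) x = 2 * ∑ i, x.1 i := fun x hx => by
    rw [dotInt, mul_sum]
    refine sum_congr rfl fun i _ => ?_
    rw [v1, bv]
    split_ifs with p q
    · exact absurd q (notMem_empty _)
    · rfl
    · rw [hx i (by simpa using p)]; rfl
  obtain ⟨g, g1, g2⟩ := to_233 v (-w) hv ((norm_neg' _).trans hw) (by rw [AddSubgroup.coe_neg, dot_neg, hvw]; rfl)
  obtain ⟨h, h1, h2⟩ := to_233 v0 w0 v2 w2 (by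
    rw [dv _ fun i hi => by rw [w1, bv, if_neg (by simpa using hi)], w1, sum_bv _ hm, hD, m2]; rfl)
  have a1 := two_of g1 h1
  have a2 := two_of g2 h2
  generalize h⁻¹ * g = a at a1 a2
  obtain ⟨i, hi⟩ : c.1.Nonempty := card_pos.1 (by omega)
  have z : ∀ x : L, sgn c • x = x → ∀ i ∈ c.1, x.1 i = 0 := fun x e i hi => by
    have := sgn_apply c x i
    rw [e, if_pos hi] at this; omega
  refine ⟨a⁻¹ * sgn c * a, by rw [mul_smul, mul_smul, a1, v3, ← a1, inv_smul_smul], ?_, ?_, fun x hx e => ?_⟩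
  · rw [← neg_inj, ← smul_neg, mul_smul, mul_smul, a2, w3, ← a2, inv_smul_smul]
  · refine orderOf_eq_prime (by rw [sq, mul_assoc, mul_assoc, ← mul_assoc a, ← mul_assoc a, mul_inv_cancel, one_mul,
      ← mul_assoc (sgn c), sgn_sq, one_mul, inv_mul_cancel]) fun e => ?_
    have : sgn c = 1 := by simpa [mul_assoc] using congrArg (fun t => a * t * a⁻¹) e
    have := z (E8 i) (by rw [this, one_smul]) i hi
    simp [E8, e8] at this
  · rw [mul_smul, mul_smul, inv_smul_eq_iff] at e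
    have p := dv _ (z _ e)
    have q := LS.sum_even (x := a • x) (i := i) (by rw [z _ e i hi]; rfl)
    rw [dot_of a1 rfl, hx.2.1] at p
    omega

end Cfsg.Agent.S1642
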