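import Cfsg.Statements.S1643
import Mathlib
import Cfsg.Agent.Lib.Perm.M24S
import Cfsg.Agent.Lib.Spor.Cls

set_option autoImplicit false
set_option maxHeartbeats 200000
open scoped Pointwise
open Cfsg

namespace Cfsg.Agent.S1643

open Cfsg.Agent.Spor Cfsg.Agent.PC Cfsg.Agent.Steiner Cfsg.Agent.S1609 Cfsg.Agent.Perm.M24S MulAction Finset Subgroup

def u2 : (ZMod 23)ˣ := ⟨2, 12, by decide, by decide⟩
abbrev α : Equiv.Perm GolayPt := Equiv.optionCongr (Equiv.addRight (1 : ZMod 23))
abbrev μ : Equiv.Perm GolayPt := Equiv.optionCongr (Units.mulLeft u2)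
theorem mu_mem : μ ∈ M24 := by
  have h : Valid 0xbd6717b56939461b52507314831040 := by unfold Valid; decide +kernel
  have : pm 0xbd6717b56939461b52507314831040 = μ := by ext1 p; rw [h.pm_apply]; revert p; decide +kernel
  exact this ▸ mem_of_okE (by decide +kernel)
def a : M24 := ⟨α, alpha_mem⟩
def m : M24 := ⟨μ, mu_mem⟩
def c : M24 := ⟨projInv, gamma_mem⟩
theorem sa : a ∈ stabilizer M24 (none : GolayPt) := (rfl : α none = none)
theorem sm : m ∈ stabilizer M24 (none : GolayPt) := (rfl : μ none = none)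
theorem oa : orderOf a = 23 := by
  haveI := Fact.mk (by decide : Nat.Prime 23)
  exact orderOf_eq_prime (Subtype.ext (by decide +kernel)) fun e => absurd (congrArg Subtype.val e) (by decide +kernel)
theorem om : orderOf m = 11 := by
  haveI := Fact.mk (by decide : Nat.Prime 11)
  exact orderOf_eq_prime (Subtype.ext (by decide +kernel)) fun e => absurd (congrArg Subtype.val e) (by decide +kernel)
theorem ta : ∀ y z : GolayPt, y ≠ none → z ≠ none → ∃ k < 23, α^[k] y = z := by decide +kernel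
def sq : GolayPt → Bool
  | none => false
  | some t => Nat.testBit 340830 t.val
theorem tm : ∀ y z : GolayPt, y ∉ ({none, some 0} : Finset GolayPt) → z ∉ ({none, some 0} : Finset GolayPt) → sq y = sq z →
    ∃ k < 11, μ^[k] y = z := by decide +kernel

theorem cm {x g : M24} {p : ℕ} (hp : p.Prime) (o : orderOf x = p) (hg : g ∈ normalizer (zpowers x : Set M24)) {y z : GolayPt}
    (n : y ≠ z) (hy : g • y = y) (hz : g • z = z) {k : ℕ} (e : x.1^[k] y = z) : Iv (zpowers x) (Fx g) := by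
  haveI := fin24
  have c : Nat.card (zpowers x) = p := by rw [Nat.card_zpowers, o]
  have e' : (x ^ k) • y = z := by rw [← e, ← Equiv.Perm.coe_pow]; rfl
  have s : x ^ k ∈ zpowers x := pow_mem (mem_zpowers x) k
  have f : ∀ L ≤ zpowers x, L = ⊥ ∨ L = zpowers x := fun L l =>
    ((Nat.dvd_prime hp).1 (c ▸ card_dvd_of_le l)).imp card_eq_one.1 fun h => eq_of_le_of_card_ge l (by omega)
  have s' : g * x ^ k * g⁻¹ ∈ zpowers x := (mem_normalizer_iff.1 hg _).1 s
  have b : zpowers x ⊓ stabilizer M24 y = ⊥ := (f _ inf_le_left).resolve_right fun h => n ((h.ge s).2.symm.trans e')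
  have q : (x ^ k)⁻¹ * (g * x ^ k * g⁻¹) = 1 := mem_bot.1 (b.le ⟨(zpowers x).mul_mem ((zpowers x).inv_mem s) s', by
    show ((x ^ k)⁻¹ * (g * x ^ k * g⁻¹)) • y = y
    rw [mul_smul, mul_smul, mul_smul, inv_smul_eq_iff.2 hy.symm, e', hz, ← e', inv_smul_smul]⟩)
  have w : zpowers x ⊓ centralizer {g} = zpowers x := (f _ inf_le_left).resolve_left fun h => n (by
    rw [← e', mem_bot.1 (h.le ⟨s, mem_centralizer_singleton_iff.2 (mul_inv_eq_iff_eq_mul.1 (inv_mul_eq_one.1 q).symm).symm⟩), one_smul])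
  intro t ht v hv
  rw [mem_Fx] at hv ⊢
  rw [← mul_smul, ← mem_centralizer_singleton_iff.1 (w.ge ht).2, mul_smul, hv]

theorem f0 (K : Subgroup M24) : K ≤ fx ∅ := fun g _ => mem_fx.2 (by simp)

theorem n23 {g : M24} (hg : g ∈ normalizer (zpowers a : Set M24)) {y z : GolayPt} (n : y ≠ z) (y0 : y ≠ none) (z0 : z ≠ none)
    (hy : g • y = y) (hz : g • z = z) : g = 1 := by
  obtain ⟨k, -, e⟩ := ta y z y0 z0
  have := rm 23 1 (by decide) (by rw [Nat.card_zpowers, oa]) (by decide) (f0 _) (cm (by decide) oa hg n hy hz e) (by simp)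
  have := one_lt_card.2 ⟨y, mem_Fx.2 hy, z, mem_Fx.2 hz, n⟩
  by_contra h
  have := fix_le h
  omega

theorem od {H : Subgroup M24} (h : H ≤ fx {none}) (f : ∀ g ∈ H, (Fx g).card ≠ 8) : ¬ 2 ∣ Nat.card H := fun d => by
  haveI := fin24
  obtain ⟨g, hg⟩ := exists_prime_orderOf_dvd_card' 2 d
  exact f g g.2 ((card_Fx_of_conj (cls2A ((orderOf_coe g).trans hg)
    (card_ne_zero.2 ⟨none, mem_Fx.2 (mem_fx.1 (h g.2) _ (mem_singleton_self _))⟩))).trans fx_tA)

theorem c253 {H : Subgroup M24} (h : H ≤ fx {none}) (h' : H ≤ normalizer (zpowers a : Set M24)) (ha : a ∈ H) (hm : m ∈ H) :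
    Nat.card H = 253 := by
  haveI := fin24
  have o := od h fun g hg e => by
    obtain ⟨y, hy, z, hz, n⟩ := one_lt_card.1 (show 1 < ((Fx g).erase none).card by have := pred_card_le_card_erase (s := Fx g) (a := none); omega)
    rw [n23 (h' hg) n (ne_of_mem_erase hy) (ne_of_mem_erase hz) (mem_Fx.1 (mem_of_mem_erase hy)) (mem_Fx.1 (mem_of_mem_erase hz)),
      show Fx 1 = univ from eq_univ_of_forall fun _ => mem_Fx.2 (one_smul _ _), Perm.M24S.c24] at e
    omega
  have l := chain (ivT.sd (iv_fx h)) {some 0, some 1} (by decide)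
  rw [show H ⊓ fx {some 0, some 1} = ⊥ from eq_bot_iff.2 fun g hg => n23 (h' hg.1) (y := some 0) (z := some 1) (by decide) (by decide)
    (by decide) (mem_fx.1 hg.2 _ (by decide)) (mem_fx.1 hg.2 _ (by decide)), card_bot,
    show (univ \ {none} : Finset GolayPt).card.descFactorial ({some 0, some 1} : Finset GolayPt).card = 506 by decide] at l
  have d1 := oa ▸ orderOf_dvd_natCard H ha
  have d2 := om ▸ orderOf_dvd_natCard H hm
  have := Nat.card_pos (α := H)
  omega

theorem sy {H : Subgroup M24} {x : M24} {p : ℕ} (hp : p.Prime) (o : orderOf x = p) (hx : x ∈ H) (h : ¬ p * p ∣ 244823040) :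
    ∃ i, i % p = 1 % p ∧ Nat.card H = i * Nat.card ↥(normalizer (zpowers x : Set M24) ⊓ H) := by
  haveI := fin24
  haveI := Fact.mk hp
  have l := zpowers_le.2 hx
  have c : Nat.card ((zpowers x).subgroupOf H) = p := by
    rw [Nat.card_congr (subgroupOfEquivOfLe l).toEquiv, Nat.card_zpowers, o]
  let P : Sylow p H := (IsPGroup.of_card (n := 1) (c.trans (pow_one p).symm)).toSylow fun d => h (by
    have := ((zpowers x).subgroupOf H).index_mul_card
    exact ((this ▸ c ▸ Nat.mul_dvd_mul_right d p : p * p ∣ Nat.card H).trans (card_subgroup_dvd_card H)).trans card_M24.dvd)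
  refine ⟨_, card_sylow_modEq_one p H, ?_⟩
  rw [P.card_eq_index_normalizer, ← Nat.card_congr (subgroupOfEquivOfLe (inf_le_right (a := normalizer (zpowers x : Set M24)) (b := H))).toEquiv,
    inf_subgroupOf_right, subgroupOf_normalizer_eq l]
  exact (index_mul_card _).symm

theorem cS : Nat.card (stabilizer M24 (none : GolayPt)) = 10200960 := by
  have := cfx {none} (by simp)
  rw [fx1, card_singleton, Nat.descFactorial_one] at this
  omega

theorem ar {i j s : ℕ} (d : i ∣ 40320) (i1 : i % 23 = 1) (e : 23 * i = j * s) (j1 : j % 11 = 1) (s1 : s % 2 = 1) : i = 1 ∨ i = 40320 := by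
  have h1 := (by decide +kernel : ∀ q < 1754, 40320 % (23 * q + 1) = 0 → q = 0 ∨ q = 1 ∨ q = 3 ∨ q = 25 ∨ q = 73 ∨ q = 1753) (i / 23)
    (by have := Nat.le_of_dvd (by decide) d; omega) (by rw [show 23 * (i / 23) + 1 = i by omega]; exact Nat.mod_eq_zero_of_dvd d)
  have hs : s ∣ 7245 := (Nat.Coprime.pow_right 7 (Nat.coprime_two_right.2 (Nat.odd_iff.2 s1))).dvd_of_dvd_mul_left
    ((Dvd.intro_left _ e.symm).trans ((Nat.mul_dvd_mul_left 23 d).trans (by norm_num)))
  have h2 := (by decide +kernel : ∀ a < 60, ∀ b < 61, 7245 % (122 * a + 2 * b + 1) = 0 → ∀ i ∈ [24, 70, 576, 1680],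
    (23 * i) % (122 * a + 2 * b + 1) = 0 → (23 * i / (122 * a + 2 * b + 1)) % 11 ≠ 1) (s / 122)
    (by have := Nat.le_of_dvd (by decide) hs; omega) (s % 122 / 2) (by omega)
  rw [show 122 * (s / 122) + 2 * (s % 122 / 2) + 1 = s by omega] at h2
  by_contra q
  exact h2 (Nat.mod_eq_zero_of_dvd hs) i (by simp only [List.mem_cons, List.not_mem_nil]; omega) (by rw [e]; exact Nat.mul_mod_left _ _)
    (by rw [e, Nat.mul_div_cancel _ (by omega)]; exact j1)

theorem mx {H : Subgroup M24} (h : H ≤ stabilizer M24 (none : GolayPt)) (ha : a ∈ H) (hm : m ∈ H) : Nat.card H = 253 ∨ Nat.card H = 10200960 := by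
  haveI := fin24
  have h1 : H ≤ fx {none} := fx1 none ▸ h
  have na : a ∈ normalizer (zpowers a : Set M24) := le_normalizer (mem_zpowers a)
  have nm : m ∈ normalizer (zpowers a : Set M24) := (mem_norm_zp a m).2 (by
    have : m * a * m⁻¹ = a ^ 2 := Subtype.ext (by decide +kernel)
    rw [this]; exact pow_mem (mem_zpowers a) 2)
  obtain ⟨i, i1, i2⟩ := sy (by decide) oa ha (by decide)
  rw [c253 (inf_le_right.trans h1) inf_le_left ⟨na, ha⟩ ⟨nm, hm⟩] at i2
  obtain ⟨j, j1, j2⟩ := sy (by decide) om hm (by decide)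
  have o := od (H := normalizer (zpowers m : Set M24) ⊓ H) (inf_le_right.trans h1) fun g hg e => by
    obtain ⟨y, hy, z, hz, n, q⟩ := exists_ne_map_eq_of_card_lt_of_maps_to (s := Fx g \ {none, some 0}) (t := univ) (f := sq) (by
      have := le_card_sdiff ({none, some 0} : Finset GolayPt) (Fx g)
      rw [show ({none, some 0} : Finset GolayPt).card = 2 from rfl] at this
      rw [show (univ : Finset Bool).card = 2 from rfl]; omega) fun _ _ => mem_univ _
    obtain ⟨k, -, e'⟩ := tm y z (mem_sdiff.1 hy).2 (mem_sdiff.1 hz).2 q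
    have := rm 11 2 (by decide) (by rw [Nat.card_zpowers, om]) (by decide) (f0 _)
      (cm (by decide) om hg.1 n (mem_Fx.1 (mem_sdiff.1 hy).1) (mem_Fx.1 (mem_sdiff.1 hz).1) e') (by simp)
    omega
  obtain ⟨s, hs⟩ := om ▸ orderOf_dvd_natCard (normalizer (zpowers m : Set M24) ⊓ H) ⟨le_normalizer (mem_zpowers m), hm⟩
  have d : i ∣ 40320 := Nat.dvd_of_mul_dvd_mul_right (by decide : 0 < 253) (by
    have := card_dvd_of_le h
    rwa [i2, cS, show 10200960 = 40320 * 253 by norm_num] at this)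
  have e : 23 * i = j * s := by rw [hs, i2] at j2; linarith
  have s1 : s % 2 = 1 := by
    rw [hs] at o
    omega
  rcases ar d i1 e j1 s1 with rfl | rfl
  · exact .inl i2
  · exact .inr i2

def hv : GolayPt → ZMod 23 × ZMod 23
  | none => (1, 0)
  | some t => (t, 1)
def dt (x y : GolayPt) : ZMod 23 := (hv x).1 * (hv y).2 - (hv x).2 * (hv y).1
def R (x y z : GolayPt) : Bool := sq (some (dt x y * dt y z * dt z x))
theorem gen (R : GolayPt → GolayPt → GolayPt → Bool) (T : Set M24) (h : ∀ g ∈ T, ∀ x y z, R (g.1 x) (g.1 y) (g.1 z) = R x y z)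
    (g : M24) (hg : g ∈ closure T) : ∀ x y z, R (g.1 x) (g.1 y) (g.1 z) = R x y z := by
  induction hg using closure_induction with
  | mem g hg => exact h g hg
  | one => exact fun _ _ _ => rfl
  | mul a b _ _ ha hb => exact fun x y z => (ha _ _ _).trans (hb x y z)
  | inv a _ ha => intro x y z; rw [← ha]; simp
theorem rr : (∀ x y z, R (α x) (α y) (α z) = R x y z) ∧ (∀ x y z, R (μ x) (μ y) (μ z) = R x y z) ∧
    ∀ x y z, R (projInv x) (projInv y) (projInv z) = R x y z := by decide +kernel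

theorem big {H : Subgroup M24} (ha : a ∈ H) (hm : m ∈ H) (hc : c ∈ H) : Nat.card H = 6072 ∨ H = ⊤ := by
  haveI := fin24
  have t : orbit H (none : GolayPt) = Set.univ := Set.eq_univ_of_forall fun y => by
    rcases eq_or_ne y none with rfl | n
    · exact mem_orbit_self _
    obtain ⟨k, -, e⟩ := ta (some 0) y (by decide) n
    exact ⟨⟨a ^ k * c, H.mul_mem (H.pow_mem ha k) hc⟩, by rw [← e, ← Equiv.Perm.coe_pow]; rfl⟩
  have k := card_eq_orbit_mul H (none : GolayPt)
  rw [t, Set.ncard_univ, Nat.card_eq_fintype_card (α := GolayPt), show Fintype.card GolayPt = 24 from rfl] at k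
  rcases mx (inf_le_right (a := H)) ⟨ha, sa⟩ ⟨hm, sm⟩ with e | e
  · exact .inl (by omega)
  · exact .inr (eq_top_of_card_eq _ (by rw [card_M24]; omega))

theorem cl (S : Set (Equiv.Perm GolayPt)) (T : Set M24) (h : S = M24.subtype '' T) :
    closure (S ∪ {g | ∃ u : (ZMod 23)ˣ, IsSquare u ∧ g = Equiv.optionCongr (Units.mulLeft u)}) = (closure (insert m T)).map M24.subtype := by
  rw [MonoidHom.map_closure, Set.image_insert_eq, ← h]
  refine le_antisymm ((closure_le _).2 (Set.union_subset (fun g hg => subset_closure (Set.mem_insert_of_mem _ hg)) ?_))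
    (closure_mono (Set.insert_subset (.inr ⟨u2, ⟨⟨5, 14, by decide, by decide⟩, by decide⟩, rfl⟩) Set.subset_union_left))
  rintro _ ⟨_, ⟨r, rfl⟩, rfl⟩
  obtain ⟨k, -, e⟩ := (by decide +kernel : ∀ r : (ZMod 23)ˣ, ∃ k < 11, Equiv.optionCongr (Units.mulLeft (r * r)) = μ ^ k) r
  exact e ▸ pow_mem (subset_closure (Set.mem_insert _ _)) k

theorem l1 : a ∈ closure ({m, a, c} : Set M24) := subset_closure (.inr (.inl rfl))
theorem l2 : m ∈ closure ({m, a, c} : Set M24) := subset_closure (.inl rfl)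
theorem l3 : c ∈ closure ({m, a, c} : Set M24) := subset_closure (.inr (.inr rfl))
theorem k1 : a ∈ closure ({m, a} : Set M24) := subset_closure (.inr rfl)
theorem k2 : m ∈ closure ({m, a} : Set M24) := subset_closure (.inl rfl)
theorem nd : ¬ R (cubeTwist none) (cubeTwist (some 1)) (cubeTwist (some 2)) = R none (some 1) (some 2) := by decide +kernel
theorem n : closure ({m, a, c} : Set M24) ≠ ⊤ := fun e =>
  nd (gen R _ (by rintro _ (rfl | rfl | rfl); exacts [rr.2.1, rr.1, rr.2.2]) ⟨cubeTwist, delta_mem⟩ (e.ge (mem_top _)) none (some 1) (some 2))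
theorem c1 : Nat.card (closure ({m, a, c} : Set M24)) = 6072 := (big l1 l2 l3).resolve_right n
theorem s : closure ({m, a} : Set M24) ≤ stabilizer M24 (none : GolayPt) :=
  (closure_le _).2 (Set.insert_subset sm (Set.singleton_subset_iff.2 sa))
theorem c2 : Nat.card (closure ({m, a} : Set M24)) = 253 := (mx s k1 k2).resolve_right fun e => by
  haveI := fin24
  have : Nat.card (closure ({m, a} : Set M24)) ≤ Nat.card (closure ({m, a, c} : Set M24)) :=
    card_le_of_le ((closure_le _).2 (Set.insert_subset l2 (Set.singleton_subset_iff.2 l1)))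
  rw [c1, e] at this
  omega
theorem co1 : IsCoatom (closure ({m, a, c} : Set M24)) := by
  haveI := fin24
  exact ⟨n, fun H h => (big (h.le l1) (h.le l2) (h.le l3)).resolve_left fun e =>
    h.ne (eq_of_le_of_card_ge h.le (e.trans c1.symm).le)⟩
theorem co2 : IsCoatom ((closure ({m, a} : Set M24)).subgroupOf (stabilizer M24 (none : GolayPt))) := by
  haveI := fin24
  have c3 := (Nat.card_congr (subgroupOfEquivOfLe s).toEquiv).trans c2
  refine ⟨fun e => ?_, fun H h => ?_⟩
  · rw [e, card_top, cS] at c3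
    omega
  · have := mx (map_subtype_le H) ⟨⟨a, s k1⟩, h.le k1, rfl⟩ ⟨⟨m, s k2⟩, h.le k2, rfl⟩
    rw [card_map_of_injective Subtype.val_injective] at this
    exact eq_top_of_card_eq _ ((this.resolve_left fun e => h.ne (eq_of_le_of_card_ge h.le (e.trans c3.symm).le)).trans cS.symm)
theorem sb (K : Subgroup M24) : (K.map M24.subtype).subgroupOf M24 = K := comap_map_eq_self_of_injective Subtype.val_injective K
theorem cd (K : Subgroup M24) : Nat.card (K.map M24.subtype) = Nat.card K := card_map_of_injective Subtype.val_injective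

/-- PSL(2, 23) = ⟨t ↦ t+1, t ↦ u t (u square), t ↦ −1/t⟩ is maximal of order 6072 in the group of the length-24 code, and its point stabiliser 23:11 (order 253) is maximal in the Mathieu group of degree 23. -/
theorem result : (Subgroup.closure ({Equiv.optionCongr (Equiv.addRight (1 : ZMod 23)), Cfsg.projInv} ∪ {g : Equiv.Perm Cfsg.GolayPt | ∃ u : (ZMod 23)ˣ, IsSquare u ∧ g = Equiv.optionCongr (Units.mulLeft u)}) ≤ Cfsg.M24 ∧ Nat.card ↥(Subgroup.closure ({Equiv.optionCongr (Equiv.addRight (1 : ZMod 23)), Cfsg.projInv} ∪ {g : Equiv.Perm Cfsg.GolayPt | ∃ u : (ZMod 23)ˣ, IsSquare u ∧ g = Equiv.optionCongr (Units.mulLeft u)})) = 6072 ∧ IsCoatom ((Subgroup.closure ({Equiv.optionCongr (Equiv.addRight (1 : ZMod 23)), Cfsg.projInv} ∪ {g : Equiv.Perm Cfsg.GolayPt | ∃ u : (ZMod 23)ˣ, IsSquare u ∧ g = Equiv.optionCongr (Units.mulLeft u)})).subgroupOf Cfsg.M24)) ∧ (Subgroup.closure ({Equiv.optionCongr (Equiv.addRight (1 : ZMod 23))} ∪ {g : Equiv.Perm Cfsg.GolayPt | ∃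 u : (ZMod 23)ˣ, IsSquare u ∧ g = Equiv.optionCongr (Units.mulLeft u)}) ≤ Cfsg.M24 ⊓ MulAction.stabilizer (Equiv.Perm Cfsg.GolayPt) (none : Cfsg.GolayPt) ∧ Nat.card ↥(Subgroup.closure ({Equiv.optionCongr (Equiv.addRight (1 : ZMod 23))} ∪ {g : Equiv.Perm Cfsg.GolayPt | ∃ u : (ZMod 23)ˣ, IsSquare u ∧ g = Equiv.optionCongr (Units.mulLeft u)})) = 253 ∧ IsCoatom (((Subgroup.closure ({Equiv.optionCongr (Equiv.addRight (1 : ZMod 23))} ∪ {g : Equiv.Perm Cfsg.GolayPt | ∃ u : (ZMod 23)ˣ, IsSquare u ∧ g = Equiv.optionCongr (Units.mulLeft u)})).subgroupOf Cfsg.M24).subgroupOf (MulAction.stabilizer Cfsg.M24 (none : Cfsg.GolayPt)))) := by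
  rw [cl _ {a, c} (by rw [Set.image_pair]; rfl), cl _ {a} (by rw [Set.image_singleton]; rfl), sb, sb, cd, cd]
  exact ⟨⟨map_subtype_le _, c1, co1⟩, le_inf (map_subtype_le _) (by rintro _ ⟨g, hg, rfl⟩; exact s hg), c2, co2⟩

end Cfsg.Agent.S1643
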