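import Cfsg.Statements.S1666
import Mathlib
import Cfsg.Agent.Lib.Perm.HSG
import Cfsg.Agent.Lib.Steiner.HS2
import Cfsg.Agent.Lib.Spor.M12
import Cfsg.Agent.Lib.Cert.LeeG
import Cfsg.Agent.S1609

set_option autoImplicit false
open Cfsg

namespace Cfsg.Agent.S1666

open Cfsg.Agent.Spor Cfsg.Agent.PC Cfsg.Agent.Steiner Cfsg.Agent.S1609 Cfsg.Agent.Perm.HSG MulAction Finset
open scoped Pointwise

theorem fixp {S : Finset GolayPt} {K : Subgroup M24} (hS : K ≤ fx S) (c2 : S.card = 2) (c : Nat.card K = 20160) :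
    ∃ p ∉ S, K ≤ stabilizer M24 p := by
  have i := Iv.sd (K := K) (D := univ) (fun _ _ _ _ => mem_univ _) (iv_fx hS)
  have ci : (univ \ S).card = 22 := by rw [card_sdiff_of_subset (subset_univ _), c2]; rfl
  obtain ⟨y, hy⟩ := card_pos.1 (show 0 < (univ \ S).card by omega)
  obtain ⟨F, f1, f2, f3, f4⟩ := orb i hy
  have q : ∀ F ⊆ univ \ S, Iv K F → 0 < F.card → F.card ≤ 10 → ∃ p ∉ S, K ≤ stabilizer M24 p := fun F f1 f3 l1 l2 => by
    have d : Disjoint S F := disjoint_sdiff.mono_right f1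
    by_cases h : F.card = 1
    · obtain ⟨p, rfl⟩ := card_eq_one.1 h
      exact ⟨p, disjoint_singleton_right.1 d, fun g hg => mem_singleton.1 (f3 g hg p (mem_singleton_self p))⟩
    exfalso
    by_cases h9 : 9 ≤ F.card
    · obtain ⟨o, ho, so⟩ | ⟨k, k1, -, k2⟩ := b6 hS f3 d 3 (by omega) (by omega)
      · have := card_le_card so
        rw [card_union_of_disjoint d, ho.2] at this
        omega
      · have := (k2.trans (Nat.mul_le_mul (Nat.descFactorial_le _ l2) (Nat.le_of_dvd (by decide) k1)))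
        exact absurd (c ▸ this) (by decide)
    · have b := bd hS f3 d (min 3 F.card) (min_le_right _ _) (by omega)
      rw [c, c2] at b
      revert b h h9
      generalize F.card = k at l1 l2
      interval_cases k <;> decide
  have l1 := card_pos.2 ⟨y, f2⟩
  have l2 := card_le_card f1
  have l3 := card_sdiff_of_subset f1
  have dv : F.card ∣ 20160 := c ▸ Dvd.intro _ f4.symm
  have : F.card ≠ 11 := fun e => absurd (e ▸ dv) (by decide)
  have : F.card ≠ 22 := fun e => absurd (e ▸ dv) (by decide)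
  by_cases l : F.card ≤ 10
  · exact q F f1 f3 l1 l
  · exact q _ sdiff_subset (i.sd f3) (by omega) (by omega)

theorem e2 : stabilizer M24 (gp 23) ⊓ stabilizer M24 (gp 0) = fx {gp 23, gp 0} := Subgroup.ext fun g => by simp [mem_fx]

theorem c22 : Nat.card Cfsg.Spor.M22 = 443520 := by
  have := cfx {gp 23, gp 0} (by rw [card_pair gp_ne]; omega)
  rw [card_pair gp_ne, ← e2, Nat.card_congr M22Equiv.toEquiv, show Nat.descFactorial 24 2 = 552 from rfl] at this
  omega

theorem two {S X : Type*} [Group S] [MulAction S X] (e : S ≃* Cfsg.Spor.M22) {b : X} (hb : (orbit S b).ncard = 22)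
    {w w' : X} (hw : w ∈ orbit S b) (hw' : w' ∈ orbit S b) (n : w ≠ b) (n' : w' ≠ b) : ∃ k : S, k • b = b ∧ k • w = w' := by
  haveI := fin24
  let ψ : S →* M24 := (Subgroup.subtype _).comp (e.trans M22Equiv.symm).toMonoidHom
  have i : Function.Injective ψ := Subtype.val_injective.comp (e.trans M22Equiv.symm).injective
  have r : ∀ g ∈ fx {gp 23, gp 0}, ∃ s, ψ s = g := fun g hg =>
    ⟨(e.trans M22Equiv.symm).symm ⟨g, e2 ▸ hg⟩, congrArg Subtype.val ((e.trans M22Equiv.symm).apply_symm_apply _)⟩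
  have r' : ∀ s, ψ s ∈ fx {gp 23, gp 0} := fun s => e2 ▸ ((e.trans M22Equiv.symm) s).2
  have c : Nat.card ((stabilizer S b).map ψ) = 20160 := by
    have := (stabilizer S b).index_mul_card
    rw [index_stabilizer, hb, Nat.card_congr e.toEquiv, c22] at this
    rw [Subgroup.card_map_of_injective i]
    omega
  have l : (stabilizer S b).map ψ ≤ fx {gp 23, gp 0} := by rintro _ ⟨s, -, rfl⟩; exact r' s
  obtain ⟨p, hp, h⟩ := fixp l (card_pair gp_ne) c
  have c3 : (insert p {gp 23, gp 0} : Finset GolayPt).card = 3 := by rw [card_insert_of_notMem hp, card_pair gp_ne]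
  have E : (stabilizer S b).map ψ = fx (insert p {gp 23, gp 0}) := Subgroup.eq_of_le_of_card_ge (fx_insert _ _ ▸ le_inf l h) (by
    have := cfx _ (c3 ▸ (by decide : 3 ≤ 5))
    rw [c3, show Nat.descFactorial 24 3 = 12144 from rfl] at this
    omega)
  have k : ∀ s, s • b = b ↔ ψ s • p = p := fun s => ⟨fun hs => h ⟨s, hs, rfl⟩, fun hs => by
    obtain ⟨t, ht, e⟩ := E.ge (show ψ s ∈ _ from fx_insert _ _ ▸ ⟨r' s, hs⟩)
    exact i e ▸ ht⟩
  have m : ∀ s, s • b ≠ b → ψ s • p ∉ (insert p {gp 23, gp 0} : Finset GolayPt) := fun s hs h => by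
    rcases mem_insert.1 h with h | h
    · exact hs ((k s).2 h)
    · exact hp ((smul_left_cancel (ψ s) (mem_fx.1 (r' s) _ h) : ψ s • p = p) ▸ h)
  obtain ⟨s, rfl⟩ := hw
  obtain ⟨s', rfl⟩ := hw'
  obtain ⟨g, g1, g2⟩ := exists_fix (insert p {gp 23, gp 0}) (k := 1) (by omega) (fun _ => ψ s • p) (fun _ => ψ s' • p)
    (Function.injective_of_subsingleton _) (Function.injective_of_subsingleton _) (fun _ => m s n) fun _ => m s' n'
  obtain ⟨t, rfl⟩ := r g (mem_fx.2 fun q hq => g1 q (mem_insert_of_mem hq))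
  refine ⟨t, (k t).2 (g1 p (mem_insert_self _ _)), ?_⟩
  have := (k (s'⁻¹ * t * s)).2 (by rw [map_mul, map_mul, mul_smul, mul_smul, g2 0, map_inv, inv_smul_smul])
  rwa [mul_smul, mul_smul, inv_smul_eq_iff] at this

theorem eK : Nonempty (Leech.KHS ≃* Cfsg.Spor.HS) := by
  have a : Cfsg.Spor.leechV = -Leech.U0 := Subtype.ext (by decide +kernel)
  have b : Cfsg.Spor.leechU' = Leech.U0 - Leech.U1 := Subtype.ext (by decide +kernel)
  refine ⟨(MulEquiv.subgroupCongr ?_).trans (Subgroup.subgroupOfEquivOfLe Ct.Lee.leH)⟩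
  rw [Ct.Lee.eH, a, b]
  ext g
  simp only [Leech.KHS, Subgroup.mem_inf, mem_stabilizer_iff, smul_neg, neg_inj, smul_sub]
  exact and_congr_right fun h => by rw [h, sub_right_inj]

/-- Recognition of the Higman–Sims group as a rank 3 permutation group: a transitive permutation group on 100 points in which the stabiliser of a point is isomorphic to the Mathieu group M₂₂ and has two further orbits, of sizes 22 and 77, is isomorphic to the Higman–Sims group. -/
theorem result {Ω : Type*} [Fintype Ω] [DecidableEq Ω] (hΩ : Fintype.card Ω = 100) (G : Subgroup (Equiv.Perm Ω)) [MulAction.IsPretransitive G Ω] (a : Ω)  (e : MulAction.stabilizer G a ≃* Cfsg.Spor.M22) (b c : Ω) (hb : (MulAction.orbit (MulAction.stabilizer G a) b).ncard = 22) (hc : (MulAction.orbit (MulAction.stabilizer G a) c).ncard = 77) : Cfsg.Spor.IsoHS G := by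
  classical
  have cS : Nat.card (stabilizer G a) = 443520 := (Nat.card_congr e.toEquiv).trans c22
  have cG : Nat.card G = 44352000 := by
    rw [← (stabilizer G a).index_mul_card, index_stabilizer_of_transitive, cS, Nat.card_eq_fintype_card, hΩ]
  have o1 : ∀ x, a ∈ orbit (stabilizer G a) x → (orbit (stabilizer G a) x).ncard = 1 := fun x h => by
    rw [← orbit_eq_iff.2 h, Set.ncard_eq_one]
    exact ⟨a, Set.eq_singleton_iff_unique_mem.2 ⟨mem_orbit_self a, by rintro _ ⟨g, rfl⟩; exact g.2⟩⟩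
  have ab : a ∉ orbit (stabilizer G a) b := fun h => by have := o1 b h; omega
  have ac : a ∉ orbit (stabilizer G a) c := fun h => by have := o1 c h; omega
  have bc : Disjoint (orbit (stabilizer G a) b) (orbit (stabilizer G a) c) := Set.disjoint_left.2 fun x h h' => by
    rw [← orbit_eq_iff.2 h, orbit_eq_iff.2 h'] at hb; omega
  have al : ∀ x, x ≠ a → x ∉ orbit (stabilizer G a) b → x ∈ orbit (stabilizer G a) c := fun x h1 h2 => by
    have : insert a (orbit (stabilizer G a) b ∪ orbit (stabilizer G a) c) = Set.univ :=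
      Set.eq_of_subset_of_ncard_le (Set.subset_univ _) (by
        rw [Set.ncard_insert_of_notMem (fun h => h.elim ab ac), Set.ncard_union_eq bc, hb, hc, Set.ncard_univ,
          Nat.card_eq_fintype_card, hΩ])
    exact ((this.ge (Set.mem_univ x)).resolve_left h1).resolve_left h2
  let R : Ω → Ω → Prop := fun x y => ∃ g : G, g • a = x ∧ g • b = y
  have Ra : ∀ y, R a y ↔ y ∈ orbit (stabilizer G a) b := fun y =>
    ⟨fun ⟨g, h1, h2⟩ => ⟨⟨g, h1⟩, h2⟩, fun ⟨g, h⟩ => ⟨g.1, g.2, h⟩⟩
  have R1 : ∀ (g : G) x y, R x y → R (g • x) (g • y) := fun g x y ⟨h, h1, h2⟩ =>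
    ⟨g * h, by rw [mul_smul, h1], by rw [mul_smul, h2]⟩
  have Ri : ∀ (g : G) x y, R (g • x) (g • y) ↔ R x y := fun g x y => ⟨fun h => by simpa using R1 g⁻¹ _ _ h, R1 g x y⟩
  have ba : R b a := by
    obtain ⟨g, hg⟩ := exists_smul_eq G b a
    have n : g • a ≠ a := fun h => ab ⟨⟨g, h⟩, hg⟩
    have : g • a ∈ orbit (stabilizer G a) b := by
      by_contra h
      have k1 := card_eq_orbit_mul (stabilizer G a) b
      have k2 := card_eq_orbit_mul (stabilizer G a) (g • a)
      have : stabilizer G a ⊓ stabilizer G (g • a) = (stabilizer G a ⊓ stabilizer G b).map (MulAut.conj g).toMonoidHom := by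
        rw [Subgroup.map_inf _ _ _ (MulAut.conj g).injective, ← stabilizer_smul_eq_stabilizer_map_conj,
          ← stabilizer_smul_eq_stabilizer_map_conj, hg, inf_comm]
      rw [this, Subgroup.card_map_of_injective (MulAut.conj g).injective, ← orbit_eq_iff.2 (al _ n h) |>.symm, hc] at k2
      rw [hb] at k1
      omega
    rw [← Ra] at this
    rwa [← Ri g, hg]
  let Γ : SimpleGraph Ω := ⟨R, ⟨fun x y ⟨g, h1, h2⟩ => h1 ▸ h2 ▸ R1 g _ _ ba⟩, ⟨fun x ⟨g, h1, h2⟩ =>
    ab ((smul_left_cancel g (h1.trans h2.symm) : a = b) ▸ mem_orbit_self _)⟩⟩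
  have dg : ∀ v, {w | Γ.Adj v w}.ncard = 22 := fun v => by
    obtain ⟨g, rfl⟩ := exists_smul_eq G a v
    rw [← hb, ← Set.ncard_smul_set g (orbit _ b)]
    congr 1
    ext y
    rw [Set.mem_smul_set_iff_inv_smul_mem, ← Ra, ← Ri g, smul_inv_smul]
    rfl
  have s : Γ.IsSRGWith 100 22 0 6 := srg3 hΩ dg (fun u v w h1 h2 h3 => ?_) fun v w w' h1 h2 h3 h4 => ?_
  · obtain ⟨φ, i, -⟩ := hsA s
    obtain ⟨B, b1, b2, ⟨ε⟩⟩ := srg100 s a
    have cA := (Nat.card_congr (cjA ε).toEquiv).symm.trans (cardA b1 b2)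
    haveI : Finite (Γ ≃g Γ) := Nat.finite_of_card_ne_zero (by rw [cA]; decide)
    have j : Function.Injective (toAut (Γ := Γ) Ri) := fun g h e => Subtype.ext (Equiv.ext fun x => RelIso.ext_iff.1 e x)
    have c1 := (Nat.card_congr (MonoidHom.ofInjective i).toEquiv).symm.trans Leech.KHS_simple.2
    have c2 := (Nat.card_congr (MonoidHom.ofInjective j).toEquiv).symm.trans cG
    have x2 : (toAut (Γ := Γ) Ri).range.index = 2 := by
      have := (toAut (Γ := Γ) Ri).range.index_mul_card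
      rw [c2, cA] at this
      omega
    haveI := Subgroup.normal_of_index_eq_two x2
    haveI := Leech.KHS_simple.1
    have l : φ.range ≤ (toAut (Γ := Γ) Ri).range := by
      rcases (inferInstance : ((toAut (Γ := Γ) Ri).range.comap φ).Normal).eq_bot_or_eq_top with h | h
      · have := Subgroup.relIndex_dvd_index_of_normal (toAut (Γ := Γ) Ri).range φ.range
        rw [← Subgroup.index_comap, h, Subgroup.index_bot, Leech.KHS_simple.2, x2] at this
        exact absurd this (by decide)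
      · rintro _ ⟨g, rfl⟩
        exact h.ge (Subgroup.mem_top g)
    exact ⟨(MonoidHom.ofInjective j).trans ((MulEquiv.subgroupCongr (Subgroup.eq_of_le_of_card_ge l (by omega)).symm).trans
      ((MonoidHom.ofInjective i).symm.trans eK.some))⟩
  · obtain ⟨g, rfl, rfl⟩ := h1
    obtain ⟨w, rfl⟩ := (MulAction.surjective g) w
    have n := h3.ne
    replace h2 := (Ra _).1 ((Ri g _ _).1 h2)
    replace h3 := (Ri g _ _).1 h3
    have t0 : ∀ x z, R a x → R a z → x ≠ z → R x z := by
      rintro _ z ⟨k, k1, rfl⟩ hz nz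
      obtain ⟨z, rfl⟩ := (MulAction.surjective k) z
      rw [← k1, Ri, Ra] at hz
      obtain ⟨t, t1, rfl⟩ := two e hb h2 hz (fun h => n (by rw [h])) fun h => nz (by rw [h])
      rw [Ri]
      have := R1 t.1 _ _ h3
      rwa [show t.1 • b = b from t1] at this
    have t1 : ∀ x y z, (x = y ∨ Γ.Adj x y) → (x = z ∨ Γ.Adj x z) → y = z ∨ Γ.Adj y z := by
      rintro x y z (rfl | h) h'
      · exact h'
      rcases h' with rfl | h'
      · exact .inr h.symm
      obtain ⟨k, rfl⟩ := exists_smul_eq G a x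
      obtain ⟨y, rfl⟩ := (MulAction.surjective k) y
      obtain ⟨z, rfl⟩ := (MulAction.surjective k) z
      exact (eq_or_ne y z).imp (congrArg _) fun n => R1 k _ _ (t0 _ _ ((Ri k _ _).1 h) ((Ri k _ _).1 h') n)
    have t2 : ∀ (k : G) x y, (x = y ∨ Γ.Adj x y) → k • x = k • y ∨ Γ.Adj (k • x) (k • y) := fun k x y h =>
      h.imp (congrArg _) (R1 k _ _)
    have bl : IsBlock G {y | a = y ∨ Γ.Adj a y} := isBlock_iff_smul_eq_of_mem.2 fun k x hx hk =>
      Set.eq_of_subset_of_ncard_le (by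
        rintro _ ⟨y, hy, rfl⟩
        exact t1 _ _ _ (hk.imp Eq.symm Γ.adj_symm) (t2 k _ _ (t1 _ _ _ hx hy))) (Set.ncard_smul_set _ _).ge
    have := bl.ncard_dvd_card ⟨a, .inl rfl⟩
    rw [show {y | a = y ∨ Γ.Adj a y} = insert a {y | Γ.Adj a y} from Set.ext fun y => or_congr_left eq_comm,
      Set.ncard_insert_of_notMem (s := {y | Γ.Adj a y}) Γ.irrefl, dg, Nat.card_eq_fintype_card, hΩ] at this
    exact absurd this (by decide)
  · obtain ⟨g, rfl⟩ := exists_smul_eq G a v
    obtain ⟨w, rfl⟩ := (MulAction.surjective g) w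
    obtain ⟨w', rfl⟩ := (MulAction.surjective g) w'
    have p := al w (fun h => h1 (by rw [h])) fun h => h2 (R1 g _ _ ((Ra _).2 h))
    have p' := al w' (fun h => h3 (by rw [h])) fun h => h4 (R1 g _ _ ((Ra _).2 h))
    rw [← orbit_eq_iff.2 p] at p'
    obtain ⟨k, rfl⟩ := p'
    refine ⟨toAut (Γ := Γ) Ri (g * k.1 * g⁻¹), ?_, ?_⟩
    · show (g * k.1 * g⁻¹) • g • a = g • a
      rw [mul_smul, mul_smul, inv_smul_smul, show k.1 • a = a from k.2]
    · show (g * k.1 * g⁻¹) • g • w = g • k.1 • w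
      rw [mul_smul, mul_smul, inv_smul_smul]

end Cfsg.Agent.S1666
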