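import Cfsg.Statements.S1681
import Cfsg.Agent.Lib.Cert.Suz3.M
import Cfsg.Agent.Lib.Fischer.Pr

set_option autoImplicit false
set_option maxHeartbeats 400000
open Cfsg

namespace Cfsg.Agent.S1681

open Cfsg.Agent.PC Cfsg.Agent.Ct in
theorem hH : (Subgroup.closure ({Cfsg.Spor.Suz.a, Cfsg.Spor.Suz.b, Cfsg.Spor.Suz.c, Cfsg.Spor.Suz.d, Cfsg.Spor.Suz.f, Cfsg.Spor.Suz.g} : Set (FreeGroup Cfsg.Spor.Suz.Gen))).map (PresentedGroup.mk (Cfsg.Spor.coxRelators Cfsg.Spor.Suz.edges ∪ {r | r ∈ Cfsg.Spor.Suz.extra})) = gen Suz3.q 6 :=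
  (Fi.gen_getD (PresentedGroup.mk (Cfsg.Spor.coxRelators Cfsg.Spor.Suz.edges ∪ {r | r ∈ Cfsg.Spor.Suz.extra}))
    [Cfsg.Spor.Suz.a, Cfsg.Spor.Suz.c, Cfsg.Spor.Suz.d, Cfsg.Spor.Suz.b, Cfsg.Spor.Suz.f, Cfsg.Spor.Suz.g] []
    (S := {Cfsg.Spor.Suz.a, Cfsg.Spor.Suz.b, Cfsg.Spor.Suz.c, Cfsg.Spor.Suz.d, Cfsg.Spor.Suz.f, Cfsg.Spor.Suz.g}) (by simp; tauto)).trans
    (gen_congr fun j hj => by
      have h : j < 6 := hj
      have e : Suz3.W j = [[0, 1, 2, 4, 5, 6].getD j 0] := (by decide +kernel : ∀ j < 6, Suz3.W j = [[0, 1, 2, 4, 5, 6].getD j 0]) j h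
      rw [Suz3.q, e, ev_cons, ev_nil, one_mul]
      interval_cases j <;> rfl)

/-- In the presented sporadic Suzuki group (generators a, …, g), the subgroup generated by the images of a, b, c, d, f, g has index 22880. -/
theorem result : (((Subgroup.closure ({Cfsg.Spor.Suz.a, Cfsg.Spor.Suz.b, Cfsg.Spor.Suz.c, Cfsg.Spor.Suz.d, Cfsg.Spor.Suz.f, Cfsg.Spor.Suz.g} : Set (FreeGroup Cfsg.Spor.Suz.Gen))).map (PresentedGroup.mk (Cfsg.Spor.coxRelators Cfsg.Spor.Suz.edges ∪ {r | r ∈ Cfsg.Spor.Suz.extra})))).index = 22880 := by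
  exact hH ▸ Ct.Suz3.idx

end Cfsg.Agent.S1681
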