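import Cfsg.Statements.S1688
import Cfsg.Agent.Lib.Fischer.Pr23
import Cfsg.Agent.Lib.Fischer.Pr22
import Cfsg.Agent.Lib.Fischer.Ex2

set_option autoImplicit false
open Cfsg

namespace Cfsg.Agent.S1688

/-- In the presented Fischer group Fi₂₃, the subgroup generated by the images of a, …, i is a non-split double cover of the presented Fischer group Fi₂₂. -/
theorem result : Cfsg.IsNonsplitDoubleCover (((Subgroup.closure ({Cfsg.Spor.Fi23.a, Cfsg.Spor.Fi23.b, Cfsg.Spor.Fi23.c, Cfsg.Spor.Fi23.d, Cfsg.Spor.Fi23.e, Cfsg.Spor.Fi23.f, Cfsg.Spor.Fi23.g, Cfsg.Spor.Fi23.h, Cfsg.Spor.Fi23.i} : Set (FreeGroup Cfsg.Spor.Fi23.Gen))).map (PresentedGroup.mk (Cfsg.Spor.coxRelators Cfsg.Spor.Fi23.edges ∪ {r | r ∈ Cfsg.Spor.Fi23.extra})))) Cfsg.Spor.Fi22 := by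
  obtain ⟨D, rt, h, -, -, h4, -⟩ := Fi.P23.md.2
  obtain ⟨D', rt', h', -⟩ := Fi.P22.md.2
  obtain ⟨K, _, _, E, pt, h5, h6⟩ := h.nsc
  obtain ⟨e, -⟩ := h5.1.equiv h'.1 Fi.X22.dsc
  rw [Fi.P23.eq9, ← h4]
  exact Fi.nsc_congr h6 e

end Cfsg.Agent.S1688
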