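import Cfsg.Statements.S1692
import Cfsg.Agent.Lib.Cert.ON.M
import Cfsg.Agent.Lib.Fischer.Pr

set_option autoImplicit false
open Cfsg

namespace Cfsg.Agent.S1692

open Cfsg.Agent.PC Cfsg.Agent.Ct Cfsg.Agent.Ct.ON in
theorem hH : (Subgroup.closure ({Cfsg.Spor.ON.a, Cfsg.Spor.ON.b, Cfsg.Spor.ON.c, Cfsg.Spor.ON.d, Cfsg.Spor.ON.e, Cfsg.Spor.ON.f} : Set (FreeGroup Cfsg.Spor.ON.Gen))).map (PresentedGroup.mk (Cfsg.Spor.coxRelators Cfsg.Spor.ON.edges ∪ {r | r ∈ Cfsg.Spor.ON.extra})) = MulAction.stabilizer Cfsg.Spor.ON (pt l0.β) := by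
  have e : _ = gen al 6 := (Fi.gen_getD (PresentedGroup.mk (Cfsg.Spor.coxRelators Cfsg.Spor.ON.edges ∪ {r | r ∈ Cfsg.Spor.ON.extra}))
    [Cfsg.Spor.ON.c, Cfsg.Spor.ON.d, Cfsg.Spor.ON.a, Cfsg.Spor.ON.f, Cfsg.Spor.ON.b, Cfsg.Spor.ON.e] []
    (S := {Cfsg.Spor.ON.a, Cfsg.Spor.ON.b, Cfsg.Spor.ON.c, Cfsg.Spor.ON.d, Cfsg.Spor.ON.e, Cfsg.Spor.ON.f}) (by simp; tauto)).trans
    (gen_congr fun j hj => by
      have : j < 6 := hj
      interval_cases j <;> rfl)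
  exact e.trans ch.stab.1

/-- In the presented O'Nan group (generators g, a, b, c, d, e, f), the subgroup generated by the images of a, …, f has index 122760. -/
theorem result : (((Subgroup.closure ({Cfsg.Spor.ON.a, Cfsg.Spor.ON.b, Cfsg.Spor.ON.c, Cfsg.Spor.ON.d, Cfsg.Spor.ON.e, Cfsg.Spor.ON.f} : Set (FreeGroup Cfsg.Spor.ON.Gen))).map (PresentedGroup.mk (Cfsg.Spor.coxRelators Cfsg.Spor.ON.edges ∪ {r | r ∈ Cfsg.Spor.ON.extra})))).index = 122760 := by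
  exact (Ct.ON.ch.quot rfl Ct.ON.hs hH).1

end Cfsg.Agent.S1692
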