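import Cfsg.Statements.S1753


set_option autoImplicit false
universe u
open Cfsg

namespace Cfsg.Agent.S1753

/-- Let K be any property of groups. (1) If G is a minimal counterexample relative to K — a finite non-abelian simple group not satisfying K such that every finite non-abelian simple group of smaller order satisfies K — then every proper subgroup of G is a K-group (all its non-abelian simple sections satisfy K), since such sections have smaller order than G. (2) Consequently (induction on the order), if every finite non-abelian simple group all of whose proper subgroups are K-groups satisfies K, then every finite non-abelian simple group satisfies K. -/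
theorem result (K : ∀ (X : Type u) [Group X], Prop) :
    (∀ (G : Type u) [Group G], Cfsg.IsMinCounterexampleWith K G → Cfsg.IsKProperWith K G) ∧
      ((∀ (X : Type u) [Group X] [Finite X], IsSimpleGroup X → ¬ IsMulCommutative X → Cfsg.IsKProperWith K X → K X) →
        ∀ (G : Type u) [Group G] [Finite G], IsSimpleGroup G → ¬ IsMulCommutative G → K G) := by
  have h1 : ∀ (G : Type u) [Group G] [Finite G], (∀ (X : Type u) [Group X] [Finite X],
      IsSimpleGroup X → ¬ IsMulCommutative X → Nat.card X < Nat.card G → K X) → IsKProperWith K G := by
    intro G _ _ h H hH L N _ hs hc
    refine h _ hs hc (lt_of_le_of_lt (Nat.le_of_dvd Nat.card_pos ((Subgroup.card_quotient_dvd_card N).trans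
      (Subgroup.card_subgroup_dvd_card L))) ?_)
    have := Subgroup.card_le_card_group H
    exact lt_of_le_of_ne this fun e => hH (Subgroup.eq_top_of_card_eq H e)
  refine ⟨fun G _ ⟨_, _, _, _, h⟩ => h1 G h, fun h G _ _ a b => ?_⟩
  induction hn : Nat.card G using Nat.strong_induction_on generalizing G with
  | _ n ih => exact h G a b (h1 G fun X _ _ c d e => ih _ (hn ▸ e) X _ inferInstance c d rfl)

end Cfsg.Agent.S1753
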