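import Cfsg.Statements.S1754
import Cfsg.Agent.Lib.Comp.Loc

set_option autoImplicit false
open Cfsg

namespace Cfsg.Agent.S1754

/-- Let A be a standard subgroup of the finite group G (A quasisimple, C_G(A) tightly embedded of even order, A commuting elementwise with no other conjugate of itself, and N_G(A) = N_G(C_G(A))), and let t be an involution of G centralizing A. Then the centralizer of t lies in the normalizer of A; in particular A, viewed inside C_G(t), is a component of C_G(t). -/
theorem result {G : Type*} [Group G] [Finite G]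
    (A : Subgroup G) (hA : Cfsg.IsStandardSubgroup A) (t : G) (ht : orderOf t = 2) (htA : t ∈ Subgroup.centralizer (A : Set G)) :
    Subgroup.centralizer ({t} : Set G) ≤ Subgroup.normalizer (A : Set G) ∧
      Cfsg.IsComponent (A.subgroupOf (Subgroup.centralizer ({t} : Set G))) := by
  open Cfsg.Agent.Comp Subgroup in
  obtain ⟨hq, ⟨-, hte⟩, -, hN⟩ := hA
  have key : centralizer ({t} : Set G) ≤ normalizer (A : Set G) := fun g hg => by
    rw [hN]
    by_contra h
    have h1 : t ∈ centralizer (A : Set G) ⊓ cj(g, centralizer (A : Set G)) :=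
      ⟨htA, mem_cj.2 (by rwa [mul_assoc, ← mem_centralizer_singleton_iff.1 hg, inv_mul_cancel_left])⟩
    exact (Nat.not_even_iff_odd.2 (hte g h)) (even_iff_two_dvd.2 (ht ▸ orderOf_dvd_natCard _ h1))
  exact ⟨key, (compIn_iff.1 ⟨SubnIn.of_normalizer (le_centralizer_singleton_iff.2 htA) key, qs_iff.2 hq⟩).2⟩

end Cfsg.Agent.S1754
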