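import Cfsg.Statements.S1755
import Cfsg.Agent.Lib.Comp.Loc

set_option autoImplicit false
open Cfsg

namespace Cfsg.Agent.S1755

/-- Let G be a finite group and let z be an involution of G such that Q, the generalized Fitting subgroup of the centralizer C of z, is a 2-group of symplectic type (every characteristic abelian subgroup of Q is cyclic). Let B be a characteristic abelian subgroup of Q, viewed as a subgroup of G. Then for every g in G, the conjugate of B by g either equals B or meets B trivially. -/
theorem result {G : Type*} [Group G] [Finite G] (z : G) (hz : orderOf z = 2) (hQ : Cfsg.IsOfSymplecticType ↥(Cfsg.generalizedFittingSubgroup ↥(Subgroup.centralizer ({z} : Set G))))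
    (B : Subgroup ↥(Cfsg.generalizedFittingSubgroup ↥(Subgroup.centralizer ({z} : Set G)))) (hBc : B.Characteristic) (hBa : IsMulCommutative ↥B) (g : G) :
    ((B.map (Cfsg.generalizedFittingSubgroup ↥(Subgroup.centralizer ({z} : Set G))).subtype).map (Subgroup.centralizer ({z} : Set G)).subtype).map (MulAut.conj g).toMonoidHom =
        (B.map (Cfsg.generalizedFittingSubgroup ↥(Subgroup.centralizer ({z} : Set G))).subtype).map (Subgroup.centralizer ({z} : Set G)).subtype ∨
      ((B.map (Cfsg.generalizedFittingSubgroup ↥(Subgroup.centralizer ({z} : Set G))).subtype).map (Subgroup.centralizer ({z} : Set G)).subtype).map (MulAut.conj g).toMonoidHom ⊓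
        (B.map (Cfsg.generalizedFittingSubgroup ↥(Subgroup.centralizer ({z} : Set G))).subtype).map (Subgroup.centralizer ({z} : Set G)).subtype = ⊥ := by
  open Cfsg.Agent.Comp Subgroup in
  classical
  let C := centralizer ({z} : Set G)
  let Q := generalizedFittingSubgroup C
  let z' : C := ⟨z, mem_centralizer_singleton_iff.2 rfl⟩
  have hz' : z' ∈ center C := mem_center_iff.2 fun c => Subtype.ext (mem_centralizer_singleton_iff.1 c.2)
  have hzQ : z' ∈ Q := centralizer_fstar_le (center_le_centralizer _ hz')
  have hz2 : (⟨z', hzQ⟩ : Q) ∈ center Q := mem_center_iff.2 fun c => Subtype.ext (mem_center_iff.1 hz' c)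
  have hcyc := hQ.2 (B ⊔ center Q) (characteristic_iff_map_eq.2 fun φ => by
    rw [Subgroup.map_sup, characteristic_iff_map_eq.1 hBc, characteristic_iff_map_eq.1 inferInstance]) (isMulCommutative_iff_le.2 (sup_le
    (le_centralizer_sup (isMulCommutative_iff_le.1 hBa) (le_centralizer_iff.1 (center_le_centralizer _)))
    (center_le_centralizer _)))
  have key : ∀ t ∈ (B.map Q.subtype).map C.subtype, orderOf t = 2 → t = z := by
    rintro _ ⟨_, ⟨b, hb, rfl⟩, rfl⟩ h
    have h1 : orderOf (⟨b, mem_sup_left hb⟩ : (B ⊔ center Q : Subgroup Q)) = 2 := by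
      simpa using h
    have h2 : orderOf (⟨⟨z', hzQ⟩, mem_sup_right hz2⟩ : (B ⊔ center Q : Subgroup Q)) = 2 := by
      simpa [z'] using hz
    have := Fintype.ofFinite (B ⊔ center Q : Subgroup Q)
    have h3 := IsCyclic.card_orderOf_eq_totient (h1 ▸ orderOf_dvd_card)
    rw [Nat.totient_two] at h3
    have := Finset.card_le_one.1 h3.le _ (Finset.mem_filter.2 ⟨Finset.mem_univ _, h1⟩) _
      (Finset.mem_filter.2 ⟨Finset.mem_univ _, h2⟩)
    exact congrArg (fun x : (B ⊔ center Q : Subgroup Q) => ((x : Q) : G)) this
  by_cases h : cj(g, (B.map Q.subtype).map C.subtype) ⊓ (B.map Q.subtype).map C.subtype = ⊥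
  · exact Or.inr h
  left
  obtain ⟨t, ⟨h1, h2⟩, h3⟩ := exists_mem_orderOf_eq (dvd_card_of_isPGroup
    ((((hQ.1.to_subgroup B).map _).map _).to_inf_right) h)
  have h4 := key _ (mem_cj.1 h1) (by rw [← h3]; simpa using (MulAut.conj g⁻¹).orderOf_eq t)
  rw [key t h2 h3] at h4
  have hn : (B.map Q.subtype).Normal := inferInstance
  exact cj_eq_self_iff.2 ((normal_iff_map_subtype _).1 hn (show g ∈ C from mem_centralizer_singleton_iff.2 (by
    nth_rw 1 [← h4]; group)))

end Cfsg.Agent.S1755
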