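import Cfsg.Statements.S1775
import Cfsg.Agent.Lib.FT.Term

set_option autoImplicit false
open Cfsg

namespace Cfsg.Agent.S1775

/-- Let G be a finite group whose generalized Fitting subgroup is a non-abelian simple group and in which every proper section (every quotient H/N of a proper subgroup H, or of G by a nontrivial normal subgroup) has the B-property. Let x, y be commuting involutions, let D be the intersection of the 2-layer of C_G(x) with C_G(y), and let J be a 2-component of D. Write Q for the quotient of C_G(y) by its largest normal odd-order subgroup. Then (i) the image of J in Q is a component of the centralizer in Q of the image of x; and (ii) for every J-invariant subgroup E of odd order of C_G(x) ∩ C_G(y), the commutator subgroup [J, E] lies in the largest normal odd-order subgroup of C_G(y). -/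
theorem result {G : Type*} [Group G] [Finite G]
    (hF : IsSimpleGroup ↥(Cfsg.generalizedFittingSubgroup G)) (hF' : ¬ IsMulCommutative ↥(Cfsg.generalizedFittingSubgroup G))
    (hsec : ∀ (H : Subgroup G) (N : Subgroup ↥H) [N.Normal], (H ≠ ⊤ ∨ N ≠ ⊥) → Cfsg.HasBProperty (↥H ⧸ N))
    (x y : G) (hx : orderOf x = 2) (hy : orderOf y = 2) (hxy : x * y = y * x)
    (J : Subgroup ↥((Cfsg.pLayer 2 ↥(Subgroup.centralizer ({x} : Set G))).map (Subgroup.centralizer ({x} : Set G)).subtype ⊓ Subgroup.centralizer ({y} : Set G)))
    (hJ : Cfsg.IsPComponent 2 J) :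
    Cfsg.IsComponent
        ((((J.map (Subgroup.subtype _)).subgroupOf (Subgroup.centralizer ({y} : Set G))).map (QuotientGroup.mk' (Cfsg.oddCore ↥(Subgroup.centralizer ({y} : Set G))))).subgroupOf
          (Subgroup.centralizer ({(QuotientGroup.mk' (Cfsg.oddCore ↥(Subgroup.centralizer ({y} : Set G))) ⟨x, Subgroup.mem_centralizer_singleton_iff.mpr hxy⟩ : ↥(Subgroup.centralizer ({y} : Set G)) ⧸ Cfsg.oddCore ↥(Subgroup.centralizer ({y} : Set G)))} : Set _))) ∧
      ∀ E : Subgroup G, E ≤ Subgroup.centralizer ({x} : Set G) ⊓ Subgroup.centralizer ({y} : Set G) → Odd (Nat.card ↥E) →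
        (∀ j ∈ J.map (Subgroup.subtype _), ∀ e ∈ E, j * e * j⁻¹ ∈ E) →
          ⁅J.map (Subgroup.subtype _), E⁆ ≤ (Cfsg.oddCore ↥(Subgroup.centralizer ({y} : Set G))).map (Subgroup.centralizer ({y} : Set G)).subtype := by
  open Cfsg.Agent.Comp Subgroup in
  have hJ' := pCompIn_map_subtype_iff.2 hJ
  generalize J.map (Subgroup.subtype _) = J' at hJ'
  clear hJ J
  rename' J' => J
  rw [map_pLayer] at hJ'
  have h1 : PCompIn 2 J (centralizer ({y} : Set G) ⊓ centralizer ({x} : Set G)) := by
    rw [inf_comm]; exact hJ'.trans ((PLay_subnIn _).inf_right _)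
  have hC : centralizer ({y} : Set G) ≠ ⊤ := fun h => by
    have a : zpowers y ≤ generalizedFittingSubgroup G :=
      (le_centralizer_iff.1 (by rw [centralizer_zpowers, h]; exact le_top)).trans centralizer_fstar_le
    have b : (⟨y, a (mem_zpowers y)⟩ : generalizedFittingSubgroup G) ∈ center _ :=
      mem_center_iff.2 fun g => Subtype.ext (mem_centralizer_singleton_iff.1 (h ▸ mem_top (g : G)))
    rcases (inferInstance : (center (generalizedFittingSubgroup G)).Normal).eq_bot_or_eq_top with c | c
    · rw [c, mem_bot, Subtype.ext_iff] at b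
      rw [show y = 1 from b, orderOf_one] at hy; omega
    · exact hF' (center_eq_top_iff.1 c)
  have hB := hsec _ (oddCore (centralizer ({y} : Set G))) (Or.inl hC)
  let C := centralizer ({y} : Set G)
  let x' : C := ⟨x, mem_centralizer_singleton_iff.mpr hxy⟩
  have hx2 : orderOf x' = 2 := by rw [← Subgroup.orderOf_coe]; exact hx
  have hJC : J ≤ centralizer ({y} : Set G) := h1.le.trans inf_le_left
  have h2 : PCompIn 2 (J.subgroupOf C) (⊤ ⊓ centralizer ({x'} : Set C)) := by
    rw [← pCompIn_map_iff C.subtype_injective, map_subgroupOf_eq_of_le hJC, top_inf_eq,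
      map_subtype_centralizer_singleton]
    exact h1
  let f := QuotientGroup.mk' (oddCore C)
  have hk : f.ker = oddCore C := QuotientGroup.ker_mk' _
  have h3 := h2.map_of_coprime f (coprime_of_le (coprime_pPrimeCore 2) (inf_le_right.trans hk.le))
  rw [map_inf_centralizer_singleton f (le_normalizer_normal ⊤ ⊤ (mem_top _)) (by
    rw [hx2, top_inf_eq, hk]; exact (coprime_pPrimeCore 2).symm),
    map_top_of_surjective _ (QuotientGroup.mk'_surjective _), top_inf_eq] at h3
  have h4 : orderOf (f x') = 2 := orderOf_eq_prime (by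
      rw [← map_pow, show x' ^ 2 = 1 from hx2 ▸ pow_orderOf_eq_one x', map_one])
    fun e => by
      have := (coprime_pPrimeCore (G := C) 2).coprime_dvd_left (orderOf_dvd_natCard _ ((QuotientGroup.eq_one_iff _).1 e))
      rw [hx2] at this; simp at this
  have h5 := hB _ h4
  rw [map_commutator, map_pLayer, map_pPrimeCore, show oddCore (C ⧸ oddCore C) = ⊥ from pPrimeCore_quotient,
    le_bot_iff, commutator_eq_bot_iff'] at h5
  have h6 := h3.compIn_iff.2 ((h3.subn.Opp_le 2).trans (h5.trans (centralizer_mono h3.le_PLay)))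
  refine ⟨(compIn_iff.1 h6).2, fun E h7 h8 h9 => ?_⟩
  have hEC : E ≤ C := h7.trans inf_le_right
  have a : (E.subgroupOf C).map f ≤ centralizer ({f x'} : Set _) := by
    rintro _ ⟨e, he, rfl⟩
    refine mem_centralizer_singleton_iff.2 ?_
    rw [← map_mul, ← map_mul]; congr 1
    exact Subtype.ext (mem_centralizer_singleton_iff.1 (h7 he).1)
  have b : (J.subgroupOf C).map f ≤ normalizer ((E.subgroupOf C).map f : Set _) :=
    map_le_normalizer_map f (le_normalizer_of_forall fun j hj e he => h9 j hj e he)
  rcases h6.le_or_le_centralizer_of_normalizer a b with c | c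
  · refine absurd c (h3.pqs.not_le_of_coprime (coprime_map f ?_))
    rw [card_subgroupOf hEC]; exact Nat.coprime_two_right.2 h8
  · rw [← commutator_eq_bot_iff', map_eq_bot_iff_le_ker', hk] at c
    have := map_mono (f := C.subtype) c
    rwa [map_commutator, map_subgroupOf_eq_of_le hJC, map_subgroupOf_eq_of_le hEC] at this

end Cfsg.Agent.S1775
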