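import Cfsg.Statements.S1781
import Cfsg.Agent.Lib.FT.TI

set_option autoImplicit false
open Cfsg

namespace Cfsg.Agent.S1781

/-- Let A be an abelian 2-subgroup of the finite group G such that every conjugate of A equals A or meets A trivially, and let g ∈ G with g A g⁻¹ ≠ A. Then either the subgroup of those elements of A that normalize g A g⁻¹ is an elementary abelian 2-group, or A and g A g⁻¹ commute elementwise. -/
theorem result {G : Type*} [Group G] [Finite G] (A : Subgroup G)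
    (hA2 : IsPGroup 2 ↥A) (hAa : IsMulCommutative ↥A)
    (hti : ∀ h : G, A.map (MulAut.conj h).toMonoidHom = A ∨ A.map (MulAut.conj h).toMonoidHom ⊓ A = ⊥)
    (g : G) (hg : A.map (MulAut.conj g).toMonoidHom ≠ A) :
    Cfsg.IsElementaryAbelian 2 (A ⊓ Subgroup.normalizer ((A.map (MulAut.conj g).toMonoidHom : Subgroup G) : Set G)) ∨
      ⁅A, A.map (MulAut.conj g).toMonoidHom⁆ = ⊥ := by
  open Cfsg.Agent.Comp Subgroup in
  by_cases h : ∀ x ∈ A ⊓ normalizer (cj(g, A) : Set G), x ^ 2 = 1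
  · exact Or.inl ⟨isMulCommutative_iff_le.2 (inf_le_left.trans ((isMulCommutative_iff_le.1 hAa).trans
      (centralizer_mono inf_le_left))), h⟩
  right
  push Not at h
  obtain ⟨x, ⟨h1, h2⟩, h3⟩ := h
  have hAB : cj(g, A) ⊓ A = ⊥ := (hti g).resolve_left hg
  have h4 := le_centralizer_of_sq (isPGroup_cj_iff.2 hA2) inferInstance h2 (hA2.to_le (zpowers_le.2 h1))
    (fun b hb => by
      have a := centralizer_le_normalizer_of_TI hti (pow_mem h1 2) h3 hb.2
      have : b * x * b⁻¹ * x⁻¹ ∈ cj(g, A) ⊓ A := ⟨by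
        rw [mul_assoc, mul_assoc, ← mul_assoc x]
        exact mul_mem hb.1 (conj_mem_of_mem_normalizer h2 (inv_mem hb.1)),
        A.mul_mem (conj_mem_of_mem_normalizer a h1) (A.inv_mem h1)⟩
      rw [hAB, mem_bot, mul_inv_eq_one, mul_inv_eq_iff_eq_mul] at this
      exact mem_centralizer_singleton_iff.2 this)
  refine commutator_eq_bot_of_TI hA2 (isPGroup_cj_iff.2 hA2) (fun k _ => ?_) (card_cj _ _).ge
    (by rwa [inf_comm]) (h4.trans (centralizer_le_normalizer_of_TI hti h1 (by rintro rfl; simp at h3)))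
  rcases hti (g⁻¹ * k * g) with a | a
  · left; rw [← cj_inj (g := g⁻¹), ← cj_mul, ← cj_mul, cj_inv_cj, a]
  · right; rw [← cj_eq_bot_iff (g := g⁻¹), cj_inf, ← cj_mul, ← cj_mul, cj_inv_cj, a]

end Cfsg.Agent.S1781
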