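import Cfsg.Statements.S1783
import Cfsg.Agent.Lib.FT.TI
import Cfsg.Agent.Lib.Solv.Frattini
import Cfsg.Agent.Lib.Solv.Coprime

set_option autoImplicit false
open Cfsg

namespace Cfsg.Agent.S1783

/-- Let X be a finite group whose generalized Fitting subgroup equals its largest normal 2-subgroup Q, and let A be an abelian 2-subgroup of X such that every conjugate of A equals A or meets A trivially. Let B be the subgroup generated by the squares of the elements of A. Then B lies in Q, and if B is not an elementary abelian 2-group then the normal closure of B in X is commutative. -/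
theorem result {X : Type*} [Group X] [Finite X]
    (hX : Cfsg.generalizedFittingSubgroup X = Cfsg.pCore 2 X) (A : Subgroup X) (hA2 : IsPGroup 2 ↥A) (hAa : IsMulCommutative ↥A)
    (hti : ∀ h : X, A.map (MulAut.conj h).toMonoidHom = A ∨ A.map (MulAut.conj h).toMonoidHom ⊓ A = ⊥) :
    Subgroup.closure ((fun a : X => a ^ 2) '' (A : Set X)) ≤ Cfsg.pCore 2 X ∧
      (¬ Cfsg.IsElementaryAbelian 2 (Subgroup.closure ((fun a : X => a ^ 2) '' (A : Set X))) →
        IsMulCommutative ↥(Subgroup.normalClosure ((fun a : X => a ^ 2) '' (A : Set X)))) := by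
  open Cfsg.Agent.Comp Subgroup in
  have hc := isMulCommutative_iff_le.1 hAa
  have hQ : IsPGroup 2 (pCore 2 X) := Op_top (G := X) (p := 2) ▸ isPGroup_Op 2 ⊤
  have hQn : (pCore 2 X).Normal := hX ▸ inferInstance
  set Q := pCore 2 X with hQd
  set B := closure ((fun a : X => a ^ 2) '' (A : Set X))
  have hBA : B ≤ A := (closure_le _).2 (by rintro _ ⟨a, ha, rfl⟩; exact pow_mem ha 2)
  have h1 : B ≤ Q := by
    let K := actKer ((frattini Q).map Q.subtype) Q
    have hK : K.Normal := ⟨fun n hn g => mem_actKer.2 ⟨le_normalizer_normal _ ⊤ (mem_top _), fun c hc => by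
      have := Normal.conj_mem inferInstance _ ((mem_actKer.1 hn).2 _ (hQn.conj_mem c hc g⁻¹)) g
      convert this using 1
      simp only [commutatorElement_def]; group⟩⟩
    have hK2 : IsPGroup 2 K := isPGroup_of_forall_coprime fun Y h1 h2 => by
      have a := Solv.coprime_frattini_le_centralizer (A := Y) (K := Q)
        (coprime_card_of_isPGroup (hQ.to_subgroup _) h2).symm
        (by rw [commutator_comm]; exact (le_actKer_iff.1 h1).2) (le_normalizer_normal _ _)
      rw [← hX] at a
      exact eq_bot_of_le_of_coprime (hX ▸ a.trans centralizer_fstar_le) le_rfl (coprime_card_of_isPGroup hQ h2)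
    refine le_trans ((closure_le _).2 ?_) (hQd ▸ Op_top (G := X) (p := 2) ▸
      le_Op le_top (le_normalizer_normal K ⊤) hK2)
    rintro _ ⟨a, ha, rfl⟩
    by_cases h : a ^ 2 = 1
    · simp only [h]; exact one_mem _
    refine mem_actKer.2 ⟨le_normalizer_normal _ ⊤ (mem_top _), fun q hq => ?_⟩
    have h2 := commutator_cj_eq_bot_of_TI hc hti ⟨a, ha, h⟩ (hQ.to_sup_of_normal_left hA2) (g := 1) (h := q)
      (by rw [cj_one]; exact le_sup_right) (cj_le_of_mem le_sup_right (le_normalizer (mem_sup_left hq)))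
    rw [cj_one] at h2
    have h3 : Commute a (q * a⁻¹ * q⁻¹) := commutator_eq_bot_iff'.1 h2 (conj_mem_cj.2 (inv_mem ha)) a ha
    have h4 : a * (q * a⁻¹ * q⁻¹) ∈ Q := by
      rw [← mul_assoc, ← mul_assoc]; exact mul_mem (hQn.conj_mem q hq a) (inv_mem hq)
    have := Solv.pow_mem_map_frattini hQ h4
    rwa [h3.mul_pow, conj_pow, inv_pow, ← mul_assoc, ← mul_assoc] at this
  refine ⟨h1, fun h => ?_⟩
  have hcB : B ≤ centralizer (B : Set X) := hBA.trans (hc.trans (centralizer_mono hBA))
  have h2 : ∃ a ∈ B, a ^ 2 ≠ 1 := by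
    by_contra h2
    push Not at h2
    exact h ⟨isMulCommutative_iff_le.2 hcB, h2⟩
  have h3 : ∀ g : X, cj(g, B) = B ∨ cj(g, B) ⊓ B = ⊥ := fun g => (hti g).imp (fun e => by
    rw [MonoidHom.map_closure]; congr 1
    conv_rhs => rw [← e]
    ext x; simp [conj_pow]) fun e => le_bot_iff.1 ((inf_le_inf (cj_mono g hBA) hBA).trans e.le)
  have h4 : normalClosure ((fun a : X => a ^ 2) '' (A : Set X)) ≤ ⨆ g : X, cj(g, B) := by
    refine (closure_le _).2 fun x hx => ?_
    obtain ⟨a, ha, h⟩ := Group.mem_conjugatesOfSet_iff.1 hx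
    obtain ⟨g, rfl⟩ := isConj_iff.1 h
    exact mem_iSup_of_mem g (conj_mem_cj.2 (subset_closure ha))
  refine isMulCommutative_iff_le.2 (h4.trans (le_trans ?_ (centralizer_mono h4)))
  exact iSup_le fun g => le_centralizer_iSup.2 fun k => commutator_eq_bot_iff_le_centralizer.1
    (commutator_cj_eq_bot_of_TI hcB h3 h2 hQ (cj_le_of_mem h1 (le_normalizer_normal _ ⊤ (mem_top _)))
      (cj_le_of_mem h1 (le_normalizer_normal _ ⊤ (mem_top _))))

end Cfsg.Agent.S1783
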