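import Cfsg.Statements.S1892
import Cfsg.Agent.Lib.BG.PLen

set_option autoImplicit false
open Cfsg

namespace Cfsg.Agent.S1892

/-- Let S be a finite p-solvable group with no nontrivial normal subgroup of order prime to p, A a p-subgroup of S, and Q a nontrivial A-invariant subgroup of order prime to p with [A, Q] = Q. Then the commutator [O_p(S), A, Q] is nontrivial. -/
theorem result {S : Type*} [Group S] [Finite S] {p : ℕ} [Fact p.Prime]
    (hS : Cfsg.IsPSolvable p S) (hred : Cfsg.pPrimeCore p S = ⊥)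
    (A Q : Subgroup S) (hA : IsPGroup p A) (hQ : ¬ p ∣ Nat.card Q) (hQ1 : Q ≠ ⊥)
    (hinv : ∀ a ∈ A, ∀ x ∈ Q, a * x * a⁻¹ ∈ Q) (hAQ : ⁅A, Q⁆ = Q) :
    ⁅⁅Cfsg.pCore p S, A⁆, Q⁆ ≠ ⊥ := by
  open Pointwise commutatorElement Subgroup in
  open Cfsg.Agent.Comp Cfsg.Agent.BG Subgroup commutatorElement in
  intro h
  have hn : ∀ X : Subgroup S, X ≤ Nm(pCore p S) := fun X => le_normalizer_of_normal
  have h1 : Q ≤ Ct(⁅pCore p S, A⁆) := commutator_eq_bot_iff'.1 h
  have h2 := three_subgroups_le (A := Q) (B := pCore p S) (C := A) (X := ⁅pCore p S, A⁆)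
    (h1.trans (centralizer_le_normalizer _)) (le_sup_left.trans (sup_le_normalizer_commutator _ _))
    (le_sup_right.trans (sup_le_normalizer_commutator _ _))
    (commutator_mono (commutator_le_right_of_le_normalizer (hn _)) le_rfl) (h.le.trans bot_le)
  rw [hAQ, Subgroup.commutator_comm] at h2
  have hc : (Nat.card Q).Coprime (Nat.card (pCore p S)) :=
    (coprime_card_of_isPGroup (Solv.isPGroup_pCore p _) (coprime_iff_not_dvd.2 hQ)).symm
  have h3 := Solv.coprime_le_centralizer_of_quadratic (hn Q) hc (le_bot_iff.1 ((commutator_mono h2 le_rfl).trans h.le))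
  exact hQ1 (eq_bot_of_le_of_coprime le_rfl (h3.trans (Transfer.psol_charP (pSol_top_of_isPSolvable hS) hred)) hc)

end Cfsg.Agent.S1892
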