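import Cfsg.Statements.S1894
import Cfsg.Agent.Lib.Comp.Loc

set_option autoImplicit false
open Cfsg

namespace Cfsg.Agent.S1894

/-- Let P be a finite p-group, A a normal subgroup of P and B an abelian subgroup of A that is normal in P. Then some subgroup C of A containing B is normal in P and is self-centralizing and normal in A (C ∈ SCN(A)). -/
theorem result {P : Type*} [Group P] [Finite P] {p : ℕ} [Fact p.Prime] (hP : IsPGroup p P)
    (A : Subgroup P) [A.Normal] (B : Subgroup P) [B.Normal] (hBA : B ≤ A) (hB : IsMulCommutative B) :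
    ∃ C : Subgroup P, C.Normal ∧ B ≤ C ∧ Cfsg.IsSCN A C := by
  open Cfsg.Agent.Comp Subgroup in
  obtain ⟨C, -, ⟨h1, h2, h3, h4⟩, h5⟩ := exists_maximal_subgroup
    (P := fun C : Subgroup P => C.Normal ∧ B ≤ C ∧ C ≤ A ∧ C ≤ centralizer (C : Set P))
    ⟨inferInstance, le_rfl, hBA, isMulCommutative_iff_le.1 hB⟩
  refine ⟨C, h1, h2, h3, le_normalizer_normal _ _, by_contra fun hne => ?_⟩
  let f := QuotientGroup.mk' C
  have hf : Function.Surjective f := QuotientGroup.mk'_surjective C
  have hn : ((A ⊓ centralizer (C : Set P)).map f).Normal := Normal.map inferInstance f hf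
  have := hP.isNilpotent
  obtain ⟨y, ⟨⟨x, hx, rfl⟩, hy⟩, hy1⟩ := exists_mem_ne_one (inf_centralizer_ne_bot_of_isNilpotent
    (M := ⊤) inferInstance le_top (le_normalizer_normal ((A ⊓ centralizer (C : Set P)).map f) _) (by
      rw [Ne, Subgroup.map_eq_bot_iff, QuotientGroup.ker_mk']
      exact fun h => hne (le_antisymm h (le_inf h3 h4))))
  have e := h5 (C ⊔ zpowers x) ⟨⟨fun n hn g => ?_⟩, h2.trans le_sup_left, sup_le h3 (zpowers_le.2 hx.1),
    sup_le (le_centralizer_sup h4 (le_centralizer_iff.1 (zpowers_le.2 hx.2))) (le_centralizer_sup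
      (zpowers_le.2 hx.2) (by rw [centralizer_zpowers]; exact zpowers_le_centralizer_singleton x))⟩ le_sup_left
  · exact hy1 ((QuotientGroup.eq_one_iff x).2 (e ▸ mem_sup_right (mem_zpowers x)))
  · have h6 : ⁅zpowers x, ⊤⁆ ≤ C := by
      rw [← QuotientGroup.ker_mk' C, ← map_eq_bot_iff_le_ker', MonoidHom.map_zpowers,
        commutator_eq_bot_iff_le_centralizer, map_top_of_surjective _ hf]
      exact zpowers_le.2 hy
    have h7 : (⊤ : Subgroup P) ≤ normalizer ((C ⊔ zpowers x : Subgroup P) : Set P) := by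
      refine le_normalizer_iff_commutator_le_left.2 ((commutator_sup_left_le (le_normalizer_normal _ _)
        (le_normalizer_normal _ _) (commutator_le_left _ _) h6).trans le_sup_left)
    exact conj_mem_of_le_normalizer h7 (mem_top g) hn

end Cfsg.Agent.S1894
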