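import Cfsg.Statements.S1897
import Mathlib
import Cfsg.Agent.Lib.Perm.U33

set_option autoImplicit false
open Cfsg

namespace Cfsg.Agent.S1897

open Matrix Cfsg.Agent.Chev.G22 Cfsg.Agent.Classical

/-- The projective special unitary group PSU₃(3) (realised over the field with 9 elements) has a subgroup isomorphic to PSL₂(7). -/
theorem result {F : Type*} [Field F] [Fintype F] (hF : Fintype.card F = 9)
    {K : Type*} [Field K] [Fintype K] (hK : Fintype.card K = 7) :
    ∃ H : Subgroup (Cfsg.PSU 3 F 3), Nonempty (H ≃* Matrix.ProjectiveSpecialLinearGroup (Fin 2) K) := by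
  have : Fact (Nat.Prime 3) := ⟨Nat.prime_three⟩
  haveI : Fact (Nat.Prime 7) := ⟨by decide⟩
  have hF' : Fintype.card F = 3 ^ 2 := hF
  have : CharP F 3 := charP_of_card_eq_prime_pow hF'
  letI := ZMod.algebra F 3
  obtain ⟨i, hi⟩ := FiniteField.isSquare_neg_one_iff.2 (show Fintype.card F % 4 ≠ 3 by rw [hF]; decide)
  let j : R9 →+* F := (QuadraticAlgebra.lift ⟨i, by simp [← hi]⟩ : R9 →ₐ[ZMod 3] F)
  have inj : Function.Injective j := (injective_iff_map_eq_zero j).2 fun z hz => by_contra fun h => by
    have := congrArg j (Perm.U33.pow8 z h)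
    rw [map_pow, hz, map_one] at this
    simp at this
  obtain ⟨f, f_mul, f_su⟩ := Perm.U33.exists_f
  let φ : SpecialLinearGroup (Fin 2) (ZMod 7) →* SU 3 F 3 := MonoidHom.mk' (fun g => ⟨⟨(f g).map j, by
      rw [← RingHom.mapMatrix_apply, ← RingHom.map_det, (f_su g).1, map_one]⟩, (mem_SU_iff hF').2 (by
        refine .trans ?_ ((congrArg j.mapMatrix (f_su g).2.1).trans (map_one _))
        rw [map_mul]
        congr 1
        ext x y
        exact (map_pow j _ 3).symm.trans (congrArg j (star9 _).symm))⟩)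
    fun a b => Subtype.ext (Subtype.ext ((congrArg (·.map j) (f_mul a b)).trans Matrix.map_mul))
  let e := (FiniteField.ringEquivOfCardEq (K := K) (K' := ZMod 7) (by simp [hK]))
  let ψ := φ.comp (SpecialLinearGroup.map (n := Fin 2) e.toRingHom)
  have k : Subgroup.center _ = ψ.ker := by
    ext g
    rw [MonoidHom.mem_ker, Matrix.SpecialLinearGroup.mem_center_iff]
    refine Iff.trans ?_ ((f_su (SpecialLinearGroup.map (n := Fin 2) e.toRingHom g)).2.2.symm.trans
      ⟨fun h => Subtype.ext (Subtype.ext ((congrArg (·.map j) h).trans (Matrix.map_one _ (map_zero j) (map_one j)))),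
        fun h => map_injective inj ((congrArg (fun x => x.1.1) h).trans
          (Matrix.map_one _ (map_zero j) (map_one j)).symm)⟩)
    refine ⟨fun ⟨r, h1, h2⟩ => ⟨e r, by rw [← map_pow, h1, map_one], ?_⟩,
      fun ⟨r, h1, h2⟩ => ⟨e.symm r, by rw [← map_pow, h1, map_one], ?_⟩⟩
    · change _ = g.1.map e
      rw [← h2]; ext a b; simp [diagonal_apply]; split_ifs <;> simp
    · ext a b
      refine e.injective (Eq.trans ?_ (congrFun (congrFun h2 a) b))
      simp [diagonal_apply]; split_ifs <;> simp
  obtain ⟨u⟩ := su_equiv hF'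
  exact ⟨ψ.range.map u.toMonoidHom, ⟨((u.subgroupMap _).symm.trans (QuotientGroup.quotientKerEquivRange ψ).symm).trans
    (QuotientGroup.quotientMulEquivOfEq k.symm)⟩⟩

end Cfsg.Agent.S1897
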