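import Cfsg.Statements.S1898
import Cfsg.Agent.Lib.BG.PLen

set_option autoImplicit false
open Cfsg

namespace Cfsg.Agent.S1898

/-- Let X be a finite 2-group whose derived subgroup is elementary abelian and central. Then the subgroup generated by the elements of order dividing 4 has exponent dividing 4, and every automorphism of X fixing each element of order dividing 4 has 2-power order. -/
theorem result {X : Type*} [Group X] [Finite X] (hX : IsPGroup 2 X)
    (hel : Cfsg.IsElementaryAbelian 2 (commutator X)) (hcen : commutator X ≤ Subgroup.center X) :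
    (∀ x ∈ Subgroup.closure {g : X | g ^ 4 = 1}, x ^ 4 = 1) ∧
      ∀ φ : MulAut X, (∀ g : X, g ^ 4 = 1 → φ g = g) → ∃ k : ℕ, φ ^ (2 ^ k) = 1 := by
  open Pointwise commutatorElement Subgroup in
  open Subgroup commutatorElement in
  have c : ∀ x y : X, ∃ c : X, y * x = x * y * c ∧ c * c = 1 ∧ ∀ z, z * c = c * z := fun x y =>
    have h := commutator_mem_commutator (mem_top y⁻¹) (mem_top x⁻¹)
    ⟨⁅y⁻¹, x⁻¹⁆, by rw [commutatorElement_def]; group, by simpa only [sq] using hel.2 _ h, mem_center_iff.1 (hcen h)⟩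
  have c2 : ∀ x y : X, Commute (x ^ 2) y := fun x y => by
    obtain ⟨c, c1, c2, c3⟩ := c x y
    show _ = _
    rw [sq, ← mul_assoc, c1, mul_assoc (x * y), ← c3, ← mul_assoc, mul_assoc x y, c1]
    simp only [mul_assoc, c2, mul_one]
  have c4 : ∀ x y : X, (x * y) ^ 4 = x ^ 4 * y ^ 4 := fun x y => by
    obtain ⟨c, c1, c2', c3⟩ := c x y
    have h1 : (x * y) ^ 2 = x ^ 2 * y ^ 2 * c := by
      rw [sq, sq, sq, mul_assoc, ← mul_assoc y, c1]; simp only [mul_assoc, ← c3 y]
    rw [show 4 = 2 * 2 from rfl, pow_mul, h1, Commute.mul_pow (c3 _), (c2 _ _).mul_pow, sq c, c2', mul_one, pow_mul, pow_mul]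
  let f : X →* X := MonoidHom.mk' (fun x => x ^ 4) c4
  refine ⟨fun x hx => (closure_le f.ker).2 (fun g hg => hg) hx, fun φ hφ => ?_⟩
  have key : ∀ (n : ℕ) (x : X), x ^ 4 ^ (n + 1) = 1 → (φ ^ 4 ^ n) x = x := by
    intro n
    induction n with
    | zero => intro x hx; simpa using hφ x (by simpa using hx)
    | succ n ih =>
      intro x hx
      have h1 : ((φ ^ 4 ^ n) x * x⁻¹) ^ 4 = 1 := by
        rw [c4, ← map_pow, ih _ (by rw [← pow_mul, ← pow_succ', hx]), inv_pow, mul_inv_cancel]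
      have h2 : ∀ k : ℕ, (φ ^ k) ((φ ^ 4 ^ n) x * x⁻¹) = (φ ^ 4 ^ n) x * x⁻¹ := fun k => by
        induction k with
        | zero => rfl
        | succ k ih => rw [pow_succ, MulAut.mul_apply, hφ _ h1, ih]
      have h3 : ∀ k : ℕ, ((φ ^ 4 ^ n) ^ k) x = ((φ ^ 4 ^ n) x * x⁻¹) ^ k * x := fun k => by
        induction k with
        | zero => simp
        | succ k ih => rw [pow_succ', MulAut.mul_apply, ih, map_mul, map_pow, h2, pow_succ]; group
      rw [pow_succ, pow_mul, h3, h1, one_mul]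
  obtain ⟨m, hm⟩ := hX.exists_card_eq
  refine ⟨2 * m, MulEquiv.ext fun x => ?_⟩
  rw [pow_mul]
  refine key m x (orderOf_dvd_iff_pow_eq_one.1 ((orderOf_dvd_natCard x).trans ?_))
  rw [hm, show 4 = 2 ^ 2 from rfl, ← pow_mul]
  exact pow_dvd_pow _ (by omega)

end Cfsg.Agent.S1898
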