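import Cfsg.Statements.S1899
import Cfsg.Agent.Lib.BG.PLen

set_option autoImplicit false
open Cfsg

namespace Cfsg.Agent.S1899

/-- Let a dihedral group of order 2n, n odd and n > 1, act on a finite abelian 2-group A through automorphisms d and t with d^n = 1, t² = 1 and t d t⁻¹ = d⁻¹, and suppose that d fixes only the identity. Then A is the internal direct product of C_A(t) and its image under d. -/
theorem result {A : Type*} [CommGroup A] [Finite A] (hA : IsPGroup 2 A)
    {n : ℕ} (hn : Odd n) (hn1 : 1 < n) (d t : MulAut A) (hd : d ^ n = 1) (ht : t ^ 2 = 1) (hdt : t * d * t⁻¹ = d⁻¹)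
    (hfix : ∀ a : A, d a = a → a = 1) :
    (MulEquiv.toMonoidHom t).eqLocus (MonoidHom.id A) ⊓ ((MulEquiv.toMonoidHom t).eqLocus (MonoidHom.id A)).map d.toMonoidHom = ⊥ ∧
      (MulEquiv.toMonoidHom t).eqLocus (MonoidHom.id A) ⊔ ((MulEquiv.toMonoidHom t).eqLocus (MonoidHom.id A)).map d.toMonoidHom = ⊤ := by
  open Pointwise commutatorElement Subgroup in
  open Subgroup in
  have h1 : ∀ a, d (d a) = a → a = 1 := fun a h => hfix a (by
    have h2 : ∀ k : ℕ, ((d ^ 2) ^ k) a = a := fun k => by
      induction k with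
      | zero => rfl
      | succ k ih => rw [pow_succ, MulAut.mul_apply, sq, MulAut.mul_apply, h, ← sq, ih]
    obtain ⟨k, rfl⟩ := hn
    have := h2 (k + 1)
    rwa [← pow_mul, show 2 * (k + 1) = 2 * k + 1 + 1 by ring, pow_succ, hd, one_mul] at this)
  have h2 : ∀ a, d (t (d a)) = t a := fun a => by
    have : d * t * d = t := by rw [mul_assoc, mul_inv_eq_iff_eq_mul.1 hdt, mul_inv_cancel_left]
    exact congrArg (fun s : MulAut A => s a) this
  have h3 : ∀ a, t (t a) = a := fun a => congrArg (fun s : MulAut A => s a) ht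
  have h4 : ∀ a, a * t a ∈ (MulEquiv.toMonoidHom t).eqLocus (MonoidHom.id A) := fun a => by
    show t (a * t a) = a * t a
    rw [map_mul, h3, mul_comm]
  refine ⟨eq_bot_iff.2 ?_, eq_top_iff.2 fun a _ => ?_⟩
  · rintro _ ⟨ha, b, hb, rfl⟩
    have e1 : t (d b) = d b := ha
    have e2 : t b = b := hb
    have := h2 b
    rw [e1, e2] at this
    rw [h1 b this]; simp
  · have h5 : Function.Injective fun e => e * (d (d e))⁻¹ := fun x y h => by
      rw [← mul_inv_eq_one]
      refine h1 _ ?_
      simp only [map_mul, map_inv] at h ⊢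
      rw [← div_eq_mul_inv, ← div_eq_mul_inv, div_eq_div_iff_mul_eq_mul] at h ⊢
      rw [mul_comm, ← h]
    obtain ⟨e, rfl⟩ := Finite.injective_iff_surjective.1 h5 a
    have : e * (d (d e))⁻¹ = (e * t e) * (d (d e * t (d e)))⁻¹ := by
      rw [map_mul, h2, mul_inv, mul_comm (d (d e))⁻¹, mul_assoc, mul_inv_cancel_left]
    simp only [this]
    exact mul_mem (mem_sup_left (h4 e)) (inv_mem (mem_sup_right ⟨_, h4 _, rfl⟩))

end Cfsg.Agent.S1899
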