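import Cfsg.Statements.S1900
import Cfsg.Agent.Lib.BG.PLen

set_option autoImplicit false
open Cfsg

namespace Cfsg.Agent.S1900
section
open Pointwise commutatorElement Subgroup
open Cfsg.Agent.Comp Cfsg.Agent.BG Subgroup commutatorElement in
theorem half {G : Type*} [Group G] [Finite G] {p : ℕ} [Fact p.Prime] {P X Y : Subgroup G} [P.Normal] (hP : IsPGroup p P)
    (hX : (Nat.card X).Coprime p) (hXY : X ≤ Ct(Y)) (h1 : (P ⊓ Ct(X)) ⊓ (P ⊓ Ct(Y)) = ⊥) (h2 : (P ⊓ Ct(X)) ⊔ (P ⊓ Ct(Y)) = P)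
    {K : Subgroup G} (hK : K = ⁅P ⊓ Ct(X), P ⊓ Ct(Y)⁆) (h3 : K ≤ (K ⊓ Ct(X)) ⊔ (K ⊓ Ct(Y))) :
    ⁅K, Y⁆ ≤ ⁅K, P⁆ := by
  have n1 : X ≤ Nm(P ⊓ Ct(Y)) := le_normalizer_inf le_normalizer_of_normal
    (le_normalizer_centralizer (hXY.trans (centralizer_le_normalizer _)))
  have n2 : X ≤ Nm(P ⊓ Ct(X)) := le_normalizer_inf le_normalizer_of_normal (le_normalizer_centralizer le_normalizer)
  have n3 : X ≤ Nm(K) := hK ▸ le_normalizer_commutator n2 n1
  have n4 : P ≤ Nm(K) := by rw [hK]; exact h2.ge.trans (sup_le_normalizer_commutator _ _)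
  have k1 : K ≤ P := by rw [hK]; exact (commutator_mono inf_le_left inf_le_left).trans (commutator_le_self _)
  have k2 : ⁅K, P⁆ ≤ K := commutator_le_left_of_le_normalizer n4
  have n5 : P ≤ Nm((K ⊓ Ct(Y)) ⊔ ⁅K, P⁆) := le_normalizer_of_commutator_le (sup_le inf_le_left k2)
    (by rw [Subgroup.commutator_comm]; exact le_sup_right)
  have n6 : X ≤ Nm((K ⊓ Ct(Y)) ⊔ ⁅K, P⁆) := le_normalizer_sup (le_normalizer_inf n3 (le_normalizer_centralizer
    (hXY.trans (centralizer_le_normalizer _)))) (le_normalizer_commutator n3 le_normalizer_of_normal)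
  have e1 : ∀ A B : Subgroup G, A ≤ Ct(B) → ⁅A, B⁆ = ⊥ := fun A B h => commutator_eq_bot_iff_le_centralizer.2 h
  have c1 : ⁅K, X⁆ ≤ (K ⊓ Ct(Y)) ⊔ ⁅K, P⁆ := (commutator_mono (h3.trans (sup_le_sup_left le_sup_left _)) le_rfl).trans
    (commutator_sup_left_le (inf_le_left.trans (k1.trans n5)) le_normalizer ((e1 _ _ inf_le_right).le.trans bot_le)
      (commutator_le_left_of_le_normalizer n6))
  have hC := hP.to_inf_left (K := Ct(Y))
  have c2 : ⁅P ⊓ Ct(Y), X⁆ = P ⊓ Ct(Y) := by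
    have := Solv.coprime_commutator_sup_centralizer n1 (coprime_card_of_isPGroup hC hX).symm (.inr (isSolvable_of_isPGroup hC))
    rwa [show P ⊓ Ct(Y) ⊓ Ct(X) = ⊥ from le_bot_iff.1 (h1 ▸ le_inf (le_inf (inf_le_left.trans inf_le_left) inf_le_right)
      inf_le_left), sup_bot_eq] at this
  have c3 := three_subgroups_le (A := X) (B := P ⊓ Ct(X)) (C := P ⊓ Ct(Y)) n6 (inf_le_left.trans n5) (inf_le_left.trans n5)
    (by rw [Subgroup.commutator_comm X, e1 _ _ inf_le_right, commutator_bot_left]; exact bot_le) (hK ▸ c1)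
  rw [c2, Subgroup.commutator_comm, ← hK] at c3
  have n7 : P ≤ Nm(⁅K, P⁆) := le_sup_right.trans (sup_le_normalizer_commutator _ _)
  have n8 : Y ≤ Nm(K) := by
    rw [hK]
    exact le_normalizer_commutator (le_normalizer_inf le_normalizer_of_normal (le_normalizer_centralizer
      ((le_Ct_comm.1 hXY).trans (centralizer_le_normalizer _))))
      (le_normalizer_inf le_normalizer_of_normal (le_normalizer_centralizer le_normalizer))
  exact (commutator_mono c3 le_rfl).trans (commutator_sup_left_le (inf_le_left.trans (k1.trans n7)) le_normalizer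
    ((e1 _ _ inf_le_right).le.trans bot_le)
    (commutator_le_left_of_le_normalizer (le_normalizer_commutator n8 le_normalizer_of_normal)))
end

/-- Let S = PQ be a finite group with P a normal Sylow p-subgroup and Q elementary abelian of order q², q a prime different from p. If exactly two subgroups X₁, X₂ of order q in Q have a nontrivial centralizer in P, then P is the internal direct product of C_P(X₁) and C_P(X₂): they commute elementwise, meet trivially and generate P. -/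
theorem result {S : Type*} [Group S] [Finite S] {p q : ℕ} [Fact p.Prime] [Fact q.Prime] (hpq : p ≠ q)
    (P : Sylow p S) [(P : Subgroup S).Normal] (Q : Subgroup S) (hQ : Cfsg.IsElementaryAbelian q Q) (hQc : Nat.card Q = q ^ 2)
    (hS : (P : Subgroup S) ⊔ Q = ⊤)
    (X₁ X₂ : Subgroup S) (h₁ : X₁ ≤ Q) (h₂ : X₂ ≤ Q) (h₁₂ : X₁ ≠ X₂) (hc₁ : Nat.card X₁ = q) (hc₂ : Nat.card X₂ = q)
    (hf₁ : (P : Subgroup S) ⊓ Subgroup.centralizer (X₁ : Set S) ≠ ⊥)
    (hf₂ : (P : Subgroup S) ⊓ Subgroup.centralizer (X₂ : Set S) ≠ ⊥)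
    (honly : ∀ X : Subgroup S, X ≤ Q → Nat.card X = q →
      (P : Subgroup S) ⊓ Subgroup.centralizer (X : Set S) ≠ ⊥ → X = X₁ ∨ X = X₂) :
    ⁅(P : Subgroup S) ⊓ Subgroup.centralizer (X₁ : Set S), (P : Subgroup S) ⊓ Subgroup.centralizer (X₂ : Set S)⁆ = ⊥ ∧
      ((P : Subgroup S) ⊓ Subgroup.centralizer (X₁ : Set S)) ⊓ ((P : Subgroup S) ⊓ Subgroup.centralizer (X₂ : Set S)) = ⊥ ∧
      ((P : Subgroup S) ⊓ Subgroup.centralizer (X₁ : Set S)) ⊔ ((P : Subgroup S) ⊓ Subgroup.centralizer (X₂ : Set S)) = P := by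
  open Pointwise commutatorElement Subgroup in
  open Cfsg.Agent.Comp Cfsg.Agent.BG Subgroup commutatorElement in
  have hq : q.Prime := Fact.out
  have hQQ : Q ≤ Ct(Q) := fun a ha b hb => Solv.isMulCommutative_iff.1 hQ.1 b hb a ha
  have hQ0 : Q ≠ ⊥ := fun e => by
    rw [e, card_bot] at hQc; exact (Nat.one_lt_pow two_ne_zero hq.one_lt).ne hQc
  have hi : X₁ ⊓ X₂ = ⊥ := by
    rcases (Nat.dvd_prime hq).1 (hc₁ ▸ card_dvd_of_le (inf_le_left : X₁ ⊓ X₂ ≤ X₁)) with h | h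
    · exact card_eq_one.1 h
    · exact absurd (((eq_of_le_of_card_ge inf_le_left (hc₁.trans h.symm).le).symm.trans
        (eq_of_le_of_card_ge inf_le_right (hc₂.trans h.symm).le))) h₁₂
  have h12 : X₁ ≤ Ct(X₂) := h₁.trans (hQQ.trans (centralizer_mono h₂))
  have hs : X₁ ⊔ X₂ = Q := eq_of_le_of_card_ge (sup_le h₁ h₂) (by
    rw [Solv.card_sup_of_disjoint (h12.trans (centralizer_le_normalizer _)) hi, hQc, hc₁, hc₂, sq])
  have hcop : ∀ K : Subgroup S, K ≤ P → (Nat.card K).Coprime q := fun K h => coprime_of_isPGroup_of_ne hpq (P.2.to_le h)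
  have hgen : ∀ K : Subgroup S, K ≤ P → Q ≤ Nm(K) → K ≤ (K ⊓ Ct(X₁)) ⊔ (K ⊓ Ct(X₂)) := fun K h hn => by
    refine le_of_forall_hyperplane hQ hQ0 hn (hcop K h) fun B b1 b2 => ?_
    have b3 := relIndex_mul_card b1
    rw [b2, hQc, sq] at b3
    by_cases b4 : (P : Subgroup S) ⊓ Ct(B) = ⊥
    · exact ((inf_le_inf_right _ h).trans b4.le).trans bot_le
    · rcases honly B b1 (Nat.eq_of_mul_eq_mul_left hq.pos b3) b4 with rfl | rfl
      exacts [le_sup_left, le_sup_right]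
  have e2 : ((P : Subgroup S) ⊓ Ct(X₁)) ⊓ ((P : Subgroup S) ⊓ Ct(X₂)) = ⊥ := by
    by_contra h
    obtain ⟨a, a1, a2⟩ := Solv.exists_ne_one_of_ne_bot (H := X₁) fun e => by rw [e, card_bot] at hc₁; exact hq.one_lt.ne hc₁
    obtain ⟨b, b1, b2⟩ := Solv.exists_ne_one_of_ne_bot (H := X₂) fun e => by rw [e, card_bot] at hc₂; exact hq.one_lt.ne hc₂
    have h3 : a * b ∉ X₁ := fun e => b2 (mem_bot.1 (hi ▸ ⟨(mul_mem_cancel_left a1).1 e, b1⟩))
    have h4 : a * b ∉ X₂ := fun e => a2 (mem_bot.1 (hi ▸ ⟨a1, (mul_mem_cancel_right b1).1 e⟩))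
    have h5 := mul_mem (h₁ a1) (h₂ b1)
    rcases honly (zpowers (a * b)) (zpowers_le.2 h5) (by
      rw [Nat.card_zpowers, orderOf_eq_prime (hQ.2 _ h5) fun e => h3 (e ▸ one_mem _)]) (fun e => h (le_bot_iff.1 (e ▸ le_inf
        (inf_le_left.trans inf_le_left) (le_trans (inf_le_inf inf_le_right inf_le_right)
          (by rw [← centralizer_sup, hs]; exact centralizer_mono (zpowers_le.2 h5)))))) with e | e
    exacts [h3 (e ▸ mem_zpowers _), h4 (e ▸ mem_zpowers _)]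
  have e3 : ((P : Subgroup S) ⊓ Ct(X₁)) ⊔ ((P : Subgroup S) ⊓ Ct(X₂)) = P :=
    le_antisymm (sup_le inf_le_left inf_le_left) (hgen P le_rfl le_normalizer_of_normal)
  refine ⟨?_, e2, e3⟩
  set K := ⁅(P : Subgroup S) ⊓ Ct(X₁), (P : Subgroup S) ⊓ Ct(X₂)⁆ with hK
  have k1 : K ≤ P := (commutator_mono inf_le_left inf_le_left).trans (commutator_le_self _)
  have n0 : ∀ X, X ≤ Q → Q ≤ Nm((P : Subgroup S) ⊓ Ct(X)) := fun X h => le_normalizer_inf le_normalizer_of_normal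
    (le_normalizer_centralizer (hQQ.trans ((centralizer_mono h).trans (centralizer_le_normalizer _))))
  have n1 : Q ≤ Nm(K) := le_normalizer_commutator (n0 _ h₁) (n0 _ h₂)
  have n4 : (P : Subgroup S) ≤ Nm(K) := e3.ge.trans (sup_le_normalizer_commutator _ _)
  have hpq' : q.Coprime p := (Nat.coprime_primes hq Fact.out).2 hpq.symm
  have c1 := half P.2 (hc₁ ▸ hpq') h12 e2 e3 hK (hgen K k1 n1)
  have c2 := half P.2 (hc₂ ▸ hpq') (le_Ct_comm.1 h12) (by rw [inf_comm, e2]) (by rw [sup_comm, e3])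
    (hK.trans (Subgroup.commutator_comm _ _)) (by rw [sup_comm]; exact hgen K k1 n1)
  have n5 : Q ≤ Nm(⁅K, (P : Subgroup S)⁆) := le_normalizer_commutator n1 le_normalizer_of_normal
  have k2 := commutator_le_left_of_le_normalizer n4
  have hM := P.2.to_le (k2.trans k1)
  have c3 := Solv.coprime_sup_centralizer_of_commutator_le k2 (le_sup_left.trans (sup_le_normalizer_commutator _ _)) n5
    (by rw [hQc]; exact (hcop _ (k2.trans k1)).symm.pow_left 2) (.inr (isSolvable_of_isPGroup hM))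
    (hs ▸ commutator_sup_right_le (h₁.trans n5) (h₂.trans n5) c2 c1)
  refine Solv.eq_bot_of_le_commutator_of_nilpotent P.2.isNilpotent k1 le_rfl (c3.ge.trans (sup_le le_rfl (le_trans ?_ bot_le)))
  rw [← e2]
  exact le_inf (inf_le_inf k1 (centralizer_mono h₁)) (inf_le_inf k1 (centralizer_mono h₂))

end Cfsg.Agent.S1900
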