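import Cfsg.Statements.S1901
import Cfsg.Agent.Lib.BG.PLen

set_option autoImplicit false
open Cfsg

namespace Cfsg.Agent.S1901
section
open Pointwise commutatorElement Subgroup
universe u
open Cfsg.Agent.Comp Cfsg.Agent.BG Subgroup in
theorem aux {p : ℕ} [Fact p.Prime] (G : Type u) [Group G] [Finite G] : PSol p (⊤ : Subgroup G) → ∀ P Q X : Subgroup G,
    SylIn p P ⊤ → (Nat.card Q).Coprime p → Q ≤ Nm(P) → IsPGroup p X → X ≤ Nm(Q) →
    Nat.card X ≤ Nat.card (P ⊓ Ct(Q) : Subgroup G) := by
  induction G, ‹Group G›, ‹Finite G› using Solv.card_induction' with | h G ih => ?_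
  intro hG P Q X hP hQ hQP hX hXQ
  have key : ∀ N : Subgroup G, N.Normal → N ≠ ⊥ → X ⊓ N ≤ P ⊓ Ct(Q) → Nat.card X ≤ Nat.card (P ⊓ Ct(Q) : Subgroup G) := by
    intro N _ h0 h
    have h1 := ih (G ⧸ N) (Solv.card_quotient_lt h0) (Transfer.psol_surj (QuotientGroup.mk'_surjective N) hG)
      (P.map (QuotientGroup.mk' N)) (Q.map (QuotientGroup.mk' N)) (X.map (QuotientGroup.mk' N))
      (by simpa only [map_top_of_surjective _ (QuotientGroup.mk'_surjective N)] using hP.map (QuotientGroup.mk' N))
      (hQ.coprime_dvd_left (card_map_dvd _ _)) ((map_mono hQP).trans (le_normalizer_map _)) (hX.map _)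
      ((map_mono hXQ).trans (le_normalizer_map _))
    have h2 := hP.isP.to_inf_left (K := (QuotientGroup.mk' N).ker)
    rw [← Comp.map_inf_centralizer _ hQP (coprime_card_of_isPGroup h2 hQ).symm (.inr (isSolvable_of_isPGroup h2))] at h1
    rw [← Solv.card_map_mk N X, ← Solv.card_map_mk N (P ⊓ Ct(Q))]
    exact Nat.mul_le_mul h1 (card_le_of_le (le_inf h inf_le_right))
  by_cases h1 : pPrimeCore p G = ⊥
  · by_cases h2 : pCore p G = ⊥
    · have h3 := Transfer.psol_charP hG h1
      rw [h2] at h3
      refine card_le_of_le (le_trans (fun x _ => h3 fun y hy => ?_) bot_le)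
      rw [show y = 1 from hy, one_mul, mul_one]
    · refine key _ inferInstance h2 (le_inf (inf_le_right.trans
        (hP.le_of_normalizer' (Solv.isPGroup_pCore p _) le_top le_normalizer_of_normal)) ?_)
      rw [← commutator_eq_bot_iff']
      exact eq_bot_of_le_of_coprime (commutator_le_left_of_le_normalizer (inf_le_left.trans hXQ))
        ((commutator_mono le_rfl inf_le_right).trans (commutator_le_right _ _))
        (coprime_card_of_isPGroup (Solv.isPGroup_pCore p _) hQ).symm
  · refine key _ inferInstance h1 ?_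
    rw [eq_bot_of_coprime (coprime_card_of_isPGroup hX (Solv.coprime_card_pPrimeCore p))]; exact bot_le
end

/-- Let G be a finite p-solvable group and Q a subgroup of order prime to p such that p divides the index of C_G(Q) in N_G(Q). Then Q normalizes no Sylow p-subgroup of G. -/
theorem result {G : Type*} [Group G] [Finite G] {p : ℕ} [Fact p.Prime]
    (hG : Cfsg.IsPSolvable p G) (Q : Subgroup G) (hQ : ¬ p ∣ Nat.card Q)
    (hA : p ∣ (Subgroup.centralizer (Q : Set G)).relIndex (Subgroup.normalizer (Q : Set G)))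
    (P : Sylow p G) : ¬ Q ≤ Subgroup.normalizer ((P : Subgroup G) : Set G) := by
  open Pointwise commutatorElement Subgroup in
  open Cfsg.Agent.Comp Cfsg.Agent.BG Subgroup commutatorElement in
  intro h
  obtain ⟨X, hX⟩ := exists_sylIn p Nm(Q)
  have h1 := aux G (pSol_top_of_isPSolvable hG) P Q X (sylIn_top P) (coprime_iff_not_dvd.2 hQ) h hX.isP hX.le
  exact (hX.of_card_le P.2.to_inf_left (inf_le_right.trans (centralizer_le_normalizer _)) h1).not_dvd_relIndex_of_le
    inf_le_right (centralizer_le_normalizer _) hA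

end Cfsg.Agent.S1901
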