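import Cfsg.Statements.S1902
import Cfsg.Agent.Lib.BG.TB

set_option autoImplicit false
open Cfsg

namespace Cfsg.Agent.S1902

/-- Let p be an odd prime, G a finite p-solvable group, and B an elementary abelian subgroup of order p² such that B is the subgroup generated by the elements of order p of some Sylow p-subgroup of C_G(b₀), for some nontrivial b₀ ∈ B. Then every B-invariant subgroup of G of order prime to p lies in O_{p'}(G). -/
theorem result {G : Type*} [Group G] [Finite G] {p : ℕ} [Fact p.Prime] (hp : p ≠ 2)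
    (hG : Cfsg.IsPSolvable p G) (B : Subgroup G) (hB : Cfsg.IsElementaryAbelian p B) (hBc : Nat.card B = p ^ 2)
    (b₀ : G) (hb₀ : b₀ ∈ B) (hb₁ : b₀ ≠ 1) (P : Sylow p ↥(Subgroup.centralizer ({b₀} : Set G)))
    (hBP : B = Subgroup.closure {x : G | x ∈ ((P : Subgroup ↥(Subgroup.centralizer ({b₀} : Set G))).map
      (Subgroup.centralizer ({b₀} : Set G)).subtype : Subgroup G) ∧ orderOf x = p})
    (Q : Subgroup G) (hQ : ¬ p ∣ Nat.card Q) (hinv : ∀ b ∈ B, ∀ x ∈ Q, b * x * b⁻¹ ∈ Q) :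
    Q ≤ Cfsg.pPrimeCore p G := by
  open Pointwise commutatorElement Subgroup in
  open Cfsg.Agent.Comp Cfsg.Agent.BG Subgroup in
  have hBp : IsPGroup p B := IsPGroup.of_card hBc
  refine thompson_bender hp ((pSol_top_of_isPSolvable hG).PLay_eq_bot le_rfl) hBp (fun x hx ho => ?_)
    (coprime_iff_not_dvd.2 hQ) fun b hb => mem_normalizer_of_conj_mem (hinv b hb)
  have hP := sylIn_sylow P
  have h1 : B ≤ C1(b₀) := fun b hb => mem_centralizer_singleton_iff.2 (by
    simpa using congrArg Subtype.val (hB.1.1.1 ⟨b, hb⟩ ⟨b₀, hb₀⟩))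
  have h2 : zpowers x ≤ Ct(B) := zpowers_le.2 hx
  obtain ⟨g, -, hg⟩ := hP.exists_cj_le (Q := zpowers x ⊔ B) (IsPGroup.to_sup_of_normal_right'
    (isPGroup_zpowers_of_orderOf_eq ho) hBp (h2.trans (centralizer_le_normalizer _)))
    (sup_le (zpowers_le.2 (mem_centralizer_singleton_iff.2 (hx b₀ hb₀).symm)) h1)
  have h3 : ∀ y ∈ zpowers x ⊔ B, orderOf y = p → g * y * g⁻¹ ∈ B := fun y hy ho => by
    rw [hBP]; exact subset_closure ⟨hg (conj_mem_cj.2 hy), by rw [← ho]; exact (MulAut.conj g).orderOf_eq y⟩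
  have h4 : g ∈ Nm(B) := mem_normalizer_of_conj_mem fun b hb => by
    by_cases e : b = 1
    · simp [e, one_mem]
    · exact h3 b (mem_sup_right hb) (orderOf_eq_prime (hB.2 b hb) e)
  simpa [mul_assoc] using conj_mem_of_mem_normalizer' h4 (h3 x (mem_sup_left (mem_zpowers x)) ho)

end Cfsg.Agent.S1902
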