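import Cfsg.Statements.S1905
import Cfsg.Agent.Lib.Comp.SPE
import Cfsg.Agent.Lib.Transfer.Invol

set_option autoImplicit false
open Cfsg

namespace Cfsg.Agent.S1905

open Cfsg.Agent.Comp Subgroup

/-- Let M be a subgroup of even order of a finite group S such that M contains the centralizer in S of each of its involutions and the normal core of M in S has odd order. Then all involutions of S are conjugate. If moreover N_S(X) ≤ M for a Sylow 2-subgroup X of M and I is an involution in the centre of X, then all involutions of M are conjugate in M and M = M₀ C_M(I) for some subgroup M₀ of M of odd order. -/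
theorem result {S : Type*} [Group S] [Finite S] (M : Subgroup S) (hM : Even (Nat.card M))
    (hC : ∀ i ∈ M, orderOf i = 2 → Subgroup.centralizer ({i} : Set S) ≤ M) (hcore : Odd (Nat.card M.normalCore)) :
    (∀ x y : S, orderOf x = 2 → orderOf y = 2 → IsConj x y) ∧
      ∀ (X : Sylow 2 M) (I : M), I ∈ (Subgroup.center ↥(X : Subgroup ↥M)).map (X : Subgroup ↥M).subtype → orderOf I = 2 →
        Subgroup.normalizer (((X : Subgroup M).map M.subtype : Subgroup S) : Set S) ≤ M →
        (∀ x y : M, orderOf x = 2 → orderOf y = 2 → IsConj x y) ∧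
          ∃ M₀ : Subgroup M, Odd (Nat.card M₀) ∧
            ∀ m : M, ∃ a ∈ M₀, ∃ c ∈ Subgroup.centralizer ({I} : Set M), m = a * c := by
  obtain ⟨x0, hx0, h0⟩ := Transfer.exists_invol_mem hM
  obtain ⟨u, hu, hu2⟩ : ∃ u, u ∉ M ∧ orderOf u = 2 := by
    by_contra hn
    push Not at hn
    refine Transfer.odd_card_iff.1 hcore x0 (fun g => ?_) h0
    by_contra h
    exact hn _ h (by rwa [orderOf_conj])
  have key : ∀ x ∈ M, orderOf x = 2 → ∀ v, v ∉ M → orderOf v = 2 → IsConj x v := by
    intro x a b v c d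
    have : Odd (orderOf (x * v)) := by
      rw [← Nat.not_even_iff_odd]
      intro he
      obtain ⟨w, -, hw, h1, h2⟩ := Transfer.exists_invol_of_even (Transfer.mul_self_of_orderOf b)
        (Transfer.mul_self_of_orderOf d) he
      exact c (hC w (hC x a b (mem_centralizer_singleton_iff.2 h1)) hw
        (mem_centralizer_singleton_iff.2 h2.symm))
    obtain ⟨k, -, -, e, -⟩ := Transfer.exists_invol_conj_of_odd b d this
    exact isConj_iff.2 ⟨k, e⟩
  refine ⟨fun x y a b => ?_, fun X I _ hI hN => ?_⟩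
  · by_cases h1 : x ∈ M <;> by_cases h2 : y ∈ M
    · exact (key x h1 a u hu hu2).trans (key y h2 b u hu hu2).symm
    · exact key x h1 a y h2 b
    · exact (key y h2 b x h1 a).symm
    · exact (key x0 hx0 h0 x h1 a).symm.trans (key x0 hx0 h0 y h2 b)
  have h := spe_two_iff.1 (spe_of_centralizers le_top (fun e => hu (e.ge (mem_top u))) (sylIn_sylow X)
    (inf_le_right.trans hN) fun x a b => inf_le_right.trans (hC x (map_subtype_le _ a) b))
  have k2 : ∀ x y : M, orderOf x = 2 → orderOf y = 2 →
      ∃ d : M, (d : S) ∈ M ⊓ cj(u, M) ∧ d * x * d⁻¹ = y := fun x y a b => by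
    obtain ⟨d, a', b', c'⟩ := Transfer.se_exists_inverted_conj h hu hu2 x.2 (by simpa using a) y.2
      (by simpa using b)
    exact ⟨⟨d, a'⟩, Transfer.mem_inf_cj_of_inverts a' b', Subtype.ext c'⟩
  refine ⟨fun x y a b => ?_, (M ⊓ cj(u, M)).subgroupOf M, ?_, fun m => ?_⟩
  · obtain ⟨d, -, e⟩ := k2 x y a b
    exact isConj_iff.2 ⟨d, e⟩
  · rw [card_subgroupOf inf_le_left]; exact h.2.2 u hu
  · obtain ⟨d, a, e⟩ := k2 I (m * I * m⁻¹) hI (by rwa [orderOf_conj])
    refine ⟨d, a, d⁻¹ * m, mem_centralizer_singleton_iff.2 ?_, by group⟩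
    calc d⁻¹ * m * I = d⁻¹ * (m * I * m⁻¹) * m := by group
      _ = _ := by rw [← e]; group

end Cfsg.Agent.S1905
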