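import Cfsg.Statements.S3299
import Cfsg.Agent.Lib.BG.PLen
import Cfsg.Agent.Lib.Fusion.Focal2
import Cfsg.Agent.Lib.Transfer.Count
import Cfsg.Agent.Lib.Solv.Cores

set_option autoImplicit false
open Cfsg

namespace Cfsg.Agent.S3299
section
open Pointwise commutatorElement Subgroup Cfsg.Agent.Solv
theorem thompson {G : Type*} [Group G] [Finite G] (hres : Cfsg.pResidual 2 G = ⊤) (S : Sylow 2 G) (T : Subgroup G) (hTS : T ≤ S)
    [hTn : (T.subgroupOf (S : Subgroup G)).Normal]
    (hcyc : IsCyclic (↥(S : Subgroup G) ⧸ T.subgroupOf (S : Subgroup G)))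
    (y : G) (hy : orderOf y = 2) (hyS : y ∈ S) (hyT : y ∉ T) :
    ∃ g : G, g * y * g⁻¹ ∈ T ∧
      ¬ 2 ∣ ((S : Subgroup G) ⊓ Subgroup.centralizer {g * y * g⁻¹}).relIndex
          (Subgroup.centralizer {g * y * g⁻¹}) ∧
      ((S : Subgroup G) ⊓ Subgroup.centralizer {y}).map (MulAut.conj g).toMonoidHom ≤
        (S : Subgroup G) ⊓ Subgroup.centralizer {g * y * g⁻¹} := by
  open Pointwise commutatorElement Subgroup in
  open Cfsg.Agent.Comp Cfsg.Agent.BG Subgroup commutatorElement in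
  classical
  letI : CommGroup ((S : Subgroup G) ⧸ T.subgroupOf S) := IsCyclic.commGroup
  haveI := Fintype.ofFinite (G ⧸ (S : Subgroup G))
  let φ : (S : Subgroup G) →* ((S : Subgroup G) ⧸ T.subgroupOf S) := QuotientGroup.mk' _
  have hφ : ∀ x : (S : Subgroup G), φ x = 1 ↔ (x : G) ∈ T := fun x => QuotientGroup.eq_one_iff x
  have y2 : y * y = 1 := by rw [← sq, ← hy, pow_orderOf_eq_one]
  have h1 : MonoidHom.transfer φ y = 1 := by
    have hle : Cfsg.pResidual 2 G ≤ (MonoidHom.transfer φ).ker := by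
      refine (closure_le _).2 fun g hg => ?_
      obtain ⟨k, hk⟩ := (S.2.to_quotient (T.subgroupOf S)) (MonoidHom.transfer φ g)
      have h2 : MonoidHom.transfer φ g ^ orderOf g = 1 := by rw [← map_pow, pow_orderOf_eq_one, map_one]
      have h3 := Nat.dvd_gcd (orderOf_dvd_of_pow_eq_one h2) (orderOf_dvd_of_pow_eq_one hk)
      rw [Nat.Coprime.gcd_eq_one (Nat.Coprime.pow_right k hg), Nat.dvd_one, orderOf_eq_one_iff] at h3
      exact h3
    exact hle (hres ▸ mem_top y)
  set τ := φ ⟨y, hyS⟩ with hτ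
  have t1 : τ ≠ 1 := fun e => hyT ((hφ _).1 e)
  have t2 : τ * τ = 1 := by rw [← map_mul, ← map_one φ]; congr 1; exact Subtype.ext y2
  have t3 : ∀ a : ((S : Subgroup G) ⧸ T.subgroupOf S), a * a = 1 → a ≠ 1 → a * τ = 1 := fun a a1 a2 => by
    obtain ⟨z, hz⟩ := hcyc.exists_generator
    rw [Transfer.invol_eq_of_mem_zpowers (hz a) (hz τ) (orderOf_eq_prime (by rw [sq, a1]) a2)
      (orderOf_eq_prime (by rw [sq, t2]) t1), t2]
  have ht : ∀ q : G ⧸ (S : Subgroup G), (q.out : G ⧸ (S : Subgroup G)) = q := QuotientGroup.out_eq'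
  have yy : ∀ q : G ⧸ (S : Subgroup G), y • y • q = q := fun q => by rw [← mul_smul, y2, one_smul]
  have f1 : ∀ q : G ⧸ (S : Subgroup G), q.out⁻¹ * y * q.out ∈ T → y • q = q := fun q h => by
    conv_lhs => rw [← ht q]
    rw [MulAction.Quotient.smul_coe, eq_comm, ← ht q, QuotientGroup.eq, ht q, smul_eq_mul, ← mul_assoc]
    exact hTS h
  have h2 : ∏ q : G ⧸ (S : Subgroup G), φ ⟨_, Fusion.coc_mem ht y q⟩ * τ = τ := by
    obtain ⟨k, hk⟩ := Transfer.odd_index_sylow_two S
    rw [Finset.prod_mul_distrib, ← Fusion.transfer_eq_prod φ ht, h1, one_mul, Finset.prod_const, Finset.card_univ,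
      ← Nat.card_eq_fintype_card, ← index_eq_card, hk, pow_succ, pow_mul, sq, t2, one_pow, one_mul]
  have h3 : ∀ q : G ⧸ (S : Subgroup G), φ ⟨_, Fusion.coc_mem ht y q⟩ * φ ⟨_, Fusion.coc_mem ht y (y • q)⟩ = 1 := fun q => by
    rw [← map_mul, ← map_one φ]; congr 1; apply Subtype.ext
    simp only [coe_mul, yy, mul_assoc, mul_inv_cancel_left, coe_one]
    rw [← mul_assoc y, y2, one_mul, inv_mul_cancel]
  rw [← Finset.prod_filter_mul_prod_filter_not Finset.univ fun q : G ⧸ (S : Subgroup G) => q.out⁻¹ * y * q.out ∈ T,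
    Finset.prod_involution (s := Finset.filter (fun q : G ⧸ (S : Subgroup G) => ¬ _) _) (fun q _ => y • q)
      (fun q _ => by rw [mul_mul_mul_comm, h3, t2, mul_one])
      (fun q hq h e => h (t3 _ (by have := h3 q; simp only [e] at this ⊢; exact this) fun e' =>
        (Finset.mem_filter.1 hq).2 (by simpa only [e] using (hφ _).1 e')))
      (fun q hq => Finset.mem_filter.2 ⟨Finset.mem_univ _, fun h => (Finset.mem_filter.1 hq).2 (by
        have := f1 _ h; rw [yy] at this; rwa [this])⟩) (fun q _ => yy q), mul_one,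
    Finset.prod_congr rfl (g := fun _ => τ) fun q hq => by
      rw [(hφ _).2 (by simpa only [f1 q (Finset.mem_filter.1 hq).2] using (Finset.mem_filter.1 hq).2), one_mul],
    Finset.prod_const] at h2
  obtain ⟨R, r1, r2⟩ := exists_sylIn_ge (S.2.to_inf_left (K := C1(y))) inf_le_right
  have f2 : ∀ (x : G) (q : G ⧸ (S : Subgroup G)), (x : G ⧸ (S : Subgroup G)) = q → (q.out⁻¹ * y * q.out ∈ T ↔ x⁻¹ * y * x ∈ T) := by
    intro x q h
    obtain ⟨s, hs⟩ := QuotientGroup.mk_out_eq_mul (S : Subgroup G) x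
    have := (mem_normalizer_iff''.1 ((normal_subgroupOf_iff_le_normalizer hTS).1 hTn s.2) (x⁻¹ * y * x)).symm
    rw [← h, hs]; simpa only [mul_inv_rev, mul_assoc] using this
  let F : SubMulAction R (G ⧸ (S : Subgroup G)) := ⟨{q | q.out⁻¹ * y * q.out ∈ T}, fun r q hq => by
    refine (f2 (r * q.out) _ (by rw [← smul_eq_mul, ← MulAction.Quotient.smul_coe, ht]; rfl)).2 ?_
    have : q.out⁻¹ * y * q.out ∈ T := hq
    rwa [mul_inv_rev, mul_assoc, mul_assoc, ← mul_assoc y, ← mem_centralizer_singleton_iff.1 (r2.le r.2), mul_assoc,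
      inv_mul_cancel_left, ← mul_assoc]⟩
  obtain ⟨q, hq⟩ := r2.isP.nonempty_fixed_point_of_prime_not_dvd_card F (fun ⟨k, hk⟩ => t1 (by
    rw [← h2, ← Fintype.card_subtype, ← Nat.card_eq_fintype_card]
    refine (congrArg (τ ^ ·) hk).trans ?_
    rw [pow_mul, sq, t2, one_pow]))
  have q1 : cj(q.1.out⁻¹, R) ≤ (S : Subgroup G) ⊓ C1(q.1.out⁻¹ * y * q.1.out⁻¹⁻¹) := by
    refine le_inf (cj_le_iff'.2 fun r hr => ?_) (by rw [← cj_centralizer_singleton]; exact cj_mono _ r2.le)
    rw [inv_inv, mul_assoc, ← QuotientGroup.eq, ht, ← smul_eq_mul, ← MulAction.Quotient.smul_coe, ht]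
    exact (congrArg Subtype.val (hq ⟨r, hr⟩)).symm
  have q2 := r2.cj q.1.out⁻¹
  rw [cj_centralizer_singleton] at q2
  exact ⟨q.1.out⁻¹, by rw [inv_inv]; exact q.2, q2.not_dvd_relIndex_of_le q1 inf_le_right, (cj_mono _ r1).trans q1⟩


theorem grow {G : Type*} [Group G] [Finite G] (Q H : Subgroup G) (hQ : IsPGroup 2 Q)
    (h : ∀ x ∈ Q, (∀ y ∈ Q, y ∈ H ↔ x * y * x⁻¹ ∈ H) → x ∈ H) : Q ≤ H := by
  haveI : Fact (Nat.Prime 2) := ⟨Nat.prime_two⟩
  haveI := hQ.isNilpotent
  by_contra hn
  have hlt : H.subgroupOf Q < ⊤ := lt_top_iff_ne_top.2 fun e => hn (subgroupOf_eq_top.1 e)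
  obtain ⟨x, hx, hx'⟩ := SetLike.exists_of_lt (Group.normalizerCondition_of_isNilpotent _ hlt)
  exact hx' (h x x.2 fun y hy => (mem_normalizer_iff.1 hx ⟨y, hy⟩))

theorem small {G : Type*} [Group G] [Finite G] (E A : Subgroup G) (z x : G) (hAE : A ≤ E) (hx : x ∈ E)
    (hzz : z * z = 1) (hzc : ∀ e ∈ E, e * z = z * e)
    (hZ : ∀ c ∈ E, (∀ e ∈ E, e * c = c * e) → c = 1 ∨ c = z)
    (hB : ∀ a ∈ E, ∀ b ∈ E, a * b = b * a ∨ a * b = z * (b * a))
    (hcos : ∀ e ∈ E, e ∈ A ∨ x⁻¹ * e ∈ A) (hab : ∀ a ∈ A, ∀ b ∈ A, a * b = b * a) : Nat.card E ≤ 8 := by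
  classical
  have h1 : ∀ c ∈ A, x * c = c * x → c = 1 ∨ c = z := fun c hc hxc => hZ c (hAE hc) fun e he => by
    rcases hcos e he with h | h
    · exact hab e h c hc
    · have := hab _ h c hc
      calc e * c = x * (x⁻¹ * e * c) := by group
        _ = x * c * (x⁻¹ * e) := by rw [this]; group
        _ = c * e := by rw [hxc]; group
  obtain ⟨y, hy⟩ : ∃ y : G, ∀ a ∈ A, a = 1 ∨ a = z ∨ a = y ∨ a = y * z := by
    by_cases hall : ∀ a ∈ A, x * a = a * x
    · exact ⟨1, fun a ha => by rcases h1 a ha (hall a ha) with h | h <;> simp [h]⟩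
    · simp only [not_forall] at hall
      obtain ⟨y, hy, hxy⟩ := hall
      have hxy' := (hB x hx y (hAE hy)).resolve_left hxy
      refine ⟨y, fun a ha => ?_⟩
      rcases hB x hx a (hAE ha) with h | h
      · rcases h1 a ha h with h | h <;> simp [h]
      · have h2 : x * (y⁻¹ * a) = (y⁻¹ * a) * x := by
          have h3 : y * (x * (y⁻¹ * a)) = y * ((y⁻¹ * a) * x) := by
            calc y * (x * (y⁻¹ * a)) = (z * z) * (y * x) * (y⁻¹ * a) := by rw [hzz]; group
              _ = z * (z * (y * x)) * (y⁻¹ * a) := by group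
              _ = z * (x * a) := by rw [← hxy']; group
              _ = (z * z) * (a * x) := by rw [h]; group
              _ = y * ((y⁻¹ * a) * x) := by rw [hzz]; group
          exact mul_left_cancel h3
        rcases h1 _ (A.mul_mem (A.inv_mem hy) ha) h2 with h | h
        · right; right; left; rw [← mul_inv_cancel_left y a, h, mul_one]
        · right; right; right; rw [← mul_inv_cancel_left y a, h]
  have hsub : (E : Set G) ⊆ (([1, z, y, y * z, x, x * z, x * y, x * (y * z)] : List G).toFinset : Set G) := by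
    intro e he
    rcases hcos e he with h | h
    · rcases hy e h with h | h | h | h <;> simp [h]
    · rw [← mul_inv_cancel_left x e]
      rcases hy _ h with h | h | h | h <;> rw [h] <;> simp
  have := Set.ncard_le_ncard hsub
  rw [Set.ncard_coe_finset] at this
  exact (this.trans (List.toFinset_card_le _))
end

/-- Let G be a finite group with no nontrivial 2-group quotient (O^2(G) = G), z an involution of G with H = C_G(z), and suppose E = O_2(H) is extraspecial with C_G(E) ≤ E and of order 2^(2n+1) with n ≥ 2. Then E is contained in every normal subgroup of H of index 2. -/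
theorem result {G : Type*} [Group G] [Finite G] (hres : Cfsg.pResidual 2 G = ⊤) (z : G) (hz : orderOf z = 2)
    (E : Subgroup G) (hE : E = (Cfsg.pCore 2 ↥(Subgroup.centralizer ({z} : Set G))).map (Subgroup.centralizer ({z} : Set G)).subtype)
    (hext : Cfsg.IsExtraspecial 2 ↥E) (hcent : Subgroup.centralizer (E : Set G) ≤ E) (n : ℕ) (hn : 2 ≤ n) (hcard : Nat.card ↥E = 2 ^ (2 * n + 1))
    (K : Subgroup G) (hKH : K ≤ Subgroup.centralizer ({z} : Set G))
    (hKn : ∀ h ∈ Subgroup.centralizer ({z} : Set G), K.map (MulAut.conj h).toMonoidHom = K)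
    (hKi : K.relIndex (Subgroup.centralizer ({z} : Set G)) = 2) : E ≤ K := by
  open Pointwise commutatorElement Subgroup Cfsg.Agent.Solv in
  classical
  haveI : Fact (Nat.Prime 2) := ⟨Nat.prime_two⟩
  set H := Subgroup.centralizer ({z} : Set G) with hH
  have mH : ∀ g, g ∈ H ↔ g * z = z * g := fun g => mem_centralizer_singleton_iff
  have hzz : z * z = 1 := by rw [← sq, ← hz, pow_orderOf_eq_one]
  have hz1 : z ≠ 1 := by rintro rfl; simp at hz
  have hEH : E ≤ H := hE ▸ map_subtype_le _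
  have hzc : ∀ e ∈ E, e * z = z * e := fun e he => (mH e).1 (hEH he)
  have hEn : ∀ h ∈ H, ∀ e ∈ E, h * e * h⁻¹ ∈ E := by
    rintro h hh e he
    rw [hE] at he ⊢
    obtain ⟨e, he, rfl⟩ := he
    exact ⟨⟨h, hh⟩ * e * ⟨h, hh⟩⁻¹, (inferInstance : (Cfsg.pCore 2 H).Normal).conj_mem e he _, rfl⟩
  have hzE : z ∈ E := hcent (mem_centralizer_iff.2 hzc)
  have hZ : ∀ c ∈ E, (∀ e ∈ E, e * c = c * e) → c = 1 ∨ c = z := by
    intro c hc hce
    have m1 : (⟨c, hc⟩ : E) ∈ center E := mem_center_iff.2 fun e => Subtype.ext (hce e e.2)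
    have m2 : (⟨z, hzE⟩ : E) ∈ center E := mem_center_iff.2 fun e => Subtype.ext (hzc e e.2)
    obtain ⟨w, -, hw⟩ := (Nat.card_eq_two_iff' (1 : center E)).1 hext.2
    by_cases h1 : c = 1
    · exact Or.inl h1
    · right
      have a1 := hw ⟨_, m1⟩ fun e => h1 (congrArg (fun u : center E => (u.1 : G)) e)
      have a2 := hw ⟨_, m2⟩ fun e => hz1 (congrArg (fun u : center E => (u.1 : G)) e)
      exact congrArg (fun u : center E => (u.1 : G)) (a1.trans a2.symm)
  have hB : ∀ a ∈ E, ∀ b ∈ E, a * b = b * a ∨ a * b = z * (b * a) := by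
    intro a ha b hb
    have m : ⁅(⟨a, ha⟩ : E), (⟨b, hb⟩ : E)⁆ ∈ center E :=
      hext.1.2.2 ▸ commutator_mem_commutator (mem_top _) (mem_top _)
    have := hZ (a * b * a⁻¹ * b⁻¹) (E.mul_mem (E.mul_mem (E.mul_mem ha hb) (E.inv_mem ha)) (E.inv_mem hb))
      fun e he => congrArg Subtype.val (mem_center_iff.1 m ⟨e, he⟩)
    rcases this with h | h
    · left; calc a * b = (a * b * a⁻¹ * b⁻¹) * (b * a) := by group
        _ = b * a := by rw [h, one_mul]
    · right; rw [← h]; group
  have hsq : ∀ a ∈ E, a * a = 1 ∨ a * a = z := fun a ha => hZ _ (E.mul_mem ha ha) fun e he => by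
    rcases hB e he a ha with h | h
    · calc e * (a * a) = (e * a) * a := by group
        _ = a * (e * a) := by rw [h, mul_assoc, h]
        _ = a * a * e := by rw [h]; group
    · calc e * (a * a) = (e * a) * a := by group
        _ = (z * (a * e)) * a := by rw [← h]
        _ = z * a * (e * a) := by group
        _ = z * a * (z * (a * e)) := by rw [← h]
        _ = z * (a * z) * (a * e) := by group
        _ = (z * z) * (a * a * e) := by rw [hzc a ha]; group
        _ = a * a * e := by rw [hzz, one_mul]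
  have hbig : ¬ Nat.card E ≤ 8 := by
    rw [hcard]
    have : 2 ^ 5 ≤ 2 ^ (2 * n + 1) := Nat.pow_le_pow_right (by norm_num) (by omega)
    omega
  have hK2 : ∀ a ∈ H, ∀ b ∈ H, (a * b ∈ K ↔ (a ∈ K ↔ b ∈ K)) := fun a ha b hb =>
    mul_mem_iff_of_index_two (H := K.subgroupOf H) hKi (a := ⟨a, ha⟩) (b := ⟨b, hb⟩)
  have hKc : ∀ a ∈ H, ∀ b ∈ H, a * b * a⁻¹ * b⁻¹ ∈ K := fun a ha b hb => by
    rw [hK2 _ (H.mul_mem (H.mul_mem ha hb) (H.inv_mem ha)) _ (H.inv_mem hb), hK2 _ (H.mul_mem ha hb) _ (H.inv_mem ha),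
      hK2 _ ha _ hb, K.inv_mem_iff, K.inv_mem_iff]
    tauto
  by_contra hEK
  obtain ⟨x, hxE, hxK⟩ := SetLike.not_le_iff_exists.1 hEK
  obtain ⟨t, htE, htK, htt⟩ : ∃ t ∈ E, t ∉ K ∧ t * t = 1 := by
    by_contra hno
    have hq : ∀ t ∈ E, t ∉ K → t * t = z := fun t h1 h2 => (hsq t h1).resolve_left fun h3 => hno ⟨t, h1, h2, h3⟩
    refine hbig (small E (E ⊓ K) z x inf_le_left hxE hzz hzc hZ hB (fun e he => ?_) fun a ha b hb => ?_)
    · by_cases h : e ∈ K
      · exact Or.inl ⟨he, h⟩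
      · exact Or.inr ⟨E.mul_mem (E.inv_mem hxE) he, (hK2 _ (H.inv_mem (hEH hxE)) _ (hEH he)).2 (by rw [K.inv_mem_iff]; tauto)⟩
    · have key : ∀ y ∈ E ⊓ K, y * x * y = x := fun y hy => by
        have := hq (x * y) (E.mul_mem hxE hy.1) (by rw [hK2 _ (hEH hxE) _ (hEH hy.1)]; have := hy.2; tauto)
        rw [← hq x hxE hxK] at this
        apply mul_left_cancel (a := x)
        rw [← this]; group
      have k1 := key _ ((E ⊓ K).mul_mem ha hb)
      have k2 := key a ha
      have k3 := key b hb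
      have k4 : a * b * x * (a * b) = a * b * x * (b * a) := by
        rw [k1]
        calc x = a * x * a := k2.symm
          _ = a * (b * x * b) * a := by rw [k3]
          _ = _ := by group
      exact mul_left_cancel k4
  have ht1 : t ≠ 1 := by rintro rfl; exact htK K.one_mem
  let M := E ⊓ Subgroup.centralizer ({t} : Set G)
  have mM : ∀ g, g ∈ M ↔ g ∈ E ∧ g * t = t * g := fun g => and_congr Iff.rfl mem_centralizer_singleton_iff
  obtain ⟨a0, ha0, b0, hb0, hab0⟩ : ∃ a ∈ E, ∃ b ∈ E, a * b = z * (b * a) := by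
    by_contra hno
    refine hbig (small E E z 1 le_rfl E.one_mem hzz hzc hZ hB (fun e he => Or.inl he) fun a ha b hb => ?_)
    exact (hB a ha b hb).resolve_right fun h => hno ⟨a, ha, b, hb, h⟩
  have hzK : z ∈ K := by
    have := hKc a0 (hEH ha0) b0 (hEH hb0)
    rwa [hab0, show z * (b0 * a0) * a0⁻¹ * b0⁻¹ = z by group] at this
  obtain ⟨e, heE, het⟩ : ∃ e ∈ E, e * t = z * (t * e) := by
    by_contra hno
    rcases hZ t htE fun e he => (hB e he t htE).resolve_right fun h => hno ⟨e, he, h⟩ with h | h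
    · exact ht1 h
    · exact htK (h ▸ hzK)
  have hcos : ∀ f ∈ E, f ∈ M ∨ e⁻¹ * f ∈ M := fun f hf => by
    rcases hB f hf t htE with h | h
    · exact Or.inl ((mM _).2 ⟨hf, h⟩)
    · refine Or.inr ((mM _).2 ⟨E.mul_mem (E.inv_mem heE) hf, ?_⟩)
      apply mul_left_cancel (a := e)
      calc e * (e⁻¹ * f * t) = z * (t * f) := by rw [← h]; group
        _ = z * (t * e) * (e⁻¹ * f) := by group
        _ = _ := by rw [← het]; group
  have hzM : z ∈ M := (mM _).2 ⟨hzE, (hzc t htE).symm⟩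
  have htM : t ∈ M := (mM _).2 ⟨htE, rfl⟩
  have hcE : ∀ w, (∀ m ∈ M, m * w = w * m) → e * w = w * e → w = 1 ∨ w = z := fun w hw hew => by
    have hall : ∀ f ∈ E, f * w = w * f := fun f hf => by
      rcases hcos f hf with h | h
      · exact hw f h
      · calc f * w = e * (e⁻¹ * f * w) := by group
          _ = (e * w) * (e⁻¹ * f) := by rw [hw _ h]; group
          _ = w * f := by rw [hew]; group
    exact hZ w (hcent (mem_centralizer_iff.2 hall)) hall
  have hfix : ∀ w, (∀ m ∈ M, m * w = w * m) → e * w = z * (w * e) → w = t ∨ w = z * t := fun w hw hew => by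
    have := hcE (w * t) (fun m hm => by rw [← mul_assoc, hw m hm, mul_assoc, ((mM m).1 hm).2, mul_assoc]) (by
      calc e * (w * t) = z * w * (e * t) := by rw [← mul_assoc, hew]; group
        _ = (z * w) * z * (t * e) := by rw [het]; group
        _ = (z * z) * (w * t * e) := by rw [mul_assoc z w z, ← hw z hzM]; group
        _ = _ := by rw [hzz, one_mul])
    rcases this with h | h
    · left; rw [← mul_one w, ← htt, ← mul_assoc, h, one_mul]
    · right; rw [← mul_one w, ← htt, ← mul_assoc, h]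
  have hCM : ∀ w, (∀ m ∈ M, m * w = w * m) → (w = 1 ∨ w = z) ∨ (w = t ∨ w = z * t) := fun w hw => by
    have hwH : w ∈ H := (mH w).2 (hw z hzM).symm
    have hdE : e⁻¹ * (w * e * w⁻¹) ∈ E := E.mul_mem (E.inv_mem heE) (hEn w hwH e heE)
    set d := e⁻¹ * (w * e * w⁻¹) with hd
    have hwe : w * e = e * d * w := by rw [hd]; group
    have hdM : ∀ m ∈ M, m * d = d * m := fun m hm => by
      have hmw := hw m hm
      rcases hB m ((mM m).1 hm).1 e heE with h | h
      · have : Commute m (e⁻¹ * (w * e * w⁻¹)) :=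
          (Commute.inv_right h).mul_right (((show Commute m w from hmw).mul_right h).mul_right (Commute.inv_right hmw))
        exact this
      · have h5 : m * (e * d) = z * (e * d * m) := by
          calc m * (e * d) = (m * w) * e * w⁻¹ := by rw [hd]; group
            _ = w * (m * e) * w⁻¹ := by rw [hmw]; group
            _ = (w * z) * e * (m * w⁻¹) := by rw [h]; group
            _ = z * (w * e * w⁻¹ * m) := by
              rw [← hw z hzM, (Commute.inv_right (show Commute m w from hmw)).eq]; group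
            _ = _ := by rw [hd]; group
        have h6 : z * e * (m * d) = z * e * (d * m) := by
          calc z * e * (m * d) = (z * (e * m)) * d := by group
            _ = m * (e * d) := by rw [← h]; group
            _ = _ := by rw [h5]; group
        exact mul_left_cancel h6
    have hsqe : e * d * (e * d) = e * e := by
      have : e * d * (e * d) = w * (e * e) * w⁻¹ := by rw [hd]; group
      rw [this]
      rcases hsq e heE with h | h <;> rw [h]
      · group
      · rw [← hw z hzM]; group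
    rcases hB e heE d hdE with h | h
    · rcases hcE d hdM h with h1 | h1
      · left; refine hcE w hw ?_; rw [hwe, h1, mul_one]
      · right; refine hfix w hw ?_
        rw [hwe, h1, hzc e heE, ← mul_assoc, ← mul_assoc, hzz, one_mul]
    · exfalso
      have hdd : d * d = 1 := by
        rcases hfix d hdM h with h1 | h1 <;> rw [h1]
        · exact htt
        · rw [mul_assoc, ← mul_assoc t z, hzc t htE, mul_assoc z t t, htt, mul_one, hzz]
      apply hz1
      have h7 : e * d * (e * d) = e * e * z := by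
        calc e * d * (e * d) = e * d * (z * (d * e)) := by rw [← h]
          _ = e * (d * z) * d * e := by group
          _ = e * z * (d * d) * e := by rw [hzc d hdE]; group
          _ = e * (z * e) := by rw [hdd]; group
          _ = e * e * z := by rw [← hzc e heE]; group
      rw [hsqe] at h7
      exact (mul_left_cancel (a := e * e) (by rw [← h7, mul_one])).symm
  obtain ⟨S, hES⟩ := hext.1.1.exists_le_sylow
  have hSH : (S : Subgroup G) ≤ H := grow _ _ S.2 fun x hx hn => by
    have hall : ∀ f ∈ E, f * (x⁻¹ * z * x) = (x⁻¹ * z * x) * f := fun f hf => by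
      have := (mH _).1 ((hn f (hES hf)).1 (hEH hf))
      calc f * (x⁻¹ * z * x) = x⁻¹ * (x * f * x⁻¹ * z) * x := by group
        _ = _ := by rw [this]; group
    rcases hZ _ (hcent (mem_centralizer_iff.2 hall)) hall with h | h
    · exact absurd (by rw [← mul_inv_cancel_left x z, ← mul_inv_cancel_right (x⁻¹ * z) x, h]; group) hz1
    · rw [mH]; nth_rewrite 1 [← h]; group
  have hA : ∀ a : G, a⁻¹ * z * a ≠ t := by
    intro a ha
    obtain ⟨Q, q1, q2⟩ := Cfsg.Agent.Comp.exists_sylIn_ge (hext.1.1.to_inf_left (K := Subgroup.centralizer ({t} : Set G))) inf_le_right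
    obtain ⟨a1, ha1, b1, hb1, hab1⟩ : ∃ a ∈ M, ∃ b ∈ M, a * b = z * (b * a) := by
      by_contra hno
      refine hbig (small E M z e inf_le_left heE hzz hzc hZ hB hcos fun a ha b hb => ?_)
      exact (hB a ha.1 b hb.1).resolve_right fun h => hno ⟨a, ha, b, hb, h⟩
    have hQH : Q ≤ H := grow _ _ q2.isP fun x hx hn => by
      have hall : ∀ f ∈ M, f * (x⁻¹ * z * x) = (x⁻¹ * z * x) * f := fun f hf => by
        have := (mH _).1 ((hn f (q1 hf)).1 (hEH hf.1))
        calc f * (x⁻¹ * z * x) = x⁻¹ * (x * f * x⁻¹ * z) * x := by group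
          _ = _ := by rw [this]; group
      have hin : ∀ f ∈ M, x⁻¹ * f * x ∈ H := fun f hf =>
        (hn _ (Q.mul_mem (Q.mul_mem (Q.inv_mem hx) (q1 hf)) hx)).2 (by
          rw [show x * (x⁻¹ * f * x) * x⁻¹ = f by group]; exact hEH hf.1)
      have hk := hKc _ (hin a1 ha1) _ (hin b1 hb1)
      rw [show x⁻¹ * a1 * x * (x⁻¹ * b1 * x) * (x⁻¹ * a1 * x)⁻¹ * (x⁻¹ * b1 * x)⁻¹
        = x⁻¹ * (a1 * b1 * a1⁻¹ * b1⁻¹) * x by group, hab1, show z * (b1 * a1) * a1⁻¹ * b1⁻¹ = z by group] at hk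
      rcases hCM _ hall with (h | h) | (h | h)
      · exact absurd (by rw [← mul_inv_cancel_left x z, ← mul_inv_cancel_right (x⁻¹ * z) x, h]; group) hz1
      · rw [mH]; nth_rewrite 1 [← h]; group
      · exact absurd (h ▸ hk) htK
      · rw [h] at hk
        exact absurd ((K.mul_mem_cancel_left hzK).1 hk) htK
    have hidx : ¬ 2 ∣ Q.index := by
      rw [← relIndex_mul_index q2.le, Nat.Prime.dvd_mul Nat.prime_two, not_or]
      refine ⟨q2.not_dvd_relIndex_of_le (le_inf le_rfl q2.le |>.trans inf_le_left) q2.le, fun h => S.not_dvd_index (h.trans ?_)⟩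
      have h1 : ((S : Subgroup G).map (MulAut.conj a⁻¹).toMonoidHom) ≤ Subgroup.centralizer ({t} : Set G) := by
        rintro _ ⟨s, hs, rfl⟩
        rw [mem_centralizer_singleton_iff, ← ha]
        have := (mH s).1 (hSH hs)
        show a⁻¹ * s * a⁻¹⁻¹ * (a⁻¹ * z * a) = a⁻¹ * z * a * (a⁻¹ * s * a⁻¹⁻¹)
        calc _ = a⁻¹ * (s * z) * a := by group
          _ = _ := by rw [this]; group
      refine (index_dvd_of_le h1).trans (dvd_of_eq ?_)
      exact index_map_equiv _ (MulAut.conj a⁻¹)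
    have hP : IsPGroup 2 ↥(E ⊔ Q) := IsPGroup.to_sup_of_normal_left' hext.1.1 q2.isP (fun q hq => by
      rw [mem_normalizer_iff]
      intro f
      refine ⟨fun hf => hEn q (hQH hq) f hf, fun hf => ?_⟩
      have := hEn q⁻¹ (H.inv_mem (hQH hq)) _ hf
      rwa [show q⁻¹ * (q * f * q⁻¹) * q⁻¹⁻¹ = f by group] at this)
    have hEQ := (q2.isP.toSylow hidx).is_maximal' hP le_sup_right
    have heQ : e ∈ Q := (show E ⊔ Q = Q from hEQ) ▸ (le_sup_left : E ≤ E ⊔ Q) heE
    have := mem_centralizer_singleton_iff.1 (q2.le heQ)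
    rw [this] at het
    exact hz1 (mul_right_cancel (b := t * e) (by rw [← het, one_mul]))
  have hTi : (((S : Subgroup G) ⊓ K).subgroupOf S).index = 2 := by
    refine index_eq_two_iff.2 ⟨⟨t, hES htE⟩, fun b => ?_⟩
    have h1 := hK2 b (hSH b.2) t (hEH htE)
    simp only [mem_subgroupOf, mem_inf, coe_mul, Xor']
    have h2 := S.1.mul_mem b.2 (hES htE)
    have h3 := b.2
    tauto
  haveI := normal_of_index_eq_two hTi
  obtain ⟨g, g1, -, g3⟩ := thompson hres S (S ⊓ K) inf_le_left (isCyclic_of_prime_card (p := 2) hTi) t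
    (orderOf_eq_prime (by rw [sq, htt]) ht1) (hES htE) (fun h => htK h.2)
  have hall : ∀ f ∈ M, f * (g⁻¹ * z * g) = (g⁻¹ * z * g) * f := fun f hf => by
    have := (mH _).1 (hSH (g3 ⟨f, ⟨hES hf.1, hf.2⟩, rfl⟩).1)
    change g * f * g⁻¹ * z = z * (g * f * g⁻¹) at this
    calc f * (g⁻¹ * z * g) = g⁻¹ * (g * f * g⁻¹ * z) * g := by group
      _ = _ := by rw [this]; group
  rcases hCM _ hall with (h | h) | (h | h)
  · exact absurd (by rw [← mul_inv_cancel_left g z, ← mul_inv_cancel_right (g⁻¹ * z) g, h]; group) hz1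
  · have hgH : g ∈ H := by rw [mH]; nth_rewrite 1 [← h]; group
    have : g * t * g⁻¹ ∈ K := g1.2
    rw [hK2 _ (H.mul_mem hgH (hEH htE)) _ (H.inv_mem hgH), hK2 _ hgH _ (hEH htE), K.inv_mem_iff] at this
    tauto
  · exact hA g h
  · refine hA (g * e) ?_
    calc (g * e)⁻¹ * z * (g * e) = e⁻¹ * (g⁻¹ * z * g) * e := by group
      _ = e⁻¹ * (z * (t * e)) := by rw [h]; group
      _ = t := by rw [← het]; group

end Cfsg.Agent.S3299
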