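import Cfsg.Statements.S1906
import Mathlib
import Cfsg.Agent.S3299
import Cfsg.Agent.Lib.Transfer.Hall

set_option autoImplicit false
open Cfsg

namespace Cfsg.Agent.S1906
section
open Pointwise commutatorElement Subgroup
open Matrix in
theorem tr_inv {F : Type*} [Field F] (c : Matrix (Fin 3) (Fin 3) F) (h1 : c * c = 1) (h2 : c.det = 1) (h3 : c ≠ 1) :
    c.trace = -1 ∧ (1 + c).adjugate = 0 := by
  have ha : c.adjugate = c := by
    have := Matrix.mul_adjugate c
    rw [h2, one_smul] at this
    calc c.adjugate = c * c * c.adjugate := by rw [h1, one_mul]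
      _ = c := by rw [mul_assoc, this, mul_one]
  have i1 : c * c - c.trace • c + c.adjugate.trace • (1 : Matrix (Fin 3) (Fin 3) F) = c.adjugate := by
    ext i j
    fin_cases i <;> fin_cases j <;>
      simp [Matrix.adjugate_fin_three, Matrix.trace_fin_three, Matrix.mul_apply, Fin.sum_univ_three] <;> ring
  have i2 : (1 + c).adjugate = 1 + c.trace • (1 : Matrix (Fin 3) (Fin 3) F) - c + c.adjugate := by
    ext i j
    fin_cases i <;> fin_cases j <;>
      simp [Matrix.adjugate_fin_three, Matrix.trace_fin_three, Matrix.one_apply] <;> ring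
  rw [ha, h1] at i1
  have ht : c.trace = -1 := by
    by_contra hne
    have h4 : (1 + c.trace) • (1 - c) = 0 := by
      rw [add_smul, one_smul, smul_sub, ← sub_eq_zero.2 i1]; abel
    rcases smul_eq_zero.1 h4 with h | h
    · exact hne (by linear_combination h)
    · exact h3 (sub_eq_zero.1 h).symm
  refine ⟨ht, ?_⟩
  rw [i2, ha, ht]; simp

open Matrix in
theorem rank1 {F : Type*} [Field F] (P x : Matrix (Fin 3) (Fin 3) F) (hP : P.adjugate = 0) :
    P * x * P = (P * x).trace • P := by
  have h := fun a b => congrFun (congrFun hP a) b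
  have h00 := h 0 0; have h01 := h 0 1; have h02 := h 0 2
  have h10 := h 1 0; have h11 := h 1 1; have h12 := h 1 2
  have h20 := h 2 0; have h21 := h 2 1; have h22 := h 2 2
  simp [Matrix.adjugate_fin_three] at h00 h01 h02 h10 h11 h12 h20 h21 h22
  have hm : ∀ i j k l, P i k * P l j = P l k * P i j := by
    intro i j k l
    fin_cases i <;> fin_cases j <;> fin_cases k <;> fin_cases l <;> simp only [Fin.zero_eta, Fin.mk_one, Fin.reduceFinMk, Fin.isValue] <;>
      first | ring1 | linear_combination h00 | linear_combination -h00 | linear_combination h01 | linear_combination -h01 | linear_combination h02 | linear_combination -h02 | linear_combination h10 | linear_combination -h10 | linear_combination h11 | linear_combination -h11 | linear_combination h12 | linear_combination -h12 | linear_combination h20 | linear_combination -h20 | linear_combination h21 | linear_combination -h21 | linear_combination h22 | linear_combination -h22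
  ext i j
  simp only [Matrix.mul_apply, Matrix.smul_apply, Matrix.trace, Matrix.diag, smul_eq_mul, Finset.sum_mul]
  refine Finset.sum_congr rfl fun l _ => Finset.sum_congr rfl fun k _ => ?_
  linear_combination x k l * hm i j k l

theorem eig {F : Type*} [Field F] (h2 : (2 : F) ≠ 0) (c x : Matrix (Fin 3) (Fin 3) F) (h1 : c * c = 1) (hd : c.det = 1)
    (h3 : c ≠ 1) (hx : x * c = c * x) : x * (1 + c) = (((1 + c) * x).trace / 2) • (1 + c) := by
  have h := rank1 (1 + c) x (tr_inv c h1 hd h3).2
  have h' : (1 + c) * x * (1 + c) = (2 : F) • (x * (1 + c)) := by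
    rw [add_mul, one_mul, ← hx, ← mul_one_add, mul_assoc, add_mul, one_mul, mul_add c, mul_one, h1, two_smul, ← mul_add, add_comm c 1]
  rw [div_eq_inv_mul, mul_smul, ← h, h', smul_smul, inv_mul_cancel₀ h2, one_smul]

theorem dec {F : Type*} [Field F] (h2 : (2 : F) ≠ 0) (c u : Matrix (Fin 3) (Fin 3) F) (c1 : c * c = 1) (c2 : c.det = 1)
    (c3 : c ≠ 1) (u1 : u * u = 1) (u2 : u.det = 1) (u3 : u ≠ 1) (hcu : c * u = u * c) (hne : c ≠ u)
    (x : Matrix (Fin 3) (Fin 3) F) (xc : x * c = c * x) (xu : x * u = u * x) :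
    ∃ l : F × F × F, (x * x = 1 → l.1 * l.1 = 1 ∧ l.2.1 * l.2.1 = 1 ∧ l.2.2 * l.2.2 = 1) ∧
      x = (2 : F)⁻¹ • (l.1 • (1 + c) + l.2.1 • (1 + u) + l.2.2 • (1 + c * u)) := by
  have w1 : c * u * (c * u) = 1 := by rw [mul_assoc, ← mul_assoc u, ← hcu, mul_assoc c u u, u1, mul_one, c1]
  have w2 : (c * u).det = 1 := by rw [Matrix.det_mul, c2, u2, mul_one]
  have w3 : c * u ≠ 1 := fun h => hne (by rw [← mul_one c, ← u1, ← mul_assoc, h, one_mul])
  have xw : x * (c * u) = c * u * x := by rw [← mul_assoc, xc, mul_assoc, xu, mul_assoc]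
  have e0 := eig h2 c u c1 c2 c3 hcu.symm
  rw [add_mul, one_mul, Matrix.trace_add, (tr_inv u u1 u2 u3).1, (tr_inv _ w1 w2 w3).1,
    show ((-1 : F) + -1) / 2 = -1 by field_simp; ring, mul_add, mul_one, ← hcu, neg_one_smul] at e0
  have sq : ∀ (v : Matrix (Fin 3) (Fin 3) F) (l : F), v * v = 1 → v.det = 1 → v ≠ 1 → x * (1 + v) = l • (1 + v) → x * x = 1 → l * l = 1 := by
    intro v l v1 v2 v3 hl hx
    have hv : (1 + v) ≠ 0 := fun h => by
      have := congrArg Matrix.trace h
      rw [Matrix.trace_add, (tr_inv v v1 v2 v3).1, Matrix.trace_one, Matrix.trace_zero] at this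
      apply h2
      simp only [Fintype.card_fin, Nat.cast_ofNat] at this
      linear_combination this
    have : (l * l - 1) • (1 + v) = 0 := by
      rw [sub_smul, mul_smul, ← hl, ← Matrix.mul_smul, ← hl, ← mul_assoc, hx, one_mul, one_smul, sub_self]
    exact sub_eq_zero.1 ((smul_eq_zero.1 this).resolve_right hv)
  have e1 := eig h2 c x c1 c2 c3 xc
  have e2 := eig h2 u x u1 u2 u3 xu
  have e3 := eig h2 _ x w1 w2 w3 xw
  refine ⟨(_, _, _), fun hx => ⟨sq _ _ c1 c2 c3 e1 hx, sq _ _ u1 u2 u3 e2 hx, sq _ _ w1 w2 w3 e3 hx⟩, ?_⟩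
  simp only
  rw [← e1, ← e2, ← e3, ← mul_add, ← mul_add, show 1 + c + (1 + u) + (1 + c * u) = 1 + 1 + (1 + c) + (u + c * u) by abel,
    e0, add_neg_cancel_right, mul_add, mul_one, ← two_smul F x, smul_smul, inv_mul_cancel₀ h2, one_smul]
end

/-- Let G be a finite group with no subgroup of index 2 whose Sylow 2-subgroup X embeds in GL₃(F) for a finite field F of odd order. If X contains an elementary abelian subgroup of order 8, then X is abelian. -/
theorem result {G : Type*} [Group G] [Finite G] (hG : ∀ H : Subgroup G, H.index ≠ 2) (X : Sylow 2 G)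
    {F : Type*} [Field F] [Fintype F] (hF : Odd (Fintype.card F))
    (f : ↥(X : Subgroup G) →* GL (Fin 3) F) (hf : Function.Injective f)
    (E : Subgroup G) (hE : E ≤ (X : Subgroup G)) (hEa : Cfsg.IsElementaryAbelian 2 E) (hE8 : Nat.card E = 8) :
    IsMulCommutative (X : Subgroup G) := by
  open Pointwise commutatorElement Subgroup in
  classical
  haveI : Fact (Nat.Prime 2) := ⟨Nat.prime_two⟩
  have h2 : (2 : F) ≠ 0 := by
    have := (FiniteField.even_card_iff_char_two (F := F)).not.2 (by have := Nat.odd_iff.1 hF; omega)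
    exact Ring.two_ne_zero this
  let m : (X : Subgroup G) →* Matrix (Fin 3) (Fin 3) F := (Units.coeHom _).comp f
  have hm : Function.Injective m := Units.val_injective.comp hf
  let δ : (X : Subgroup G) →* F := Matrix.detMonoidHom.comp m
  have hδ : ∀ x, δ x = (m x).det := fun _ => rfl
  have D := fun (c u : (X : Subgroup G)) (c1 : c * c = 1) (c2 : δ c = 1) (c3 : c ≠ 1) (u1 : u * u = 1) (u2 : δ u = 1)
      (u3 : u ≠ 1) (hcu : c * u = u * c) (hne : c ≠ u) (x : (X : Subgroup G)) (xc : x * c = c * x) (xu : x * u = u * x) =>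
    dec h2 (m c) (m u) (by rw [← map_mul, c1, map_one]) c2 (fun h => c3 (hm (by rw [h, map_one])))
      (by rw [← map_mul, u1, map_one]) u2 (fun h => u3 (hm (by rw [h, map_one]))) (by rw [← map_mul, hcu, map_mul])
      (fun h => hne (hm h)) (m x) (by rw [← map_mul, xc, map_mul]) (by rw [← map_mul, xu, map_mul])
  let ι : E →* (X : Subgroup G) := inclusion hE
  have hι : Function.Injective ι := inclusion_injective hE
  have hsq : ∀ a : E, a * a = 1 := fun a => Subtype.ext (by have := hEa.2 a a.2; rwa [sq] at this)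
  have hcm : ∀ a b : E, a * b = b * a := fun a b => hEa.1.is_comm.comm a b
  have hpm : ∀ a : E, δ (ι a) = 1 ∨ δ (ι a) = -1 := fun a =>
    mul_self_eq_one_iff.1 (by rw [← map_mul, ← map_mul, hsq, map_one, map_one])
  obtain ⟨c, u, c2, u2, c3, u3, hne⟩ : ∃ c u : E, δ (ι c) = 1 ∧ δ (ι u) = 1 ∧ c ≠ 1 ∧ u ≠ 1 ∧ c ≠ u := by
    haveI := Fintype.ofFinite E
    obtain ⟨s, hs, hcard⟩ := Finset.exists_lt_card_fiber_of_mul_lt_card_of_maps_to (s := (Finset.univ : Finset E))
      (t := ({1, -1} : Finset F)) (f := fun a => δ (ι a)) (n := 2) (fun a _ => by rcases hpm a with h | h <;> simp [h])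
      (by have := Finset.card_le_two (a := (1 : F)) (b := -1)
          rw [Finset.card_univ, ← Nat.card_eq_fintype_card, hE8]; omega)
    obtain ⟨a, b, d, ha, hb, hd, hab, had, hbd⟩ := Finset.two_lt_card_iff.1 hcard
    have ha := (Finset.mem_filter.1 ha).2
    have hb := (Finset.mem_filter.1 hb).2
    have hd := (Finset.mem_filter.1 hd).2
    have hs2 : s * s = 1 := by rw [← ha, ← map_mul, ← map_mul, hsq, map_one, map_one]
    refine ⟨a * b, a * d, by rw [map_mul, map_mul, ha, hb, hs2], by rw [map_mul, map_mul, ha, hd, hs2],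
      fun h => hab (mul_left_cancel (a := a) (by rw [h, hsq])), fun h => had (mul_left_cancel (a := a) (by rw [h, hsq])),
      fun h => hbd (mul_left_cancel h)⟩
  have DE := fun x : E => D (ι c) (ι u) (by rw [← map_mul, hsq, map_one]) c2 (fun h => c3 (hι (by rw [h, map_one])))
    (by rw [← map_mul, hsq, map_one]) u2 (fun h => u3 (hι (by rw [h, map_one]))) (by rw [← map_mul, hcm, map_mul])
    (fun h => hne (hι h)) (ι x) (by rw [← map_mul, hcm, map_mul]) (by rw [← map_mul, hcm, map_mul])
  choose l hl1 hl2 using DE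
  have hli : Function.Injective l := fun a b h => hι (hm (by rw [hl2 a, hl2 b, h]))
  obtain ⟨y, hy⟩ : ∃ y : E, l y = (-1, -1, -1) := by
    haveI := Fintype.ofFinite E
    have hsub : Finset.univ.image l ⊆ ({1, -1} : Finset F) ×ˢ ({1, -1} : Finset F) ×ˢ ({1, -1} : Finset F) := by
      intro v hv
      obtain ⟨a, -, rfl⟩ := Finset.mem_image.1 hv
      obtain ⟨k1, k2, k3⟩ := hl1 a (by rw [← map_mul, ← map_mul, hsq, map_one, map_one])
      simp only [Finset.mem_product, Finset.mem_insert, Finset.mem_singleton]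
      exact ⟨mul_self_eq_one_iff.1 k1, mul_self_eq_one_iff.1 k2, mul_self_eq_one_iff.1 k3⟩
    have := Finset.eq_of_subset_of_card_le hsub (by
      rw [Finset.card_image_of_injective _ hli, Finset.card_univ, ← Nat.card_eq_fintype_card, hE8, Finset.card_product,
        Finset.card_product]
      have := Finset.card_le_two (a := (1 : F)) (b := -1)
      calc _ ≤ 2 * (2 * 2) := Nat.mul_le_mul this (Nat.mul_le_mul this this)
        _ = 8 := rfl)
    have h3 : ((-1, -1, -1) : F × F × F) ∈ Finset.univ.image l := by rw [this]; simp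
    obtain ⟨a, -, ha⟩ := Finset.mem_image.1 h3
    exact ⟨a, ha⟩
  have hl_one : l 1 = (1, 1, 1) ∨ True := Or.inr trivial
  have hy1 : m (ι y) = -1 := by
    obtain ⟨l1, -, k⟩ := D (ι c) (ι u) (by rw [← map_mul, hsq, map_one]) c2 (fun h => c3 (hι (by rw [h, map_one])))
      (by rw [← map_mul, hsq, map_one]) u2 (fun h => u3 (hι (by rw [h, map_one]))) (by rw [← map_mul, hcm, map_mul])
      (fun h => hne (hι h)) 1 (by simp) (by simp)
    have c1 : m (ι c) * m (ι c) = 1 := by rw [← map_mul, ← map_mul, hsq, map_one, map_one]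
    have u1 : m (ι u) * m (ι u) = 1 := by rw [← map_mul, ← map_mul, hsq, map_one, map_one]
    have hcu : m (ι c) * m (ι u) = m (ι u) * m (ι c) := by rw [← map_mul, ← map_mul, hcm, map_mul, map_mul]
    have c3' : m (ι c) ≠ 1 := fun h => c3 (hι (hm (by rw [h, map_one, map_one])))
    have u3' : m (ι u) ≠ 1 := fun h => u3 (hι (hm (by rw [h, map_one, map_one])))
    have w1 : m (ι c) * m (ι u) * (m (ι c) * m (ι u)) = 1 := by
      rw [← map_mul, ← map_mul, ← map_mul, ← map_mul, hsq, map_one, map_one]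
    have w2 : (m (ι c) * m (ι u)).det = 1 := by rw [Matrix.det_mul, ← hδ, ← hδ, c2, u2, mul_one]
    have w3 : m (ι c) * m (ι u) ≠ 1 := fun h => hne (mul_left_cancel (a := c) (by
      rw [hsq]; exact (hι (hm (by rw [map_mul, map_mul, h, map_one, map_one]))).symm))
    have e0 := eig h2 _ _ c1 c2 c3' hcu.symm
    rw [add_mul, one_mul, Matrix.trace_add, (tr_inv _ u1 u2 u3').1, (tr_inv _ w1 w2 w3).1,
      show ((-1 : F) + -1) / 2 = -1 by field_simp; ring, mul_add, mul_one, ← hcu, neg_one_smul] at e0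
    rw [hl2 y, hy]
    simp only
    rw [← smul_add, ← smul_add, show 1 + m (ι c) + (1 + m (ι u)) + (1 + m (ι c) * m (ι u))
      = 1 + 1 + (1 + m (ι c)) + (m (ι u) + m (ι c) * m (ι u)) by abel, e0, add_neg_cancel_right,
      ← two_smul F (1 : Matrix (Fin 3) (Fin 3) F), smul_comm, smul_smul (2 : F)⁻¹, inv_mul_cancel₀ h2, one_smul, neg_one_smul]
  have hδy : δ (ι y) = -1 := by rw [hδ, hy1, Matrix.det_neg, Matrix.det_one]; norm_num
  have hn1 : (-1 : F) ≠ 1 := fun h => h2 (by linear_combination -h)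
  have hyc : ∀ x : (X : Subgroup G), x * ι y = ι y * x := fun x => hm (by rw [map_mul, map_mul, hy1]; simp)
  let T0 : Subgroup (X : Subgroup G) := δ.toHomUnits.ker
  have mT0 : ∀ x, x ∈ T0 ↔ δ x = 1 := fun x => by
    rw [MonoidHom.mem_ker, Units.ext_iff]; rfl
  have hT : (T0.map (X : Subgroup G).subtype).subgroupOf X = T0 := comap_map_eq_self_of_injective (subtype_injective _) _
  haveI hTn : ((T0.map (X : Subgroup G).subtype).subgroupOf X).Normal := hT.symm ▸ inferInstance
  have hcyc : IsCyclic ((X : Subgroup G) ⧸ (T0.map (X : Subgroup G).subtype).subgroupOf X) := by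
    refine isCyclic_of_injective_ringHom (QuotientGroup.lift _ δ (fun x hx => (mT0 x).1 (hT ▸ hx))) ?_
    rw [injective_iff_map_eq_one]
    intro a ha
    obtain ⟨a, rfl⟩ := QuotientGroup.mk_surjective a
    rw [QuotientGroup.eq_one_iff, hT, mT0]
    exact ha
  have hy0 : (y : G) ≠ 1 := fun h => hn1 (by rw [← hδy, show y = 1 from Subtype.ext h, map_one, map_one])
  have hyy : (y : G) * y = 1 := congrArg Subtype.val (hsq y)
  obtain ⟨g, ⟨u', hu', hu'g⟩, -, g3⟩ := S3299.thompson (Transfer.pResidual_two_eq_top_iff.2 hG) X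
    (T0.map (X : Subgroup G).subtype) (map_subtype_le _) hcyc y (orderOf_eq_prime (by rw [sq, hyy]) hy0) (hE y.2)
    (fun ⟨a, ha, e⟩ => hn1 (by rw [← hδy, show ι y = a from Subtype.ext e.symm]; exact (mT0 a).1 ha))
  have hXy : (X : Subgroup G) ⊓ centralizer {(y : G)} = X := inf_eq_left.2 fun x hx =>
    mem_centralizer_singleton_iff.2 (congrArg Subtype.val (hyc ⟨x, hx⟩))
  rw [hXy] at g3
  have hXg : (X : Subgroup G).map (MulAut.conj g).toMonoidHom = X :=
    eq_of_le_of_card_ge (g3.trans inf_le_left) (card_map_of_injective (MulAut.conj g).injective).ge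
  have hin : ∀ x : (X : Subgroup G), g⁻¹ * x * g ∈ (X : Subgroup G) := fun x => by
    obtain ⟨a, ha, e⟩ := hXg.ge x.2
    rw [← e]; change g⁻¹ * (g * a * g⁻¹) * g ∈ _
    rwa [show g⁻¹ * (g * a * g⁻¹) * g = a by group]
  have huc : ∀ x : (X : Subgroup G), x * u' = u' * x := fun x => Subtype.ext (by
    have := mem_centralizer_singleton_iff.1 (g3 (hXg.ge x.2)).2
    rw [← hu'g] at this
    exact this)
  let α : (X : Subgroup G) →* (X : Subgroup G) :=
    { toFun := fun x => ⟨g⁻¹ * x * g, hin x⟩, map_one' := Subtype.ext (by simp),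
      map_mul' := fun a b => Subtype.ext (by simp only [coe_mul]; group) }
  have hαu : α u' = ι y := Subtype.ext (by
    change g⁻¹ * (X : Subgroup G).subtype u' * g = y
    rw [hu'g]; group)
  have huu : u' * u' = 1 := Subtype.ext (by
    change (X : Subgroup G).subtype u' * (X : Subgroup G).subtype u' = 1
    rw [hu'g]
    calc g * y * g⁻¹ * (g * y * g⁻¹) = g * (y * y) * g⁻¹ := by group
      _ = 1 := by rw [hyy]; group)
  by_contra hna
  have hc0 : _root_.commutator (X : Subgroup G) ≠ ⊥ := fun h => hna ⟨⟨fun a b =>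
    commutatorElement_eq_one_iff_mul_comm.1 (mem_bot.1 (h ▸ commutator_mem_commutator (mem_top a) (mem_top b)))⟩⟩
  obtain ⟨z, hz, hzc, hz1, hzz⟩ : ∃ z ∈ _root_.commutator (X : Subgroup G), z ∈ center (X : Subgroup G) ∧ z ≠ 1 ∧ z * z = 1 := by
    have hp2 : ∀ N : Subgroup (X : Subgroup G), N ≠ ⊥ → 2 ∣ Nat.card N := fun N hN => by
      obtain ⟨k, hk⟩ := IsPGroup.iff_card.1 (X.2.to_subgroup N)
      rcases k with _ | k
      · exact absurd (card_eq_one.1 hk) hN
      · rw [hk]; exact dvd_pow_self 2 (by omega)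
    have hone : (1 : _root_.commutator (X : Subgroup G)) ∈
        MulAction.fixedPoints (ConjAct (X : Subgroup G)) (_root_.commutator (X : Subgroup G)) := fun a => smul_one a
    obtain ⟨w, hw, hw1⟩ := (X.2.of_equiv ConjAct.toConjAct).exists_fixed_point_of_prime_dvd_card_of_fixed_point
      (_root_.commutator (X : Subgroup G)) (hp2 _ hc0) hone
    have hwc : w.1 ∈ center (X : Subgroup G) := mem_center_iff.2 fun a => by
      have h : a * w.1 * a⁻¹ = w.1 := congrArg Subtype.val (hw (ConjAct.toConjAct a))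
      rw [← mul_inv_eq_iff_eq_mul, h]
    obtain ⟨z, hz⟩ := exists_prime_orderOf_dvd_card' 2 (hp2 (_root_.commutator (X : Subgroup G) ⊓ center _) fun h => by
      have : w.1 ∈ (⊥ : Subgroup (X : Subgroup G)) := h ▸ ⟨w.2, hwc⟩
      exact hw1 (Subtype.ext (mem_bot.1 this)).symm)
    refine ⟨z, z.2.1, z.2.2, fun h => ?_, ?_⟩
    · rw [show z = 1 from Subtype.ext h, orderOf_one] at hz; omega
    · have := pow_orderOf_eq_one z
      rw [hz, sq] at this
      exact congrArg Subtype.val this
  have hker : ∀ φ : (X : Subgroup G) →* F, φ z = 1 := fun φ => by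
    have := Abelianization.commutator_subset_ker φ.toHomUnits hz
    rw [MonoidHom.mem_ker, Units.ext_iff] at this
    exact this
  have hzu : z ≠ u' := fun h => hn1 (by rw [← hδy, ← hαu, ← h]; exact hker (δ.comp α))
  have hu1 : u' ≠ 1 := fun h => hn1 (by rw [← hδy, ← hαu, h, map_one, map_one])
  refine hna ⟨⟨fun a b => hm ?_⟩⟩
  obtain ⟨k, -, hk⟩ := D z u' hzz (hker δ) hz1 huu ((mT0 _).1 hu') hu1 (huc z) hzu a (mem_center_iff.1 hzc a) (huc a)
  have b1 : Commute (m z) (m b) := by rw [Commute, SemiconjBy, ← map_mul, ← mem_center_iff.1 hzc b, map_mul]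
  have b2 : Commute (m u') (m b) := by rw [Commute, SemiconjBy, ← map_mul, ← huc b, map_mul]
  rw [map_mul, map_mul, hk]
  exact ((((((Commute.one_left _).add_left b1).smul_left _).add_left (((Commute.one_left _).add_left b2).smul_left _)).add_left
    (((Commute.one_left _).add_left (b1.mul_left b2)).smul_left _)).smul_left _).eq

end Cfsg.Agent.S1906
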