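import Cfsg.Statements.S1907
import Cfsg.Agent.Lib.BG.PLen

set_option autoImplicit false
open Cfsg

namespace Cfsg.Agent.S1907

/-- Let P be a Sylow p-subgroup of a finite group G, H = P ∩ O_{p',p}(G), N = N_G(H) and D = O_{p'}(G). (a) If y is an element of p-power order of N and d ∈ D with d⁻¹ y d ∈ N, then d = d₁ d₂ with d₁ ∈ C_D(y) and d₂ ∈ C_D(H). (b) Two elements of P that are conjugate in G are conjugate in N. -/
theorem result {G : Type*} [Group G] [Finite G] {p : ℕ} [Fact p.Prime] (P : Sylow p G) :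
    (∀ y ∈ Subgroup.normalizer (((P : Subgroup G) ⊓ Cfsg.pPrimePCore p G : Subgroup G) : Set G), (∃ k : ℕ, orderOf y = p ^ k) →
      ∀ d ∈ Cfsg.pPrimeCore p G, d⁻¹ * y * d ∈ Subgroup.normalizer (((P : Subgroup G) ⊓ Cfsg.pPrimePCore p G : Subgroup G) : Set G) →
        ∃ d₁ ∈ Cfsg.pPrimeCore p G ⊓ Subgroup.centralizer ({y} : Set G),
          ∃ d₂ ∈ Cfsg.pPrimeCore p G ⊓ Subgroup.centralizer (((P : Subgroup G) ⊓ Cfsg.pPrimePCore p G : Subgroup G) : Set G), d = d₁ * d₂) ∧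
    ∀ x y : G, x ∈ (P : Subgroup G) → y ∈ (P : Subgroup G) → IsConj x y →
      ∃ n ∈ Subgroup.normalizer (((P : Subgroup G) ⊓ Cfsg.pPrimePCore p G : Subgroup G) : Set G), n * x * n⁻¹ = y := by
  open Pointwise commutatorElement Subgroup in
  open Cfsg.Agent.Comp Cfsg.Agent.BG Subgroup commutatorElement in
  set H := (P : Subgroup G) ⊓ pPrimePCore p G with hH
  have hD := Solv.coprime_card_pPrimeCore (G := G) p
  have hN : (pPrimeCore p G).Normal := inferInstance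
  have hE : pPrimeCore p G ⊓ Nm(H) ≤ Ct(H) := by
    rw [← commutator_eq_bot_iff']
    exact eq_bot_of_le_of_coprime (commutator_le_left_of_le_normalizer inf_le_right)
      ((commutator_mono le_rfl inf_le_left).trans (commutator_le_right _ _)) (coprime_card_of_isPGroup P.2.to_inf_left hD)
  have ha : ∀ y ∈ Nm(H), (∃ k : ℕ, orderOf y = p ^ k) → ∀ d ∈ pPrimeCore p G, d⁻¹ * y * d ∈ Nm(H) →
      ∃ d₁ ∈ pPrimeCore p G ⊓ C1(y), ∃ d₂ ∈ pPrimeCore p G ⊓ Ct(H), d = d₁ * d₂ := by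
    rintro y hy ⟨k, hk⟩ d hd h
    have hA := isPGroup_zpowers_of_orderOf hk
    have n1 : zpowers y ≤ Nm(pPrimeCore p G ⊓ Nm(H)) :=
      le_normalizer_inf le_normalizer_of_normal ((zpowers_le.2 hy).trans le_normalizer)
    have h1 := sylIn_sup_left hA (hD.coprime_dvd_left (card_dvd_of_le inf_le_left)) (.inl n1)
    obtain ⟨g, g1, g2⟩ := h1.exists_cj_le (Q := cj(d⁻¹, zpowers y)) (isPGroup_cj_iff.2 hA) (by
      rw [cj_zpowers, zpowers_le, inv_inv, show d⁻¹ * y * d = y * (y⁻¹ * (d⁻¹ * y * d)) by group]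
      refine mul_mem (mem_sup_left (mem_zpowers y)) (mem_sup_right (mem_inf.2 ⟨?_, mul_mem (inv_mem hy) h⟩))
      simpa only [mul_assoc] using mul_mem (hN.conj_mem' _ (inv_mem hd) y) hd)
    obtain ⟨a, a1, e, e1, rfl⟩ := (Comp.mem_sup_of_le_normalizer n1).1 g1
    rw [cj_mul, cj_le_iff, cj_eq_self_of_mem (inv_mem a1), cj_zpowers, cj_zpowers, zpowers_le] at g2
    have h2 := mul_mem hd (inv_mem e1.1)
    refine ⟨d * e⁻¹, ⟨h2, mem_centralizer_singleton_iff.2 ?_⟩, e, ⟨e1.1, hE e1⟩, by group⟩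
    have h3 : y⁻¹ * (e * (d⁻¹ * y * d⁻¹⁻¹) * e⁻¹) ∈ zpowers y ⊓ pPrimeCore p G := mem_inf.2 ⟨mul_mem (inv_mem (mem_zpowers y)) g2, by
      simpa only [mul_assoc, mul_inv_rev, inv_inv] using mul_mem (hN.conj_mem' _ (inv_mem h2) y) h2⟩
    rw [eq_bot_of_coprime (coprime_card_of_isPGroup hA hD), mem_bot] at h3
    calc _ = d * e⁻¹ * y * (y⁻¹ * (e * (d⁻¹ * y * d⁻¹⁻¹) * e⁻¹)) := by rw [h3, mul_one]
      _ = _ := by group
  refine ⟨ha, fun x y hx hy h => ?_⟩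
  obtain ⟨g, rfl⟩ := isConj_iff.1 h
  haveI : (pPrimePCore p G).Normal := by unfold pPrimePCore; infer_instance
  have hS : SylIn p H (Oppp p ⊤) := by rw [Oppp_top]; exact (sylIn_top P).inf_normal le_top le_normalizer_of_normal
  have h1 := hS.frattini le_top (le_normalizer_Oppp_self _)
  rw [← hS.Opp_sup_eq_Oppp, Opp_top, top_inf_eq, sup_assoc, sup_eq_right.2 le_normalizer, sup_comm] at h1
  obtain ⟨n, n1, d, d1, rfl⟩ := (Comp.mem_sup_of_le_normalizer le_normalizer_of_normal).1 (h1.ge (mem_top g))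
  have hP : (P : Subgroup G) ≤ Nm(H) := le_normalizer_inf le_normalizer le_normalizer_of_normal
  obtain ⟨k, hk⟩ := IsPGroup.iff_orderOf.1 P.2 ⟨x, hx⟩
  obtain ⟨a, a1, b, b1, e⟩ := ha x (hP hx) ⟨k, by rw [← hk, Subgroup.orderOf_mk]⟩ d⁻¹ (inv_mem d1) (by
    simpa only [mul_assoc, mul_inv_rev, inv_inv, inv_mul_cancel_left, inv_mul_cancel, mul_one] using
      mul_mem (mul_mem (inv_mem n1) (hP hy)) n1)
  refine ⟨n * b⁻¹, mul_mem n1 (inv_mem (centralizer_le_normalizer _ b1.2)), ?_⟩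
  have h2 := mem_centralizer_singleton_iff.1 a1.2
  rw [inv_eq_iff_eq_inv.1 e]
  calc _ = n * b⁻¹ * a⁻¹ * (a * x) * b * n⁻¹ := by group
    _ = _ := by rw [h2]; group

end Cfsg.Agent.S1907
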