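import Cfsg.Statements.S1910
import Cfsg.Agent.Lib.BG.PLen

set_option autoImplicit false
open Cfsg

namespace Cfsg.Agent.S1910
section
open Pointwise commutatorElement Subgroup
open Cfsg.Agent.Comp Cfsg.Agent.BG Subgroup commutatorElement

section
variable {G : Type*} [Group G] [Finite G] {Q T S : Subgroup G} {g : G}

theorem te (hQ : IsTightlyEmbedded Q) {X : Subgroup G} (hX : IsPGroup 2 X) (h1 : X ≤ Q) (h2 : X ≤ cj(g, Q)) (h : g ∉ Nm(Q)) :
    X = ⊥ := by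
  by_contra h0
  exact Nat.not_even_iff_odd.2 (hQ.2 g h) (even_iff_two_dvd.2 ((dvd_card_of_isPGroup hX h0).trans (card_dvd_of_le (le_inf h1 h2))))

theorem te_cj (hQ : IsTightlyEmbedded Q) (g : G) : IsTightlyEmbedded cj(g, Q) := by
  refine ⟨by rw [card_cj]; exact hQ.1, fun x hx => ?_⟩
  have := hQ.2 (g⁻¹ * x * g) (by rwa [← cj_normalizer, mem_cj] at hx)
  rwa [← card_cj g, cj_inf, ← cj_mul, ← mul_assoc, mul_inv_cancel_left, cj_mul] at this

theorem emb {A R : Subgroup G} (h1 : A ≤ T ⊔ R) (h2 : R ≤ Nm(T)) (h3 : A ⊓ T = ⊥) (h4 : R ⊓ T = ⊥) :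
    ∃ f : A →* R, Function.Injective f := by
  have key : ∀ X (h : X ≤ Nm(T)), X ⊓ T = ⊥ → Function.Injective ((QuotientGroup.mk' (T.subgroupOf Nm(T))).comp (inclusion h)) :=
    fun X h e => (injective_iff_map_eq_one _).2 fun x hx => Subtype.ext (mem_bot.1 (e ▸ mem_inf.2
      ⟨x.2, (QuotientGroup.eq_one_iff (N := T.subgroupOf Nm(T)) (inclusion h x)).1 hx⟩))
  have h5 := h1.trans (sup_le le_normalizer h2)
  refine ⟨(MonoidHom.ofInjective (key R h2 h4)).symm.toMonoidHom.comp (MonoidHom.codRestrict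
    ((QuotientGroup.mk' (T.subgroupOf Nm(T))).comp (inclusion h5)) _ fun x => ?_),
    fun x y h => key A h5 h3 (congrArg Subtype.val ((MonoidHom.ofInjective (key R h2 h4)).symm.injective h) :)⟩
  obtain ⟨t, t1, r, r1, e⟩ := (Comp.mem_sup_of_le_normalizer' h2).1 (h1 x.2)
  refine ⟨⟨r, r1⟩, QuotientGroup.eq.2 ?_⟩
  show r⁻¹ * x ∈ T
  rw [← e, ← mul_assoc]; exact conj_mem_of_mem_normalizer' (h2 r1) t1

theorem aux (hQ : IsTightlyEmbedded Q) (hg : g ∉ Nm(Q)) (h1 : T ≤ cj(g, Q)) (h2 : T ≤ Nm(Q)) (hTS : T ≤ S)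
    (hS : SylIn 2 S (Q ⊔ T)) : T ⊓ Q = ⊥ ∧ T ⊔ (S ⊓ Nm(T) ⊓ Q) = S ⊓ Nm(T) ∧
      ∃ f : T →* (S ⊓ Nm(T) ⊓ Q : Subgroup G), Function.Injective f := by
  have hT := hS.isP.to_le hTS
  have a1 : T ⊓ Q = ⊥ := te hQ hT.to_inf_left inf_le_right (inf_le_left.trans h1) hg
  have a2 : T ⊔ (S ⊓ Nm(T) ⊓ Q) = S ⊓ Nm(T) := by
    rw [inf_comm _ Q, ← sup_inf_of_le_normalizer h2 (le_inf hTS le_normalizer), inf_eq_right, sup_comm]
    exact inf_le_left.trans hS.le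
  refine ⟨a1, a2, ?_⟩
  rcases (inf_le_left : S ⊓ Nm(T) ≤ S).eq_or_lt with h | h
  · rw [h]
    obtain ⟨k, -, hk⟩ := (hS.inf_normal le_sup_left (hS.le.trans (sup_le le_normalizer h2))).exists_cj_le
      (isPGroup_cj_iff.2 hT) (cj_le_iff.2 (by rwa [inv_inv] : T ≤ cj(g⁻¹⁻¹, Q)))
    rw [← cj_mul] at hk
    exact ⟨(inclusion hk).comp (cjEquiv _ T).toMonoidHom, (inclusion_injective hk).comp (MulEquiv.injective _)⟩
  · obtain ⟨x, x1, x2⟩ := SetLike.exists_of_lt (lt_inf_normalizer_of_isPGroup hS.isP h)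
    have x3 : cj(x, T) ≤ T ⊔ (S ⊓ Nm(T) ⊓ Q) := (cj_le_of_mem (le_inf hTS le_normalizer) x1.2).trans a2.ge
    have x5 : x ∉ Nm(cj(g, Q)) := fun x4 => x2 ⟨x1.1, cj_eq_self_iff.1 (eq_of_le_of_card_ge (by
      refine (le_inf x3 (cj_le_of_mem h1 x4)).trans ?_
      rw [sup_inf_of_le_normalizer' (inf_le_left.trans inf_le_right) h1, te hQ (X := S ⊓ Nm(T) ⊓ Q ⊓ cj(g, Q))
        hS.isP.to_inf_left.to_inf_left.to_inf_left (inf_le_left.trans inf_le_right) inf_le_right hg, sup_bot_eq])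
      (card_cj _ _).ge)⟩
    obtain ⟨f, hf⟩ := emb x3 (inf_le_left.trans inf_le_right) (te (te_cj hQ g) (g := x) hT.to_inf_right (inf_le_right.trans h1)
      (inf_le_left.trans (cj_mono _ h1)) x5)
      (le_bot_iff.1 (a1 ▸ le_inf inf_le_right (inf_le_left.trans inf_le_right)))
    exact ⟨f.comp (cjEquiv _ T).toMonoidHom, hf.comp (MulEquiv.injective _)⟩
end
end

/-- Let Q be a tightly embedded subgroup of a finite group G, g an element outside N_G(Q), T a nontrivial Sylow 2-subgroup of Q^g ∩ N_G(Q), and S a Sylow 2-subgroup of QT containing T. Then T ∩ Q = 1, and N_S(T) is the direct product of T and N_S(T) ∩ Q, with N_S(T) ∩ Q isomorphic to T. -/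
theorem result {G : Type*} [Group G] [Finite G] (Q : Subgroup G) (hQ : Cfsg.IsTightlyEmbedded Q)
    (g : G) (hg : g ∉ Subgroup.normalizer (Q : Set G))
    (T : Subgroup G) (hT1 : T ≠ ⊥) (hT : T ≤ Q.map (MulAut.conj g).toMonoidHom ⊓ Subgroup.normalizer (Q : Set G))
    (hTsyl : IsPGroup 2 T ∧ ¬ 2 ∣ T.relIndex (Q.map (MulAut.conj g).toMonoidHom ⊓ Subgroup.normalizer (Q : Set G)))
    (S : Subgroup G) (hTS : T ≤ S) (hS : S ≤ Q ⊔ T) (hSsyl : IsPGroup 2 S ∧ ¬ 2 ∣ S.relIndex (Q ⊔ T)) :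
    T ⊓ Q = ⊥ ∧
      T ⊓ (S ⊓ Subgroup.normalizer (T : Set G) ⊓ Q) = ⊥ ∧
      ⁅T, S ⊓ Subgroup.normalizer (T : Set G) ⊓ Q⁆ = ⊥ ∧
      T ⊔ (S ⊓ Subgroup.normalizer (T : Set G) ⊓ Q) = S ⊓ Subgroup.normalizer (T : Set G) ∧
      Nonempty (↥(S ⊓ Subgroup.normalizer (T : Set G) ⊓ Q) ≃* T) := by
  open Pointwise commutatorElement Subgroup in
  open Cfsg.Agent.Comp Cfsg.Agent.BG Subgroup commutatorElement in
  have s1 := sylIn_of_not_dvd hT hTsyl.1 hTsyl.2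
  obtain ⟨a1, a2, f, hf⟩ := aux hQ hg (hT.trans inf_le_left) (hT.trans inf_le_right) hTS (sylIn_of_not_dvd hS hSsyl.1 hSsyl.2)
  have a3 : ⁅T, S ⊓ Nm(T) ⊓ Q⁆ = ⊥ := le_bot_iff.1 (a1 ▸ le_inf (commutator_le_left_of_le_normalizer
    (inf_le_left.trans inf_le_right)) ((commutator_mono le_rfl inf_le_right).trans
      (commutator_le_right_of_le_normalizer (hT.trans inf_le_right))))
  refine ⟨a1, le_bot_iff.1 (a1 ▸ inf_le_inf_left _ inf_le_right), a3, a2, ⟨(MulEquiv.ofBijective f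
    ((Nat.bijective_iff_injective_and_card f).2 ⟨hf, le_antisymm (Nat.card_le_card_of_injective f hf) ?_⟩)).symm⟩⟩
  have b9 := Nat.card_le_card_of_injective f hf
  clear hf f
  set R := S ⊓ Nm(T) ⊓ Q
  have hR : IsPGroup 2 R := hSsyl.1.to_inf_left.to_inf_left
  have b0 : ∀ (X Y : Subgroup G), IsTightlyEmbedded Y → IsPGroup 2 X → X ≠ ⊥ → X ≤ Y → Ct(X) ≤ Nm(Y) := fun X Y h1 h2 h3 h4 x hx => by
    by_contra h
    exact h3 (te h1 h2 h4 (by rw [← cj_eq_self_iff.2 (centralizer_le_normalizer _ hx)]; exact cj_mono _ h4) h)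
  have b1 : R ≤ Nm(cj(g, Q)) := (commutator_eq_bot_iff'.1 a3).trans (b0 _ _ (te_cj hQ g) hTsyl.1 hT1 (hT.trans inf_le_left))
  obtain ⟨S', s2, s3⟩ := exists_sylIn_ge hR (le_sup_right : R ≤ cj(g, Q) ⊔ R)
  obtain ⟨c1, -, f', hf'⟩ := aux (te_cj hQ g) (g := g⁻¹) (fun h => hg (by
    rw [← cj_normalizer, mem_cj, inv_mul_cancel_right] at h; exact inv_mem_iff.1 h)) (by rw [cj_inv_cj]; exact inf_le_right) b1 s2 s3
  refine (Nat.card_le_card_of_injective f' hf').trans (s1.card_le s3.isP.to_inf_left.to_inf_left (le_inf inf_le_right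
    (le_trans ?_ (b0 R Q hQ hR (fun e => hT1 ?_) inf_le_right))))
  · rw [← commutator_eq_bot_iff', ← le_bot_iff, ← c1]
    exact le_inf (commutator_le_left_of_le_normalizer (inf_le_left.trans inf_le_right))
      ((commutator_mono le_rfl inf_le_right).trans (commutator_le_right_of_le_normalizer b1))
  · rw [e, card_bot] at b9
    exact (card_le_one_iff_eq_bot _).1 b9

end Cfsg.Agent.S1910
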