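import Cfsg.Statements.S1921
import Cfsg.Agent.Lib.BG.PLen

set_option autoImplicit false
open Cfsg

namespace Cfsg.Agent.S1921

/-- Let a be an involution of a finite group H and L a component of H with a L a⁻¹ ≠ L; put M = ⟨L, aLa⁻¹⟩ and let J be the subgroup generated by the elements x · a x a⁻¹ with x ∈ L (the diagonal). Then every element of M outside J·Z(M) generates M together with J. -/
theorem result {H : Type*} [Group H] [Finite H] (a : H) (ha : orderOf a = 2) (L : Subgroup H) (hL : Cfsg.IsComponent L)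
    (hLa : L.map (MulAut.conj a).toMonoidHom ≠ L) (x : H) (hxM : x ∈ L ⊔ L.map (MulAut.conj a).toMonoidHom)
    (hxJ : x ∉ Subgroup.closure {y : H | ∃ l ∈ L, y = l * (a * l * a⁻¹)} ⊔
      ((L ⊔ L.map (MulAut.conj a).toMonoidHom) ⊓ Subgroup.centralizer ((L ⊔ L.map (MulAut.conj a).toMonoidHom : Subgroup H) : Set H))) :
    Subgroup.closure {y : H | ∃ l ∈ L, y = l * (a * l * a⁻¹)} ⊔ Subgroup.zpowers x = L ⊔ L.map (MulAut.conj a).toMonoidHom := by
  open Pointwise commutatorElement Subgroup in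
  open Cfsg.Agent.Comp Cfsg.Agent.BG Subgroup commutatorElement in
  have hc := compIn_top_iff.2 hL
  have h1 : cj(a, L) ≤ Ct(L) := (hc.cj_of_mem (g := a) (le_normalizer (mem_top a))).le_centralizer_of_ne hc hLa
  set J := closure {y : H | ∃ l ∈ L, y = l * (a * l * a⁻¹)}
  have hJ : ∀ l ∈ L, l * (a * l * a⁻¹) ∈ J := fun l hl => subset_closure ⟨l, hl, rfl⟩
  obtain ⟨u, u1, v, v1, rfl⟩ := (Comp.mem_sup_of_le_normalizer' (h1.trans (centralizer_le_normalizer _))).1 hxM
  obtain ⟨w, w1, rfl⟩ := v1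
  change u * (a * w * a⁻¹) ∉ _ at hxJ
  change J ⊔ zpowers (u * (a * w * a⁻¹)) = _
  have e : u * (a * w * a⁻¹) = u * w⁻¹ * (w * (a * w * a⁻¹)) := by group
  have h2 := mul_mem u1 (inv_mem w1)
  have h3 : L ≤ J ⊔ zpowers (u * (a * w * a⁻¹)) := by
    refine inf_eq_left.1 ((hc.qs.normal _ inf_le_left fun l hl => mem_normalizer_of_conj_mem fun k hk => ?_).resolve_right
      fun h => hxJ ?_)
    · refine mem_inf.2 ⟨mul_mem (mul_mem hl hk.1) (inv_mem hl), ?_⟩
      have := mul_mem (mul_mem (mem_sup_left (hJ l hl)) hk.2) (inv_mem (mem_sup_left (hJ l hl)))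
      rwa [mul_assoc l, ← h1 (conj_mem_cj.2 hl) k hk.1, ← mul_assoc l k, mul_inv_rev, mul_assoc (l * k),
        mul_inv_cancel_left] at this
    · rw [e]
      refine mul_mem (mem_sup_right (mem_inf.2 ⟨mem_sup_left h2, ?_⟩)) (mem_sup_left (hJ w w1))
      rw [centralizer_sup]
      refine mem_inf.2 ⟨h (mem_inf.2 ⟨h2, ?_⟩), le_Ct_comm.1 h1 h2⟩
      exact (mul_mem_cancel_right (mem_sup_left (hJ w w1))).1 (e ▸ mem_sup_right (mem_zpowers _))
  refine le_antisymm (sup_le ((closure_le _).2 ?_) (zpowers_le.2 hxM)) (sup_le h3 ?_)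
  · rintro _ ⟨l, hl, rfl⟩; exact mul_mem (mem_sup_left hl) (mem_sup_right (conj_mem_cj.2 hl))
  · exact cj_le_iff'.2 fun l hl => (mul_mem_cancel_left (h3 hl)).1 (mem_sup_left (hJ l hl))

end Cfsg.Agent.S1921
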