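import Cfsg.Statements.S1922
import Cfsg.Agent.Lib.Transfer.Invol
import Cfsg.Agent.Lib.Solv.Basic
import Cfsg.Agent.Lib.Char.Orth
import Cfsg.Agent.Lib.Transfer.Rank

set_option autoImplicit false
open Cfsg

namespace Cfsg.Agent.S1922

open Subgroup Cfsg.Agent.Transfer Cfsg.Agent.Solv

theorem even_dih {G : Type*} [Group G] [Finite G] {a b : G} (ha : a * a = 1) (hb : b * b = 1)
    (he : ¬ Odd (orderOf (a * b))) :
    ∃ u : G, u ≠ 1 ∧ u ∈ zpowers (a * b) ∧ Commute u a ∧ Commute u b ∧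
      (IsConj a (u * a) ∨ IsConj b (u * a)) := by
  obtain ⟨k, hk⟩ := Nat.not_odd_iff_even.1 he
  have h0 := orderOf_pos (a * b)
  have h1 : (a * b) ^ k * (a * b) ^ k = 1 := by rw [← pow_add, ← hk, pow_orderOf_eq_one]
  have h2 : a * (a * b) * a⁻¹ = (a * b)⁻¹ := by
    rw [← mul_assoc, ha, one_mul, mul_inv_rev, inv_eq_of_mul_eq_one_right hb]
  have h3 : Commute ((a * b) ^ k) a := by
    have := congrArg (· ^ k) h2
    simp only [conj_pow, inv_pow] at this
    rw [inv_eq_of_mul_eq_one_right h1, mul_inv_eq_iff_eq_mul] at this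
    exact this.symm
  refine ⟨(a * b) ^ k, pow_ne_one_of_lt_orderOf (by omega) (by omega), pow_mem (mem_zpowers _) _, h3, ?_, ?_⟩
  · have : b = a * (a * b) := by rw [← mul_assoc, ha, one_mul]
    conv_rhs => rw [this]
    exact h3.mul_right (Commute.self_pow _ _).symm
  · rcases conj_or_conj_of_zpow_mul ha hb k with ⟨c, -, h⟩ | ⟨c, -, h⟩
    · exact Or.inl (isConj_iff.2 ⟨c, by simpa using h⟩)
    · exact Or.inr (isConj_iff.2 ⟨c, by simpa using h⟩)

theorem parity {G : Type*} [Group G] [Finite G] (X : Set G) {r : G} (hr : r * r = 1)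
    (hX : ∀ x ∈ X, r * x * r⁻¹ ∈ X) :
    Nat.card X ≡ Nat.card {x // x ∈ X ∧ r * x * r⁻¹ = x} [MOD 2] := by
  classical
  have := Fintype.ofFinite X
  let f : Function.End X := fun x => ⟨_, hX x.1 x.2⟩
  have h1 : f ^ 2 ^ 1 = 1 := by
    funext x
    apply Subtype.ext
    show r * (r * x * r⁻¹) * r⁻¹ = x
    rw [show r * (r * x * r⁻¹) * r⁻¹ = (r * r) * x * (r * r)⁻¹ by group, hr]; simp
  have h2 := Equiv.Perm.card_fixedPoints_modEq h1
  rw [← Nat.card_eq_fintype_card, ← Nat.card_eq_fintype_card] at h2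
  rwa [show Nat.card {x // x ∈ X ∧ r * x * r⁻¹ = x} = Nat.card (Function.fixedPoints f) from
    Nat.card_congr
      { toFun := fun x => ⟨⟨x.1, x.2.1⟩, Subtype.ext x.2.2⟩
        invFun := fun x => ⟨x.1.1, x.1.2, congrArg Subtype.val x.2⟩
        left_inv := fun _ => rfl
        right_inv := fun _ => rfl }]

/-- Let z be an involution of a finite group G and H a proper subgroup such that z lies in gHg⁻¹ exactly when g ∈ H. Then the following are equivalent: (1) for every conjugate t ≠ z of z commuting with z, the product zt lies in gHg⁻¹ exactly when g ∈ H; (2) z lies in the centre of some Sylow 2-subgroup of G, and for every conjugate t ≠ z of z commuting with z, the centralizer of zt is contained in H. -/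
theorem result {G : Type*} [Group G] [Finite G] (z : G) (hz : orderOf z = 2) (H : Subgroup G) (hH : H ≠ ⊤)
    (h0 : ∀ g : G, z ∈ H.map (MulAut.conj g).toMonoidHom ↔ g ∈ H) :
    (∀ t : G, IsConj z t → t ≠ z → t * z = z * t → ∀ g : G, z * t ∈ H.map (MulAut.conj g).toMonoidHom ↔ g ∈ H) ↔
      ((∃ P : Sylow 2 G, z ∈ (Subgroup.center ↥(P : Subgroup G)).map (P : Subgroup G).subtype) ∧
        ∀ t : G, IsConj z t → t ≠ z → t * z = z * t → Subgroup.centralizer ({z * t} : Set G) ≤ H) := by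
  simp only [mem_map_conj] at h0 ⊢
  have hzz : z * z = 1 := by rw [← sq, ← hz, pow_orderOf_eq_one]
  have hzH : z ∈ H := by simpa using (h0 1).2 H.one_mem
  have hC : ∀ c : G, Commute c z → c ∈ H := fun c hc => (h0 c).1 (by
    rw [mul_assoc, ← hc.eq, inv_mul_cancel_left]; exact hzH)
  have hD2 : ∀ d, IsConj z d → orderOf d = 2 := fun d hd => by
    obtain ⟨c, rfl⟩ := isConj_iff.1 hd
    rw [Transfer.orderOf_conj, hz]
  have hDD : ∀ d, IsConj z d → d * d = 1 := fun d hd => by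
    rw [← sq, ← hD2 d hd, pow_orderOf_eq_one]
  constructor
  swap
  · rintro ⟨⟨P, hP⟩, h2⟩ t ht htz hc g
    obtain ⟨hzP, hP⟩ := mem_map_center.1 hP
    have htH : t ∈ H := hC t hc
    refine ⟨fun hg => ?_, fun hg => H.mul_mem (H.mul_mem (H.inv_mem hg) (H.mul_mem hzH htH)) hg⟩
    have hPH : (P : Subgroup G) ≤ H := fun x hx => hC x (hP x hx)
    have hw : (g⁻¹ * (z * t) * g) ^ 2 ^ 1 = 1 := by
      rw [pow_one, sq, show g⁻¹ * (z * t) * g * (g⁻¹ * (z * t) * g) = g⁻¹ * (z * (t * z) * t) * g by group,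
        hc, show z * (z * t) * t = (z * z) * (t * t) by group, hzz, hDD t ht]
      simp
    obtain ⟨h, hh, h3⟩ := ((isSyl_top P).mono hPH le_top).exists_cj_le (isPGroup_zpowers hw)
      (zpowers_le.2 hg)
    have h4 := hP _ (h3 (conj_mem_cj (mem_zpowers _)))
    have h5 : (g * h⁻¹) * z * (g * h⁻¹)⁻¹ ∈ H := by
      apply h2 t ht htz hc
      rw [mem_centralizer_singleton_iff]
      calc _ = g * h⁻¹ * (z * (h * (g⁻¹ * (z * t) * g) * h⁻¹)) * (g * h⁻¹)⁻¹ := by group
        _ = _ := by rw [← h4]; group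
    have h6 := (h0 (g * h⁻¹)⁻¹).1 (by rwa [inv_inv])
    have h7 := H.mul_mem (H.inv_mem h6) hh
    simpa using h7
  intro h1
  refine ⟨?_, fun t ht htz hc c hcc => ?_⟩
  swap
  · rw [mem_centralizer_singleton_iff] at hcc
    refine (h1 t ht htz hc c).1 ?_
    rw [mul_assoc, ← hcc, inv_mul_cancel_left]
    exact H.mul_mem hzH (hC t hc)
  -- Lemma A
  have hA : ∀ d, IsConj z d → d ∉ H → Odd (orderOf (z * d)) := by
    intro d hd hdH
    by_contra he
    obtain ⟨u, hu1, -, hua, hub, hu⟩ := even_dih hzz (hDD d hd) he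
    have h2 : IsConj z (u * z) := hu.elim id hd.trans
    obtain ⟨g, rfl⟩ := isConj_iff.1 hd
    have h3 := (h1 (u * z) h2 (by simpa using hu1) (hua.mul_left (Commute.refl z)).eq g).1 (by
      rw [hua.eq, ← mul_assoc z z, hzz, one_mul]
      apply hC
      show _ = _
      calc _ = g⁻¹ * (u * (g * z * g⁻¹)) * g := by group
        _ = _ := by rw [hub.eq]; group)
    exact hdH (H.mul_mem (H.mul_mem h3 hzH) (H.inv_mem h3))
  have hB : ∀ d d', IsConj z d → IsConj z d' → d ∉ H → d * d' ∈ H → Odd (orderOf (d * d')) := by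
    intro d d' hd hd' hdH hdd
    by_contra he
    obtain ⟨u, hu1, hu0, hua, hub, hu⟩ := even_dih (hDD d hd) (hDD d' hd') he
    have h2 : IsConj z (u * d) := hu.elim hd.trans hd'.trans
    have huH : u ∈ H := zpowers_le.2 hdd hu0
    obtain ⟨g, rfl⟩ := isConj_iff.1 hd
    have h4 : Commute (g⁻¹ * u * g) z := by
      show _ = _
      calc _ = g⁻¹ * (u * (g * z * g⁻¹)) * g := by group
        _ = _ := by rw [hua.eq]; group
    have h3 := (h1 (g⁻¹ * u * g * z) (h2.trans (isConj_iff.2 ⟨g⁻¹, by group⟩))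
      (fun e => hu1 (by
        have : g⁻¹ * u * g = 1 := by simpa using e
        calc u = g * (g⁻¹ * u * g) * g⁻¹ := by group
          _ = 1 := by rw [this]; group))
      (h4.mul_left (Commute.refl z)).eq g⁻¹).1 (by
      rw [h4.eq, ← mul_assoc z z, hzz, one_mul, show g⁻¹⁻¹ * (g⁻¹ * u * g) * g⁻¹ = u by group]
      exact huH)
    have h5 : g ∈ H := by simpa using H.inv_mem h3
    exact hdH (H.mul_mem (H.mul_mem h5 hzH) h3)
  obtain ⟨r, hr, hrH⟩ : ∃ r, IsConj z r ∧ r ∉ H := by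
    by_contra hc
    push Not at hc
    exact hH (eq_top_iff.2 fun g _ => (h0 g).1 (hc _ (isConj_iff.2 ⟨g⁻¹, by group⟩)))
  have hrr := hDD r hr
  have hri : r⁻¹ = r := inv_eq_of_mul_eq_one_right hrr
  have e1 := parity {d | IsConj z d} hzz fun x hx => hx.trans (isConj_iff.2 ⟨z, rfl⟩)
  have e2 := parity {d | IsConj z d ∧ d ∈ H} hzz fun x hx =>
    ⟨hx.1.trans (isConj_iff.2 ⟨z, rfl⟩), H.mul_mem (H.mul_mem hzH hx.2) (H.inv_mem hzH)⟩
  have e3 := parity {d | IsConj z d ∧ r * d ∈ H} hrr fun x hx =>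
    ⟨hx.1.trans (isConj_iff.2 ⟨r, rfl⟩), by
      have := H.inv_mem hx.2
      rwa [mul_inv_rev, inv_eq_of_mul_eq_one_right (hDD x hx.1), ← one_mul (x * r⁻¹), ← hrr,
        show r * r * (x * r⁻¹) = r * (r * x * r⁻¹) by group] at this⟩
  have e4 : Nat.card {x // x ∈ {d | IsConj z d ∧ r * d ∈ H} ∧ r * x * r⁻¹ = x} = 1 := by
    rw [Nat.card_eq_one_iff_exists]
    refine ⟨⟨r, ⟨hr, by rw [hrr]; exact H.one_mem⟩, by group⟩, fun x => Subtype.ext ?_⟩
    obtain ⟨x, ⟨hx1, hx2⟩, hx3⟩ := x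
    have h2 := eq_one_of_odd_of_mul_self (hB r x hr hx1 hrH hx2) (by
      rw [hri] at hx3
      rw [← mul_assoc, hx3, hDD x hx1])
    show x = r
    rw [← hri]; exact (inv_eq_of_mul_eq_one_right h2).symm
  have e5 : Nat.card {x // x ∈ {d | IsConj z d} ∧ z * x * z⁻¹ = x} =
      Nat.card {x // x ∈ {d | IsConj z d ∧ d ∈ H} ∧ z * x * z⁻¹ = x} :=
    Nat.card_congr (Equiv.subtypeEquivRight fun x =>
      ⟨fun h => ⟨⟨h.1, hC x (mul_inv_eq_iff_eq_mul.1 h.2).symm⟩, h.2⟩, fun h => ⟨h.1.1, h.2⟩⟩)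
  have e6 : Nat.card {d | IsConj z d ∧ r * d ∈ H} = Nat.card {d | IsConj z d ∧ d ∈ H} := by
    refine Nat.card_congr (Equiv.ofBijective (fun x => ⟨(r * x.1) * z * (r * x.1)⁻¹,
      isConj_iff.2 ⟨_, rfl⟩, H.mul_mem (H.mul_mem x.2.2 hzH) (H.inv_mem x.2.2)⟩) ⟨?_, ?_⟩)
    · rintro ⟨x, hx1, hx2⟩ ⟨y, hy1, hy2⟩ hxy
      have h2 : (r * x) * z * (r * x)⁻¹ = (r * y) * z * (r * y)⁻¹ := congrArg Subtype.val hxy
      have hxi : x⁻¹ = x := inv_eq_of_mul_eq_one_right (hDD x hx1)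
      have hyi : y⁻¹ = y := inv_eq_of_mul_eq_one_right (hDD y hy1)
      have hxH : x ∉ H := fun h => hrH (by simpa using H.mul_mem hx2 (H.inv_mem h))
      have h3 : x * y ∈ H := by
        have := H.mul_mem (H.inv_mem hx2) hy2
        rwa [show (r * x)⁻¹ * (r * y) = x⁻¹ * y by group, hxi] at this
      have h4 : Commute z (x * y) := by
        show _ = _
        calc z * (x * y) = z * (x⁻¹ * y) := by rw [hxi]
          _ = (r * x)⁻¹ * ((r * x) * z * (r * x)⁻¹) * (r * y) := by group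
          _ = x⁻¹ * y * z := by rw [h2]; group
          _ = _ := by rw [hxi]
      have h5 := mul_self_eq_one_of_commute_of_inverts hzz (hDD x hx1) (hA x hx1 hxH) h4 (by
        rw [← mul_assoc, hDD x hx1, one_mul, mul_inv_rev, hyi])
      have h6 := eq_one_of_odd_of_mul_self (hB x y hx1 hy1 hxH h3) h5
      apply Subtype.ext
      show x = y
      rw [← hxi]; exact inv_eq_of_mul_eq_one_right h6
    · rintro ⟨y, hy1, hy2⟩
      have h2 : IsConj z (r * y * r⁻¹) := hy1.trans (isConj_iff.2 ⟨r, rfl⟩)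
      have h3 : r * y * r⁻¹ ∉ H := by
        intro h
        obtain ⟨g, rfl⟩ := isConj_iff.1 hy1
        have h4 := (h0 g⁻¹).1 (by rwa [inv_inv])
        have h5 := (h0 (r * g)⁻¹).1 (by rwa [inv_inv, show r * g * z * (r * g)⁻¹ = r * (g * z * g⁻¹) * r⁻¹ by group])
        exact hrH (by simpa using H.mul_mem (H.inv_mem h5) h4)
      obtain ⟨v, -, hv2, hv3, c, -, hv4⟩ := exists_invol_conj_of_odd hz (hD2 _ h2) (hA _ h2 h3)
      have h4 : (r * v) * z * (r * v)⁻¹ = y := by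
        rw [show (r * v) * z * (r * v)⁻¹ = r * (v * z * v⁻¹) * r⁻¹ by group, hv3,
          show r * (r * y * r⁻¹) * r⁻¹ = (r * r) * y * (r * r)⁻¹ by group, hrr]
        simp
      refine ⟨⟨v, isConj_iff.2 ⟨c, hv4⟩, ?_⟩, Subtype.ext h4⟩
      have h5 := (h0 (r * v)⁻¹).1 (by rwa [inv_inv, h4])
      simpa using H.inv_mem h5
  have e7 : (centralizer ({z} : Set G)).index ≡ 1 [MOD 2] := by
    rw [← Char.card_isConj_eq_index, ← e4]
    exact (e1.trans (e5 ▸ e2.symm)).trans (e6 ▸ e3)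
  obtain ⟨Q, hQ⟩ := exists_isSyl 2 (centralizer ({z} : Set G))
  obtain ⟨P, hP⟩ := (hQ.trans le_top (by
    rw [relIndex_top_right]; unfold Nat.ModEq at e7; omega)).exists_sylow
  refine ⟨P, mem_map_center.2 ⟨?_, fun y hy => ?_⟩⟩
  · rw [hP]
    refine hQ.le_of_le_normalizer (isPGroup_zpowers (k := 1) (by rw [pow_one, sq, hzz]))
      (zpowers_le.2 (mem_centralizer_singleton_iff.2 rfl)) ?_ (mem_zpowers z)
    refine zpowers_le.2 (centralizer_le_normalizer _ fun y hy => ?_)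
    exact mem_centralizer_singleton_iff.1 (hQ.le hy)
  · rw [hP] at hy
    exact mem_centralizer_singleton_iff.1 (hQ.le hy)

end Cfsg.Agent.S1922
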