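import Cfsg.Statements.S1924
import Cfsg.Agent.Lib.BG.Pbc

set_option autoImplicit false
open Cfsg

namespace Cfsg.Agent.S1924
section
open Pointwise commutatorElement Subgroup
open Subgroup in
theorem sgn {K : Type*} [Group K] [Finite K] (T : Subgroup K) (c : K) (he : Even (orderOf c))
    (hfree : ∀ (k : ℕ) (g : K), g * c ^ k * g⁻¹ ∈ T → orderOf c ∣ k) {m : ℕ} (hm : Odd m)
    (hidx : T.index = orderOf c * m) : ∃ H : Subgroup K, H.index = 2 := by
  classical
  haveI := Fintype.ofFinite (K ⧸ T)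
  have hpos := orderOf_pos c
  let φ := MulAction.toPermHom K (K ⧸ T)
  have h1 : ∀ (k : ℕ) (x : K ⧸ T), (φ c ^ k) x = x → orderOf c ∣ k := by
    intro k x h
    obtain ⟨g, rfl⟩ := QuotientGroup.mk_surjective x
    rw [← map_pow] at h
    have h2 : ((c ^ k * g : K) : K ⧸ T) = g := h
    have h3 := QuotientGroup.eq.1 h2.symm
    exact hfree k g⁻¹ (by simpa [mul_assoc] using h3)
  have h2 : (φ c).cycleType = Multiset.replicate (φ c).cycleType.card (orderOf c) := by
    rw [Multiset.eq_replicate]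
    refine ⟨rfl, fun d hd => Nat.dvd_antisymm ((Equiv.Perm.dvd_of_mem_cycleType hd).trans (orderOf_map_dvd φ c)) ?_⟩
    obtain ⟨c', τ, h3, h4, h5, rfl⟩ := Equiv.Perm.mem_cycleType_iff.1 hd
    obtain ⟨x, hx, -⟩ := id h5
    refine h1 _ x ?_
    rw [h3, h4.commute.mul_pow, ← h5.orderOf, pow_orderOf_eq_one, one_mul]
    exact Equiv.Perm.pow_apply_eq_self_of_apply_eq_self ((h4 x).resolve_left hx) _
  have h3 : Fintype.card (Function.fixedPoints (φ c)) = 0 := by
    rw [Fintype.card_eq_zero_iff]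
    refine ⟨fun x => ?_⟩
    have := h1 1 x.1 (by rw [pow_one]; exact x.2)
    rw [Nat.dvd_one] at this
    rw [this] at he
    exact absurd he (by decide)
  have h4 := Equiv.Perm.sign_of_cycleType_eq_replicate hpos h2
  rw [if_neg (Nat.not_odd_iff_even.2 he), h3, Nat.sub_zero, ← Nat.card_eq_fintype_card, ← index_eq_card, hidx,
    Nat.mul_div_cancel_left _ hpos, hm.neg_one_pow] at h4
  exact ⟨_, Transfer.index_ker_eq_two (φ := Equiv.Perm.sign.comp φ) h4⟩

open Subgroup in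
theorem cle {G : Type*} [Group G] [Finite G] {T D S : Subgroup G} (h : D ⊓ T = ⊥) (h1 : T ≤ S) (h2 : D ≤ S) :
    Nat.card T * Nat.card D ≤ Nat.card S ∧
      (Nat.card T * Nat.card D = Nat.card S ↔ ∀ s ∈ S, ∃ t ∈ T, ∃ d ∈ D, s = t * d) := by
  let f : T × D → S := fun x => ⟨x.1 * x.2, S.mul_mem (h1 x.1.2) (h2 x.2.2)⟩
  have hf : Function.Injective f := fun x y hxy =>
    mul_injective_of_disjoint (disjoint_iff.2 (by rw [inf_comm, h])) (congrArg Subtype.val hxy)
  rw [← Nat.card_prod]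
  refine ⟨Nat.card_le_card_of_injective f hf, fun hc s hs => ?_, fun hs => ?_⟩
  · obtain ⟨x, hx⟩ := ((Nat.bijective_iff_injective_and_card f).2 ⟨hf, hc⟩).2 ⟨s, hs⟩
    exact ⟨x.1, x.1.2, x.2, x.2.2, (congrArg Subtype.val hx).symm⟩
  · refine Nat.card_eq_of_bijective f ⟨hf, fun s => ?_⟩
    obtain ⟨t, ht, d, hd, e⟩ := hs s s.2
    exact ⟨(⟨t, ht⟩, ⟨d, hd⟩), Subtype.ext e.symm⟩
end

/-- A consequence of Thompson's transfer lemma. Let G be a finite group, L a subgroup with O²(L) = L, T a Sylow 2-subgroup of L and S a Sylow 2-subgroup of G containing T. Suppose D ≤ S is a dihedral subgroup of order at least 4 (the four-group counts) with D ∩ T = 1 and S = TD as a set of products (so |S| = |T|·|D|), and C ≤ D is cyclic of index 2 in D. If no involution of D outside C is G-conjugate to an involution of the subgroup generated by T and C, and the involution of C is not G-conjugate to any involution of T, then G has a normal subgroup K, containing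 every Sylow 2-subgroup of L as a Sylow 2-subgroup, with G = KD. -/
theorem result {G : Type*} [Group G] [Finite G] (L T S D C : Subgroup G) (hL : Cfsg.pResidual 2 ↥L = ⊤)
    (hTL : T ≤ L) (hT2 : IsPGroup 2 T) (hTsyl : ¬ 2 ∣ T.relIndex L)
    (hS2 : IsPGroup 2 S) (hSsyl : ¬ 2 ∣ S.index) (hTS : T ≤ S)
    (hDS : D ≤ S) (hDih : ∃ n : ℕ, 2 ≤ n ∧ Nonempty (↥D ≃* DihedralGroup n)) (hDT : D ⊓ T = ⊥) (hTD : T ⊔ D = S) (hTDc : Nat.card T * Nat.card D = Nat.card S)
    (hCD : C ≤ D) (hC : IsCyclic ↥C) (hCi : C.relIndex D = 2)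
    (h1 : ∀ x ∈ D, x ∉ C → orderOf x = 2 → ∀ g : G, g * x * g⁻¹ ∈ T ⊔ C → False)
    (h2 : ∀ c ∈ C, orderOf c = 2 → ∀ g : G, g * c * g⁻¹ ∈ T → False) :
    ∃ K : Subgroup G, K.Normal ∧ K ⊔ D = ⊤ ∧
      ∀ T' : Subgroup G, T' ≤ L → IsPGroup 2 T' → ¬ 2 ∣ T'.relIndex L → T' ≤ K ∧ ¬ 2 ∣ T'.relIndex K := by
  open Pointwise commutatorElement Subgroup in
  open Cfsg.Agent.Comp Cfsg.Agent.BG Subgroup commutatorElement in
  haveI : Fact (Nat.Prime 2) := ⟨Nat.prime_two⟩
  obtain ⟨m, hm, ⟨e⟩⟩ := hDih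
  haveI : NeZero m := ⟨by omega⟩
  obtain ⟨a, ha, haD, hDc, hinv⟩ := Pbc.dih e
  have hCc : Nat.card C = m := by
    have := Solv.card_mul_relIndex hCD
    rw [hCi, hDc] at this
    omega
  have hsq : ∀ y ∈ D, y ∉ C → orderOf y = 2 := by
    intro y hy hyC
    refine orderOf_eq_prime ?_ fun h => hyC (h ▸ one_mem _)
    obtain ⟨c, rfl⟩ := (Subgroup.isCyclic_iff_exists_zpowers_eq_top C).1 hC
    by_cases hc : c ∈ zpowers a
    · refine (hinv y hy ?_).1
      rwa [← eq_of_le_of_card_ge (zpowers_le.2 hc) (by rw [hCc, Nat.card_zpowers, ha])]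
    · have h3 := orderOf_le_of_pow_eq_one two_pos (hinv c (hCD (mem_zpowers c)) hc).1
      rw [Nat.card_zpowers] at hCc
      by_cases hya : y ∈ zpowers a
      · obtain ⟨k, rfl⟩ := hya
        have h4 : a ^ 2 = 1 := by rw [show 2 = orderOf a by omega, pow_orderOf_eq_one]
        rw [← zpow_natCast, ← zpow_mul, mul_comm, zpow_mul, zpow_natCast, h4, one_zpow]
      · exact (hinv y hy hya).1
  have hS : SylIn 2 S ⊤ := sylIn_of_not_dvd le_top hS2 (by rwa [relIndex_top_right])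
  have hTC : (T ⊔ C).relIndex S = 2 := by
    have hle : T ⊔ C ≤ S := sup_le hTS (hCD.trans hDS)
    have h3 := (cle (T := T) (D := C) (S := T ⊔ C) (le_bot_iff.1 (hDT ▸ inf_le_inf_right T hCD)) le_sup_left le_sup_right).1
    have h4 := Solv.card_mul_relIndex hle
    have h5 : (T ⊔ C).relIndex S ≠ 1 := by
      rw [Ne, relIndex_eq_one]
      intro h
      obtain ⟨y, hy, hyC⟩ := SetLike.not_le_iff_exists.1 (show ¬ D ≤ C by
        rw [← relIndex_eq_one, hCi]; norm_num)
      exact h1 y hy hyC (hsq y hy hyC) 1 (by simpa using h (hDS hy))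
    have h6 := relIndex_ne_zero' (T ⊔ C) S
    have h7 : 0 < Nat.card (T ⊔ C : Subgroup G) := Nat.card_pos
    rw [← hTDc, hDc, ← hCc] at h4
    have h8 : (T ⊔ C).relIndex S ≤ 2 := by
      by_contra h
      push Not at h
      nlinarith
    omega
  set K := Res 2 (⊤ : Subgroup G) with hK
  haveI hKn : K.Normal := inferInstance
  have hLK : L ≤ K := by
    have : Res 2 L = L := by rw [← map_pResidual, hL, ← MonoidHom.range_eq_map, range_subtype]
    exact this ▸ ResPi_mono le_top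
  have hDK : D ⊓ K ≤ C := by
    intro y hy
    by_contra hyC
    have ho := hsq y hy.1 hyC
    rcases Transfer.thompson_transfer (H := S) (Nat.not_even_iff_odd.1 fun h => hSsyl h.two_dvd) hTC
      (ho ▸ pow_orderOf_eq_one y) (hDS hy.1) with ⟨M, hM, hMi, hyM⟩ | ⟨g, hg⟩
    · exact hyM ((SubnIn.of_normal M).Res_le (k := 1) (by rw [relIndex_top_right, hMi, pow_one]) hy.2)
    · exact h1 y hy.1 hyC ho g hg
  have hSK := hS.inf_normal (le_top : K ≤ ⊤) (by rw [normalizer_eq_top]; exact le_top)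
  have hTK : T ≤ S ⊓ K := le_inf hTS (hTL.trans hLK)
  have hcard : Nat.card T * Nat.card (D ⊓ K : Subgroup G) = Nat.card (S ⊓ K : Subgroup G) := by
    refine (cle (le_bot_iff.1 (hDT ▸ inf_le_inf_right T inf_le_left)) hTK (inf_le_inf_right K hDS)).2.2 fun s hs => ?_
    obtain ⟨t, ht, d, hd, rfl⟩ := (cle hDT hTS hDS).2.1 hTDc s hs.1
    exact ⟨t, ht, d, ⟨hd, (K.mul_mem_cancel_left (hLK (hTL ht))).1 hs.2⟩, rfl⟩
  have hbot : D ⊓ K = ⊥ := by
    by_contra hne
    obtain ⟨c, hc⟩ := (Subgroup.isCyclic_iff_exists_zpowers_eq_top (D ⊓ K)).1 (BG.isCyclic_of_le hDK hC)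
    have hcm : c ∈ D ⊓ K := hc ▸ mem_zpowers c
    have hp2 : IsPGroup 2 (D ⊓ K : Subgroup G) := hS2.to_le (inf_le_left.trans hDS)
    have hoc : orderOf (⟨c, hcm.2⟩ : K) = Nat.card (D ⊓ K : Subgroup G) := by
      rw [orderOf_mk, ← hc, Nat.card_zpowers]
    obtain ⟨H, hH⟩ := sgn (T.subgroupOf K) ⟨c, hcm.2⟩ (by
        rw [hoc]; exact even_iff_two_dvd.2 (dvd_card_of_isPGroup hp2 hne)) (m := (S ⊓ K).relIndex K) (by
        intro k g hg
        rw [orderOf_dvd_iff_pow_eq_one]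
        by_contra hk
        have hk' : zpowers (c ^ k) ≠ ⊥ := fun h => hk (Subtype.ext (zpowers_eq_bot.1 h))
        have hle : zpowers (c ^ k) ≤ D ⊓ K := zpowers_le.2 (pow_mem hcm k)
        obtain ⟨_, ⟨j, rfl⟩, hj⟩ := exists_mem_orderOf_eq (dvd_card_of_isPGroup (hp2.to_le hle) hk')
        refine h2 _ (hDK (hle (zpow_mem (mem_zpowers _) j))) hj g ?_
        rw [← conj_zpow]
        exact zpow_mem hg j)
      (Nat.not_even_iff_odd.1 fun h => hSK.not_dvd_relIndex h.two_dvd) (by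
        rw [hoc, ← relIndex, ← relIndex_mul_relIndex _ _ _ hTK inf_le_right]
        congr 1
        have := Solv.card_mul_relIndex hTK
        rw [← hcard] at this
        exact Nat.eq_of_mul_eq_mul_left Nat.card_pos this)
    refine Transfer.pResidual_two_eq_top_iff.1 ?_ H hH
    apply map_injective K.subtype_injective
    rw [map_pResidual, hK, Res_Res, ← MonoidHom.range_eq_map, range_subtype]
  rw [hbot, card_bot, mul_one] at hcard
  have hT : SylIn 2 T L := sylIn_of_not_dvd hTL hT2 hTsyl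
  refine ⟨K, hKn, ?_, fun T' h3 h4 h5 => ⟨h3.trans hLK, ?_⟩⟩
  · rw [eq_top_iff, ← hS.Res_sup, ← hTD]
    exact sup_le le_sup_left (sup_le_sup_right (hTL.trans hLK) D)
  · refine (hSK.of_card_le h4 (h3.trans hLK) ?_).not_dvd_relIndex
    rw [← hcard, hT.card_eq_card (sylIn_of_not_dvd h3 h4 h5)]

end Cfsg.Agent.S1924
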