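import Cfsg.Statements.S1940
import Cfsg.Agent.Lib.Transfer.Basic

set_option autoImplicit false
open Cfsg

namespace Cfsg.Agent.S1940

/-- Let the finite group L act by automorphisms on the finite abelian group M, and let N be an L-invariant subgroup of M such that M/N is a p-group on which L acts trivially (every l • m lies in the coset mN). If every element of M is a product of an element of N and an element fixed by a Sylow p-subgroup T of L, then every element of M is a product of an element of N and an element fixed by all of L. -/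
theorem result {L : Type*} [Group L] [Finite L] {M : Type*} [CommGroup M] [Finite M] [MulDistribMulAction L M]
    {p : ℕ} [Fact p.Prime] (N : Subgroup M) (hN : ∀ (l : L) (m : M), m ∈ N → l • m ∈ N)
    (hquot : IsPGroup p (M ⧸ N)) (htriv : ∀ (l : L) (m : M), (l • m) * m⁻¹ ∈ N) (T : Sylow p L)
    (hT : ∀ m : M, ∃ n ∈ N, ∃ c : M, (∀ t ∈ (T : Subgroup L), t • c = c) ∧ m = n * c) :
    ∀ m : M, ∃ n ∈ N, ∃ c : M, (∀ l : L, l • c = c) ∧ m = n * c := by
  classical
  intro m
  obtain ⟨n, hn, c, hc, rfl⟩ := hT m
  have := Fintype.ofFinite (L ⧸ T.1)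
  let φ : L ⧸ T.1 → M := Quotient.lift (· • c) fun a b h => by
    have := hc _ (QuotientGroup.leftRel_apply.1 h)
    rw [mul_smul, inv_smul_eq_iff] at this
    exact this.symm
  have hφ : ∀ (l : L) q, l • φ q = φ (l • q) := fun l q => by
    induction q using QuotientGroup.induction_on
    exact (mul_smul _ _ _).symm
  have hd : ∀ l : L, l • ∏ q, φ q = ∏ q, φ q := fun l => by
    rw [Finset.smul_prod']
    simp only [hφ]
    exact Equiv.prod_comp (MulAction.toPerm l) φ
  have h1 : QuotientGroup.mk' N (∏ q, φ q) = QuotientGroup.mk' N c ^ T.1.index := by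
    rw [map_prod, Finset.prod_congr rfl (g := fun _ => QuotientGroup.mk' N c), Finset.prod_const,
      Finset.card_univ, Subgroup.index, Nat.card_eq_fintype_card]
    intro q _
    induction q using QuotientGroup.induction_on with
    | H l => exact (QuotientGroup.eq.2 (by rw [mul_comm]; exact htriv l c)).symm
  obtain ⟨k, hk⟩ := IsPGroup.iff_orderOf.1 hquot (QuotientGroup.mk' N c)
  obtain ⟨j, hj⟩ := exists_pow_eq_self_of_coprime (x := QuotientGroup.mk' N c) (n := T.1.index)
    (hk ▸ (((Fact.out : p.Prime).coprime_iff_not_dvd.2 T.not_dvd_index).symm.pow_right k))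
  rw [← h1, ← map_pow] at hj
  exact ⟨n * (((∏ q, φ q) ^ j)⁻¹ * c), mul_mem hn (QuotientGroup.eq.1 hj), (∏ q, φ q) ^ j,
    fun l => by rw [smul_pow', hd], by rw [mul_assoc, mul_right_comm, inv_mul_cancel, one_mul]⟩

end Cfsg.Agent.S1940
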