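import Cfsg.Statements.S1941
import Cfsg.Agent.Lib.BG.PLen

set_option autoImplicit false
open Cfsg

namespace Cfsg.Agent.S1941

/-- Let G be a finite group with no nontrivial normal subgroup of order prime to p, T a Sylow p-subgroup of G and E(G) the layer of G (the subgroup generated by its components). An automorphism of G of p-power order that fixes T and E(G) elementwise is inner. -/
theorem result {G : Type*} [Group G] [Finite G] {p : ℕ} [Fact p.Prime] (hcore : Cfsg.pPrimeCore p G = ⊥)
    (T : Sylow p G) (α : MulAut G) (hα : ∃ j : ℕ, orderOf α = p ^ j) (hfixT : ∀ x ∈ (T : Subgroup G), α x = x)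
    (hfixE : ∀ x ∈ Cfsg.layer G, α x = x) : ∃ g : G, ∀ x : G, α x = g * x * g⁻¹ := by
  open Pointwise commutatorElement Subgroup in
  open Cfsg.Agent.Comp Cfsg.Agent.BG Subgroup commutatorElement in
  classical
  set F := generalizedFittingSubgroup G with hF
  have hn : F.Normal := inferInstance
  have h1 : ∀ x ∈ F, α x = x := fun x hx => (sup_le (a := layer G) (b := fittingSubgroup G)
    (c := α.toMonoidHom.eqLocus (MonoidHom.id G)) (fun y hy => hfixE y hy)
    (fun y hy => hfixT y (Solv.pCore_le_sylow T (by rwa [← Solv.fitting_eq_pCore hcore]))) hx :)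
  have h2 : ∀ g, α g * g⁻¹ ∈ Ct(F) := fun g f hf => by
    have := h1 _ (hn.conj_mem' f hf g)
    rw [map_mul, map_mul, h1 f hf, map_inv] at this
    calc _ = α g * ((α g)⁻¹ * f * α g) * g⁻¹ := by group
      _ = _ := by rw [this]; group
  have h3 : IsPGroup p Ct(F) := (Solv.isPGroup_pCore p G).to_le (by
    have := le_Fit_of_le_centralizer_Fstar (A := Ct(F)) (M := ⊤) le_top (by rw [Fstar_top])
    rwa [Fit_top, Solv.fitting_eq_pCore hcore] at this)
  letI : CommGroup Ct(F) := { (inferInstance : Group _) with
    mul_comm := fun a b => Subtype.ext (b.2 _ (centralizer_fstar_le a.2)) }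
  haveI := Fintype.ofFinite (G ⧸ (T : Subgroup G))
  let D : G → Ct(F) := fun g => ⟨_, h2 g⟩
  have d1 : ∀ g h, D (g * h) = MulAut.conjNormal (α g) (D h) * D g := fun g h => Subtype.ext (by
    simp only [D, coe_mul, MulAut.conjNormal_apply, map_mul]; group)
  have d2 : ∀ g, ∀ t ∈ (T : Subgroup G), D (g * t) = D g := fun g t ht => Subtype.ext (by
    simp only [D, map_mul, hfixT t ht]; group)
  set b : Ct(F) := ∏ q : G ⧸ (T : Subgroup G), D q.out with hb
  have d3 : ∀ g, b = MulAut.conjNormal (α g) b * D g ^ (T : Subgroup G).index := fun g => by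
    rw [hb, map_prod, index_eq_card, Nat.card_eq_fintype_card, ← Finset.card_univ, ← Finset.prod_const,
      ← Finset.prod_mul_distrib, ← Equiv.prod_comp (MulAction.toPerm g)]
    refine Finset.prod_congr rfl fun q _ => ?_
    rw [← d1, ← d2 (g * q.out) ((g * q.out)⁻¹ * (g • q).out) (QuotientGroup.eq.1 (by
      rw [QuotientGroup.out_eq', ← smul_eq_mul, MulAction.Quotient.mk_smul_out])), mul_inv_cancel_left]
    rfl
  obtain ⟨k, hk⟩ := h3.exists_card_eq
  have hc : ((T : Subgroup G).index).Coprime (Nat.card Ct(F)) := by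
    rw [hk]; exact (coprime_iff_not_dvd.2 T.not_dvd_index).pow_right k
  obtain ⟨c, hc1⟩ := (powCoprime hc.symm).surjective b
  refine ⟨c, fun g => ?_⟩
  have : c = MulAut.conjNormal (α g) c * D g := (powCoprime hc.symm).injective (by
    rw [powCoprime_apply] at hc1
    rw [powCoprime_apply, powCoprime_apply, mul_pow, ← map_pow, hc1, ← d3])
  have := congrArg Subtype.val this
  simp only [D, coe_mul, MulAut.conjNormal_apply] at this
  have h4 : α g * c = c * g := by
    conv_rhs => rw [this]
    group
  rw [← h4, mul_inv_cancel_right]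

end Cfsg.Agent.S1941
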