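import Cfsg.Statements.S5295
import Cfsg.Agent.Lib.Fusion.WC2

set_option autoImplicit false
universe u
open Cfsg

namespace Cfsg.Agent.S5295

open Fusion Cfsg.FusionSystem

/-- Let F be a saturated fusion system over a finite p-group S with p odd. Then the centre Z(F) of F is a direct factor of Z(S): there is a subgroup K of Z(S) with Z(F) ∩ K = 1 and Z(F)K = Z(S). (At the prime 2 this can fail.) -/
theorem result {Ω : Type u} [Group Ω] {S : Subgroup Ω} [Finite S] (p : ℕ) [Fact p.Prime] (hp : p ≠ 2) (hS : IsPGroup p S)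
    (F : Cfsg.FusionSystem S) (hF : F.IsSaturated p) :
    ∃ K : Subgroup Ω, K ≤ (S ⊓ Subgroup.centralizer (S : Set Ω)) ∧ F.center ⊓ K = ⊥ ∧ F.center ⊔ K = (S ⊓ Subgroup.centralizer (S : Set Ω)) := by
  have hW := KInf.lower_char.{u} (p := p)
  have hn := ind_le_normalizer hW hS
  have hN := normSys_spec F (ind_le kInfLower S)
  obtain ⟨K, h1, -, h2⟩ := center_complement hS (nSys_saturated (hQ := ind_le kInfLower S) (hn := hn) hS hF)
    (isNormal_iff.2 ⟨ind_le _ S, fun P f hf => by
      obtain ⟨g, hg, e1, e2⟩ := nSys_mor.1 hf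
      exact ⟨g, nSys_mor_of hg le_rfl le_sup_right e2, e1, e2⟩⟩) fun x hx => mem_ind.2
        ⟨hx.1, center_le_lower' _ hS (Subgroup.mem_center_iff.2 fun t => Subtype.ext (hx.2 t t.2))⟩
  have e : (nSys F (ind_le kInfLower S) hn).center = F.center := le_antisymm (fun z hz =>
    (quadF_lower.cenF hp).central.{u, 0} hW center_le_lower' hS hF free_false
      ⟨center_le _ hz, center_le_centralizer _ hz⟩ fun g hg e => IsCentral.fix (center_isCentral _)
        (nSys_mor_of hg le_rfl le_rfl e) (mem_ind.2 ⟨center_le _ hz, center_le_lower' _ hS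
          (Subgroup.mem_center_iff.2 fun t => Subtype.ext (center_le_centralizer _ hz t t.2))⟩) hz)
    (center_le_of_sub hS (nSys_saturated hS hF) nSys_sub centralizerIn_le)
  exact ⟨K, h1, e ▸ h2⟩

end Cfsg.Agent.S5295
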