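import Cfsg.Statements.S1946
import Cfsg.Agent.Lib.Fusion.BGH
import Cfsg.Agent.Lib.Fusion.CFun

set_option autoImplicit false
open Cfsg

namespace Cfsg.Agent.S1946

open Subgroup Fusion

/-- Let P be a Sylow p-subgroup of the finite group G. Then G has a normal p-complement if and only if P controls the fusion of its elements of order dividing p (dividing 4 when p = 2): whenever such an element a of P has a G-conjugate g a g⁻¹ in P, that conjugate is already x a x⁻¹ for some x in P. -/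
theorem result {G : Type*} [Group G] [Finite G] {p : ℕ} [Fact p.Prime] (P : Sylow p G) :
    Cfsg.HasNormalPComplement p G ↔
      ∀ a ∈ (P : Subgroup G), (a ^ p = 1 ∨ (p = 2 ∧ a ^ 4 = 1)) → ∀ g : G, g * a * g⁻¹ ∈ (P : Subgroup G) →
        ∃ x ∈ (P : Subgroup G), g * a * g⁻¹ = x * a * x⁻¹ := by
  refine ⟨fun h a ha _ g hg => ?_, fun h => ?_⟩
  · obtain ⟨s, hs, e⟩ := (Transfer.isSyl_top P).exists_conj_of_hasNPC (Transfer.hasNPC_top.2 h) (mem_top g)
    exact ⟨s, hs, (e a ha hg).symm⟩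
  obtain ⟨n, hn⟩ := exists_zc_eq P.2
  refine hasNPC_of_isInner (sylowIn_top P) (inner_of_chain P.2 (group_saturated P) (zc_zero _) (n := n)
    (fun x hx _ => hn.ge (hyp_le hx)) fun i Q f hf x hx h1 h2 h3 => ?_)
  obtain ⟨-, h4, g, e⟩ := mor_group_iff.1 hf
  obtain ⟨s, hs, e'⟩ := h x (hyp_le h1) h2 g (e x hx ▸ h4 x hx)
  rw [e x hx, e']
  simpa [commutatorElement_def, mul_assoc] using (mem_zc_succ.1 (inv_mem h3)).2 s hs

end Cfsg.Agent.S1946
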