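import Cfsg.Statements.S1947
import Cfsg.Agent.Lib.Fusion.BGH

set_option autoImplicit false
open Cfsg

namespace Cfsg.Agent.S1947

open Subgroup Fusion

/-- Let G be a finite group and p a prime. If every element of G of order dividing p (dividing 4 when p = 2) lies in some fixed term Z_n(G) of the upper central series, then G has a normal p-complement. -/
theorem result {G : Type*} [Group G] [Finite G] {p : ℕ} [Fact p.Prime] (n : ℕ)
    (h : ∀ a : G, (a ^ p = 1 ∨ (p = 2 ∧ a ^ 4 = 1)) → a ∈ Subgroup.upperCentralSeries G n) : Cfsg.HasNormalPComplement p G := by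
  obtain ⟨P⟩ : Nonempty (Sylow p G) := inferInstance
  refine hasNPC_of_isInner (sylowIn_top P) (inner_of_chain P.2 (group_saturated P)
    (C := Subgroup.upperCentralSeries G) rfl (n := n) (fun x _ => h x) fun i Q f hf x hx _ _ h3 => ?_)
  obtain ⟨-, -, g, e⟩ := mor_group_iff.1 hf
  rw [e x hx]
  simpa [mul_assoc, commutatorElement_def] using Subgroup.mem_upperCentralSeries_succ_iff.1 (inv_mem h3) g

end Cfsg.Agent.S1947
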