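import Cfsg.Statements.S1948
import Cfsg.Agent.Lib.Fusion.AlpG

set_option autoImplicit false
open Cfsg

namespace Cfsg.Agent.S1948

open Subgroup Transfer

/-- Let S be a Sylow p-subgroup of the finite group G. Then G = N_G(S)·O_{p'}(G) if and only if G is p-constrained and N_G(S) controls fusion in S, in the sense that whenever a subgroup Q of S has a conjugate g Q g⁻¹ inside S, the element g is a product n c with n normalizing S and c centralizing Q. -/
theorem result {G : Type*} [Group G] [Finite G] {p : ℕ} [Fact p.Prime] (S : Sylow p G) :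
    Subgroup.normalizer ((S : Subgroup G) : Set G) ⊔ Cfsg.pPrimeCore p G = ⊤ ↔
      (Cfsg.IsPConstrained p G ∧
        ∀ Q : Subgroup G, Q ≤ (S : Subgroup G) → ∀ g : G, Q.map (MulAut.conj g).toMonoidHom ≤ (S : Subgroup G) →
          ∃ n ∈ Subgroup.normalizer ((S : Subgroup G) : Set G), ∃ c ∈ Subgroup.centralizer (Q : Set G), g = n * c) := by
  constructor
  · intro h
    have d : ∀ g : G, ∃ n ∈ normalizer (S.1 : Set G), ∃ o ∈ pPrimeCore p G, g = n * o := fun g =>
      (mem_sup_iff_of_le_normalizer le_normalizer_of_normal).1 (h.ge (mem_top g))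
    refine ⟨fun R => ?_, fun Q hQ g hg => ?_⟩
    · have hR := isSyl_map_subtype R
      have h1 : S.1 ≤ pPrimePCore p G := le_pPrimePCore_of_normal S.2 (normalizer_eq_top_iff.1 (eq_top_iff.2
        (h.ge.trans (sup_le (fun g hg => mem_normalizer_sup hg (le_normalizer_of_normal (mem_top g |> fun _ => hg)))
          (le_sup_right.trans le_normalizer)))))
      generalize R.1.map (pPrimePCore p G).subtype = T at hR
      have hT := (isSyl_top S).of_card_le hR.pgroup le_top (hR.card_le S.2 h1)
      have h2 := ((hT.mono le_normalizer le_top).inf_of_le_normalizer (centralizer_le_normalizer _)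
        (normalizer_le_normalizer_centralizer T)).central_split fun c hc x hx => hc x hx.1
      rw [← h2]
      refine sup_le (inf_le_left.trans hR.le) (le_trans (le_sup_left.trans (Solv.le_pPrimeCore
        (N := _ ⊔ pPrimeCore p G) (hN := ⟨fun x hx g => ?_⟩) ?_)) pPrimeCore_le_pPrimePCore')
      · obtain ⟨n, hn, m, hm, rfl⟩ := hR.frattini' (g := g) (le_normalizer_of_normal (mem_top g))
        rw [← hR.sup_pPrimeCore] at hm
        have k : normalizer (T : Set G) ≤ _ := fun g hg => mem_normalizer_sup ((normalizer_le_normalizer_centralizer T).trans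
          (Solv.normalizer_le_normalizer_map_pPrimeCore (p := p) _) hg) (le_normalizer_of_normal (H := pPrimeCore p G) (mem_top g))
        exact conj_mem_of_mem_normalizer (mul_mem (k hn) (sup_le (le_normalizer.trans k)
          (le_sup_right.trans le_normalizer) hm)) hx
      · exact ((Solv.coprime_card_map_subtype_pPrimeCore _).mul_left (Solv.coprime_card_pPrimeCore p)).coprime_dvd_left
          (Dvd.intro _ (card_sup_mul_card_inf le_normalizer_of_normal))
    · obtain ⟨n, hn, o, ho, rfl⟩ := d g
      refine ⟨n, hn, o, fun x hx => ?_, rfl⟩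
      have h1 : o * x * o⁻¹ * x⁻¹ ∈ S.1 ⊓ pPrimeCore p G := ⟨S.1.mul_mem (by
        simpa [mul_assoc] using inv_conj_mem_of_mem_normalizer hn (hg (conj_mem_cj hx))) (S.1.inv_mem (hQ hx)), by
        simpa [mul_assoc] using mul_mem ho (Normal.conj_mem inferInstance _ (inv_mem ho) x)⟩
      rw [inf_eq_bot_of_coprime' S.2 (Solv.coprime_card_pPrimeCore p), mem_bot, mul_inv_eq_one,
        mul_inv_eq_iff_eq_mul] at h1
      exact h1.symm
  · rintro ⟨h1, h2⟩
    have hQ := isSyl_inf_normal S (pPrimePCore p G)
    have k : pPrimePCore p G ≤ normalizer (S.1 : Set G) ⊔ pPrimeCore p G :=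
      hQ.sup_pPrimeCore.ge.trans (sup_le_sup_right (inf_le_left.trans le_normalizer) _)
    refine eq_top_iff.2 fun g _ => ?_
    obtain ⟨m, hm, n, hn, rfl⟩ := hQ.frattini (g := g) (le_normalizer_of_normal (mem_top g))
    obtain ⟨n, hn', c, hc, rfl⟩ := h2 _ inf_le_left n ((cj_eq_of_mem_normalizer hn).le.trans inf_le_left)
    obtain ⟨R, hR⟩ := hQ.exists_sylow_map
    exact mul_mem (k hm) (mul_mem (mem_sup_left hn') (k (h1 R (hR ▸ hc))))

end Cfsg.Agent.S1948
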