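import Cfsg.Statements.S1949
import Cfsg.Agent.Lib.Fusion.BGH

set_option autoImplicit false
open Cfsg

namespace Cfsg.Agent.S1949

open Subgroup Fusion

/-- Let P be a finite p-group and G a group of automorphisms of P containing the inner automorphisms. Then there is a G-invariant subgroup D of P, contained in the subgroup generated by the elements x⁻¹α(x) with x in P and α in O^p(G), of exponent dividing p when p is odd and dividing 4 when p = 2, with [D, P] ≤ Z(D), such that every automorphism in G of order prime to p that fixes D elementwise is the identity; moreover every maximal abelian subgroup A of D is normal in P and every automorphism in G fixing A elementwise has p-power order. -/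
theorem result {P : Type*} [Group P] [Finite P] {p : ℕ} [Fact p.Prime] (hP : IsPGroup p P)
    (G : Subgroup (MulAut P)) (hG : Cfsg.Inn P ≤ G) :
    ∃ D : Subgroup P,
      (∀ α ∈ G, D.map α.toMonoidHom = D) ∧
      D ≤ Subgroup.closure {y : P | ∃ α ∈ Cfsg.pResidual p ↥G, ∃ x : P, y = x⁻¹ * (α : MulAut P) x} ∧
      (∀ d ∈ D, d ^ p = 1 ∨ (p = 2 ∧ d ^ 4 = 1)) ∧
      ⁅D, (⊤ : Subgroup P)⁆ ≤ D ⊓ Subgroup.centralizer (D : Set P) ∧
      (∀ α ∈ G, (orderOf α).Coprime p → (∀ d ∈ D, α d = d) → α = 1) ∧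
      ∀ A : Subgroup P, A ≤ D → IsMulCommutative ↥A →
        (∀ B : Subgroup P, A ≤ B → B ≤ D → IsMulCommutative ↥B → B = A) →
        A.Normal ∧ ∀ α ∈ G, (∀ a ∈ A, α a = a) → ∃ k : ℕ, orderOf α = p ^ k := by
  obtain ⟨D, h1, h2, h3, h4, h5⟩ := exists_crit hP hG (T := closure {y : P | ∃ α ∈ pResidual p ↥G, ∃ x : P,
    y = x⁻¹ * (α : MulAut P) x}) fun α hα x hx => (closure_le (comap α.toMonoidHom (closure {y : P |
      ∃ α ∈ pResidual p ↥G, ∃ x : P, y = x⁻¹ * (α : MulAut P) x}))).2 (by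
      rintro _ ⟨β, hβ, x, rfl⟩
      exact Subgroup.subset_closure ⟨_, Normal.conj_mem inferInstance β hβ ⟨α, hα⟩, α x, by simp⟩) hx
  have h6 : ∀ α ∈ G, (orderOf α).Coprime p → (∀ d ∈ D, α d = d) → α = 1 := fun α hα hc => h5 α hα hc fun x =>
    Subgroup.subset_closure ⟨⟨α, hα⟩, Transfer.mem_pResidual_of_coprime (by rwa [← orderOf_coe]), x, rfl⟩
  refine ⟨D, fun α hα => eq_of_le_of_card_ge (map_le_iff_le_comap.2 (h2 α hα))
    (card_map_of_injective α.injective).ge, h1, h3, h4, h6, fun A a b c => ?_⟩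
  obtain ⟨k1, k2⟩ := crit_max hP h2 h4 h6 a b c
  exact ⟨k1, fun α hα e => (IsPGroup.iff_orderOf.1 k2 ⟨α, hα, (mem_fixingSubgroup_iff _).2 e⟩).imp
    fun _ h => (orderOf_coe _).trans h⟩

end Cfsg.Agent.S1949
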