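import Cfsg.Statements.S1953
import Cfsg.Agent.Lib.Fusion.QdB

set_option autoImplicit false
open Cfsg

namespace Cfsg.Agent.S1953

open Subgroup Fusion Transfer Cfsg.FusionSystem

/-- Let p be an odd prime and P a Sylow p-subgroup of the finite group G, and suppose that for no p-subgroup Q of G does N_G(Q)/C_G(Q) have a section isomorphic to SL₂(p). Call a subgroup Q of P centric-radical when Z(Q) is a Sylow p-subgroup of C_G(Q) and the only normal subgroup X of N_G(Q) containing Q·C_G(Q) such that the index of Q·C_G(Q) in X is a power of p is Q·C_G(Q) itself (that is, N_G(Q)/Q·C_G(Q) has no nontrivial normal p-subgroup). Then there is a centric-radical subgroup Q of P contained in every centric-radical subgroup of P; it is normal in P, and N_G(Q) controls strong fusion in P: whenever a subgroup A of P has g A g⁻¹ ≤ P, the element g is a product h c with h in N_G(Q) and c centralizing A. -/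
theorem result {G : Type*} [Group G] [Finite G] {p : ℕ} [Fact p.Prime] (hp : p ≠ 2) (P : Sylow p G)
    (hfree : ∀ Q : Subgroup G, IsPGroup p ↥Q → ¬ ∃ (H K : Subgroup G) (_ : (K.subgroupOf H).Normal),
      Subgroup.centralizer (Q : Set G) ≤ K ∧ K ≤ H ∧ H ≤ Subgroup.normalizer (Q : Set G) ∧
      Nonempty ((↥H ⧸ K.subgroupOf H) ≃* Matrix.SpecialLinearGroup (Fin 2) (ZMod p)))
    (cr : Subgroup G → Prop)
    (hcr : ∀ Q : Subgroup G, cr Q ↔ (Q ≤ (P : Subgroup G) ∧
      (∃ R : Sylow p ↥(Subgroup.centralizer (Q : Set G)),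
        (R : Subgroup ↥(Subgroup.centralizer (Q : Set G))).map (Subgroup.centralizer (Q : Set G)).subtype = Q ⊓ Subgroup.centralizer (Q : Set G)) ∧
      ∀ X : Subgroup G, X ≤ Subgroup.normalizer (Q : Set G) →
        (∀ n ∈ Subgroup.normalizer (Q : Set G), X.map (MulAut.conj n).toMonoidHom = X) →
        Q ⊔ Subgroup.centralizer (Q : Set G) ≤ X → (∃ k : ℕ, (Q ⊔ Subgroup.centralizer (Q : Set G)).relIndex X = p ^ k) →
        X = Q ⊔ Subgroup.centralizer (Q : Set G))) :
    ∃ Q : Subgroup G, cr Q ∧ (∀ R : Subgroup G, cr R → Q ≤ R) ∧ (∀ x ∈ (P : Subgroup G), Q.map (MulAut.conj x).toMonoidHom = Q) ∧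
      ∀ A : Subgroup G, A ≤ (P : Subgroup G) → ∀ g : G, A.map (MulAut.conj g).toMonoidHom ≤ (P : Subgroup G) →
        ∃ h ∈ Subgroup.normalizer (Q : Set G), ∃ c ∈ Subgroup.centralizer (A : Set G), g = h * c := by
  have hf : ¬ Involves (qd p) G := fun h => by
    obtain ⟨B, π, hB, h0⟩ := Qd.exists_natAct h
    exact hfree B hB h0.sl2
  have hc := Qd.con_of_free hp P hf
  have hn := core_isNormal (groupFusionSystem P.1)
  have hr := (isRadical_iff P.2).1 (core_radical P.2 hc)
  replace hc := (isConstrained_iff.1 hc).2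
  generalize (groupFusionSystem P.1).core = Q at hn hr hc
  have hQ : Q ≤ P := hn.1
  have hPN : P.1 ≤ normalizer (Q : Set G) := fun x hx =>
    ((IsNormal.normalizerIn_eq hn).ge hx).2
  have ctl : ∀ A, A ≤ P.1 → ∀ g, cj g A ≤ P →
      ∃ h ∈ normalizer (Q : Set G), ∃ c ∈ centralizer (A : Set G), g = h * c := fun A hA g hg => by
    obtain ⟨n, h1, h2⟩ := Qd.control_of_normal hn hA (cj_le_iff.1 hg)
    refine ⟨n, h1, n⁻¹ * g, fun x hx => ?_, by group⟩
    calc _ = n⁻¹ * (n * x * n⁻¹) * g := by group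
      _ = _ := by rw [h2 x hx]; group
  refine ⟨Q, (hcr Q).2 ⟨hQ, ?_, fun X h1 h2 h3 ⟨k, hk⟩ => le_antisymm (fun x hx => ?_) h3⟩,
    fun R hR => ?_, fun x hx => cj_eq_of_mem_normalizer (hPN hx), ctl⟩
  · have := ((isSyl_top P).mono hPN le_top).inf_of_le_normalizer (centralizer_le_normalizer _)
      (normalizer_le_normalizer_centralizer _)
    rw [show P.1 ⊓ centralizer (Q : Set G) = Q ⊓ centralizer (Q : Set G) from
      le_antisymm (le_inf hc inf_le_right) (inf_le_inf_right _ hQ)] at this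
    exact this.exists_sylow_map
  · obtain ⟨T, hT, hQT⟩ := exists_isSyl_ge (P.2.to_le hQ) (le_sup_left.trans h3)
    have h4 := hT.sup_eq_of_relIndex h3 hk
    rw [sup_comm Q, sup_assoc, sup_eq_right.2 hQT] at h4
    have h5 : autInducedBy X Q ≤ autInducedBy T Q := fun α hα => by
      obtain ⟨x, hx, e⟩ := mem_autInducedBy.1 hα
      obtain ⟨t, ht, c, hc, rfl⟩ := (mem_sup_iff_of_le_normalizer ((hT.le.trans h1).trans
        (normalizer_le_normalizer_centralizer _))).1 (sup_comm _ T ▸ h4.ge hx)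
      exact mem_autInducedBy.2 ⟨t, ht, fun y hy => by
        rw [e y hy, mul_assoc t, ← hc y hy]; group⟩
    rw [groupFusionSystem_eq, autGroup_sub hQ] at hr
    obtain ⟨α, hα⟩ := exists_cAut (h1 hx)
    refine (mem_Inn.1 (hr.2 _ (autInducedBy_mono le_top)
      ((autInducedBy_pgroup hT.pgroup Q).to_le h5) (fun a ha b hb => ?_)
      (mem_autInducedBy.2 ⟨x, hx, hα⟩))).elim fun q ⟨hq, e⟩ => ?_
    swap
    · rw [show x = q * (q⁻¹ * x) by group]
      refine mul_mem (mem_sup_left hq) (mem_sup_right fun y hy => ?_)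
      calc _ = q⁻¹ * (q * y * q⁻¹) * x := by group
        _ = _ := by rw [← e y hy, hα y hy]; group
    · obtain ⟨n, -, en⟩ := mem_autInducedBy.1 ha
      obtain ⟨y, hy, ey⟩ := mem_autInducedBy.1 hb
      refine mem_autInducedBy.2 ⟨n * y * n⁻¹, (h2 n (mem_normalizer_of_afun en)).le ⟨y, hy, rfl⟩,
        fun z hz => ?_⟩
      have h6 := afun_mem a⁻¹ hz
      have h7 := en _ h6
      rw [afun_afun_inv a hz] at h7
      rw [afun_mul _ _ hz, afun_mul _ _ h6, en _ (afun_mem _ h6), ey _ h6]
      conv_rhs => rw [h7]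
      group
  · obtain ⟨hR, ⟨Z, hZ⟩, h⟩ := (hcr R).1 hR
    have hRp := P.2.to_le hR
    have hC := centralizer_le_normalizer (R : Set G)
    have hN : ∀ n ∈ normalizer (R : Set G),
        n ∈ normalizer ((R ⊔ centralizer (R : Set G) : Subgroup G) : Set G) :=
      fun n hn => mem_normalizer_sup hn (mem_normalizer_centralizer hn)
    have h1 := h ((Q ⊓ normalizer (R : Set G)) ⊔ (R ⊔ centralizer (R : Set G)))
      (sup_le inf_le_right (sup_le le_normalizer hC)) (fun n hn' => ?_) le_sup_right ?_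
    · have h2 : IsSyl p R (R ⊔ centralizer (R : Set G)) := ⟨le_sup_left, hRp, by
        rw [sup_comm, relIndex_sup_of_le_normalizer hC, ← inf_relIndex_right, ← hZ]
        exact (isSyl_map_subtype Z).not_dvd⟩
      have h3 := h2.le_of_le_normalizer ((P.2.to_le hQ).to_le inf_le_left)
        (le_sup_left.trans h1.le) inf_le_right
      by_contra h4
      have hRQ := hR.trans hPN
      obtain ⟨x, h5, h6, h7⟩ := exists_mem_normalizer_notMem (P.2.to_le (sup_le hR hQ))
        (left_lt_sup.2 h4)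
      obtain ⟨r, hr, q, hq, rfl⟩ := (mem_sup_iff_of_le_normalizer hRQ).1 h5
      exact h7 (mul_mem hr (h3 ⟨hq, by simpa using mul_mem (inv_mem (le_normalizer hr)) h6⟩))
    · obtain ⟨a, ha, c, hc, rfl⟩ := ctl R hR n ((cj_eq_of_mem_normalizer hn').trans_le hR)
      have h2 : a ∈ normalizer (R : Set G) := by simpa using mul_mem hn' (inv_mem (hC hc))
      exact cj_eq_of_mem_normalizer (mul_mem (mem_normalizer_sup
        (mem_normalizer_inf ha (le_normalizer h2)) (hN a h2))
        (le_normalizer (mem_sup_right (mem_sup_right hc))))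
    · rw [relIndex_sup_of_le_normalizer (inf_le_right.trans hN)]
      exact ((P.2.to_le hQ).to_le inf_le_left).index _

end Cfsg.Agent.S1953
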