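import Cfsg.Statements.S1954
import Cfsg.Agent.Lib.Fusion.NormModel
import Cfsg.Agent.Lib.Fusion.Strong

set_option autoImplicit false
open Cfsg

namespace Cfsg.Agent.S1954

open Cfsg.Agent.Fusion

/-- Let N be a normal subgroup of the finite group G, P a Sylow p-subgroup of G, and V a subgroup of P ∩ N normal in P ∩ N such that N_N(V) controls strong fusion in P ∩ N with respect to N (whenever a subgroup A of P ∩ N has n A n⁻¹ ≤ P ∩ N for some n in N, then n = h c with h in N_N(V) and c in C_N(A)). Let W be the subgroup generated by the conjugates of V under N_G(P ∩ N). Then N_G(W) controls strong fusion in P with respect to G. -/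
theorem result {G : Type*} [Group G] [Finite G] {p : ℕ} [Fact p.Prime] (N : Subgroup G) [N.Normal] (P : Sylow p G) (V : Subgroup G)
    (hV : V ≤ (P : Subgroup G) ⊓ N) (hVn : ∀ x ∈ (P : Subgroup G) ⊓ N, V.map (MulAut.conj x).toMonoidHom = V)
    (hctrl : ∀ A : Subgroup G, A ≤ (P : Subgroup G) ⊓ N → ∀ n ∈ N, A.map (MulAut.conj n).toMonoidHom ≤ (P : Subgroup G) ⊓ N →
      ∃ h ∈ N ⊓ Subgroup.normalizer (V : Set G), ∃ c ∈ N ⊓ Subgroup.centralizer (A : Set G), n = h * c)
    (W : Subgroup G) (hW : W = Subgroup.closure (⋃ x ∈ Subgroup.normalizer (((P : Subgroup G) ⊓ N : Subgroup G) : Set G),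
      ((V.map (MulAut.conj x).toMonoidHom : Subgroup G) : Set G))) :
    ∀ A : Subgroup G, A ≤ (P : Subgroup G) → ∀ g : G, A.map (MulAut.conj g).toMonoidHom ≤ (P : Subgroup G) →
        ∃ h ∈ Subgroup.normalizer (W : Set G), ∃ c ∈ Subgroup.centralizer (A : Set G), g = h * c := by
  have hS := sylowIn_top P
  have hE := group_sub_normal hS (H := N) rfl inf_le_right
  have hi := hE.1.2.2
  have := finite_of_le (inf_le_left : (P : Subgroup G) ⊓ N ≤ P)
  have h1 : (Cfsg.fusionSystemOfSubgroup N ((P : Subgroup G) ⊓ N) inf_le_right).IsNormal V :=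
    isNormal_iff.2 ⟨hV, fun A f hf => by
      obtain ⟨a, b, n, hn, e⟩ := mor_subgroup_iff.1 hf
      obtain ⟨h, h1, c, h2, rfl⟩ := hctrl A a n hn (by
        rintro _ ⟨x, hx, rfl⟩; exact (e x hx ▸ b x hx : n * x * n⁻¹ ∈ _))
      have k : ∀ x ∈ A, h * x * h⁻¹ = f x := fun x hx => by
        rw [e x hx, mul_assoc h c, ← h2.2 x hx]; group
      have k2 : img (fun x => h * x * h⁻¹) V = V := le_antisymm (img_le_iff.2 fun x hx =>
        conj_mem_of_mem_normalizer h1.2 hx) fun x hx => by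
          have := subset_img (f := fun x => h * x * h⁻¹) (conj_mem_of_mem_normalizer (inv_mem h1.2) hx)
          simpa [mul_assoc] using this
      refine ⟨_, mor_sub_conj inf_le_right (sup_le a hV) h1.1 fun x hx => ?_, k, k2⟩
      have : A ⊔ V ≤ ((P : Subgroup G) ⊓ N).comap (MulAut.conj h).toMonoidHom :=
        sup_le (fun x hx => (k x hx).symm ▸ b x hx : ∀ x ∈ A, h * x * h⁻¹ ∈ _)
          fun x hx => hV (conj_mem_of_mem_normalizer h1.2 hx)
      exact this hx⟩
  have h2 : ∀ x ∈ Subgroup.normalizer (((P : Subgroup G) ⊓ N : Subgroup G) : Set G),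
      V.map (MulAut.conj x).toMonoidHom ≤ W := fun x hx y hy =>
    hW ▸ Subgroup.subset_closure (Set.mem_biUnion hx hy)
  obtain ⟨h3, h4⟩ := sSup_mem_of_sup (S := (P : Subgroup G) ⊓ N)
    (C := {Q | (Cfsg.fusionSystemOfSubgroup N ((P : Subgroup G) ⊓ N) inf_le_right).IsNormal Q ∧ Q ≤ W})
    ⟨IsCentral.isNormal (isCentral_bot _), bot_le⟩ (fun Q hQ => hQ.1.1)
    fun Q hQ R hR => ⟨IsNormal.sup hQ.1 hR.1, sup_le hQ.2 hR.2⟩
  rw [le_antisymm h4 (hW.le.trans ((Subgroup.closure_le _).2 (Set.iUnion₂_subset fun x hx => by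
    obtain ⟨α, hα⟩ := exists_cAut hx
    have := IsInvariantIn.normal_img hi h1 (group_mem_aut inf_le_left hα)
    rw [img_congr fun y hy => hα y (hV hy), img_conj] at this
    exact (le_sSup (s := {Q | _ ∧ Q ≤ W}) ⟨this, h2 x hx⟩ : V.map _ ≤ _))))] at h3
  have h5 := IsInvariantIn.normal_of hS.pgroup hE.1.2.1 hi h3 fun α hα x hx => by
    obtain ⟨-, -, g, e⟩ := mor_group_iff.1 ((mem_autGroup inf_le_left).1 hα)
    rw [e x (h3.1 hx)]
    have : W ≤ W.comap (MulAut.conj g).toMonoidHom := hW.le.trans ((Subgroup.closure_le _).2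
      (Set.iUnion₂_subset fun y hy => by
        rintro _ ⟨v, hv, rfl⟩
        exact h2 (g * y) (mul_mem (mem_normalizer_of_afun e) hy) ⟨v, hv, by simp [mul_assoc]⟩))
    exact this hx
  intro A hA g hg
  obtain ⟨h, h6, h7⟩ := (csfOf_of_normal h5 A hA).2 g (by rintro _ ⟨x, hx, rfl⟩; exact hg ⟨x, hx, rfl⟩)
  refine ⟨h, h6, h⁻¹ * g, fun x hx => ?_, by group⟩
  calc x * (h⁻¹ * g) = h⁻¹ * (h * x * h⁻¹) * g := by group
    _ = _ := by rw [← h7 x hx]; group

end Cfsg.Agent.S1954
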