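import Cfsg.Statements.S1956
import Cfsg.Agent.Lib.Transfer.Basic

set_option autoImplicit false
open Cfsg

namespace Cfsg.Agent.S1956

open Subgroup Transfer

/-- Let P be a Sylow p-subgroup of the finite group G such that every element of P of order dividing p (dividing 4 when p = 2) is central in P. Then the fusion of these elements is controlled by N_G(P): if such an element a of P has g a g⁻¹ in P, then g = n c with n normalizing P and c commuting with a. -/
theorem result {G : Type*} [Group G] [Finite G] {p : ℕ} [Fact p.Prime] (P : Sylow p G)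
    (hcen : ∀ a ∈ (P : Subgroup G), (a ^ p = 1 ∨ (p = 2 ∧ a ^ 4 = 1)) → ∀ y ∈ (P : Subgroup G), a * y = y * a) :
    ∀ a ∈ (P : Subgroup G), (a ^ p = 1 ∨ (p = 2 ∧ a ^ 4 = 1)) → ∀ g : G, g * a * g⁻¹ ∈ (P : Subgroup G) →
      ∃ n ∈ Subgroup.normalizer ((P : Subgroup G) : Set G), ∃ c : G, c * a = a * c ∧ g = n * c := by
  intro a ha h g hg
  have h1 : (P : Subgroup G) ≤ centralizer {g * a * g⁻¹} := fun y hy => mem_centralizer_singleton_iff.2
    (hcen _ hg (by simpa only [conj_pow, mul_inv_eq_one, mul_eq_left] using h) y hy).symm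
  have h2 : cj g P ≤ centralizer {g * a * g⁻¹} := cj_centralizer_singleton g a ▸ cj_mono g fun y hy =>
    mem_centralizer_singleton_iff.2 (hcen a ha h y hy).symm
  obtain ⟨c, hc, e⟩ := ((isSyl_top P).mono h1 le_top).exists_cj_eq
    (((isSyl_top P).of_card_le (IsPGroup.cj P.2 g) le_top (card_cj g _).ge).mono h2 le_top)
  refine ⟨c * g, mem_normalizer_iff_cj.2 (cj_cj c g _ ▸ e), (c * g)⁻¹ * g, ?_, by group⟩
  calc _ = g⁻¹ * (c⁻¹ * (g * a * g⁻¹)) * g := by group
    _ = _ := by rw [mem_centralizer_singleton_iff.1 (inv_mem hc)]; group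

end Cfsg.Agent.S1956
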