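import Cfsg.Statements.S1959
import Cfsg.Agent.Lib.Fusion.CFun2

set_option autoImplicit false
open Cfsg

namespace Cfsg.Agent.S1959

open Fusion Cfsg.FusionSystem

/-- Let p be a prime, G a finite group with Sylow p-subgroup S, and 𝓦 a set of conjugacy functors for p on G. Suppose that 𝓦 controls strong fusion in N_G(T) for every nonidentity subgroup T of S for which N_S(T) is a Sylow p-subgroup of N_G(T). Then 𝓦 controls strong fusion in G. (A set of functors controls strong fusion in a subgroup H when, for a Sylow p-subgroup T' of H, every conjugation of a tuple of elements of T' into T' by an element of H is a composite of conjugations inside the normalizers N_H(W(T')), W ∈ 𝓦, all intermediate tuples staying in T'.) -/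
theorem result {G : Type*} [Group G] [Finite G] {p : ℕ} [Fact p.Prime] (S : Sylow p G) (𝓦 : Set (Subgroup G → Subgroup G)) (h𝓦 : ∀ W ∈ 𝓦, Cfsg.IsConjugacyFunctor p W) (hloc : ∀ T : Subgroup G, T ≤ (S : Subgroup G) → T ≠ ⊥ → ¬ p ∣ ((S : Subgroup G) ⊓ Subgroup.normalizer ((T : Subgroup G) : Set G)).relIndex (Subgroup.normalizer ((T : Subgroup G) : Set G)) → Cfsg.FamilyControlsStrongFusionIn p 𝓦 (Subgroup.normalizer ((T : Subgroup G) : Set G))) : Cfsg.FamilyControlsStrongFusionIn p 𝓦 ⊤ := by
  have hS := sylowIn_top S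
  have hl : ∀ T : Subgroup G, T ≠ ⊥ → T ≤ S → SylowIn p (normalizerIn S T) (Subgroup.normalizer (T : Set G)) →
      SFC (FamN 𝓦 (Subgroup.normalizer (T : Set G)) (normalizerIn S T))
        (Subgroup.normalizer (T : Set G)) (normalizerIn S T) := fun T hb hT h =>
    (fsfc_iff h𝓦 h).1 (hloc T hT hb h.not_dvd_relIndex)
  refine (fsfc_iff h𝓦 hS).2 (sfc_of_sub (fun n ⟨W, hW, hn⟩ => ⟨W, hW, Subgroup.inv_mem _ hn⟩)
    (fun s hs => ?_) le_top fun E hE => (gc_iff le_top).1 (fam_control h𝓦 hS
      (fun W hW n hn => hE n ⟨W, hW, trivial, hn⟩) fun T hb hT h ih n hn B hB e =>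
        (hl T hb hT h).mor normalizerIn_le (fun n ⟨W, hW, hn⟩ => ih W hW n hn.2) hB hn e))
  rcases 𝓦.eq_empty_or_nonempty with rfl | ⟨W, hW⟩
  · rcases eq_or_ne (S : Subgroup G) ⊥ with hb | hb
    · exact Or.inr (by rw [hb] at hs; rw [Subgroup.mem_bot.1 hs]; exact one_mem _)
    have e : normalizerIn (S : Subgroup G) S = S := inf_eq_left.2 Subgroup.le_normalizer
    have := hl S hb le_rfl (e.symm ▸ hS.of_le Subgroup.le_normalizer le_top)
    rw [e] at this
    obtain ⟨c, h1, h2⟩ := this S le_rfl s (Subgroup.le_normalizer hs)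
      fun a ha => mul_mem (mul_mem hs ha) (inv_mem hs)
    obtain rfl : c = 1 := Subgroup.mem_bot.1 (h1.mem_subgroup fun n ⟨_, h, _⟩ => h.elim)
    exact Or.inr (mem_centralizerIn.2 ⟨hs, fun x hx => by simpa using (h2 x hx).symm⟩)
  · exact Or.inl ⟨W, hW, trivial, cf_normalizer (h𝓦 W hW) hS.pgroup (Subgroup.le_normalizer hs)⟩

end Cfsg.Agent.S1959
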