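import Cfsg.Statements.S1960
import Cfsg.Agent.Lib.Fusion.CFun2

set_option autoImplicit false
open Cfsg

namespace Cfsg.Agent.S1960

open Fusion Cfsg.FusionSystem

/-- Let p be a prime, G a finite group with Sylow p-subgroup S, and 𝓦 a set of conjugacy functors for p on G. Suppose that 𝓦 controls transfer in N_G(T) for every nonidentity subgroup T of S for which N_S(T) is a Sylow p-subgroup of N_G(T): for a Sylow p-subgroup T' of N_G(T), the intersection of T' with the derived subgroup of N_G(T) is generated by its intersections with the derived subgroups of the normalizers in N_G(T) of the W(T'), W ∈ 𝓦. Then 𝓦 controls transfer in G: S ∩ G' is generated by the subgroups S ∩ (N_G(W(S)))', W ∈ 𝓦. -/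
theorem result {G : Type*} [Group G] [Finite G] {p : ℕ} [Fact p.Prime] (S : Sylow p G) (𝓦 : Set (Subgroup G → Subgroup G)) (h𝓦 : ∀ W ∈ 𝓦, Cfsg.IsConjugacyFunctor p W) (hloc : ∀ T : Subgroup G, T ≤ (S : Subgroup G) → T ≠ ⊥ → ¬ p ∣ ((S : Subgroup G) ⊓ Subgroup.normalizer ((T : Subgroup G) : Set G)).relIndex (Subgroup.normalizer ((T : Subgroup G) : Set G)) → Cfsg.FamilyControlsTransferIn p 𝓦 (Subgroup.normalizer ((T : Subgroup G) : Set G))) : Cfsg.FamilyControlsTransferIn p 𝓦 ⊤ := by
  have hS := sylowIn_top S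
  have hl : ∀ T : Subgroup G, T ≠ ⊥ → T ≤ S → SylowIn p (normalizerIn S T) (Subgroup.normalizer (T : Set G)) →
      _ ≤ _ := fun T hb hT h => (fct_iff h𝓦 h).1 (hloc T hT hb h.not_dvd_relIndex)
  have hD : ⁅(S : Subgroup G), (S : Subgroup G)⁆ ≤ famFoc 𝓦 ⊤ S := by
    rcases eq_or_ne (S : Subgroup G) ⊥ with hb | hb
    · simp [hb]
    have e : normalizerIn (S : Subgroup G) S = S := inf_eq_left.2 Subgroup.le_normalizer
    have := hl S hb le_rfl (e.symm ▸ hS.of_le Subgroup.le_normalizer le_top)
    rw [e] at this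
    refine (le_inf (Subgroup.commutator_le_self _) (Subgroup.commutator_mono Subgroup.le_normalizer
      Subgroup.le_normalizer)).trans (this.trans (iSup₂_mono fun W _ => inf_le_inf_left _ ?_))
    exact Subgroup.commutator_mono (inf_le_inf_right _ le_top) (inf_le_inf_right _ le_top)
  refine (fct_iff h𝓦 hS).2 ((gc_foc_iff (h := hD) hS le_rfl).1 (fam_control h𝓦 hS
    (fun W hW => (gc_foc_iff (hS.of_le (Subgroup.le_normalizer.trans
      (cf_normalizer (h𝓦 W hW) hS.pgroup)) le_top) le_rfl).2 (le_iSup₂_of_le W hW (by simp)))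
    fun T hb hT h ih => (gc_foc_iff h normalizerIn_le).2 ((hl T hb hT h).trans
      (iSup₂_le fun W hW => (gc_foc_iff (h.of_le (le_inf h.le (Subgroup.le_normalizer.trans
        (cf_normalizer (h𝓦 W hW) h.pgroup))) inf_le_left) normalizerIn_le).1
          ((ih W hW).mono le_rfl inf_le_right)))))

end Cfsg.Agent.S1960
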