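import Cfsg.Statements.S1961
import Cfsg.Agent.Lib.Fusion.CFun2

set_option autoImplicit false
open Cfsg

namespace Cfsg.Agent.S1961

open Fusion Cfsg.FusionSystem

/-- Local-to-global control of strong fusion through well-placed subgroups. Let p be a prime, G a finite group with Sylow p-subgroup S, and W a conjugacy functor for p on G. If W controls strong fusion in N_G(T) for every nonidentity subgroup T of S that is well placed in S with respect to W, then W controls strong fusion in G. -/
theorem result {G : Type*} [Group G] [Finite G] {p : ℕ} [Fact p.Prime] (S : Sylow p G) (W : Subgroup G → Subgroup G) (hW : Cfsg.IsConjugacyFunctor p W) (hloc : ∀ T : Subgroup G, T ≠ ⊥ → Cfsg.IsWellPlaced p W (S : Subgroup G) T → Cfsg.ControlsStrongFusionIn p W (Subgroup.normalizer ((T : Subgroup G) : Set G))) : Cfsg.ControlsStrongFusionIn p W ⊤ := by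
  have hS := sylowIn_top S
  have h1 : (S : Subgroup G) ≤ Subgroup.normalizer (W S : Set G) :=
    Subgroup.le_normalizer.trans (cf_normalizer hW hS.pgroup)
  refine (csf_iff hW hS).2 fun A hA g hg e => ?_
  obtain ⟨-, -, n, hn, e'⟩ := mor_subgroup_iff.1 (wp_control (E := fusionSystemOfSubgroup _ _ h1) hW hS
    (fun n hn B hB e => mor_sub_conj h1 hB hn e) (fun T hb hT ih n hn B hB e => by
      obtain ⟨m, hm, e'⟩ := (csf_iff hW (wp_sylow hS.pgroup hT)).1 (hloc T hb hT) B hB n hn e
      exact (ih m hm.2 B hB fun x hx => e' x hx ▸ e x hx).congr e') g hg A hA e)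
  exact ⟨n, ⟨trivial, hn⟩, fun a ha => (e' a ha).symm⟩

end Cfsg.Agent.S1961
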