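import Cfsg.Statements.S1962
import Cfsg.Agent.Lib.Fusion.CFun2

set_option autoImplicit false
open Cfsg

namespace Cfsg.Agent.S1962

open Fusion Cfsg.FusionSystem

/-- Local-to-global control of transfer through well-placed subgroups. Let p be a prime, G a finite group with Sylow p-subgroup S, and W a conjugacy functor for p on G. If W controls transfer in N_G(T) for every nonidentity subgroup T of S that is well placed in S with respect to W, then W controls transfer in G: S ∩ G' = S ∩ (N_G(W(S)))'. -/
theorem result {G : Type*} [Group G] [Finite G] {p : ℕ} [Fact p.Prime] (S : Sylow p G) (W : Subgroup G → Subgroup G) (hW : Cfsg.IsConjugacyFunctor p W) (hloc : ∀ T : Subgroup G, T ≠ ⊥ → Cfsg.IsWellPlaced p W (S : Subgroup G) T → Cfsg.ControlsTransferIn p W (Subgroup.normalizer ((T : Subgroup G) : Set G))) : Cfsg.ControlsTransferIn p W ⊤ := by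
  have hS := sylowIn_top S
  have h1 : (S : Subgroup G) ≤ Subgroup.normalizer (W S : Set G) :=
    Subgroup.le_normalizer.trans (cf_normalizer hW hS.pgroup)
  refine (ct_iff hW hS).2 ((gc_foc_iff (h := Subgroup.commutator_mono (le_inf le_top h1)
    (le_inf le_top h1)) hS le_rfl).1 (wp_control hW hS
      ((gc_foc_iff (hS.of_le h1 le_top) le_rfl).2 (by simp)) fun T hb hT ih => ?_))
  have h := wp_sylow hS.pgroup hT
  exact (gc_foc_iff h normalizerIn_le).2 ((le_inf inf_le_left ((ct_iff hW h).1 (hloc T hb hT))).trans
    ((gc_foc_iff (h.of_le (le_inf h.le (Subgroup.le_normalizer.trans (cf_normalizer hW h.pgroup)))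
      inf_le_left) normalizerIn_le).1 (ih.mono le_rfl inf_le_right)))

end Cfsg.Agent.S1962
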