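import Cfsg.Statements.S1966
import Cfsg.Agent.Lib.Fusion.CFun2

set_option autoImplicit false
open Cfsg

namespace Cfsg.Agent.S1966

open Fusion Cfsg.FusionSystem

/-- Let p be a prime, G a finite group with Sylow p-subgroup S and 𝓕 a conjugation family for S in G. Then the members of 𝓕 containing O_p(G) still form a conjugation family for S in G. -/
theorem result {G : Type*} [Group G] [Finite G] {p : ℕ} [Fact p.Prime] (S : Sylow p G) (𝓕 : Set (Subgroup G)) (h : Cfsg.IsConjugationFamily 𝓕 (S : Subgroup G)) : Cfsg.IsConjugationFamily {T : Subgroup G | T ∈ 𝓕 ∧ Cfsg.pCore p G ≤ T} (S : Subgroup G) := by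
  refine ⟨fun T hT => h.1 T hT.1, fun A g hA h1 h2 => ?_⟩
  have hn := pCore_normal p G
  have hO : pCore p G ≤ S := (pCore_pgroup G).le_sylow_of_normal S
  obtain ⟨n, T, x, a1, a2, a3, a4, a5⟩ := h.2 (A ∪ pCore p G) g hA.inl (Set.union_subset h1 hO) (by
    rintro _ ⟨a, ha | ha, rfl⟩
    exacts [h2 ⟨a, ha, rfl⟩, hO (hn.conj_mem' a ha g)])
  refine ⟨n, T, x, a1, fun ⟨i, hi⟩ => ⟨a2 _, fun a ha => ?_⟩, a3,
    fun h => Set.subset_union_left.trans (a4 h),
    fun i h => (Set.image_mono Set.subset_union_left).trans (a5 i h)⟩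
  cases i with
  | zero => exact a4 hi (Or.inr ha)
  | succ i => exact a5 ⟨i, by omega⟩ hi ⟨_, Or.inr (hn.conj_mem a ha
      ((List.ofFn x).take (i + 1)).prod), by simp [mul_assoc]⟩

end Cfsg.Agent.S1966
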