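import Cfsg.Statements.S1968
import Cfsg.Agent.Lib.Fusion.CFun2

set_option autoImplicit false
open Cfsg

namespace Cfsg.Agent.S1968

open Fusion Cfsg.FusionSystem

/-- Let p be a prime, G a finite group with Sylow p-subgroup S and W a conjugacy functor for p on G with Z(P) ≤ W(P) for every p-subgroup P. Let A be a subgroup of Z(S) normalized by N_G(W(S)) that is not weakly closed in S with respect to G. Then there is a subgroup T of S, well placed in S with respect to W, such that: A ≤ T; N_G(W(N_S(T))) normalizes A; N_S(T) is a Sylow p-subgroup of N_G(T); A ≤ Z(N_S(T)); and A is not weakly closed in N_S(T) with respect to N_G(T), that is, some N_G(T)-conjugate of A other than A lies in N_S(T). -/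
theorem result {G : Type*} [Group G] [Finite G] {p : ℕ} [Fact p.Prime] (S : Sylow p G) (W : Subgroup G → Subgroup G) (hW : Cfsg.IsConjugacyFunctor p W) (hWZ : ∀ P : Subgroup G, IsPGroup p ↥P → P ⊓ Subgroup.centralizer (P : Set G) ≤ W P) (A : Subgroup G) (hAZ : A ≤ (S : Subgroup G) ⊓ Subgroup.centralizer ((S : Subgroup G) : Set G)) (hAN : Subgroup.normalizer ((W (S : Subgroup G) : Subgroup G) : Set G) ≤ Subgroup.normalizer ((A : Subgroup G) : Set G)) (hnwc : ¬ Cfsg.IsWeaklyClosed A (S : Subgroup G)) : ∃ T : Subgroup G, Cfsg.IsWellPlaced p W (S : Subgroup G) T ∧ A ≤ T ∧ Subgroup.normalizer ((W ((S : Subgroup G) ⊓ Subgroup.normalizer ((T : Subgroup G) : Set G)) : Subgroup G) : Set G) ≤ Subgroup.normalizer ((A : Subgroup G) : Set G) ∧ ¬ p ∣ ((S : Subgroup G) ⊓ Subgroup.normalizer ((T : Subgroup G) : Set G)).relIndex (Subgroup.normalizer ((T : Subgroup G) : Set G)) ∧ A ≤ Subgroup.centralizer (((S : Subgroup G) ⊓ Subgroup.normalizer ((T : Subgroup G) : Set G) : Subgroup G) : Set G) ∧ ∃ g ∈ Subgroup.normalizer ((T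 : Subgroup G) : Set G), A.map (MulAut.conj g).toMonoidHom ≤ (S : Subgroup G) ⊓ Subgroup.normalizer ((T : Subgroup G) : Set G) ∧ A.map (MulAut.conj g).toMonoidHom ≠ A := by
  have hS := sylowIn_top S
  have hA : A ≤ S := hAZ.trans inf_le_left
  by_contra hc
  have key : ∀ T, T ≠ ⊥ → IsWellPlaced p W S T → A ≤ T →
      Subgroup.normalizer (T : Set G) ≤ Subgroup.normalizer (A : Set G) := fun T hb hT =>
    wp_induction (C := fun T => A ≤ T →
      Subgroup.normalizer (T : Set G) ≤ Subgroup.normalizer (A : Set G)) hW hS.pgroup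
      (fun T hb hT ih hAT n hn => by
        have h1 : A ≤ Subgroup.centralizer (normalizerIn (S : Subgroup G) T : Set G) :=
          hAZ.trans (inf_le_right.trans (Subgroup.centralizer_le normalizerIn_le))
        by_contra h2
        refine hc ⟨T, hT, hAT, ?_, hT.2 0, h1, n, hn, ?_,
          fun e => h2 (Subgroup.mem_normalizer_iff_map_conj_eq.2 e)⟩
        · rcases eq_or_ne (normalizerIn (S : Subgroup G) T) S with e | e
          · exact (show S.1 ⊓ Subgroup.normalizer (T : Set G) = S.1 from e).symm ▸ hAN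
          · exact ih e ((le_inf (hAT.trans (le_normalizerIn hT.1)) h1).trans
              (hWZ _ (pgroup_of_le hS.pgroup normalizerIn_le)))
        · rintro _ ⟨a, ha, rfl⟩
          exact le_normalizerIn hT.1 (conj_mem_of_mem_normalizer hn (hAT ha))) hb hT
  refine hnwc ⟨hA, fun g e => Subgroup.mem_normalizer_iff_map_conj_eq.1 ?_⟩
  have := wp_cf hW hS hA (g := g) fun a ha => e ⟨a, ha, rfl⟩
  clear e
  induction this with
  | one => exact one_mem _
  | @step c n T _ h1 h2 h3 ih =>
    have h4 : A ≤ T := fun a ha => by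
      simpa [mul_assoc] using h3 _ (conj_mem_of_mem_normalizer (inv_mem ih) ha)
    rcases eq_or_ne T ⊥ with rfl | hb
    · rw [le_bot_iff.1 h4, Subgroup.normalizer_eq_top]; trivial
    · exact mul_mem (key T hb h1 h4 h2) ih

end Cfsg.Agent.S1968
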