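import Cfsg.Statements.S1971
import Cfsg.Agent.Lib.Fusion.KFoc2

set_option autoImplicit false
universe u
open Cfsg

namespace Cfsg.Agent.S1971

open Fusion

/-- Let p be a prime, G a finite group with nontrivial Sylow p-subgroup S, and W an isomorphism-invariant p-group functor (W assigns to every group Q a subgroup W(Q), nontrivial whenever Q is a nontrivial finite p-group, and every isomorphism from a finite p-group Q onto a group R carries W(Q) onto W(R)) that controls transfer in every section of G. If N_G(S)/C_G(S) is a p-group (every element of N_G(S) of order prime to p centralizes S), then G has a normal subgroup of index p. -/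
theorem result {G : Type u} [Group G] [Finite G] {p : ℕ} [Fact p.Prime] (W : ∀ (Q : Type u) [Group Q], Subgroup Q) (hW : Cfsg.IsCharPFunctor.{u} p W) (hctl : ∀ (K R : Subgroup G) [hR : (R.subgroupOf K).Normal], Cfsg.ControlsTransferIn p (Cfsg.inducedFunctor (G := (↥K ⧸ R.subgroupOf K)) W) ⊤) (S : Sylow p G) (hS : (S : Subgroup G) ≠ ⊥) (hN : ∀ g ∈ Subgroup.normalizer (((S : Subgroup G) : Subgroup G) : Set G), (orderOf g).Coprime p → g ∈ Subgroup.centralizer ((S : Subgroup G) : Set G)) : ∃ N : Subgroup G, N.Normal ∧ N.index = p := by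
  have h𝓦 : ∀ V ∈ ({W} : Set _), IsCharPFunctor p V := fun _ h => h ▸ hW
  exact exists_index_of_foc_lt S (foc_group S ▸ foc_lt hW (fam_foc_sec h𝓦 (sec_all (G := G)
    (C := fun L _ => FCT p {W} L) (FCT.equiv h𝓦) fun K R _ => (fct_single hW).2 (hctl K R))) _
    S.isPGroup' (group_saturated S) (group_Free (sylowIn_top S) involves_refl) hS
    (hasN_inner_of_aut S.isPGroup' (group_saturated S) (aut_pgroup_of_cent le_rfl hN)))

end Cfsg.Agent.S1971
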