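import Cfsg.Statements.S1981
import Cfsg.Agent.Lib.Fusion.KInf

set_option autoImplicit false
open Cfsg

namespace Cfsg.Agent.S1981

open KInf MS

/-- Let P be a finite p-group generated by its abelian normal subgroups. Then both K-infinity subgroups of P equal P. -/
theorem result {P : Type*} [Group P] [Finite P] {p : ℕ} [Fact p.Prime] (hP : IsPGroup p P) (hgen : ⨆ A ∈ {A : Subgroup P | A.Normal ∧ IsMulCommutative ↥A}, A = ⊤) : Cfsg.kInfLower P = ⊤ ∧ Cfsg.kInfUpper P = ⊤ := by
  refine ⟨eq_top_iff.2 (hgen.ge.trans (iSup₂_le fun A h => ?_)),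
    eq_top_iff.2 (hgen.ge.trans (iSup₂_le fun A h => le_iInf fun n => ?_))⟩
  · have := h.1
    exact (le_sSup (ab_low (ab_cc h.2) nn_normal)).trans (le_iSup (kSeqEven P) 0)
  · have := h.1
    cases n
    exacts [le_top, le_sSup (ab_up (ab_cc h.2) nn_normal)]

end Cfsg.Agent.S1981
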