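import Cfsg.Statements.S1985
import Cfsg.Agent.Lib.Fusion.WC2

set_option autoImplicit false
universe u
open Cfsg

namespace Cfsg.Agent.S1985

open Fusion Cfsg.FusionSystem

/-- Let p be an odd prime and G a finite group. Then the lower K-infinity subgroup controls weak closure of elements in G: the lower K-infinity subgroup of every p-subgroup P of G contains Z(P), and for some (equivalently, every) Sylow p-subgroup S of G, with K the lower K-infinity subgroup of S, every element of S commuting with all of N_G(K) is weakly closed in S with respect to G (every G-conjugate of it lying in S equals it). -/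
theorem result {G : Type u} [Group G] [Finite G] {p : ℕ} [Fact p.Prime] (hp : p ≠ 2) : Cfsg.ControlsWeakClosureOfElementsIn p (Cfsg.inducedFunctor (G := G) Cfsg.kInfLower) ⊤ := by
  obtain ⟨S⟩ : Nonempty (Sylow p G) := inferInstance
  refine ⟨fun P hP x hx => mem_ind.2 ⟨hx.1, center_le_lower' _ hP
    (Subgroup.mem_center_iff.2 fun t => Subtype.ext (hx.2 t t.2))⟩, S, le_top, S.2,
    (sylowIn_top S).not_dvd_relIndex, fun x hx g _ => ((quadF_lower.cenF hp).weak.{u, 0}
      KInf.lower_char center_le_lower' S free_false hx.1 (by simpa using hx.2) g)⟩

end Cfsg.Agent.S1985
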