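import Cfsg.Statements.S2001
import Cfsg.Agent.Lib.Fusion.CFun3

set_option autoImplicit false
open Cfsg

namespace Cfsg.Agent.S2001

open Cfsg.Agent.Fusion Cfsg.FusionSystem

/-- Let p be a prime dividing the order of the finite group G, P a Sylow p-subgroup, W a conjugacy functor for p on G with Z(H) ≤ W(H) for every nontrivial p-subgroup H, and V a central functor: a conjugacy functor with V(H) ≤ Z(H), and V(H) ≤ V(K) whenever Z(H) ≤ Z(K), for nontrivial p-subgroups H, K. Say that W with V controls transfer in a subgroup L when some Sylow p-subgroup Q of L satisfies Q ∩ L' = (Q ∩ (N_L(W(Q)))')·(Q ∩ (C_L(V(Q)))') as a product of two subgroups. If W with V controls transfer in N_G(H) for every subgroup H with Z(P) ≤ H ≤ P, then W with V controls transfer in G. -/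
theorem result {G : Type*} [Group G] [Finite G] {p : ℕ} [Fact p.Prime] (hdiv : p ∣ Nat.card G) (P : Sylow p G) (W V : Subgroup G → Subgroup G) (hW : Cfsg.IsConjugacyFunctor p W) (hV : Cfsg.IsConjugacyFunctor p V) (hWZ : ∀ H : Subgroup G, IsPGroup p ↥H → H ⊓ Subgroup.centralizer ((H : Subgroup G) : Set G) ≤ W H) (hVZ : ∀ H : Subgroup G, IsPGroup p ↥H → V H ≤ H ⊓ Subgroup.centralizer ((H : Subgroup G) : Set G)) (hVmono : ∀ H K : Subgroup G, IsPGroup p ↥H → IsPGroup p ↥K → H ≠ ⊥ → K ≠ ⊥ → H ⊓ Subgroup.centralizer ((H : Subgroup G) : Set G) ≤ K ⊓ Subgroup.centralizer ((K : Subgroup G) : Set G) → V H ≤ V K) (hloc : ∀ H : Subgroup G, (P : Subgroup G) ⊓ Subgroup.centralizer (((P : Subgroup G) : Subgroup G) : Set G) ≤ H → H ≤ (P : Subgroup G) → ∃ Q : Subgroup G, Q ≤ Subgroup.normalizer ((H : Subgroup G) : Set G) ∧ IsPGroup p ↥Q ∧ ¬ p ∣ (Q).relIndex (Subgroup.normalizer ((H : Subgroup G) : Set G)) ∧ ∀ x : G, x ∈ Q ⊓ ⁅Subgroup.normalizer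 ((H : Subgroup G) : Set G), Subgroup.normalizer ((H : Subgroup G) : Set G)⁆ ↔ ∃ a ∈ Q ⊓ ⁅Subgroup.normalizer ((H : Subgroup G) : Set G) ⊓ Subgroup.normalizer ((W Q : Subgroup G) : Set G), Subgroup.normalizer ((H : Subgroup G) : Set G) ⊓ Subgroup.normalizer ((W Q : Subgroup G) : Set G)⁆, ∃ b ∈ Q ⊓ ⁅Subgroup.normalizer ((H : Subgroup G) : Set G) ⊓ Subgroup.centralizer ((V Q : Subgroup G) : Set G), Subgroup.normalizer ((H : Subgroup G) : Set G) ⊓ Subgroup.centralizer ((V Q : Subgroup G) : Set G)⁆, x = a * b) : ∃ Q : Subgroup G, IsPGroup p ↥Q ∧ ¬ p ∣ Q.index ∧ ∀ x : G, x ∈ Q ⊓ commutator G ↔ ∃ a ∈ Q ⊓ ⁅Subgroup.normalizer ((W Q : Subgroup G) : Set G), Subgroup.normalizer ((W Q : Subgroup G) : Set G)⁆, ∃ b ∈ Q ⊓ ⁅Subgroup.centralizer ((V Q : Subgroup G) : Set G), Subgroup.centralizer ((V Q : Subgroup G) : Set G)⁆, x = a * b := by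
  have hS := sylowIn_top P
  have hb : (P : Subgroup G) ≠ ⊥ := P.ne_bot_of_dvd_card hdiv
  have hN : (P : Subgroup G) ≤ Subgroup.normalizer (W P : Set G) :=
    Subgroup.le_normalizer.trans (cf_normalizer hW hS.pgroup)
  have hC : (P : Subgroup G) ≤ Subgroup.centralizer (V P : Set G) := fun x hx y hy =>
    ((hVZ _ hS.pgroup hy).2 x hx).symm
  have hD : ⁅(P : Subgroup G), (P : Subgroup G)⁆ ≤ (P : Subgroup G) ⊓ ⁅Subgroup.normalizer (W P : Set G),
      Subgroup.normalizer (W P : Set G)⁆ ⊔ (P : Subgroup G) ⊓ ⁅Subgroup.centralizer (V P : Set G),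
        Subgroup.centralizer (V P : Set G)⁆ :=
    (le_inf (Subgroup.commutator_le_self _) (Subgroup.commutator_mono hN hN)).trans le_sup_left
  have h1 := (gc_foc_iff (h := hD) hS le_rfl).1 (wpz_control hW hWZ hS hb
    ((gc_foc_iff (hS.of_le hN le_top) le_rfl).2 le_sup_left) fun T hz hT ih => by
      have h2 := wp_sylow hS.pgroup hT
      obtain ⟨U, u1, u2, u3, h⟩ := hloc T hz hT.1
      obtain ⟨c, hc, e⟩ := h2.exists_conj_eq (sylowIn_of_not_dvd_relIndex u1 u2 u3)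
      have m : ∀ a ∈ U, c * a * c⁻¹ ∈ normalizerIn P T := fun a ha => e ▸ ⟨a, ha, rfl⟩
      refine (gc_foc_iff h2 normalizerIn_le).2 fun x hx => ?_
      obtain ⟨a, ha, b, hb', eq⟩ := (h (c⁻¹ * x * c⁻¹⁻¹)).1 ⟨by
        rw [inv_inv]; exact mem_map_conj.1 (e.ge hx.1), conj_mem_comm (fun n hn =>
          mul_mem (mul_mem (inv_mem hc) hn) (inv_mem (inv_mem hc))) hx.2⟩
      rw [show x = c * a * c⁻¹ * (c * b * c⁻¹) by
        rw [show c * a * c⁻¹ * (c * b * c⁻¹) = c * (a * b) * c⁻¹ by group, ← eq]; group]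
      refine mul_mem ((gc_foc_iff (h2.of_le (le_inf h2.le (Subgroup.le_normalizer.trans
        (cf_normalizer hW h2.pgroup))) inf_le_left) normalizerIn_le).1 (ih.mono le_rfl inf_le_right)
        ⟨m a ha.1, conj_mem_comm (K := Subgroup.normalizer (T : Set G) ⊓ Subgroup.normalizer (W U : Set G))
          (fun n hn => Subgroup.mem_inf.2 ⟨Subgroup.mul_mem _ (Subgroup.mul_mem _ hc hn.1)
          (Subgroup.inv_mem _ hc), e ▸ mem_cf_conj hW u2 hn.2⟩) ha.2⟩) (Subgroup.mem_sup_right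
        ⟨(m b hb'.1).1, conj_mem_comm (fun n hn => cent_V_le hVmono hS.pgroup hb
          (hz.trans (le_normalizerIn hT.1)) normalizerIn_le (e ▸ mem_cf_cent hV u2 hn.2)) hb'.2⟩))
  refine ⟨P, hS.pgroup, P.not_dvd_index, fun x => ⟨fun hx => ?_, ?_⟩⟩
  · have k : (P : Subgroup G) ≤ Subgroup.normalizer (((P : Subgroup G) ⊓ ⁅Subgroup.centralizer (V P : Set G),
        Subgroup.centralizer (V P : Set G)⁆ : Subgroup G) : Set G) := fun s hs => mem_normalizer_of_finite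
      fun y hy => Subgroup.mem_inf.2 ⟨Subgroup.mul_mem _ (Subgroup.mul_mem _ hs hy.1) (Subgroup.inv_mem _ hs),
        conj_mem_comm (fun n hn => mul_mem (mul_mem (hC hs) hn) (inv_mem (hC hs))) hy.2⟩
    obtain ⟨a, ha, b, hb, e⟩ := (mem_sup_of_le_normalizer (inf_le_left.trans k)).1 (h1 hx)
    exact ⟨a, ha, b, hb, e.symm⟩
  · rintro ⟨a, ha, b, hb, rfl⟩
    exact ⟨Subgroup.mul_mem _ ha.1 hb.1, Subgroup.mul_mem _ (Subgroup.commutator_mono le_top le_top ha.2)
      (Subgroup.commutator_mono le_top le_top hb.2)⟩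

end Cfsg.Agent.S2001
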