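import Cfsg.Statements.S2002
import Cfsg.Agent.Lib.Fusion.CFun3

set_option autoImplicit false
open Cfsg

namespace Cfsg.Agent.S2002

open Cfsg.Agent.Fusion Cfsg.FusionSystem

/-- Let p be a prime dividing the order of the finite group G, P a Sylow p-subgroup, W a conjugacy functor for p on G with Z(H) ≤ W(H) for every nontrivial p-subgroup H, and V a central functor (a conjugacy functor with V(H) ≤ Z(H), and V(H) ≤ V(K) whenever Z(H) ≤ Z(K)). Say that W with V controls strong fusion in a subgroup L when some Sylow p-subgroup Q of L has the property: whenever X ⊆ Q and a ∈ L with a⁻¹Xa ⊆ Q, then a = c b with c ∈ C_L(X) and b = b₁ ⋯ bₙ a product of elements each in N_L(W(Q)) or in C_L(V(Q)) such that every partial conjugate (b₁ ⋯ bₖ)⁻¹ X (b₁ ⋯ bₖ) lies in Q. If W with V controls strong fusion in N_G(H) for every subgroup H with Z(P) ≤ H ≤ P, then W with V controls strong fusion in G. -/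
theorem result {G : Type*} [Group G] [Finite G] {p : ℕ} [Fact p.Prime] (hdiv : p ∣ Nat.card G) (P : Sylow p G) (W V : Subgroup G → Subgroup G) (hW : Cfsg.IsConjugacyFunctor p W) (hV : Cfsg.IsConjugacyFunctor p V) (hWZ : ∀ H : Subgroup G, IsPGroup p ↥H → H ⊓ Subgroup.centralizer ((H : Subgroup G) : Set G) ≤ W H) (hVZ : ∀ H : Subgroup G, IsPGroup p ↥H → V H ≤ H ⊓ Subgroup.centralizer ((H : Subgroup G) : Set G)) (hVmono : ∀ H K : Subgroup G, IsPGroup p ↥H → IsPGroup p ↥K → H ≠ ⊥ → K ≠ ⊥ → H ⊓ Subgroup.centralizer ((H : Subgroup G) : Set G) ≤ K ⊓ Subgroup.centralizer ((K : Subgroup G) : Set G) → V H ≤ V K) (hloc : ∀ H : Subgroup G, (P : Subgroup G) ⊓ Subgroup.centralizer (((P : Subgroup G) : Subgroup G) : Set G) ≤ H → H ≤ (P : Subgroup G) → ∃ Q : Subgroup G, Q ≤ Subgroup.normalizer ((H : Subgroup G) : Set G) ∧ IsPGroup p ↥Q ∧ ¬ p ∣ (Q).relIndex (Subgroup.normalizer ((H : Subgroup G) : Set G)) ∧ ∀ (X : Set G) (a : G), X ⊆ Q → a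 ∈ Subgroup.normalizer ((H : Subgroup G) : Set G) → (fun x => a⁻¹ * x * a) '' X ⊆ Q → ∃ c ∈ Subgroup.normalizer ((H : Subgroup G) : Set G) ⊓ Subgroup.centralizer X, ∃ (n : ℕ) (b : Fin n → G), (∀ i, b i ∈ Subgroup.normalizer ((H : Subgroup G) : Set G) ⊓ Subgroup.normalizer ((W Q : Subgroup G) : Set G) ∨ b i ∈ Subgroup.normalizer ((H : Subgroup G) : Set G) ⊓ Subgroup.centralizer ((V Q : Subgroup G) : Set G)) ∧ a = c * (List.ofFn b).prod ∧ ∀ k : ℕ, k ≤ n → (fun x => (((List.ofFn b).take k).prod)⁻¹ * x * ((List.ofFn b).take k).prod) '' ((fun x => c⁻¹ * x * c) '' X) ⊆ Q) : ∃ Q : Subgroup G, IsPGroup p ↥Q ∧ ¬ p ∣ Q.index ∧ ∀ (X : Set G) (a : G), X ⊆ Q → (fun x => a⁻¹ * x * a) '' X ⊆ Q → ∃ c ∈ Subgroup.centralizer X, ∃ (n : ℕ) (b : Fin n → G), (∀ i, b i ∈ ⊤ ⊓ Subgroup.normalizer ((W Q : Subgroup G) : Set G) ∨ b i ∈ ⊤ ⊓ Subgroup.centralizer ((V Q : Subgroup G) : Set G)) ∧ a = c * (List.ofFn b).prod ∧ ∀ k : ℕ, k ≤ n → (fun x => (((List.ofFn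 b).take k).prod)⁻¹ * x * ((List.ofFn b).take k).prod) '' ((fun x => c⁻¹ * x * c) '' X) ⊆ Q := by
  have hS := sylowIn_top P
  have hb : (P : Subgroup G) ≠ ⊥ := P.ne_bot_of_dvd_card hdiv
  have h1 : SFC (NC2 W V ⊤ P) ⊤ P := sfc_of_sub (fun n h => h.inv) (fun s hs => .inl (.inl
    ⟨trivial, cf_normalizer hW hS.pgroup (Subgroup.le_normalizer hs)⟩)) le_top fun E hE =>
    (gc_iff le_top).1 (wpz_control hW hWZ hS hb (fun n hn => hE n (.inl ⟨trivial, hn⟩))
      fun T hz hT ih n hn B hB e' => by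
        have h2 := wp_sylow hS.pgroup hT
        obtain ⟨U, u1, u2, u3, h⟩ := hloc T hz hT.1
        obtain ⟨c, hc, e⟩ := h2.exists_conj_eq (sylowIn_of_not_dvd_relIndex u1 u2 u3)
        have h3 : SFC (NC2 W V (Subgroup.normalizer (T : Set G)) U) (Subgroup.normalizer (T : Set G)) U :=
          fun A hA g hg e => by
            obtain ⟨d, hd, k, b, b1, b2, b3⟩ := h A g⁻¹ hA (inv_mem hg) (by
              rintro _ ⟨a, ha, rfl⟩; simpa using e a ha)
            have hd' : ∀ a ∈ A, d⁻¹ * a * d = a := fun a ha => by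
              rw [mul_assoc, hd.2 a ha, inv_mul_cancel_left]
            refine ⟨_, Chain.of_list (List.ofFn b) (fun x hx => ?_) fun j hj a ha =>
              b3 j (by simpa using hj) ⟨a, ⟨a, ha, hd' a ha⟩, rfl⟩, fun a ha => ?_⟩
            · obtain ⟨i, rfl⟩ := (List.mem_ofFn' _ _).1 hx
              exact NC2.inv (b1 i)
            · rw [← inv_inv g, b2]
              conv_lhs => rw [← hd' a ha]
              group
        have h4 := h3.conj (𝒩' := NC2 W V ⊤ (normalizerIn P T)) hc fun n hn =>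
          hn.imp (fun hn => ⟨trivial, e ▸ mem_cf_conj hW u2 hn.2⟩)
            fun hn => ⟨trivial, e ▸ mem_cf_cent hV u2 hn.2⟩
        rw [e] at h4
        refine h4.mor normalizerIn_le (fun m hm C hC e'' => ?_) hB hn e'
        rcases hm with hm | hm
        · exact ih m hm.2 C hC e''
        · exact hE m (.inr ⟨trivial, cent_V_le hVmono hS.pgroup hb (hz.trans (le_normalizerIn hT.1))
            normalizerIn_le hm.2⟩) C (hC.trans normalizerIn_le) fun x hx => (e'' x hx).1)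
  refine ⟨P, hS.pgroup, P.not_dvd_index, fun X a hX e => ?_⟩
  obtain ⟨c, c1, c2⟩ := h1.set hX (g := a⁻¹) trivial fun x hx => by rw [inv_inv]; exact e ⟨x, hx, rfl⟩
  obtain ⟨l, l1, l2, l3⟩ := c1.list hX
  have hd : ∀ x ∈ X, (a * c)⁻¹ * x * (a * c) = x := fun x hx => by
    calc _ = c⁻¹ * (a⁻¹ * x * a⁻¹⁻¹) * c := by group
      _ = x := by rw [← c2 x hx]; group
  refine ⟨a * c, fun x hx => ?_, l.length, l.get, fun i => ?_, by rw [List.ofFn_get, l2]; group,
    fun k _ => ?_⟩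
  · conv_rhs => rw [← hd x hx]
    group
  · exact inv_inv (l.get i) ▸ (l1 _ (l.get_mem i)).inv
  · rw [List.ofFn_get]
    rintro _ ⟨_, ⟨x, hx, rfl⟩, rfl⟩
    simp only [hd x hx]
    exact l3 k x hx

end Cfsg.Agent.S2002
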