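import Cfsg.Statements.S2004
import Cfsg.Agent.Lib.Fusion.Qd2

set_option autoImplicit false
open Cfsg

namespace Cfsg.Agent.S2004

open Fusion Subgroup

/-- Let p be an odd prime and G a finite group such that SL₂(p) is not involved in N_G(P) for any nonidentity p-subgroup P of G. Then every section of G is p-stable in the normalizer form: in each section, whenever an element of the normalizer of a p-subgroup Q acts quadratically on Q, its image in N(Q)/C(Q) lies in O_p(N(Q)/C(Q)). -/
theorem result {G : Type*} [Group G] [Finite G] {p : ℕ} [Fact p.Prime] (hp : p ≠ 2) (h : ∀ P : Subgroup G, IsPGroup p ↥P → P ≠ ⊥ → ¬ Cfsg.Involves (Matrix.SpecialLinearGroup (Fin 2) (ZMod p)) ↥(Subgroup.normalizer ((P : Subgroup G) : Set G))) : ∀ (K R : Subgroup G) [hR : (R.subgroupOf K).Normal], Cfsg.IsNormalizerPStable p (↥K ⧸ R.subgroupOf K) := by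
  refine (Qd.free_iff hp).1 fun h' => ?_
  have h'' : Involves (qdOver (ZMod p)) G := h'
  obtain ⟨K, φ, U, h1, h2, h3⟩ := Qd.exists_cover h'' (V := Qd.lin.ker) Qd.ker_pgroup
  refine h (U.map K.subtype) (h1.map _) (fun e => ?_) (Involves.trans Qd.involves_sl2
    (Involves.of_injective (Involves.of_surjective involves_refl (φ.comp (normalizer (U : Set K)).subtype)
      fun q => (h3 q).elim fun k a => ⟨⟨k, a.1⟩, a.2⟩) ((K.subtype.comp (Subgroup.subtype _)).codRestrict _
        fun k => le_normalizer_map _ ⟨k.1, k.2, rfl⟩) fun a b e =>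
          Subtype.ext (Subtype.ext (Subtype.ext_iff.1 e :))))
  rw [Subgroup.map_eq_bot_iff_of_injective _ K.subtype_injective] at e
  rw [e, Subgroup.map_bot] at h2
  exact Qd.chief_ker.1.ne h2

end Cfsg.Agent.S2004
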