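import Cfsg.Statements.S2009
import Cfsg.Agent.Lib.Transfer.Basic

set_option autoImplicit false
open Cfsg

namespace Cfsg.Agent.S2009

open Subgroup

theorem key {H : Type*} [Group H] [Finite H] (z : H) (hN : ∀ N : Subgroup H, N.Normal → N ≠ ⊤ →
    N ⊓ Subgroup.centralizer ({z} : Set H) = ⊥) (E : Subgroup H) (hE : IsKleinFour ↥E)
    (hc : ∀ e ∈ E, e ≠ 1 → IsConj z e) (N : Subgroup H) (hn : N.Normal) (h : N ≠ ⊤) : N = ⊥ := by
  have h1 : ∀ e : E, e ≠ 1 → MonoidHom.FixedPointFree (MulAut.conjNormal (H := N) e.1) := fun e he n hn' => by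
    obtain ⟨g, hg⟩ := isConj_iff.1 (hc e e.2 (by simpa using he))
    have h2 : g⁻¹ * n * g ∈ N ⊓ centralizer {z} := ⟨by simpa using hn.conj_mem n n.2 g⁻¹, by
      have := congrArg Subtype.val hn'
      rw [MulAut.conjNormal_apply, ← hg] at this
      refine mem_centralizer_singleton_iff.2 ?_
      calc _ = g⁻¹ * (g * z * g⁻¹ * n * (g * z * g⁻¹)⁻¹) * g * z := by rw [this]
        _ = _ := by group⟩
    rw [hN N hn h, mem_bot] at h2
    exact Subtype.ext (by simpa [mul_eq_one_iff_eq_inv] using h2)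
  have h2 : ∀ e : E, e ≠ 1 → ∀ n, MulAut.conjNormal (H := N) e.1 n = n⁻¹ := fun e he n =>
    congrFun ((h1 e he).coe_eq_inv_of_involutive fun n => by
      rw [← MulAut.mul_apply, ← map_mul, ← coe_mul, IsKleinFour.mul_self, coe_one, map_one, MulAut.one_apply]) n
  obtain ⟨a, b, c, h3, h4, h5⟩ : ∃ a b : E, ∃ _ : a ≠ 1, b ≠ 1 ∧ a ≠ b ∧ True := by
    classical
    have := Fintype.ofFinite E
    obtain ⟨a, ha⟩ := (Finset.card_pos (s := ({1} : Finset E)ᶜ)).1 (by
      rw [Finset.card_compl, ← Nat.card_eq_fintype_card, hE.card_four]; simp)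
    obtain ⟨b, hb⟩ := (Finset.card_pos (s := ({1, a} : Finset E)ᶜ)).1 (by
      have := Finset.card_le_two (a := (1 : E)) (b := a)
      rw [Finset.card_compl, ← Nat.card_eq_fintype_card, hE.card_four]; omega)
    exact ⟨a, b, by simpa using ha, by simp_all, fun e => by simp_all, trivial⟩
  refine eq_bot_iff.2 fun n hn' => mem_bot.2 (congrArg Subtype.val (h1 (a * b) (fun e => h4 ?_) ⟨n, hn'⟩ ?_))
  · rw [eq_inv_of_mul_eq_one_left e, IsKleinFour.inv_eq_self]
  · rw [coe_mul, map_mul, MulAut.mul_apply, h2 b h3, h2 a c, inv_inv]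

/-- Let H be a finite group and z an involution such that every proper normal subgroup of H meets the centralizer of z trivially, and suppose z lies in a Klein four-subgroup E of H all three of whose involutions are conjugate to z in H. Then H is simple. -/
theorem result {H : Type*} [Group H] [Finite H] (z : H) (hz : orderOf z = 2) (hN : ∀ N : Subgroup H, N.Normal → N ≠ ⊤ → N ⊓ Subgroup.centralizer ({z} : Set H) = ⊥) (E : Subgroup H) (hE : IsKleinFour ↥E) (hzE : z ∈ E) (hc : ∀ e ∈ E, e ≠ 1 → IsConj z e) : IsSimpleGroup H := by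
  have : Nontrivial H := ⟨z, 1, fun e => by simp [e] at hz⟩
  exact ⟨fun N hn => or_iff_not_imp_right.2 (key z hN E hE hc N hn)⟩

end Cfsg.Agent.S2009
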