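import Cfsg.Statements.S2011
import Cfsg.Agent.Lib.Fusion.AlpG
import Cfsg.Agent.Lib.Fusion.Group

set_option autoImplicit false
open Cfsg

namespace Cfsg.Agent.S2011

open Subgroup Transfer

/-- Let G be a finite group with Sylow p-subgroup P and Q ≤ P. Then Q is centric in the fusion system of G on P (C_P(R) ≤ R for every G-conjugate R of Q lying in P) if and only if C_G(Q) is the internal direct product of Z(Q) = Q ∩ C_G(Q) and the largest normal subgroup of C_G(Q) of order prime to p. -/
theorem result {G : Type*} [Group G] [Finite G] (p : ℕ) [Fact p.Prime] (P : Sylow p G) (Q : Subgroup G) (hQ : Q ≤ P) : (Cfsg.groupFusionSystem (P : Subgroup G)).IsCentric Q ↔ Cfsg.IsInternalDirectProduct (Q ⊓ Subgroup.centralizer (Q : Set G)) ((Cfsg.pPrimeCore p ↥(Subgroup.centralizer (Q : Set G))).map (Subgroup.centralizer (Q : Set G)).subtype) (Subgroup.centralizer (Q : Set G)) := by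
  have hQp := P.2.to_le hQ
  constructor
  · intro h
    have h1 : IsSyl p (Q ⊓ centralizer (Q : Set G)) (centralizer (Q : Set G)) :=
      isSyl_of_maximal (hQp.to_le inf_le_left) inf_le_right fun R hR h1 _ => by
        obtain ⟨g, hg⟩ := exists_cj_le_sylow P (hR.to_sup_of_normal_right' hQp
          (h1.trans (centralizer_le_normalizer _)))
        refine le_inf (cj_le_cj_iff.1 (le_trans (le_inf ((cj_mono g le_sup_left).trans hg) ?_)
          (h.2 (cj g Q) (Fusion.isConj_iff.2 ⟨_, Fusion.mor_group_iff.2 ⟨hQ, fun x hx =>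
            hg (conj_mem_cj (mem_sup_right hx)), g, fun _ _ => rfl⟩, Fusion.img_conj g Q⟩)))) h1
        exact cj_centralizer g Q ▸ cj_mono g h1
    exact ⟨inf_le_right, map_subtype_le _, fun a ha b hb => map_subtype_le _ hb a ha.1,
      inf_eq_bot_of_coprime' h1.pgroup (Solv.coprime_card_map_subtype_pPrimeCore _),
      h1.central_split fun c hc x hx => hc x hx.1⟩
  · rintro ⟨-, h1, h2, -, h3⟩
    have h4 : IsSyl p (Q ⊓ centralizer (Q : Set G)) (centralizer (Q : Set G)) := ⟨inf_le_right,
      hQp.to_le inf_le_left, fun h => by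
        nth_rw 2 [← h3] at h
        rw [sup_comm, relIndex_sup_of_le_normalizer (fun c hc => centralizer_le_normalizer _
          fun x hx => h2 x hx c hc)] at h
        exact (Fact.out : p.Prime).coprime_iff_not_dvd.1 (Solv.coprime_card_map_subtype_pPrimeCore _).symm
          (h.trans (relIndex_dvd_card _ _))⟩
    refine ⟨hQ, fun R hR => ?_⟩
    obtain ⟨f, hf, rfl⟩ := Fusion.isConj_iff.1 hR
    obtain ⟨-, -, g, hg⟩ := Fusion.mor_group_iff.1 hf
    rw [Fusion.img_congr hg, Fusion.img_conj]
    have h5 : (P : Subgroup G) ⊓ centralizer (cj g Q : Set G) ≤ cj g (centralizer (Q : Set G)) :=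
      cj_centralizer g Q ▸ inf_le_right
    refine le_trans ((h4.cj g).le_of_le_normalizer (P.2.to_le inf_le_left) h5 (h5.trans ?_))
      (cj_mono g inf_le_left)
    rw [← cj_normalizer]
    exact cj_mono g fun c hc => centralizer_le_normalizer _ fun x hx => hc x hx.1

end Cfsg.Agent.S2011
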