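import Cfsg.Statements.S2012
import Cfsg.Agent.Lib.Fusion.AlpG

set_option autoImplicit false
open Cfsg

namespace Cfsg.Agent.S2012

open Subgroup Transfer

/-- Alperin's fusion Theorem with the factors taken to be p-elements: let P be a Sylow p-subgroup of a finite group G, A a subset of P and g an element with g⁻¹Ag ⊆ P. Then g = x_1 ⋯ x_n where, for each i, Q_i is a Sylow p-subgroup with P ∩ Q_i a tame intersection (the normalizers in P and in Q_i of P ∩ Q_i are Sylow in N_G(P ∩ Q_i)), x_i normalizes P ∩ Q_i, x_i has p-power order unless Q_i = P, A ⊆ P ∩ Q_1, and (x_1 ⋯ x_i)⁻¹ A (x_1 ⋯ x_i) lies in P ∩ Q_{i+1} for i < n. -/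
theorem result {G : Type*} [Group G] [Finite G] {p : ℕ} [Fact p.Prime] (P : Sylow p G) (A : Set G) (g : G) (hA : A ⊆ (P : Set G)) (hAg : (fun a => g⁻¹ * a * g) '' A ⊆ (P : Set G)) : ∃ (n : ℕ) (Q : Fin n → Sylow p G) (x : Fin n → G), (List.ofFn x).prod = g ∧ (∀ i : Fin n, x i ∈ Subgroup.normalizer ((((P : Subgroup G) ⊓ (Q i : Subgroup G)) : Subgroup G) : Set G) ∧ ¬ p ∣ ((P : Subgroup G) ⊓ Subgroup.normalizer ((((P : Subgroup G) ⊓ (Q i : Subgroup G)) : Subgroup G) : Set G)).relIndex (Subgroup.normalizer ((((P : Subgroup G) ⊓ (Q i : Subgroup G)) : Subgroup G) : Set G)) ∧ ¬ p ∣ ((Q i : Subgroup G) ⊓ Subgroup.normalizer ((((P : Subgroup G) ⊓ (Q i : Subgroup G)) : Subgroup G) : Set G)).relIndex (Subgroup.normalizer ((((P : Subgroup G) ⊓ (Q i : Subgroup G)) : Subgroup G) : Set G)) ∧ ((Q i : Subgroup G) = (P : Subgroup G) ∨ ∃ k : ℕ, orderOf (x i) = p ^ k)) ∧ (∀ h : 0 < n, A ⊆ (((P : Subgroup G) ⊓ (Q ⟨0, h⟩ : Subgroup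 G) : Subgroup G) : Set G)) ∧ ∀ i : Fin n, ∀ h : i.val + 1 < n, (fun a => (((List.ofFn x).take (i.val + 1)).prod)⁻¹ * a * ((List.ofFn x).take (i.val + 1)).prod) '' A ⊆ (((P : Subgroup G) ⊓ (Q ⟨i.val + 1, h⟩ : Subgroup G) : Subgroup G) : Set G) := by
  let 𝒢 : Subgroup G → G → Prop := fun T x => x ∈ normalizer (T : Set G) ∧ ∃ Q : Sylow p G, T = (P : Subgroup G) ⊓ Q ∧
    IsSyl p ((P : Subgroup G) ⊓ normalizer (T : Set G)) (normalizer (T : Set G)) ∧
    IsSyl p ((Q : Subgroup G) ⊓ normalizer (T : Set G)) (normalizer (T : Set G)) ∧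
    (Q.1 = P.1 ∨ ∃ k, orderOf x = p ^ k)
  have hi : ∀ T n, 𝒢 T n → 𝒢 T n⁻¹ ∧ n ∈ normalizer (T : Set G) := fun T n h =>
    ⟨⟨inv_mem h.1, by simpa only [orderOf_inv] using h.2⟩, h.1⟩
  have hA' : closure A ≤ P := (closure_le _).2 hA
  have hg : cj g⁻¹ (closure A) ≤ P := by
    rw [cj, MonoidHom.map_closure, closure_le]
    rintro _ ⟨a, ha, rfl⟩
    simpa using hAg ⟨a, ha, rfl⟩
  have h := alperin_core P (fun B c => CG 𝒢 B c) (fun A B g h _ _ h1 => h1.mono h)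
    (fun A g h _ _ _ h1 h2 => h1.trans h2 fun a ha => conj_mem_cj ha)
    (fun A g _ _ h1 => (h1.symm hi).mono (by rintro _ ⟨a, ha, rfl⟩; exact ⟨a, ha, rfl⟩))
    (fun B hB hS ih k hk => ?_) _ _ hA' hg
  · obtain ⟨n, T, x, h1, h2, h4⟩ := (h.mono subset_closure).list
    choose h3 Q e h5 h6 h7 using h2
    refine ⟨n, Q, x, by simpa using h1, fun i => e i ▸ ⟨inv_mem_iff.1 (h3 i), (h5 i).not_dvd, (h6 i).not_dvd,
      by simpa using h7 i⟩, fun h => e _ ▸ by simpa using h4 ⟨0, h⟩, fun i h => e _ ▸ h4 ⟨i + 1, h⟩⟩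
  rcases hB.eq_or_lt with rfl | hB'
  · exact CG.single ⟨hk, P, (inf_idem _).symm, hS, hS, .inl rfl⟩ le_rfl
  let M : Subgroup G :=
    { carrier := {k | k ∈ normalizer (B : Set G) ∧ CG 𝒢 B k}
      one_mem' := ⟨one_mem _, .one⟩
      mul_mem' := fun h1 h2 => ⟨mul_mem h1.1 h2.1, h2.2.trans h1.2 fun a ha => conj_mem_of_mem_normalizer h2.1 ha⟩
      inv_mem' := fun h => ⟨inv_mem h.1, (h.2.symm hi).mono fun a ha =>
        ⟨_, inv_conj_mem_of_mem_normalizer h.1 ha, by group⟩⟩ }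
  let L := closure {x ∈ normalizer (B : Set G) | ∃ k, orderOf x = p ^ k}
  have hL : L ≤ normalizer (B : Set G) := (closure_le _).2 fun x hx => hx.1
  have h1 : L ≤ M := (closure_le _).2 fun x hx => ⟨hx.1, by
    have hle : B ≤ (P : Subgroup G) ⊓ (x⁻¹ • P : Sylow p G) := by
      refine le_inf hB ?_
      rw [← cj_sylow, ← cj_le_iff_le_cj_inv, cj_eq_of_mem_normalizer hx.1]
      exact hB
    rcases hle.eq_or_lt with he | hlt
    · have := hS.cj_of_mem_normalizer (le_normalizer (inv_mem hx.1))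
      rw [cj_inf, cj_eq_of_mem (inv_mem hx.1), cj_sylow] at this
      exact CG.single ⟨hx.1, _, he, hS, this, .inr hx.2⟩ le_rfl
    · exact (ih _ _ hlt inf_le_left (by rw [cj_le_iff_le_cj_inv, cj_sylow]; exact inf_le_right)).mono hle⟩
  obtain ⟨l, hl, n, hn, rfl⟩ := (hS.mono (fun x hx => Subgroup.subset_closure (by
    exact ⟨hx.2, IsPGroup.iff_orderOf.1 P.2 ⟨x, hx.1⟩ |>.imp fun _ h => (orderOf_coe _).trans h⟩)) hL).frattini (g := k) (mem_normalizer_of_cj_le (by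
      rw [cj, MonoidHom.map_closure, closure_le]
      rintro _ ⟨x, hx, rfl⟩
      exact Subgroup.subset_closure ⟨mul_mem (mul_mem hk hx.1) (inv_mem hk), by
        simpa only [MulEquiv.coe_toMonoidHom, MulEquiv.orderOf_eq] using hx.2⟩))
  have h2 := lt_inf_normalizer P.2 hB'
  exact ((ih _ n h2 inf_le_left ((cj_eq_of_mem_normalizer hn).le.trans inf_le_left)).mono h2.le).trans (h1 hl).2
    fun a ha => conj_mem_of_mem_normalizer ((mul_mem_cancel_left (hL hl)).1 hk) ha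

end Cfsg.Agent.S2012
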