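import Cfsg.Statements.S2014
import Cfsg.Agent.Lib.Transfer.Residual

set_option autoImplicit false
open Cfsg

namespace Cfsg.Agent.S2014

open Subgroup Transfer

/-- Let P be a Sylow p-subgroup of a finite group G and A, C ≤ P subgroups conjugate in G, with C extremal: N_P(C) is a Sylow p-subgroup of N_G(C). Then there is g with gAg⁻¹ = C and g N_P(A) g⁻¹ ≤ N_P(C); moreover, given any h with hAh⁻¹ = C, g can be chosen so that h g⁻¹ lies in O^p(N_G(C)), the subgroup of N_G(C) generated by its elements of order prime to p. -/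
theorem result {G : Type*} [Group G] [Finite G] (p : ℕ) [Fact p.Prime] (P : Sylow p G) (A C : Subgroup G) (hA : A ≤ P) (hC : C ≤ P) (hext : ¬ p ∣ ((P : Subgroup G) ⊓ Subgroup.normalizer ((C : Subgroup G) : Set G)).relIndex (Subgroup.normalizer ((C : Subgroup G) : Set G))) (h : G) (hh : A.map (MulAut.conj h).toMonoidHom = C) : ∃ g : G, A.map (MulAut.conj g).toMonoidHom = C ∧ ((P : Subgroup G) ⊓ Subgroup.normalizer ((A : Subgroup G) : Set G)).map (MulAut.conj g).toMonoidHom ≤ (P : Subgroup G) ⊓ Subgroup.normalizer ((C : Subgroup G) : Set G) ∧ h * g⁻¹ ∈ (Cfsg.pResidual p ↥(Subgroup.normalizer ((C : Subgroup G) : Set G))).map (Subgroup.normalizer ((C : Subgroup G) : Set G)).subtype := by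
  have hS : IsSyl p ((P : Subgroup G) ⊓ normalizer (C : Set G)) (normalizer (C : Set G)) :=
    ⟨inf_le_right, P.2.to_le inf_le_left, hext⟩
  obtain ⟨c, hc, e⟩ := hS.exists_cj_le (IsPGroup.cj (P.2.to_le (inf_le_left (b := normalizer (A : Set G)))) h)
    ((cj_mono h inf_le_right).trans (by rw [cj_normalizer]; exact (congrArg (fun X : Subgroup G => normalizer (X : Set G)) hh).le))
  obtain ⟨s, hs, o, ho, rfl⟩ := hS.exists_mul_res hc
  refine ⟨o * h, ?_, ?_, by
    rw [mul_inv_rev, mul_inv_cancel_left]; exact inv_mem ho⟩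
  · exact (cj_cj o h A).symm.trans ((congrArg (cj o) hh).trans (cj_eq_of_mem_normalizer (res_le _ ho)))
  · rw [← cj_cj, cj_le_iff_le_cj_inv, cj_eq_of_mem (inv_mem hs), cj_cj] at e
    exact e

end Cfsg.Agent.S2014
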