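import Cfsg.Statements.S2015
import Cfsg.Agent.Lib.Fusion.KFoc2

set_option autoImplicit false
universe u
open Cfsg

namespace Cfsg.Agent.S2015

open Fusion

/-- For p ≥ 5, every finite p-group P has a characteristic subgroup K containing Z(P), depending only on P, whose normalizer controls transfer wherever P is a Sylow subgroup: for every finite group G and every embedding ι of P onto a Sylow p-subgroup of G, the intersection of ι(P) with the derived subgroup of G equals its intersection with the derived subgroup of N_G(ι(K)). -/
theorem result (p : ℕ) [Fact p.Prime] (hp : 5 ≤ p) (P : Type u) [Group P] [Finite P] (hP : IsPGroup p P) : ∃ K : Subgroup P, K.Characteristic ∧ Subgroup.center P ≤ K ∧ ∀ (G : Type u) [Group G] [Finite G] (ι : P →* G), Function.Injective ι → (∃ T : Sylow p G, (T : Subgroup G) = ι.range) → ι.range ⊓ commutator G = ι.range ⊓ (commutator ↥(Subgroup.normalizer ((K.map ι : Subgroup G) : Set G))).map (Subgroup.normalizer ((K.map ι : Subgroup G) : Set G)).subtype := by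
  refine ⟨kInfLower P, Subgroup.characteristic_iff_map_eq.2 fun e => KInf.lower_char.2 _ _ hP e,
    le_trans (Subgroup.center_le_centralizer _) (KInf.center_le_lower hP), ?_⟩
  rintro G _ _ ι hι ⟨T, hT⟩
  have := (fct_kinf (G := G) hp (.inl rfl)).eq KInf.lower_char T
  rwa [hT, KInf.ind_lower, ← KInf.map_lower hι, ← Subgroup.map_subtype_commutator] at this

end Cfsg.Agent.S2015
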