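import Cfsg.Statements.S2036
import Cfsg.Agent.Lib.Cert.Sch4
import Cfsg.Agent.Lib.Cert.M22s.S2
import Cfsg.Agent.Lib.Cert.M22s.S3
import Cfsg.Agent.Lib.Cert.M22s.C2
import Cfsg.Agent.Lib.Cert.M22s.C3

set_option autoImplicit false
open Cfsg

namespace Cfsg.Agent.S2036

/-- The Schur multiplier of the Mathieu group M₂₂ (the permutations in the automorphism group of the length-24 binary code that fix each of two given points) is cyclic of order 12; here the Schur multiplier is described through stem extensions, as in the definitions: surjective homomorphisms onto the group from a finite group, whose kernel is central in that finite group and contained in that finite group's commutator subgroup. -/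
theorem result : Cfsg.HasCyclicSchurMultiplier ↥Cfsg.Spor.M22 12 := by
  refine Ct.schur_congr Spor.M22Equiv (Ct.schur_cyc Spor.card22 Ct.M22s.C2.lok Ct.M22s.C3.lok
    [2, 3, 5, 7, 11] (by decide) ?_)
  simp only [List.forall_mem_cons]
  exact ⟨⟨by norm_num, .inr ⟨2, by decide, Ct.M22s.S2.nok⟩⟩, ⟨by norm_num, .inr ⟨1, by decide, Ct.M22s.S3.nok⟩⟩,
    ⟨by norm_num, .inl (by decide)⟩, ⟨by norm_num, .inl (by decide)⟩, ⟨by norm_num, .inl (by decide)⟩, by simp⟩

end Cfsg.Agent.S2036
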