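import Cfsg.Statements.S2039
import Cfsg.Agent.Lib.Cert.J1.X
import Cfsg.Agent.Lib.Cert.J1s.S2

set_option autoImplicit false
open Cfsg

namespace Cfsg.Agent.S2039

/-- The Schur multiplier of the Janko group J₁ (the group generated by two explicit 7 × 7 matrices over the integers modulo 11) is trivial; here the Schur multiplier is described through stem extensions, as in the definitions: surjective homomorphisms onto the group from a finite group, whose kernel is central in that finite group and contained in that finite group's commutator subgroup. -/
theorem result : Cfsg.HasCyclicSchurMultiplier ↥Cfsg.Spor.J1 1 := by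
  refine Ct.schur_congr' Ct.J1.iso.some (Ct.schur_one Ct.J1.card [2, 3, 5, 7, 11, 19] (by decide) ?_)
  simp only [List.forall_mem_cons]
  exact ⟨⟨by norm_num, .inr Ct.J1s.S2.nok⟩, ⟨by norm_num, .inl (by decide)⟩, ⟨by norm_num, .inl (by decide)⟩,
    ⟨by norm_num, .inl (by decide)⟩, ⟨by norm_num, .inl (by decide)⟩, ⟨by norm_num, .inl (by decide)⟩, by simp⟩

end Cfsg.Agent.S2039
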