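import Cfsg.Statements.S2040
import Cfsg.Agent.Lib.Cert.J2s.S2
import Cfsg.Agent.Lib.Cert.J2s.S3
import Cfsg.Agent.Lib.Cert.J2s.S5

set_option autoImplicit false
open Cfsg

namespace Cfsg.Agent.S2040

/-- The Schur multiplier of the Hall–Janko group J₂ (the icosian reflection group modulo its centre) is cyclic of order 2; here the Schur multiplier is described through stem extensions, as in the definitions: surjective homomorphisms onto the group from a finite group, whose kernel is central in that finite group and contained in that finite group's commutator subgroup. -/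
theorem result : Cfsg.HasCyclicSchurMultiplier Cfsg.Spor.J2 2 := by
  refine Ct.schur_cyc (n := 2) (b := 1) Ct.J2.card Ct.J2.lok (one_dvd _) [2, 3, 5, 7] (by decide) ?_
  simp only [List.forall_mem_cons]
  exact ⟨⟨by norm_num, .inr ⟨1, by decide, Ct.J2s.S2.nok⟩⟩, ⟨by norm_num, .inr ⟨0, by decide, Ct.J2s.S3.nok⟩⟩,
    ⟨by norm_num, .inr ⟨0, by decide, Ct.J2s.S5.nok⟩⟩, ⟨by norm_num, .inl (by decide)⟩, by simp⟩

end Cfsg.Agent.S2040
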