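import Cfsg.Statements.S2047
import Cfsg.Agent.Lib.Cert.Sch4
import Cfsg.Agent.Lib.Cert.McLs.S2
import Cfsg.Agent.Lib.Cert.McLs.S3
import Cfsg.Agent.Lib.Cert.McLs.S5
import Cfsg.Agent.Lib.Cert.McLs.C3

set_option autoImplicit false
open Cfsg

namespace Cfsg.Agent.S2047

/-- The Schur multiplier of the McLaughlin group (as a two-vector stabiliser in the automorphism group of the rank-24 lattice) is cyclic of order 3; here the Schur multiplier is described through stem extensions, as in the definitions: surjective homomorphisms onto the group from a finite group, whose kernel is central in that finite group and contained in that finite group's commutator subgroup. -/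
theorem result : Cfsg.HasCyclicSchurMultiplier ↥Cfsg.Spor.McL 3 := by
  refine Ct.schur_cyc (n := 3) (b := 1) Ct.McL.card Ct.McLs.C3.lok (one_dvd _) [2, 3, 5, 7, 11] (by decide) ?_
  simp only [List.forall_mem_cons]
  exact ⟨⟨by norm_num, .inr ⟨0, by decide, Ct.McLs.S2.nok⟩⟩, ⟨by norm_num, .inr ⟨1, by decide, Ct.McLs.S3.nok⟩⟩,
    ⟨by norm_num, .inr ⟨0, by decide, Ct.McLs.S5.nok⟩⟩, ⟨by norm_num, .inl (by decide)⟩,
    ⟨by norm_num, .inl (by decide)⟩, by simp⟩

end Cfsg.Agent.S2047
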