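import Cfsg.Statements.S2049
import Cfsg.Agent.Lib.Cert.Sch3
import Cfsg.Agent.Lib.Cert.Hes.S2
import Cfsg.Agent.Lib.Cert.Hes.S3
import Cfsg.Agent.Lib.Cert.Hes.S5
import Cfsg.Agent.Lib.Cert.Hes.S7

set_option autoImplicit false
open Cfsg

namespace Cfsg.Agent.S2049

/-- The Schur multiplier of the Held group (the finitely presented group of the definitions) is trivial; here the Schur multiplier is described through stem extensions, as in the definitions: surjective homomorphisms onto the group from a finite group, whose kernel is central in that finite group and contained in that finite group's commutator subgroup. -/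
theorem result : Cfsg.HasCyclicSchurMultiplier Cfsg.Spor.He 1 := by
  refine Ct.schur_one Ct.He.card [2, 3, 5, 7, 17] (by decide) ?_
  simp only [List.forall_mem_cons]
  exact ⟨⟨by norm_num, .inr Ct.Hes.S2.nok⟩, ⟨by norm_num, .inr Ct.Hes.S3.nok⟩, ⟨by norm_num, .inr Ct.Hes.S5.nok⟩,
    ⟨by norm_num, .inr Ct.Hes.S7.nok⟩, ⟨by norm_num, .inl (by decide)⟩, by simp⟩

end Cfsg.Agent.S2049
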