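import Cfsg.Statements.S2052
import Cfsg.Agent.Lib.Cert.ONs.S2
import Cfsg.Agent.Lib.Cert.ONs.S3
import Cfsg.Agent.Lib.Cert.ONs.S7
import Cfsg.Agent.Lib.Cert.ONs.V0

set_option autoImplicit false
open Cfsg

namespace Cfsg.Agent.S2052

/-- The Schur multiplier of the O'Nan group (the finitely presented group of the definitions) is cyclic of order 3; here the Schur multiplier is described through stem extensions, as in the definitions: surjective homomorphisms onto the group from a finite group, whose kernel is central in that finite group and contained in that finite group's commutator subgroup. -/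
theorem result : Cfsg.HasCyclicSchurMultiplier Cfsg.Spor.ON 3 := by
  refine Ct.schur_cyc (n := 3) (b := 1) Ct.ON.card (Ct.Cov.lok Ct.ON.top Ct.ON.ub Ct.ON.iv Ct.ON.rl (by decide +kernel) Ct.ONs.V0.cov
    (Ct.ONs.uv 0 Nat.one_pos)) (one_dvd _) [2, 3, 5, 7, 11, 19, 31] (by decide) ?_
  simp only [List.forall_mem_cons]
  exact ⟨⟨by norm_num, .inr ⟨0, by decide, Ct.ONs.S2.nok⟩⟩, ⟨by norm_num, .inr ⟨1, by decide, Ct.ONs.S3.nok⟩⟩,
    ⟨by norm_num, .inl (by decide)⟩, ⟨by norm_num, .inr ⟨0, by decide, Ct.ONs.S7.nok⟩⟩, ⟨by norm_num, .inl (by decide)⟩,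
    ⟨by norm_num, .inl (by decide)⟩, ⟨by norm_num, .inl (by decide)⟩, by simp⟩

end Cfsg.Agent.S2052
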