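import Cfsg.Statements.S2065
import Cfsg.Agent.Lib.Cert.J1.X
import Cfsg.Agent.Lib.Cert.J1o.O

set_option autoImplicit false
open Cfsg

namespace Cfsg.Agent.S2065

/-- The outer automorphism group of the Janko group J₁ (the group generated by two explicit 7 × 7 matrices over the integers modulo 11) is trivial: every automorphism is inner. -/
theorem result : Nat.card (Cfsg.Out ↥Cfsg.Spor.J1) = 1 := by
  exact (Ct.out_congr Ct.J1.ctr Ct.J1.iso.some).trans Ct.J1o.out

end Cfsg.Agent.S2065
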