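import Cfsg.Statements.S2086
import Cfsg.Agent.Lib.Chev.SchurA
import Cfsg.Agent.Lib.Classical.SpUE

set_option autoImplicit false
open Cfsg

namespace Cfsg.Agent.S2086

/-- Schur multipliers of the linear groups: for n ≥ 2 and a field F with q elements (q ≥ 4 when n = 2), apart from the five exceptional pairs (n, q) = (2, 4), (2, 9), (3, 2), (3, 4), (4, 2), the Schur multiplier of PSL_n(F) is cyclic of order gcd(n, q − 1); here the Schur multiplier is described through stem extensions, as in the definitions. -/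
theorem result {F : Type*} [Field F] [Fintype F] {q : ℕ} (hF : Fintype.card F = q) (n : ℕ) (hn : 2 ≤ n) (h2 : n = 2 → 4 ≤ q) (hexc : (n, q) ∉ ({(2, 4), (2, 9), (3, 2), (3, 4), (4, 2)} : Set (ℕ × ℕ))) : Cfsg.HasCyclicSchurMultiplier (Matrix.ProjectiveSpecialLinearGroup (Fin n) F) (Nat.gcd n (q - 1)) := by
  subst hF
  simp only [Set.mem_insert_iff, Set.mem_singleton_iff, Prod.mk.injEq, not_or, not_and] at hexc
  have h1 := Fintype.one_lt_card (α := F)
  have h3 : Fintype.card F ≠ 2 → ∃ a : F, a ≠ 0 ∧ a ≠ 1 := fun h => Chev.ne_of_big ⟨Finset.univ, by simp; omega⟩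
  refine Chev.hasSchur_center ?_ ?_ ⟨(Matrix.SpecialLinearGroup.center_equiv_rootsOfUnity' ⟨0, by omega⟩).trans ?_⟩
  · obtain rfl | h := hn.eq_or_lt
    · obtain ⟨a, b, c⟩ := Classical.exists_sq_ne_one (h2 rfl)
      exact Matrix.SL2.commutator_eq_top b c
    · exact Classical.Lin.commutator_SL (by simp; omega)
  · obtain rfl | h := hn.eq_or_lt
    · exact Chev.schur_sl2 (hexc.1 rfl) (hexc.2.1 rfl)
    obtain ⟨n, rfl⟩ : ∃ m, n = m + 1 := ⟨n - 1, by omega⟩
    refine Chev.schur_sl (by omega) (or_iff_not_imp_left.2 fun a => or_iff_not_imp_left.2 fun b => ?_)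
    by_contra! c
    have := Chev.card_pow_eq_one (K := F) 3
    rw [Nat.card_congr (Equiv.subtypeUnivEquiv c), Nat.card_units, Nat.card_eq_fintype_card] at this
    have d := (Nat.dvd_prime Nat.prime_three).1 (this ▸ Nat.gcd_dvd_left 3 _)
    by_cases e : n = 2
    · omega
    · exact b ⟨by omega, h3 (hexc.2.2.2.2 (by omega))⟩
  · rw [Fintype.card_fin, ← Chev.card_pow_eq_one]
    exact (zmodCyclicMulEquiv (inferInstance : IsCyclic (rootsOfUnity n F))).symm

end Cfsg.Agent.S2086
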