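import Cfsg.Statements.S2087
import Cfsg.Agent.Lib.Cert.L32.X
import Cfsg.Agent.Lib.Cert.L32s.S2
import Cfsg.Agent.Lib.Cert.L32s.V0

set_option autoImplicit false
open Cfsg

namespace Cfsg.Agent.S2087

/-- Exceptional Schur multiplier: over the field with 2 elements, PSL₃ has Schur multiplier cyclic of order 2 (here the Schur multiplier is described through stem extensions, as in the definitions). -/
theorem result {F : Type*} [Field F] [Fintype F] (hF : Fintype.card F = 2) : Cfsg.HasCyclicSchurMultiplier (Matrix.ProjectiveSpecialLinearGroup (Fin 3) F) 2 := by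
  refine Ct.schur_congr' (Ct.L32.iso hF).some (Ct.schur_cyc (n := 2) (b := 1) Ct.L32.card
    (Ct.Cov.lok Ct.L32.top Ct.L32.ub Ct.L32.iv Ct.L32.rl Ct.L32.pq.hl Ct.L32s.V0.cov (Ct.L32s.uv 0 (by decide))) (one_dvd _) [2, 3, 7] (by decide) ?_)
  simp only [List.forall_mem_cons]
  exact ⟨⟨by norm_num, .inr ⟨1, by decide, Ct.L32s.S2.nok⟩⟩,
    ⟨by norm_num, .inl (by decide)⟩,
    ⟨by norm_num, .inl (by decide)⟩, by simp⟩

end Cfsg.Agent.S2087
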