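import Cfsg.Statements.S2088
import Cfsg.Agent.Lib.Cert.L34.X
import Cfsg.Agent.Lib.Cert.L34s.S2
import Cfsg.Agent.Lib.Cert.L34s.S3
import Cfsg.Agent.Lib.Cert.L34s.V0
import Cfsg.Agent.Lib.Cert.L34s.V1
import Cfsg.Agent.Lib.Cert.L34s.V2

set_option autoImplicit false
open Cfsg

namespace Cfsg.Agent.S2088

/-- Exceptional Schur multiplier: over the field with 4 elements, PSL₃ has Schur multiplier isomorphic to the product of cyclic groups of orders 3, 4 and 4 (order 48, not cyclic; here the Schur multiplier is described through stem extensions, as in the definitions). -/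
theorem result {F : Type*} [Field F] [Fintype F] (hF : Fintype.card F = 4) : Cfsg.HasSchurMultiplier (Matrix.ProjectiveSpecialLinearGroup (Fin 3) F) (Multiplicative (ZMod 3 × ZMod 4 × ZMod 4)) := by
  refine Ct.schur_congr' (Ct.L34.iso hF).some (Ct.schur3 Ct.L34.top Ct.L34.ub Ct.L34.iv Ct.L34.rl Ct.L34.pq.hl
    Ct.L34s.V0.cov Ct.L34s.V1.cov Ct.L34s.V2.cov Ct.L34s.uv (Ct.sm_dvd Ct.L34.card [2, 3, 5, 7] (by decide) ?_))
  simp only [List.forall_mem_cons]
  exact ⟨⟨by norm_num, .inr ⟨4, by decide, Ct.L34s.S2.nok⟩⟩,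
    ⟨by norm_num, .inr ⟨1, by decide, Ct.L34s.S3.nok⟩⟩,
    ⟨by norm_num, .inl (by decide)⟩,
    ⟨by norm_num, .inl (by decide)⟩, by simp⟩

end Cfsg.Agent.S2088
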