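import Cfsg.Statements.S2091
import Cfsg.Agent.Lib.Cert.U62.X
import Cfsg.Agent.Lib.Cert.U62s.S2
import Cfsg.Agent.Lib.Cert.U62s.S3
import Cfsg.Agent.Lib.Cert.U62s.V0
import Cfsg.Agent.Lib.Cert.U62s.V1
import Cfsg.Agent.Lib.Cert.U62s.V2

set_option autoImplicit false
open Cfsg

namespace Cfsg.Agent.S2091

/-- Exceptional Schur multiplier: PSU₆(2), realised over the field with 4 elements, has Schur multiplier isomorphic to the product of cyclic groups of orders 3, 2 and 2 (order 12, not cyclic; here the Schur multiplier is described through stem extensions, as in the definitions). -/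
theorem result {F : Type*} [Field F] [Fintype F] (hF : Fintype.card F = 4) : Cfsg.HasSchurMultiplier (Cfsg.PSU 6 F 2) (Multiplicative (ZMod 3 × ZMod 2 × ZMod 2)) := by
  refine Ct.schur_congr' (Ct.U62.iso hF).some (Ct.schur3 Ct.U62.top Ct.U62.ub Ct.U62.iv Ct.U62.rl Ct.U62.pq.hl
    Ct.U62s.V0.cov Ct.U62s.V1.cov Ct.U62s.V2.cov Ct.U62s.uv (Ct.sm_dvd Ct.U62.card [2, 3, 5, 7, 11] (by decide) ?_))
  simp only [List.forall_mem_cons]
  exact ⟨⟨by norm_num, .inr ⟨2, by decide, Ct.U62s.S2.nok⟩⟩,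
    ⟨by norm_num, .inr ⟨1, by decide, Ct.U62s.S3.nok⟩⟩,
    ⟨by norm_num, .inl (by decide)⟩,
    ⟨by norm_num, .inl (by decide)⟩,
    ⟨by norm_num, .inl (by decide)⟩, by simp⟩

end Cfsg.Agent.S2091
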