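import Cfsg.Statements.S2092
import Cfsg.Agent.Lib.Chev.Cl11

set_option autoImplicit false
open Cfsg

namespace Cfsg.Agent.S2092

open Cfsg.Agent.Chev Cfsg.Agent.Chev.Cl Cfsg.Agent.Classical in

/-- Schur multipliers of the symplectic groups: for m ≥ 2 and a field F with q elements (q ≥ 3 when m = 2), with (m, q) ≠ (3, 2), the Schur multiplier of PSp_2m(F) is cyclic of order gcd(2, q − 1); here the Schur multiplier is described through stem extensions, as in the definitions. -/
theorem result {F : Type*} [Field F] [Fintype F] {q : ℕ} (hF : Fintype.card F = q) (m : ℕ) (hm : 2 ≤ m) (h2 : m = 2 → 3 ≤ q) (hexc : ¬ (m = 3 ∧ q = 2)) : Cfsg.HasCyclicSchurMultiplier (Cfsg.PSp m F) (Nat.gcd 2 (q - 1)) := by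
  subst hF
  obtain ⟨n, rfl⟩ : ∃ n, m = n + 1 := ⟨m - 1, by omega⟩
  have h1 : 2 ≤ Fintype.card F := Fintype.one_lt_card
  refine hasSchur_center (commutator_eq_top_congr (spEquiv _ F).symm (symp_perfect_fin (spForm_nondeg _) (by simp; omega))) (schur_sp ?_)
    (exists_equiv_zmod (p := 2) ?_ (Nat.gcd_dvd_left _ _))
  · by_cases h : 3 ≤ n
    exacts [.inl h, .inr ⟨by omega, ne_of_big ⟨Finset.univ, by rw [Finset.card_univ]; omega⟩⟩]
  · rw [← card_center_symp (spForm_nondeg (n + 1)) (by simp), Nat.card_congr (Subgroup.centerCongr (spEquiv _ F)).toEquiv]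

end Cfsg.Agent.S2092
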