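import Cfsg.Statements.S2093
import Cfsg.Agent.Lib.Cert.S62.X
import Cfsg.Agent.Lib.Cert.S62s.S2
import Cfsg.Agent.Lib.Cert.S62s.S3
import Cfsg.Agent.Lib.Cert.S62s.V0

set_option autoImplicit false
open Cfsg

namespace Cfsg.Agent.S2093

/-- Exceptional Schur multiplier: over the field with 2 elements, PSp₆ has Schur multiplier cyclic of order 2 (here the Schur multiplier is described through stem extensions, as in the definitions). -/
theorem result {F : Type*} [Field F] [Fintype F] (hF : Fintype.card F = 2) : Cfsg.HasCyclicSchurMultiplier (Cfsg.PSp 3 F) 2 := by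
  refine Ct.schur_congr' (Ct.S62.iso hF).some (Ct.schur_cyc (n := 2) (b := 1) Ct.S62.card
    (Ct.Cov.lok Ct.S62.top Ct.S62.ub Ct.S62.iv Ct.S62.rl Ct.S62.pq.hl Ct.S62s.V0.cov (Ct.S62s.uv 0 (by decide))) (one_dvd _) [2, 3, 5, 7] (by decide) ?_)
  simp only [List.forall_mem_cons]
  exact ⟨⟨by norm_num, .inr ⟨1, by decide, Ct.S62s.S2.nok⟩⟩,
    ⟨by norm_num, .inr ⟨0, by decide, Ct.S62s.S3.nok⟩⟩,
    ⟨by norm_num, .inl (by decide)⟩,
    ⟨by norm_num, .inl (by decide)⟩, by simp⟩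

end Cfsg.Agent.S2093
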