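import Cfsg.Statements.S2094
import Cfsg.Agent.Lib.Chev.Cl11

set_option autoImplicit false
open Cfsg

namespace Cfsg.Agent.S2094

open Cfsg.Agent.Chev Cfsg.Agent.Chev.Cl Cfsg.Agent.Classical in

/-- Schur multipliers of the odd-dimensional orthogonal groups: for m ≥ 3 and a field F of odd order q with (m, q) ≠ (3, 3), the Schur multiplier of PΩ_(2m+1)(F) (for the form x₀² + Σ xᵢyᵢ) is cyclic of order 2 = gcd(2, q − 1); here the Schur multiplier is described through stem extensions, as in the definitions. -/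
theorem result {F : Type*} [Field F] [Fintype F] {q : ℕ} (hF : Fintype.card F = q) (hq : Odd q) (m : ℕ) (hm : 3 ≤ m) (hexc : ¬ (m = 3 ∧ q = 3)) : Cfsg.HasCyclicSchurMultiplier (Cfsg.POmega F (Cfsg.quadFormOdd m F)) 2 := by
  subst hF
  obtain ⟨n, rfl⟩ : ∃ n, m = n + 1 := ⟨m - 1, by omega⟩
  have h2 := two_ne_zero_of_odd hq
  have h1 : 2 ≤ Fintype.card F := Fintype.one_lt_card
  obtain ⟨k, hk⟩ := hq
  refine (frameO n F).hasSchur (by omega) (by omega) (by omega) (fun hc hs => liftsO _ _ hc hs (by omega) (QA.S_Gx _)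
    (ne_of_big ⟨Finset.univ, by rw [Finset.card_univ]; omega⟩) (fun _ => h2) ?_) ⟨kerB.some.trans ?_⟩
  · by_cases h : 3 ≤ n
    exacts [.inl h, .inr ⟨rfl, by omega, big_pow ⟨Finset.univ, by rw [Finset.card_univ]; omega⟩ 2 (by simp)⟩]
  · have := (ker_pow_equiv F 2).some
    rwa [hk, Nat.add_sub_cancel, Nat.gcd_mul_right_right] at this

end Cfsg.Agent.S2094
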