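import Cfsg.Statements.S2095
import Cfsg.Agent.Lib.Cert.O73.X
import Cfsg.Agent.Lib.Cert.O73s.S2
import Cfsg.Agent.Lib.Cert.O73s.S3
import Cfsg.Agent.Lib.Cert.O73s.V0
import Cfsg.Agent.Lib.Cert.O73s.V1

set_option autoImplicit false
open Cfsg

namespace Cfsg.Agent.S2095

/-- Exceptional Schur multiplier: over the field with 3 elements, PΩ₇ (for the form x₀² + Σ xᵢyᵢ) has Schur multiplier cyclic of order 6 (the product of cyclic groups of orders 3 and 2; here the Schur multiplier is described through stem extensions, as in the definitions). -/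
theorem result {F : Type*} [Field F] [Fintype F] (hF : Fintype.card F = 3) : Cfsg.HasCyclicSchurMultiplier (Cfsg.POmega F (Cfsg.quadFormOdd 3 F)) 6 := by
  refine Ct.schur_congr' (Ct.O73.iso hF).some (Ct.schur_A (ZMod.chineseRemainder (by decide : Nat.Coprime 2 3)).symm.toAddEquiv.toMultiplicative (Ct.schur2 Ct.O73.top Ct.O73.ub Ct.O73.iv Ct.O73.rl Ct.O73.pq.hl
    Ct.O73s.V0.cov Ct.O73s.V1.cov Ct.O73s.uv (Ct.sm_dvd Ct.O73.card [2, 3, 5, 7, 13] (by decide) ?_)))
  simp only [List.forall_mem_cons]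
  exact ⟨⟨by norm_num, .inr ⟨1, by decide, Ct.O73s.S2.nok⟩⟩,
    ⟨by norm_num, .inr ⟨1, by decide, Ct.O73s.S3.nok⟩⟩,
    ⟨by norm_num, .inl (by decide)⟩,
    ⟨by norm_num, .inl (by decide)⟩,
    ⟨by norm_num, .inl (by decide)⟩, by simp⟩

end Cfsg.Agent.S2095
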