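import Cfsg.Statements.S2096
import Cfsg.Agent.Lib.Chev.Cl11

set_option autoImplicit false
open Cfsg

namespace Cfsg.Agent.S2096

open Cfsg.Agent.Chev Cfsg.Agent.Chev.Cl Cfsg.Agent.Classical in

/-- Schur multipliers of the even-dimensional orthogonal groups of plus type and odd rank: for odd l ≥ 5 and a field F with q elements, the Schur multiplier of PΩ⁺_2l(F) (for the form Σ xᵢyᵢ) is cyclic of order gcd(4, q^l − 1); here the Schur multiplier is described through stem extensions, as in the definitions. -/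
theorem result {F : Type*} [Field F] [Fintype F] {q : ℕ} (hF : Fintype.card F = q) (l : ℕ) (hl : 5 ≤ l) (hodd : Odd l) : Cfsg.HasCyclicSchurMultiplier (Cfsg.POmega F (Cfsg.quadFormPlus l F)) (Nat.gcd 4 (q ^ l - 1)) := by
  subst hF
  obtain ⟨n, rfl⟩ : ∃ n, l = n + 1 := ⟨l - 1, by omega⟩
  rw [gcd_pow_odd Fintype.card_pos hodd]
  exact (frameP n F).hasSchur (by omega) (by omega) (by omega) (fun hc hs => liftsD _ _ hc hs le_rfl (QA.S_Gx _) (.inl (by omega)))
    ⟨(kerD_odd (by omega) hodd).some.trans (ker_pow_equiv F 4).some⟩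

end Cfsg.Agent.S2096
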