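import Cfsg.Statements.S2098
import Cfsg.Agent.Lib.Cert.O82.X
import Cfsg.Agent.Lib.Cert.O82s.S2
import Cfsg.Agent.Lib.Cert.O82s.S3
import Cfsg.Agent.Lib.Cert.O82s.S5
import Cfsg.Agent.Lib.Cert.O82s.V0
import Cfsg.Agent.Lib.Cert.O82s.V1

set_option autoImplicit false
open Cfsg

namespace Cfsg.Agent.S2098

/-- Exceptional Schur multiplier: over the field with 2 elements, PΩ⁺₈ (for the form Σ xᵢyᵢ) has Schur multiplier a four-group, the product of two cyclic groups of order 2 (here the Schur multiplier is described through stem extensions, as in the definitions). -/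
theorem result {F : Type*} [Field F] [Fintype F] (hF : Fintype.card F = 2) : Cfsg.HasSchurMultiplier (Cfsg.POmega F (Cfsg.quadFormPlus 4 F)) (Multiplicative (ZMod 2 × ZMod 2)) := by
  refine Ct.schur_congr' (Ct.O82.iso hF).some (Ct.schur2 Ct.O82.top Ct.O82.ub Ct.O82.iv Ct.O82.rl Ct.O82.pq.hl
    Ct.O82s.V0.cov Ct.O82s.V1.cov Ct.O82s.uv (Ct.sm_dvd Ct.O82.card [2, 3, 5, 7] (by decide) ?_))
  simp only [List.forall_mem_cons]
  exact ⟨⟨by norm_num, .inr ⟨2, by decide, Ct.O82s.S2.nok⟩⟩,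
    ⟨by norm_num, .inr ⟨0, by decide, Ct.O82s.S3.nok⟩⟩,
    ⟨by norm_num, .inr ⟨0, by decide, Ct.O82s.S5.nok⟩⟩,
    ⟨by norm_num, .inl (by decide)⟩, by simp⟩

end Cfsg.Agent.S2098
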