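import Cfsg.Statements.S2101
import Cfsg.Agent.Lib.Cert.G23.X
import Cfsg.Agent.Lib.Cert.G23s.S2
import Cfsg.Agent.Lib.Cert.G23s.S3
import Cfsg.Agent.Lib.Cert.G23s.V0

set_option autoImplicit false
open Cfsg

namespace Cfsg.Agent.S2101

/-- Exceptional Schur multiplier: over the field with 3 elements the Chevalley group of type G₂ has Schur multiplier cyclic of order 3 (here the Schur multiplier is described through stem extensions, as in the definitions). -/
theorem result {F : Type*} [Field F] [Fintype F] (hF : Fintype.card F = 3) : Cfsg.HasCyclicSchurMultiplier ↥(Cfsg.Lie.chevG2.group F) 3 := by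
  refine Ct.schur_congr' (Ct.G23.iso hF).some (Ct.schur_cyc (n := 3) (b := 1) Ct.G23.card
    (Ct.Cov.lok Ct.G23.top Ct.G23.ub Ct.G23.iv Ct.G23.rl Ct.G23.pq.hl Ct.G23s.V0.cov (Ct.G23s.uv 0 (by decide))) (one_dvd _) [2, 3, 7, 13] (by decide) ?_)
  simp only [List.forall_mem_cons]
  exact ⟨⟨by norm_num, .inr ⟨0, by decide, Ct.G23s.S2.nok⟩⟩,
    ⟨by norm_num, .inr ⟨1, by decide, Ct.G23s.S3.nok⟩⟩,
    ⟨by norm_num, .inl (by decide)⟩,
    ⟨by norm_num, .inl (by decide)⟩, by simp⟩

end Cfsg.Agent.S2101
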