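import Cfsg.Statements.S2105
import Cfsg.Agent.Lib.Chev.Schur

set_option autoImplicit false
open Cfsg

namespace Cfsg.Agent.S2105

open Chev Cfsg.Lie

/-- Schur multipliers of the (adjoint, simple) Chevalley groups of type E₆: over a field with q elements the Schur multiplier is cyclic of order gcd(3, q − 1) (here the Schur multiplier is described through stem extensions, as in the definitions). -/
theorem result {F : Type*} [Field F] [Fintype F] {q : ℕ} (hF : Fintype.card F = q) : Cfsg.HasCyclicSchurMultiplier ↥(Cfsg.Lie.chevE6.group F) (Nat.gcd 3 (q - 1)) := by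
  haveI : Fact (Nat.Prime 3) := ⟨Nat.prime_three⟩
  exact checkedE6.hasSchur_adj (perfect_E6 checkedE6.uni_Gx) hT_inj_E6 (p := 3) (card_units_eq hF ▸ ker_E6 _)
    (Nat.gcd_dvd_left _ _) fun hc hs => St.lifts_sl hc hs checkedE6.adj_Gx sl_E6

end Cfsg.Agent.S2105
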