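import Cfsg.Statements.S2107
import Cfsg.Agent.Lib.Chev.Schur

set_option autoImplicit false
open Cfsg

namespace Cfsg.Agent.S2107

open Chev Cfsg.Lie

/-- Schur multipliers of the Chevalley groups of type E₈: over every finite field the Schur multiplier of E₈(q) is trivial (here the Schur multiplier is described through stem extensions, as in the definitions). -/
theorem result {F : Type*} [Field F] [Fintype F] : Cfsg.HasCyclicSchurMultiplier ↥(Cfsg.Lie.chevE8.group F) 1 := by
  exact checkedE8.hasSchur_adj (perfect_E8 checkedE8.uni_Gx) (hT_inj_E8 _) (p := 2) (ker_E8 _)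
    (by simp) fun hc hs => St.lifts_sl hc hs checkedE8.adj_Gx sl_E8

end Cfsg.Agent.S2107
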