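import Cfsg.Statements.S2112
import Cfsg.Agent.Lib.Cert.Sz8.X
import Cfsg.Agent.Lib.Cert.Sz8s.S2
import Cfsg.Agent.Lib.Cert.Sz8s.V0
import Cfsg.Agent.Lib.Cert.Sz8s.V1

set_option autoImplicit false
open Cfsg

namespace Cfsg.Agent.S2112

/-- Exceptional Schur multiplier: the Suzuki group Sz(8), built over the field with 8 elements using the map x ↦ x⁴, has Schur multiplier a four-group, the product of two cyclic groups of order 2 (here the Schur multiplier is described through stem extensions, as in the definitions). -/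
theorem result {F : Type*} [Field F] [Fintype F] (hF : Fintype.card F = 8) : Cfsg.HasSchurMultiplier ↥(Cfsg.Lie.Sz F 4) (Multiplicative (ZMod 2 × ZMod 2)) := by
  refine Ct.schur_congr' (Ct.Sz8.iso hF).some (Ct.schur2 Ct.Sz8.top Ct.Sz8.ub Ct.Sz8.iv Ct.Sz8.rl Ct.Sz8.pq.hl
    Ct.Sz8s.V0.cov Ct.Sz8s.V1.cov Ct.Sz8s.uv (Ct.sm_dvd Ct.Sz8.card [2, 5, 7, 13] (by decide) ?_))
  simp only [List.forall_mem_cons]
  exact ⟨⟨by norm_num, .inr ⟨2, by decide, Ct.Sz8s.S2.nok⟩⟩,
    ⟨by norm_num, .inl (by decide)⟩,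
    ⟨by norm_num, .inl (by decide)⟩,
    ⟨by norm_num, .inl (by decide)⟩, by simp⟩

end Cfsg.Agent.S2112
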