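import Cfsg.Statements.S2115
import Cfsg.Agent.Lib.Cert.T2.Y
import Cfsg.Agent.Lib.Cert.T2s.S2
import Cfsg.Agent.Lib.Cert.T2s.S3
import Cfsg.Agent.Lib.Cert.T2s.S5

set_option autoImplicit false
open Cfsg

namespace Cfsg.Agent.S2115

/-- The Tits group, the commutator subgroup of ²F₄(2), has trivial Schur multiplier (here the Schur multiplier is described through stem extensions, as in the definitions). -/
theorem result : Cfsg.HasCyclicSchurMultiplier Cfsg.Lie.TitsGroup 1 := by
  refine Ct.schur_congr' Ct.T2.iso.some (Ct.schur_one Ct.T2.card [2, 3, 5, 13] (by decide) ?_)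
  simp only [List.forall_mem_cons]
  exact ⟨⟨by norm_num, .inr Ct.T2s.S2.nok⟩, ⟨by norm_num, .inr Ct.T2s.S3.nok⟩, ⟨by norm_num, .inr Ct.T2s.S5.nok⟩,
    ⟨by norm_num, .inl (by decide)⟩, by simp⟩

end Cfsg.Agent.S2115
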