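import Cfsg.Statements.S2118
import Cfsg.Agent.Lib.Cert.SL29s.S2
import Cfsg.Agent.Lib.Cert.SL29s.S3
import Cfsg.Agent.Lib.Cert.SL29s.C3

set_option autoImplicit false
open Cfsg

namespace Cfsg.Agent.S2118

/-- For the field with 9 elements, the special linear group SL₂ has Schur multiplier cyclic of order 3 (here the Schur multiplier is described through stem extensions, as in the definitions). -/
theorem result {F : Type*} [Field F] [Fintype F] (hF : Fintype.card F = 9) : Cfsg.HasCyclicSchurMultiplier (Matrix.SpecialLinearGroup (Fin 2) F) 3 := by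
  obtain ⟨f⟩ := Ct.exK (K := Ct.K9) rfl hF
  obtain ⟨e⟩ := Ct.iso_card (P := Ct.SL29.P) ⟨Matrix.SpecialLinearGroup.map f, fun a b h =>
    Subtype.ext (Matrix.map_injective f.injective (congrArg Subtype.val h))⟩ Ct.SL29.card (Ct.SL29.cardF hF)
  refine Ct.schur_congr' e (Ct.schur_cyc (b := 1) Ct.SL29.card Ct.SL29s.C3.lok (one_dvd _) [2, 3, 5] (by decide) ?_)
  simp only [List.forall_mem_cons]
  exact ⟨⟨by norm_num, .inr ⟨0, by decide, Ct.SL29s.S2.nok⟩⟩, ⟨by norm_num, .inr ⟨1, by decide, Ct.SL29s.S3.nok⟩⟩,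
    ⟨by norm_num, .inl (by decide)⟩, by simp⟩

end Cfsg.Agent.S2118
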