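import Cfsg.Statements.S4275
import Cfsg.Agent.Lib.Solv.Basic

set_option autoImplicit false
open Cfsg

namespace Cfsg.Agent.S4275

/-- Let G be a transitive group of permutations of a finite set Ω, let o ∈ Ω, and let α be an automorphism of G. Then α is induced by conjugation by a permutation of Ω normalizing G if and only if the image under α of the stabilizer of o fixes some point of Ω. -/
theorem result {Ω : Type*} [Fintype Ω] (G : Subgroup (Equiv.Perm Ω)) (htr : MulAction.IsPretransitive G Ω) (o : Ω) (α : G ≃* G) : (∃ σ : Equiv.Perm Ω, σ ∈ Subgroup.normalizer (G : Set (Equiv.Perm Ω)) ∧ ∀ g : G, ((α g : G) : Equiv.Perm Ω) = σ * (g : Equiv.Perm Ω) * σ⁻¹) ↔ ∃ ω : Ω, ∀ g ∈ (MulAction.stabilizer G o).map α.toMonoidHom, g • ω = ω := by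
  open Pointwise commutatorElement Subgroup Cfsg.Agent.Solv in
  classical
  constructor
  · rintro ⟨σ, -, h⟩
    refine ⟨σ o, ?_⟩
    rintro _ ⟨g, hg, rfl⟩
    change ((α g : G) : Equiv.Perm Ω) (σ o) = σ o
    rw [h]
    simpa using (show (g : Equiv.Perm Ω) o = o from hg)
  · rintro ⟨ω, h⟩
    choose t ht using fun x => htr.exists_smul_eq o x
    have key : ∀ g g' : G, g • o = g' • o → α g • ω = α g' • ω := by
      intro g g' e
      have := h _ (mem_map_of_mem α.toMonoidHom (show g'⁻¹ * g ∈ MulAction.stabilizer G o by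
        rw [MulAction.mem_stabilizer_iff, mul_smul, e, inv_smul_smul]))
      rwa [MulEquiv.coe_toMonoidHom, map_mul, map_inv, mul_smul, inv_smul_eq_iff] at this
    have hs : Function.Surjective fun x => α (t x) • ω := by
      intro y
      obtain ⟨g, rfl⟩ := htr.exists_smul_eq ω y
      obtain ⟨g, rfl⟩ := α.surjective g
      exact ⟨g • o, key _ _ (ht _)⟩
    let σ : Equiv.Perm Ω := Equiv.ofBijective _ (Finite.surjective_iff_bijective.1 hs)
    have h1 : ∀ g : G, ((α g : G) : Equiv.Perm Ω) = σ * (g : Equiv.Perm Ω) * σ⁻¹ := by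
      intro g
      rw [eq_mul_inv_iff_mul_eq]
      ext x
      change α g • α (t x) • ω = α (t (g • x)) • ω
      rw [← mul_smul, ← map_mul]
      exact key _ _ (by rw [mul_smul, ht, ht])
    exact ⟨σ, mem_normalizer_of_conj_mem fun g hg => h1 ⟨g, hg⟩ ▸ (α ⟨g, hg⟩).2, h1⟩

end Cfsg.Agent.S4275
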