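import Cfsg.Statements.S2119
import Cfsg.Agent.Lib.Classical.Sym2
import Cfsg.Agent.S4275

set_option autoImplicit false
open Cfsg

namespace Cfsg.Agent.S2119
open Cfsg.Agent.Classical


/-- Automorphisms of the alternating groups: for n ≥ 4 with n ≠ 6, every automorphism of the alternating group of degree n is conjugation by a unique permutation, i.e. conjugation induces an isomorphism from the symmetric group of degree n onto the automorphism group of the alternating group (so the outer automorphism group has order 2). -/
theorem result (n : ℕ) (hn : 4 ≤ n) (h6 : n ≠ 6) : Function.Bijective (MulAut.conjNormal : Equiv.Perm (Fin n) →* MulAut ↥(alternatingGroup (Fin n))) := by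
  haveI : Nontrivial (Fin n) := Fin.nontrivial_iff_two_le.2 (by omega)
  constructor
  · refine (injective_iff_map_eq_one _).2 fun g hg => ?_
    have : g ∈ Subgroup.centralizer (alternatingGroup (Fin n) : Set (Equiv.Perm (Fin n))) := by
      intro h hh
      have := congrArg (fun a : MulAut (alternatingGroup (Fin n)) => ((a ⟨h, hh⟩ : alternatingGroup (Fin n)) : Equiv.Perm (Fin n))) hg
      simp only [MulAut.conjNormal_apply, MulAut.one_apply] at this
      rw [← mul_inv_eq_iff_eq_mul.1 this]
    ext x
    by_contra hx
    have hx' : g x ≠ x := fun h => hx (by rw [h]; rfl)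
    obtain ⟨y, z, hy⟩ : ∃ y z : Fin n, y ≠ z ∧ y ≠ x ∧ y ≠ g x ∧ z ≠ x ∧ z ≠ g x := by
      have : 1 < (Finset.univ \ {x, g x} : Finset (Fin n)).card := by
        rw [Finset.card_sdiff_of_subset (Finset.subset_univ _), Finset.card_pair hx'.symm]
        simp; omega
      obtain ⟨y, hy, z, hz, hyz⟩ := Finset.one_lt_card.1 this
      simp only [Finset.mem_sdiff, Finset.mem_univ, Finset.mem_insert, Finset.mem_singleton, true_and, not_or] at hy hz
      exact ⟨y, z, hyz, hy.1, hy.2, hz.1, hz.2⟩
    obtain ⟨h1, h2, h3, h4, h5⟩ := hy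
    have h6 := congrArg (fun u : Equiv.Perm (Fin n) => u x) (this _ (Sym.dbl_mem_A h3.symm h5.symm))
    simp only [Equiv.Perm.mul_apply, Equiv.swap_apply_left] at h6
    rw [Equiv.swap_apply_of_ne_of_ne h5 h1.symm, Equiv.swap_apply_of_ne_of_ne hx'.symm h4.symm,
      Equiv.swap_apply_of_ne_of_ne hx'.symm h2.symm] at h6
    exact h5 h6
  · intro α
    have htr : MulAction.IsPretransitive (alternatingGroup (Fin n)) (Fin n) :=
      alternatingGroup.isPretransitive_of_three_le_card _ (by simp; omega)
    let o : Fin n := ⟨0, by omega⟩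
    set H := (MulAction.stabilizer (alternatingGroup (Fin n)) o).map α.toMonoidHom with hH
    have h1 : H.index = n := by
      rw [hH, Subgroup.index_map_of_bijective (f := α.toMonoidHom) α.bijective, MulAction.index_stabilizer_of_transitive]; simp
    have h2 : (H.map (alternatingGroup (Fin n)).subtype).index = 2 * Fintype.card (Fin n) := by
      rw [Subgroup.index_map_subtype, h1, alternatingGroup.index_eq_two]; simp [mul_comm]
    obtain ⟨x, hx⟩ := Sym.Sm.fix (Or.inr ⟨Subgroup.map_subtype_le _, h2⟩) (by simp; omega) (by simpa using h6)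
      (by simp; omega)
    obtain ⟨σ, -, hσ⟩ := (S4275.result _ htr o α).2 ⟨x, fun g hg => hx ⟨g, hg, rfl⟩⟩
    exact ⟨σ, MulEquiv.ext fun g => Subtype.ext (hσ g).symm⟩

end Cfsg.Agent.S2119
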