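import Cfsg.Statements.S2132
import Mathlib
import Cfsg.Agent.Lib.Cert.McLo.O
import Cfsg.Agent.Lib.Cert.Fix

set_option autoImplicit false
open Cfsg

namespace Cfsg.Agent.S2132

open Cfsg.Agent.PC Cfsg.Agent.Fi Cfsg.Agent.Ct Cfsg.Agent.Ct.Lee Cfsg.Agent.Ct.McLo MulAction Subgroup Equiv

set_option maxRecDepth 100000

def K (i : ℕ) : List ℕ := [[], [], [7, 1, 8, 0, 7], [7, 10, 6, 9, 8], [11, 2, 11, 3], [11, 2, 11], [7, 2, 11, 2, 8], [11, 2, 11, 4], [11, 3, 11, 2], [11, 3, 11], [10, 0, 3, 9], [10, 0, 3, 9, 2], [], [], [], [], [], [], [], [], [], [], [], [], [], [], [], [], [], [], [], [], [8, 11, 7, 6], [8, 3, 5, 10, 6], [8, 11, 7, 4], [8, 3, 5, 10, 4], [8, 11, 7, 3], [8, 0, 1, 3, 10], [8, 11, 7], [8, 3, 5, 10], [], [], [], [], [], [], [], [], [], [], [], [], [], [], [], [], [], [], [], [], [], [], [], [], [9, 5, 10], [11, 6, 11], [], [], [], [], [9, 5, 10, 5], [11, 6, 11, 5], [], [], [11, 6, 11, 4], [9, 5, 10, 4], [], [], [8, 4, 7, 4, 8], [8,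 11, 6, 2, 12], [], [], [], [], [7, 5, 12, 5, 8], [9, 11, 5, 11, 8], [8, 0, 6, 7], [8, 0, 6, 7, 5], [], [], [], [], [8, 0, 8, 10], [7, 1, 8, 6, 7], [8, 0, 8, 10, 5], [8, 0, 6, 7, 4], [], [], [], [], [], [], [], [], [], [], [], [], [], [], [], [], [], [], [], [], [], [], [], [], [], [], [], [], [], [], [], []].getD i []
theorem k1 : ∀ c < 128, Nat.mul (eqI (agF B (fun x => force (trp Q 2 7 0 c x) (trp Q 2 7 0 c)) fun x => x) 0) (cjE Q B 13 2 7 0 K c) = 0 :=
  upTo_beq (by decide +kernel)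

theorem aux {G X : Type*} [Group G] [MulAction G X] {pt : ℕ → X} {N m r y c : ℕ} {B : List ℕ} {q : ℕ → G} {Q : ℕ → ℕ → ℕ}
    {K : ℕ → List ℕ} (M : Md pt N B q Q m) (hr : r ≤ m) (hy : y < m)
    (h : Nat.mul (eqI (agF B (fun x => force (trp Q 2 r 0 c x) (trp Q 2 r 0 c)) fun x => x) 0) (cjE Q B m 2 r y K c) = 0)
    {k x : G} (e : k * x * k⁻¹ = evp q 2 r 0 c) (hx : orderOf x = 2) : IsConj (q y) x := by
  have r := rep_evp M.reps 2 r 0 c (by omega)
  have x2 : x * x = 1 := by rw [← pow_two, ← hx, pow_orderOf_eq_one]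
  simp only [force_eq] at h
  rw [(M.eqF (r.mul r) Rep.one).2 (by rw [← e]; calc _ = k * (x * x) * k⁻¹ := by group
    _ = 1 := by rw [x2]; group)] at h
  rcases mul_eq_zero' ((mul_eq_zero' h).resolve_left (by decide)) with h | h
  · rw [h, evp_zero] at e
    rw [show x = 1 by simpa using e, orderOf_one] at hx
    exact absurd hx (by decide)
  obtain ⟨e1, e2⟩ := add_eq_zero' h
  have := (M.eqF ((M.rw e1).mul (M.reps y hy)) (r.mul (M.rw e1))).1 e2
  exact isConj_iff.2 ⟨k⁻¹ * ev q (K c), by rw [mul_assoc k⁻¹, this, ← e]; group⟩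

theorem one (x : Spor.McL) (hx : orderOf x = 2) : IsConj (q 0) x := by
  obtain ⟨k, -, hk⟩ := sy.into (L := ⊤) (P := zpowers x) le_top le_top
    (IsPGroup.of_card (n := 1) (by rw [Nat.card_zpowers, hx, pow_one]))
  obtain ⟨c, hc, e⟩ := sy.nf two_pos le_rfl (hk x (mem_zpowers x))
  exact aux md (by decide) (by decide) (k1 c hc) e hx

def W1 (i : ℕ) : List ℕ := [[0], [4, 9, 9, 9, 0, 11, 5], [9, 9, 9, 0, 11, 5, 4], [4, 9, 9, 9, 0, 11, 4, 9, 9, 9, 0, 11], [1, 11, 0, 10, 10, 10, 1, 2, 11, 0, 10, 10, 10, 11, 0, 10, 10, 10], [2, 9, 9, 9, 0, 11, 4, 9, 9, 9, 0, 11, 4, 2], [6, 11, 0, 10, 10, 10, 6, 4, 9, 9, 9, 0, 11, 9, 9, 9, 0, 11]].getD i []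
noncomputable def g (j : ℕ) : Spor.McL := ev q (W1 j)
def T (j c : ℕ) : ℕ := get1 (nat_lit 0x144204c575c3a105989621728011a44634255f48b31b0cf78760989a54a74351b30901c3885cf61f1c418d84b4418025854de4194a258a80365c1e105835a4574c521010c5063df79508e00b25b7523da81c0c228115b19448845301778461530b7c935d3a18901d958771228311a6e12c851660c78045074639704525508d7cf4e266001a08a35d65f2c16141102468912164c33216d75603853de1dc4a28607de75c6da6585d65544d24503ce34c2ca2481c61440c2040) 6 63 (Nat.add (Nat.mul j 35) c)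
def σ : ℕ → ℕ := get1 (nat_lit 0x44600e973b81b0d665b258abf5dad5469f4ea41087f381b8ce662a1247c3d1d8e05e150682c1203) 9 511
def ι : ℕ → ℕ := get1 (nat_lit 0x8800000000000000000000000210000000000000000000000000000000008007c000000001e00000000001d01c0000000000000006c06800006400000006000005c00000005800000000000000000000000005400005004c000000000000000001200000000000000001100000040000000000000000000000f00e00000000034c00000000000000000000000000b0000000000000002800000000000000092001c00060000000000001400000000000000000000000000000000000001000000000000c0080040000000000000) 6 63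
def S : ℕ → ℕ := get1 (nat_lit 0x63a993b1c587a34b555927e18b2d1d33650f2b8d35c317534d1bd195c947713969a599) 8 255
def H (j c : ℕ) : ℕ := get1 (nat_lit 0x1ac6b9e2c6b1f846a9fa86a1fac099fac611fac688) 3 7 (Nat.add (Nat.mul j 8) c)
def h (j : ℕ) : alternatingGroup (Fin 8) := ⟨swap 0 (Fin.ofNat 7 j).succ * swap 0 1, by
  simp [Perm.mem_alternatingGroup, Perm.sign_swap (Fin.succ_ne_zero _).symm]⟩
def Y : Type := Fin 8 × Fin 8 → ℕ
instance actY : MulAction (alternatingGroup (Fin 8)) Y := arrowAction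
def pz (c : ℕ) (a b : Fin 8) : ℕ := Nat.land (Nat.xor (Nat.shiftRight (S c) a) (Nat.shiftRight (S c) b)) 1
def py (c : ℕ) : Y := fun p => pz c p.1 p.2
theorem htop : gen h 7 = ⊤ := Ch.top (pt := (finLab 7).pt) (N := 8) (Q := H) (M := 8) (t := [⟨7, 8, 6, get1 (nat_lit 0x5d71b699391) 6 63⟩, ⟨6, 7, 5, get1 (nat_lit 0x171b699351) 6 63⟩, ⟨5, 6, 4, get1 (nat_lit 0x5b699311) 6 63⟩, ⟨4, 5, 3, get1 (nat_lit 0x16992d1) 6 63⟩, ⟨3, 4, 2, get1 (nat_lit 0x59291) 6 63⟩, ⟨2, 3, 1, get1 (nat_lit 0x1251) 6 63⟩])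
  ⟨(finLab 7).inj, by unfold Reps PC.Rep; decide +kernel, by decide +kernel,
    cardLE_top (by rw [nat_card_alternatingGroup, Nat.card_fin]; rfl) (by decide)⟩
theorem hh : Reps py 35 h T 7 := fun j hj c hc =>
  have := (by decide +kernel : ∀ j < 7, ∀ c < 35, T j c < 35 ∧ ∀ a b, pz c ((h j)⁻¹.1 a) ((h j)⁻¹.1 b) = pz (T j c) a b) j hj c hc
  ⟨this.1, funext fun p => this.2 p.1 p.2⟩
theorem hi : Inj py 35 := fun i hi j hj e =>
  (by decide +kernel : ∀ i < 35, ∀ j < 35, (∀ a, pz i 0 a = pz j 0 a) → i = j) i hi j hj fun a => congrFun e (0, a)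
theorem hf (b : alternatingGroup (Fin 8)) (hb : ∀ c < 35, b • py c = py c) : b = 1 := by
  have key : ∀ a a' d d' : Fin 8, (∀ c < 35, pz c d d' = pz c a a') → a ≠ a' → d = a ∨ d = a' := by decide +kernel
  rw [← inv_eq_one]
  ext a
  have h3 : a ≠ a + 1 ∧ a ≠ a + 2 ∧ a + 1 ≠ a + 2 := by revert a; decide
  have h1 := key a (a + 1) _ _ (fun c hc => congrFun (hb c hc) (a, a + 1)) h3.1
  have h2 := key a (a + 2) _ _ (fun c hc => congrFun (hb c hc) (a, a + 2)) h3.2.1
  exact congrArg Fin.val (h1.resolve_right fun e => h2.elim (fun e' => h3.1 (e'.symm.trans e))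
    fun e' => h3.2.2 (e.symm.trans e'))

/-- The McLaughlin group (as a two-vector stabiliser in the automorphism group of the rank-24 lattice) has a single conjugacy class of involutions, and the centraliser of an involution is a non-split double cover of the alternating group of degree 8. -/
theorem result : (∀ x y : ↥Cfsg.Spor.McL, orderOf x = 2 → orderOf y = 2 → IsConj x y) ∧ ∃ t : ↥Cfsg.Spor.McL, orderOf t = 2 ∧ Cfsg.IsNonsplitDoubleCover ↥(Subgroup.centralizer ({t} : Set ↥Cfsg.Spor.McL)) ↥(alternatingGroup (Fin 8)) := by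
  refine ⟨fun x y hx hy => (one x hx).symm.trans (one y hy), q 0, ?_⟩
  have o := md.ord le_rfl (a := ([0], 2)) (by decide +kernel)
  simp only [ev_cons, ev_nil, one_mul] at o
  have o2 : orderOf (q 0) = 2 := orderOf_eq_prime o.2.1 o.2.2
  have cm : ∀ w, eqE Q B 13 (0 :: w) (w ++ [0]) = 0 → ev q w ∈ centralizer {q 0} := fun w hw => by
    have := md.eq hw
    simp only [ev_append, ev_cons, ev_nil, one_mul] at this
    exact mem_centralizer_singleton_iff.2 this
  have D : gen g 7 ≤ centralizer {q 0} := gen_le fun j hj => cm _ (by revert j; decide +kernel)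
  obtain ⟨φ, h1, h2, -, -⟩ := hom_of_tables (g := g)
    ((reps_words md.reps (W := W1) (r := 7) (by decide +kernel)).res σ 35 T (by decide +kernel))
    hh (md.inj.res σ ι 35 (by decide +kernel)) hi fun b _ => hf b
  rw [htop] at h2
  have c1 := md.cls cs h3 (L := ⊤) fun _ _ => trivial
  rw [top_inf_eq, card_top, McL.card] at c1
  have g0 : g 0 = q 0 := one_mul _
  have t1 : zpowers (⟨g 0, mem_gen g (by decide)⟩ : gen g 7) ≤ φ.ker := by
    rw [zpowers_le, MonoidHom.mem_ker]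
    exact (h1 0 (by decide)).trans (by decide)
  have t2 : Nat.card (zpowers (⟨g 0, mem_gen g (by decide)⟩ : gen g 7)) = 2 := by
    rw [Nat.card_zpowers, orderOf_mk, g0, o2]
  have c2 := φ.ker.index_mul_card
  rw [index_ker, h2, card_top, nat_card_alternatingGroup, Nat.card_fin] at c2
  change 20160 * _ = _ at c2
  change 22275 * Nat.card (centralizer {q 0}) ≤ _ at c1
  have c3 := card_le_of_le t1
  have c4 := card_le_of_le D
  have e1 := eq_of_le_of_card_ge D (by omega)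
  have e2 := eq_of_le_of_card_ge t1 (by omega)
  have s1 := cm [6, 3] (by decide +kernel)
  have s2 := md.eq (u := [6, 3, 6, 3]) (w := [0]) (by decide +kernel)
  rw [← e1] at s1 ⊢
  have z1 : (⟨g 0, mem_gen g (by decide)⟩ : gen g 7) ∈ center (gen g 7) :=
    mem_center_iff.2 fun a => Subtype.ext (by simpa [g0] using mem_centralizer_singleton_iff.1 (D a.2))
  have sj := MonoidHom.range_eq_top.1 h2
  have e3 : center (gen g 7) = φ.ker := by
    refine le_antisymm (fun a ha => ?_) (e2 ▸ zpowers_le.2 z1)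
    have : φ a ∈ center _ := mem_center_iff.2 fun b => by
      obtain ⟨b, rfl⟩ := sj b
      rw [← map_mul, ← map_mul, mem_center_iff.1 ha]
    rwa [alternatingGroup.center_eq_bot (by simp)] at this
  have e4 : Nat.card (center (gen g 7)) = 2 := by rw [e3, ← e2, t2]
  refine ⟨o2, e4, ⟨(QuotientGroup.quotientMulEquivOfEq e3).trans (QuotientGroup.quotientKerEquivOfSurjective φ sj)⟩, fun L hL => ?_⟩
  obtain ⟨⟨z, l⟩, e⟩ := hL.2 ⟨_, s1⟩
  have z2 : z.1 * z.1 = 1 := by
    have := pow_card_eq_one' (G := center (gen g 7)) (x := z)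
    rw [e4, pow_two] at this
    exact congrArg Subtype.val this
  have e5 : l.1 * l.1 = ⟨g 0, mem_gen g (by decide)⟩ := by
    have : z.1 * l.1 * (z.1 * l.1) = l.1 * l.1 := by
      rw [mul_assoc, ← mul_assoc l.1, mem_center_iff.1 z.2 l.1, mul_assoc, ← mul_assoc, z2, one_mul]
    rw [← this, show z.1 * l.1 = _ from e]
    exact Subtype.ext (by simpa [g0, mul_assoc] using s2)
  have := hL.disjoint.le_bot (⟨z1, e5 ▸ L.mul_mem l.2 l.2⟩ : _ ∈ center (gen g 7) ⊓ L)
  exact o.2.2 (g0.symm.trans (congrArg Subtype.val (mem_bot.1 this)))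

end Cfsg.Agent.S2132
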