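import Cfsg.Statements.S2155
import Cfsg.Agent.Lib.Chev.Fix
import Cfsg.Agent.Lib.Comp.Res

set_option autoImplicit false
open Cfsg

namespace Cfsg.Agent.S2155

open Chev Cfsg.Lie Checked

/-- In a Chevalley group of type G₂, B₂, D₄, F₄, E₆, E₇ or E₈ over a finite field of characteristic p (for types G₂ and B₂ the field is assumed to have at least 3 elements, so that the group is simple), the generalized Fitting subgroup of every proper standard parabolic subgroup P_J is a p-group (P_J is p-constrained with trivial largest normal subgroup of order prime to p). -/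
theorem result {F : Type*} [Field F] [Fintype F] (p : ℕ) [Fact p.Prime] [CharP F p] (D : Cfsg.Lie.ChevalleyDatum) (hD : D ∈ [Cfsg.Lie.chevG2, Cfsg.Lie.chevB2, Cfsg.Lie.chevD4, Cfsg.Lie.chevF4, Cfsg.Lie.chevE6, Cfsg.Lie.chevE7, Cfsg.Lie.chevE8]) (hq : (D = Cfsg.Lie.chevG2 ∨ D = Cfsg.Lie.chevB2) → 3 ≤ Fintype.card F) (J : Set ℕ) (hJ : ∃ i, i < D.rank ∧ i ∉ J) : IsPGroup p ↥(Cfsg.generalizedFittingSubgroup ↥(D.parabolicSubgroup F J)) := by
  obtain ⟨c, h, hΦ⟩ := good_of_mem hD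
  obtain ⟨i, hi, hiJ⟩ := hJ
  rw [h.PJ_eq]
  have h1 : (h.st F).UJ {i | i.val ∈ J} ≤ (h.st F).PJ {i | i.val ∈ J} := le_sup_left.trans (St.UJ_sup_LJ _).le
  have : Comp.CharP p ((h.st F).PJ {i | i.val ∈ J}) := Comp.charP_of_isPGroup_centralizer
    (Comp.le_Op h1 (Subgroup.le_normalizer_iff.2 fun g hg u hu => St.conj_UJ hg hu)
      (by rw [St.UJ_eq]; exact St.isPGroup_Ux p (RS.unip_fn _)))
    ((St.isPGroup_Ux p RS.unip_pos).to_le (St.inf_centralizer_UJ_le hΦ h.st_inj (i := ⟨i, hi⟩) hiJ))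
  rw [← Comp.subgroupOf_Fstar]
  exact (Comp.charP_iff_isPGroup_Fstar.1 this).comap_subtype

end Cfsg.Agent.S2155
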