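import Cfsg.Statements.S2160
import Cfsg.Agent.Lib.Chev.More

set_option autoImplicit false
open Cfsg

namespace Cfsg.Agent.S2160

open Chev Cfsg.Lie Checked

/-- In a Chevalley group of type G₂, B₂, D₄, F₄, E₆, E₇ or E₈ over a finite field, every field automorphism commutes with every graph automorphism. -/
theorem result {F : Type*} [Field F] [Finite F] (D : Cfsg.Lie.ChevalleyDatum) (hD : D ∈ [Cfsg.Lie.chevG2, Cfsg.Lie.chevB2, Cfsg.Lie.chevD4, Cfsg.Lie.chevF4, Cfsg.Lie.chevE6, Cfsg.Lie.chevE7, Cfsg.Lie.chevE8]) (f g : ↥(D.group F) ≃* ↥(D.group F))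
    (hf : D.IsFieldAut f) (hg : D.IsGraphAut g) (y : ↥(D.group F)) : f (g y) = g (f y) := by
  obtain ⟨c, h⟩ := checked_of_mem hD
  obtain ⟨σ, hσ⟩ := hf
  obtain ⟨π, -, hπ⟩ := hg
  have h1 : ∀ r t, f ((h.adj F).x r t) = (h.adj F).x r (σ t) := fun r t => (h.eq_adj_x r.2).1 (hσ _ r t r.2 rfl)
  have h2 : ∀ i t, g ((h.adj F).x (h.toCD.sim i) t) =
      (h.adj F).x (h.toCD.sim (π i)) (t ^ D.graphExp (ringChar F) i (π i)) ∧
      g ((h.adj F).x (h.toCD.neg (h.toCD.sim i)) t) =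
      (h.adj F).x (h.toCD.neg (h.toCD.sim (π i))) (t ^ D.graphExp (ringChar F) i (π i)) := fun i t =>
    ⟨(h.eq_adj_x (h.toCD.sim (π i)).2).1 ((hπ _ i t).1 rfl),
      (h.eq_adj_x (h.toCD.neg (h.toCD.sim (π i))).2).1 ((hπ _ i t).2 rfl)⟩
  exact DFunLike.congr_fun (St.hom_ext_sim (φ := f.toMonoidHom.comp g.toMonoidHom)
    (ψ := g.toMonoidHom.comp f.toMonoidHom) h.adj_Gx fun i t => by simp [h1, h2]) y

end Cfsg.Agent.S2160
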