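import Cfsg.Statements.S2161
import Cfsg.Agent.Lib.Chev.Fold2

set_option autoImplicit false
open Cfsg

namespace Cfsg.Agent.S2161

open Chev Cfsg.Lie Checked

theorem aux {F : Type*} [Field F] {D : ChevalleyDatum} {c : Cert} (h : Checked D c) (π : Equiv.Perm (Fin D.rank))
    (hπ : ∀ i j, h.toCD.A (π i) (h.toCD.sim (π j)) = h.toCD.A i (h.toCD.sim j)) (hl : ∀ r, h.toCD.ln r = 1)
    (φ : D.group F ≃* D.group F)
    (hφ : St.SimMap h.toCD (fun r t => φ.toMonoidHom ((h.adj F).x r t)) (h.adj F) π fun _ => RingHom.id F)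
    (r : Fin D.nroots) : ∃ ε : F, (ε = 1 ∨ ε = -1) ∧ ∃ s : Fin D.nroots, s.val = D.permRoot π r ∧
      ∀ t, φ ((h.adj F).x r t) = (h.adj F).x s (ε * t) := by
  have key : ∃ ε : ℤ, ε * ε = 1 ∧ ∃ s : Fin D.nroots, (∀ i, h.toCD.cv s (π i) = h.toCD.cv r i) ∧
      ∀ t, φ ((h.adj F).x r t) = (h.adj F).x s (ε * t) := by
    induction r using RS.root_induction (Φ := h.toCD.toRS) with
    | h1 i => exact ⟨1, rfl, h.toCD.sim (π i), fun j => by simp [h.toCD.cv_sim, Pi.single_apply], fun t => by simpa using (hφ i t).1⟩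
    | h2 i r ih =>
      obtain ⟨ε, h1, s, h2, h3⟩ := ih
      refine ⟨h.toCD.η (π i) s * ε * h.toCD.η i r, by
        linear_combination (ε * ε * h.toCD.η i r ^ 2) * h.toCD.η_sq (π i) s + h.toCD.η i r ^ 2 * h1 + h.toCD.η_sq i r,
        h.toCD.rf (π i) s, fun j => ?_, fun t => ?_⟩
      · simp only [RS.cv_rf, Pi.sub_apply, h2, Pi.single_apply, π.injective.eq_iff, RS.pair]
        rw [← Equiv.sum_comp π]; simp only [h2, hπ]
      · have e := St.n_conj (S := h.adj F) i 1 r (h.toCD.η i r * t)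
        rw [← mul_assoc, one_zpow, Units.val_one, mul_one, ← Int.cast_mul, h.toCD.η_sq, Int.cast_one, one_mul] at e
        rw [← e, map_mul, map_mul, map_inv, h3]
        erw [hφ.n]
        rw [map_one, St.n_conj]; simp [mul_assoc]
  obtain ⟨ε, h1, s, h2, h3⟩ := key
  refine ⟨ε, by rcases Int.eq_one_or_neg_one_of_mul_eq_one h1 with rfl | rfl <;> simp, s, ?_, h3⟩
  unfold ChevalleyDatum.permRoot
  cases e : List.find? _ _ with
  | none =>
    have := List.find?_eq_none.1 e s (by simp)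
    exact absurd (by simp only [List.all_eq_true, beq_iff_eq]; exact fun i _ => h2 i) this
  | some k =>
    have h4 : k < D.nroots := by simpa using List.mem_of_find?_eq_some e
    have h5 := List.find?_some e
    simp only [List.all_eq_true, List.mem_finRange, beq_iff_eq, forall_const] at h5
    refine congrArg Fin.val (h.toCD.rv_inj (a₂ := ⟨k, h4⟩) (funext fun j => ?_))
    obtain ⟨j, rfl⟩ := π.surjective j
    have a := h.toCD.ln_cv s (π j)
    have b := h.toCD.ln_cv ⟨k, h4⟩ (π j)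
    simp only [hl, one_mul] at a b
    rw [← a, ← b, h2]; exact (h5 j).symm

/-- For the Chevalley groups of types D₄ and E₆ (one root length) over any field: if `π` is a symmetry of the Dynkin diagram and `φ` is an automorphism sending `x_{p_i}(t)` to `x_{p_{π i}}(t)` and `x_{-p_i}(t)` to `x_{-p_{π i}}(t)` for every fundamental root `p_i`, then for every root `r` there is a sign `ε = ±1` with `φ(x_r(t)) = x_{π·r}(ε t)` for all `t`, where `π·r` is the root whose coefficients are those of `r` permuted by `π`. -/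
theorem result {F : Type*} [Field F] (D : Cfsg.Lie.ChevalleyDatum) (hD : D ∈ [Cfsg.Lie.chevD4, Cfsg.Lie.chevE6])
    (π : Equiv.Perm (Fin D.rank)) (hπ : D.IsDiagramSymmetry π) (φ : ↥(D.group F) ≃* ↥(D.group F))
    (hφ : ∀ (g : ↥(D.group F)) (i : Fin D.rank) (t : F),
      (((g : GL D.Idx F) : Matrix D.Idx D.Idx F) = D.x F (D.simple i) t →
        ((φ g : GL D.Idx F) : Matrix D.Idx D.Idx F) = D.x F (D.simple (π i)) t) ∧
      (((g : GL D.Idx F) : Matrix D.Idx D.Idx F) = D.x F (D.neg (D.simple i)) t →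
        ((φ g : GL D.Idx F) : Matrix D.Idx D.Idx F) = D.x F (D.neg (D.simple (π i))) t))
    (r : ℕ) (hr : r < D.nroots) :
    ∃ ε : F, (ε = 1 ∨ ε = -1) ∧ ∀ (g : ↥(D.group F)) (t : F),
      ((g : GL D.Idx F) : Matrix D.Idx D.Idx F) = D.x F r t →
        ((φ g : GL D.Idx F) : Matrix D.Idx D.Idx F) = D.x F (D.permRoot π r) (ε * t) := by
  have key : ∃ c, ∃ h : Checked D c, (∀ r, h.toCD.ln r = 1) ∧ ∀ i j k l : Fin D.rank, (i = j ↔ k = l) →
      (i ≠ j → D.bonds k l = D.bonds i j) → h.toCD.A k (h.toCD.sim l) = h.toCD.A i (h.toCD.sim j) := by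
    simp only [List.mem_cons, List.not_mem_nil, or_false] at hD
    rcases hD with rfl | rfl
    · exact ⟨_, checkedD4, by decide +kernel, by decide +kernel⟩
    · exact ⟨_, checkedE6, by decide +kernel, by decide +kernel⟩
  obtain ⟨c, h, h1, h2⟩ := key
  obtain ⟨ε, h3, s, h4, h5⟩ := aux h π (fun i j => h2 i j _ _ π.injective.eq_iff.symm (hπ i j)) h1 φ
    (fun i t => ⟨(h.eq_adj_x (h.toCD.sim (π i)).2).1 ((hφ _ i t).1 rfl),
      (h.eq_adj_x (h.toCD.neg (h.toCD.sim (π i))).2).1 ((hφ _ i t).2 rfl)⟩) ⟨r, hr⟩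
  exact ⟨ε, h3, fun g t e => by rw [(h.eq_adj_x hr).1 e, h5, ← h4]; rfl⟩

end Cfsg.Agent.S2161
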