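import Cfsg.Statements.S2163
import Mathlib
import Cfsg.Agent.Lib.Perm.Inv4

set_option autoImplicit false
open Cfsg

namespace Cfsg.Agent.S2163

open Cfsg.Agent.Classical Cfsg.Agent.Perm.Inv

/-- Over a finite field of characteristic two and for n ≥ 3: for every ℓ with 1 ≤ ℓ and 2ℓ ≤ n, the matrix j_ℓ that is the identity plus the entries 1 in positions (n − ℓ + i, i) for i < ℓ (an identity block of size ℓ in the lower left corner) lies in SL_n(F), has order 2, and j_ℓ − 1 has rank ℓ. Together with the conjugacy criterion by rank, these matrices represent the conjugacy classes of involutions of SL_n(F). -/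
theorem result {F : Type*} [Field F] [Fintype F] [CharP F 2] {n : ℕ} (hn : 3 ≤ n) (ℓ : ℕ) (h1 : 1 ≤ ℓ) (h2 : 2 * ℓ ≤ n) :
    ∃ a : Matrix.SpecialLinearGroup (Fin n) F, (a : Matrix (Fin n) (Fin n) F) = 1 + Matrix.of (fun i j : Fin n => if j.val < ℓ ∧ i.val = j.val + (n - ℓ) then (1 : F) else 0) ∧ orderOf a = 2 ∧ ((a : Matrix (Fin n) (Fin n) F) - 1).rank = ℓ := by
  let r : Fin ℓ → Fin n := fun k => ⟨k + (n - ℓ), by omega⟩
  let c : Fin ℓ → Fin n := fun k => ⟨k, by omega⟩
  have hc : Function.Injective c := fun k l h => Fin.ext (congrArg Fin.val h :)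
  have e : Matrix.of (fun i j : Fin n => if j.val < ℓ ∧ i.val = j.val + (n - ℓ) then (1 : F) else 0) =
      sel F r * (sel F c).transpose := by
    ext i j
    exact (sel_mul r c hc i j _ ⟨fun h => ⟨⟨j, h.1⟩, Fin.ext h.2, rfl⟩, fun ⟨k, a, b⟩ => by simp [a, b, r, c]⟩).symm
  have h3 : (sel F r * (sel F c).transpose).rank = ℓ := by
    rw [rank_of_fac _ _ r c, Fintype.card_fin]
    ext k l
    simp [← e, r, c, Matrix.one_apply, Fin.ext_iff]
  have h4 : (sel F c).transpose * sel F r = 0 := by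
    ext k l
    rw [mul_sel, if_neg (by simp [r, c]; omega)]; rfl
  obtain ⟨a, h5, h6⟩ := exists_sl (N := sel F r * (sel F c).transpose) CharTwo.two_eq_zero
    (by rw [Matrix.mul_assoc, ← Matrix.mul_assoc _ (sel F r), h4]; simp) (by omega)
  exact ⟨a, by rw [h5, e], h6, by rw [h5, add_sub_cancel_left, h3]⟩

end Cfsg.Agent.S2163
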