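import Cfsg.Statements.S2164
import Mathlib
import Cfsg.Agent.Lib.Perm.Inv4

set_option autoImplicit false
open Cfsg

namespace Cfsg.Agent.S2164

open Cfsg.Agent.Classical Cfsg.Agent.Perm.Inv

/-- Conjugacy of involutions in the special unitary group SU_n(q), q even, n ≥ 3, realised over the field F with q² elements as the matrices of determinant 1 preserving the form Σ u_i v_i^q: for two elements of order 2 of SU_n(q) the following are equivalent — they are conjugate in SU_n(q); they are conjugate in SL_n(F); the matrices a − 1 and b − 1 have the same rank. -/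
theorem result {F : Type*} [Field F] [Fintype F] [CharP F 2] {n q : ℕ} (hF : Fintype.card F = q ^ 2) (hn : 3 ≤ n) (a b : ↥(Cfsg.SU n F q)) (ha : orderOf a = 2) (hb : orderOf b = 2) :
    (IsConj a b ↔ IsConj (a : Matrix.SpecialLinearGroup (Fin n) F) (b : Matrix.SpecialLinearGroup (Fin n) F)) ∧
    (IsConj a b ↔ (((a : Matrix.SpecialLinearGroup (Fin n) F) : Matrix (Fin n) (Fin n) F) - 1).rank = (((b : Matrix.SpecialLinearGroup (Fin n) F) : Matrix (Fin n) (Fin n) F) - 1).rank) := by
  have h2 : (2 : F) = 0 := CharTwo.two_eq_zero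
  have h1 : IsConj a b → IsConj a.1 b.1 := fun h => (Cfsg.SU n F q).subtype.map_isConj h
  have h3 : (a.1.1 - 1).rank = (b.1.1 - 1).rank → IsConj a b := fun h => by
    rw [rank_eq (suEquiv_apply hF n a), rank_eq (suEquiv_apply hF n b)] at h
    have ha := (ord_equiv (suEquiv hF n)).1 ha
    exact (isConj_equiv (suEquiv hF n)).2 (su_conj (frobq_ne_id hF) (uForm_nondeg hF n) h2
      (Form.mem_SIsom.1 (suEquiv hF n a).2).1 (Form.mem_SIsom.1 (suEquiv hF n b).2).1 ha.1
      ((ord_equiv (suEquiv hF n)).1 hb).1 ha.2 h)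
  exact ⟨⟨h1, fun h => h3 (sl_rank_of_conj h)⟩, fun h => sl_rank_of_conj (h1 h), h3⟩

end Cfsg.Agent.S2164
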