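import Cfsg.Statements.S2165
import Mathlib
import Cfsg.Agent.Lib.Perm.Inv4

set_option autoImplicit false
open Cfsg

namespace Cfsg.Agent.S2165

open Cfsg.Agent.Classical Cfsg.Agent.Perm.Inv

/-- In SU_n(q), q even, n ≥ 3 (matrices of determinant 1 over the field with q² elements preserving Σ u_i v_i^q): for every ℓ with 1 ≤ ℓ and 2ℓ ≤ n, the permutation matrix of the involution of {0, …, n−1} exchanging i and n − ℓ + i for each i < ℓ lies in SU_n(q), has order 2, and differs from the identity by a matrix of rank ℓ. So every rank between 1 and n/2 occurs for involutions of SU_n(q). -/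
theorem result {F : Type*} [Field F] [Fintype F] [CharP F 2] {n q : ℕ} (hF : Fintype.card F = q ^ 2) (hn : 3 ≤ n) (ℓ : ℕ) (h1 : 1 ≤ ℓ) (h2 : 2 * ℓ ≤ n) :
    ∃ a : ↥(Cfsg.SU n F q), (((a : Matrix.SpecialLinearGroup (Fin n) F) : Matrix (Fin n) (Fin n) F) = Matrix.of (fun i j : Fin n => if (j.val < ℓ ∧ i.val = j.val + (n - ℓ)) ∨ (i.val < ℓ ∧ j.val = i.val + (n - ℓ)) ∨ (i = j ∧ ℓ ≤ i.val ∧ i.val < n - ℓ) then (1 : F) else 0)) ∧ orderOf a = 2 ∧ ((((a : Matrix.SpecialLinearGroup (Fin n) F) : Matrix (Fin n) (Fin n) F)) - 1).rank = ℓ := by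
  let r : Fin ℓ → Fin n := fun k => ⟨k + (n - ℓ), by omega⟩
  let c : Fin ℓ → Fin n := fun k => ⟨k, by omega⟩
  have hc : Function.Injective c := fun k l h => Fin.ext (congrArg Fin.val h :)
  have hr : Function.Injective r := fun k l h => Fin.ext (by simpa [r] using h)
  have h0 : (2 : F) = 0 := CharTwo.two_eq_zero
  set P := Matrix.of (fun i j : Fin n => if (j.val < ℓ ∧ i.val = j.val + (n - ℓ)) ∨ (i.val < ℓ ∧ j.val = i.val + (n - ℓ)) ∨ (i = j ∧ ℓ ≤ i.val ∧ i.val < n - ℓ) then (1 : F) else 0) with hP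
  set A := sel F r + sel F c with hA
  have e : P = 1 + A * A.transpose := by
    ext i j
    rw [hA, Matrix.transpose_add, Matrix.add_mul, Matrix.mul_add, Matrix.mul_add]
    simp only [Matrix.add_apply]
    rw [sel_mul r c hc i j (j.val < ℓ ∧ i.val = j.val + (n - ℓ)) ⟨fun h => ⟨⟨j, h.1⟩, Fin.ext h.2, rfl⟩, fun ⟨k, a, b⟩ => by simp [a, b, r, c]⟩,
      sel_mul c r hr i j (i.val < ℓ ∧ j.val = i.val + (n - ℓ)) ⟨fun h => ⟨⟨i, h.1⟩, rfl, Fin.ext h.2⟩, fun ⟨k, a, b⟩ => by simp [a, b, r, c]⟩,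
      sel_mul c c hc i j (i.val < ℓ ∧ i.val = j.val) ⟨fun h => ⟨⟨i, h.1⟩, rfl, Fin.ext h.2.symm⟩, fun ⟨k, a, b⟩ => by simp [a, b, c]⟩,
      sel_mul r r hr i j (n - ℓ ≤ i.val ∧ i.val = j.val) ⟨fun h => ⟨⟨i - (n - ℓ), by omega⟩, Fin.ext (by simp [r]; omega), Fin.ext (by simp [r]; omega)⟩, fun ⟨k, a, b⟩ => by simp [a, b, r]⟩]
    simp only [hP, Matrix.of_apply, Matrix.one_apply, Fin.ext_iff]
    split_ifs <;> first | omega | simp [CharTwo.add_self_eq_zero]
  have h3 : (A * A.transpose).rank = ℓ := by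
    rw [rank_of_fac _ _ r c, Fintype.card_fin]
    ext k l
    have : A * A.transpose = P - 1 := by simp [e]
    simp only [this, hP, r, c, Matrix.one_apply, Fin.ext_iff, Matrix.submatrix_apply, Matrix.sub_apply, Matrix.of_apply]
    split_ifs <;> first | omega | simp
  have h4 : A.transpose * A = 0 := by
    ext k l
    rw [hA, Matrix.transpose_add, Matrix.add_mul, Matrix.mul_add, Matrix.mul_add]
    simp only [Matrix.add_apply, mul_sel, r, c, Fin.ext_iff, Matrix.zero_apply]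
    split_ifs <;> first | omega | simp [CharTwo.add_self_eq_zero]
  have h7 : A * A.transpose * (A * A.transpose) = 0 := by rw [Matrix.mul_assoc, ← Matrix.mul_assoc _ A, h4]; simp
  obtain ⟨a, h5, h6⟩ := exists_sl h0 h7 (by omega)
  have h8 : a.1.transpose * a.1 = 1 := by
    have : a.1.transpose = a.1 := by simp [h5, Matrix.transpose_mul]
    rw [this, ← Matrix.SpecialLinearGroup.coe_mul, ← sq, ← h6, pow_orderOf_eq_one]; rfl
  have h9 : a.1.map (frobq hF) = a.1 := by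
    rw [h5, ← e]; ext i j; simp only [hP, Matrix.map_apply, Matrix.of_apply]; split_ifs <;> simp [-frobq_apply]
  refine ⟨⟨a, fun u v => ?_⟩, by rw [e]; exact h5, by rw [← Subgroup.orderOf_coe]; exact h6, by simp only [h5, add_sub_cancel_left, h3]⟩
  have h10 : ∀ i, a.1.mulVec v i ^ q = a.1.mulVec (frobq hF ∘ v) i := fun i => by
    rw [← frobq_apply hF, RingHom.map_mulVec, h9]
  change ∑ i, a.1.mulVec u i * a.1.mulVec v i ^ q = _
  simp only [h10]
  change a.1.mulVec u ⬝ᵥ _ = u ⬝ᵥ (frobq hF ∘ v)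
  rw [Matrix.dotProduct_mulVec, ← Matrix.mulVec_transpose, Matrix.mulVec_mulVec, h8, Matrix.one_mulVec]

end Cfsg.Agent.S2165
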