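import Cfsg.Statements.S2166
import Mathlib
import Cfsg.Agent.Lib.Perm.Inv4

set_option autoImplicit false
open Cfsg

namespace Cfsg.Agent.S2166

open Cfsg.Agent.Classical Cfsg.Agent.Perm.Inv

/-- Conjugacy of involutions in the symplectic group Sp_{2m}(F), F a finite field of characteristic two, m ≥ 2 (Sp taken as the matrices A with A J Aᵀ = J, acting on column vectors, with the alternating form f(u, v) = u ⬝ (J v)). For an involution t write V(t) for the set of vectors v with f(v, t v) = 0 (a subspace). Two involutions a, b are conjugate in Sp_{2m}(F) exactly when a − 1 and b − 1 have the same rank and, in case that rank is even, V(a) and V(b) have the same number of elements. -/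
theorem result {F : Type*} [Field F] [Fintype F] [CharP F 2] {m : ℕ} (hm : 2 ≤ m) (a b : ↥(Matrix.symplecticGroup (Fin m) F)) (ha : orderOf a = 2) (hb : orderOf b = 2) :
    IsConj a b ↔ ((((a : ↥(Matrix.symplecticGroup (Fin m) F)) : Matrix (Fin m ⊕ Fin m) (Fin m ⊕ Fin m) F) - 1).rank = (((b : ↥(Matrix.symplecticGroup (Fin m) F)) : Matrix (Fin m ⊕ Fin m) (Fin m ⊕ Fin m) F) - 1).rank ∧
      (Even (((a : ↥(Matrix.symplecticGroup (Fin m) F)) : Matrix (Fin m ⊕ Fin m) (Fin m ⊕ Fin m) F) - 1).rank → Nat.card {v : Fin m ⊕ Fin m → F // Cfsg.sympForm m F v (Matrix.mulVec ((a : ↥(Matrix.symplecticGroup (Fin m) F)) : Matrix (Fin m ⊕ Fin m) (Fin m ⊕ Fin m) F) v) = 0} = Nat.card {v : Fin m ⊕ Fin m → F // Cfsg.sympForm m F v (Matrix.mulVec ((b : ↥(Matrix.symplecticGroup (Fin m) F)) : Matrix (Fin m ⊕ Fin m) (Fin m ⊕ Fin m) F) v) = 0})) := by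
  have H := so2_symp (F := F) CharTwo.two_eq_zero
  have ha := ((ord_equiv (spEquiv m F)).1 ha).1
  have hb := ((ord_equiv (spEquiv m F)).1 hb).1
  rw [isConj_equiv (spEquiv m F), H.conj_iff (spForm_nondeg m) (spEquiv m F a).2 (spEquiv m F b).2 ha hb,
    rank_eq (spEquiv_apply m a), rank_eq (spEquiv_apply m b)]
  refine and_congr_right fun h => ?_
  have h1 := H.card_zero (spEquiv m F a).2 ha
  have h2 := H.card_zero (spEquiv m F b).2 hb
  have h3 := H.even (spForm_nondeg m) (spEquiv m F a).2
  have h4 := H.even (spForm_nondeg m) (spEquiv m F b).2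
  simp only [spEquiv_apply, spForm_B] at h1 h2
  have h5 : 1 < Nat.card F := Finite.one_lt_card
  have h6 : 0 < Nat.card (Fin m ⊕ Fin m → F) := Nat.card_pos
  rw [← h] at h4
  by_cases p : Alt (spForm m F) (spEquiv m F a).1 <;> by_cases r : Alt (spForm m F) (spEquiv m F b).1
  · simp [p, r, h1.1 p, h2.1 r]
  · have := h2.2 r
    simp only [p, r, h3 p, h1.1 p, forall_const, iff_false, not_true, false_iff]
    intro e; rw [← e] at this; nlinarith
  · have := h1.2 p
    simp only [p, r, h4 r, h2.1 r, forall_const, iff_true, false_iff]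
    intro e; rw [e] at this; nlinarith
  · simp only [p, r, true_iff]
    exact fun _ => Nat.eq_of_mul_eq_mul_right (by omega) ((h1.2 p).trans (h2.2 r).symm)

end Cfsg.Agent.S2166
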