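import Cfsg.Statements.S2177
import Cfsg.Agent.Lib.Chev.Inv6

set_option autoImplicit false
open Cfsg

namespace Cfsg.Agent.S2177

open Chev Cfsg.Lie Checked

/-- Conjugacy classes of involutions in the Chevalley group of type G₂ over a finite field F of characteristic two with at least four elements (the matrix group generated by the root elements x_r(t)). In this problem's root numbering for type G₂ (the Chevalley data module; p₁ = a short, p₂ = b long; roots indexed by coefficient vectors in increasing order) let 11 be the highest root 3a + 2b (long) and 9 the short root 2a + b; consider x_{3a+2b}(1) and x_{2a+b}(1). Then: each invertible matrix equal to one of these two products lies in the group and has order 2; every element of order 2 of the group is conjugate in the group to one of them; and no two of them are conjugate in the group (so, the two matrices being distinct, the group has exactly two conjugacy classes of involutions).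 -/
theorem result {F : Type*} [Field F] [Fintype F] [CharP F 2] (hF : 4 ≤ Fintype.card F) :
    (∀ y : GL Cfsg.Lie.chevG2.Idx F, ((y : GL Cfsg.Lie.chevG2.Idx F) : Matrix Cfsg.Lie.chevG2.Idx Cfsg.Lie.chevG2.Idx F) ∈ [Cfsg.Lie.chevG2.x F 11 1, Cfsg.Lie.chevG2.x F 9 1] → y ∈ Cfsg.Lie.chevG2.group F ∧ orderOf y = 2) ∧
    (∀ g ∈ Cfsg.Lie.chevG2.group F, orderOf g = 2 → ∃ y ∈ Cfsg.Lie.chevG2.group F, ((y : GL Cfsg.Lie.chevG2.Idx F) : Matrix Cfsg.Lie.chevG2.Idx Cfsg.Lie.chevG2.Idx F) ∈ [Cfsg.Lie.chevG2.x F 11 1, Cfsg.Lie.chevG2.x F 9 1] ∧ ∃ h ∈ Cfsg.Lie.chevG2.group F, h * g * h⁻¹ = y) ∧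
    (∀ y₁ ∈ Cfsg.Lie.chevG2.group F, ∀ y₂ ∈ Cfsg.Lie.chevG2.group F, ((y₁ : GL Cfsg.Lie.chevG2.Idx F) : Matrix Cfsg.Lie.chevG2.Idx Cfsg.Lie.chevG2.Idx F) ∈ [Cfsg.Lie.chevG2.x F 11 1, Cfsg.Lie.chevG2.x F 9 1] → ((y₂ : GL Cfsg.Lie.chevG2.Idx F) : Matrix Cfsg.Lie.chevG2.Idx Cfsg.Lie.chevG2.Idx F) ∈ [Cfsg.Lie.chevG2.x F 11 1, Cfsg.Lie.chevG2.x F 9 1] →
      (∃ h ∈ Cfsg.Lie.chevG2.group F, h * y₁ * h⁻¹ = y₂) → ((y₁ : GL Cfsg.Lie.chevG2.Idx F) : Matrix Cfsg.Lie.chevG2.Idx Cfsg.Lie.chevG2.Idx F) = ((y₂ : GL Cfsg.Lie.chevG2.Idx F) : Matrix Cfsg.Lie.chevG2.Idx Cfsg.Lie.chevG2.Idx F)) := by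
  obtain ⟨σ, hσ⟩ := graph_D4a F
  obtain ⟨φ, h1, h2, h3⟩ := fix_D4 F hσ
  have h := gd_D4 ((ortD4.sub (T := St.mkTw symD4a (fun r => etaP egD4a r) eta_gD4a (RingHom.id F) σ hσ) fun _ => rfl).top checkedD4.adj_Gx)
  have e : [(checkedG2.adj F).x (g2r 11) 1, (checkedG2.adj F).x (g2r 9) 1].map φ = tD4.map fun p => (checkedD4.adj F).P p.1 1 := by
    simp only [List.map_cons, List.map_nil, h1, tD4, show oG2 (g2r 11) = [(23, -1)] from rfl, show oG2 (g2r 9) = [(17, 1), (20, -1), (21, -1)] from rfl]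
    simp [fy, wd, CharTwo.neg_eq]
    exact ⟨rfl, rfl⟩
  have s := sep_D4 F
  rw [← e] at s
  exact (invReps_of h2 (fun y a => s.1 _ (List.mem_map_of_mem a)) (by rw [e, h3]; exact h.2)
    ((List.pairwise_map.1 s.2).imp fun a b => a (φ.map_isConj b))).mat rfl

end Cfsg.Agent.S2177
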