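import Cfsg.Statements.S2179
import Cfsg.Agent.Lib.Chev.Cent

set_option autoImplicit false
open Cfsg

namespace Cfsg.Agent.S2179

open Chev Cfsg.Lie Checked

/-- Centralizers of the two remaining classes of involutions in the Chevalley group G of type F₄ over a finite field F of characteristic two (this problem's root numbering for type F₄, from the Chevalley data module: p₁, p₂ short, p₃, p₄ long with indices 33, 27, 25, 24 and negatives 14, 20, 22, 23; U generated by the positive root subgroups). For an element of G with matrix x_47(1)x_44(1) (highest root times highest short root): its centralizer in G is generated by U, X_{−p₂} and X_{−p₃}. For an element of G with matrix x_39(1)x_45(1) (roots (1,2,2,1) and (2,4,2,1), an orthogonal short/long pair): its centralizer in G is generated by X_{p₁}, X_{−p₁}, X_{p₄}, X_{−p₄} and the root subgroups of all positive roots other than p₂ (27), p₃ (25), p₁ + p₂ (34) and p₃ + p₄ (26). -/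
theorem result {F : Type*} [Field F] [Fintype F] [CharP F 2] (w v : GL Cfsg.Lie.chevF4.Idx F) (hw : (w : Matrix Cfsg.Lie.chevF4.Idx Cfsg.Lie.chevF4.Idx F) = Cfsg.Lie.chevF4.x F 47 1 * Cfsg.Lie.chevF4.x F 44 1) (hv : (v : Matrix Cfsg.Lie.chevF4.Idx Cfsg.Lie.chevF4.Idx F) = Cfsg.Lie.chevF4.x F 39 1 * Cfsg.Lie.chevF4.x F 45 1) :
    Cfsg.Lie.chevF4.group F ⊓ Subgroup.centralizer {w} = Cfsg.Lie.chevF4.posUnipotent F ⊔ Cfsg.Lie.chevF4.rootSubgroup F 20 ⊔ Cfsg.Lie.chevF4.rootSubgroup F 22 ∧
    Cfsg.Lie.chevF4.group F ⊓ Subgroup.centralizer {v} = Cfsg.Lie.chevF4.rootSubgroup F 33 ⊔ Cfsg.Lie.chevF4.rootSubgroup F 14 ⊔ Cfsg.Lie.chevF4.rootSubgroup F 24 ⊔ Cfsg.Lie.chevF4.rootSubgroup F 23 ⊔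
      Subgroup.closure {g : GL Cfsg.Lie.chevF4.Idx F | ∃ (r : ℕ) (c : F), Cfsg.Lie.chevF4.IsPosRoot r ∧ r ∉ [27, 25, 34, 26] ∧ (g : Matrix Cfsg.Lie.chevF4.Idx Cfsg.Lie.chevF4.Idx F) = Cfsg.Lie.chevF4.x F r c} := by
  have e1 : w = (checkedF4.st F).P [f4r 47, f4r 44] 1 := Units.ext (by rw [hw, checkedF4.st_P]; simp [ChevalleyDatum.wordMat]; rfl)
  have e2 : v = (checkedF4.st F).P [f4r 39, f4r 45] 1 := Units.ext (by rw [hv, checkedF4.st_P]; simp [ChevalleyDatum.wordMat]; rfl)
  have e3 := checkedF4.closure_eq (F := F) (fun r => chevF4.IsPosRoot r ∧ r ∉ [27, 25, 34, 26]) fun r h => h.1.1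
  simp only [and_assoc] at e3
  rw [e1, e2, e3, checkedF4.U_eq, checkedF4.root_eq (r := 14) (by decide), checkedF4.root_eq (r := 20) (by decide),
    checkedF4.root_eq (r := 22) (by decide), checkedF4.root_eq (r := 23) (by decide),
    checkedF4.root_eq (r := 33) (by decide), checkedF4.root_eq (r := 24) (by decide), St.U, checkedF4.group_eq]
  simp only [← St.Ux_union]
  constructor
  · refine St.cent_eq_central checkedF4.hMul_st (J := {j | j = f4n 1 ∨ j = f4n 2}) (by decide) (by decide +kernel)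
      (closed_of_list (by decide +kernel)) (fun w hw => ?_) (fun r hr => Or.inl (Or.inl hr)) (by decide +kernel)
      (fun r hr s hs => checkedF4.commute_fin _ 2 (by revert r s; decide +kernel)) fun c hc i hi => ?_
    · refine RS.mem_WJ_of_fix [(f4r 47, 1), (f4r 44, 1)] ?_ (by decide +kernel) (by decide +kernel)
      have h1 := RS.ln_smul w (f4r 47)
      have h2 := hw (f4r 47) (by simp)
      have h3 := RS.ln_smul w (f4r 44)
      have h4 := hw (f4r 44) (by simp)
      simp only [List.forall_mem_cons, List.not_mem_nil, false_imp_iff, implies_true, and_true]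
      revert h1 h2 h3 h4; generalize w • f4r 47 = r, w • f4r 44 = s; revert r s; decide +kernel
    · have h1 := hc (f4r 47) (by simp)
      have h2 := hc (f4r 44) (by simp)
      have h3 : ∀ i, checkedF4.toCD.A i (f4r 47) = (if i = f4n 3 then 1 else 0) ∧
        checkedF4.toCD.A i (f4r 44) = if i = f4n 0 then 1 else 0 := by decide +kernel
      have h4 : ∀ i : Fin chevF4.rank, ¬ (i = f4n 1 ∨ i = f4n 2) → i = f4n 0 ∨ i = f4n 3 := by decide
      rcases h4 i hi with rfl | rfl
      · simpa [h3] using h2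
      · simpa [h3] using h1
  generalize hA : ({⟨33, _⟩} ∪ {⟨14, _⟩} ∪ {⟨24, _⟩} ∪ {⟨23, _⟩} ∪ _ : Set (Fin chevF4.nroots)) = A
  replace hA : ∀ r, r ∈ A ↔ (r = f4r 14 ∨ r = f4r 23) ∨ 23 < r.val ∧ r.val ∉ [27, 25, 34, 26] := by
    subst hA; decide +kernel
  have hc : ∀ r ∈ A, ∀ s ∈ [f4r 39, f4r 45], ∀ t u,
      Commute ((checkedF4.st F).x r t) ((checkedF4.st F).x s u) := fun r hr s hs =>
    checkedF4.commute_fin _ 2 (by rw [hA] at hr; revert r s; decide +kernel)
  refine St.cent_eq (checkedF4.hMul_st (K := F)) (L' := [f4r 40, f4r 44, f4r 46, f4r 47])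
    (J := {j | j = f4n 0 ∨ j = f4n 3}) (by decide) (by decide +kernel) (closed_of_list (by decide +kernel))
    (fun u hu => ?_) (fun w hw => ?_) (fun j hj t => ⟨St.x_mem ((hA _).2 (by revert j; decide +kernel)) t,
      St.x_mem ((hA _).2 (by revert j; decide +kernel)) t⟩) rfl hc fun c hc i hi => ?_
  · obtain ⟨t, v, hv, rfl⟩ := St.exists_eq_P_mul RS.unip_pos (L := [f4r 27, f4r 34, f4r 25, f4r 26]) (by decide)
      (by decide +kernel) hu
    have hv' : v ∈ (checkedF4.st F).Ux A := St.Ux_mono (fun r => by rw [hA]; revert r; decide +kernel) hv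
    refine ⟨fun r => [t (f4r 27), 0, 0, 0, t (f4r 34), 0, t (f4r 25)].getD (r.val - 40) (t (f4r 26)), ?_, fun e => ?_⟩
    · rw [mul_inv_eq_iff_eq_mul, mul_assoc, (St.commute_P hc hv' 1).eq, ← mul_assoc, ← mul_assoc, mul_left_inj]
      have := checkedF4.wd_eq_of_same (checkedF4.st F).rel 2 [t (f4r 27), t (f4r 34), t (f4r 25), t (f4r 26)] id 40
        [(27, [(1, [1])]), (34, [(1, [0, 1])]), (25, [(1, [0, 0, 1])]), (26, [(1, [0, 0, 0, 1])]), (39, [(1, [])]),
          (45, [(1, [])])]
        [(39, [(1, [])]), (45, [(1, [])]), (40, [(1, [1])]), (44, [(1, [0, 1])]), (46, [(1, [0, 0, 1])]),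
          (47, [(1, [0, 0, 0, 1])]), (27, [(1, [1])]), (34, [(1, [0, 1])]), (25, [(1, [0, 0, 1])]),
          (26, [(1, [0, 0, 0, 1])])] (by decide +kernel)
      simp only [St.P_cons, St.P_nil, mul_assoc, mul_one, Pi.one_apply]
      simp [wd, Col.ev, Col.mpev, Col.mev] at this
      exact this
    · have := St.P_inj RS.unip_pos (by decide) (by decide +kernel)
        (e.trans (St.P_zero (t := fun _ => 0) fun _ _ => rfl).symm)
      rw [St.P_zero (by
        simp only [List.forall_mem_cons]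
        exact ⟨this (f4r 40) (by simp), this (f4r 44) (by simp), this (f4r 46) (by simp), this (f4r 47) (by simp),
          by simp⟩), one_mul]
      exact hv'
  · refine RS.mem_WJ_of_fix [(f4r 39, 2), (f4r 45, 3)] ?_ (by decide +kernel) (by decide +kernel)
    have h1 := RS.ln_smul w (f4r 39)
    have h2 := hw (f4r 39) (by simp)
    have h3 := RS.ln_smul w (f4r 45)
    have h4 := hw (f4r 45) (by simp)
    have h5 := RS.pair_smul w (f4r 39) (f4r 45)
    simp only [List.forall_mem_cons, List.not_mem_nil, false_imp_iff, implies_true, and_true]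
    revert h2 h4 h1 h3 h5; generalize w • f4r 39 = r, w • f4r 45 = s; revert r s; decide +kernel
  · have h1 := hc (f4r 39) (by simp)
    have h2 := hc (f4r 45) (by simp)
    have h3 : ∀ i, checkedF4.toCD.A i (f4r 39) = [0, -1, 1, 0].getD i 0 ∧
      checkedF4.toCD.A i (f4r 45) = [0, 2, -1, 0].getD i 0 := by decide +kernel
    have h4 : ∀ i : Fin chevF4.rank, ¬ (i = f4n 0 ∨ i = f4n 3) → i = f4n 1 ∨ i = f4n 2 := by decide
    simp only [h3] at h1 h2
    erw [Fin.prod_univ_four] at h1 h2
    simp [inv_mul_eq_one, mul_inv_eq_one, zpow_two] at h1 h2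
    rw [← h1, sq, mul_eq_left] at h2
    rcases h4 i hi with rfl | rfl
    · exact h2
    · exact h1.symm.trans h2

end Cfsg.Agent.S2179
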