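import Cfsg.Statements.S2180
import Cfsg.Agent.Lib.Chev.Cent

set_option autoImplicit false
open Cfsg

namespace Cfsg.Agent.S2180

open Chev Cfsg.Lie Checked

/-- Centralizers of involutions in the Chevalley group G of type G₂ over a finite field F of characteristic two with at least four elements (this problem's root numbering for type G₂, from the Chevalley data module: a = p₁ short with index 7, b = p₂ long with index 6, −a = 4, −b = 5, 2a + b = 9, 3a + b = 10, 3a + 2b = 11; U generated by the positive root subgroups). For an element z of G with matrix x_{3a+2b}(1): the centralizer of z in G is generated by U and X_{−a}. For an element t of G with matrix x_{2a+b}(1): the centralizer of t in G is generated by X_{2a+b}, X_{3a+b}, X_{3a+2b}, X_b and X_{−b}. -/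
theorem result {F : Type*} [Field F] [Fintype F] [CharP F 2] (hF : 4 ≤ Fintype.card F) (z t : GL Cfsg.Lie.chevG2.Idx F) (hz : (z : Matrix Cfsg.Lie.chevG2.Idx Cfsg.Lie.chevG2.Idx F) = Cfsg.Lie.chevG2.x F 11 1) (ht : (t : Matrix Cfsg.Lie.chevG2.Idx Cfsg.Lie.chevG2.Idx F) = Cfsg.Lie.chevG2.x F 9 1) :
    Cfsg.Lie.chevG2.group F ⊓ Subgroup.centralizer {z} = Cfsg.Lie.chevG2.posUnipotent F ⊔ Cfsg.Lie.chevG2.rootSubgroup F 4 ∧
    Cfsg.Lie.chevG2.group F ⊓ Subgroup.centralizer {t} = Cfsg.Lie.chevG2.rootSubgroup F 9 ⊔ Cfsg.Lie.chevG2.rootSubgroup F 10 ⊔ Cfsg.Lie.chevG2.rootSubgroup F 11 ⊔ Cfsg.Lie.chevG2.rootSubgroup F 6 ⊔ Cfsg.Lie.chevG2.rootSubgroup F 5 := by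
  rw [(checkedG2.eq_x_iff (by decide)).1 hz, (checkedG2.eq_x_iff (by decide)).1 ht,
    checkedG2.cent_root 2 _ (g2n 1) (fun r => checkedG2.toCD.Pos r ∨ r = g2r 4) (by decide +kernel),
    checkedG2.U_eq, checkedG2.root_eq (r := 4) (by decide), checkedG2.root_eq (r := 9) (by decide),
    checkedG2.root_eq (r := 10) (by decide), checkedG2.root_eq (r := 11) (by decide),
    checkedG2.root_eq (r := 6) (by decide), checkedG2.root_eq (r := 5) (by decide), St.U, checkedG2.group_eq]
  simp only [← St.Ux_union]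
  refine ⟨rfl, ?_⟩
  have hc : ∀ r ∈ {r | r ∈ [g2r 9, g2r 10, g2r 11, g2r 6, g2r 5]}, ∀ s ∈ [g2r 9], ∀ t u,
      Commute ((checkedG2.st F).x r t) ((checkedG2.st F).x s u) := fun r hr s hs =>
    checkedG2.commute_fin _ 2 (by revert r s; decide +kernel)
  have := St.cent_eq (checkedG2.hMul_st (K := F)) (L₀ := [g2r 9]) (L' := [g2r 10, g2r 11]) (J := {g2n 1})
    (by decide) (by decide +kernel) (closed_of_list (by decide +kernel)) (fun u hu => ?_) (fun w hw => ?_)
    (by rintro _ rfl t; exact ⟨St.x_mem (by decide +kernel) t, St.x_mem (by decide +kernel) t⟩) rfl hc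
    (fun c hc i hi => ?_)
  · simp only [St.P_cons, St.P_nil, mul_one, Pi.one_apply] at this
    refine this.trans (congrArg _ (Set.ext ?_))
    decide +kernel
  · obtain ⟨t, v, hv, rfl⟩ := St.exists_eq_P_mul RS.unip_pos (L := [g2r 7, g2r 8]) (by decide) (by decide +kernel) hu
    have hv' : v ∈ (checkedG2.st F).Ux {r | r ∈ [g2r 9, g2r 10, g2r 11, g2r 6, g2r 5]} :=
      St.Ux_mono (fun r => by revert r; decide +kernel) hv
    refine ⟨fun r => [t (g2r 7)].getD (r.val - 10) (t (g2r 8)), ?_, fun e => ?_⟩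
    · rw [mul_inv_eq_iff_eq_mul, mul_assoc, (St.commute_P hc hv' 1).eq, ← mul_assoc, ← mul_assoc, mul_left_inj]
      have := checkedG2.wd_eq_of_same (checkedG2.st F).rel 2
        [t (g2r 7), t (g2r 8)] id 20 [(7, [(1, [1])]), (8, [(1, [0, 1])]), (9, [(1, [])])]
        [(9, [(1, [])]), (10, [(1, [1])]), (11, [(1, [0, 1])]), (7, [(1, [1])]), (8, [(1, [0, 1])])] (by decide +kernel)
      simp only [St.P_cons, St.P_nil, mul_assoc, mul_one, Pi.one_apply]
      simp [wd, Col.ev, Col.mpev, Col.mev] at this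
      exact this
    · have := St.P_inj RS.unip_pos (by decide) (by decide +kernel)
        (e.trans (St.P_zero (t := fun _ => 0) fun _ _ => rfl).symm)
      rw [St.P_zero (by
        simp only [List.forall_mem_cons]
        exact ⟨this (g2r 10) (by simp), this (g2r 11) (by simp), by simp⟩), one_mul]
      exact hv'
  · refine RS.mem_WJ_of_fix [(g2r 9, 1)] ?_ (by decide +kernel) (by decide +kernel)
    have h1 := RS.ln_smul w (g2r 9)
    have h2 := hw (g2r 9) (by simp)
    simp only [List.mem_singleton, forall_eq]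
    revert h1 h2; generalize w • g2r 9 = r; revert r; decide +kernel
  · have h1 := hc (g2r 9) (by simp)
    have h2 : ∀ i, checkedG2.toCD.A i (g2r 9) = if i = g2n 0 then 1 else 0 := by decide +kernel
    have h3 : ∀ i : Fin chevG2.rank, i ≠ g2n 1 → i = g2n 0 := by decide
    rw [h3 i hi]; simpa [h2] using h1

end Cfsg.Agent.S2180
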