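import Cfsg.Statements.S2182
import Cfsg.Agent.Lib.Chev.Inv7

set_option autoImplicit false
open Cfsg

namespace Cfsg.Agent.S2182


open Chev Cfsg.Lie Checked Col
set_option maxRecDepth 100000

/-- The twisted group ²E₆(q), q even, realised inside the Chevalley group of type E₆ over the field K with q² elements, has exactly three conjugacy classes of elements of order 2. -/
theorem result {K : Type*} [Field K] [Fintype K] [CharP K 2] (q : ℕ) (hK : Fintype.card K = q ^ 2) :
    (ConjClasses.mk '' {g : ↥(Cfsg.Lie.twistedE6 K q) | orderOf g = 2}).ncard = 3 := by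
  have hq := (isPrimePow_pow_iff (by decide)).1 (hK ▸ FiniteField.isPrimePow_card K)
  obtain ⟨f, hf⟩ := exists_frob hq hK
  have hX := sub_2E6 hf hK
  have f2 := frob_sq hf hK
  obtain ⟨e, he⟩ : ∃ e, e + f e = 1 := by
    obtain ⟨t, a⟩ : ∃ t, t + f t ≠ 0 := by
      by_contra! z
      have := card_fixed hq.one_lt.le hK
      rw [Set.eq_univ_of_forall (s := {t : K | t ^ q = t}) fun t => by simpa [hf, CharTwo.add_eq_zero, eq_comm] using z t, Nat.card_univ,
        Nat.card_eq_fintype_card, hK] at this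
      nlinarith [hq.one_lt]
    exact ⟨t / (t + f t), by rw [map_div₀, map_add, f2, add_comm (f t), ← add_div, div_self a]⟩
  have m := fun a b c => St.mem2 hX lac6 σ_E6 f2 (e6r a) (e6r b) c
  have h1 : ∀ L ∈ kE6.take 4, Gd (checkedE6.inc (e6Words K q)).range (tE6.map fun p => (checkedE6.adj K).P p.1 1) ((checkedE6.adj K).P L 1) := fun L a => by
    obtain a | rfl : L ∈ tE6.map (·.1) ∨ L = [65, 69].map e6r := by revert L; decide +kernel
    · obtain ⟨p, b, rfl⟩ := List.mem_map.1 a
      exact Or.inr ⟨_, List.mem_map_of_mem b, Cj.refl _ _⟩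
    refine Or.inr ⟨(checkedE6.adj K).P ([68, 66].map e6r) 1, .tail _ (.head _), (cj_step lac6 σ_E6 hX ([29, 34].map e6r) _ ([66, 68, 69].map e6r) (by dsimp only [St.mkTw]; decide +kernel)).trans
      (Cj.symm ⟨_, m 42 37 (by dsimp only [St.mkTw]; decide +kernel) e, mul_inv_eq_iff_eq_mul.2 ?_⟩)⟩
    have := checkedE6.wd_eq_of_same (checkedE6.adj K).rel 2 [e, f e] id 40 [(42, [(1, [1])]), (37, [(1, [0, 1])]), (68, [(1, [])]), (66, [(1, [])])]
      [(66, [(1, [])]), (68, [(1, [])]), (69, [(1, [1]), (1, [0, 1])]), (42, [(1, [1])]), (37, [(1, [0, 1])])] (by decide +kernel)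
    simp only [wd, ev, mpev, mev, List.map_cons, List.map_nil, List.sum_cons, List.sum_nil, List.prod_cons, List.prod_nil, pow_zero, pow_one, Int.cast_one,
      one_mul, mul_one, add_zero, he] at this
    simp only [List.map_cons, List.map_nil, St.P_cons, St.P_nil, mul_assoc, mul_one, Pi.one_apply]
    exact this
  have s := St.inv_sep (S := checkedE6.adj K) lac6 checkedE6.adj_Gx (δ := e6r 71) (T := tE6) (by decide +kernel)
  refine ncard_of (checkedE6.inc_inj _) (fun y a => ⟨?_, s.1 y a⟩) (gd_E6 hX f2 h1 fun u a b => ?_) s.2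
  · obtain ⟨p, b, rfl⟩ := List.mem_map.1 a
    exact St.memX lac6 σ_E6 hX (by dsimp only [St.mkTw]; clear a; revert p; decide +kernel) (by simp)
  obtain ⟨t, rfl, c⟩ := St.exists_fixP (T := twE6 f) lac6 σ_E6 (by dsimp only [St.mkTw]; decide +kernel) a b
  have c1 : t (e6r 68) = f (t (e6r 66)) := c (e6r 66) (by decide +kernel)
  have c2 : t (e6r 70) = f (t (e6r 70)) := c (e6r 70) (by decide +kernel)
  have c3 : t (e6r 71) = f (t (e6r 71)) := c (e6r 71) (by decide +kernel)
  by_cases z : t (e6r 66) = 0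
  · have e : (checkedE6.adj K).P ([66, 68, 70, 71].map e6r) t = (checkedE6.adj K).P ([70, 71].map e6r) t := by
      simp only [List.map_cons, List.map_nil, St.P_cons, St.P_nil]
      rw [c1, z, map_zero, St.x_zero, St.x_zero, one_mul, one_mul]
    exact chk_E6 hX h1 (Sp := []) (by simp) [70] [70, 71] 2 (by decide +kernel) _ (e ▸ St.P_mem (fun _ => id) t) b
  have k := mul_mem (m 43 40 (by dsimp only [St.mkTw]; decide +kernel) (t (e6r 70) * e / t (e6r 66)))
    (m 50 48 (by dsimp only [St.mkTw]; decide +kernel) (t (e6r 71) * e / t (e6r 66)))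
  refine (chk_E6 hX h1 (Sp := []) (by simp) [] [66, 68] 1 (by decide +kernel) _ ?_ (by rw [map_mul, map_mul, map_inv, b]; erw [hX.fix _ k])).of ⟨_, k, rfl⟩
  have n : ∀ a, a = f a → t (e6r 66) * (a * e / t (e6r 66)) + f (t (e6r 66)) * f (a * e / t (e6r 66)) = a := fun a b => by
    rw [← map_mul, mul_div_cancel₀ _ z, map_mul, ← b, ← mul_add, he, mul_one]
  have e := mem_of_collect (S := checkedE6.adj K) [t (e6r 66), f (t (e6r 66)), t (e6r 70) * e / t (e6r 66), f (t (e6r 70) * e / t (e6r 66)),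
    t (e6r 71) * e / t (e6r 66), f (t (e6r 71) * e / t (e6r 66))] 60
    [(43, [(1, [0, 0, 1])]), (40, [(1, [0, 0, 0, 1])]), (50, [(1, [0, 0, 0, 0, 1])]), (48, [(1, [0, 0, 0, 0, 0, 1])]),
      (66, [(1, [1])]), (68, [(1, [0, 1])]), (70, [(1, [1, 0, 1]), (1, [0, 1, 0, 1])]), (71, [(1, [1, 0, 0, 0, 1]), (1, [0, 1, 0, 0, 0, 1])]),
      (48, [(1, [0, 0, 0, 0, 0, 1])]), (50, [(1, [0, 0, 0, 0, 1])]), (40, [(1, [0, 0, 0, 1])]), (43, [(1, [0, 0, 1])])] ([66, 68].map e6r) (by decide +kernel)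
  simp only [wd, ev, mpev, mev, List.map_cons, List.map_nil, List.sum_cons, List.sum_nil, List.prod_cons, List.prod_nil, pow_zero, pow_one, Int.cast_one,
    one_mul, mul_one, add_zero, n _ c2, n _ c3] at e
  simp only [List.map_cons, List.map_nil, St.P_cons, St.P_nil, mul_inv_rev, St.x_inv, CharTwo.neg_eq, mul_assoc, mul_one, c1]
  exact e

end Cfsg.Agent.S2182
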