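import Cfsg.Statements.S2186
import Cfsg.Agent.Lib.Chev.Cent

set_option autoImplicit false
open Cfsg

namespace Cfsg.Agent.S2186

open Chev Cfsg.Lie in
theorem aux {F : Type*} [Field F] [Fintype F] [CharP F 2] {D : ChevalleyDatum} {c : Cert} (h : Checked D c)
    (hn : D.nroots - 1 < D.nroots) (h0 : 0 < D.nroots)
    (e : h.toCD.neg ⟨_, hn⟩ = ⟨0, h0⟩ ∧ ∀ r, h.toCD.Pos r → D.nroots - 1 = r ∨ D.nroots - 1 ≠ ngP D.nroots r ∧
        redL 2 (D.commTerms r (D.nroots - 1)) = []) (g : GL D.Idx F) (hg : g ∈ D.group F) :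
    IsPGroup 2 ↥(D.rootSubgroup F (D.nroots - 1) ⊔ (D.rootSubgroup F (D.nroots - 1)).map (MulAut.conj g).toMonoidHom) ∨
    ∃ h ∈ D.group F, (D.rootSubgroup F (D.nroots - 1) ⊔ (D.rootSubgroup F (D.nroots - 1)).map
      (MulAut.conj g).toMonoidHom).map (MulAut.conj h).toMonoidHom =
      D.rootSubgroup F (D.nroots - 1) ⊔ D.rootSubgroup F 0 := by
  rw [h.group_eq] at *
  rw [h.root_eq hn, h.root_eq h0, ← e.1]
  have hc := fun g hg => St.commute_U (S := h.st F) (δ := ⟨_, hn⟩) (g := g)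
    (fun r hr => h.commute_fin _ 2 (e.2 r hr)) hg
  generalize (⟨_, hn⟩ : Fin D.nroots) = δ at hc
  obtain ⟨u, hu, m, hm, w, ⟨χ, -, hw⟩, u', hu', rfl⟩ := St.bruhat' hg
  have key : ((h.st F).Ux {δ} ⊔ ((h.st F).Ux {δ}).map (MulAut.conj (u * m * u')).toMonoidHom).map
      (MulAut.conj u⁻¹).toMonoidHom = (h.st F).Ux {δ} ⊔ (h.st F).Ux {w • δ} := by
    rw [Subgroup.map_sup, Subgroup.map_map]
    congr 1 <;> ext g <;> simp only [Subgroup.mem_map, St.mem_Ux_singleton]
    · refine ⟨?_, ?_⟩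
      · rintro ⟨_, ⟨t, rfl⟩, rfl⟩
        exact ⟨t, by simp [mul_assoc, ← (hc u hu t).eq]⟩
      · rintro ⟨t, rfl⟩
        exact ⟨_, ⟨t, rfl⟩, by simp [mul_assoc, ← (hc u hu t).eq]⟩
    · have : ∀ t, ((MulAut.conj u⁻¹).toMonoidHom.comp (MulAut.conj (u * m * u')).toMonoidHom) ((h.st F).x δ t) =
          (h.st F).x (w • δ) (χ δ * t) := fun t => by
        rw [← hw, ← mul_inv_cancel_right ((h.st F).x δ t) u', ← (hc u' (St.Uw_le_U _ hu') t).eq]
        simp [mul_assoc, (hc u' (St.Uw_le_U _ hu') t).left_comm]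
      refine ⟨?_, ?_⟩
      · rintro ⟨_, ⟨t, rfl⟩, rfl⟩
        exact ⟨_, this t⟩
      · rintro ⟨t, rfl⟩
        exact ⟨_, ⟨(χ δ)⁻¹ * t, rfl⟩, by rw [this]; simp⟩
  by_cases hw' : w • δ = h.toCD.neg δ
  · exact Or.inr ⟨u⁻¹, inv_mem (St.Ux_le_Gx _ hu), hw' ▸ key⟩
  · obtain ⟨f, h1, h2⟩ := RS.exists_fn_pos hw'
    refine Or.inl (IsPGroup.of_equiv ?_ ((Subgroup.equivMapOfInjective _ (MulAut.conj u⁻¹).toMonoidHom
      (MulAut.conj u⁻¹).injective).symm))
    rw [key]
    exact (St.isPGroup_Ux 2 (RS.unip_fn f)).to_le (sup_le (St.Ux_mono (by simpa)) (St.Ux_mono (by simpa)))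

/-- Let G be the Chevalley group of type G₂ (over a field with at least four elements), D₄, E₆, E₇ or E₈ over a finite field F of characteristic two, and let X be the root subgroup of the highest root (the last root index) — a long root subgroup, of order |F|. For every g in G, the subgroup generated by X and its conjugate g X g⁻¹ is either a 2-group or is conjugate by an element of G to the subgroup generated by X and the root subgroup of the lowest root (index 0, the negative of the highest root), which is a copy of SL₂(F). -/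
theorem result {F : Type*} [Field F] [Fintype F] [CharP F 2] (D : Cfsg.Lie.ChevalleyDatum) (hD : D ∈ [Cfsg.Lie.chevG2, Cfsg.Lie.chevD4, Cfsg.Lie.chevE6, Cfsg.Lie.chevE7, Cfsg.Lie.chevE8]) (hF : D = Cfsg.Lie.chevG2 → 4 ≤ Fintype.card F) (g : GL D.Idx F) (hg : g ∈ D.group F) :
    IsPGroup 2 ↥(D.rootSubgroup F (D.nroots - 1) ⊔ (D.rootSubgroup F (D.nroots - 1)).map (MulAut.conj g).toMonoidHom) ∨
    ∃ h ∈ D.group F, (D.rootSubgroup F (D.nroots - 1) ⊔ (D.rootSubgroup F (D.nroots - 1)).map (MulAut.conj g).toMonoidHom).map (MulAut.conj h).toMonoidHom = D.rootSubgroup F (D.nroots - 1) ⊔ D.rootSubgroup F 0 := by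
  simp only [List.mem_cons, List.not_mem_nil, or_false] at hD
  rcases hD with rfl | rfl | rfl | rfl | rfl
  · exact aux Chev.checkedG2 (by decide) (by decide) (by decide +kernel) g hg
  · exact aux Chev.checkedD4 (by decide) (by decide) (by decide +kernel) g hg
  · exact aux Chev.checkedE6 (by decide) (by decide) (by decide +kernel) g hg
  · exact aux Chev.checkedE7 (by decide) (by decide) (by decide +kernel) g hg
  · exact aux Chev.checkedE8 (by decide) (by decide) (by decide +kernel) g hg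

end Cfsg.Agent.S2186
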