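import Cfsg.Statements.S2197
import Cfsg.Agent.Lib.Cert.T2.Y
import Cfsg.Agent.Lib.Cert.T2.M3

set_option autoImplicit false
open Cfsg

namespace Cfsg.Agent.S2197

/-- The Tits group (the commutator subgroup of ²F₄(2)) has no faithful 2-transitive action on a finite set with more than two points. -/
theorem result {Ω : Type*} [Fintype Ω] [MulAction Cfsg.Lie.TitsGroup Ω] [FaithfulSMul Cfsg.Lie.TitsGroup Ω] (hΩ : 3 ≤ Fintype.card Ω) :
    ¬ MulAction.IsMultiplyPretransitive Cfsg.Lie.TitsGroup Ω 2 := by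
  intro h
  obtain ⟨e⟩ := Ct.T2.iso
  letI := MulAction.compHom Ω e.toMonoidHom
  haveI : FaithfulSMul Ct.T2.P Ω := ⟨fun h => e.injective (eq_of_smul_eq_smul h)⟩
  refine Ct.T2c.no2 Ω hΩ (MulAction.is_two_pretransitive_iff.mpr fun h1 h2 => ?_)
  obtain ⟨g, hg⟩ := MulAction.is_two_pretransitive_iff.mp h h1 h2
  exact ⟨e.symm g, by simpa [MulAction.compHom_smul_def] using hg⟩

end Cfsg.Agent.S2197
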