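import Cfsg.Statements.S2209
import Cfsg.Agent.Lib.Chev.Cent

set_option autoImplicit false
open Cfsg

namespace Cfsg.Agent.S2209

open Chev Cfsg.Lie in
theorem aux {F : Type*} [Field F] [CharP F 2] {D : ChevalleyDatum} {c : Cert} (h : Checked D c) (L : List ℕ)
    (hn : D.nroots - 1 < D.nroots) (i₀ : Fin D.rank) (hL : ∀ r ∈ L, r < D.nroots)
    (e : h.toCD.Pos ⟨_, hn⟩ ∧ (∀ i, h.toCD.A i ⟨_, hn⟩ = if i = i₀ then 1 else 0) ∧
      (∀ j, j ≠ i₀ → (h.toCD.neg (h.toCD.sim j)).val ∈ L) ∧
      ∀ r, (h.toCD.Pos r ∨ r.val ∈ L) → D.nroots - 1 = r ∨ D.nroots - 1 ≠ ngP D.nroots r ∧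
        redL 2 (D.commTerms r (D.nroots - 1)) = [])
    (t : GL D.Idx F) (ht : (t : Matrix D.Idx D.Idx F) = D.x F (D.nroots - 1) 1) :
    D.group F ⊓ Subgroup.centralizer {t} = D.posUnipotent F ⊔
      Subgroup.closure {g : GL D.Idx F | ∃ s ∈ L, ∃ c : F, (g : Matrix D.Idx D.Idx F) = D.x F s c} := by
  rw [(h.eq_x_iff hn).1 ht, h.cent_root 2 ⟨_, hn⟩ i₀ (fun r => h.toCD.Pos r ∨ r.val ∈ L)
    ⟨e.1, e.2.1, fun _ => Or.inl, fun j hj => Or.inr (e.2.2.1 j hj), e.2.2.2⟩, h.U_eq]
  have := h.closure_eq (F := F) (· ∈ L) hL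
  simp only [exists_and_left] at this
  rw [this, St.U, ← St.Ux_union]; rfl

/-- Centralizer of a long root involution in the Chevalley groups of type E₆, E₇, E₈ over a finite field F of characteristic two. Let G be the group generated by the root elements, U the subgroup generated by the positive root subgroups, r the highest root (the last root index: 71, 125, 239 respectively), and t the element of G with matrix x_r(1). Then the centralizer of t in G is the subgroup generated by U together with the root subgroups X_{−p} for the fundamental roots p orthogonal to r — all fundamental roots except p₂ for E₆, except p₁ for E₇, except p₈ for E₈ (numbering with p₁–p₃–p₄–…–p_l the long chain and p₂ joined to p₄); the indices of these negative fundamental roots are 15, 29, 32, 34, 35 (E₆), 47, 52, 56, 59, 61, 62 (E₇), 77, 98, 104, 109, 113, 116, 118 (E₈). (This is the unipotent radical of the corresponding maximal parabolic subgroup extended by the root subgroups of its Levi factor, of type A₅, D₆, E₇ respectively.)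 -/
theorem result {F : Type*} [Field F] [Fintype F] [CharP F 2] (d : Cfsg.Lie.ChevalleyDatum × List ℕ)
    (hd : d ∈ [(Cfsg.Lie.chevE6, [15, 29, 32, 34, 35]), (Cfsg.Lie.chevE7, [47, 52, 56, 59, 61, 62]), (Cfsg.Lie.chevE8, [77, 98, 104, 109, 113, 116, 118])])
    (t : GL d.1.Idx F) (ht : (t : Matrix d.1.Idx d.1.Idx F) = d.1.x F (d.1.nroots - 1) 1) :
    d.1.group F ⊓ Subgroup.centralizer {t} = d.1.posUnipotent F ⊔ Subgroup.closure {g : GL d.1.Idx F | ∃ s ∈ d.2, ∃ c : F, (g : Matrix d.1.Idx d.1.Idx F) = d.1.x F s c} := by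
  simp only [List.mem_cons, List.not_mem_nil, or_false] at hd
  rcases hd with rfl | rfl | rfl
  · exact aux Chev.checkedE6 _ (by decide) ⟨1, by decide⟩ (by decide) (by decide +kernel) t ht
  · exact aux Chev.checkedE7 _ (by decide) ⟨0, by decide⟩ (by decide) (by decide +kernel) t ht
  · exact aux Chev.checkedE8 _ (by decide) ⟨7, by decide⟩ (by decide) (by decide +kernel) t ht

end Cfsg.Agent.S2209
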