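import Cfsg.Statements.S2214
import Cfsg.Agent.Lib.Chev.Fix

set_option autoImplicit false
open Cfsg

namespace Cfsg.Agent.S2214

open Chev Cfsg.Lie Checked

/-- Let k be an algebraically closed field of prime characteristic p, G the adjoint Chevalley group of type G₂, B₂, D₄, F₄, E₆, E₇ or E₈ over k (the matrix group generated by the root elements x_s(t), t ∈ k, acting on the Lie algebra), q = p^a with a ≥ 1, and K a subgroup of G containing every root element x_s(t) with t^q = t and consisting of matrices all of whose entries c satisfy c^q = c. Then the centralizer of K in G is trivial, and the normalizer of K in G is exactly the set of elements of G all of whose entries c satisfy c^q = c. -/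
theorem result {k : Type*} [Field k] [IsAlgClosed k] (p : ℕ) [Fact p.Prime] [CharP k p] (D : Cfsg.Lie.ChevalleyDatum) (hD : D ∈ [Cfsg.Lie.chevG2, Cfsg.Lie.chevB2, Cfsg.Lie.chevD4, Cfsg.Lie.chevF4, Cfsg.Lie.chevE6, Cfsg.Lie.chevE7, Cfsg.Lie.chevE8]) (a : ℕ) (ha : 1 ≤ a) (K : Subgroup (GL D.Idx k)) (hKG : K ≤ D.group k)
    (hLK : Subgroup.closure {g : GL D.Idx k | ∃ (s : ℕ) (t : k), t ^ (p ^ a) = t ∧ (g : Matrix D.Idx D.Idx k) = D.x k s t} ≤ K)
    (hKfix : ∀ g ∈ K, ∀ i j : D.Idx, ((g : Matrix D.Idx D.Idx k) i j) ^ (p ^ a) = (g : Matrix D.Idx D.Idx k) i j) :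
    D.group k ⊓ Subgroup.centralizer (K : Set (GL D.Idx k)) = ⊥ ∧
    ∀ g : GL D.Idx k, g ∈ D.group k → (g ∈ Subgroup.normalizer (K : Set (GL D.Idx k)) ↔ ∀ i j : D.Idx, ((g : Matrix D.Idx D.Idx k) i j) ^ (p ^ a) = (g : Matrix D.Idx D.Idx k) i j) := by
  obtain ⟨c, h⟩ := checked_of_mem hD
  let f := iterateFrobenius k p a
  let σ : GL D.Idx k →* GL D.Idx k := Matrix.GeneralLinearGroup.map f
  have hσ : ∀ r t, σ ((h.st k).x r t) = (h.st k).x r (f t) := fun r t => Units.ext (x_map D f r t)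
  have e : ∀ g : GL D.Idx k, (∀ i j : D.Idx, ((g : Matrix D.Idx D.Idx k) i j) ^ (p ^ a) =
      (g : Matrix D.Idx D.Idx k) i j) ↔ σ g = g := fun g =>
    ⟨fun h => Units.ext (Matrix.ext h), fun h i j => congrArg (fun g : GL D.Idx k => (g : Matrix D.Idx D.Idx k) i j) h⟩
  simp only [e] at hKfix ⊢
  have h1 : (h.st k).Gf f ≤ K := (Subgroup.closure_mono (by rintro _ ⟨r, t, ht, rfl⟩; exact ⟨r, t, ht, rfl⟩)).trans hLK
  rw [h.group_eq] at *
  have h2 : ∀ g ∈ (h.st k).Gx, (∀ x ∈ K, x * g = g * x) → g = 1 := fun g hg hc =>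
    St.eq_one_of_commute_one h.st_inj hg fun r => (hc _ (h1 (St.x_mem_Gf r (map_one f)))).symm
  refine ⟨eq_bot_iff.2 fun g hg => h2 g hg.1 hg.2, fun g hg => ⟨fun hn => ?_, fun hs => ?_⟩⟩
  · refine (inv_mul_eq_one.1 (h2 _ (mul_mem (inv_mem hg) ((St.fieldTw f σ hσ).map_Ux (fun _ h => h) hg))
      fun x hx => ?_)).symm
    have := hKfix _ ((Subgroup.mem_normalizer_iff.1 hn x).1 hx)
    rw [map_mul, map_mul, map_inv, hKfix x hx] at this
    rw [mul_assoc g⁻¹, ← inv_mul_cancel_right (σ g * x) (σ g), this]; group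
  · have key : ∀ g ∈ (h.st k).Gx, σ g = g → ∀ x ∈ K, g * x * g⁻¹ ∈ K := fun g hg hs x hx => by
      obtain ⟨y, hy, b, hb, e1, rfl⟩ := (St.sub_Gf hσ).exists_mul_H hg hs
      obtain ⟨y', hy', b', hb', -, rfl⟩ := (St.sub_Gf hσ).exists_mul_H (hKG hx) (hKfix x hx)
      have := mul_mem (mul_mem (h1 hy) (mul_mem (h1 (St.conj_Gf hσ hb e1 hy'))
        ((K.mul_mem_cancel_left (h1 hy')).1 hx))) (inv_mem (h1 hy))
      convert this using 1
      conv_rhs => rw [← mul_inv_cancel_right b' b, ← (h.hMul_st.commute_H hb hb').eq]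
      group
    refine Subgroup.mem_normalizer_iff.2 fun x => ⟨key g hg hs x, fun hx => ?_⟩
    simpa [mul_assoc] using key g⁻¹ (inv_mem hg) (by rw [map_inv, hs]) _ hx

end Cfsg.Agent.S2214
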