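import Cfsg.Statements.S2222
import Mathlib
import Cfsg.Agent.Lib.Perm.Pron1
import Cfsg.Agent.Lib.Perm.Small
import Cfsg.Agent.Lib.Perm.Spec

set_option autoImplicit false
open Cfsg

namespace Cfsg.Agent.S2222

open Subgroup Perm Perm.Pron1 Perm.SylNum

theorem five (S : Sylow 2 (alternatingGroup (Fin 5))) {H : Subgroup (alternatingGroup (Fin 5))}
    (hS : S.1 ≤ H) : normalizer (S.1 : Set (alternatingGroup (Fin 5))) ≤ normalizer (H : Set _) := by
  have hG : Nat.card (alternatingGroup (Fin 5)) = 60 := by
    rw [nat_card_alternatingGroup]; simp [Nat.factorial]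
  have h4 : Nat.card S.1 = 4 := by
    rw [S.card_eq_multiplicity, hG, show 60 = 2 ^ 2 * 15 by norm_num,
      Nat.factorization_mul (by norm_num) (by norm_num), Finsupp.add_apply, Nat.prime_two.factorization_pow,
      Nat.factorization_eq_zero_of_not_dvd (by norm_num)]
    simp
  have a := H.card_mul_index
  obtain ⟨c, hc⟩ := card_dvd_of_le hS
  rw [h4] at hc
  rw [hG, hc] at a
  have b : c * H.index = 15 := by rw [mul_assoc] at a; omega
  have b' : H.index ≤ 15 := Nat.le_of_dvd (by norm_num) (Dvd.intro_left _ b)
  have h1 : H.index = 1 ∨ H.index = 3 ∨ H.index = 5 ∨ H.index = 15 := by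
    interval_cases H.index <;> omega
  rcases h1 with h | h | h | h
  · rw [index_eq_one.1 h]; exact le_normalizer_of_normal
  · exfalso
    have d := (normalCore_eq_ker H).symm ▸ (MulAction.toPermHom _ (_ ⧸ H)).ker.index_eq_card
    rcases (normalCore_normal H).eq_bot_or_eq_top with e | e
    · have := card_dvd_of_injective _ ((MonoidHom.ker_eq_bot_iff _).1 ((normalCore_eq_ker H).symm.trans e))
      rw [hG, Nat.card_perm, ← index_eq_card, h] at this
      norm_num [Nat.factorial] at this
    · have := index_eq_one.2 (top_le_iff.1 (e.ge.trans (normalCore_le H)))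
      omega
  · rw [h] at b
    obtain ⟨e⟩ := Small.iso_A4 (G := H) (by omega) fun g => by
      have h2 : orderOf g.1 ∈ {m | m ∈ [1, 2, 3, 5]} := spec_alt5 ▸ ⟨g.1, rfl⟩
      have h3 := orderOf_dvd_natCard g
      rw [Subgroup.orderOf_coe] at h2
      have h5 : orderOf g ≠ 5 := fun h => by rw [h] at h3; omega
      simp only [List.mem_cons, List.not_mem_nil, or_false, Set.mem_setOf_eq] at h2
      omega
    have h5 : Nat.card (Sylow 2 H) = 1 := by
      rw [card_syl_equiv e]
      haveI := alternatingGroup.subsingleton_two_sylow (α := Fin 4) (by simp)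
      exact Nat.card_unique
    rw [card_syl (S.subtype hS), index_eq_one, normalizer_eq_top_iff, Sylow.coe_subtype] at h5
    have h6 := (normal_subgroupOf_iff_le_normalizer hS).1 h5
    have h7 := index_dvd_of_le h6
    rw [h] at h7
    rcases (Nat.dvd_prime (by norm_num)).1 h7 with e | e
    · rcases (normalizer_eq_top_iff.1 (index_eq_one.1 e)).eq_bot_or_eq_top with e | e
      · rw [e, card_bot] at h4; omega
      · rw [e, card_top] at h4; omega
    · have h8 := (normalizer (S.1 : Set (alternatingGroup (Fin 5)))).card_mul_index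
      rw [e, hG] at h8
      rw [← eq_of_le_of_card_ge h6 (by omega)]
      exact le_normalizer
  · rw [← eq_of_le_of_card_ge hS (by rw [h] at b; omega)]

/-- In the alternating group of degree n ≥ 5 every subgroup H of odd index is pronormal: for every element g, the subgroups H and gHg⁻¹ are conjugate by an element of the subgroup they generate. -/
theorem result (n : ℕ) (hn : 5 ≤ n)
    (H : Subgroup (alternatingGroup (Fin n))) (hH : Odd H.index) : Cfsg.IsPronormal H := by
  obtain ⟨S, hS⟩ := exists_le (p := 2) (H := H) (by simpa [← even_iff_two_dvd] using hH)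
  rcases hn.lt_or_eq with h | rfl
  · exact pron_of hS (((norm_alt h S).trans hS).trans le_normalizer)
  · exact pron_of hS (five S hS)

end Cfsg.Agent.S2222
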