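import Cfsg.Statements.S2231

set_option autoImplicit false
open Cfsg

namespace Cfsg.Agent.S2231

open Matrix Matrix.SpecialLinearGroup in
theorem tr_two {p : ℕ} [Fact p.Prime] {K : Type*} [Field K] [CharP K p]
    (A : SpecialLinearGroup (Fin 2) K) (k : ℕ) (h : A ^ p ^ k = 1) : A.1 0 0 + A.1 1 1 = 2 := by
  have h1 : IsNilpotent (A.1 - 1) := ⟨p ^ k, by
    rw [sub_pow_char_pow_of_commute _ _ (Commute.one_right _), one_pow]
    have : A.1 ^ p ^ k = 1 := congrArg Subtype.val h
    rw [this, sub_self]⟩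
  have h2 := (Matrix.isNilpotent_trace_of_isNilpotent h1).eq_zero
  rw [Matrix.trace_fin_two] at h2
  simp at h2
  linear_combination h2

open Matrix Matrix.SpecialLinearGroup in
theorem comm_of {K : Type*} [Field K] (A B : SpecialLinearGroup (Fin 2) K)
    (hA : A.1 0 0 + A.1 1 1 = 2) (hB : B.1 0 0 + B.1 1 1 = 2)
    (hAB : (A * B).1 0 0 + (A * B).1 1 1 = 2) : A * B = B * A := by
  have dA := A.2
  have dB := B.2
  rw [det_fin_two] at dA dB
  have e1 : (A * B).1 = A.1 * B.1 := rfl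
  rw [e1] at hAB
  simp only [mul_apply, Fin.sum_univ_two] at hAB
  have ha : A.1 1 1 = 2 - A.1 0 0 := by linear_combination hA
  have hb : B.1 1 1 = 2 - B.1 0 0 := by linear_combination hB
  rw [ha] at dA hAB; rw [hb] at dB hAB
  set a := A.1 0 0 - 1 with ea
  set d := B.1 0 0 - 1 with ed
  have ea' : A.1 0 0 = a + 1 := by rw [ea]; ring
  have ed' : B.1 0 0 = d + 1 := by rw [ed]; ring
  rw [ea'] at dA hAB ha; rw [ed'] at dB hAB hb
  have h1 : a ^ 2 + A.1 0 1 * A.1 1 0 = 0 := by linear_combination -dA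
  have h2 : d ^ 2 + B.1 0 1 * B.1 1 0 = 0 := by linear_combination -dB
  have h3 : 2 * a * d + A.1 0 1 * B.1 1 0 + A.1 1 0 * B.1 0 1 = 0 := by linear_combination hAB
  have k1 : A.1 0 1 * B.1 1 0 - A.1 1 0 * B.1 0 1 = 0 := by
    apply pow_eq_zero_iff (two_ne_zero) |>.1
    linear_combination (A.1 0 1 * B.1 1 0 + A.1 1 0 * B.1 0 1 - 2 * a * d) * h3
      - 4 * (B.1 0 1 * B.1 1 0) * h1 + 4 * a ^ 2 * h2
  have k2 : a * B.1 0 1 - A.1 0 1 * d = 0 := by
    apply pow_eq_zero_iff (two_ne_zero) |>.1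
    linear_combination (B.1 0 1) ^ 2 * h1 + (A.1 0 1) ^ 2 * h2 - (A.1 0 1 * B.1 0 1) * h3
  have k3 : A.1 1 0 * d - a * B.1 1 0 = 0 := by
    apply pow_eq_zero_iff (two_ne_zero) |>.1
    linear_combination (B.1 1 0) ^ 2 * h1 + (A.1 1 0) ^ 2 * h2 - (A.1 1 0 * B.1 1 0) * h3
  apply Subtype.ext
  change A.1 * B.1 = B.1 * A.1
  ext i j
  fin_cases i <;> fin_cases j <;> simp only [mul_apply, Fin.sum_univ_two, Fin.zero_eta, Fin.mk_one,
    Fin.isValue, ea', ed', ha, hb]
  · linear_combination k1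
  · linear_combination 2 * k2
  · linear_combination 2 * k3
  · linear_combination -k1

def UT {R : Type*} [CommRing R] (M : Matrix (Fin 3) (Fin 3) R) : Prop :=
  M 0 0 = 1 ∧ M 1 1 = 1 ∧ M 2 2 = 1 ∧ M 1 0 = 0 ∧ M 2 0 = 0 ∧ M 2 1 = 0

theorem UT.mul {R : Type*} [CommRing R] {M N : Matrix (Fin 3) (Fin 3) R} (hM : UT M) (hN : UT N) :
    UT (M * N) := by
  obtain ⟨a, b, c, d, e, f⟩ := hM
  obtain ⟨a', b', c', d', e', f'⟩ := hN
  simp [UT, Matrix.mul_apply, Fin.sum_univ_three, *]

theorem UT.cube {R : Type*} [CommRing R] {M : Matrix (Fin 3) (Fin 3) R} (hM : UT M) :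
    (M - 1) ^ 3 = 0 := by
  obtain ⟨a, b, c, d, e, f⟩ := hM
  ext i j
  fin_cases i <;> fin_cases j <;>
    simp [pow_succ, Matrix.mul_apply, Fin.sum_univ_three, Matrix.one_apply, *]

open Matrix Matrix.SpecialLinearGroup in
def tx (p : ℕ) [Fact p.Prime] : qd p :=
  ⟨transvection (show (0 : Fin 3) ≠ 1 by decide) 1, Subgroup.subset_closure (by
    simp [transvection_coe])⟩

open Matrix Matrix.SpecialLinearGroup in
def ty (p : ℕ) [Fact p.Prime] : qd p :=
  ⟨transvection (show (1 : Fin 3) ≠ 2 by decide) 1, Subgroup.subset_closure (by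
    simp [transvection_coe])⟩

open Matrix Matrix.SpecialLinearGroup in
theorem pgrp (p : ℕ) [hp : Fact p.Prime] :
    IsPGroup p (Subgroup.closure ({tx p, ty p} : Set (qd p))) := by
  rintro ⟨g, hg⟩
  have h : UT g.1.1 := by
    induction hg using Subgroup.closure_induction'' with
    | mem x hx =>
      rcases hx with rfl | rfl <;> simp [UT, tx, ty, transvection_coe]
    | inv_mem x hx =>
      rcases hx with rfl | rfl <;> simp [UT, tx, ty, transvection_inv, transvection_coe]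
    | one => simp [UT]
    | mul x y _ _ hx hy => exact hx.mul hy
  refine ⟨2, Subtype.ext (Subtype.ext (Subtype.ext ?_))⟩
  change g.1.1 ^ p ^ 2 = 1
  have h2 := sub_pow_char_pow_of_commute (p := p) (n := 2) (x := g.1.1) (y := 1) (Commute.one_right _)
  rw [pow_eq_zero_of_le (by nlinarith [hp.out.two_le]) h.cube, one_pow] at h2
  exact (sub_eq_zero.1 h2.symm)

open Matrix Matrix.SpecialLinearGroup in
theorem noncomm (p : ℕ) [hp : Fact p.Prime] : tx p * ty p ≠ ty p * tx p := by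
  intro h
  have h1 : (tx p).1.1 * (ty p).1.1 = (ty p).1.1 * (tx p).1.1 :=
    congrArg (fun x : qd p => x.1.1) h
  have := congrFun (congrFun h1 0) 2
  simp [tx, ty, transvection_coe, Matrix.mul_apply, Fin.sum_univ_three, Matrix.one_apply] at this


/-- Let p be an odd prime and K a finite field of characteristic p. Then Qd(p) (the natural semidirect product of an elementary abelian group of order p² by SL₂(p)) is not involved in the projective special linear group PSL₂(K). -/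
theorem result {p : ℕ} [Fact p.Prime] (hp : p ≠ 2) {K : Type*} [Field K] [Fintype K] [CharP K p] : ¬ Cfsg.Involves ↥(Cfsg.qd p) (Matrix.ProjectiveSpecialLinearGroup (Fin 2) K) := by
  rintro ⟨H, R, hR, ⟨e⟩⟩
  let π : Matrix.SpecialLinearGroup (Fin 2) K →* Matrix.ProjectiveSpecialLinearGroup (Fin 2) K :=
    QuotientGroup.mk' _
  have hπ : Function.Surjective π := QuotientGroup.mk'_surjective _
  let f : H.comap π →* qd p :=
    e.toMonoidHom.comp ((QuotientGroup.mk' (R.subgroupOf H)).comp (π.subgroupComap H))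
  have hf : Function.Surjective f := by
    refine e.surjective.comp ((QuotientGroup.mk'_surjective _).comp ?_)
    rintro ⟨x, hx⟩
    obtain ⟨y, rfl⟩ := hπ x
    exact ⟨⟨y, hx⟩, rfl⟩
  obtain ⟨S, hS⟩ := (pgrp p).exists_le_sylow
  obtain ⟨P, rfl⟩ := Sylow.mapSurjective_surjective hf p S
  obtain ⟨a, ha, ha'⟩ := hS (Subgroup.subset_closure (Set.mem_insert _ _))
  obtain ⟨b, hb, hb'⟩ := hS (Subgroup.subset_closure (Set.mem_insert_of_mem _ rfl))
  have key : ∀ c : H.comap π, c ∈ P → c.1.1 0 0 + c.1.1 1 1 = 2 := fun c hc => by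
    obtain ⟨k, hk⟩ := P.2 ⟨c, hc⟩
    exact tr_two (p := p) c.1 k (congrArg (fun x : P => x.1.1) hk)
  have hab : a * b = b * a :=
    Subtype.ext (comm_of a.1 b.1 (key a ha) (key b hb) (key _ (mul_mem ha hb)))
  apply noncomm p
  rw [← ha', ← hb', ← map_mul, ← map_mul, hab]

end Cfsg.Agent.S2231
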