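import Cfsg.Statements.S2249
import Cfsg.Agent.Lib.Block.Syl1
import Cfsg.Agent.S1217
import Cfsg.Agent.Lib.Classical.Wt3
import Cfsg.Agent.Lib.Classical.Syl2c
import Cfsg.Agent.Lib.Solv.PCyc

set_option autoImplicit false
open Cfsg

namespace Cfsg.Agent.S2249

open Cfsg.Agent.Blk
open Cfsg.Agent.Char hiding cj cj_mul cj_inv_cj cj_cj_inv
open Equiv SemidirectProduct Module Matrix Cfsg.Agent.Classical Cfsg.Agent.Classical.Syl2

theorem syl_equiv {Γ G : Type*} [Group Γ] [Group G] [Finite G] (Θ : Γ →* G) (hΘ : Function.Injective Θ)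
    (W : Subgroup Γ) (hW : Nat.card W = 2 ^ padicValNat 2 (Nat.card G)) (S : Sylow 2 G) :
    Nonempty (W ≃* S) :=
  ⟨(W.equivMapOfInjective Θ hΘ).trans (Sylow.equiv (Sylow.ofCard (p := 2) (W.map Θ) (by
    rw [Subgroup.card_map_of_injective hΘ, hW, Nat.factorization_def _ Nat.prime_two])) S)⟩

theorem exists_E {I : Type} [Fintype I] [DecidableEq I] {D X S : Type*} [Group D] [CommGroup X] [Group S]
    (T : Subgroup (Perm I)) (ψ : WT D X T ≃* S) (Z : Subgroup D) (hZ : Z ≤ Subgroup.center D)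
    (h2 : ∀ z ∈ Z, z ^ 2 = 1) (hX : ∀ x : X, x ^ 2 = 1) :
    ∃ E : Subgroup S, E.Normal ∧ Cfsg.IsElementaryAbelian 2 E ∧
      Nat.card E = Nat.card Z ^ Fintype.card I * Nat.card X := by
  let κ : (I → Z) × X →* Wr I D X :=
    MonoidHom.prodMap (inl.comp (MonoidHom.compLeft Z.subtype I)) (MonoidHom.id X)
  have hκ : ∀ e, κ e ∈ WT D X T := fun e => T.one_mem
  let κ' : (I → Z) × X →* S := ψ.toMonoidHom.comp (κ.codRestrict _ hκ)
  have hinj : Function.Injective κ' := ψ.injective.comp fun a b h => by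
    have h1 : κ a = κ b := congrArg Subtype.val h
    exact Prod.ext (funext fun i => Subtype.ext (congrFun (congrArg (fun g : Wr I D X => g.1.left) h1) i))
      (congrArg (fun g : Wr I D X => g.2) h1)
  have key : ∀ (h : Wr I D X) (e : (I → Z) × X),
      h * κ e * h⁻¹ = κ (fun i => e.1 (h.1.right⁻¹ i), e.2) := by
    intro h e
    rw [mul_inv_eq_iff_eq_mul]
    refine Prod.ext (SemidirectProduct.ext (funext fun i => ?_) (by simp [κ])) (mul_comm h.2 e.2)
    change h.1.left i * (e.1 (h.1.right⁻¹ i)).1 = (e.1 (h.1.right⁻¹ i)).1 * h.1.left i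
    exact Subgroup.mem_center_iff.1 (hZ (e.1 _).2) _
  refine ⟨κ'.range, ⟨?_⟩, ⟨⟨⟨?_⟩⟩, ?_⟩, ?_⟩
  · rintro _ ⟨e, rfl⟩ s
    obtain ⟨h, rfl⟩ := ψ.surjective s
    refine ⟨(fun i => e.1 (h.1.1.right⁻¹ i), e.2), ?_⟩
    change ψ _ = ψ h * ψ _ * (ψ h)⁻¹
    rw [← map_inv, ← map_mul, ← map_mul]
    exact congrArg ψ (Subtype.ext (key h.1 e).symm)
  · rintro ⟨_, a, rfl⟩ ⟨_, b, rfl⟩
    refine Subtype.ext ?_
    change κ' a * κ' b = κ' b * κ' a
    rw [← map_mul, ← map_mul]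
    congr 1
    exact Prod.ext (funext fun i => Subtype.ext (Subgroup.mem_center_iff.1 (hZ (b.1 i).2) _))
      (mul_comm _ _)
  · rintro _ ⟨a, rfl⟩
    rw [← map_pow, show a ^ 2 = 1 from Prod.ext (funext fun i => Subtype.ext (h2 _ (a.1 i).2)) (hX _),
      map_one]
  · rw [← Nat.card_congr (MonoidHom.ofInjective hinj).toEquiv, Nat.card_prod, Nat.card_fun,
      Nat.card_eq_fintype_card (α := I)]

theorem bound_E {I : Type} [Fintype I] [DecidableEq I] {D X S : Type*} [Group D] [Finite D] [Group X]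
    [Finite X] [Group S] (T : Subgroup (Perm I)) (ψ : WT D X T ≃* S) (Z : Subgroup D)
    (hd : ∃ d : D, d ^ 2 ≠ 1) (hZ : ∀ t : D, t ^ 2 = 1 → (∀ d, Commute t (d * t * d⁻¹)) → t ∈ Z)
    (E : Subgroup S) (hn : E.Normal) (hE : Cfsg.IsElementaryAbelian 2 E) :
    Nat.card E ≤ Nat.card Z ^ Fintype.card I * Nat.card X := by
  let E' : Subgroup (Wr I D X) := (E.comap ψ.toMonoidHom).map (WT D X T).subtype
  have c1 : ∀ g ∈ E', ∀ i d, io i d * g * (io i d)⁻¹ ∈ E' := by
    rintro _ ⟨g, hg, rfl⟩ i d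
    exact ⟨(⟨io i d, T.one_mem⟩ : WT D X T) * g * (⟨io i d, T.one_mem⟩ : WT D X T)⁻¹,
      (hn.comap ψ.toMonoidHom).conj_mem g hg _, rfl⟩
  have c2 : ∀ g ∈ E', g * g = 1 := by
    rintro _ ⟨g, hg, rfl⟩
    have : g ^ 2 = 1 := ψ.injective (by rw [map_pow, map_one]; exact hE.2 _ hg)
    rw [← map_mul, ← sq, this, map_one]
  have c3 : ∀ g ∈ E', ∀ h ∈ E', g * h = h * g := by
    rintro _ ⟨g, hg, rfl⟩ _ ⟨h, hh, rfl⟩
    have : g * h = h * g := ψ.injective (by
      rw [map_mul, map_mul]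
      exact congrArg Subtype.val (hE.1.is_comm.comm ⟨ψ g, hg⟩ ⟨ψ h, hh⟩))
    rw [← map_mul, ← map_mul, this]
  have ml : ∀ (a b : Wr I D X) i, (a * b).1.left i = a.1.left i * b.1.left (a.1.right⁻¹ i) :=
    fun _ _ _ => rfl
  have mr : ∀ (a b : Wr I D X), (a * b).1.right = a.1.right * b.1.right := fun _ _ => rfl
  have il : ∀ i (d : D) j, (io i d : Wr I D X).1.left j = Pi.mulSingle (M := fun _ => D) i d j :=
    fun _ _ _ => rfl
  have ir : ∀ i (d : D), (io i d : Wr I D X).1.right = 1 := fun _ _ => rfl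
  have d1 : ∀ g ∈ E', g.1.right = 1 := by
    intro g hg
    obtain ⟨d, hd⟩ := hd
    rw [← inv_eq_one]
    refine Equiv.ext fun i => ?_
    by_contra hi
    replace hi : g.1.right⁻¹ i ≠ i := hi
    have hgg : g.1.right * g.1.right = 1 := congrArg (fun g : Wr I D X => g.1.right) (c2 g hg)
    have hgl : g.1.left i * g.1.left (g.1.right⁻¹ i) = 1 :=
      congrArg (fun g : Wr I D X => g.1.left i) (c2 g hg)
    have hinv : g.1.right⁻¹ * g.1.right⁻¹ = 1 := by rw [← _root_.mul_inv_rev, hgg, inv_one]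
    have h1 := mul_mem (c1 g hg i d) hg
    rw [← map_inv] at h1
    have h2 : (io i d * g * io i d⁻¹ * g).1.left i = d := by
      simp only [ml, mr, il, ir, inv_one, Perm.one_apply, one_mul, mul_one, Pi.mulSingle_eq_same,
        Pi.mulSingle_eq_of_ne hi]
      rw [mul_assoc, hgl, mul_one]
    have h3 : (io i d * g * io i d⁻¹ * g).1.right = 1 := by
      simp only [mr, ir, one_mul, mul_one, hgg]
    have h4 := congrArg (fun g : Wr I D X => g.1.left i) (c2 _ h1)
    rw [ml, h3, inv_one, Perm.one_apply, h2] at h4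
    exact hd (by rw [sq]; exact h4)
  have d2 : ∀ g ∈ E', ∀ i, g.1.left i ∈ Z := by
    intro g hg i
    refine hZ _ ?_ fun d => ?_
    · have h4 := congrArg (fun g : Wr I D X => g.1.left i) (c2 _ hg)
      rw [ml, d1 g hg, inv_one, Perm.one_apply] at h4
      rw [sq]; exact h4
    · have h1 := c1 g hg i d
      have h2 : (io i d * g * (io i d)⁻¹).1.left i = d * g.1.left i * d⁻¹ := by
        rw [← map_inv]
        simp only [ml, mr, il, ir, d1 g hg, inv_one, Perm.one_apply, mul_one, Pi.mulSingle_eq_same]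
      have h4 := congrArg (fun g : Wr I D X => g.1.left i) (c3 _ hg _ h1)
      rw [ml, ml _ g, d1 g hg, d1 _ h1, inv_one, Perm.one_apply, h2] at h4
      exact h4
  have hm : ∀ s : E, ((ψ.symm s : WT D X T) : Wr I D X) ∈ E' := fun s =>
    ⟨ψ.symm s, by change ψ (ψ.symm s) ∈ E; rw [ψ.apply_symm_apply]; exact s.2, rfl⟩
  rw [← Nat.card_eq_fintype_card, ← Nat.card_fun, ← Nat.card_prod]
  refine Nat.card_le_card_of_injective
    (fun s => (fun i => ⟨(ψ.symm s).1.1.left i, d2 _ (hm s) i⟩, (ψ.symm s).1.2)) fun s t h => ?_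
  refine Subtype.ext (ψ.symm.injective (Subtype.ext (Prod.ext (SemidirectProduct.ext (funext fun i => ?_)
    ((d1 _ (hm s)).trans (d1 _ (hm t)).symm)) (Prod.ext_iff.1 h).2)))
  exact congrArg Subtype.val (congrFun (congrArg Prod.fst h) i)

theorem qd {D : Type*} [Group D] [Finite D] (h : Cfsg.IsQuasiDihedral D) :
    ∃ Z : Subgroup D, Nat.card Z = 2 ∧ Z ≤ Subgroup.center D ∧ (∀ z ∈ Z, z ^ 2 = 1) ∧
      (∃ d : D, d ^ 2 ≠ 1) ∧ ∀ t : D, t ^ 2 = 1 → (∀ d, Commute t (d * t * d⁻¹)) → t ∈ Z := by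
  obtain ⟨n, hn, hcard, x, y, hx, hy, hxy⟩ := h
  obtain ⟨k, rfl⟩ : ∃ k, n = k + 3 := ⟨n - 3, by omega⟩
  have hr : y * x * y⁻¹ = x ^ ((2 : ℤ) ^ (k + 2) - 1) := by
    rw [hxy, ← zpow_natCast, Nat.cast_sub Nat.one_le_two_pow]; rfl
  have hi : (Subgroup.zpowers x).index = 2 := by
    have := (Subgroup.zpowers x).card_mul_index
    rw [Nat.card_zpowers, hx, hcard, pow_succ 2 (k + 3)] at this
    exact Nat.eq_of_mul_eq_mul_left (by positivity) this
  have nc : ∀ t : D, t * x * t⁻¹ = x ^ ((2 : ℤ) ^ (k + 2) - 1) →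
      ¬ Commute t (x ^ (1 - ((2 : ℤ) ^ (k + 2) - 1))) := by
    intro t ht hc
    have h1 := Transfer.conj_zpow_eq ht (1 - ((2 : ℤ) ^ (k + 2) - 1))
    rw [hc.eq, mul_inv_cancel_right, zpow_eq_zpow_iff_modEq, hx] at h1
    have h2 := h1.dvd
    push_cast at h2
    have h3 : (2 : ℤ) ^ 3 ∣ 2 ^ (k + 3) := pow_dvd_pow 2 (by omega)
    obtain ⟨c, hc⟩ := h3.trans h2
    obtain ⟨u, hu⟩ : ∃ u : ℤ, 2 ^ (k + 2) = 4 * u := ⟨2 ^ k, by ring⟩
    rw [hu] at hc
    have : (4 : ℤ) * (1 + 2 * (c + 2 * (u * u) - 2 * u)) = 0 := by linear_combination -hc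
    omega
  have hyx : y ∉ Subgroup.zpowers x := fun h =>
    nc y hr ((Solv.commute_of_mem_zpowers h).zpow_right _)
  have hout : ∀ t : D, t ∉ Subgroup.zpowers x → t * x * t⁻¹ = x ^ ((2 : ℤ) ^ (k + 2) - 1) := by
    intro t ht
    have h1 : t * y⁻¹ ∈ Subgroup.zpowers x :=
      (Subgroup.mul_mem_iff_of_index_two hi).2 (by simp [ht, hyx])
    have h2 := ((Solv.commute_of_mem_zpowers h1).zpow_right ((2 : ℤ) ^ (k + 2) - 1)).eq
    calc t * x * t⁻¹ = t * y⁻¹ * (y * x * y⁻¹) * (t * y⁻¹)⁻¹ := by group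
      _ = _ := by rw [hr, h2, mul_inv_cancel_right]
  have hz : orderOf (x ^ 2 ^ (k + 2)) = 2 := by
    rw [orderOf_pow_of_dvd (by positivity) (hx ▸ pow_dvd_pow 2 (by omega)), hx, pow_succ,
      Nat.mul_div_cancel_left _ (by positivity)]
  refine ⟨Subgroup.zpowers (x ^ 2 ^ (k + 2)), by rw [Nat.card_zpowers, hz],
    Subgroup.zpowers_le.2 (Subgroup.mem_center_iff.2 fun g => ?_),
    fun w hw => orderOf_dvd_iff_pow_eq_one.1 ((orderOf_dvd_of_mem_zpowers hw).trans hz.dvd),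
    ⟨x, fun h => ?_⟩, fun t ht hc => ?_⟩
  · by_cases hg : g ∈ Subgroup.zpowers x
    · exact ((Solv.commute_of_mem_zpowers hg).pow_right _).eq
    rw [← mul_inv_eq_iff_eq_mul, ← zpow_natCast, Transfer.conj_zpow_eq (hout g hg),
      zpow_eq_zpow_iff_modEq, hx]
    push_cast
    exact (Int.modEq_iff_dvd.2 ⟨1 - 2 ^ (k + 1), by ring⟩)
  · have h1 := orderOf_dvd_of_pow_eq_one h
    rw [hx] at h1
    have h2 := Nat.le_of_dvd two_pos h1
    have := Nat.pow_le_pow_right two_pos (show 3 ≤ k + 3 by omega)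
    omega
  · by_cases hg : t ∈ Subgroup.zpowers x
    · exact Solv.mem_zpowers_pow_of_pow_eq_one Nat.prime_two hx hg ht
    exfalso
    apply nc t (hout t hg)
    have h1 : x * t * x⁻¹ = x ^ (1 - ((2 : ℤ) ^ (k + 2) - 1)) * t := by
      rw [_root_.zpow_sub, zpow_one, ← hout t hg]; group
    have h2 := hc x
    rw [h1] at h2
    have h3 := h2.mul_right (Commute.refl t).inv_right
    rwa [mul_inv_cancel_right] at h3

/-- The normal 2-rank of the general linear group over a finite field of odd order q: for n ≥ 1 and S a Sylow 2-subgroup of GL_n(F), the largest rank of an elementary abelian subgroup of S that is normal in S equals n when q ≡ 1 (mod 4) and ⌊(n + 1)/2⌋ when q ≡ 3 (mod 4). -/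
theorem result {F : Type*} [Field F] [Fintype F] {q : ℕ} (hF : Fintype.card F = q) (hodd : Odd q) (n : ℕ) (hn : 1 ≤ n) (S : Sylow 2 (Matrix.GeneralLinearGroup (Fin n) F)) :
    (q % 4 = 1 → ((∃ E : Subgroup ↥(S : Subgroup (Matrix.GeneralLinearGroup (Fin n) F)), E.Normal ∧ Cfsg.IsElementaryAbelian 2 E ∧ 2 ^ (n) ≤ Nat.card ↥E) ∧
      ∀ E : Subgroup ↥(S : Subgroup (Matrix.GeneralLinearGroup (Fin n) F)), E.Normal → Cfsg.IsElementaryAbelian 2 E → Nat.card ↥E ≤ 2 ^ (n))) ∧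
    (q % 4 = 3 → ((∃ E : Subgroup ↥(S : Subgroup (Matrix.GeneralLinearGroup (Fin n) F)), E.Normal ∧ Cfsg.IsElementaryAbelian 2 E ∧ 2 ^ ((n + 1) / 2) ≤ Nat.card ↥E) ∧
      ∀ E : Subgroup ↥(S : Subgroup (Matrix.GeneralLinearGroup (Fin n) F)), E.Normal → Cfsg.IsElementaryAbelian 2 E → Nat.card ↥E ≤ 2 ^ ((n + 1) / 2))) := by
  classical
  subst hF
  have hq := hodd
  have h1 := Fintype.one_lt_card (α := F)
  have h2 := two_ne_zero_of_odd hq
  obtain ⟨m, j, rfl⟩ : ∃ (m : ℕ) (j : Fin 2), n = 2 * m + j :=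
    ⟨n / 2, ⟨n % 2, Nat.mod_lt _ two_pos⟩, (Nat.div_add_mod n 2).symm⟩
  have hval : padicValNat 2 (Nat.card (GL (Fin (2 * m + j)) F)) =
      m * (padicValNat 2 (Fintype.card F ^ 2 - 1) + padicValNat 2 (Fintype.card F - 1)) +
        padicValNat 2 m.factorial + j * padicValNat 2 (Fintype.card F - 1) := by
    rw [val_GL hq]
    fin_cases j
    · simp [val_even hq h1]
    · have h : ∀ i, Fintype.card F ^ (i + 1) - 1 ≠ 0 := fun i =>
        Nat.sub_ne_zero_of_lt (Nat.one_lt_pow (by omega) h1)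
      simp only [Fin.mk_one, Fin.val_one]
      rw [Finset.prod_range_succ, padicValNat.mul (Finset.prod_ne_zero_iff.2 fun i _ => h _) (h _),
        val_even hq h1, val_odd hq h1, one_mul]
  refine ⟨fun h4 => ⟨?_, fun E _ hE => ?_⟩, fun h4 => ?_⟩
  · obtain ⟨D, hD⟩ := (Transfer.isPGroup_two_zpowers (x := (-1 : Fˣ)) (by simp)).exists_le_sylow
    obtain ⟨T⟩ : Nonempty (Sylow 2 (Perm (Fin (2 * m + j)))) := inferInstance
    let b := finBasisOfFinrankEq F ((Fin (2 * m + j) × Unit) ⊕ Empty → F) (n := 2 * m + j) (by simp)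
    let δ : D.1 →* GL Unit F := (GeneralLinearGroup.scalar Unit).comp D.1.subtype
    have hδ : ∀ d, GeneralLinearGroup.det (δ d) = d.1 := fun d => Units.ext (by simp [δ])
    obtain ⟨ψ⟩ := syl_equiv (rg b δ) (rg_inj b _ h2 fun a b h => Subtype.ext (by rw [← hδ, h, hδ]))
      (WT _ _ T.1) (by
        rw [card_WT, D.card_eq_multiplicity, Nat.factorization_def _ Nat.prime_two, card_T, Nat.card_units,
          Nat.card_unique (α := Empty → ℤˣ), mul_one, ← pow_mul, ← pow_add, hval]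
        congr 1
        have a := padicValNat.pow_two_sub_one h1 (by simpa [← even_iff_two_dvd] using hq) two_ne_zero even_two
        obtain ⟨t, ht⟩ : ∃ t, Fintype.card F + 1 = 2 * (2 * t + 1) := ⟨(Fintype.card F - 1) / 4, by omega⟩
        rw [ht, padicValNat.mul (by omega) (by omega), padicValNat.eq_zero_of_not_dvd (n := _ + _) (by omega)] at a
        simp only [padicValNat_self, add_zero, add_left_inj] at a
        rw [a, padicValNat_factorial_mul_add m j.2, padicValNat_factorial_mul]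
        simp; ring) S
    let z : D.1 := ⟨-1, hD (Subgroup.mem_zpowers _)⟩
    have hz : orderOf z = 2 := orderOf_eq_prime (Subtype.ext (by simp [z])) fun h => by
      have h3 := congrArg (fun g : D.1 => g.1.1) h
      simp [z] at h3
      exact h2 (by linear_combination -h3)
    obtain ⟨E, e1, e2, e3⟩ := exists_E T.1 ψ (Subgroup.zpowers z)
      (fun w _ => Subgroup.mem_center_iff.2 fun g => mul_comm _ _)
      (fun w hw => orderOf_dvd_iff_pow_eq_one.1 ((orderOf_dvd_of_mem_zpowers hw).trans hz.dvd))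
      (fun x => Subsingleton.elim _ _)
    exact ⟨E, e1, e2, by rw [e3, Nat.card_zpowers, hz, Fintype.card_fin, Nat.card_unique, mul_one]⟩
  · obtain ⟨b, wt, w1, -⟩ := Wt.basis_invol (V := Fin (2 * m + j) → F)
      (glEquiv.toMonoidHom.comp (S : Subgroup (GL (Fin (2 * m + j)) F)).subtype) h2 E hE.1 hE.2
      (N := 2 * m + j) (by simp) (fun _ _ => True) fun W => ⟨Module.finBasis F W, fun _ _ _ => trivial⟩
    have h3 : Nat.card E ≤ Nat.card (Fin (2 * m + j) → ℤˣ) := by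
      refine Nat.card_le_card_of_injective (fun a i => wt i a) fun a a' h => ?_
      refine Subtype.ext (Subtype.ext (glEquiv.injective ((w1 a).trans (Eq.trans ?_ (w1 a').symm))))
      exact congrArg _ h
    rwa [Wt.card_signs, Fintype.card_fin] at h3
  obtain ⟨D⟩ : Nonempty (Sylow 2 (GL (Fin 2) F)) := inferInstance
  obtain ⟨T⟩ : Nonempty (Sylow 2 (Perm (Fin m))) := inferInstance
  let b := finBasisOfFinrankEq F ((Fin m × Fin 2) ⊕ Fin j → F) (n := 2 * m + j) (by simp; ring)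
  have hv : padicValNat 2 (Fintype.card F - 1) = 1 := by
    obtain ⟨t, ht⟩ : ∃ t, Fintype.card F - 1 = 2 * (2 * t + 1) := ⟨(Fintype.card F - 3) / 4, by omega⟩
    rw [ht, padicValNat.mul (by omega) (by omega), padicValNat.eq_zero_of_not_dvd (n := _ + _) (by omega)]; simp
  obtain ⟨ψ⟩ := syl_equiv (rg b D.1.subtype) (rg_inj b _ h2 Subtype.val_injective) (WT _ _ T.1) (by
    rw [card_WT, D.card_eq_multiplicity, Nat.factorization_def _ Nat.prime_two, val_GL hq, val_even hq h1 1, card_T,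
      Nat.card_fun, Nat.card_eq_fintype_card (α := ℤˣ), Fintype.card_units_int, ← pow_mul, ← pow_add, ← pow_add,
      hval]
    congr 1
    simp [hv, mul_comm]) S
  obtain ⟨Z, z1, z2, z3, z4, z5⟩ := qd ((Cfsg.Agent.S1217.result D).1 h4)
  have hc : Nat.card Z ^ Fintype.card (Fin m) * Nat.card (Fin j → ℤˣ) = 2 ^ ((2 * m + j + 1) / 2) := by
    rw [z1, Wt.card_signs, Fintype.card_fin, Fintype.card_fin, ← pow_add]
    congr 1
    have := j.2
    omega
  refine ⟨?_, fun E hn hE => hc ▸ bound_E T.1 ψ Z z4 z5 E hn hE⟩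
  obtain ⟨E, e1, e2, e3⟩ := exists_E T.1 ψ Z z2 z3 (fun x => funext fun j => Int.units_sq _)
  exact ⟨E, e1, e2, (e3.trans hc).ge⟩

end Cfsg.Agent.S2249
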