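import Cfsg.Statements.S2250
import Cfsg.Agent.Lib.Block.Syl1
import Cfsg.Agent.S2234
import Cfsg.Agent.Lib.Classical.Syl2c
import Cfsg.Agent.Lib.Transfer.Cyc2

set_option autoImplicit false
open Cfsg

namespace Cfsg.Agent.S2250

open Cfsg.Agent.Blk
open Cfsg.Agent.Char hiding cj cj_mul cj_inv_cj cj_cj_inv
open Equiv SemidirectProduct Module Matrix Cfsg.Agent.Classical Cfsg.Agent.Classical.Syl2

theorem exists_E {I : Type} [Fintype I] [DecidableEq I] {D X S : Type*} [Group D] [Group X] [Group S]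
    (T : Subgroup (Perm I)) (ψ : WT D X T ≃* S) (Z : Subgroup D) (hZ : Z ≤ Subgroup.center D)
    (h2 : ∀ z ∈ Z, z ^ 2 = 1) :
    ∃ E : Subgroup S, E.Normal ∧ Cfsg.IsElementaryAbelian 2 E ∧
      Nat.card E = Nat.card Z ^ Fintype.card I := by
  let κ : (I → Z) →* Wr I D X := bs.comp (MonoidHom.compLeft Z.subtype I)
  have hκ : ∀ e, κ e ∈ WT D X T := fun e => T.one_mem
  let κ' : (I → Z) →* S := ψ.toMonoidHom.comp (κ.codRestrict _ hκ)
  have hinj : Function.Injective κ' := ψ.injective.comp fun a b h => by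
    have h1 : κ a = κ b := congrArg Subtype.val h
    exact funext fun i => Subtype.ext (congrFun (congrArg (fun g : Wr I D X => g.1.left) h1) i)
  have key : ∀ (h : Wr I D X) (e : I → Z), h * κ e * h⁻¹ = κ (fun i => e (h.1.right⁻¹ i)) := by
    intro h e
    rw [mul_inv_eq_iff_eq_mul]
    refine Prod.ext (SemidirectProduct.ext (funext fun i => ?_) (by simp [κ, bs])) (by simp [κ, bs])
    change h.1.left i * (e (h.1.right⁻¹ i)).1 = (e (h.1.right⁻¹ i)).1 * h.1.left i
    exact Subgroup.mem_center_iff.1 (hZ (e _).2) _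
  refine ⟨κ'.range, ⟨?_⟩, ⟨⟨⟨?_⟩⟩, ?_⟩, ?_⟩
  · rintro _ ⟨e, rfl⟩ s
    obtain ⟨h, rfl⟩ := ψ.surjective s
    refine ⟨fun i => e (h.1.1.right⁻¹ i), ?_⟩
    change ψ _ = ψ h * ψ _ * (ψ h)⁻¹
    rw [← map_inv, ← map_mul, ← map_mul]
    exact congrArg ψ (Subtype.ext (key h.1 e).symm)
  · rintro ⟨_, a, rfl⟩ ⟨_, b, rfl⟩
    refine Subtype.ext ?_
    change κ' a * κ' b = κ' b * κ' a
    rw [← map_mul, ← map_mul]
    congr 1
    exact funext fun i => Subtype.ext (Subgroup.mem_center_iff.1 (hZ (b i).2) _)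
  · rintro _ ⟨a, rfl⟩
    rw [← map_pow, show a ^ 2 = 1 from funext fun i => Subtype.ext (h2 _ (a i).2), map_one]
  · rw [← Nat.card_congr (MonoidHom.ofInjective hinj).toEquiv, Nat.card_fun, Nat.card_eq_fintype_card (α := I)]

/-- The normal 2-rank of the symplectic group over a finite field of odd order: for n ≥ 1 and S a Sylow 2-subgroup of Sp_{2n}(F), the largest rank of an elementary abelian subgroup of S that is normal in S equals n. -/
theorem result {F : Type*} [Field F] [Fintype F] (hF : Odd (Fintype.card F)) (n : ℕ) (hn : 1 ≤ n) (S : Sylow 2 ↥(Matrix.symplecticGroup (Fin n) F)) :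
    ((∃ E : Subgroup ↥(S : Subgroup ↥(Matrix.symplecticGroup (Fin n) F)), E.Normal ∧ Cfsg.IsElementaryAbelian 2 E ∧ 2 ^ (n) ≤ Nat.card ↥E) ∧
      ∀ E : Subgroup ↥(S : Subgroup ↥(Matrix.symplecticGroup (Fin n) F)), E.Normal → Cfsg.IsElementaryAbelian 2 E → Nat.card ↥E ≤ 2 ^ (n)) := by
  classical
  refine ⟨?_, fun E _ hE => ?_⟩
  swap
  · have := (Cfsg.Agent.S2234.result hF n hn).2 (E.map (S : Subgroup _).subtype)
      (by have := hE.1; infer_instance) (by
        rintro _ ⟨x, hx, rfl⟩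
        rw [← map_pow, hE.2 x hx, map_one])
    rwa [Subgroup.card_map_of_injective (Subgroup.subtype_injective _)] at this
  obtain ⟨n, rfl⟩ : ∃ m, n = m + 1 := ⟨n - 1, by omega⟩
  have hq := hF
  have h1 := Fintype.one_lt_card (α := F)
  have hΦ : (spf (F := F) (Fin (n + 1))).Nondeg := fun v hv => funext fun p => by
    rcases p with ⟨i, k⟩ | j
    · fin_cases k
      · simpa [spf_B, Pi.single_apply] using hv (Pi.single (.inl (i, 1)) 1)
      · simpa [spf_B, Pi.single_apply] using hv (Pi.single (.inl (i, 0)) 1)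
    · exact j.elim
  obtain ⟨e⟩ := (symp_iso_std _ hΦ (m := n + 1) (by simp; ring)).nonempty_equiv
  obtain ⟨D, hD⟩ := (Transfer.isPGroup_two_zpowers (x := (-1 : SpecialLinearGroup (Fin 2) F))
    (by simp)).exists_le_sylow
  obtain ⟨T⟩ : Nonempty (Sylow 2 (Perm (Fin (n + 1)))) := inferInstance
  let δ := SpecialLinearGroup.toLin'.comp D.1.subtype
  have hρ : ∀ g, rho (I := Fin (n + 1)) δ (sg Empty) g ∈ (spf (F := F) (Fin (n + 1))).Isom := fun g =>
    Form.mem_Isom_symp.2 fun u v => by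
      simp only [spf_B, rho_inl]
      refine Fintype.sum_equiv g.1.right⁻¹ _ _ fun i => ?_
      have := (g.1.left i).1.2
      rw [det_fin_two] at this
      simp [δ, SpecialLinearGroup.toLin'_apply, mulVec, dotProduct]
      linear_combination (u (.inl (g.1.right.symm i, 0)) * v (.inl (g.1.right.symm i, 1)) -
        u (.inl (g.1.right.symm i, 1)) * v (.inl (g.1.right.symm i, 0))) * this
  let Θ := ((e.trans (spEquiv _ F).symm).toMonoidHom.comp ((rho δ (sg Empty)).codRestrict _ hρ))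
  have hΘ : Function.Injective Θ :=
    ((e.trans (spEquiv _ F).symm).injective.comp fun a b h => rho_inj δ _
      (SpecialLinearGroup.toLin'_injective.comp Subtype.val_injective) (sg_inj (two_ne_zero_of_odd hq) _)
      (congrArg Subtype.val h))
  have hW : Nat.card (WT D.1 (Empty → ℤˣ) T.1) = 2 ^ (padicValNat 2 (Fintype.card F ^ 2 - 1) * (n + 1) +
      padicValNat 2 (n + 1).factorial) := by
    rw [card_WT, card_SL2 hq, card_T, ← pow_mul, ← pow_add]; simp
  have he : padicValNat 2 (Nat.card (symplecticGroup (Fin (n + 1)) F)) =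
      padicValNat 2 (Fintype.card F ^ 2 - 1) * (n + 1) + padicValNat 2 (n + 1).factorial := by
    rw [Nat.card_congr (spEquiv _ F).toEquiv, card_symp (n + 1) _ (spForm_nondeg _) (by simp; ring),
      Nat.card_eq_fintype_card, padicValNat.mul (by positivity) (Finset.prod_ne_zero_iff.2 fun i _ =>
        Nat.sub_ne_zero_of_lt (Nat.one_lt_pow (by omega) h1)), val_prod hq h1,
      padicValNat.eq_zero_of_not_dvd (n := _ ^ _) (by simpa [← even_iff_two_dvd] using hq.pow), zero_add, mul_comm]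
  let Q := Sylow.ofCard (p := 2) ((WT D.1 (Empty → ℤˣ) T.1).map Θ) (by
    rw [Subgroup.card_map_of_injective hΘ, hW, Nat.factorization_def _ Nat.prime_two, he])
  let z : D.1 := ⟨-1, hD (Subgroup.mem_zpowers _)⟩
  have hz : orderOf z = 2 := orderOf_eq_prime (Subtype.ext (by simp [z])) fun h => by
    have h3 := congrFun (congrFun (congrArg (fun g : D.1 => g.1.1) h) 0) 0
    simp [z] at h3
    exact two_ne_zero_of_odd hq (by linear_combination -h3)
  obtain ⟨E, h1, h2, h3⟩ := exists_E T.1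
    (((WT D.1 (Empty → ℤˣ) T.1).equivMapOfInjective Θ hΘ).trans (Sylow.equiv Q S)) (Subgroup.zpowers z)
    (Subgroup.zpowers_le.2 (Subgroup.mem_center_iff.2 fun g => Subtype.ext (by simp [z])))
    (fun w hw => orderOf_dvd_iff_pow_eq_one.1 ((orderOf_dvd_of_mem_zpowers hw).trans hz.dvd))
  exact ⟨E, h1, h2, by rw [h3, Nat.card_zpowers, hz, Fintype.card_fin]⟩

end Cfsg.Agent.S2250
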