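import Cfsg.Statements.S2253
import Mathlib
import Cfsg.Agent.Lib.Perm.Nil2

set_option autoImplicit false
open Cfsg

namespace Cfsg.Agent.S2253

open Cfsg.Agent.Perm.Nil

/-- Let n be a natural number not congruent to 3 modulo 4. Then every nilpotent subgroup of the symmetric group on n letters has order at most the order of a Sylow 2-subgroup (so the nilpotent subgroups of largest order are exactly the Sylow 2-subgroups). -/
theorem result  (n : ℕ) (hn : n % 4 ≠ 3)
    (N : Subgroup (Equiv.Perm (Fin n))) (hN : Group.IsNilpotent N)
    (P : Sylow 2 (Equiv.Perm (Fin n))) :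
    Nat.card N ≤ Nat.card P := by
  obtain ⟨S, I, Q, h1, h2, h3, h4, h5, h6⟩ := main N hN
  have q := (two_bound h2 h3).1
  rw [Finset.card_compl, Fintype.card_fin] at q
  have sn : S.card ≤ n := by simpa using S.card_le_univ
  rw [card_sylS, h5]
  by_cases h : S.card = 3
  · rw [h] at h6 q sn
    have v3 := (v_three (n - 3)).2 (by omega)
    rw [show n - 3 + 3 = n by omega] at v3
    have := Nat.pow_le_pow_right (show 0 < 2 by norm_num) v3
    rw [pow_add] at this
    have := Nat.mul_le_mul (le3 h6) q
    omega
  · have w := v_add S.card (n - S.card)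
    rw [show S.card + (n - S.card) = n by omega] at w
    exact (Nat.mul_le_mul (n1 h h6) q).trans (by rw [← pow_add]; exact Nat.pow_le_pow_right (by norm_num) w)

end Cfsg.Agent.S2253
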