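import Cfsg.Statements.S2254
import Mathlib
import Cfsg.Agent.Lib.Perm.Nil2

set_option autoImplicit false
open Cfsg

namespace Cfsg.Agent.S2254

open Cfsg.Agent.Perm.Nil

/-- Let n ≡ 3 (mod 4). Then every nilpotent subgroup of the symmetric group on n letters has order at most 3 times the order of a Sylow 2-subgroup of the symmetric group on n − 3 letters; the bound is attained by a nilpotent subgroup isomorphic to the direct product of such a Sylow 2-subgroup with a cyclic group of order 3; and any two nilpotent subgroups attaining the bound are conjugate. -/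
theorem result  (n : ℕ) (hn : n % 4 = 3)
    (P : Sylow 2 (Equiv.Perm (Fin (n - 3)))) :
    (∀ N : Subgroup (Equiv.Perm (Fin n)), Group.IsNilpotent N → Nat.card N ≤ 3 * Nat.card P) ∧
    (∃ M : Subgroup (Equiv.Perm (Fin n)), Group.IsNilpotent M ∧ Nat.card M = 3 * Nat.card P ∧
      Nonempty (M ≃* (↥(P : Subgroup (Equiv.Perm (Fin (n - 3)))) × Multiplicative (ZMod 3)))) ∧
    (∀ N₁ N₂ : Subgroup (Equiv.Perm (Fin n)), Group.IsNilpotent N₁ → Group.IsNilpotent N₂ →
      Nat.card N₁ = 3 * Nat.card P → Nat.card N₂ = 3 * Nat.card P →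
      ∃ g : Equiv.Perm (Fin n), N₂ = N₁.map (MulAut.conj g).toMonoidHom) := by
  refine ⟨fun N hN => card_sylS P ▸ (topS hn N hN).1, ?_, fun N₁ N₂ h1 h2 c1 c2 => ?_⟩
  · obtain ⟨M, ⟨e⟩, -⟩ := exM (show n - 3 + 3 = n by omega) P P.2
    exact ⟨M, (of_iso P.2 e).1, (of_iso P.2 e).2, ⟨e⟩⟩
  · rw [card_sylS] at c1 c2
    obtain ⟨g, -, hg⟩ := conj (K := ⊤) ((topS hn _ h1).2 c1) ((topS hn _ h2).2 c2) le_top le_top
      (fun c _ d _ hc hd => by
        obtain ⟨g, hg⟩ := isConj_iff.1 (Equiv.Perm.isConj_iff_cycleType_eq.2 (hc.trans hd.symm))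
        exact ⟨g, trivial, hg⟩)
      (fun T hT => ⟨default, by
        rw [← card_sylS P]
        refine card_syl ?_ _ _
        rw [inf_top_eq, ← Nat.card_congr (MonoidHom.ofInjective Equiv.Perm.ofSubtype_injective).toEquiv,
          Nat.card_perm, Nat.card_perm]
        simp [hT]⟩)
    exact ⟨g, hg⟩

end Cfsg.Agent.S2254
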