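import Cfsg.Statements.S2255
import Mathlib
import Cfsg.Agent.Lib.Perm.Nil2

set_option autoImplicit false
open Cfsg

namespace Cfsg.Agent.S2255

open Cfsg.Agent.Perm.Nil

/-- Let n be a natural number not congruent to 3 modulo 4, with n ∉ {5, 6, 9}. Then every nilpotent subgroup of the alternating group on n letters has order at most the order of a Sylow 2-subgroup of the alternating group (so the nilpotent subgroups of largest order are exactly the Sylow 2-subgroups). -/
theorem result  (n : ℕ) (hn : n % 4 ≠ 3)
    (h5 : n ≠ 5) (h6 : n ≠ 6) (h9 : n ≠ 9)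
    (N : Subgroup (alternatingGroup (Fin n))) (hN : Group.IsNilpotent N)
    (P : Sylow 2 (alternatingGroup (Fin n))) :
    Nat.card N ≤ Nat.card P := by
  by_cases h2n : n ≤ 2
  · have := (Subgroup.card_le_card_group N).trans_eq
      (Subgroup.card_eq_one.2 (alternatingGroup.eq_bot_of_card_le_two (by simpa using h2n)))
    exact this.trans Nat.card_pos
  have e := Subgroup.equivMapOfInjective N _ (alternatingGroup (Fin n)).subtype_injective
  obtain ⟨S, I, Q, g1, g2, g3, g4, g5, g6⟩ := main _ (Group.nilpotent_of_mulEquiv e)
  obtain ⟨q0, q⟩ := two_bound g2 g3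
  rw [Finset.card_compl, Fintype.card_fin] at q q0
  have sn : S.card ≤ n := by simpa using S.card_le_univ
  have c := card_sylA (by omega) P
  rw [Nat.card_congr e.toEquiv, g5]
  by_cases h0 : 2 ≤ n - S.card
  · replace q := q (g1.trans (Subgroup.map_subtype_le _)) h0
    by_cases h : S.card = 3
    · rw [h] at g6 q sn
      have v3 := (v_three (n - 3)).2 (by omega)
      rw [show n - 3 + 3 = n by omega] at v3
      have := Nat.pow_le_pow_right (show 0 < 2 by norm_num) v3
      rw [pow_add] at this
      have := Nat.mul_le_mul_right (Nat.card Q) (le3 g6)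
      omega
    · have w := v_add S.card (n - S.card)
      rw [show S.card + (n - S.card) = n by omega] at w
      have := Nat.mul_le_mul (n1 h g6) q
      rw [mul_left_comm, ← pow_add] at this
      have := Nat.pow_le_pow_right (show 0 < 2 by norm_num) w
      omega
  · have := n2 sn (by omega) hn (by omega) h5 h6 h9 g6
    have e : v (n - S.card) = 0 := by
      rcases (by omega : n - S.card = 0 ∨ n - S.card = 1) with h | h <;> rw [h] <;> simp
    rw [e] at q0
    have := Nat.mul_le_mul_left I q0
    omega

end Cfsg.Agent.S2255
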