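import Cfsg.Statements.S2256
import Mathlib
import Cfsg.Agent.Lib.Perm.Nil2

set_option autoImplicit false
open Cfsg

namespace Cfsg.Agent.S2256

open Cfsg.Agent.Perm.Nil

/-- Let n ≡ 3 (mod 4) with n ≥ 7. Then every nilpotent subgroup of the alternating group on n letters has order at most 3 times the order of a Sylow 2-subgroup of the alternating group on n − 3 letters; the bound is attained by a nilpotent subgroup isomorphic to the direct product of such a Sylow 2-subgroup with a cyclic group of order 3; and any two nilpotent subgroups of the alternating group attaining the bound are conjugate in it. -/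
theorem result  (n : ℕ) (hn : n % 4 = 3) (h7 : 7 ≤ n)
    (P : Sylow 2 (alternatingGroup (Fin (n - 3)))) :
    (∀ N : Subgroup (alternatingGroup (Fin n)), Group.IsNilpotent N → Nat.card N ≤ 3 * Nat.card P) ∧
    (∃ M : Subgroup (alternatingGroup (Fin n)), Group.IsNilpotent M ∧ Nat.card M = 3 * Nat.card P ∧
      Nonempty (M ≃* (↥(P : Subgroup (alternatingGroup (Fin (n - 3)))) × Multiplicative (ZMod 3)))) ∧
    (∀ N₁ N₂ : Subgroup (alternatingGroup (Fin n)), Group.IsNilpotent N₁ → Group.IsNilpotent N₂ →
      Nat.card N₁ = 3 * Nat.card P → Nat.card N₂ = 3 * Nat.card P →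
      ∃ g : alternatingGroup (Fin n), N₂ = N₁.map (MulAut.conj g).toMonoidHom) := by
  have c := card_sylA (by omega) P
  have inj := (alternatingGroup (Fin n)).subtype_injective
  have top : ∀ N : Subgroup (alternatingGroup (Fin n)), Group.IsNilpotent N → _ := fun N hN =>
    topA hn h7 _ (Group.nilpotent_of_mulEquiv (Subgroup.equivMapOfInjective N _ inj))
      (Subgroup.map_subtype_le _) c
  simp only [Subgroup.card_map_of_injective inj] at top
  refine ⟨fun N hN => (top N hN).1, ?_, fun N₁ N₂ h1 h2 c1 c2 => ?_⟩
  · obtain ⟨M, ⟨e⟩, l⟩ := exM (show n - 3 + 3 = n by omega) (P.1.map (alternatingGroup _).subtype) (P.2.map _)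
    have e' := ((Subgroup.subgroupOfEquivOfLe (l (Subgroup.map_subtype_le _))).trans e).trans
      ((Subgroup.equivMapOfInjective P.1 _ (alternatingGroup _).subtype_injective).symm.prodCongr (MulEquiv.refl _))
    exact ⟨_, (of_iso P.2 e').1, (of_iso P.2 e').2, ⟨e'⟩⟩
  · obtain ⟨g, gA, hg⟩ := conj (K := alternatingGroup _) ((top _ h1).2 c1) ((top _ h2).2 c2)
      (Subgroup.map_subtype_le _) (Subgroup.map_subtype_le _)
      (fun c cA d dA hc hd => by
        obtain ⟨g, hg⟩ := isConj_iff.1 (alternatingGroup.isThreeCycle_isConj (σ := ⟨c, cA⟩) (τ := ⟨d, dA⟩)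
          (by simp; omega) hc hd)
        exact ⟨g, g.2, congrArg Subtype.val hg⟩)
      (fun T hT => ⟨default, by
        refine card_syl ?_ _ _
        haveI : Nontrivial T := Fintype.one_lt_card_iff_nontrivial.1 (by simp; omega)
        haveI : Nontrivial (Fin (n - 3)) := Fin.nontrivial_iff_two_le.2 (by omega)
        rw [← alternatingGroup.map_ofSubtype, Subgroup.card_map_of_injective Equiv.Perm.ofSubtype_injective,
          nat_card_alternatingGroup, nat_card_alternatingGroup]
        simp [hT]⟩)
    refine ⟨⟨g, gA⟩, Subgroup.map_injective inj ?_⟩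
    rw [hg, Subgroup.map_map, Subgroup.map_map]; rfl

end Cfsg.Agent.S2256
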