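import Cfsg.Statements.S2260
import Mathlib
import Cfsg.Agent.Lib.Perm.Un1

set_option autoImplicit false
open Cfsg

namespace Cfsg.Agent.S2260

open Cfsg.Agent.Classical Cfsg.Agent.Perm.Inv Cfsg.Agent.Perm.Cj

/-- Let F be a finite field of prime characteristic p and u an invertible d × d matrix over F with u − 1 nilpotent (a unipotent element). Then the order of u is at most p^⌈log_p d⌉; and if moreover (u − 1)^(d−1) ≠ 0 (u is a single Jordan block) then the order of u is exactly p^⌈log_p d⌉. -/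
theorem result {F : Type*} [Field F] [Finite F] (p : ℕ) [Fact p.Prime] [CharP F p] (d : ℕ)
    (u : GL (Fin d) F) (hu : IsNilpotent ((u : Matrix (Fin d) (Fin d) F) - 1)) :
    orderOf u ≤ p ^ Nat.clog p d ∧
    (((u : Matrix (Fin d) (Fin d) F) - 1) ^ (d - 1) ≠ 0 → orderOf u = p ^ Nat.clog p d) := by
  have hp := (Fact.out : p.Prime).one_lt
  have h0 : ∀ k, (u.1 - 1) ^ k = 0 ↔ (dl (glEquiv u) : Module.End F _) ^ k = 0 := fun k => by
    rw [← mulVecLin_sub (M := u.1) fun _ => rfl, ← Matrix.toLin'_apply', ← Matrix.toLin'_pow, LinearEquiv.map_eq_zero_iff]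
  have h1 : ∀ k, (u.1 - 1) ^ p ^ k = 0 ↔ u ^ p ^ k = 1 := fun k => by
    rw [h0, dl_pow_char, ← map_pow, MulEquiv.map_eq_one_iff]
  have h2 := (h1 (Nat.clog p d)).1 (pow_eq_zero_of_le (Nat.le_pow_clog hp d) ((h0 d).2 (by
    simpa using nil_pow (hu.imp fun k => (h0 k).1))))
  refine ⟨Nat.le_of_dvd (by positivity) (orderOf_dvd_of_pow_eq_one h2), fun h => ?_⟩
  rcases hk : Nat.clog p d with _ | k
  · simpa [hk] using h2
  refine orderOf_eq_prime_pow (fun h' => h (pow_eq_zero_of_le ?_ ((h1 k).2 h'))) (hk ▸ h2)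
  have := (Nat.lt_clog_iff_pow_lt hp (x := d) (y := k)).1 (by omega)
  omega

end Cfsg.Agent.S2260
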