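import Cfsg.Statements.S2261
import Cfsg.Agent.Lib.Classical.Torus

set_option autoImplicit false
open Cfsg

namespace Cfsg.Agent.S2261
open Cfsg.Agent.Classical

open Matrix Polynomial Module


/-- Let F be a finite field with q elements and d ≥ 1. Then every element of PGL_d(F) = GL_d(F)/Z has order at most (q^d − 1)/(q − 1), and some element (the image of a Singer cycle) has exactly this order. -/
theorem result {F : Type*} [Field F] [Fintype F] (d : ℕ) (hd : 1 ≤ d) :
    (∀ g : (GL (Fin d) F ⧸ Subgroup.center (GL (Fin d) F)), (Fintype.card F - 1) * orderOf g ≤ Fintype.card F ^ d - 1) ∧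
    (∃ g : (GL (Fin d) F ⧸ Subgroup.center (GL (Fin d) F)), (Fintype.card F - 1) * orderOf g = Fintype.card F ^ d - 1) := by
  classical
  haveI : NeZero d := ⟨by omega⟩
  have cen : ∀ g : GL (Fin d) F, (g : GL (Fin d) F ⧸ Subgroup.center (GL (Fin d) F)) = 1 ↔
      ∃ a : F, (g : Matrix (Fin d) (Fin d) F) = a • 1 := fun g => by
    rw [QuotientGroup.eq_one_iff, GeneralLinearGroup.mem_center_iff_val_mem_range_scalar]
    simp [scalar_apply, ← smul_one_eq_diagonal, eq_comm]
  refine (and_iff_left_of_imp fun h1 => ?_).2 fun g => ?_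
  swap
  · obtain ⟨g, rfl⟩ := QuotientGroup.mk_surjective g
    let A : Matrix (Fin d) (Fin d) F := g
    let S : Finset (Matrix (Fin d) (Fin d) F) :=
      (Finset.univ.image fun c : Fin d → F => ∑ i, c i • A ^ (i : ℕ)).erase 0
    have hS : S.card ≤ Fintype.card F ^ d - 1 := by
      rw [Finset.card_erase_of_mem (Finset.mem_image.2 ⟨0, by simp⟩)]
      exact Nat.sub_le_sub_right (Finset.card_image_le.trans (by simp)) 1
    refine le_trans ?_ hS
    rw [← Fintype.card_units, ← Finset.card_univ, ← Finset.card_range (orderOf _), ← Finset.card_product]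
    refine Finset.card_le_card_of_injOn (fun x => (x.1 : F) • A ^ x.2) (fun x _ => ?_) fun x hx y hy h => ?_
    · refine Finset.mem_coe.2 (Finset.mem_erase.2 ⟨smul_ne_zero x.1.ne_zero (g ^ x.2).ne_zero, ?_⟩)
      have h1 : (C (x.1 : F) * X ^ x.2 %ₘ A.charpoly).natDegree < d := by
        have := natDegree_modByMonic_lt (C (x.1 : F) * X ^ x.2) A.charpoly_monic (fun h => by
          have := A.charpoly_natDegree_eq_dim
          simp [h] at this; omega)
        simpa using this
      refine Finset.mem_image.2 ⟨fun i => (C (x.1 : F) * X ^ x.2 %ₘ A.charpoly).coeff i, Finset.mem_univ _, ?_⟩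
      rw [← Finset.sum_range fun i => (C (x.1 : F) * X ^ x.2 %ₘ A.charpoly).coeff i • A ^ i,
        ← aeval_eq_sum_range' h1, ← aeval_eq_aeval_mod_charpoly]
      simp [Algebra.smul_def]
    · have key : ∀ (a b : Fˣ) (i j : ℕ), (a : F) • A ^ i = (b : F) • A ^ j →
          (g : GL (Fin d) F ⧸ Subgroup.center (GL (Fin d) F)) ^ i = (g : GL (Fin d) F ⧸ _) ^ j := fun a b i j h => by
        rw [← mul_inv_eq_one, ← QuotientGroup.mk_pow, ← QuotientGroup.mk_pow, ← QuotientGroup.mk_inv,
          ← QuotientGroup.mk_mul, cen]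
        refine ⟨(a⁻¹ * b : Fˣ), ?_⟩
        have : A ^ i = ((a⁻¹ * b : Fˣ) : F) • A ^ j := by
          rw [Units.val_mul, mul_smul, ← h, smul_smul]; simp
        rw [Units.val_mul, Units.val_pow_eq_pow_val, this, Matrix.smul_mul]
        congr 1
        exact (g ^ j).mul_inv
      have e : x.2 = y.2 := pow_injOn_Iio_orderOf (by simpa using hx) (by simpa using hy) (key _ _ _ _ h)
      refine Prod.ext (Units.ext (smul_left_injective F (g ^ x.2).ne_zero ?_)) e
      exact h.trans (by rw [e]; rfl)
  · obtain ⟨p, hp⟩ := CharP.exists F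
    haveI : Fact p.Prime := ⟨CharP.char_is_prime F p⟩
    let K := FiniteField.Extension F p d
    let b := finBasisOfFinrankEq F K (FiniteField.finrank_extension F p d)
    obtain ⟨c, hc⟩ := IsCyclic.exists_ofOrder_eq_natCard (α := Kˣ)
    rw [Nat.card_units, FiniteField.natCard_extension, Nat.card_eq_fintype_card] at hc
    let g : GL (Fin d) F := Units.map (Algebra.leftMulMatrix b : _ →* _) c
    refine ⟨g, (h1 _).antisymm (Nat.le_of_dvd (Nat.mul_pos (Nat.sub_pos_of_lt Fintype.one_lt_card)
      (orderOf_pos _)) ?_)⟩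
    have h2 := pow_orderOf_eq_one (g : GL (Fin d) F ⧸ Subgroup.center (GL (Fin d) F))
    generalize orderOf (g : GL (Fin d) F ⧸ Subgroup.center (GL (Fin d) F)) = k at h2
    rw [← QuotientGroup.mk_pow, cen] at h2
    obtain ⟨a, ha⟩ := h2
    have e3 : ((c ^ k : Kˣ) : K) = algebraMap F K a := Algebra.leftMulMatrix_injective b (by
      rw [AlgHom.commutes, Algebra.algebraMap_eq_smul_one, ← ha, ← map_pow]; rfl)
    have e4 : a ≠ 0 := fun h => Units.ne_zero (c ^ k) (by rw [e3, h, map_zero])
    rw [← hc, orderOf_dvd_iff_pow_eq_one, mul_comm, pow_mul]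
    exact Units.ext (by rw [Units.val_pow_eq_pow_val, e3, ← map_pow, FiniteField.pow_card_sub_one_eq_one a e4,
      map_one, Units.val_one])

end Cfsg.Agent.S2261
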