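import Cfsg.Statements.S2268
import Mathlib

set_option autoImplicit false
open Cfsg

namespace Cfsg.Agent.S2268



/-- Let G be a finite group with an abelian Sylow p-subgroup P and let Q ≤ P. Then N_G(Q) = (N_G(Q) ∩ N_G(P))·C_G(Q), so that N_G(Q)/C_G(Q) is a homomorphic image of the subgroup (N_G(Q) ∩ N_G(P))/C_G(P) of N_G(P)/C_G(P); in particular the order of N_G(Q)/C_G(Q) divides the order of N_G(P)/C_G(P). -/
theorem result {G : Type*} [Group G] [Finite G] {p : ℕ} [Fact p.Prime]
    (P : Sylow p G) (hP : IsMulCommutative (P : Subgroup G)) (Q : Subgroup G) (hQ : Q ≤ (P : Subgroup G)) :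
    Subgroup.normalizer (Q : Set G) =
      (Subgroup.normalizer (Q : Set G) ⊓ Subgroup.normalizer ((P : Subgroup G) : Set G)) ⊔ Subgroup.centralizer (Q : Set G) ∧
    ((Subgroup.centralizer (Q : Set G)).subgroupOf (Subgroup.normalizer (Q : Set G))).index ∣ ((Subgroup.centralizer ((P : Subgroup G) : Set G)).subgroupOf (Subgroup.normalizer ((P : Subgroup G) : Set G))).index := by
  set N := Subgroup.normalizer (Q : Set G)
  set C := Subgroup.centralizer (Q : Set G)
  have hCN : C ≤ N := Subgroup.centralizer_le_normalizer _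
  have hPC : (P : Subgroup G) ≤ C := fun x hx =>
    Subgroup.centralizer_le (show (Q : Set G) ⊆ (P : Subgroup G) from hQ) ((P : Subgroup G).le_centralizer hx)
  have h1 : N = (N ⊓ Subgroup.normalizer ((P : Subgroup G) : Set G)) ⊔ C := by
    refine le_antisymm (fun g hg => ?_) (sup_le inf_le_left hCN)
    have hg2 : ((g • P : Sylow p G) : Subgroup G) ≤ C := by
      rintro _ ⟨x, hx, rfl⟩
      exact (Subgroup.normal_subgroupOf_iff hCN).1 inferInstance x g (hPC hx) hg
    obtain ⟨c, hc⟩ := MulAction.exists_smul_eq C ((g • P).subtype hg2) (P.subtype hPC)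
    rw [Sylow.smul_subtype] at hc
    have hc2 := Sylow.subtype_injective hc
    have hc3 : ((c : G) * g) • P = P := by rw [mul_smul]; exact hc2
    rw [Sylow.smul_eq_iff_mem_normalizer] at hc3
    have : g = (c : G)⁻¹ * (c * g) := by group
    rw [this]
    exact Subgroup.mul_mem _ (Subgroup.mem_sup_right (C.inv_mem c.2))
      (Subgroup.mem_sup_left ⟨N.mul_mem (hCN c.2) hg, hc3⟩)
  refine ⟨h1, ?_⟩
  set K := N ⊓ Subgroup.normalizer ((P : Subgroup G) : Set G)
  have h2 : (C.subgroupOf N).index = C.relIndex K := by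
    rw [← Subgroup.relIndex_subgroupOf (show K ≤ N from inf_le_left), ← Subgroup.relIndex_sup_right,
      ← Subgroup.subgroupOf_sup inf_le_left hCN, ← h1, Subgroup.subgroupOf_self, Subgroup.relIndex_top_right]
  have h3 : Subgroup.centralizer ((P : Subgroup G) : Set G) ≤ C :=
    Subgroup.centralizer_le (show (Q : Set G) ⊆ (P : Subgroup G) from hQ)
  rw [h2]
  refine (Subgroup.relIndex_dvd_of_le_left K h3).trans ?_
  exact Dvd.intro _ (Subgroup.relIndex_mul_relIndex _ K _
    (le_inf (h3.trans hCN) (Subgroup.centralizer_le_normalizer _)) inf_le_right)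

end Cfsg.Agent.S2268
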