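import Cfsg.Statements.S2269
import Mathlib
import Cfsg.Agent.Lib.Perm.Nil1

set_option autoImplicit false
open Cfsg

namespace Cfsg.Agent.S2269

open Equiv Equiv.Perm Subgroup

theorem even_index {G : Type*} [Group G] [Finite G] {P : Set G} {m y : G} (hm : m ∈ normalizer P) (hy : y ∈ P)
    (h : m⁻¹ * y * m = y⁻¹) (h2 : y⁻¹ ≠ y) : 2 ∣ ((centralizer P).subgroupOf (normalizer P)).index := by
  by_contra hk
  obtain ⟨j, hj⟩ := Nat.not_even_iff_odd.1 (mt even_iff_two_dvd.1 hk)
  have c : Commute y (m ^ (2 * j + 1)) := by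
    rw [← hj]; exact (((centralizer P).subgroupOf (normalizer P)).pow_index_mem ⟨m, hm⟩) y hy
  have c2 : Commute y (m ^ 2) := by
    have : m⁻¹ * y⁻¹ * m = y := by rw [← inv_inv y, ← h, h]; simpa [mul_assoc] using congrArg Inv.inv h
    calc y * m ^ 2 = m ^ 2 * (m⁻¹ * (m⁻¹ * y * m) * m) := by rw [pow_two]; group
      _ = _ := by rw [h, this]
  have c3 : Commute y m := by
    have := c.mul_right (c2.pow_right j).inv_right
    rwa [← pow_mul, pow_succ', mul_inv_cancel_right] at this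
  exact h2 (by rw [← h, mul_assoc, c3.eq, inv_mul_cancel_left])

theorem not_comm (m : ℕ) (P : Sylow 2 (alternatingGroup (Fin (m + 6)))) : ¬ IsMulCommutative P := by
  intro hP
  let φ : Perm (Fin 6) →* Perm (Fin (m + 6)) :=
    (finSumFinEquiv.permCongrHom.toMonoidHom.comp (sumCongrHom _ _)).comp (MonoidHom.inr _ _)
  have hφ : Function.Injective φ := (finSumFinEquiv.permCongrHom.injective.comp sumCongrHom_injective).comp
    (Prod.mk_right_injective _)
  let D : Subgroup (Perm (Fin 6)) := alternatingGroup _ ⊓ centralizer {swap 0 1 * swap 2 3}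
  have hD : IsPGroup 2 D := fun g => ⟨2, Subtype.ext (by
    have : ∀ g : Perm (Fin 6), sign g = 1 → g * (swap 0 1 * swap 2 3) = (swap 0 1 * swap 2 3) * g →
      g * g * (g * g) = 1 := by decide +kernel
    change g.1 ^ 4 = 1
    rw [← this g.1 g.2.1 (mem_centralizer_singleton_iff.1 g.2.2)]
    simp only [pow_succ, pow_zero, one_mul, mul_assoc])⟩
  have l : D.map φ ≤ alternatingGroup _ := by
    rintro _ ⟨x, hx, rfl⟩
    rw [mem_alternatingGroup]
    change sign (finSumFinEquiv.permCongr (Perm.sumCongr 1 x)) = 1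
    rw [sign_permCongr, sign_sumCongr, mem_alternatingGroup.1 hx.1]; simp
  obtain ⟨Q, hQ⟩ := ((hD.map φ).comap_of_injective _ (alternatingGroup _).subtype_injective).exists_le_sylow
  have k : ∀ a ∈ D, ∀ b ∈ D, a * b = b * a := fun a ha b hb => by
    have e := Q.equiv P
    have := e.injective (a₁ := ⟨⟨φ a, l ⟨a, ha, rfl⟩⟩, hQ ⟨a, ha, rfl⟩⟩ * ⟨⟨φ b, l ⟨b, hb, rfl⟩⟩, hQ ⟨b, hb, rfl⟩⟩)
      (a₂ := ⟨⟨φ b, l ⟨b, hb, rfl⟩⟩, hQ ⟨b, hb, rfl⟩⟩ * ⟨⟨φ a, l ⟨a, ha, rfl⟩⟩, hQ ⟨a, ha, rfl⟩⟩)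
      (by rw [map_mul, map_mul, hP.is_comm.comm])
    exact hφ (by rw [map_mul, map_mul]; exact congrArg (fun x => x.1.1) this)
  exact absurd (k (swap 0 1 * swap 4 5) ⟨mem_alternatingGroup.2 (by decide), mem_centralizer_singleton_iff.2 (by decide)⟩
    (swap 0 2 * swap 1 3) ⟨mem_alternatingGroup.2 (by decide), mem_centralizer_singleton_iff.2 (by decide)⟩) (by decide)

theorem five (P : Sylow 2 (alternatingGroup (Fin 5))) (hP : IsMulCommutative P) :
    ((centralizer (P : Set (alternatingGroup (Fin 5)))).subgroupOf (normalizer (P : Set _))).index = 3 ∧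
      IsKleinFour P := by
  have cG : Nat.card (alternatingGroup (Fin 5)) = 60 := by rw [nat_card_alternatingGroup]; simp [Nat.factorial]
  have c4 : Nat.card P = 4 := by
    rw [P.card_eq_multiplicity, cG, Nat.factorization_def _ Nat.prime_two, show 60 = 2 ^ 2 * 15 from rfl,
      padicValNat.mul (by norm_num) (by norm_num), padicValNat.prime_pow, padicValNat.eq_zero_of_not_dvd (by norm_num)]
    rfl
  have sq : ∀ g ∈ (P : Subgroup (alternatingGroup (Fin 5))), g.1 * g.1 = 1 := fun g hg => by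
    have : ∀ g : Perm (Fin 5), sign g = 1 → g * g * (g * g) = 1 → g * g = 1 := by decide +kernel
    refine this _ g.2 ?_
    have := congrArg (fun x => x.1.1) (pow_card_eq_one' (x := (⟨g, hg⟩ : (P : Subgroup (alternatingGroup (Fin 5))))))
    rw [c4] at this
    change g.1 ^ 4 = 1 at this
    rw [← this]; simp only [pow_succ, pow_zero, one_mul, mul_assoc]
  haveI : Nontrivial P := Finite.one_lt_card_iff_nontrivial.1 (by omega)
  refine ⟨?_, c4, (Monoid.exponent_eq_prime_iff Nat.prime_two).2 fun g hg => orderOf_eq_prime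
    (Subtype.ext (Subtype.ext (by simpa [pow_two] using sq g g.2))) hg⟩
  obtain ⟨s, t, s1, t1, st⟩ : ∃ s t : P, s ≠ 1 ∧ t ≠ 1 ∧ s ≠ t := by
    haveI := Fintype.ofFinite (P : Subgroup (alternatingGroup (Fin 5)))
    obtain ⟨a, b, c, h1, h2, h3⟩ := (Fintype.two_lt_card_iff (α := (P : Subgroup (alternatingGroup (Fin 5))))).1
      (by rw [← Nat.card_eq_fintype_card]; omega)
    exact ⟨a⁻¹ * b, a⁻¹ * c, fun h => h1 (inv_mul_eq_one.1 h), fun h => h2 (inv_mul_eq_one.1 h),
      fun h => h3 (mul_left_cancel h)⟩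
  have s2 : s.1.1 ≠ 1 := fun h => s1 (Subtype.ext (Subtype.ext h))
  have t2 : t.1.1 ≠ 1 := fun h => t1 (Subtype.ext (Subtype.ext h))
  have cC : Nat.card (centralizer (P : Set (alternatingGroup (Fin 5)))) = 4 := by
    refine le_antisymm ?_ (c4 ▸ card_le_of_le P.1.le_centralizer)
    have : ∀ t : Perm (Fin 5), sign t = 1 → t * t = 1 → t ≠ 1 →
      Fintype.card {g : Perm (Fin 5) // sign g = 1 ∧ t * g = g * t} = 4 := by decide +kernel
    rw [← this _ t.1.2 (sq _ t.2) t2, ← Nat.card_eq_fintype_card]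
    exact Nat.card_le_card_of_injective (fun g => ⟨g.1.1, g.1.2, congrArg Subtype.val (g.2 _ t.2)⟩)
      fun a b h => Subtype.ext (Subtype.ext (Subtype.mk.inj h))
  have e := relIndex_mul_index (centralizer_le_normalizer (P : Set (alternatingGroup (Fin 5))))
  have e2 := (centralizer (P : Set (alternatingGroup (Fin 5)))).index_mul_card
  rw [cC, cG] at e2
  have n1 : ((centralizer (P : Set (alternatingGroup (Fin 5)))).subgroupOf (normalizer (P : Set _))).index ≠ 1 := by
    intro h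
    rw [index_eq_one, subgroupOf_eq_top] at h
    have : ∀ s t : Perm (Fin 5), sign s = 1 → s * s = 1 → s ≠ 1 → sign t = 1 → t * t = 1 → t ≠ 1 →
      ∃ g : Perm (Fin 5), sign g = 1 ∧ s * g = g * t := by decide +kernel
    obtain ⟨g, g1, g2⟩ := this _ _ s.1.2 (sq _ s.2) s2 t.1.2 (sq _ t.2) t2
    have e3 : (⟨g, g1⟩ : alternatingGroup (Fin 5))⁻¹ * s * ⟨g, g1⟩ = t := by
      rw [mul_assoc, inv_mul_eq_iff_eq_mul]; exact Subtype.ext g2
    obtain ⟨m, m1, m2⟩ := P.conj_eq_normalizer_conj_of_mem s ⟨g, g1⟩ s.2 (e3 ▸ t.2)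
    rw [e3, mul_assoc, h m1 _ s.2, inv_mul_cancel_left] at m2
    exact st (Subtype.ext m2.symm)
  have n2 : 3 < (normalizer (P : Set (alternatingGroup (Fin 5)))).index := by
    by_contra h
    rcases (normalizer (P : Set (alternatingGroup (Fin 5)))).normalCore_normal.eq_bot_or_eq_top with h1 | h1
    · have := (index_ker (MulAction.toPermHom (alternatingGroup (Fin 5)) (_ ⧸ normalizer (P : Set (alternatingGroup (Fin 5)))))).trans_le
        (card_le_card_group _)
      rw [← normalCore_eq_ker, h1, index_bot, cG, Nat.card_perm] at this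
      exact absurd (this.trans (Nat.factorial_le (not_lt.1 h))) (by decide)
    · have := normalizer_eq_top_iff.1 (top_le_iff.1 (h1 ▸ normalCore_le _))
      rcases this.eq_bot_or_eq_top with h2 | h2 <;> rw [h2] at c4
      · rw [card_bot] at c4; omega
      · rw [card_top] at c4; omega
  rw [relIndex] at e
  generalize ((centralizer (P : Set (alternatingGroup (Fin 5)))).subgroupOf (normalizer (P : Set _))).index = a at *
  generalize (normalizer (P : Set (alternatingGroup (Fin 5)))).index = b at *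
  have e4 : a * b = 15 := by omega
  have : b ≤ 15 := Nat.le_of_dvd (by norm_num) (Dvd.intro_left _ e4)
  interval_cases b <;> omega

/-- Let n ≥ 5 and let P be an abelian Sylow p-subgroup of the alternating group A_n. Then N(P)/C(P) (taken in A_n) has even order, or P is cyclic, except when n = 5 and p = 2, where P is a four-group and N(P)/C(P) has order 3. -/
theorem result (n : ℕ) (hn : 5 ≤ n) {p : ℕ} [Fact p.Prime]
    (P : Sylow p (alternatingGroup (Fin n))) (hP : IsMulCommutative (P : Subgroup (alternatingGroup (Fin n)))) :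
    (¬ (n = 5 ∧ p = 2) → 2 ∣ ((Subgroup.centralizer ((P : Subgroup (alternatingGroup (Fin n))) : Set (alternatingGroup (Fin n)))).subgroupOf (Subgroup.normalizer ((P : Subgroup (alternatingGroup (Fin n))) : Set (alternatingGroup (Fin n))))).index ∨ IsCyclic (P : Subgroup (alternatingGroup (Fin n)))) ∧
    ((n = 5 ∧ p = 2) → ((Subgroup.centralizer ((P : Subgroup (alternatingGroup (Fin n))) : Set (alternatingGroup (Fin n)))).subgroupOf (Subgroup.normalizer ((P : Subgroup (alternatingGroup (Fin n))) : Set (alternatingGroup (Fin n))))).index = 3 ∧ IsKleinFour (P : Subgroup (alternatingGroup (Fin n)))) := by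
  refine ⟨fun h => ?_, fun ⟨h1, h2⟩ => by subst h1 h2; exact five P hP⟩
  have hp : p.Prime := Fact.out
  by_cases h2 : p = 2
  · subst h2
    obtain ⟨m, rfl⟩ := Nat.exists_eq_add_of_le' (show 6 ≤ n by omega)
    exact absurd hP (not_comm m P)
  have p2 := hp.two_le
  by_cases h3 : p + 2 ≤ n
  · left
    obtain ⟨x, hx⟩ := (exists_with_cycleType_iff (Fin n) (m := {p})).2 (by simp; omega)
    have xA : x ∈ alternatingGroup (Fin n) := by
      rw [mem_alternatingGroup, sign_of_cycleType, hx]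
      exact (Even.neg_one_pow (by simpa using (hp.odd_of_ne_two h2).add_one))
    have o : orderOf (⟨x, xA⟩ : alternatingGroup (Fin n)) = p := by
      rw [← Subgroup.orderOf_coe, ← lcm_cycleType, hx]; simp
    obtain ⟨Q, hQ⟩ := (IsPGroup.of_card (n := 1) (G := zpowers (⟨x, xA⟩ : alternatingGroup (Fin n)))
      (by rw [Nat.card_zpowers, o, pow_one])).exists_le_sylow
    obtain ⟨g, rfl⟩ := MulAction.exists_smul_eq (alternatingGroup (Fin n)) P Q
    have y1 : g⁻¹ * ⟨x, xA⟩ * g ∈ (P : Subgroup _) := by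
      have := hQ (mem_zpowers _)
      rwa [Sylow.coe_subgroup_smul, mem_pointwise_smul_iff_inv_smul_mem, ← map_inv, MulAut.smul_def,
        MulAut.conj_apply, inv_inv] at this
    obtain ⟨k, hk⟩ := isConj_iff.1 (alternatingGroup.isConj_of (σ := ⟨x, xA⟩) (τ := ⟨x, xA⟩⁻¹)
      (isConj_iff_cycleType_eq.2 (cycleType_inv _).symm) (by rw [← sum_cycleType, hx]; simpa using h3))
    have e : (g⁻¹ * k⁻¹ * g)⁻¹ * (g⁻¹ * ⟨x, xA⟩ * g) * (g⁻¹ * k⁻¹ * g) = (g⁻¹ * ⟨x, xA⟩ * g)⁻¹ := by
      rw [mul_inv_rev (g⁻¹ * ⟨x, xA⟩), mul_inv_rev g⁻¹, ← hk]; group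
    obtain ⟨m, m1, m2⟩ := P.conj_eq_normalizer_conj_of_mem _ (g⁻¹ * k⁻¹ * g) y1 (e ▸ inv_mem y1)
    refine even_index m1 y1 (m2.symm.trans e) fun h => h2 ?_
    have : (⟨x, xA⟩ : alternatingGroup (Fin n)) ^ 2 = 1 := by
      rw [inv_eq_iff_mul_eq_one] at h
      calc _ = g * ((g⁻¹ * ⟨x, xA⟩ * g) * (g⁻¹ * ⟨x, xA⟩ * g)) * g⁻¹ := by rw [pow_two]; group
        _ = 1 := by rw [h]; group
    exact (Nat.prime_dvd_prime_iff_eq hp Nat.prime_two).1 (o ▸ orderOf_dvd_of_pow_eq_one this)
  · right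
    obtain ⟨e, he⟩ := IsPGroup.iff_card.1 P.2
    have d := (card_subgroup_dvd_card P.1).trans (card_subgroup_dvd_card (alternatingGroup (Fin n)))
    rw [he, Nat.card_perm, Nat.card_fin, padicValNat_dvd_iff_le (Nat.factorial_ne_zero _)] at d
    have h4 := (Nat.mul_le_mul_left _ d).trans_lt (sub_one_mul_padicValNat_factorial_lt_of_ne_zero p (by omega))
    have : e ≤ 1 := by
      by_contra h5
      have := Nat.mul_le_mul_left (p - 1) (show 2 ≤ e by omega)
      omega
    exact isCyclic_of_card_dvd_prime (p := p) (by rw [he]; exact (pow_dvd_pow p this).trans (by rw [pow_one]))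

end Cfsg.Agent.S2269
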