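import Cfsg.Statements.S2270
import Mathlib

set_option autoImplicit false
open Cfsg

namespace Cfsg.Agent.S2270



/-- Let n ≥ 3, p an odd prime, and P an abelian Sylow p-subgroup of the symmetric group S_n (with p dividing n!, so that P ≠ 1). Then N(P)/C(P) has even order. -/
theorem result (n : ℕ) (hn : 3 ≤ n) {p : ℕ} [Fact p.Prime] (hp : p ≠ 2) (hpn : p ≤ n)
    (P : Sylow p (Equiv.Perm (Fin n))) (hP : IsMulCommutative (P : Subgroup (Equiv.Perm (Fin n)))) :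
    2 ∣ ((Subgroup.centralizer ((P : Subgroup (Equiv.Perm (Fin n))) : Set (Equiv.Perm (Fin n)))).subgroupOf (Subgroup.normalizer ((P : Subgroup (Equiv.Perm (Fin n))) : Set (Equiv.Perm (Fin n))))).index := by
  classical
  have hne : (P : Subgroup (Equiv.Perm (Fin n))) ≠ ⊥ := by
    apply P.ne_bot_of_dvd_card
    rw [Nat.card_perm, Nat.card_eq_fintype_card, Fintype.card_fin]
    exact (Nat.Prime.dvd_factorial Fact.out).2 hpn
  obtain ⟨⟨x, hx⟩, hx1⟩ := Subgroup.ne_bot_iff_exists_ne_one.1 hne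
  obtain ⟨g, hg⟩ := isConj_iff.1 (Equiv.Perm.isConj_of_cycleType_eq (Equiv.Perm.cycleType_inv x).symm)
  obtain ⟨m, hm, hm2⟩ := P.conj_eq_normalizer_conj_of_mem x g⁻¹ hx (by
    rw [inv_inv, hg]; exact Subgroup.inv_mem (P : Subgroup (Equiv.Perm (Fin n))) hx)
  rw [inv_inv, hg] at hm2
  by_contra hodd
  rw [Nat.two_dvd_ne_zero, ← Nat.odd_iff] at hodd
  obtain ⟨k, hk⟩ := hodd
  have h1 := Subgroup.pow_index_mem (H := (Subgroup.centralizer ((P : Subgroup (Equiv.Perm (Fin n))) : Set (Equiv.Perm (Fin n)))).subgroupOf (Subgroup.normalizer ((P : Subgroup (Equiv.Perm (Fin n))) : Set (Equiv.Perm (Fin n))))) ⟨m, hm⟩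
  rw [hk, Subgroup.mem_subgroupOf] at h1
  have h2 : x * m ^ (2 * k + 1) = m ^ (2 * k + 1) * x := h1 x hx
  have h3 : x * m = m * x⁻¹ := by rw [hm2]; group
  have h4 : x⁻¹ * m = m * x := by
    rw [inv_mul_eq_iff_eq_mul, ← mul_assoc, h3]; group
  have h5 : Commute x (m ^ 2) := by
    show x * m ^ 2 = m ^ 2 * x
    rw [sq, ← mul_assoc, h3, mul_assoc, h4, mul_assoc]
  rw [pow_succ, pow_mul, ← mul_assoc, (h5.pow_right k).eq, mul_assoc, mul_assoc, h3,
    mul_right_inj, mul_right_inj, inv_eq_iff_mul_eq_one, ← sq] at h2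
  obtain ⟨j, hj⟩ := P.isPGroup' ⟨x, hx⟩
  have hj' : x ^ p ^ j = 1 := congrArg Subtype.val hj
  have := pow_gcd_eq_one.2 ⟨h2, hj'⟩
  rw [Nat.Coprime.pow_right j ((Nat.coprime_primes Nat.prime_two Fact.out).2 hp.symm), pow_one] at this
  exact hx1 (Subtype.ext this)

end Cfsg.Agent.S2270
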