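import Cfsg.Statements.S2280
import Cfsg.Agent.Lib.Classical.Pres15

set_option autoImplicit false
open Cfsg

namespace Cfsg.Agent.S2280
open Cfsg.Agent.Classical

open Matrix Pres

section
variable {F : Type*} [Field F] {ι : Type*} [DecidableEq ι] [Fintype ι]

def In (K : Subgroup (SpecialLinearGroup ι F)) (i : ι) (φ : ι → F) : Prop :=
  φ i = 0 ∧ ∃ g ∈ K, g.1 = 1 + vecMulVec (Pi.single i 1) φ

variable {K : Subgroup (SpecialLinearGroup ι F)}

theorem vv (a b : ι) (φ ψ : ι → F) :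
    vecMulVec (Pi.single a (1 : F)) φ * vecMulVec (Pi.single b 1) ψ = vecMulVec (Pi.single a 1) (φ b • ψ) := by
  rw [vecMulVec_mul_vecMulVec]
  ext i j; simp [vecMulVec_apply]

theorem In.add {i : ι} {φ ψ : ι → F} (h : In K i φ) (h' : In K i ψ) : In K i (φ + ψ) := by
  obtain ⟨h0, g, hg, e⟩ := h
  obtain ⟨h0', g', hg', e'⟩ := h'
  refine ⟨by simp [h0, h0'], g * g', mul_mem hg hg', ?_⟩
  show g.1 * g'.1 = _
  rw [e, e', mul_add, add_mul, add_mul, vv, h0, vecMulVec_add]
  simp [add_assoc]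

theorem In.zero (i : ι) : In K i 0 := ⟨rfl, 1, one_mem _, by simp⟩

theorem In.smul (hF : ∀ a : F, ∃ m : ℕ, a = m) {i : ι} {φ : ι → F} (h : In K i φ) (a : F) : In K i (a • φ) := by
  obtain ⟨m, rfl⟩ := hF a
  induction m with
  | zero => simpa using In.zero i
  | succ m ih => rw [Nat.cast_succ, add_smul, one_smul]; exact ih.add h

theorem inv_val {g : SpecialLinearGroup ι F} {i : ι} {φ : ι → F} (h0 : φ i = 0)
    (e : g.1 = 1 + vecMulVec (Pi.single i 1) φ) : (g⁻¹).1 = 1 - vecMulVec (Pi.single i 1) φ := by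
  have h1 : g.1 * (1 - vecMulVec (Pi.single i 1) φ) = 1 := by
    rw [e, mul_sub, add_mul, add_mul, vv, h0]; simp
  have h2 : (g⁻¹).1 * g.1 = 1 := congrArg Subtype.val (inv_mul_cancel g)
  calc (g⁻¹).1 = (g⁻¹).1 * (g.1 * (1 - vecMulVec (Pi.single i 1) φ)) := by rw [h1, Matrix.mul_one]
    _ = _ := by rw [← Matrix.mul_assoc, h2, Matrix.one_mul]

theorem In.cr {a b : ι} {φ ψ : ι → F} (h : In K a φ) (h' : In K b ψ) (hab : ψ a = 0) : In K a (φ b • ψ) := by
  obtain ⟨h0, g, hg, e⟩ := h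
  obtain ⟨h0', g', hg', e'⟩ := h'
  refine ⟨by simp [hab], g * g' * g⁻¹ * g'⁻¹, mul_mem (mul_mem (mul_mem hg hg') (inv_mem hg)) (inv_mem hg'), ?_⟩
  show g.1 * g'.1 * (g⁻¹).1 * (g'⁻¹).1 = _
  rw [inv_val h0 e, inv_val h0' e', e, e']
  simp only [mul_add, add_mul, mul_sub, sub_mul, vv, Matrix.mul_one, Matrix.one_mul, h0, h0', hab, zero_smul,
    vecMulVec_zero, Pi.smul_apply, smul_zero, Matrix.zero_mul]
  abel

theorem In.conj {a b : ι} {φ : ι → F} (h : In K a φ) {C : SpecialLinearGroup ι F} (hC : C ∈ K)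
    (e : C.1 *ᵥ Pi.single a 1 = Pi.single b 1) : ∃ ψ, In K b ψ ∧ ψ ᵥ* C.1 = φ := by
  obtain ⟨h0, g, hg, e'⟩ := h
  have h2 : (C⁻¹).1 * C.1 = 1 := congrArg Subtype.val (inv_mul_cancel C)
  have h3 : C.1 * (C⁻¹).1 = 1 := congrArg Subtype.val (mul_inv_cancel C)
  refine ⟨φ ᵥ* (C⁻¹).1, ⟨?_, C * g * C⁻¹, mul_mem (mul_mem hC hg) (inv_mem hC), ?_⟩, by
    rw [vecMul_vecMul, h2, vecMul_one]⟩
  · have : (φ ᵥ* (C⁻¹).1) ⬝ᵥ Pi.single b 1 = 0 := by
      rw [← e, ← dotProduct_mulVec, mulVec_mulVec, h2, one_mulVec]; simp [h0]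
    simpa using this
  · show C.1 * g.1 * (C⁻¹).1 = _
    rw [e', mul_add, add_mul, Matrix.mul_one, h3, mul_vecMulVec, vecMulVec_mul, e]

theorem In_iff {i j : ι} (h : i ≠ j) (a : F) : In K i (Pi.single j a) ↔ Tv F i j a ∈ K := by
  have : (Tv F i j a).1 = 1 + vecMulVec (Pi.single i 1) (Pi.single j a) := by
    rw [Tv_eq h, SpecialLinearGroup.transvection_coe]
    congr 1; ext k l; simp [vecMulVec_apply, single_apply, Pi.single_apply, eq_comm]; grind
  refine ⟨fun ⟨_, g, hg, e⟩ => ?_, fun hK => ⟨by simp [h], _, hK, this⟩⟩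
  rwa [show Tv F i j a = g from Subtype.ext (this.trans e.symm)]

theorem spread (h3 : 3 ≤ Fintype.card ι) (h1 : ∀ k l, k ≠ l → Tv F k l 1 ∈ K) {i j : ι} (hij : i ≠ j) {a : F}
    (h : Tv F i j a ∈ K) {k l : ι} (hkl : k ≠ l) : Tv F k l a ∈ K := by
  have s1 : ∀ {i j k : ι}, i ≠ j → k ≠ j → Tv F i j a ∈ K → Tv F k j a ∈ K := fun {i j k} h h' hK => by
    by_cases e : k = i
    · exact e ▸ hK
    · rw [← one_mul a, ← Tv_cr e h h']
      exact mul_mem (mul_mem (mul_mem (h1 _ _ e) hK) (inv_mem (h1 _ _ e))) (inv_mem hK)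
  have s2 : ∀ {i j l : ι}, i ≠ j → i ≠ l → Tv F i j a ∈ K → Tv F i l a ∈ K := fun {i j l} h h' hK => by
    by_cases e : j = l
    · exact e ▸ hK
    · rw [← mul_one a, ← Tv_cr h e h']
      exact mul_mem (mul_mem (mul_mem hK (h1 _ _ e)) (inv_mem hK)) (inv_mem (h1 _ _ e))
  by_cases e : k = j
  · obtain ⟨t, t1, t2⟩ := third_card h3 i j
    subst e
    exact s2 t2.symm hkl (s1 t1.symm t2.symm (s2 hij t1.symm h))
  · exact s2 e hkl (s1 hij e h)

theorem lemA (hF : ∀ a : F, ∃ m : ℕ, a = m) {m : ℕ} (hm : 1 ≤ m) {K : Subgroup (SpecialLinearGroup (Fin (m + 1)) F)}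
    {C : SpecialLinearGroup (Fin (m + 1)) F} (hC : C ∈ K)
    (e : ∀ k : Fin m, C.1 *ᵥ Pi.single k.castSucc 1 = Pi.single k.succ 1) (ht : Tv F 0 (Fin.last m) 1 ∈ K) : K = ⊤ := by
  have hl : (0 : Fin (m + 1)) ≠ Fin.last m := by simp [Fin.ext_iff]; omega
  have key : ∀ (ψ φ : Fin (m + 1) → F), ψ ᵥ* C.1 = φ → ∀ k : Fin m, ψ k.succ = φ k.castSucc := fun ψ φ h k => by
    have : ψ ⬝ᵥ (C.1 *ᵥ Pi.single k.castSucc 1) = _ := dotProduct_mulVec _ _ _
    rw [e, h] at this; simpa using this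
  have P : ∀ k (hk : k < m), ∃ φ, In K ⟨k + 1, by omega⟩ φ ∧ φ ⟨k, by omega⟩ ≠ 0 ∧ ∀ j : Fin (m + 1), k < j → φ j = 0 := by
    intro k
    induction k with
    | zero =>
      intro hk
      obtain ⟨ψ, h1, h2⟩ := ((In_iff hl 1).2 ht).conj hC (e ⟨0, hk⟩)
      have h3 : ∀ j : Fin (m + 1), 0 < (j : ℕ) → ψ j = 0 := fun j hj => by
        obtain ⟨j, rfl⟩ := Fin.exists_succ_eq.2 (show j ≠ 0 from fun e => by simp [e] at hj)
        rw [key _ _ h2]; simp [Fin.castSucc_ne_last]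
      refine ⟨ψ, h1, fun h0 => ?_, h3⟩
      have : ψ = 0 := funext fun j => by
        by_cases e : j = 0
        · exact e ▸ h0
        · exact h3 j (Nat.pos_of_ne_zero fun e' => e (Fin.ext e'))
      rw [this, zero_vecMul] at h2
      simpa using congrFun h2 (Fin.last m)
    | succ k ih =>
      intro hk
      obtain ⟨φ, h1, h2, h3⟩ := ih (by omega)
      obtain ⟨ψ, h4, h5⟩ := h1.conj hC (e ⟨k + 1, hk⟩)
      refine ⟨ψ, h4, fun h0 => h2 ((key _ _ h5 ⟨k, by omega⟩).symm.trans h0), fun j hj => ?_⟩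
      obtain ⟨j, rfl⟩ := Fin.exists_succ_eq.2 (show j ≠ 0 from fun e => by simp [e] at hj)
      rw [key _ _ h5]; exact h3 _ (by simpa using hj)
  have Q : ∀ k (i j : Fin (m + 1)), (i : ℕ) = k + 1 → j < i → In K i (Pi.single j 1) := by
    intro k
    induction k using Nat.strong_induction_on with
    | _ k ih =>
      intro i j hi hj
      have hk : k < m := by omega
      obtain ⟨φ, h1, h2, h3⟩ := P k hk
      obtain rfl : i = ⟨k + 1, Nat.succ_lt_succ hk⟩ := Fin.ext hi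
      have q1 : ∀ j : Fin (m + 1), (j : ℕ) < k → In K ⟨k + 1, by omega⟩ (Pi.single j 1) := fun j hj => by
        have := (h1.cr (ih (k - 1) (by omega) ⟨k, by omega⟩ j (by simp; omega) hj)
          (Pi.single_eq_of_ne (fun e => by rw [← e] at hj; simp at hj) _)).smul hF (φ ⟨k, by omega⟩)⁻¹
        rwa [smul_smul, inv_mul_cancel₀ h2, one_smul] at this
      by_cases hjk : (j : ℕ) < k
      · exact q1 j hjk
      obtain rfl : j = ⟨k, Nat.lt_succ_of_lt hk⟩ := Fin.ext (by have : (j : ℕ) < k + 1 := hj; simp; omega)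
      have q2 : ∀ s : Finset (Fin (m + 1)), (∀ j ∈ s, (j : ℕ) < k) →
          In K ⟨k + 1, by omega⟩ (∑ j ∈ s, (-φ j) • Pi.single j 1) := fun s hs =>
        Finset.sum_induction _ _ (fun _ _ => In.add) (In.zero _) fun j hj => (q1 j (hs j hj)).smul hF _
      have := (h1.add (q2 (Finset.univ.filter fun j => (j : ℕ) < k) (by simp))).smul hF (φ ⟨k, by omega⟩)⁻¹
      convert this using 1
      ext l
      simp only [Pi.smul_apply, Pi.add_apply, Finset.sum_apply, Pi.single_apply, smul_eq_mul, mul_ite, mul_one,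
        mul_zero, Finset.sum_ite_eq, Finset.mem_filter, Finset.mem_univ, true_and]
      split_ifs with a b b
      · simp [a] at b
      · simp [a, h2]
      · simp
      · rw [h3 l (by have : (l : ℕ) ≠ k := fun e => a (Fin.ext e); omega)]; simp
  have Q' : ∀ i j : Fin (m + 1), j < i → In K i (Pi.single j 1) := fun i j h =>
    Q (i - 1) i j (by have : (j : ℕ) < i := h; omega) h
  have R : ∀ i, i ≠ Fin.last m → In K i (Pi.single (Fin.last m) 1) := fun i hi => by
    by_cases e : i = 0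
    · exact e ▸ (In_iff hl 1).2 ht
    · simpa using (Q' i 0 (Fin.pos_iff_ne_zero.2 e)).cr ((In_iff hl 1).2 ht) (by simp [hi])
  have T : ∀ i j, i ≠ j → In K i (Pi.single j 1) := fun i j hij => by
    by_cases e : j = Fin.last m
    · subst e; exact R i hij
    by_cases e' : i = Fin.last m
    · exact Q' _ _ (e' ▸ Fin.lt_last_iff_ne_last.2 e)
    · simpa using (R i e').cr (Q' _ _ (Fin.lt_last_iff_ne_last.2 e)) (by simp [hij])
  haveI : Nontrivial (Fin (m + 1)) := ⟨_, _, hl⟩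
  rw [eq_top_iff]
  refine fun g _ => Lin.transvection_induction (· ∈ K) (fun i j h a => ?_) (fun _ _ => mul_mem) g
  rw [← Tv_eq h, ← In_iff h]
  simpa [← Pi.single_smul] using (T i j h).smul hF a

def Sh (R : Type*) [CommRing R] (n : ℕ) : Matrix (Fin n) (Fin n) R := of fun i j => if (i : ℕ) = j + 1 then 1 else 0

theorem Sh_pow (R : Type*) [CommRing R] (n k : ℕ) (i j : Fin n) :
    (Sh R n ^ k) i j = if (i : ℕ) = j + k then 1 else 0 := by
  induction k generalizing i with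
  | zero => simp [one_apply, Fin.ext_iff]
  | succ k ih =>
    rw [pow_succ', mul_apply]
    simp only [ih]
    simp only [Sh, of_apply]
    split_ifs with h
    · rw [Finset.sum_eq_single ⟨j + k, by omega⟩ (fun b _ hb => by
        rw [if_neg (show ¬ (b : ℕ) = j + k from fun e => hb (Fin.ext e)), mul_zero]) (by simp)]
      simp [h, add_assoc]
    · exact Finset.sum_eq_zero fun b _ => by split_ifs <;> first | omega | simp

def LL (R : Type*) [CommRing R] (n : ℕ) : SpecialLinearGroup (Fin n) R := ⟨1 + Sh R n, by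
  rw [det_of_lowerTriangular _ (fun i j h => by
    have : (i : ℕ) < j := h
    simp [Sh, one_apply, Fin.ext_iff, this.ne, show (i : ℕ) ≠ j + 1 by omega])]
  simp [Sh]⟩

def PP (R : Type*) [CommRing R] (n : ℕ) : SpecialLinearGroup (Fin n) R := ⟨of fun i j => ((j : ℕ).choose i : R), by
  rw [det_of_upperTriangular (fun i j h => by
    have : (j : ℕ) < i := h
    simp [Nat.choose_eq_zero_of_lt this])]
  simp⟩

theorem comp (R : Type*) [CommRing R] (m : ℕ) (k : Fin m) :
    ((PP R (m + 1))⁻¹ * LL R (m + 1) * PP R (m + 1)).1 *ᵥ Pi.single k.castSucc 1 = Pi.single k.succ 1 := by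
  have h2 : ((PP R (m + 1))⁻¹).1 * (PP R (m + 1)).1 = 1 := congrArg Subtype.val (inv_mul_cancel (PP R (m + 1)))
  have : (LL R (m + 1)).1 *ᵥ ((PP R (m + 1)).1 *ᵥ Pi.single k.castSucc 1) = (PP R (m + 1)).1 *ᵥ Pi.single k.succ 1 := by
    ext i
    show ((1 + Sh R (m + 1)) *ᵥ _) i = _
    rw [add_mulVec, one_mulVec, mulVec_single_one, mulVec_single_one]
    simp only [Pi.add_apply, mulVec, dotProduct, PP, Sh, of_apply, col_apply, Fin.val_succ,
      Fin.val_castSucc]
    induction i using Fin.cases with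
    | zero => simp
    | succ i =>
      rw [Finset.sum_eq_single i.castSucc (fun b _ hb => by
        rw [if_neg (fun e => hb (Fin.ext (by simpa using e.symm))), zero_mul]) (by simp)]
      simp [Nat.choose_succ_succ', add_comm]
  show (((PP R (m + 1))⁻¹).1 * (LL R (m + 1)).1 * (PP R (m + 1)).1) *ᵥ _ = _
  rw [← mulVec_mulVec, ← mulVec_mulVec, this, mulVec_mulVec, h2, one_mulVec]

theorem conjL {m : ℕ} (hm : 2 ≤ m) (a : F) :
    Tv F (Fin.last m) ⟨1, by omega⟩ a * LL F (m + 1) * (Tv F (Fin.last m) ⟨1, by omega⟩ a)⁻¹ =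
      LL F (m + 1) * Tv F (Fin.last m) 0 a := by
  have h1 : Fin.last m ≠ ⟨1, by omega⟩ := by simp [Fin.ext_iff]; omega
  have h0 : Fin.last m ≠ 0 := by simp [Fin.ext_iff]; omega
  rw [mul_inv_eq_iff_eq_mul, Tv_eq h1, Tv_eq h0]
  apply Subtype.ext
  show (1 + single _ _ a) * (1 + Sh F _) = (1 + Sh F _) * (1 + single _ _ a) * (1 + single _ _ a)
  have e1 : ∀ j, Sh F (m + 1) * single (Fin.last m) j a = (0 : Matrix _ (Fin (m + 1)) F) := fun j => by
    ext k l
    by_cases h : l = j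
    · subst h; simp [Sh]; omega
    · simp [h]
  have e2 : single (Fin.last m) ⟨1, by omega⟩ a * Sh F (m + 1) = single (Fin.last m) 0 a := by
    ext k l
    by_cases h : k = Fin.last m
    · subst h
      rw [single_mul_apply_same]
      by_cases h' : l = 0
      · subst h'; simp [Sh]
      · have : (l : ℕ) ≠ 0 := fun e => h' (Fin.ext e)
        simp [Sh, this, Ne.symm h']
    · simp [h, Ne.symm h]
  simp only [mul_add, add_mul, Matrix.mul_one, Matrix.one_mul, e1, e2, single_mul_single_of_ne _ _ _ _ h0.symm,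
    Matrix.zero_mul]
  abel

theorem conjW {i j : ι} (h : i ≠ j) (a : F) :
    (Tv F i j 1 * Tv F j i (-1) * Tv F i j 1) * Tv F j i a * (Tv F i j 1 * Tv F j i (-1) * Tv F i j 1)⁻¹ =
      Tv F i j (-a) := by
  rw [mul_inv_eq_iff_eq_mul]
  simp only [Tv_eq h, Tv_eq h.symm]
  apply Subtype.ext
  simp [SpecialLinearGroup.transvection_coe, mul_add, add_mul, h.symm, h]
  ext k l
  simp only [Matrix.add_apply, single_apply]
  grind

theorem map_Tv {k : Type*} [Field k] (f : k →+* F) {i j : ι} (h : i ≠ j) (a : k) :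
    SpecialLinearGroup.map f (Tv k i j a) = Tv F i j (f a) := by
  rw [Tv_eq h, Tv_eq h]
  apply Subtype.ext
  show (1 + single i j a).map f = 1 + single i j (f a)
  ext k l; simp [one_apply, single_apply, apply_ite f]

end

/-- Let F be a finite field and n ≥ 3. Then SL_n(F) is generated by three conjugate regular unipotent elements: there are u with u − 1 nilpotent and (u − 1)^(n−1) ≠ 0, and g, h, such that u, g u g⁻¹ and h u h⁻¹ generate SL_n(F). -/
theorem result {F : Type*} [Field F] [Fintype F] (n : ℕ) (hn : 3 ≤ n) :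
    ∃ u g h : Matrix.SpecialLinearGroup (Fin n) F, (IsNilpotent ((u : Matrix (Fin n) (Fin n) F) - 1) ∧ ((u : Matrix (Fin n) (Fin n) F) - 1) ^ (n - 1) ≠ 0) ∧
      Subgroup.closure ({u, g * u * g⁻¹, h * u * h⁻¹} : Set (Matrix.SpecialLinearGroup (Fin n) F)) = ⊤ := by
  obtain ⟨m, rfl⟩ : ∃ m, n = m + 1 := ⟨n - 1, by omega⟩
  have hm : 2 ≤ m := by omega
  have hl : (0 : Fin (m + 1)) ≠ Fin.last m := by simp [Fin.ext_iff]; omega
  obtain ⟨p, hp⟩ := CharP.exists F
  haveI : Fact p.Prime := ⟨CharP.char_is_prime F p⟩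
  obtain ⟨ω, hω⟩ := IsCyclic.exists_monoid_generator (α := Fˣ)
  let f := ZMod.castHom (dvd_refl p) F
  set W := Tv F 0 (Fin.last m) 1 * Tv F (Fin.last m) 0 (-1) * Tv F 0 (Fin.last m) 1 with hW
  let y := fun a : F => Tv F (Fin.last m) ⟨1, by omega⟩ a
  set L := LL F (m + 1)
  set P := PP F (m + 1)
  refine ⟨L, P * W * y ω, P * W * y (ω + 1), ⟨⟨m + 1, ?_⟩, fun h => ?_⟩, ?_⟩
  · show (1 + Sh F _ - 1) ^ _ = 0
    ext i j; rw [add_sub_cancel_left, Sh_pow, if_neg (by omega)]; rfl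
  · have : ((1 + Sh F (m + 1) - 1) ^ m) (Fin.last m) 0 = 0 := congrFun (congrFun h _) _
    rw [add_sub_cancel_left, Sh_pow] at this; simp at this
  set G : Subgroup (SpecialLinearGroup (Fin (m + 1)) F) := Subgroup.closure _ with hG
  let K := G.comap (MulAut.conj P).toMonoidHom
  have e : ∀ a, P * W * y a * L * (P * W * y a)⁻¹ = P * (W * (L * Tv F (Fin.last m) 0 a) * W⁻¹) * P⁻¹ := fun a => by
    rw [← conjL hm]; simp only [y, L]; group
  have m1 : P⁻¹ * L * P ∈ K := by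
    show P * _ * P⁻¹ ∈ G
    rw [show P * (P⁻¹ * L * P) * P⁻¹ = L by group]; exact Subgroup.subset_closure (by simp)
  have m2 : W * (L * Tv F (Fin.last m) 0 ω) * W⁻¹ ∈ K := by
    show P * _ * P⁻¹ ∈ G
    rw [← e]; exact Subgroup.subset_closure (by simp)
  have m3 : W * (L * Tv F (Fin.last m) 0 (ω + 1)) * W⁻¹ ∈ K := by
    show P * _ * P⁻¹ ∈ G
    rw [← e]; exact Subgroup.subset_closure (by simp)
  have m4 : Tv F 0 (Fin.last m) 1 ∈ K := by
    have := mul_mem (inv_mem m3) m2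
    rw [Tv_ad hl.symm] at this
    have e2 := conjW hl (-1 : F)
    rw [neg_neg, (Tv_ad hl.symm).neg 1] at e2
    rw [← e2]
    convert this using 1
    rw [hW, (Tv_ad hl.symm).neg 1]; group
  have hH : K.comap (SpecialLinearGroup.map f) = ⊤ := by
    refine lemA (fun a => ⟨a.val, (ZMod.natCast_zmod_val a).symm⟩) (by omega) (C := _) ?_ (comp _ m) ?_
    · have a1 : SpecialLinearGroup.map f (LL _ (m + 1)) = L := Subtype.ext (by
        show (1 + Sh (ZMod p) (m + 1)).map f = 1 + Sh F (m + 1)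
        ext i j; simp [Sh, one_apply, apply_ite f])
      have a2 : SpecialLinearGroup.map f (PP _ (m + 1)) = P := Subtype.ext (by
        show (of _).map f = of _
        ext i j; simp)
      rw [Subgroup.mem_comap, map_mul, map_mul, map_inv, a1, a2]; exact m1
    · rw [Subgroup.mem_comap, map_Tv f hl, map_one]; exact m4
  have mem : ∀ x, SpecialLinearGroup.map f x ∈ K := fun x => (hH ▸ Subgroup.mem_top x : x ∈ K.comap _)
  have t1 : ∀ i j, i ≠ j → Tv F i j 1 ∈ K := fun i j h => by simpa [map_Tv f h] using mem (Tv _ i j 1)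
  have hWK : W ∈ K := mul_mem (mul_mem (t1 _ _ hl) (by rw [(Tv_ad hl.symm).neg]; exact inv_mem (t1 _ _ hl.symm)))
    (t1 _ _ hl)
  have hL : L ∈ K := by
    have := mem (LL _ (m + 1))
    rwa [show SpecialLinearGroup.map f (LL _ (m + 1)) = L from Subtype.ext (by
        show (1 + Sh (ZMod p) (m + 1)).map f = 1 + Sh F (m + 1)
        ext i j; simp [Sh, one_apply, apply_ite f])] at this
  have t2 : Tv F (Fin.last m) 0 (ω : F) ∈ K := by
    simpa [mul_assoc] using mul_mem (inv_mem hL) (mul_mem (mul_mem (inv_mem hWK) m2) hWK)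
  have h3 : 3 ≤ Fintype.card (Fin (m + 1)) := by simpa using hn
  have t3 : ∀ r : ℕ, ∀ i j, i ≠ j → Tv F i j ((ω : F) ^ r) ∈ K := fun r => by
    induction r with
    | zero => simpa using t1
    | succ r ih =>
      intro i j h
      obtain ⟨t, a, b⟩ := third_card h3 i j
      have c := spread h3 t1 hl.symm t2 b
      rw [pow_succ, ← Tv_cr a.symm b h]
      exact mul_mem (mul_mem (mul_mem (ih _ _ a.symm) c) (inv_mem (ih _ _ a.symm))) (inv_mem c)
  haveI : Nontrivial (Fin (m + 1)) := ⟨_, _, hl⟩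
  have hK : ∀ g, g ∈ K := fun g => by
    refine Lin.transvection_induction (· ∈ K) (fun i j h a => ?_) (fun _ _ => mul_mem) g
    rw [← Tv_eq h]
    by_cases ha : a = 0
    · rw [ha, (Tv_ad h).zero]; exact one_mem _
    obtain ⟨r, hr⟩ := hω (Units.mk0 a ha)
    have : (ω : F) ^ r = a := by simpa using congrArg Units.val hr
    exact this ▸ t3 r i j h
  rw [eq_top_iff]
  intro g _
  have : P * (P⁻¹ * g * P) * P⁻¹ ∈ G := hK _
  simpa [mul_assoc] using this

end Cfsg.Agent.S2280
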