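import Cfsg.Statements.S2284
import Cfsg.Agent.Lib.Classical.Pres6

set_option autoImplicit false
open Cfsg

namespace Cfsg.Agent.S2284
open Cfsg.Agent.Classical


/-- For every n, the symmetric group S_n and the alternating group A_n each have a presentation with 2 generators and at most 8 relations. -/
theorem result (n : ℕ) : (∃ rels : Finset (FreeGroup (Fin 2)), rels.card ≤ 8 ∧ Nonempty (PresentedGroup (↑rels : Set (FreeGroup (Fin 2))) ≃* Equiv.Perm (Fin n))) ∧ (∃ rels : Finset (FreeGroup (Fin 2)), rels.card ≤ 8 ∧ Nonempty (PresentedGroup (↑rels : Set (FreeGroup (Fin 2))) ≃* ↥(alternatingGroup (Fin n)))) := by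
  have key : ∀ {G : Type} [Group G] {r : ℕ}, r ≤ 8 → (∃ x : Fin 2 → G, Pres.HasPres x r) →
      ∃ rels : Finset (FreeGroup (Fin 2)), rels.card ≤ 8 ∧
        Nonempty (PresentedGroup (↑rels : Set (FreeGroup (Fin 2))) ≃* G) := by
    rintro G _ r hr ⟨x, R, h1, e, -⟩
    exact ⟨R, h1.trans hr, ⟨e⟩⟩
  haveI : Fact (Nat.Prime 3) := ⟨by norm_num⟩
  by_cases hn : 5 ≤ n
  · exact ⟨key le_rfl (Pres.good_sym' hn).two, key le_rfl (Pres.good_alt' hn).two⟩
  have hn' : n ≤ 4 := by omega
  constructor
  · interval_cases n
    · haveI : IsCyclic (Equiv.Perm (Fin 0)) := isCyclic_of_card_dvd_prime (p := 2) (by simp)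
      exact key (by decide) Pres.pres_cyclic
    · haveI : IsCyclic (Equiv.Perm (Fin 1)) := isCyclic_of_card_dvd_prime (p := 2) (by simp)
      exact key (by decide) Pres.pres_cyclic
    · haveI : IsCyclic (Equiv.Perm (Fin 2)) := isCyclic_of_card_dvd_prime (p := 2) (by simp [Fintype.card_perm])
      exact key (by decide) Pres.pres_cyclic
    · exact key (by decide) Pres.pres_S3
    · exact key (by decide) Pres.pres_S4
  · interval_cases n
    · haveI : IsCyclic (alternatingGroup (Fin 0)) := isCyclic_of_subsingleton
      exact key (by decide) Pres.pres_cyclic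
    · haveI : IsCyclic (alternatingGroup (Fin 1)) := isCyclic_of_subsingleton
      exact key (by decide) Pres.pres_cyclic
    · haveI : IsCyclic (alternatingGroup (Fin 2)) := isCyclic_of_card_dvd_prime (p := 2) (by
        rw [nat_card_alternatingGroup]; simp)
      exact key (by decide) Pres.pres_cyclic
    · haveI : IsCyclic (alternatingGroup (Fin 3)) := isCyclic_of_card_dvd_prime (p := 3) (by
        rw [nat_card_alternatingGroup]; simp [Nat.factorial])
      exact key (by decide) Pres.pres_cyclic
    · exact key (by decide) Pres.pres_A4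

end Cfsg.Agent.S2284
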