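import Cfsg.Statements.S2288
import Cfsg.Agent.Lib.Classical.Pres14

set_option autoImplicit false
open Cfsg

namespace Cfsg.Agent.S2288
open Cfsg.Agent.Classical


/-- For every finite field F and n ≥ 4: SL_n(F) has a presentation with 7 generators and at most 25 relations, and PSL_n(F) one with 7 generators and at most 26 relations; moreover SL_4(F) has one with 6 generators and at most 21 relations and SL_5(F) one with 6 generators and at most 22 relations. -/
theorem result {F : Type*} [Field F] [Fintype F] (n : ℕ) (hn : 4 ≤ n) :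
    (∃ rels : Finset (FreeGroup (Fin 7)), rels.card ≤ 25 ∧ Nonempty (PresentedGroup (↑rels : Set (FreeGroup (Fin 7))) ≃* Matrix.SpecialLinearGroup (Fin n) F)) ∧ (∃ rels : Finset (FreeGroup (Fin 7)), rels.card ≤ 26 ∧ Nonempty (PresentedGroup (↑rels : Set (FreeGroup (Fin 7))) ≃* Matrix.ProjectiveSpecialLinearGroup (Fin n) F)) ∧
    (∃ rels : Finset (FreeGroup (Fin 6)), rels.card ≤ 21 ∧ Nonempty (PresentedGroup (↑rels : Set (FreeGroup (Fin 6))) ≃* Matrix.SpecialLinearGroup (Fin 4) F)) ∧ (∃ rels : Finset (FreeGroup (Fin 6)), rels.card ≤ 22 ∧ Nonempty (PresentedGroup (↑rels : Set (FreeGroup (Fin 6))) ≃* Matrix.SpecialLinearGroup (Fin 5) F)) := by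
  haveI : Nonempty (Fin n) := ⟨⟨0, by omega⟩⟩
  haveI := Pres.cyclic_center_SL (ι := Fin n) (F := F)
  obtain ⟨x4, h4⟩ := Pres.sl4_pres (F := F)
  obtain ⟨x5, h5⟩ := Pres.sln_pres (F := F) (le_refl 5)
  obtain ⟨x, hx⟩ : ∃ x : Fin 7 → Matrix.SpecialLinearGroup (Fin n) F, Pres.HasPres x 25 := by
    rcases hn.eq_or_lt with rfl | hn
    · obtain ⟨y, hy⟩ := h4.fin 3
      exact ⟨y, hy.mono (by norm_num)⟩
    · obtain ⟨x, hx⟩ := Pres.sln_pres (F := F) (n := n) hn
      obtain ⟨y, hy⟩ := hx.fin 2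
      exact ⟨y, hy.mono (by norm_num)⟩
  obtain ⟨y, hy⟩ := hx.quot_cyc (Subgroup.center _)
  obtain ⟨y4, k4⟩ := h4.fin 2
  obtain ⟨y5, k5⟩ := h5.fin 1
  exact ⟨hx.out, hy.out, (k4.mono (by norm_num)).out, k5.out⟩

end Cfsg.Agent.S2288
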