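import Cfsg.Statements.S2290
import Cfsg.Agent.Lib.Classical.Pres15

set_option autoImplicit false
open Cfsg

namespace Cfsg.Agent.S2290
open Cfsg.Agent.Classical


/-- For every finite field F with q elements and n ≥ 2, with q ≥ 4 when n = 2, the simple group PSL_n(F) has a presentation with 2 generators and at most 80 relations. -/
theorem result {F : Type*} [Field F] [Fintype F] (n : ℕ) (hn : 2 ≤ n) (h2 : n = 2 → 4 ≤ Fintype.card F) :
    ∃ rels : Finset (FreeGroup (Fin 2)), rels.card ≤ 80 ∧ Nonempty (PresentedGroup (↑rels : Set (FreeGroup (Fin 2))) ≃* Matrix.ProjectiveSpecialLinearGroup (Fin n) F) := by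
  obtain ⟨n, rfl⟩ : ∃ m, n = m + 1 := ⟨n - 1, by omega⟩
  haveI := Pres.cyclic_center_SL (ι := Fin (n + 1)) (F := F)
  obtain ⟨D, hD⟩ := Pres.two_gen_SL (F := F) (n := n) (by omega)
  have key : ∀ {κ : Type} [Nonempty κ] {r : ℕ}, r ≤ 77 →
      (∃ x : κ → Matrix.SpecialLinearGroup (Fin (n + 1)) F, Pres.HasPres x r) →
      ∃ rels : Finset (FreeGroup (Fin 2)), rels.card ≤ 80 ∧ Nonempty (PresentedGroup (↑rels : Set (FreeGroup (Fin 2))) ≃*
        Matrix.ProjectiveSpecialLinearGroup (Fin (n + 1)) F) := by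
    rintro κ _ r hr ⟨x, hx⟩
    obtain ⟨y, hy⟩ := hx.quot_cyc (Subgroup.center _)
    obtain ⟨z, hz⟩ := hy.two_of _ (QuotientGroup.mk'_surjective _) hD
    exact (hz.mono (by omega)).out
  rcases n with _ | _ | _ | _ | n
  · omega
  · exact key (by norm_num) (Pres.sl2_pres9 (MonoidHom.id _) (by simp) Function.surjective_id)
  · exact key (by norm_num) Pres.sl3_pres
  · exact key (by norm_num) Pres.sl4_pres
  · exact key (by norm_num) (Pres.sln_pres (by omega))

end Cfsg.Agent.S2290
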