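import Cfsg.Statements.S2298
import Mathlib
import Cfsg.Agent.Lib.Perm.GL2e

set_option autoImplicit false
open Cfsg

namespace Cfsg.Agent.S2298

open Cfsg.Agent.Perm.GL2

/-- Over a finite field F with q elements, every irreducible complex character of GL₂ has degree 1, q − 1, q or q + 1; and when q ≥ 3 (so that these four numbers are distinct) there are exactly q − 1 irreducible characters of degree 1, exactly q − 1 of degree q, exactly (q − 1)(q − 2)/2 of degree q + 1 and exactly q(q − 1)/2 of degree q − 1. -/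
theorem result {F : Type*} [Field F] [Fintype F] :
    (∀ χ : Matrix.GeneralLinearGroup (Fin 2) F → ℂ, Cfsg.IsIrrCharacter (Matrix.GeneralLinearGroup (Fin 2) F) χ →
      χ 1 = 1 ∨ χ 1 = (Fintype.card F : ℂ) - 1 ∨ χ 1 = (Fintype.card F : ℂ) ∨ χ 1 = (Fintype.card F : ℂ) + 1) ∧
    (3 ≤ Fintype.card F →
      Nat.card {χ : Cfsg.IrrCharacter (Matrix.GeneralLinearGroup (Fin 2) F) // (χ : Matrix.GeneralLinearGroup (Fin 2) F → ℂ) 1 = 1} = Fintype.card F - 1 ∧
      Nat.card {χ : Cfsg.IrrCharacter (Matrix.GeneralLinearGroup (Fin 2) F) // (χ : Matrix.GeneralLinearGroup (Fin 2) F → ℂ) 1 = (Fintype.card F : ℂ)} = Fintype.card F - 1 ∧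
      Nat.card {χ : Cfsg.IrrCharacter (Matrix.GeneralLinearGroup (Fin 2) F) // (χ : Matrix.GeneralLinearGroup (Fin 2) F → ℂ) 1 = (Fintype.card F : ℂ) + 1} = (Fintype.card F - 1) * (Fintype.card F - 2) / 2 ∧
      Nat.card {χ : Cfsg.IrrCharacter (Matrix.GeneralLinearGroup (Fin 2) F) // (χ : Matrix.GeneralLinearGroup (Fin 2) F → ℂ) 1 = (Fintype.card F : ℂ) - 1} = Fintype.card F * (Fintype.card F - 1) / 2) := by
  classical
  obtain ⟨e, he⟩ := exists_ell (F := F)
  obtain ⟨q1, q2, q3, q4, q5⟩ := q_facts (F := F)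
  constructor
  · intro χ h
    rcases irr_GL2 he h with ⟨α, rfl⟩ | ⟨α, rfl⟩ | ⟨α, β, h', rfl⟩ | ⟨θ, h', rfl⟩ <;>
      simp [UC_one, VC_one, WC_one, XC_one he]
  · intro hq
    have q6 : (Fintype.card F : ℂ) - 1 ≠ 1 := by
      rw [Ne, sub_eq_iff_eq_add]
      exact_mod_cast (by omega : Fintype.card F ≠ 1 + 1)
    have key : ∀ (d : ℂ) (S : Set (Matrix.GeneralLinearGroup (Fin 2) F → ℂ)),
        (∀ χ ∈ S, IsIrrCharacter _ χ ∧ χ 1 = d) →
        (∀ α, 1 = d → UC α ∈ S) → (∀ α, Fintype.card F = d → VC α ∈ S) →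
        (∀ χ ∈ famW F, Fintype.card F + 1 = d → χ ∈ S) →
        (∀ χ ∈ famX he, Fintype.card F - 1 = d → χ ∈ S) →
        Nat.card {χ : IrrCharacter (Matrix.GeneralLinearGroup (Fin 2) F) //
          (χ : Matrix.GeneralLinearGroup (Fin 2) F → ℂ) 1 = d} = S.ncard := by
      intro d S h1 h2 h3 h4 h5
      rw [card_irr_subtype (fun χ => χ 1 = d)]
      congr 1
      ext χ
      refine ⟨fun ⟨h, hd⟩ => ?_, h1 χ⟩
      rcases irr_GL2 he h with ⟨α, rfl⟩ | ⟨α, rfl⟩ | ⟨α, β, h', rfl⟩ | ⟨θ, h', rfl⟩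
      · exact h2 α (by rwa [UC_one] at hd)
      · exact h3 α (by rwa [VC_one] at hd)
      · exact h4 _ ⟨(α, β), h', rfl⟩ (by rwa [WC_one] at hd)
      · exact h5 _ ⟨θ, h', rfl⟩ (by rwa [XC_one he] at hd)
    refine ⟨?_, ?_, ?_, ?_⟩
    · rw [key 1 (Set.range UC), ncard_famU]
      · rintro _ ⟨α, rfl⟩; exact ⟨isIrr_UC α, UC_one α⟩
      all_goals simp_all
    · rw [key _ (Set.range VC), ncard_famV]
      · rintro _ ⟨α, rfl⟩; exact ⟨isIrr_VC α, VC_one α⟩
      · exact fun _ h => (q1 h.symm).elim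
      all_goals simp_all
    · rw [key _ (famW F), ← ncard_famW, Nat.mul_div_cancel_left _ two_pos]
      · rintro _ ⟨α, h, rfl⟩; exact ⟨isIrr_WC h, WC_one _ _⟩
      · exact fun _ h => (q2 h.symm).elim
      · exact fun _ h => (q3 h.symm).elim
      all_goals simp_all
    · rw [key _ (famX he), ← ncard_famX he, Nat.mul_div_cancel_left _ two_pos]
      · rintro _ ⟨α, h, rfl⟩; exact ⟨isIrr_XC he h, XC_one he _⟩
      · exact fun _ h => (q6 h.symm).elim
      · exact fun _ h => (q4 h.symm).elim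
      · exact fun _ _ h => (q5 h.symm).elim
      · exact fun _ h _ => h

end Cfsg.Agent.S2298
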