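import Cfsg.Statements.S2299
import Mathlib
import Cfsg.Agent.Lib.Perm.GL2g

set_option autoImplicit false
open Cfsg

namespace Cfsg.Agent.S2299

open Cfsg.Agent.Perm.GL2

/-- Over a finite field F with q elements, q odd, every irreducible complex character of SL₂ has degree 1, q, q + 1, q − 1, (q + 1)/2 or (q − 1)/2; and when q ≥ 5 (so that these six numbers are distinct) there are exactly one irreducible character of degree 1, one of degree q, (q − 3)/2 of degree q + 1, (q − 1)/2 of degree q − 1, two of degree (q + 1)/2 and two of degree (q − 1)/2. -/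
theorem result {F : Type*} [Field F] [Fintype F] (hodd : Odd (Fintype.card F)) :
    (∀ χ : Matrix.SpecialLinearGroup (Fin 2) F → ℂ, Cfsg.IsIrrCharacter (Matrix.SpecialLinearGroup (Fin 2) F) χ →
      χ 1 = 1 ∨ χ 1 = (Fintype.card F : ℂ) ∨ χ 1 = (Fintype.card F : ℂ) + 1 ∨ χ 1 = (Fintype.card F : ℂ) - 1 ∨
        χ 1 = (((Fintype.card F + 1) / 2 : ℕ) : ℂ) ∨ χ 1 = (((Fintype.card F - 1) / 2 : ℕ) : ℂ)) ∧
    (5 ≤ Fintype.card F →
      Nat.card {χ : Cfsg.IrrCharacter (Matrix.SpecialLinearGroup (Fin 2) F) // (χ : Matrix.SpecialLinearGroup (Fin 2) F → ℂ) 1 = 1} = 1 ∧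
      Nat.card {χ : Cfsg.IrrCharacter (Matrix.SpecialLinearGroup (Fin 2) F) // (χ : Matrix.SpecialLinearGroup (Fin 2) F → ℂ) 1 = (Fintype.card F : ℂ)} = 1 ∧
      Nat.card {χ : Cfsg.IrrCharacter (Matrix.SpecialLinearGroup (Fin 2) F) // (χ : Matrix.SpecialLinearGroup (Fin 2) F → ℂ) 1 = (Fintype.card F : ℂ) + 1} = (Fintype.card F - 3) / 2 ∧
      Nat.card {χ : Cfsg.IrrCharacter (Matrix.SpecialLinearGroup (Fin 2) F) // (χ : Matrix.SpecialLinearGroup (Fin 2) F → ℂ) 1 = (Fintype.card F : ℂ) - 1} = (Fintype.card F - 1) / 2 ∧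
      Nat.card {χ : Cfsg.IrrCharacter (Matrix.SpecialLinearGroup (Fin 2) F) // (χ : Matrix.SpecialLinearGroup (Fin 2) F → ℂ) 1 = (((Fintype.card F + 1) / 2 : ℕ) : ℂ)} = 2 ∧
      Nat.card {χ : Cfsg.IrrCharacter (Matrix.SpecialLinearGroup (Fin 2) F) // (χ : Matrix.SpecialLinearGroup (Fin 2) F → ℂ) 1 = (((Fintype.card F - 1) / 2 : ℕ) : ℂ)} = 2) := by
  classical
  obtain ⟨e, he⟩ := exists_ell (F := F)
  rw [cast_half_add hodd, cast_half_sub hodd]
  refine ⟨fun χ hχ => ?_, fun hq => ?_⟩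
  · rcases irr_SL2 he hχ with h | h | h | h | h | h
    · simp [h]
    · simp [h, StS_one]
    · simp [(famWS_irr h).2]
    · simp [(famXS_irr h).2]
    · simp [(halfW_irr h).2.1]
    · simp [(halfX_irr h).2.1]
  · obtain ⟨h1, h2, h3, h4, h5, h6⟩ := irr_sets he (by omega)
    refine ⟨?_, ?_, ?_, ?_, ?_, ?_⟩
    · rw [card_irr_subtype (fun χ => χ 1 = _), h1, Set.ncard_singleton]
    · rw [card_irr_subtype (fun χ => χ 1 = _), h2, Set.ncard_singleton]
    · rw [card_irr_subtype (fun χ => χ 1 = _), h3, ncard_famWS_odd hodd]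
    · rw [card_irr_subtype (fun χ => χ 1 = _), h4, ncard_famXS_odd he hodd]
    · rw [card_irr_subtype (fun χ => χ 1 = _), h5, ncard_halfW hodd]
    · rw [card_irr_subtype (fun χ => χ 1 = _), h6, ncard_halfX he hodd]

end Cfsg.Agent.S2299
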