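import Cfsg.Statements.S2300
import Mathlib
import Cfsg.Agent.Lib.Perm.GL2g

set_option autoImplicit false
open Cfsg

namespace Cfsg.Agent.S2300

open Cfsg.Agent.Perm.GL2

/-- Over a finite field F with q elements, q even, every irreducible complex character of SL₂ has degree 1, q − 1, q or q + 1; and when q ≥ 4 (so that these four numbers are distinct) there are exactly one irreducible character of degree 1, one of degree q, (q − 2)/2 of degree q + 1 and q/2 of degree q − 1. -/
theorem result {F : Type*} [Field F] [Fintype F] [CharP F 2] :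
    (∀ χ : Matrix.SpecialLinearGroup (Fin 2) F → ℂ, Cfsg.IsIrrCharacter (Matrix.SpecialLinearGroup (Fin 2) F) χ →
      χ 1 = 1 ∨ χ 1 = (Fintype.card F : ℂ) - 1 ∨ χ 1 = (Fintype.card F : ℂ) ∨ χ 1 = (Fintype.card F : ℂ) + 1) ∧
    (4 ≤ Fintype.card F →
      Nat.card {χ : Cfsg.IrrCharacter (Matrix.SpecialLinearGroup (Fin 2) F) // (χ : Matrix.SpecialLinearGroup (Fin 2) F → ℂ) 1 = 1} = 1 ∧
      Nat.card {χ : Cfsg.IrrCharacter (Matrix.SpecialLinearGroup (Fin 2) F) // (χ : Matrix.SpecialLinearGroup (Fin 2) F → ℂ) 1 = (Fintype.card F : ℂ)} = 1 ∧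
      Nat.card {χ : Cfsg.IrrCharacter (Matrix.SpecialLinearGroup (Fin 2) F) // (χ : Matrix.SpecialLinearGroup (Fin 2) F → ℂ) 1 = (Fintype.card F : ℂ) + 1} = (Fintype.card F - 2) / 2 ∧
      Nat.card {χ : Cfsg.IrrCharacter (Matrix.SpecialLinearGroup (Fin 2) F) // (χ : Matrix.SpecialLinearGroup (Fin 2) F → ℂ) 1 = (Fintype.card F : ℂ) - 1} = Fintype.card F / 2) := by
  classical
  obtain ⟨e, he⟩ := exists_ell (F := F)
  have h2 : (2 : F) = 0 := CharTwo.two_eq_zero
  have hev : Even (Fintype.card F) :=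
    Nat.even_iff.2 (FiniteField.even_card_iff_char_two.1 (ringChar_eq_two h2))
  refine ⟨fun χ hχ => ?_, fun hq => ?_⟩
  · rcases irr_SL2 he hχ with h | h | h | h | h | h
    · simp [h]
    · simp [h, StS_one]
    · simp [(famWS_irr h).2]
    · simp [(famXS_irr h).2]
    · exact ((halfW_irr h).2.2 h2).elim
    · exact ((halfX_irr h).2.2 h2).elim
  · obtain ⟨h1, h2, h3, h4, h5, h6⟩ := irr_sets he hq
    refine ⟨?_, ?_, ?_, ?_⟩
    · rw [card_irr_subtype (fun χ => χ 1 = _), h1, Set.ncard_singleton]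
    · rw [card_irr_subtype (fun χ => χ 1 = _), h2, Set.ncard_singleton]
    · rw [card_irr_subtype (fun χ => χ 1 = _), h3, ncard_famWS_even hev]
    · rw [card_irr_subtype (fun χ => χ 1 = _), h4, ncard_famXS_even he hev]

end Cfsg.Agent.S2300
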