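import Cfsg.Statements.S2301
import Mathlib
import Cfsg.Agent.Lib.Perm.GL2h

set_option autoImplicit false
open Cfsg

namespace Cfsg.Agent.S2301

open Cfsg.Agent.Perm.GL2

/-- Over a finite field with q elements of odd characteristic p, the elements of order p of SL₂ (the non-identity unipotent elements) fall into exactly two conjugacy classes, each of size (q² − 1)/2; two upper unitriangular matrices with non-zero off-diagonal entries b and b′ are conjugate exactly when bb′ is a square. -/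
theorem result {F : Type*} [Field F] [Fintype F] (p : ℕ) [Fact p.Prime] [CharP F p] (hp : p ≠ 2) :
    Nat.card {C : ConjClasses (Matrix.SpecialLinearGroup (Fin 2) F) // ∃ g : Matrix.SpecialLinearGroup (Fin 2) F, orderOf g = p ∧ ConjClasses.mk g = C} = 2 ∧
    (∀ g : Matrix.SpecialLinearGroup (Fin 2) F, orderOf g = p → Nat.card (ConjClasses.mk g).carrier = (Fintype.card F ^ 2 - 1) / 2) ∧
    ∀ g h : Matrix.SpecialLinearGroup (Fin 2) F, (g : Matrix (Fin 2) (Fin 2) F) 0 0 = 1 → (g : Matrix (Fin 2) (Fin 2) F) 1 1 = 1 → (g : Matrix (Fin 2) (Fin 2) F) 1 0 = 0 → (g : Matrix (Fin 2) (Fin 2) F) 0 1 ≠ 0 →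
      (h : Matrix (Fin 2) (Fin 2) F) 0 0 = 1 → (h : Matrix (Fin 2) (Fin 2) F) 1 1 = 1 → (h : Matrix (Fin 2) (Fin 2) F) 1 0 = 0 → (h : Matrix (Fin 2) (Fin 2) F) 0 1 ≠ 0 →
      (IsConj g h ↔ IsSquare ((g : Matrix (Fin 2) (Fin 2) F) 0 1 * (h : Matrix (Fin 2) (Fin 2) F) 0 1)) := by
  classical
  have hpp : p.Prime := Fact.out
  have hr : ringChar F = p := ringChar.eq F p
  have h2 : (2 : F) ≠ 0 := fun h => hp (hr ▸ ringChar_eq_two h)
  have hodd := odd_of_two_ne_zero h2
  have hne : (1 : F) ≠ -1 := fun h => h2 (by linear_combination h)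
  have hj : ∀ g : SL2 F, orderOf g = p →
      ∃ h : SL2 F, IsConj g h ∧ IsJord (h : M2 F) ∧ (h : M2 F) 0 0 = 1 := by
    intro g hg
    rcases classify_reg g with h | h | ⟨h, h1, h3⟩
    · exact (hp ((Nat.prime_dvd_prime_iff_eq hpp Nat.prime_two).1
        (hg ▸ orderOf_dvd_of_scal h))).elim
    · exfalso
      have h1 := Subgroup.orderOf_dvd_natCard (cent g) (mem_cent.2 rfl)
      obtain ⟨n, -, hn⟩ := FiniteField.card F p
      have h3 : p ∣ Fintype.card F := hn ▸ dvd_pow_self _ n.2.ne'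
      rw [hg] at h1
      rcases h.card_cent with h4 | h4 <;> rw [h4] at h1
      · exact hpp.one_lt.ne' (Nat.dvd_one.1 ((Nat.dvd_add_right h3).1 h1))
      · have := Nat.dvd_sub h3 h1
        rw [Nat.sub_sub_self Fintype.card_pos] at this
        exact hpp.one_lt.ne' (Nat.dvd_one.1 this)
    · refine ⟨h, h1, h3, (sq_eq_one_of_eq h3.1 h3.2.1).resolve_right fun h4 => ?_⟩
      have h5 := h3.pow_char p
      rw [← hg, orderOf_eq_of_isConj h1, pow_orderOf_eq_one, ← orderOf_eq_of_isConj h1, hg] at h5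
      have h6 := congrFun (congrFun h5 0) 0
      rw [h4, (hpp.odd_of_ne_two hp).neg_one_pow] at h6
      exact hne (by simpa using h6)
  have hu : ∀ b : F, b ≠ 0 → orderOf (upS 1 b) = p := fun b hb =>
    orderOf_eq_prime (by rw [upS_pow_one, CharP.cast_eq_zero, zero_mul, upS_one])
      (by rw [← upS_one, Ne, upS_inj]; simp [hb])
  refine ⟨?_, fun g hg => ?_, fun g h g1 g2 g3 g4 h1 h2 h3 h4 => ?_⟩
  · obtain ⟨ε, hε⟩ := FiniteField.exists_nonsquare (ringChar_ne_two h2)
    have hε0 : ε ≠ 0 := by rintro rfl; exact hε IsSquare.zero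
    rw [Nat.card_eq_two_iff]
    refine ⟨⟨_, _, hu 1 one_ne_zero, rfl⟩, ⟨_, _, hu ε hε0, rfl⟩, fun h => hε ?_, ?_⟩
    · have := ConjClasses.mk_eq_mk_iff_isConj.1 (congrArg Subtype.val h)
      simpa using (((isJord_u one_ne_zero).isConj_iff (isJord_u hε0)).1 this).2
    · refine Set.eq_univ_of_forall ?_
      rintro ⟨_, g, hg, rfl⟩
      obtain ⟨h, h1, h3, h4⟩ := hj g hg
      by_cases h5 : IsSquare ((h : M2 F) 0 1)
      · exact Or.inl (Subtype.ext (ConjClasses.mk_eq_mk_iff_isConj.2 (h1.trans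
          ((h3.isConj_iff (isJord_u one_ne_zero)).2 (by simpa [h4] using h5)))))
      · exact Or.inr (Subtype.ext (ConjClasses.mk_eq_mk_iff_isConj.2 (h1.trans
          ((h3.isConj_iff (isJord_u hε0)).2 (by simpa [h4] using isSquare_mul_of_not h5 hε)))))
  · obtain ⟨h, h1, h3, -⟩ := hj g hg
    rw [card_conjClass_eq_index, index_cent_of_isConj h1]
    refine index_eq_of_card h3.card_cent_SL ?_
    rw [card_center_SL_odd h2, sq_sub_one_eq]
    obtain ⟨k, hk⟩ := hodd
    rw [hk, show (2 * k + 1 + 1) * (2 * k + 1 - 1) = 2 * ((k + 1) * (2 * k)) by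
      rw [Nat.add_sub_cancel]; ring, Nat.mul_div_cancel_left _ two_pos, Nat.add_sub_cancel]
    ring
  · rw [IsJord.isConj_iff ⟨g3, g1.trans g2.symm, g4⟩ ⟨h3, h1.trans h2.symm, h4⟩, g1, h1]
    simp

end Cfsg.Agent.S2301
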