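import Cfsg.Statements.S2302
import Mathlib
import Cfsg.Agent.Lib.Perm.GL2h

set_option autoImplicit false
open Cfsg

namespace Cfsg.Agent.S2302

open Cfsg.Agent.Perm.GL2

/-- Over a finite field with q elements of characteristic 2, the involutions of SL₂ (the non-identity unipotent elements) form a single conjugacy class, of size q² − 1. -/
theorem result {F : Type*} [Field F] [Fintype F] [CharP F 2] (g h : Matrix.SpecialLinearGroup (Fin 2) F) (hg : orderOf g = 2) (hh : orderOf h = 2) :
    IsConj g h ∧ Nat.card (ConjClasses.mk g).carrier = Fintype.card F ^ 2 - 1 := by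
  have h2 : (2 : F) = 0 := CharTwo.two_eq_zero
  have hj : ∀ g : SL2 F, orderOf g = 2 → ∃ h : SL2 F, IsConj g h ∧ IsJord (h : M2 F) := by
    intro g hg
    rcases classify_reg g with h | h | h
    · rw [isScal_SL_iff, neg_one_eq_one_SL h2, or_self] at h
      simp [h] at hg
    · exact (h.mul_self_ne (by rw [← sq, ← orderOf_dvd_iff_pow_eq_one, hg])).elim
    · exact h
  have h1 : ∀ g : SL2 F, IsJord (g : M2 F) → (g : M2 F) 0 0 = 1 := fun g hg =>
    (sq_eq_one_of_eq hg.1 hg.2.1).elim id fun h => by rw [h]; linear_combination -h2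
  obtain ⟨g', g1, g2⟩ := hj g hg
  obtain ⟨h', h3, h4⟩ := hj h hh
  refine ⟨g1.trans (((g2.isConj_iff h4).2 ⟨(h1 _ g2).trans (h1 _ h4).symm,
    FiniteField.isSquare_of_char_two (ringChar_eq_two h2) _⟩).trans h3.symm), ?_⟩
  rw [card_conjClass_eq_index, index_cent_of_isConj g1]
  refine index_eq_of_card g2.card_cent_SL ?_
  rw [center_SL_even h2, Subgroup.card_bot, sq_sub_one_eq]
  ring

end Cfsg.Agent.S2302
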