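import Cfsg.Statements.S2309
import Mathlib
import Cfsg.Agent.Lib.Perm.GL2e

set_option autoImplicit false
open Cfsg

namespace Cfsg.Agent.S2309

open Cfsg.Agent.Perm.GL2

/-- Over a finite field F with q elements: every irreducible complex character of GL₂ of degree q − 1 vanishes at every diagonal matrix with two distinct entries, and every irreducible complex character of degree q + 1 vanishes at every element with no eigenvector in F². -/
theorem result {F : Type*} [Field F] [Fintype F] (χ : Matrix.GeneralLinearGroup (Fin 2) F → ℂ) (hχ : Cfsg.IsIrrCharacter (Matrix.GeneralLinearGroup (Fin 2) F) χ) (g : Matrix.GeneralLinearGroup (Fin 2) F) :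
    (χ 1 = (Fintype.card F : ℂ) - 1 → (g : Matrix (Fin 2) (Fin 2) F) 0 1 = 0 → (g : Matrix (Fin 2) (Fin 2) F) 1 0 = 0 → (g : Matrix (Fin 2) (Fin 2) F) 0 0 ≠ (g : Matrix (Fin 2) (Fin 2) F) 1 1 → χ g = 0) ∧
    (χ 1 = (Fintype.card F : ℂ) + 1 → (∀ (c : F) (v : Fin 2 → F), v ≠ 0 → (g : Matrix (Fin 2) (Fin 2) F).mulVec v ≠ c • v) → χ g = 0) := by
  classical
  obtain ⟨e, he⟩ := exists_ell (F := F)
  obtain ⟨q1, q2, q3, q4, q5⟩ := q_facts (F := F)
  constructor
  · intro hd h1 h2 h3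
    rcases irr_GL2 he hχ with ⟨α, rfl⟩ | ⟨α, rfl⟩ | ⟨α, β, h, rfl⟩ | ⟨θ, h, rfl⟩
    · rw [UC_one, eq_sub_iff_add_eq] at hd
      have h4 : Fintype.card F = 1 + 1 := by exact_mod_cast hd.symm
      have h5 : Fintype.card Fˣ = 1 := by rw [Fintype.card_units, h4]
      haveI := Fintype.card_le_one_iff_subsingleton.1 h5.le
      exact (h3 (congrArg Units.val (Subsingleton.elim (Units.mk0 _ (upper_ne h2).1)
        (Units.mk0 _ (upper_ne h2).2)))).elim
    · exact (q4 (by rw [← hd, VC_one])).elim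
    · exact (q5 (by rw [← hd, WC_one])).elim
    · exact XC_upper he _ h2 h3
  · intro hd h1
    rcases irr_GL2 he hχ with ⟨α, rfl⟩ | ⟨α, rfl⟩ | ⟨α, β, h, rfl⟩ | ⟨θ, h, rfl⟩
    · exact (q2 (by rw [← hd, UC_one])).elim
    · exact (q3 (by rw [← hd, VC_one])).elim
    · exact WC_ell _ _ h1
    · exact (q5 (by rw [← hd, XC_one he])).elim

end Cfsg.Agent.S2309
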