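import Cfsg.Statements.S2310
import Mathlib
import Cfsg.Agent.Lib.Perm.GL2e

set_option autoImplicit false
open Cfsg

namespace Cfsg.Agent.S2310

open Cfsg.Agent.Perm.GL2

/-- Over a finite field F with q ≥ 3 elements, let u be the upper unitriangular matrix of GL₂ with off-diagonal entry 1. An irreducible complex character χ of GL₂ takes at u the value 1 if χ has degree 1 or q + 1, the value −1 if χ has degree q − 1, and the value 0 if χ has degree q. -/
theorem result {F : Type*} [Field F] [Fintype F] (hq : 3 ≤ Fintype.card F) (χ : Matrix.GeneralLinearGroup (Fin 2) F → ℂ) (hχ : Cfsg.IsIrrCharacter (Matrix.GeneralLinearGroup (Fin 2) F) χ)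
    (u : Matrix.GeneralLinearGroup (Fin 2) F) (hu : (u : Matrix (Fin 2) (Fin 2) F) = !![1, 1; 0, 1]) :
    (χ 1 = 1 → χ u = 1) ∧ (χ 1 = (Fintype.card F : ℂ) + 1 → χ u = 1) ∧
    (χ 1 = (Fintype.card F : ℂ) - 1 → χ u = -1) ∧ (χ 1 = (Fintype.card F : ℂ) → χ u = 0) := by
  classical
  obtain ⟨e, he⟩ := exists_ell (F := F)
  obtain ⟨q1, q2, q3, q4, q5⟩ := q_facts (F := F)
  have q6 : (Fintype.card F : ℂ) - 1 ≠ 1 := by
    rw [Ne, sub_eq_iff_eq_add]
    exact_mod_cast (by omega : Fintype.card F ≠ 1 + 1)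
  have hj : IsJord (u : M2 F) := by rw [hu]; exact ⟨by simp, by simp, by simp⟩
  rcases irr_GL2 he hχ with ⟨α, rfl⟩ | ⟨α, rfl⟩ | ⟨α, β, h, rfl⟩ | ⟨θ, h, rfl⟩
  · simp [UC, hu, Matrix.det_fin_two, q1.symm, q2.symm, q6.symm]
  · simp [VC_one, VC_jord _ hj, q1, q3.symm, q4.symm]
  · simp [WC_one, WC_jord _ _ hj, hu, q5.symm]
  · simp [XC_one he, XC_jord he _ hj, hu, res_cf, q6, q5, q4]

end Cfsg.Agent.S2310
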