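import Cfsg.Statements.S2315
import Mathlib

set_option autoImplicit false
open Cfsg

namespace Cfsg.Agent.S2315

open Module

open Classical in
theorem fib {A P : Type*} [Finite A] [Fintype P] [PartialOrder P] (a : A → P) (w : P) :
    Nat.card {x // a x ≤ w} = Nat.card {x // a x = w} +
      ∑ u ∈ Finset.univ.filter (· < w), Nat.card {x // a x = u} := by
  cases nonempty_fintype A
  simp only [Nat.card_eq_fintype_card, Fintype.card_subtype]
  rw [← Finset.card_eq_sum_card_fiberwise (s := Finset.univ.filter fun x => a x < w) (f := a) (by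
      intro x hx; simpa using hx) |>.trans (Finset.sum_congr rfl fun u hu => by
      congr 1; ext x; simp only [Finset.mem_filter, Finset.mem_univ, true_and] at hu ⊢
      exact ⟨fun h => h.2, fun h => ⟨h ▸ hu, h⟩⟩),
    ← Finset.card_union_of_disjoint (Finset.disjoint_filter.2 fun x _ h => by simp [h])]
  congr 1; ext x; simp [le_iff_eq_or_lt]

theorem moeb {A B P : Type*} [Finite A] [Finite B] [Finite P] [PartialOrder P] [OrderTop P] (a : A → P) (b : B → P)
    (ha : ∀ x, a x ≠ ⊤) (hb : ∀ x, b x ≠ ⊤)
    (h : ∀ w ≠ ⊤, Nat.card {x // a x ≤ w} = Nat.card {x // b x ≤ w}) : Nat.card A = Nat.card B := by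
  classical
  cases nonempty_fintype P
  have k : ∀ w, Nat.card {x // a x = w} = Nat.card {x // b x = w} := fun w => by
    induction w using WellFoundedLT.induction with
    | _ w ih =>
      by_cases hw : w = ⊤
      · subst hw
        haveI : IsEmpty {x // a x = ⊤} := ⟨fun x => ha _ x.2⟩
        haveI : IsEmpty {x // b x = ⊤} := ⟨fun x => hb _ x.2⟩
        simp
      · have := h w hw
        rw [fib, fib, Finset.sum_congr rfl fun u hu => ih u (by simpa using hu)] at this
        omega
  rw [← Nat.card_congr (Equiv.sigmaFiberEquiv a), ← Nat.card_congr (Equiv.sigmaFiberEquiv b), Nat.card_sigma,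
    Nat.card_sigma]
  exact Finset.sum_congr rfl fun u _ => k u

theorem nil_iff {F V : Type*} [Field F] [AddCommGroup V] [Module F V] (W : Submodule F V) (φ : V →ₗ[F] W) :
    IsNilpotent (W.subtype ∘ₗ φ) ↔ IsNilpotent (φ ∘ₗ W.subtype) := by
  have k : ∀ m (x : W), (((φ ∘ₗ W.subtype) ^ m) x : V) = ((W.subtype ∘ₗ φ) ^ m) x := fun m x => by
    induction m with
    | zero => rfl
    | succ m ih => rw [pow_succ', pow_succ', End.mul_apply, End.mul_apply, ← ih]; rfl
  refine ⟨fun ⟨m, h⟩ => ⟨m, LinearMap.ext fun x => Subtype.ext (by rw [k, h]; rfl)⟩,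
    fun ⟨m, h⟩ => ⟨m + 1, LinearMap.ext fun x => ?_⟩⟩
  rw [pow_succ, End.mul_apply]
  exact (k m (φ x)).symm.trans (by rw [h]; rfl)

theorem card_hom {F V W : Type*} [Field F] [AddCommGroup V] [Module F V] [AddCommGroup W] [Module F W]
    [FiniteDimensional F V] [FiniteDimensional F W] :
    Nat.card (V →ₗ[F] W) = Nat.card F ^ (finrank F V * finrank F W) := by
  rw [natCard_eq_pow_finrank (K := F), finrank_linearMap]

/-- maps with range in `W` -/
def rng {F U V : Type*} [Field F] [AddCommGroup V] [Module F V] [AddCommGroup U] [Module F U] (W : Submodule F V) :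
    {T : U →ₗ[F] V // LinearMap.range T ≤ W} ≃ (U →ₗ[F] W) where
  toFun T := T.1.codRestrict W fun x => T.2 ⟨x, rfl⟩
  invFun φ := ⟨W.subtype ∘ₗ φ, by rintro _ ⟨x, rfl⟩; exact (φ x).2⟩
  left_inv _ := rfl
  right_inv _ := rfl

universe u

theorem card_nil {F : Type u} [Field F] [Finite F] (n : ℕ) : ∀ (V : Type u) [AddCommGroup V] [Module F V]
    [FiniteDimensional F V], finrank F V = n → Nat.card {T : End F V // IsNilpotent T} = Nat.card F ^ (n * (n - 1)) := by
  induction n using Nat.strong_induction_on with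
  | _ n ih =>
    intro V _ _ _ hn
    rcases Nat.eq_zero_or_pos n with rfl | n0
    · haveI := finrank_zero_iff.1 hn
      exact Nat.card_eq_one_iff_unique.2 ⟨inferInstance, ⟨⟨0, IsNilpotent.zero⟩⟩⟩
    haveI := Module.finite_of_finite F (M := V)
    haveI := Module.finite_of_finite F (M := End F V)
    haveI := Module.finite_of_finite F (M := (Fin (n - 1) → F) →ₗ[F] V)
    haveI : Finite (Submodule F V) := Finite.of_injective _ SetLike.coe_injective
    haveI : Nontrivial V := finrank_pos_iff.1 (hn ▸ n0)
    rw [moeb (B := (Fin (n - 1) → F) →ₗ[F] V) (fun T => LinearMap.range T.1) LinearMap.range, card_hom,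
      finrank_fin_fun, hn, mul_comm]
    · intro T h
      exact ((End.isUnit_iff _).2 ⟨LinearMap.injective_iff_surjective.2 (LinearMap.range_eq_top.1 h),
        LinearMap.range_eq_top.1 h⟩).not_isNilpotent T.2
    · intro T h
      have := T.finrank_range_le
      rw [h, finrank_top, finrank_fin_fun] at this; omega
    · intro W hW
      obtain ⟨C, hC⟩ := W.exists_isCompl
      have l := Submodule.finrank_lt hW
      have s := Submodule.finrank_add_eq_of_isCompl hC
      rw [Nat.card_congr (rng W), card_hom, finrank_fin_fun,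
        Nat.card_congr ((Equiv.subtypeSubtypeEquivSubtypeInter _ fun T : End F V => LinearMap.range T ≤ W).trans
          ((Equiv.subtypeEquivRight fun _ => and_comm).trans
          ((Equiv.subtypeSubtypeEquivSubtypeInter _ _).symm.trans
          (((rng W).trans (LinearMap.ofIsComplProdEquiv hC).symm.toEquiv).subtypeEquiv
            (q := fun x => IsNilpotent x.1) fun T => nil_iff W (rng W T))))),
        Nat.card_congr Equiv.prodSubtypeFstEquivSubtypeProd, Nat.card_prod, ih _ (hn ▸ l) W rfl, card_hom, ← pow_add]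
      congr 1
      rcases h : finrank F W with _ | w
      · simp
      · rw [h] at s
        rw [show n - 1 = w + finrank F C by omega]; simp; ring

/-- Steinberg's count of unipotent elements for the general linear group: over a finite field with q elements of characteristic p, the number of elements of GL_n of p-power order (the unipotent matrices) is q^(n(n−1)). -/
theorem result {F : Type*} [Field F] [Fintype F] (p : ℕ) [Fact p.Prime] [CharP F p] (n : ℕ) :
    Nat.card {g : Matrix.GeneralLinearGroup (Fin n) F // ∃ k : ℕ, orderOf g = p ^ k} = Fintype.card F ^ (n * (n - 1)) := by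
  classical
  rcases Nat.eq_zero_or_pos n with rfl | n0
  · exact Nat.card_eq_one_iff_unique.2 ⟨inferInstance, ⟨⟨1, 0, by simp⟩⟩⟩
  haveI : Nonempty (Fin n) := ⟨⟨0, n0⟩⟩
  have hp : p.Prime := Fact.out
  rw [← Nat.card_eq_fintype_card, ← card_nil n (Fin n → F) (finrank_fin_fun F)]
  refine Nat.card_congr (Equiv.trans (Equiv.ofBijective
    (fun g => (⟨g.1.1 - 1, ?_⟩ : {M : Matrix (Fin n) (Fin n) F // IsNilpotent M})) ⟨fun a b h => ?_, fun M => ?_⟩)
    (Matrix.toLin'.toEquiv.subtypeEquiv fun M => (Matrix.isNilpotent_toLin'_iff M).symm))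
  · obtain ⟨k, hk⟩ := g.2
    exact ⟨p ^ k, by
      rw [sub_pow_char_pow_of_commute _ _ (Commute.one_right _), ← Units.val_pow_eq_pow_val, ← hk,
        pow_orderOf_eq_one, one_pow, Units.val_one, sub_self]⟩
  · exact Subtype.ext (Units.ext (sub_left_injective (Subtype.mk.inj h)))
  · obtain ⟨m, hm⟩ := M.2
    refine ⟨⟨M.2.isUnit_add_one.unit, ?_⟩, Subtype.ext (by simp)⟩
    obtain ⟨k, -, hk⟩ := (Nat.dvd_prime_pow hp).1 (orderOf_dvd_of_pow_eq_one (x := M.2.isUnit_add_one.unit)
      (n := p ^ m) (Units.ext (by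
        rw [Units.val_pow_eq_pow_val, IsUnit.unit_spec, add_pow_char_pow_of_commute _ _ (Commute.one_right _),
          pow_eq_zero_of_le (Nat.lt_pow_self hp.one_lt).le hm, one_pow, zero_add, Units.val_one])))
    exact ⟨k, hk⟩

end Cfsg.Agent.S2315
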