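import Cfsg.Statements.S2316
import Cfsg.Agent.Lib.Chev.Cl6
import Cfsg.Agent.S0245

set_option autoImplicit false
open Cfsg

namespace Cfsg.Agent.S2316

/-- Steinberg's count of unipotent elements for the symplectic group: over a finite field with q elements of characteristic p, the number of elements of Sp_{2m} of p-power order is q^(2m²). -/
theorem result {F : Type*} [Field F] [Fintype F] (p : ℕ) [Fact p.Prime] [CharP F p] (m : ℕ) :
    Nat.card {g : ↥(Matrix.symplecticGroup (Fin m) F) // ∃ k : ℕ, orderOf g = p ^ k} = Fintype.card F ^ (2 * m ^ 2) := by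
  have h := S0245.result (F := F) rfl m
  obtain ⟨f, hp, hf⟩ := FiniteField.card F p
  have h1 : (Nat.card (Matrix.symplecticGroup (Fin m) F)).factorization p = f * m ^ 2 := by
    have h2 : ¬ p ∣ ∏ i ∈ Finset.range m, (Fintype.card F ^ (2 * (i + 1)) - 1) := fun e => by
      obtain ⟨i, -, e⟩ := (Prime.dvd_finsetProd_iff hp.prime _).1 e
      exact hp.not_dvd_one ((Nat.dvd_sub_iff_right (Nat.one_le_pow _ _ Fintype.card_pos)
        (dvd_pow (hf ▸ dvd_pow_self p f.ne_zero) (by omega))).1 e)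
    rw [h, Nat.factorization_mul (pow_ne_zero _ Fintype.card_ne_zero) (by intro e; exact h2 (e ▸ dvd_zero _)), Finsupp.add_apply,
      Nat.factorization_eq_zero_of_not_dvd h2, hf, ← pow_mul, hp.factorization_pow]
    simp
  have := Fintype.ofFinite (Matrix.symplecticGroup (Fin m) F)
  rcases m with _ | _ | n
  · have : Unique {g : ↥(Matrix.symplecticGroup (Fin 0) F) // ∃ k : ℕ, orderOf g = p ^ k} :=
      ⟨⟨⟨1, 0, by simp⟩⟩, fun _ => Subtype.ext (Subtype.ext (Subsingleton.elim _ _))⟩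
    simp
  · obtain ⟨e⟩ := Chev.sp2_equiv F
    classical
    have h2 : ∀ g : Matrix.SpecialLinearGroup (Fin 2) F, (∃ k, orderOf (e g) = p ^ k) ↔ g 1 1 = 2 - g 0 0 := fun g => by
      rw [e.orderOf_eq]
      have h3 : ∀ k, g ^ p ^ k = 1 ↔ (g.1 - 1) ^ p ^ k = 0 := fun k => by
        rw [sub_pow_char_pow_of_commute _ _ (Commute.one_right _), one_pow, sub_eq_zero]; exact Subtype.ext_iff
      refine ⟨fun ⟨k, h⟩ => ?_, fun h => ⟨_, (orderOf_dvd_of_pow_eq_one ((h3 1).2 ?_) |> (Nat.dvd_prime_pow hp).1).choose_spec.2⟩⟩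
      · have := (Matrix.isNilpotent_trace_of_isNilpotent ⟨_, (h3 k).1 (h ▸ pow_orderOf_eq_one g)⟩).eq_zero
        simp [Matrix.trace_fin_two] at this; linear_combination this
      · have h4 := g.det_coe
        rw [Matrix.det_fin_two, h] at h4
        refine pow_eq_zero_of_le (m := 2) (by simpa using hp.two_le) ?_
        ext i j; fin_cases i <;> fin_cases j <;> simp [sq, Matrix.mul_apply, h] <;> first | ring1 | linear_combination -h4
    rw [← Nat.card_congr (e.toEquiv.subtypeEquiv (p := fun g => g 1 1 = 2 - g 0 0) fun g => (h2 g).symm),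
      Nat.card_congr (Equiv.ofBijective (fun g : {g : Matrix.SpecialLinearGroup (Fin 2) F // g 1 1 = 2 - g 0 0} =>
        (if g.1 0 1 = 0 then g.1 1 0 else g.1 0 0 - 1, g.1 0 1)) ⟨fun ⟨g, h⟩ ⟨g', h'⟩ e => ?_, fun ⟨x, y⟩ => ?_⟩)]
    · simp [sq]
    · have h4 := g.det_coe
      have h5 := g'.det_coe
      rw [Matrix.det_fin_two] at h4 h5
      simp only [Prod.mk.injEq] at e
      have : g 0 0 = g' 0 0 ∧ g 1 0 = g' 1 0 := by clear h2 h1; grind
      refine Subtype.ext (Subtype.ext ?_)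
      ext i j; fin_cases i <;> fin_cases j <;> simp [h, h', e.2, this]
    · by_cases h : y = 0
      · exact ⟨⟨⟨!![1, 0; x, 1], by simp⟩, by simp; norm_num⟩, by simp [h]⟩
      · exact ⟨⟨⟨!![1 + x, y; -x ^ 2 / y, 1 - x], by simp; field_simp; ring⟩, by simp; ring⟩, by simp [h]⟩
  obtain ⟨S, h2, -⟩ := Chev.Cl.exists_stC (n := n + 1) (by omega) F
  rw [Chev.St.card_unipotent h2, Chev.St.card_U_eq h2 p, h1, hf, ← pow_mul, ← pow_mul]
  congr 1; ring

end Cfsg.Agent.S2316
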