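import Cfsg.Statements.S2317
import Mathlib
import Cfsg.Agent.Lib.Perm.Un1

set_option autoImplicit false
open Cfsg

namespace Cfsg.Agent.S2317

open Cfsg.Agent.Classical Cfsg.Agent.Perm.Inv Cfsg.Agent.Perm.Cj

/-- Over a finite field of characteristic p, the conjugacy classes of GL_n consisting of elements of p-power order (the unipotent classes) are as many as the partitions of n. -/
theorem result {F : Type*} [Field F] [Fintype F] (p : ℕ) [Fact p.Prime] [CharP F p] (n : ℕ) :
    Nat.card {C : ConjClasses (Matrix.GeneralLinearGroup (Fin n) F) //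
      ∃ g : Matrix.GeneralLinearGroup (Fin n) F, (∃ k : ℕ, orderOf g = p ^ k) ∧ ConjClasses.mk g = C} =
      Fintype.card (Nat.Partition n) := by
  simp only [and_comm (a := ∃ _, _)]
  rw [card_unip glE (n := n) (by simp) (∃ k, · = p ^ k) n (fun t => (unip_iff p t).trans
    ⟨fun h => by simpa using nil_pow h, fun h => ⟨_, h⟩⟩)
    (fun _ _ _ _ H => by simpa using conj_iff_sim.2 H) fun t _ => ⟨t, Subgroup.mem_top _, .refl _⟩,
    Finset.filter_true_of_mem fun μ _ _ => μ.le_of_mem_parts, Finset.card_univ]

end Cfsg.Agent.S2317
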