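import Cfsg.Statements.S2320
import Mathlib
import Cfsg.Agent.Lib.Perm.GL2e

set_option autoImplicit false
open Cfsg

namespace Cfsg.Agent.S2320

open Cfsg.Agent.Perm.GL2 Cfsg.Agent.Char

/-- Over a finite field F with q elements, every irreducible complex character of GL₂ of degree q takes a value of absolute value 1 at every diagonal matrix with two different diagonal entries and at every element with no eigenvector in F². -/
theorem result {F : Type*} [Field F] [Fintype F] (χ : Matrix.GeneralLinearGroup (Fin 2) F → ℂ) (hχ : Cfsg.IsIrrCharacter (Matrix.GeneralLinearGroup (Fin 2) F) χ) (hdeg : χ 1 = (Fintype.card F : ℂ)) (g : Matrix.GeneralLinearGroup (Fin 2) F) :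
    ((g : Matrix (Fin 2) (Fin 2) F) 0 1 = 0 → (g : Matrix (Fin 2) (Fin 2) F) 1 0 = 0 → (g : Matrix (Fin 2) (Fin 2) F) 0 0 ≠ (g : Matrix (Fin 2) (Fin 2) F) 1 1 → ‖χ g‖ = 1) ∧
    ((∀ (c : F) (v : Fin 2 → F), v ≠ 0 → (g : Matrix (Fin 2) (Fin 2) F).mulVec v ≠ c • v) → ‖χ g‖ = 1) := by
  classical
  obtain ⟨e, he⟩ := exists_ell (F := F)
  obtain ⟨q1, q2, q3, q4, q5⟩ := q_facts (F := F)
  rcases irr_GL2 he hχ with ⟨α, rfl⟩ | ⟨α, rfl⟩ | ⟨α, β, h, rfl⟩ | ⟨θ, h, rfl⟩
  · exact (q1 (by rw [← hdeg, UC_one])).elim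
  · have : ‖α (g : M2 F).det‖ = 1 :=
      norm_units_hom (MulChar.equivToUnitHom α) (Matrix.GeneralLinearGroup.det g)
    refine ⟨fun h1 h2 h3 => ?_, fun h => ?_⟩
    · rw [VC_diag _ ⟨h1, h2, h3⟩, this]
    · rw [VC_ell _ h, norm_neg, this]
  · exact (q3 (by rwa [WC_one] at hdeg)).elim
  · exact (q4 (by rwa [XC_one he] at hdeg)).elim

end Cfsg.Agent.S2320
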