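import Cfsg.Statements.S2322
import Mathlib
import Cfsg.Agent.Lib.Perm.GL2g

set_option autoImplicit false
open Cfsg

namespace Cfsg.Agent.S2322

open Cfsg.Agent.Perm.GL2

/-- Over a finite field F with q elements, q odd: every irreducible complex character of SL₂ of degree q − 1 or (q − 1)/2 vanishes at every diagonal matrix whose diagonal entry a has a² ≠ 1, and every irreducible complex character of degree q + 1 or (q + 1)/2 vanishes at every element with no eigenvector in F². -/
theorem result {F : Type*} [Field F] [Fintype F] (hodd : Odd (Fintype.card F)) (χ : Matrix.SpecialLinearGroup (Fin 2) F → ℂ) (hχ : Cfsg.IsIrrCharacter (Matrix.SpecialLinearGroup (Fin 2) F) χ) (g : Matrix.SpecialLinearGroup (Fin 2) F) :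
    ((χ 1 = (Fintype.card F : ℂ) - 1 ∨ χ 1 = (((Fintype.card F - 1) / 2 : ℕ) : ℂ)) →
      (g : Matrix (Fin 2) (Fin 2) F) 0 1 = 0 → (g : Matrix (Fin 2) (Fin 2) F) 1 0 = 0 → (g : Matrix (Fin 2) (Fin 2) F) 0 0 ^ 2 ≠ 1 → χ g = 0) ∧
    ((χ 1 = (Fintype.card F : ℂ) + 1 ∨ χ 1 = (((Fintype.card F + 1) / 2 : ℕ) : ℂ)) →
      (∀ (c : F) (v : Fin 2 → F), v ≠ 0 → (g : Matrix (Fin 2) (Fin 2) F).mulVec v ≠ c • v) → χ g = 0) := by
  classical
  obtain ⟨e, he⟩ := exists_ell (F := F)
  rw [cast_half_add hodd, cast_half_sub hodd]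
  refine ⟨fun h h1 h2 h3 => ?_, fun h hg => ?_⟩
  · have hd := isDiag_of_sq_ne h1 h2 h3
    have hq : 4 ≤ Fintype.card F := by
      by_contra hc
      have h4 := Fintype.one_lt_card (α := F)
      have h5 : Fintype.card F - 1 = 2 := by rw [Nat.odd_iff] at hodd; omega
      have h6 := FiniteField.pow_card_sub_one_eq_one _ (upper_ne_SL h2)
      rw [h5] at h6
      exact h3 h6
    rcases h with h | h
    · obtain ⟨θ, -, rfl⟩ := (irr_deg he hχ).2.2.2.1 h hq
      exact XS_diag he _ hd
    · obtain ⟨θ, χ', -, -, H⟩ := (irr_deg he hχ).2.2.2.2.2 h hq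
      rw [H.half hd.not_jord, XS_diag he _ hd, zero_div]
  · have hg : IsEll (g : M2 F) := hg
    rcases h with h | h
    · obtain ⟨θ, -, rfl⟩ := (irr_deg he hχ).2.2.1 h
      exact WS_ell _ hg
    · rcases (irr_deg he hχ).2.2.2.2.1 h with ⟨θ, χ', -, -, H⟩ | ⟨hq, θ, hθ, rfl⟩
      · rw [H.half hg.not_jord, WS_ell _ hg, zero_div]
      · obtain ⟨c, hc, h1⟩ := he.exists_isConj_SL hg
        have h2 := (isEll_of_isConj_SL h1 hg).not_scal
        rw [(isGen_XS he θ).isClassFunction.eq_of_isConj h1, XS_mem he θ ⟨c, hc⟩ h2]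
        obtain ⟨x, hx⟩ := he.isCyclic_comap.exists_generator
        have h4 : x ^ 4 = 1 := by
          have := pow_card_eq_one' (x := x)
          rwa [he.card_comap, hq] at this
        have h5 : θ x ^ 2 = -1 := by
          refine (units_sq_eq_one (by rw [← pow_mul, ← map_pow, h4, map_one])).resolve_left
            fun h5 => hθ ((hom_sq_eq_one_iff _).2 fun y => ?_)
          obtain ⟨k, rfl⟩ := mem_powers_iff_mem_zpowers.2 (hx y)
          simp only [map_pow]
          rw [← pow_mul, mul_comm, pow_mul, h5, one_pow]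
        obtain ⟨k, hk⟩ := mem_powers_iff_mem_zpowers.2 (hx ⟨c, hc⟩)
        simp only at hk
        have h6 : Odd k := by
          by_contra h6
          obtain ⟨j, rfl⟩ := Nat.not_odd_iff_even.1 h6
          have h7 : c ^ 2 = 1 := by
            have : (⟨c, hc⟩ : C1 e) ^ 2 = 1 := by
              rw [← hk, ← pow_mul, show (j + j) * 2 = 4 * j by ring, pow_mul, h4, one_pow]
            exact congrArg Subtype.val this
          have h8 := cayley (c : M2 F)
          have h9 : (c : M2 F) * c = 1 := by simpa [sq] using congrArg Subtype.val h7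
          rw [h9, c.2, one_smul] at h8
          have h10 := (comb_inj h2 (a := 2) (b := 0) (a' := 0) (b' := (c : M2 F).trace) (by
            rw [zero_smul, zero_smul, add_zero, zero_add, two_smul]
            exact eq_sub_iff_add_eq.1 h8)).1
          exact two_ne_zero_of_odd hodd h10
        have h7 : θ ⟨c, hc⟩ ^ 2 = -1 := by
          rw [← hk, map_pow, ← pow_mul, mul_comm, pow_mul, h5, h6.neg_one_pow]
        have h8 : (θ ⟨c, hc⟩)⁻¹ = -θ ⟨c, hc⟩ := by
          rw [inv_eq_iff_mul_eq_one, mul_neg, ← sq, h7, neg_neg]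
        rw [h8]; simp

end Cfsg.Agent.S2322
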