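import Cfsg.Statements.S2324
import Mathlib
import Cfsg.Agent.Lib.Perm.GL2g

set_option autoImplicit false
open Cfsg

namespace Cfsg.Agent.S2324

open Cfsg.Agent.Perm.GL2

/-- Over a finite field F with q elements, q odd and q ≥ 5, let u be the upper unitriangular matrix of SL₂ with off-diagonal entry 1 and let δ = (−1)^((q−1)/2). Every irreducible complex character χ of SL₂ of degree (q + 1)/2 satisfies (2χ(u) − 1)² = δq, and every irreducible complex character χ of degree (q − 1)/2 satisfies (2χ(u) + 1)² = δq; that is, χ(u) = (1 ± √(δq))/2 in the first case and χ(u) = (−1 ± √(δq))/2 in the second. Moreover two different irreducible characters of degree (q + 1)/2 take the two different values (their values at u add up to 1), and likewise for degree (q − 1)/2 (values adding up to −1). -/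
theorem result {F : Type*} [Field F] [Fintype F] (hodd : Odd (Fintype.card F)) (hq : 5 ≤ Fintype.card F)
    (u : Matrix.SpecialLinearGroup (Fin 2) F) (hu : (u : Matrix (Fin 2) (Fin 2) F) = !![1, 1; 0, 1]) :
    (∀ χ : Matrix.SpecialLinearGroup (Fin 2) F → ℂ, Cfsg.IsIrrCharacter (Matrix.SpecialLinearGroup (Fin 2) F) χ → χ 1 = (((Fintype.card F + 1) / 2 : ℕ) : ℂ) → (2 * χ u - 1) ^ 2 = (-1 : ℂ) ^ ((Fintype.card F - 1) / 2) * (Fintype.card F : ℂ)) ∧
    (∀ χ : Matrix.SpecialLinearGroup (Fin 2) F → ℂ, Cfsg.IsIrrCharacter (Matrix.SpecialLinearGroup (Fin 2) F) χ → χ 1 = (((Fintype.card F - 1) / 2 : ℕ) : ℂ) → (2 * χ u + 1) ^ 2 = (-1 : ℂ) ^ ((Fintype.card F - 1) / 2) * (Fintype.card F : ℂ)) ∧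
    (∀ χ₁ χ₂ : Matrix.SpecialLinearGroup (Fin 2) F → ℂ, Cfsg.IsIrrCharacter (Matrix.SpecialLinearGroup (Fin 2) F) χ₁ → Cfsg.IsIrrCharacter (Matrix.SpecialLinearGroup (Fin 2) F) χ₂ → χ₁ ≠ χ₂ →
      χ₁ 1 = (((Fintype.card F + 1) / 2 : ℕ) : ℂ) → χ₂ 1 = (((Fintype.card F + 1) / 2 : ℕ) : ℂ) → χ₁ u + χ₂ u = 1) ∧
    (∀ χ₁ χ₂ : Matrix.SpecialLinearGroup (Fin 2) F → ℂ, Cfsg.IsIrrCharacter (Matrix.SpecialLinearGroup (Fin 2) F) χ₁ → Cfsg.IsIrrCharacter (Matrix.SpecialLinearGroup (Fin 2) F) χ₂ → χ₁ ≠ χ₂ →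
      χ₁ 1 = (((Fintype.card F - 1) / 2 : ℕ) : ℂ) → χ₂ 1 = (((Fintype.card F - 1) / 2 : ℕ) : ℂ) → χ₁ u + χ₂ u = -1) := by
  classical
  obtain ⟨e, he⟩ := exists_ell (F := F)
  have hj : IsJord (u : M2 F) := by simp [IsJord, hu]
  have hu1 : (u : M2 F) 0 0 = 1 := by simp [hu]
  rw [cast_half_add hodd, cast_half_sub hodd]
  have hW : ∀ α : MulChar F ℂ, WS α u = 1 := fun α => by rw [WS_jord _ hj, hu1, map_one]
  have hX : ∀ θ, XS he θ u = -1 := fun θ => XS_jord_one he _ hj hu1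
  refine ⟨fun χ h1 h2 => ?_, fun χ h1 h2 => ?_, fun χ χ' h1 h1' h3 h2 h2' => ?_,
    fun χ χ' h1 h1' h3 h2 h2' => ?_⟩
  · obtain ⟨α, χ', -, -, H⟩ := ((irr_deg he h1).2.2.2.2.1 h2).resolve_right (by omega)
    have := hW α
    rw [H.eq, Pi.add_apply] at this
    rw [← H.sq_jord hj hu1, ← this]; ring
  · obtain ⟨α, χ', -, -, H⟩ := (irr_deg he h1).2.2.2.2.2 h2 (by omega)
    have := hX α
    rw [H.eq, Pi.add_apply] at this
    rw [← H.sq_jord hj hu1]
    congr 1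
    linear_combination this
  · obtain ⟨α, χ'', h4, h5, H⟩ := ((irr_deg he h1).2.2.2.2.1 h2).resolve_right (by omega)
    have h6 := ((irr_deg he h1').2.2.2.2.1 h2').resolve_right (by omega)
    rw [halfW_eq h4 h5 H] at h6
    rcases h6 with rfl | rfl
    · exact (h3 rfl).elim
    · rw [← hW α, H.eq, Pi.add_apply]
  · obtain ⟨α, χ'', h4, h5, H⟩ := (irr_deg he h1).2.2.2.2.2 h2 (by omega)
    have h6 := (irr_deg he h1').2.2.2.2.2 h2' (by omega)
    rw [halfX_eq he h4 h5 H] at h6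
    rcases h6 with rfl | rfl
    · exact (h3 rfl).elim
    · rw [← hX α, H.eq, Pi.add_apply]

end Cfsg.Agent.S2324
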