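import Cfsg.Statements.S2325
import Mathlib
import Cfsg.Agent.Lib.Perm.GL2g

set_option autoImplicit false
open Cfsg

namespace Cfsg.Agent.S2325

open Cfsg.Agent.Perm.GL2

/-- Over a finite field with q elements, q odd, the special linear group SL₂ has exactly q + 4 conjugacy classes. -/
theorem result {F : Type*} [Field F] [Fintype F] (hodd : Odd (Fintype.card F)) :
    Nat.card (ConjClasses (Matrix.SpecialLinearGroup (Fin 2) F)) = Fintype.card F + 4 := by
  classical
  obtain ⟨e, he⟩ := exists_ell (F := F)
  rw [card_conjClasses_SL2 he, ncard_famWS_odd hodd, ncard_famXS_odd he hodd, ncard_halfW hodd,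
    ncard_halfX he hodd]
  have := Fintype.one_lt_card (α := F)
  rw [Nat.odd_iff] at hodd
  omega

end Cfsg.Agent.S2325
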