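import Cfsg.Statements.S2329
import Mathlib
import Cfsg.Agent.Lib.Perm.GL2h

set_option autoImplicit false
open Cfsg

namespace Cfsg.Agent.S2329

open Cfsg.Agent.Perm.GL2

/-- Over a finite field of characteristic p, any two elements of order p of GL₂ are conjugate: there is a single conjugacy class of non-identity unipotent elements. -/
theorem result {F : Type*} [Field F] [Fintype F] (p : ℕ) [Fact p.Prime] [CharP F p] (g h : Matrix.GeneralLinearGroup (Fin 2) F)
    (hg : orderOf g = p) (hh : orderOf h = p) : IsConj g h := by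
  have hpp : p.Prime := Fact.out
  have key : ∀ g : GL (Fin 2) F, orderOf g = p →
      ¬ IsScal (g : M2 F) ∧ (g : M2 F).trace = 2 ∧ (g : M2 F).det = 1 := by
    intro g hg
    have h1 : (g : M2 F) ^ p = 1 := by
      rw [← Units.val_pow_eq_pow_val, ← hg, pow_orderOf_eq_one, Units.val_one]
    have h2 : IsNilpotent ((g : M2 F) - 1) :=
      ⟨p, by rw [sub_pow_char_of_commute _ (Commute.one_right _), h1, one_pow, sub_self]⟩
    have h3 := (Matrix.isNilpotent_trace_of_isNilpotent h2).eq_zero
    have h4 : ((g : M2 F) - 1).det = 0 := by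
      obtain ⟨n, hn⟩ := h2
      have := congrArg Matrix.det hn
      rw [Matrix.det_pow, Matrix.det_zero] at this
      exact pow_eq_zero_iff (by rintro rfl; simp at this) |>.1 this
    rw [Matrix.trace_fin_two] at h3 ⊢
    rw [Matrix.det_fin_two] at h4 ⊢
    simp only [Matrix.sub_apply, Matrix.one_apply_eq, ne_eq, zero_ne_one, not_false_eq_true,
      Matrix.one_apply_ne, one_ne_zero, sub_zero] at h3 h4
    refine ⟨fun ⟨h5, h6, h7⟩ => ?_, by linear_combination h3, by linear_combination h4 + h3⟩
    rw [h5, ← h7, zero_mul, sub_zero, mul_self_eq_zero, sub_eq_zero] at h4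
    have : g = 1 := Units.ext (m2_ext (by simp [h4]) (by simp [h5]) (by simp [h6])
      (by simp [← h7, h4]))
    rw [this, orderOf_one] at hg
    exact hpp.one_lt.ne hg
  obtain ⟨g1, g2, g3⟩ := key g hg
  obtain ⟨h1, h2, h3⟩ := key h hh
  exact isConj_of_trace_det g1 h1 (g2.trans h2.symm) (g3.trans h3.symm)

end Cfsg.Agent.S2329
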