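import Cfsg.Statements.S2331
import Mathlib
import Cfsg.Agent.Lib.Perm.GL2g

set_option autoImplicit false
open Cfsg

namespace Cfsg.Agent.S2331

open Cfsg.Agent.Perm.GL2

/-- Over a finite field with q elements, q even, the special linear group SL₂ has exactly q + 1 conjugacy classes. -/
theorem result {F : Type*} [Field F] [Fintype F] [CharP F 2] :
    Nat.card (ConjClasses (Matrix.SpecialLinearGroup (Fin 2) F)) = Fintype.card F + 1 := by
  classical
  obtain ⟨e, he⟩ := exists_ell (F := F)
  have h2 : (2 : F) = 0 := CharTwo.two_eq_zero
  have hev : Even (Fintype.card F) :=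
    Nat.even_iff.2 (FiniteField.even_card_iff_char_two.1 (ringChar_eq_two h2))
  rw [card_conjClasses_SL2 he, ncard_famWS_even hev, ncard_famXS_even he hev, halfW_even h2,
    halfX_even he h2, Set.ncard_empty]
  have := Fintype.one_lt_card (α := F)
  rw [Nat.even_iff] at hev
  omega

end Cfsg.Agent.S2331
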