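import Cfsg.Statements.S2347
import Cfsg.Agent.Lib.Classical.Weil2

set_option autoImplicit false
open Cfsg

namespace Cfsg.Agent.S2347
open Cfsg.Agent.Classical

open Module Matrix Weil

theorem eq_one {V : Type*} [AddCommGroup V] [Module ℂ V] {f : End ℂ V} {p : ℕ} (hp : p ≠ 0) (h : f ^ p = 1)
    (h2 : (f - 1) * (f - 1) = 0) : f = 1 := by
  have : ∀ k : ℕ, f ^ k = 1 + (k : ℂ) • (f - 1) := fun k => by
    induction k with
    | zero => simp
    | succ k ih =>
      rw [pow_succ, ih, show f = 1 + (f - 1) by abel]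
      simp only [add_sub_cancel_left, mul_add, add_mul, mul_one, one_mul, smul_mul_assoc, h2, smul_zero,
        Nat.cast_succ, add_smul, one_smul]
      abel
  rw [this, add_eq_left, smul_eq_zero] at h
  exact sub_eq_zero.1 (h.resolve_left (Nat.cast_ne_zero.2 hp))


/-- Smallest degree of a non-linear irreducible complex representation of the symplectic group Sp_{2n} over a finite field of odd order q, n ≥ 2: every irreducible complex representation of degree at least 2 has degree at least (q^n − 1)/2, and there is an irreducible complex representation of exactly that degree (a Weil representation). -/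
theorem result {F : Type*} [Field F] [Fintype F] [DecidableEq F] (n : ℕ) (hn : 2 ≤ n) (hodd : Odd (Fintype.card F)) :
    (∀ (k : ℕ) (ρ : Representation ℂ (Matrix.symplecticGroup (Fin n) F) (Fin k → ℂ)), ρ.IsIrreducible → 2 ≤ k → (Fintype.card F ^ n - 1) / 2 ≤ k) ∧
    (∃ ρ : Representation ℂ (Matrix.symplecticGroup (Fin n) F) (Fin ((Fintype.card F ^ n - 1) / 2) → ℂ), ρ.IsIrreducible) := by
  obtain ⟨m, rfl⟩ : ∃ m, n = m + 2 := ⟨n - 2, by omega⟩
  refine ⟨fun k ρ h hk => by
    have : _ ^ (m + 2) - 1 ≤ _ := lower hodd (by omega) ρ h hk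
    omega, ?_⟩
  have h2 : 2 * (2 : F)⁻¹ = 1 := mul_inv_cancel₀ (two_ne_zero_of_odd hodd)
  obtain ⟨ρ, l, hl⟩ := weil_ne (m := m) (AddChar.FiniteField.primitiveChar_to_Complex_isPrimitive F) h2
  have hd := (dims (ι := Fin (m + 2)) h2).2
  rw [Fintype.card_fun, Fintype.card_fin] at hd
  set k := (Fintype.card F ^ (m + 2) - 1) / 2 with hk
  let e : W F (Fin (m + 2)) (-1) ≃ₗ[ℂ] (Fin k → ℂ) := LinearEquiv.ofFinrankEq _ _ (by simp; omega)
  let σ : Representation ℂ _ (Fin k → ℂ) := (e.conjAlgEquiv ℂ : End ℂ _ →* End ℂ _).comp ρ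
  have hσ : σ (xs l) ≠ 1 := fun h => hl ((e.conjAlgEquiv ℂ).injective (by rw [map_one]; exact h))
  haveI : Nontrivial (Fin k → ℂ) := by
    by_contra h
    exact hσ (by rw [not_nontrivial_iff_subsingleton] at h; exact Subsingleton.elim _ _)
  refine ⟨σ, { exists_pair_ne := ⟨⊥, ⊤, fun h => bot_ne_top (congrArg Subrepresentation.toSubmodule h)⟩
               eq_bot_or_eq_top := fun U => ?_ }⟩
  by_contra! hU
  have h0 : U.toSubmodule ≠ ⊥ := fun h => hU.1 (Subrepresentation.toSubmodule_injective h)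
  have h1 : U.toSubmodule ≠ ⊤ := fun h => hU.2 (Subrepresentation.toSubmodule_injective h)
  have a0 := Submodule.finrank_lt h1
  have a1 := U.toSubmodule.finrank_quotient_add_finrank
  have a2 : finrank ℂ U.toSubmodule ≠ 0 := by rwa [Ne, Submodule.finrank_eq_zero]
  rw [finrank_fin_fun] at a0 a1
  have b1 : U.toRepresentation (xs l) = 1 := by
    by_contra h; have : _ ^ (m + 2) - 1 ≤ _ := bound hodd _ h; omega
  have b2 : σ.quotient U.toSubmodule (fun g v hv => U.apply_mem_toSubmodule g hv) (xs l) = 1 := by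
    by_contra h; have : _ ^ (m + 2) - 1 ≤ _ := bound hodd _ h; omega
  refine hσ (eq_one (CharP.ringChar_ne_zero_of_finite F) (by rw [← map_pow, Wt.pow_ringChar _ xs_mul, map_one])
    (LinearMap.ext fun v => ?_))
  have c1 : σ (xs l) v - v ∈ U.toSubmodule :=
    (Submodule.Quotient.eq _).1 (LinearMap.congr_fun b2 (Submodule.Quotient.mk v))
  exact sub_eq_zero.2 (congrArg Subtype.val (LinearMap.congr_fun b1 ⟨_, c1⟩))

end Cfsg.Agent.S2347
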