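import Cfsg.Statements.S2354
import Mathlib
import Cfsg.Agent.Lib.Perm.Law1
import Cfsg.Agent.Lib.Sz.Act

set_option autoImplicit false
open Cfsg

namespace Cfsg.Agent.S2354

open Perm.Law Suz Matrix

theorem corner {F : Type*} [Field F] [Finite F] [CharP F 2] {Γ : Type*} [Group Γ] (S : SzS F Γ) (g : Γ)
    (h : g • S.oo ≠ S.pt 0 0) : (S.ι g).1 0 0 ≠ 0 := by
  obtain ⟨c, hc⟩ := SzS.smul_eq_iff.1 (rfl : g • S.oo = g • S.oo)
  have h0 : c ≠ 0 := by
    rintro rfl
    rw [zero_smul] at hc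
    exact pv_ne _ _ (mulVec_injective_iff_isUnit.2 (S.ι g).isUnit (hc.trans (mulVec_zero _).symm))
  have h1 := congrFun hc 0
  have h2 : ((S.ι g).1 *ᵥ pv S.θ S.oo) 0 = (S.ι g).1 0 0 := by
    simp [SzS.oo, pv, mulVec, dotProduct, Fin.sum_univ_four]
  rw [h2] at h1
  rw [h1]
  refine mul_ne_zero h0 ?_
  by_cases h3 : g • S.oo = S.oo
  · rw [h3]; exact one_ne_zero
  · obtain ⟨x, y, e⟩ := S.exists_pt h3
    rw [e] at h ⊢
    intro h4
    obtain ⟨rfl, rfl⟩ := fz_eq_zero S.hθ h4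
    exact h rfl

/-- A non-trivial law holds in only finitely many Suzuki groups: for every non-trivial element w of the free group on countably many generators there is N such that for q = 2^(2m+1) with m ≥ N some substitution of elements of the Suzuki group over the field with q elements into w is not the identity. -/
theorem result (w : FreeGroup ℕ) (hw : w ≠ 1) :
    ∃ N : ℕ, ∀ (F : Type*) [Field F] [Fintype F] (m : ℕ), 1 ≤ m → N ≤ m →
      Fintype.card F = 2 ^ (2 * m + 1) →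
      ∃ f : ℕ → ↥(Cfsg.Lie.Sz F (2 ^ (m + 1))), FreeGroup.lift f w ≠ 1 := by
  obtain ⟨k, hk⟩ := exists_bound w.toWord
  refine ⟨8 * w.toWord.length + k + 2, fun F _ _ m hm hN hF => ?_⟩
  haveI := charTwo hF
  let S := szB hm hF
  have h0 : m < 2 ^ m := Nat.lt_two_pow_self
  have h1 : 2 ^ (2 * m + 1) = 2 ^ m * (2 * 2 ^ m) := by ring
  obtain ⟨φ, a1, a2⟩ := exists_pts (Ω := S.Ω) (k := k) (by
    have a : 2 * (k + 1) ≤ Nat.card F := by rw [Nat.card_eq_fintype_card, hF, h1]; nlinarith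
    rw [S.card_Ω]; nlinarith)
  choose c c1 c2 using fun i => SzS.exists_two (a1 i)
  have h2 : ∀ x, cc c S.w x • S.oo = φ x := by
    rintro ⟨i, _ | _⟩
    · simp only [cc, cond_false, mul_smul, S.w_oo, c2]
    · exact c1 i
  have h3 : ∀ x, cc c S.w x • S.pt 0 0 = φ (x.1, !x.2) := by
    rintro ⟨i, _ | _⟩
    · simp only [cc, cond_false, mul_smul, S.w_o, c1, Bool.not_false]
    · exact c2 i
  have h4 : 2 ≤ 2 ^ (m + 1) := Nat.le_self_pow (by omega) 2
  obtain ⟨f, hf⟩ := not_law ((Units.coeHom _).comp S.ι) 0 (d := 1 + 2 ^ (m + 1)) (by omega)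
    ![2 * (1 + 2 ^ (m + 1)), 2 ^ (m + 1) + 2, 2 ^ (m + 1), 0] rfl
    (fun i hi => by fin_cases i <;> simp_all <;> omega) S.d
    (fun t => by
      change _ • (S.ι (S.d t)).1 = _
      rw [S.ι_d, dM, S.θ_eq, ← diagonal_smul]
      congr 1
      have := t.ne_zero
      change _ • ![t * (t : F) ^ 2 ^ (m + 1), _, _, (t * (t : F) ^ 2 ^ (m + 1))⁻¹] = _
      ext i; fin_cases i <;> simp <;> field_simp <;> ring) S.w
    (fun t => by rw [S.w_d, S.d_inv, mul_inv_cancel_right])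
    w.toWord (fun h => hw (FreeGroup.toWord_eq_nil_iff.1 h)) c
    (chain_of FreeGroup.isReduced_toWord hk fun x y hx hy hxy => corner S ((cc c S.w x)⁻¹ * cc c S.w y) fun h => by
      rw [mul_smul, inv_smul_eq_iff, h2, h3] at h
      exact hxy (a2 _ _ hy hx h)) (by rw [hF, h1, pow_succ]; nlinarith)
  rw [FreeGroup.mk_toWord] at hf
  exact ⟨f, fun h => hf 1 (by simp) (by rw [h, map_one, one_smul])⟩

end Cfsg.Agent.S2354
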