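import Cfsg.Statements.S2355
import Mathlib
import Cfsg.Agent.Lib.Perm.Law2
import Cfsg.Agent.S0281

set_option autoImplicit false
open Cfsg

namespace Cfsg.Agent.S2355

open Perm.Law Matrix

/-- A non-trivial law is satisfied by only finitely many finite simple groups that are alternating or classical, up to isomorphism: for every non-trivial element w of the free group on countably many generators there is a bound N such that every alternating group of degree ≥ 5 and every simple classical group (linear, symplectic, unitary or orthogonal, in this problem's sense) in which w is a law has order at most N. -/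
theorem result (w : FreeGroup ℕ) (hw : w ≠ 1) :
    ∃ N : ℕ, ∀ (G : Type*) [Group G] [Finite G],
      (Cfsg.IsAlternating G ∨ Cfsg.IsPSL G ∨ Cfsg.IsPSp G ∨ Cfsg.IsPSU G ∨ Cfsg.IsPOmegaOdd G ∨
          Cfsg.IsPOmegaPlus G ∨ Cfsg.IsPOmegaMinus G) →
      (∀ f : ℕ → G, FreeGroup.lift f w = 1) → Nat.card G ≤ N := by
  obtain ⟨N1, h1⟩ := good_alt w hw
  obtain ⟨N, h2, h3, h4⟩ := exists_rep w hw
  refine ⟨max N1.factorial ((N * N) ^ ((2 * N + 2) * (2 * N + 2))), fun G _ _ hG hl => ?_⟩
  have hNN : N ≤ N * N := Nat.le_mul_self N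
  rcases hG with ⟨n, -, ⟨e⟩⟩ | ⟨F, _, _, n, hn, -, ⟨e⟩⟩ | ⟨F, _, _, n, hn, -, ⟨e⟩⟩ |
    ⟨F, _, _, n, q, hq, hn, -, ⟨e⟩⟩ | ⟨F, _, _, n, hn, -, ⟨e⟩⟩ | ⟨F, _, _, n, hn, ⟨e⟩⟩ |
    ⟨F, _, _, n, a, b, hn, -, ⟨e⟩⟩
  · refine le_max_of_le_left ?_
    by_cases h : N1 ≤ n
    · obtain ⟨f, hf⟩ := h1 n h
      have := hl (e.symm.toMonoidHom ∘ f)
      rw [lift_comp] at this
      exact (hf (e.symm.injective (this.trans (map_one _).symm))).elim
    · rw [Nat.card_congr e.toEquiv]
      refine (Subgroup.card_le_card_group _).trans ?_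
      rw [Nat.card_perm, Nat.card_eq_fintype_card, Fintype.card_fin]
      exact Nat.factorial_le (by omega)
  · by_cases h : N ≤ n ∨ N ≤ Fintype.card F
    · exact ((h2 F n hn h).false_SL e hl).elim
    · exact le_max_of_le_right (card_le (H := SpecialLinearGroup (Fin n) F) _ Subtype.val_injective e
        (by omega) (by simp; omega))
  · by_cases h : N ≤ n ∨ N ≤ Fintype.card F
    · exact ((h2 F n hn h).false_Sp e hl).elim
    · exact le_max_of_le_right (card_le _ Subtype.val_injective e (by omega) (by simp; omega))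
  · by_cases h : N ≤ n
    · refine ((h4 F n h).false_sub (K := SU n F q) (fun g ⟨σ, hσ⟩ u v => ?_) e hl).elim
      change hermForm n F q (g.1 *ᵥ u) (g.1 *ᵥ v) = _
      rw [hσ, hσ]
      exact Equiv.sum_comp σ fun i => u i * v i ^ q
    by_cases h' : N ≤ q
    · obtain ⟨p, _, k, hp, hk⟩ := FiniteField.card' F
      obtain ⟨j, -, rfl⟩ := (Nat.dvd_prime_pow hp).1 (hk ▸ hq ▸ dvd_pow_self q two_ne_zero : q ∣ p ^ (k : ℕ))
      haveI := Fact.mk hp
      have hj : j ≠ 0 := by
        rintro rfl
        have := Fintype.one_lt_card (α := F)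
        simp at hq; omega
      haveI : Fintype (GaloisField p j) := Fintype.ofFinite _
      have hK : Fintype.card (GaloisField p j) = p ^ j := by
        rw [← Nat.card_eq_fintype_card, GaloisField.card p j hj]
      obtain ⟨e2⟩ := S0281.result hq hK
      obtain ⟨e3⟩ := fin_equiv (m := n) (by omega)
      refine ((Rep.blk (P := fun M => ∀ u v, hermForm 2 F (p ^ j) (M *ᵥ u) (M *ᵥ v) = hermForm 2 F (p ^ j) u v)
        ⟨SU 2 F (p ^ j), _, (h3 _ (hK ▸ h')).equiv e2.symm, (slToMat 2 F).comp (Subgroup.subtype _),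
          fun a b h => Subtype.ext (Subtype.ext h), fun s => s.2⟩ e3
        (Q := fun M => ∀ u v, hermForm n F (p ^ j) (M *ᵥ u) (M *ᵥ v) = hermForm n F (p ^ j) u v)
        fun g hg u v => ?_).false_sub (K := SU n F (p ^ j)) (fun g hg => hg) e hl).elim
      have a := hg (u ∘ e3 ∘ Sum.inl) (v ∘ e3 ∘ Sum.inl)
      have b := fun i => congrFun (blk_mulVec e3 g u) i
      have c := fun i => congrFun (blk_mulVec e3 g v) i
      simp only [Function.comp_apply] at b c
      unfold hermForm at a ⊢
      rw [← Equiv.sum_comp e3, ← Equiv.sum_comp e3, Fintype.sum_sum_type, Fintype.sum_sum_type]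
      simp only [b, c, Sum.elim_inl, Sum.elim_inr, a, Function.comp_apply]
    · exact le_max_of_le_right (card_le (H := SU n F q) (ι := Fin n) (F := F) (fun x => x.1.1)
        (fun a b h => Subtype.ext (Subtype.ext h)) e
        (by rw [hq, sq]; exact Nat.mul_le_mul (by omega) (by omega)) (by simp; omega))
  · by_cases h : N ≤ n ∨ N ≤ Fintype.card F
    · refine (((h2 F n (by omega) h).hyp.blk (Equiv.sumComm _ Unit) ?_).false_O e hl).elim
      rintro _ ⟨A, B, rfl, hAB⟩ v
      have b := fun i => congrFun (blk_mulVec (Equiv.sumComm _ Unit) (fromBlocks A 0 0 Bᵀ) v) i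
      have b1 := fun i => b (.inl i)
      have b2 := b (.inr ())
      simp only [Function.comp_apply, Equiv.sumComm_apply, Sum.swap_inl, Sum.swap_inr, Sum.elim_inl,
        Sum.elim_inr] at b1 b2
      unfold quadFormOdd
      simp only [b1, b2, hyp_form hAB]
      rfl
    · exact le_max_of_le_right (card_le (fun x => x.1.1.1)
        (fun a b h => Subtype.ext (Subtype.ext (Units.ext h))) e (by omega) (by simp; omega))
  · by_cases h : N ≤ n ∨ N ≤ Fintype.card F
    · obtain ⟨S, _, hS, ρ, a, b⟩ := (h2 F n (by omega) h).hyp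
      refine (Rep.false_O ⟨S, _, hS, ρ, a, fun s v => ?_⟩ e hl).elim
      obtain ⟨A, B, e, hAB⟩ := b s
      rw [e]
      exact hyp_form hAB v
    · exact le_max_of_le_right (card_le (fun x => x.1.1.1)
        (fun a b h => Subtype.ext (Subtype.ext (Units.ext h))) e (by omega) (by simp; omega))
  · by_cases h : N ≤ n - 1 ∨ N ≤ Fintype.card F
    · refine (((h2 F (n - 1) (by omega) h).hyp.blk (Equiv.refl (_ ⊕ Fin 2)) ?_).false_O e hl).elim
      rintro _ ⟨A, B, rfl, hAB⟩ v
      have b := fun i => congrFun (blk_mulVec (Equiv.refl (_ ⊕ Fin 2)) (fromBlocks A 0 0 Bᵀ) v) i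
      have b1 := fun i => b (.inl i)
      have b2 := fun i => b (.inr i)
      simp only [Function.comp_apply, Equiv.refl_apply, Sum.elim_inl, Sum.elim_inr] at b1 b2
      unfold quadFormMinus
      simp only [b1, b2, hyp_form hAB]
      rfl
    · exact le_max_of_le_right (card_le (fun x => x.1.1.1)
        (fun a b h => Subtype.ext (Subtype.ext (Units.ext h))) e (by omega) (by simp; omega))

end Cfsg.Agent.S2355
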