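import Cfsg.Statements.S2356
import Cfsg.Agent.Lib.Chev.SU3I

set_option autoImplicit false
open Cfsg

namespace Cfsg.Agent.S2356

open Cfsg.Agent.Chev.U3

/-- Let q be odd, F the field with q² elements, S = SU_3(F) (determinant-one isometries of the standard Hermitian form) and t an involution of S. Then: exactly q(q−1) involutions other than t commute with t; exactly q(q−2)(q²−1) involutions do not commute with t but commute with some involution commuting with t; exactly (q+1)(q²−1) involutions x do not commute with t and admit no involution commuting with both t and x; and every involution can be reached from t in at most three steps, each step going to an involution that commutes with the previous one (the commuting involution graph is connected of diameter 3). -/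
theorem result {F : Type*} [Field F] [Fintype F] {q : ℕ} (hq : Odd q)
    (hF : Fintype.card F = q ^ 2) (t : ↥(Cfsg.SU 3 F q)) (ht : t ≠ 1) (ht2 : t * t = 1) :
    Nat.card {x : ↥(Cfsg.SU 3 F q) // x ≠ 1 ∧ x * x = 1 ∧ x ≠ t ∧ Commute t x} = q * (q - 1) ∧
    Nat.card {x : ↥(Cfsg.SU 3 F q) // x ≠ 1 ∧ x * x = 1 ∧ ¬ Commute t x ∧
        ∃ y : ↥(Cfsg.SU 3 F q), y ≠ 1 ∧ y * y = 1 ∧ Commute t y ∧ Commute y x} = q * (q - 2) * (q ^ 2 - 1) ∧
    Nat.card {x : ↥(Cfsg.SU 3 F q) // x ≠ 1 ∧ x * x = 1 ∧ ¬ Commute t x ∧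
        ∀ y : ↥(Cfsg.SU 3 F q), y ≠ 1 → y * y = 1 → ¬ (Commute t y ∧ Commute y x)} = (q + 1) * (q ^ 2 - 1) ∧
    ∀ x : ↥(Cfsg.SU 3 F q), x ≠ 1 → x * x = 1 →
      ∃ y z : ↥(Cfsg.SU 3 F q), y ≠ 1 ∧ y * y = 1 ∧ z ≠ 1 ∧ z * z = 1 ∧
        Commute t y ∧ Commute y z ∧ Commute z x := by
  obtain ⟨φ, rfl⟩ := exists_aut hF hq ht ht2
  refine ⟨(Nat.card_congr (φ.toEquiv.subtypeEquiv fun x => ?_)).symm.trans (card_d1 hF hq),
    (Nat.card_congr (φ.toEquiv.subtypeEquiv fun x => ?_)).symm.trans (card_d2 hF hq),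
    (Nat.card_congr (φ.toEquiv.subtypeEquiv fun x => ?_)).symm.trans (card_d3 hF hq), fun x a b => ?_⟩
  · simp only [MulEquiv.toEquiv_eq_coe, MulEquiv.coe_toEquiv, ← map_mul, Ne, MulEquiv.map_eq_one_iff, EmbeddingLike.apply_eq_iff_eq, commute_map_iff φ.injective]
  · rw [φ.surjective.exists (p := fun y => y ≠ 1 ∧ y * y = 1 ∧ Commute (φ _) y ∧ _)]
    simp only [MulEquiv.toEquiv_eq_coe, MulEquiv.coe_toEquiv, ← map_mul, Ne, MulEquiv.map_eq_one_iff, commute_map_iff φ.injective]
  · rw [φ.surjective.forall (p := fun y => y ≠ 1 → y * y = 1 → ¬ (Commute (φ _) y ∧ _))]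
    simp only [MulEquiv.toEquiv_eq_coe, MulEquiv.coe_toEquiv, ← map_mul, Ne, MulEquiv.map_eq_one_iff, commute_map_iff φ.injective]
  obtain ⟨x, rfl⟩ := φ.surjective x
  obtain ⟨y, z, h⟩ := path hF hq (x := x) (by simpa using a) (by simpa [← map_mul] using b)
  exact ⟨φ y, φ z, by simpa only [← map_mul, Ne, MulEquiv.map_eq_one_iff, commute_map_iff φ.injective] using h⟩

end Cfsg.Agent.S2356
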