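import Cfsg.Statements.S2360
import Cfsg.Agent.Lib.Chev.SU3I

set_option autoImplicit false
open Cfsg

namespace Cfsg.Agent.S2360

open Cfsg.Agent.Chev.U3

/-- Let q be odd, F the field with q² elements and S = SU_3(F) (determinant-one isometries of the standard Hermitian form). Then all involutions of S are conjugate; there are exactly q²(q²−q+1) of them; the centralizer of an involution has order q(q+1)(q²−1), the order of the full unitary group of degree 2; and for two distinct commuting involutions t and x there is exactly one further involution commuting with both. -/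
theorem result {F : Type*} [Field F] [Fintype F] {q : ℕ} (hq : Odd q)
    (hF : Fintype.card F = q ^ 2) (t : ↥(Cfsg.SU 3 F q)) (ht : t ≠ 1) (ht2 : t * t = 1) :
    (∀ x : ↥(Cfsg.SU 3 F q), x ≠ 1 → x * x = 1 → ∃ g : ↥(Cfsg.SU 3 F q), g * t * g⁻¹ = x) ∧
    Nat.card {x : ↥(Cfsg.SU 3 F q) // x ≠ 1 ∧ x * x = 1} = q ^ 2 * (q ^ 2 - q + 1) ∧
    Nat.card ↥(Subgroup.centralizer ({t} : Set ↥(Cfsg.SU 3 F q))) = q * (q + 1) * (q ^ 2 - 1) ∧
    ∀ x : ↥(Cfsg.SU 3 F q), x ≠ 1 → x * x = 1 → x ≠ t → Commute t x →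
      Nat.card {y : ↥(Cfsg.SU 3 F q) // y ≠ 1 ∧ y * y = 1 ∧ y ≠ t ∧ y ≠ x ∧ Commute t y ∧ Commute x y} = 1 := by
  have h1 := card_all hF hq
  refine ⟨fun x a b => isConj_iff.1 (isConj hF hq ht ht2 a b), h1, ?_, fun x a b c d => ?_⟩
  · have h2 := Char.card_isConj_mul_card_centralizer t
    have h3 := S0278.result hF 3 (by omega)
    rw [Nat.card_congr (Equiv.subtypeEquivRight (q := fun x => x ≠ 1 ∧ x * x = 1) fun x => ⟨fun e => by
      obtain ⟨g, rfl⟩ := isConj_iff.1 e
      exact ⟨by simpa [conj_eq_one_iff] using ht, by rw [conj_mul, ht2, mul_one, mul_inv_cancel]⟩, fun e => isConj hF hq ht ht2 e.1 e.2⟩), h1] at h2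
    rw [← h2] at h3
    simp only [Finset.prod_range_succ, Finset.range_zero, Finset.prod_empty] at h3
    have h4 := Classical.two_le_of_card_sq hF
    have h5 : q ≤ q ^ 2 := by nlinarith
    have h6 : 1 ≤ q ^ 2 := by nlinarith
    norm_num at h3
    refine Nat.eq_of_mul_eq_mul_left (n := (q + 1) * (q ^ 2 * (q ^ 2 - q + 1))) (by positivity) ?_
    rw [mul_assoc, h3]
    zify [h5, h6]
    ring
  obtain ⟨φ, rfl⟩ := exists_aut hF hq ht ht2
  obtain ⟨x, rfl⟩ := φ.surjective x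
  have e : ∀ z, φ (t₀ hF) * φ (t₀ hF) * z = z := fun z => by rw [ht2, one_mul]
  refine Nat.card_eq_one_iff_unique.2 ⟨⟨fun ⟨y, hy⟩ ⟨y', hy'⟩ => ?_⟩, ⟨φ (t₀ hF) * φ x, fun f => c ?_, ?_, by simpa using a, by simpa using ht,
    (Commute.refl _).mul_right d, d.symm.mul_right (.refl _)⟩⟩
  · obtain ⟨y, rfl⟩ := φ.surjective y
    obtain ⟨y', rfl⟩ := φ.surjective y'
    simp only [← map_mul, Ne, MulEquiv.map_eq_one_iff, EmbeddingLike.apply_eq_iff_eq, commute_map_iff φ.injective] at a b c d hy hy'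
    exact Subtype.ext (congrArg φ (uniq hF hq ⟨a, b, c, d⟩ hy hy'))
  · rw [← e (φ x), mul_assoc, f, mul_one]
  · rw [d.symm.mul_mul_mul_comm, ht2, b, mul_one]

end Cfsg.Agent.S2360
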