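import Cfsg.Statements.S2363
import Cfsg.Agent.Lib.Chev.OrdBd
import Cfsg.Agent.S0243
import Cfsg.Agent.S0280
import Cfsg.Agent.S0292
import Cfsg.Agent.S0293
import Cfsg.Agent.S0294
import Cfsg.Agent.S1059
import Cfsg.Agent.S1062
import Cfsg.Agent.S1063
import Cfsg.Agent.S1064
import Cfsg.Agent.S1065
import Cfsg.Agent.S1066
import Cfsg.Agent.S1067
import Cfsg.Agent.S1068
import Cfsg.Agent.S1069
import Cfsg.Agent.S1163

set_option autoImplicit false
open Cfsg

namespace Cfsg.Agent.S2363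

set_option maxHeartbeats 1600000 in
open Cfsg.Agent.Chev.OrdBd Cfsg.Agent.Classical Finset in

/-- Let G be a finite simple group of Lie type in characteristic p and let p^k be the exact power of p dividing the order of G. Then the order of G is less than p^(3k); and unless G is isomorphic to PSL(2, F) for the field F with p^k elements, the cube of the order of G is less than p^(8k) (that is, the order is below p^(8k/3)). -/
theorem result {G : Type*} [Group G] [Finite G] (p : ℕ) (hp : p.Prime) (hG : Cfsg.IsLieTypeChar p G) :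
    Nat.card G < p ^ (3 * (Nat.card G).factorization p) ∧
      ((¬ ∃ (F : Type) (_ : Field F) (_ : Fintype F), Fintype.card F = p ^ (Nat.card G).factorization p ∧
          Nonempty (G ≃* Matrix.ProjectiveSpecialLinearGroup (Fin 2) F)) →
        Nat.card G ^ 3 < p ^ (8 * (Nat.card G).factorization p)) := by
  have hc : Nat.card G ≠ 0 := Nat.card_pos.ne'
  have cp := fun (F : Type) [Field F] [Fintype F] [CharP F p] => card_pow F hp one_ne_zero (pow_one _).symm
  have gp : ∀ {n a : ℕ}, n ≠ 0 → 1 ≤ Nat.gcd n a := fun h => Nat.gcd_pos_of_pos_left _ (Nat.pos_of_ne_zero h)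
  rcases hG with ⟨F, _, _, _, n, h1, -, ⟨e⟩⟩ | ⟨F, _, _, _, m, h1, -, ⟨e⟩⟩ | ⟨F, _, _, _, n, q, hF, h1, -, ⟨e⟩⟩ | ⟨F, _, _, _, m, h1, h2, ⟨e⟩⟩ |
    ⟨F, _, _, _, m, h1, ⟨e⟩⟩ | ⟨F, _, _, _, m, a, b, h1, h2, ⟨e⟩⟩ | ⟨F, _, _, _, h⟩ | ⟨F, _, _, _, q, h1, ⟨hF, ⟨e⟩⟩ | ⟨hF, ⟨e⟩⟩⟩ |
    ⟨rfl, F, _, _, m, h1, hF, ⟨e⟩⟩ | ⟨rfl, F, _, _, m, h1, hF, ⟨e⟩⟩ | ⟨rfl, F, _, _, m, h1, hF, ⟨e⟩⟩
  · obtain ⟨h2, h3⟩ := cp F
    have h4 := S0243.result (F := F) rfl n h1
    rw [← Nat.card_congr e.toEquiv, ← mul_assoc] at h4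
    set q := Fintype.card F with hq
    have h5 : (q - 1).Coprime q := by simpa using cop_sub h2 one_ne_zero
    have h6 := (cop_gcd h5 n).mul_left h5
    obtain ⟨k, rfl⟩ : ∃ k, n = k + 1 + 1 := ⟨n - 2, by omega⟩
    have h7 : q ^ (∑ i ∈ range (k + 1 + 1), i) ∣ Nat.gcd (k + 1 + 1) (q - 1) * (q - 1) * Nat.card G := by
      rw [h4, sum_range, ← prod_pow_eq_pow_sum]
      exact prod_dvd_prod_of_dvd _ _ fun i _ => Nat.dvd_sub (pow_dvd_pow _ i.2.le) dvd_rfl
    have h8 : Nat.gcd (k + 1 + 1) (q - 1) * (q - 1) * Nat.card G < Nat.gcd (k + 1 + 1) (q - 1) * (q - 1) * q ^ ((k + 1 + 1) * (k + 1) + (k + 1)) := by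
      rw [h4, Fin.prod_univ_castSucc, pow_add _ _ (k + 1), mul_left_comm, pow_mul, ← Fin.prod_const (k + 1) (q ^ _)]
      refine Nat.mul_lt_mul_of_lt_of_le (prod_lt_prod_of_nonempty (fun (i : Fin (k + 1)) _ => Nat.sub_pos_of_lt (Nat.pow_lt_pow_right h2 i.castSucc.2))
        (fun i _ => Nat.sub_lt (by positivity) (by positivity)) univ_nonempty) ?_ (by have := gp (a := q - 1) (by omega : k + 1 + 1 ≠ 0); have : 0 < q - 1 := by omega
                                                                                      positivity)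
      rw [mul_assoc, Fin.val_last, pow_succ', Nat.sub_one_mul]
      exact Nat.le_mul_of_pos_left _ (gp (by omega))
    rcases k with _ | k
    swap
    · exact fin_of hp (big_of hp h3 hc h7 h6 h8 (by have := sum_range_id_mul_two (k + 1 + 1 + 1); simp only [Nat.add_sub_cancel] at this; clear * - this; nlinarith))
    obtain ⟨f, hf⟩ := h3
    have h9 : (Nat.card G).factorization p = f := by
      have := congrArg (·.factorization p) h4
      have i1 : ∀ {a : ℕ}, a.Coprime q → a.factorization p = 0 := fun h => Nat.factorization_eq_zero_of_not_dvd fun e => hp.one_lt.ne'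
        (Nat.eq_one_of_dvd_coprimes h e (hf ▸ dvd_pow_self p (by rintro rfl; simp [hf] at h2)))
      have i2 : q - 1 ≠ 0 := by omega
      have i3 : q ^ 2 - q = q * (q - 1) := by rw [Nat.mul_sub_one, sq]
      have i4 : q ^ 2 - 1 ≠ 0 := Nat.sub_ne_zero_of_lt (by nlinarith)
      simp only [Fin.prod_univ_succ, zero_add, Fin.val_zero, pow_zero, Fin.val_succ, pow_one, Fin.prod_univ_zero, mul_one, one_add_one_eq_two, i3] at this
      rw [Nat.factorization_mul (by positivity) hc, Nat.factorization_mul i4 (by positivity), Nat.factorization_mul (a := q) (by omega) i2] at this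
      simp only [Finsupp.add_apply, i1 h5, i1 (cop_sub h2 two_ne_zero), i1 ((cop_gcd h5 2).mul_left h5), zero_add, add_zero] at this
      rw [this, hf, hp.factorization_pow, Finsupp.single_eq_same]
    exact ⟨by rw [h9, mul_comm, pow_mul, ← hf]; exact Nat.lt_of_mul_lt_mul_left h8, fun h => absurd ⟨F, _, _, h9 ▸ hf, ⟨e⟩⟩ h⟩
  · obtain ⟨h2, h3⟩ := cp F
    obtain ⟨k, rfl⟩ : ∃ k, m = k + 1 := ⟨m - 1, by omega⟩
    have h4 := card_symp (k + 1) (spForm (k + 1) F) (spForm_nondeg _) (by simp; omega)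
    rw [← Nat.card_congr (spEquiv _ F).toEquiv, Subgroup.card_eq_card_quotient_mul_card_subgroup (Subgroup.center _), ← Nat.card_congr e.toEquiv,
      Nat.card_congr (Subgroup.centerCongr (spEquiv _ F)).toEquiv, card_center_symp (spForm_nondeg _) (by simp), mul_comm, Nat.card_eq_fintype_card (α := F)] at h4
    exact fin_of hp (big_of' hp h3 hc h4 (cop_gcd (by simpa using cop_sub h2 one_ne_zero) _) (gp two_ne_zero) (by simpa using prod_lt h2 k) (by clear * - h1; nlinarith))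
  · obtain ⟨h2, h3⟩ := card_pow F hp two_ne_zero hF
    have h4 := S0280.result hF n (by omega)
    rw [← Nat.card_congr e.toEquiv, ← mul_assoc] at h4
    have h5 : (q + 1).Coprime q := by simp
    have h6 := fun D => big_of' (D := D) hp h3 hc h4 ((cop_gcd h5 n).mul_left h5) (Nat.le_mul_of_pos_left _ (gp (by omega)))
    obtain ⟨k, rfl | rfl⟩ : ∃ k, n = 2 * k + 1 + 1 + 1 ∨ n = 2 * (k + 1) + 1 + 1 := ⟨(n - 3) / 2, by omega⟩
    · refine fin_of hp (h6 (k * (2 * k + 3) + (2 * (2 * k + 1 + 1) + 1)) ?_ ?_)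
      · rw [prod_range_succ, prod_range_succ, if_neg (by simp), if_pos (by simp [parity_simps]), mul_assoc, pow_add q (k * _), ← mul_assoc (q + 1)]
        exact Nat.mul_lt_mul_of_le_of_lt (su_le h2 k) (su_step h2 _) (by positivity)
      · rw [Nat.add_sub_cancel, show (2 * k + 1 + 1 + 1) * (2 * k + 1 + 1) = (2 * k + 3) * (k + 1) * 2 by ring, Nat.mul_div_cancel _ two_pos]; clear * - k; nlinarith
    · refine fin_of hp (h6 ((k + 1) * (2 * (k + 1) + 3) + (2 * (k + 1) + 1 + 1)) ?_ ?_)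
      · rw [prod_range_succ, if_neg (by simp), pow_add q (_ * _), ← mul_assoc (q + 1)]
        exact Nat.mul_lt_mul_of_le_of_lt (su_le h2 _) (m1 h2 _) (by positivity)
      · rw [Nat.add_sub_cancel, show (2 * (k + 1) + 1 + 1) * (2 * (k + 1) + 1) = (2 * k + 3) * (k + 2) * 2 by ring, Nat.mul_div_cancel _ two_pos]; clear * - k; nlinarith
  · obtain ⟨h5, h3⟩ := cp F
    obtain ⟨k, rfl⟩ : ∃ k, m = k + 1 := ⟨m - 1, by omega⟩
    have h4 := S0292.result rfl h2 _ h1
    rw [← Nat.card_congr e.toEquiv] at h4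
    exact fin_of hp (big_of' hp h3 hc h4 (by simpa) one_le_two (by simpa using prod_lt h5 k) (by clear * - h1; nlinarith))
  · obtain ⟨h2, h3⟩ := cp F
    obtain ⟨k, rfl⟩ : ∃ k, m = k + 1 := ⟨m - 1, by omega⟩
    have h4 := S0293.result (F := F) rfl _ h1
    rw [← Nat.card_congr e.toEquiv, mul_assoc, Nat.add_sub_cancel] at h4
    exact fin_of hp (big_of' hp h3 hc h4 (cop_gcd (cop_sub h2 (by omega)) _) (gp four_ne_zero) (by simpa using ml (m1 h2 _) (prod_le h2 k) h2) (by clear * - h1; nlinarith))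
  · obtain ⟨h5, h3⟩ := cp F
    have h4 := S0294.result (F := F) rfl _ h1 a b h2
    obtain ⟨k, rfl⟩ : ∃ k, m = k + 1 + 1 := ⟨m - 2, by omega⟩
    rw [← Nat.card_congr e.toEquiv, mul_assoc, Nat.add_sub_cancel, mul_comm (_ + 1) (∏ i ∈ _, _)] at h4
    exact fin_of hp (big_of' hp h3 hc h4 (cop_gcd (cop_add (by omega)) _) (gp four_ne_zero) (by simpa using ml (prod_lt h5 k) (p1 h5 _) h5) (by clear * - h1; nlinarith))
  · obtain ⟨h2, h3⟩ := cp F
    have h5 : ∀ n, (Nat.gcd n (Fintype.card F - 1)).Coprime (Fintype.card F) := cop_gcd (by simpa using cop_sub h2 one_ne_zero)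
    have l := fun a => (m1 h2 a).le
    rcases h with ⟨-, ⟨e⟩⟩ | ⟨⟨e⟩⟩ | ⟨⟨e⟩⟩ | ⟨⟨e⟩⟩ | ⟨⟨e⟩⟩ <;> rw [Nat.card_congr e.toEquiv] at hc ⊢ <;> refine fin_of hp ?_
    · exact big_of' (N := 6) hp h3 hc (by rw [one_mul, S1059.result rfl]; ring) (by simp) le_rfl ((ml (m1 h2 2) (l 6) h2).trans_eq (one_mul _).symm) (by simp)
    · exact big_of' (N := 24) hp h3 hc (by rw [one_mul, S1062.result rfl]; ring) (by simp) le_rfl
        ((ml (ml (ml (m1 h2 2) (l 6) h2) (l 8) h2) (l 12) h2).trans_eq (one_mul _).symm) (by simp)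
    · exact big_of' (N := 36) hp h3 hc (by rw [S1063.result rfl]; ring) (h5 3) (gp three_ne_zero)
        ((ml (ml (ml (ml (ml (m1 h2 2) (l 5) h2) (l 6) h2) (l 8) h2) (l 9) h2) (l 12) h2).trans_eq (one_mul _).symm) (by simp)
    · exact big_of' (N := 63) hp h3 hc (by rw [S1064.result rfl]; ring) (h5 2) (gp two_ne_zero)
        ((ml (ml (ml (ml (ml (ml (m1 h2 2) (l 6) h2) (l 8) h2) (l 10) h2) (l 12) h2) (l 14) h2) (l 18) h2).trans_eq (one_mul _).symm) (by simp)
    · exact big_of' (N := 120) hp h3 hc (by rw [one_mul, S1065.result rfl]; ring) (by simp) le_rfl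
        ((ml (ml (ml (ml (ml (ml (ml (m1 h2 2) (l 8) h2) (l 12) h2) (l 14) h2) (l 18) h2) (l 20) h2) (l 24) h2) (l 30) h2).trans_eq (one_mul _).symm) (by simp)
  · obtain ⟨h2, h3⟩ := card_pow F hp two_ne_zero hF
    have l := fun a => (m1 h2 a).le
    rw [Nat.card_congr e.toEquiv] at hc ⊢
    exact fin_of hp (big_of' (N := 36) hp h3 hc (by rw [S1066.result h1 hF]; ring) (cop_gcd (by simp) 3) (gp three_ne_zero)
      ((ml (ml (ml (ml (ml (m1 h2 2) (p1 h2 5) h2) (l 6) h2) (l 8) h2) (p1 h2 9) h2) (l 12) h2).trans_eq (one_mul _).symm) (by simp))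
  · obtain ⟨h2, h3⟩ := card_pow F hp three_ne_zero hF
    have h4 : q ^ 8 + q ^ 4 + 1 ≤ q ^ 10 := by
      have := Nat.pow_le_pow_right (by omega : 0 < q) (by omega : 4 ≤ 8)
      have := Nat.one_le_pow 8 q (by omega)
      rw [show q ^ 10 = q ^ 8 * (q * q) by ring]; nlinarith [Nat.mul_le_mul h2 h2]
    rw [Nat.card_congr e.toEquiv] at hc ⊢
    exact fin_of hp (big_of' (N := 12) hp h3 hc (by rw [one_mul, S1067.result h1 hF]; ring) (by simp) le_rfl
      ((ml (ml (m1 h2 2) (m1 h2 6).le h2) h4 h2).trans_eq (one_mul _).symm) (by simp))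
  · rw [Nat.card_congr e.toEquiv] at hc ⊢
    refine fin_of hp (big_of' (N := 2) (D := 3) hp ⟨_, rfl⟩ hc (by rw [one_mul, (S1163.result h1 hF).1, mul_assoc]) (by simp) le_rfl ?_ (by simp))
    simpa using su_step (q := 2 ^ (2 * m + 1)) (Nat.le_self_pow (by simp) 2) 1
  · have h2 : 2 ≤ 2 ^ (2 * m + 1) := Nat.le_self_pow (by simp) 2
    rw [Nat.card_congr e.toEquiv] at hc ⊢
    exact fin_of hp (big_of' (N := 12) hp ⟨_, rfl⟩ hc (by rw [one_mul, S1068.result hF, pow_one]; ring) (by simp) le_rfl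
      ((ml (ml (ml (m1 h2 1) (p1 h2 3) h2) (m1 h2 4).le h2) (p1 h2 6) h2).trans_eq (one_mul _).symm) (by simp))
  · have h2 : 2 ≤ 3 ^ (2 * m + 1) := (by simp : 2 ≤ 3).trans (Nat.le_self_pow (by simp) 3)
    rw [Nat.card_congr e.toEquiv] at hc ⊢
    exact fin_of hp (big_of' (N := 3) hp ⟨_, rfl⟩ hc (by rw [one_mul, S1069.result hF, pow_one]; ring) (by simp) le_rfl
      ((ml (m1 h2 1) (p1 h2 3) h2).trans_eq (one_mul _).symm) (by simp))

end Cfsg.Agent.S2363
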