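import Cfsg.Statements.S2365
import Cfsg.Agent.Lib.Chev.PAdj

set_option autoImplicit false
open Cfsg

namespace Cfsg.Agent.S2365

open Cfsg.Agent.Chev.PAdj

/-- Let q be a power of the prime p, F the field with q² elements, m ≥ 4, and let a, b be commuting elements of PSU(m, q) with a of order p. Then every prime divisor of the order of b divides the order of SU(m − 2, q). -/
theorem result {F : Type*} [Field F] [Fintype F] (p : ℕ) [Fact p.Prime] [CharP F p] (m q : ℕ) (hm : 4 ≤ m) (hF : Fintype.card F = q ^ 2)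
    (a b : Cfsg.PSU m F q) (ha : orderOf a = p) (hab : Commute a b) :
    (orderOf b).primeFactors ⊆ (Nat.card ↥(Cfsg.SU (m - 2) F q)).primeFactors := by
  intro r hr
  obtain ⟨h1, h2, h3⟩ := Nat.mem_primeFactors.1 hr
  refine Nat.mem_primeFactors.2 ⟨h1, ?_, Nat.card_pos.ne'⟩
  by_cases e : r ∣ q + 1
  · exact dvd_SU hF hm h1 (.inr ⟨0, by omega, by simpa using e⟩)
  have h4 : p ∣ q := by
    obtain ⟨n, -, hn⟩ := FiniteField.card F p
    exact (Fact.out : p.Prime).dvd_of_dvd_pow (hF ▸ hn ▸ dvd_pow_self _ n.ne_zero)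
  have h5 := orderOf_pow_orderOf_div h3 h2
  obtain ⟨u, y, a1, a2, a3, a4, a5⟩ := lift (n := q + 1) (p := p) (r := r) (fun z hz => by
    obtain ⟨c, hc⟩ := Nat.gcd_dvd_right m (q + 1)
    rw [hc, pow_mul, ← S0279.result hF m (by omega), show z ^ _ = 1 from congrArg Subtype.val (pow_card_eq_one' (x := (⟨z, hz⟩ : Subgroup.center _))), one_pow])
    (hab.pow_right (orderOf b / r)) (ha ▸ pow_orderOf_eq_one a) (orderOf_dvd_iff_pow_eq_one.1 h5.dvd)
    (fun f => (Fact.out : p.Prime).not_dvd_one ((Nat.dvd_add_right h4).1 (ha ▸ orderOf_dvd_of_pow_eq_one f)))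
    fun f => e (h5 ▸ orderOf_dvd_of_pow_eq_one f)
  exact dvd_of_comm hF hm h1 a1 a2 a3 a4 a5

end Cfsg.Agent.S2365
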