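import Cfsg.Statements.S2367
import Mathlib

set_option autoImplicit false
open Cfsg

namespace Cfsg.Agent.S2367
section
open Pointwise commutatorElement Subgroup
theorem key {N p : ℕ} (a : ℕ) (hp : p.Prime) (hodd : p ≠ 2) (h3 : N.factorization p = 3)
    (h : 2 ^ a ∣ N ∧ N ∣ (Nat.factorial 71) ^ 46 ∧ ∀ q ∈ [3, 5, 7, 11, 13, 17, 19, 23, 29, 31, 37, 41, 43, 47, 53, 59, 61, 67, 71],
      q ^ 3 ∣ N → ¬ q ^ 4 ∣ N → q ^ 3 < 2 ^ a) : p ^ 3 < 2 ^ N.factorization 2 := by
  have N0 : N ≠ 0 := by rintro rfl; simp at h3
  have h1 : p ^ 3 ∣ N := (hp.pow_dvd_iff_le_factorization N0).2 h3.ge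
  have h2 : p ≤ 71 := hp.dvd_factorial.1 (hp.dvd_of_dvd_pow ((dvd_pow_self p (by norm_num)).trans (h1.trans h.2.1)))
  refine (h.2.2 p ?_ h1 fun e => ?_).trans_le
    (Nat.pow_le_pow_right (by norm_num) ((Nat.prime_two.pow_dvd_iff_le_factorization N0).1 h.1))
  · clear h h1 h3
    interval_cases p <;> first | decide | exact absurd rfl hodd | exact absurd hp (by decide)
  · have := (hp.pow_dvd_iff_le_factorization N0).1 e
    omega

theorem two_pow (k : ℕ) : 2 ^ k ∣ (2 * k).factorial := by
  induction k with
  | zero => simp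
  | succ k ih =>
    rw [show 2 * (k + 1) = 2 * k + 1 + 1 by ring, Nat.factorial_succ, Nat.factorial_succ, pow_succ']
    exact mul_dvd_mul ⟨k + 1, by ring⟩ (ih.mul_left _)

theorem cube (k : ℕ) (hk : 10 ≤ k) : (2 * k + 6) ^ 3 < 27 * 2 ^ k := by
  induction k, hk using Nat.le_induction with
  | base => norm_num
  | succ k hk ih =>
    have : (2 * (k + 1) + 6) ^ 3 ≤ 2 * (2 * k + 6) ^ 3 := by
      obtain ⟨j, rfl⟩ := Nat.exists_eq_add_of_le hk
      ring_nf
      nlinarith [Nat.zero_le (j ^ 3), Nat.zero_le (j ^ 2)]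
    rw [pow_succ 2]
    omega
end

/-- Let G be an alternating group of degree at least 5 or a simple group with the order of one of the 26 sporadic groups, and let p be an odd prime such that p³ is the exact power of p dividing the order of G. Then p³ is less than the 2-part of the order of G. -/
theorem result {G : Type*} [Group G] [Finite G] (hG : Cfsg.IsAlternating G ∨ Cfsg.IsSporadic G)
    (p : ℕ) (hp : p.Prime) (hodd : p ≠ 2) (h3 : (Nat.card G).factorization p = 3) :
    p ^ 3 < 2 ^ (Nat.card G).factorization 2 := by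
  open Pointwise commutatorElement Subgroup in
  rcases hG with ⟨n, hn, ⟨e⟩⟩ | h
  · haveI : Nontrivial (Fin n) := Fin.nontrivial_iff_two_le.2 (by omega)
    have hc : 2 * Nat.card G = n.factorial := by
      rw [Nat.card_congr e.toEquiv, two_mul_nat_card_alternatingGroup, Nat.card_perm, Nat.card_fin]
    by_cases h : n ≤ 21
    · have e : Nat.card G = n.factorial / 2 := by omega
      rw [e] at h3 ⊢
      refine key (if n < 15 then 0 else 10) hp hodd h3 ?_
      clear e hc h3 this
      interval_cases n <;> decide +kernel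
    haveI := Fact.mk hp
    have N0 : Nat.card G ≠ 0 := Nat.card_pos.ne'
    have h1 := sub_one_mul_padicValNat_factorial (p := p) n
    rw [← hc, padicValNat.mul (by norm_num) N0, padicValNat_primes hodd, ← Nat.factorization_def _ hp, h3] at h1
    obtain ⟨k, hk⟩ : ∃ k, n / 2 = k + 1 := ⟨n / 2 - 1, by omega⟩
    have h2 := (two_pow (k + 1)).trans (Nat.factorial_dvd_factorial (show 2 * (k + 1) ≤ n by omega))
    rw [← hc, pow_succ', Nat.mul_dvd_mul_iff_left (by norm_num)] at h2
    refine lt_of_lt_of_le ?_ (Nat.pow_le_pow_right (by norm_num) ((Nat.prime_two.pow_dvd_iff_le_factorization N0).1 h2))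
    have h4 := cube k (by omega)
    have h5 := Nat.pow_le_pow_left (show 3 * p ≤ 2 * k + 6 by omega) 3
    rw [mul_pow] at h5
    omega
  rcases h with h | h | h | h | h | h | h | h | h | h | h | h | h | h | h | h | h | h | h | h | h | h | h | h | h | h <;>
    rw [h.2] at h3 ⊢
  exacts [key 4 hp hodd h3 (by decide +kernel), key 6 hp hodd h3 (by decide +kernel), key 7 hp hodd h3 (by decide +kernel),
    key 7 hp hodd h3 (by decide +kernel), key 10 hp hodd h3 (by decide +kernel), key 3 hp hodd h3 (by decide +kernel),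
    key 7 hp hodd h3 (by decide +kernel), key 7 hp hodd h3 (by decide +kernel), key 21 hp hodd h3 (by decide +kernel),
    key 21 hp hodd h3 (by decide +kernel), key 18 hp hodd h3 (by decide +kernel), key 10 hp hodd h3 (by decide +kernel),
    key 17 hp hodd h3 (by decide +kernel), key 18 hp hodd h3 (by decide +kernel), key 21 hp hodd h3 (by decide +kernel),
    key 9 hp hodd h3 (by decide +kernel), key 7 hp hodd h3 (by decide +kernel), key 10 hp hodd h3 (by decide +kernel),
    key 14 hp hodd h3 (by decide +kernel), key 13 hp hodd h3 (by decide +kernel), key 9 hp hodd h3 (by decide +kernel),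
    key 14 hp hodd h3 (by decide +kernel), key 8 hp hodd h3 (by decide +kernel), key 15 hp hodd h3 (by decide +kernel),
    key 41 hp hodd h3 (by decide +kernel), key 46 hp hodd h3 (by decide +kernel)]

end Cfsg.Agent.S2367
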