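import Cfsg.Statements.S2368
import Mathlib
import Cfsg.Agent.Lib.Perm.Un1
import Cfsg.Agent.S2260

set_option autoImplicit false
open Cfsg

namespace Cfsg.Agent.S2368

open Cfsg.Agent.Classical Cfsg.Agent.Perm.Inv Cfsg.Agent.Perm.Cj

/-- Let F be a finite field of characteristic p and m ≥ 1. Every element of GL(m, F) of p-power order has order less than p·m, and GL(m, F) has an element of p-power order at least m; so the largest order of a p-element of GL(m, F) is the least power of p that is at least m. -/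
theorem result {F : Type*} [Field F] [Fintype F] (p : ℕ) [Fact p.Prime] [CharP F p] (m : ℕ) (hm : 1 ≤ m) :
    (∀ g : Matrix.GeneralLinearGroup (Fin m) F, (∃ j : ℕ, orderOf g = p ^ j) → orderOf g < p * m) ∧
      ∃ g : Matrix.GeneralLinearGroup (Fin m) F, (∃ j : ℕ, orderOf g = p ^ j) ∧ m ≤ orderOf g := by
  have hp := (Fact.out : p.Prime).one_lt
  have h0 : ∀ (u : GL (Fin m) F) k, (u.1 - 1) ^ k = 0 ↔ (dl (glEquiv u) : Module.End F _) ^ k = 0 := fun u k => by
    rw [← mulVecLin_sub (M := u.1) fun _ => rfl, ← Matrix.toLin'_apply', ← Matrix.toLin'_pow, LinearEquiv.map_eq_zero_iff]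
  refine ⟨fun g h => (S2260.result p m g (((unip_iff p _).1 (by simpa using h)).imp fun k => (h0 g k).2)).1.trans_lt ?_, ?_⟩
  · rcases hk : Nat.clog p m with _ | k
    · simpa using hp.trans_le (Nat.le_mul_of_pos_right _ hm)
    rw [pow_succ']
    exact Nat.mul_lt_mul_of_pos_left ((Nat.lt_clog_iff_pow_lt hp).1 (by omega)) (by omega)
  obtain ⟨N, H⟩ := exists_nil (F := F) (V := Fin m → F) (fun _ : Unit => m) (by simp)
  obtain ⟨t, rfl⟩ := exists_dl ⟨m, (mdl_pow H m).2 fun _ => le_rfl⟩
  obtain ⟨g, rfl⟩ := glEquiv.surjective t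
  have := (S2260.result p m g ⟨m, (h0 g m).2 ((mdl_pow H m).2 fun _ => le_rfl)⟩).2 fun h => by
    have := (mdl_pow H _).1 ((h0 g _).1 h) (); omega
  exact ⟨g, ⟨_, this⟩, this ▸ Nat.le_pow_clog hp m⟩

end Cfsg.Agent.S2368
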