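import Cfsg.Statements.S2369
import Cfsg.Agent.Lib.Chev.Inv10

set_option autoImplicit false
open Cfsg

namespace Cfsg.Agent.S2369


open Chev

/-- Let q = 2^(2m+1) with m ≥ 1 and let a, b be commuting elements of the large Ree group ²F₄(q) with a an involution. Then every prime divisor of the order of b divides q(q⁴ − 1). -/
theorem result {K : Type*} [Field K] [Fintype K] (m : ℕ) (hm : 1 ≤ m) (hK : Fintype.card K = 2 ^ (2 * m + 1))
    (a b : ↥(Cfsg.Lie.twistedF4 K (2 ^ m))) (ha : orderOf a = 2) (hab : Commute a b) :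
    (orderOf b).primeFactors ⊆ (2 ^ (2 * m + 1) * ((2 ^ (2 * m + 1)) ^ 4 - 1)).primeFactors := by
  obtain ⟨_, θ, hf, hθ⟩ := exists_theta hK
  obtain ⟨n, h1, h2⟩ := cent_2F4 hf hθ ha hab
  rw [hK] at h2
  have h3 : 1 < 2 ^ (2 * m + 1) := Nat.one_lt_two_pow (by omega)
  generalize 2 ^ (2 * m + 1) = q at h2 h3 ⊢
  obtain ⟨q, rfl⟩ := Nat.exists_eq_add_of_lt h3
  have e : (1 + q + 1) ^ 4 - 1 = (1 + q + 1 - 1) * ((1 + q + 1) ^ 1 + 1) * ((1 + q + 1) ^ 2 + 1) := Nat.sub_eq_of_eq_add (by simp only [Nat.add_sub_cancel]; ring)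
  intro p hp
  obtain ⟨a, b, -⟩ := Nat.mem_primeFactors.1 hp
  refine Nat.mem_primeFactors.2 ⟨a, ?_, by rw [e, Nat.add_sub_cancel]; positivity⟩
  rw [e]
  rcases (Nat.Prime.dvd_mul a).1 (b.trans h2) with c | c
  · rcases (Nat.Prime.dvd_mul a).1 c with c | c
    exacts [(a.dvd_of_dvd_pow c).mul_right _, (((a.dvd_of_dvd_pow c).mul_right _).mul_right _).mul_left _]
  · obtain rfl | rfl : n = 1 ∨ n = 2 := by simpa using h1
    exacts [((c.mul_left _).mul_right _).mul_left _, (c.mul_left _).mul_left _]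

end Cfsg.Agent.S2369
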