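import Cfsg.Statements.S2370
import Cfsg.Agent.Lib.Chev.Fix

set_option autoImplicit false
open Cfsg

namespace Cfsg.Agent.S2370

open Chev Cfsg.Lie Checked

/-- Let q = 2^(2m+1) with m ≥ 1. Every element of 2-power order of the large Ree group ²F₄(q) has order at most 32. -/
theorem result {K : Type*} [Field K] [Fintype K] (m : ℕ) (hm : 1 ≤ m) (hK : Fintype.card K = 2 ^ (2 * m + 1))
    (x : ↥(Cfsg.Lie.twistedF4 K (2 ^ m))) (hx : ∃ j : ℕ, orderOf x = 2 ^ j) : orderOf x ≤ 32 := by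
  obtain ⟨_, -⟩ := exists_theta hK
  obtain ⟨j, hj⟩ := hx
  have h1 : (x : GL chevF4.Idx K) ∈ (checkedF4.st K).PJ Set.univ := by
    rw [St.PJ_univ, ← checkedF4.group_eq]; exact checkedF4.gen_le _ x.2
  obtain ⟨k, -, hk⟩ := St.exists_conj_mem_U 2 checkedF4.hMul_st h1 (n := j) (by
    rw [← hj, ← Subgroup.coe_pow, pow_orderOf_eq_one]; rfl)
  have h2 := (St.raise_Ux (f := 1) (m := 1) zero_le_one (fun r hr => RS.unip_pos.pos r hr) hk).pow 32
  have h3 : ∀ a b, checkedF4.toCD.dg 1 a < checkedF4.toCD.dg 1 b + (32 : ℕ) := by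
    have : ∀ a, -11 ≤ checkedF4.toCD.dg 1 a ∧ checkedF4.toCD.dg 1 a ≤ 11 := by decide +kernel
    intro a b; have h1 := this a; have h2 := this b; omega
  have h4 : (k * x * k⁻¹) ^ 32 = 1 := Units.ext (by
    haveI : Nonempty chevF4.Idx := ⟨.inl (f4n 0)⟩
    have := sub_pow_char_pow_of_commute (p := 2) (n := 5) (Commute.one_right ((checkedF4.st K).mat (k * x * k⁻¹)))
    rw [show 2 ^ 5 = 32 from rfl, (Matrix.ext fun a b => h2 a b (h3 a b) : _ = (0 : Matrix _ _ K)), one_pow, eq_comm,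
      sub_eq_zero] at this
    exact this)
  refine orderOf_le_of_pow_eq_one (by norm_num) (Subtype.ext ?_)
  rwa [conj_pow, mul_inv_eq_iff_eq_mul, one_mul, mul_eq_left] at h4

end Cfsg.Agent.S2370
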