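import Cfsg.Statements.S2371
import Cfsg.Agent.Lib.Classical.Oct5

set_option autoImplicit false
open Cfsg

namespace Cfsg.Agent.S2371
open Cfsg.Agent.Classical


/-- The group G₂(q), q ≥ 3, contains a cyclic subgroup of order q² + q + 1 which is its own centralizer. -/
theorem result {F : Type*} [Field F] [Fintype F] (q : ℕ) (hF : Fintype.card F = q) (hq : 3 ≤ q) :
    ∃ H : Subgroup ↥(Cfsg.Lie.chevG2.group F), IsCyclic ↥H ∧ Nat.card ↥H = q ^ 2 + q + 1 ∧
      Subgroup.centralizer (H : Set ↥(Cfsg.Lie.chevG2.group F)) = H := by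
  subst hF
  obtain ⟨φ⟩ := (Oct.exists_iso hq).1
  obtain ⟨s, h1, h2⟩ := Oct.selfcent hq
  refine ⟨Subgroup.zpowers (φ.symm s), inferInstance, by rw [Nat.card_zpowers, MulEquiv.orderOf_eq, h1], le_antisymm (fun g hg => ?_) ?_⟩
  · obtain ⟨n, hn⟩ := h2 (φ g) (by simpa using congrArg φ (hg _ (Subgroup.mem_zpowers _)).symm)
    exact ⟨n, φ.injective (by simpa using hn)⟩
  · exact Subgroup.le_centralizer _

end Cfsg.Agent.S2371
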