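import Cfsg.Statements.S2379
import Cfsg.Agent.Lib.Classical.Homo
import Cfsg.Agent.S0242

set_option autoImplicit false
open Cfsg

namespace Cfsg.Agent.S2379
open Cfsg.Agent.Classical

open Matrix

theorem diag_emb (F : Type*) [Field F] (m : ℕ) :
    ∃ φ : (Fin m → Fˣ) →* SpecialLinearGroup (Fin (m + 1)) F, Function.Injective φ := by
  refine ⟨MonoidHom.mk' (fun x => ⟨diagonal (Fin.cons ((∏ i, x i)⁻¹ : Fˣ) fun i => x i), by
    simp [Fin.prod_univ_succ, Finset.prod_ne_zero_iff]⟩) fun a b => Subtype.ext ?_, fun a b h => funext fun i => Units.ext ?_⟩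
  · show diagonal _ = diagonal _ * diagonal _
    rw [diagonal_mul_diagonal]
    congr 1
    ext i
    refine Fin.cases ?_ (fun j => ?_) i <;> simp [Finset.prod_mul_distrib, mul_comm]
  · have : diagonal _ i.succ i.succ = diagonal _ i.succ i.succ :=
      congrArg (fun z : SpecialLinearGroup (Fin (m + 1)) F => z.1 i.succ i.succ) h
    simpa using this


/-- Sylow subgroups of `SL_n(q)` for large primes. Let `F` be a field with `q` elements and `r` a prime with `r > n` and `r ∤ q` (so `r` does not divide the order `n!` of the Weyl group). Let `d` be the multiplicative order of `q` modulo `r`, `a` the number of integers `i` with `2 ≤ i ≤ n` divisible by `d` (the degrees of the Weyl group are `2, …, n`), and `m` the `r`-part of the value at `q` of the `d`-th cyclotomic polynomial. Then every Sylow `r`-subgroup of `SL_n(q)` is a direct product of `a` cyclic groups of order `m`. -/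
theorem result {F : Type*} [Field F] [Fintype F] {q : ℕ} (hq : Fintype.card F = q) (n : ℕ)
    (r : ℕ) [Fact r.Prime] (hrn : n < r) (hrq : ¬ r ∣ q) (P : Sylow r (Matrix.SpecialLinearGroup (Fin n) F)) :
    Nonempty (↥(P : Subgroup (Matrix.SpecialLinearGroup (Fin n) F)) ≃*
      (Fin ((Finset.Icc 2 n).filter (fun i => orderOf (q : ZMod r) ∣ i)).card →
        Multiplicative (ZMod (r ^ padicValNat r ((Polynomial.cyclotomic (orderOf (q : ZMod r)) ℤ).eval (q : ℤ)).natAbs)))) := by
  have h1 : 1 < q := hq ▸ Fintype.one_lt_card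
  have hr : r.Prime := Fact.out
  rw [← Homo.val_phi h1 hrq]
  rcases n with _ | m
  · refine Homo.sylow_iso P 1 (fun a b _ => funext fun i => i.elim0) ?_
    rw [Homo.card_H, Nat.card_unique]; simp
  have hc := congrArg (Nat.factorization · r) (S0242.result hq (m + 1) (by omega))
  simp only [Homo.val_GL h1 hrq hrn] at hc
  rw [Nat.factorization_mul (by omega) Nat.card_pos.ne', Finsupp.add_apply] at hc
  by_cases hd : orderOf (q : ZMod r) = 1
  · rw [hd, pow_one, Nat.div_one, Nat.succ_mul, add_comm, add_left_inj] at hc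
    rw [hd, pow_one, show ((Finset.Icc 2 (m + 1)).filter fun i => 1 ∣ i).card = m by simp]
    obtain ⟨φ, hφ⟩ := diag_emb F m
    obtain ⟨c, h⟩ := IsCyclic.exists_ofOrder_eq_natCard (α := Fˣ)
    obtain ⟨ψ, hψ⟩ := Homo.exists_hom (g := c) (m := r ^ (q - 1).factorization r) (by
      rw [h, Nat.card_units, Nat.card_eq_fintype_card, hq]
      exact Nat.ordProj_dvd _ _) (orderOf_pos c).ne'
    exact Homo.sylow_iso P (φ.comp (ψ.compLeft _)) (hφ.comp hψ.comp_left) (by rw [Homo.card_H, hc])
  · have h2 : ¬ r ∣ q - 1 := fun h => hd (Nat.dvd_one.1 ((Homo.dvd_iff h1 1).1 (by simpa using h)))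
    rw [Nat.factorization_eq_zero_of_not_dvd h2, zero_add] at hc
    obtain ⟨φ, hφ⟩ := Homo.exists_GL hrq hq (m + 1)
    obtain ⟨ψ, hψ⟩ := Homo.to_SL φ hφ (m := r ^ (q ^ orderOf (q : ZMod r) - 1).factorization r)
      (fun x => funext fun i => by
        have := pow_card_eq_one' (x := x i)
        simpa using this) (Nat.Coprime.pow_left _ (hq ▸ (Nat.Prime.coprime_iff_not_dvd hr).2 h2))
    rw [show ((Finset.Icc 2 (m + 1)).filter fun i => orderOf (q : ZMod r) ∣ i).card = (m + 1) / orderOf (q : ZMod r) by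
      rw [← Nat.Ioc_filter_dvd_card_eq_div]
      congr 1
      ext i
      simp only [Finset.mem_filter, Finset.mem_Icc, Finset.mem_Ioc]
      refine and_congr_left fun h => ⟨fun _ => by omega, fun a => ⟨?_, a.2⟩⟩
      by_contra e
      exact hd (Nat.dvd_one.1 ((show i = 1 by omega) ▸ h))]
    exact Homo.sylow_iso P ψ hψ (by rw [Homo.card_H, hc])

end Cfsg.Agent.S2379
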