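import Cfsg.Statements.S2381
import Cfsg.Agent.Lib.Classical.Homo
import Cfsg.Agent.S0245

set_option autoImplicit false
open Cfsg

namespace Cfsg.Agent.S2381
open Cfsg.Agent.Classical

open Matrix


/-- Sylow subgroups of `Sp_{2n}(q)` for large primes. Let `F` be a field with `q` elements and `r` an odd prime with `r > n` and `r ∤ q` (so `r` does not divide the order `2^n n!` of the Weyl group). Let `d` be the multiplicative order of `q` modulo `r`, `a` the number of `i` with `1 ≤ i ≤ n` and `d ∣ 2i` (the degrees being `2, 4, …, 2n`), and `m` the `r`-part of the value at `q` of the `d`-th cyclotomic polynomial. Then every Sylow `r`-subgroup of the symplectic group `Sp_{2n}(q)` is a direct product of `a` cyclic groups of order `m`. -/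
theorem result {F : Type*} [Field F] [Fintype F] {q : ℕ} (hq : Fintype.card F = q) (n : ℕ)
    (r : ℕ) [Fact r.Prime] (hr2 : r ≠ 2) (hrn : n < r) (hrq : ¬ r ∣ q) (P : Sylow r ↥(Matrix.symplecticGroup (Fin n) F)) :
    Nonempty (↥(P : Subgroup ↥(Matrix.symplecticGroup (Fin n) F)) ≃*
      (Fin ((Finset.Icc 1 n).filter (fun i => orderOf (q : ZMod r) ∣ 2 * i)).card →
        Multiplicative (ZMod (r ^ padicValNat r ((Polynomial.cyclotomic (orderOf (q : ZMod r)) ℤ).eval (q : ℤ)).natAbs)))) := by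
  have h1 : 1 < q := hq ▸ Fintype.one_lt_card
  have hr : r.Prime := Fact.out
  have hd := Homo.ord_pos hrq
  rw [← Homo.val_phi h1 hrq]
  have hc := congrArg (Nat.factorization · r) (S0245.result hq n)
  have h2 : ∀ i, 0 < i → i < r → ¬ r ∣ 2 * i := fun i a b h => ((Nat.Prime.dvd_mul hr).1 h).elim
    (fun h => hr2 ((Nat.prime_dvd_prime_iff_eq hr Nat.prime_two).1 h)) (Nat.not_dvd_of_pos_of_lt a b)
  rw [Nat.factorization_mul (by positivity) (Finset.prod_ne_zero_iff.2 fun _ _ => Homo.sub_ne h1 (by omega)),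
    Finsupp.add_apply, Nat.factorization_eq_zero_of_not_dvd fun h => hrq (hr.dvd_of_dvd_pow h), zero_add,
    Homo.val_prod h1 hrq _ (fun i => 2 * (i + 1)) fun i hi => h2 _ (by omega) (by have := Finset.mem_range.1 hi; omega)] at hc
  obtain ⟨e, he0, he, hx⟩ : ∃ e, 0 < e ∧ (∀ i, orderOf (q : ZMod r) ∣ 2 * i ↔ e ∣ i) ∧
      (orderOf (q : ZMod r) = e ∨ orderOf (q : ZMod r) = e * 2) := by
    rcases (orderOf (q : ZMod r)).even_or_odd with ⟨e, h⟩ | h
    · exact ⟨e, by omega, fun i => by rw [h, ← two_mul, Nat.mul_dvd_mul_iff_left two_pos], .inr (by omega)⟩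
    · exact ⟨_, hd, fun i => h.coprime_two_right.dvd_mul_left, .inl rfl⟩
  simp only [he, Nat.card_multiples] at hc
  rw [show Finset.Icc 1 n = Finset.Ioc 0 n by ext; simp [Nat.succ_le_iff], Finset.filter_congr fun i _ => he i,
    Nat.Ioc_filter_dvd_card_eq_div]
  obtain ⟨p, hp⟩ := CharP.exists F
  haveI : Fact p.Prime := ⟨CharP.char_is_prime F p⟩
  haveI : NeZero e := ⟨he0.ne'⟩
  let K := FiniteField.Extension F p e
  letI := Fintype.ofFinite K
  have hK : Fintype.card K = q ^ e := by
    rw [← Nat.card_eq_fintype_card, FiniteField.natCard_extension, Nat.card_eq_fintype_card, hq]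
  obtain ⟨φ, hφ⟩ := Homo.sp_emb2 (F := F) K (n := n) (by
    rw [FiniteField.finrank_extension]; exact Nat.div_add_mod' _ _)
  obtain ⟨ψ, hψ⟩ : ∃ ψ : Multiplicative (ZMod (r ^ (q ^ orderOf (q : ZMod r) - 1).factorization r)) →*
      SpecialLinearGroup (Fin 2) K, Function.Injective ψ := by
    rcases hx with hx | hx
    · obtain ⟨c, h⟩ := IsCyclic.exists_ofOrder_eq_natCard (α := Kˣ)
      let χ : Kˣ →* SpecialLinearGroup (Fin 2) K := MonoidHom.mk' (fun x => ⟨!![x, 0; 0, (x⁻¹ : Kˣ)], by simp⟩)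
        fun a b => Subtype.ext (by
          show !![_, _; _, _] = !![_, _; _, _] * !![_, _; _, _]
          simp [mul_comm])
      refine Homo.exists_hom (g := χ c) ?_ (orderOf_pos _).ne'
      rw [orderOf_injective χ (fun a b h => Units.ext
        (congrArg (fun z : SpecialLinearGroup (Fin 2) K => z.1 0 0) h)), h, Nat.card_units, Nat.card_eq_fintype_card,
        hK, hx]
      exact Nat.ordProj_dvd _ _
    · obtain ⟨g, hg⟩ := Torus.exists_order (F := K) (i := 2) (n := 2) one_le_two le_rfl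
      obtain ⟨ψ, hψ⟩ := Homo.exists_hom (g := g) (m := r ^ (q ^ orderOf (q : ZMod r) - 1).factorization r) (by
        rw [hg, hK, ← pow_mul, hx]; exact Nat.ordProj_dvd _ _) (orderOf_pos _).ne'
      refine Homo.to_SL ψ hψ (m := r ^ (q ^ orderOf (q : ZMod r) - 1).factorization r)
        (fun x => by simpa using pow_card_eq_one' (x := x)) (Nat.Coprime.pow_left _ ?_)
      rw [hK, hr.coprime_iff_not_dvd, Homo.dvd_iff h1, hx]
      exact Nat.not_dvd_of_pos_of_lt he0 (by omega)
  exact Homo.sylow_iso P (φ.comp (ψ.compLeft _)) (hφ.comp hψ.comp_left) (by rw [Homo.card_H, hc])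

end Cfsg.Agent.S2381
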