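import Cfsg.Statements.S2384
import Mathlib
import Cfsg.Agent.Lib.Perm.Cj2

set_option autoImplicit false
open Cfsg

namespace Cfsg.Agent.S2384

open Cfsg.Agent.Classical Cfsg.Agent.Perm.Inv Cfsg.Agent.Perm.Cj

/-- In `SL_n(q)`, `q` a power of the prime `p`, the number of conjugacy classes of elements of order prime to `p` (the semisimple classes) is `q^(n-1)`. -/
theorem result {F : Type*} [Field F] [Fintype F] {q : ℕ} (hq : Fintype.card F = q) (p : ℕ) [Fact p.Prime] [CharP F p] (n : ℕ) (hn : 1 ≤ n) :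
    Nat.card {c : ConjClasses (Matrix.SpecialLinearGroup (Fin n) F) //
      ∃ g : Matrix.SpecialLinearGroup (Fin n) F, ConjClasses.mk g = c ∧ (orderOf g).Coprime p} = q ^ (n - 1) := by
  obtain ⟨n, rfl⟩ : ∃ k, n = k + 1 := ⟨n - 1, by omega⟩
  have h0 : ∀ t : (Fin (n + 1) → F) ≃ₗ[F] (Fin (n + 1) → F), LinearEquiv.det t = 1 ↔
      (LinearMap.charpoly (t : Module.End F (Fin (n + 1) → F))).coeff 0 = (-1) ^ (n + 1) := fun t => by
    rw [Units.ext_iff, det_eq_coeff]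
    rcases neg_one_pow_eq_or F (n + 1) with h | h <;> simp [h, neg_eq_iff_eq_neg]
  rw [card_ss slE p (fun P => P.Monic ∧ P.natDegree = n + 1 ∧ P.coeff 0 = (-1) ^ (n + 1)) (fun t _ g a _ => ss_adjust a g)
    fun P => ⟨fun h => ?_, fun ⟨a, b, _, h⟩ => h ▸ ⟨LinearMap.charpoly_monic _, by simp [LinearMap.charpoly_natDegree], (h0 _).1 b⟩⟩,
    card_monic n (· = _), ← hq]
  · simp
  obtain ⟨t, h1, h2⟩ := exists_ss' (V := Fin (n + 1) → F) h.1 (by simp [h.2.1]) (by simp [h.2.2])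
  exact ⟨t, (h0 t).2 (h2 ▸ h.2.2), h1, h2⟩

end Cfsg.Agent.S2384
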