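import Cfsg.Statements.S2385
import Mathlib
import Cfsg.Agent.Lib.Perm.Cj6

set_option autoImplicit false
open Cfsg

namespace Cfsg.Agent.S2385

open Cfsg.Agent.Classical Cfsg.Agent.Perm.Inv Cfsg.Agent.Perm.Cj

/-- In the symplectic group `Sp_{2n}(q)`, `q` a power of the prime `p`, the number of conjugacy classes of elements of order prime to `p` is `q^n`. -/
theorem result {F : Type*} [Field F] [Fintype F] {q : ℕ} (hq : Fintype.card F = q) (p : ℕ) [Fact p.Prime] [CharP F p] (n : ℕ) :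
    Nat.card {c : ConjClasses ↥(Matrix.symplecticGroup (Fin n) F) //
      ∃ g : ↥(Matrix.symplecticGroup (Fin n) F), ConjClasses.mk g = c ∧ (orderOf g).Coprime p} = q ^ n := by
  have hΦ := spForm_nondeg (F := F) n
  rw [card_ss (spEquiv n F) p (fun P => P.Monic ∧ P.natDegree = 2 * n ∧ P.coeff 0 = 1 ∧ dual (RingHom.id F) P = P)
    (fun t ht g a b => isim_iff.1 (isim_symp hΦ hΦ ht b a (conj_iff_sim.1 ⟨g, rfl⟩)))
    fun P => ⟨fun h => exists_symp_ss hΦ h.1 (by simp [h.2.1, two_mul]) h.2.2.1 h.2.2.2, fun ⟨a, b, _, h⟩ => h ▸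
      ⟨LinearMap.charpoly_monic _, by simp [LinearMap.charpoly_natDegree, two_mul], symp_coeff hΦ b, dual_charpoly hΦ b⟩⟩,
    card_symp_poly, ← hq, Nat.card_eq_fintype_card]

end Cfsg.Agent.S2385
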