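import Cfsg.Statements.S2386
import Mathlib
import Cfsg.Agent.Lib.Perm.Cj6

set_option autoImplicit false
open Cfsg

namespace Cfsg.Agent.S2386

open Cfsg.Agent.Classical Cfsg.Agent.Perm.Inv Cfsg.Agent.Perm.Cj

/-- In the special unitary group `SU_n(q)` (matrices of determinant one over the field with `q²` elements preserving the standard Hermitian form), `q` a power of the prime `p`, the number of conjugacy classes of elements of order prime to `p` is `q^(n-1)`. -/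
theorem result {F : Type*} [Field F] [Fintype F] {q : ℕ} (hF : Fintype.card F = q ^ 2) (p : ℕ) [Fact p.Prime] [CharP F p] (n : ℕ) (hn : 1 ≤ n) :
    Nat.card {c : ConjClasses ↥(Cfsg.SU n F q) // ∃ g : ↥(Cfsg.SU n F q), ConjClasses.mk g = c ∧ (orderOf g).Coprime p} = q ^ (n - 1) := by
  obtain ⟨n, rfl⟩ : ∃ k, n = k + 1 := ⟨n - 1, by omega⟩
  have hΦ := uForm_nondeg hF (n + 1)
  have h0 : ∀ t : (Fin (n + 1) → F) ≃ₗ[F] (Fin (n + 1) → F), LinearEquiv.det t = 1 ↔
      (LinearMap.charpoly (t : Module.End F (Fin (n + 1) → F))).coeff 0 = (-1) ^ (n + 1) := fun t => by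
    rw [Units.ext_iff, det_eq_coeff]
    rcases neg_one_pow_eq_or F (n + 1) with h | h <;> simp [h, neg_eq_iff_eq_neg]
  rw [card_ss (suEquiv hF _) p (fun P => P.Monic ∧ P.natDegree = n + 1 ∧ P.coeff 0 = (-1) ^ (n + 1) ∧ dual (frobq hF) P = P)
    (fun t ht g a b => su_ss (frobq_ne_id hF) hΦ ht.1 a g b.1)
    fun P => ⟨fun h => ?_, fun ⟨a, b, _, h⟩ => h ▸ ⟨LinearMap.charpoly_monic _, by simp [LinearMap.charpoly_natDegree],
      (h0 _).1 b.2, dual_charpoly hΦ b.1⟩⟩]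
  · refine (pow_left_inj₀ (by simp) (by simp) two_ne_zero).1 ((card_unit_poly (frobq_ne_id hF) (frobq_frobq hF) n
      (by simp [-frobq_apply]) (by simp [← mul_pow])).trans ?_)
    rw [Nat.card_eq_fintype_card, hF, ← pow_mul, ← pow_mul, mul_comm]; rfl
  obtain ⟨t, h1, h2, h3⟩ := exists_unit_ss (frobq_ne_id hF) hΦ h.1 (by simp [h.2.1]) (by simp [h.2.2.1]) h.2.2.2
  exact ⟨t, ⟨h1, (h0 t).2 (h3 ▸ h.2.2.1)⟩, h2, h3⟩

end Cfsg.Agent.S2386
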