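import Cfsg.Statements.S2387
import Mathlib
import Cfsg.Agent.Lib.Perm.Cj2

set_option autoImplicit false
open scoped MatrixGroups
open Cfsg

namespace Cfsg.Agent.S2387

open Cfsg.Agent.Classical Cfsg.Agent.Perm.Inv Cfsg.Agent.Perm.Cj

/-- In `GL_n(q)` with `n ≥ 1`, `q` a power of the prime `p`, the number of conjugacy classes of elements of order prime to `p` (diagonalisable over the algebraic closure; determined by the characteristic polynomial) is `(q - 1) q^(n-1)`. -/
theorem result {F : Type*} [Field F] [Fintype F] {q : ℕ} (hq : Fintype.card F = q) (p : ℕ) [Fact p.Prime] [CharP F p] (n : ℕ) (hn : 1 ≤ n) :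
    Nat.card {c : ConjClasses (GL (Fin n) F) // ∃ g : GL (Fin n) F, ConjClasses.mk g = c ∧ (orderOf g).Coprime p} = (q - 1) * q ^ (n - 1) := by
  obtain ⟨n, rfl⟩ : ∃ k, n = k + 1 := ⟨n - 1, by omega⟩
  rw [card_ss glE p (fun P => P.Monic ∧ P.natDegree = n + 1 ∧ P.coeff 0 ≠ 0) (fun t _ g _ _ => ⟨g, Subgroup.mem_top _, rfl⟩)
    fun P => ⟨fun h => ?_, fun ⟨a, _, _, h⟩ => h ▸ ⟨LinearMap.charpoly_monic _, by simp [LinearMap.charpoly_natDegree], coeff_ne _⟩⟩,
    card_monic n (· ≠ 0), ← hq]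
  · classical simp [Nat.card_eq_fintype_card, Fintype.card_subtype_compl]
  obtain ⟨t, h1, h2⟩ := exists_ss' (V := Fin (n + 1) → F) h.1 (by simp [h.2.1]) h.2.2
  exact ⟨t, Subgroup.mem_top _, h1, h2⟩

end Cfsg.Agent.S2387
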