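import Cfsg.Statements.S2391
import Mathlib

set_option autoImplicit false
open Cfsg

namespace Cfsg.Agent.S2391



/-- The Borel–Tits property of `SL_n(q)` in flag form: for a field `F` of characteristic `p` with finitely many elements and a non-trivial `p`-subgroup `U` of `SL_n(F)`, there is a flag `0 = V₀ < V₁ < ⋯ < V_{k+1} = F^n` with at least one proper non-zero member such that every element of the normaliser of `U` maps each `V_i` onto itself and every element of `U` acts trivially on each quotient `V_{i+1}/V_i` (so the normaliser lies in the parabolic subgroup of the flag and `U` in its unipotent radical). -/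
theorem result {F : Type*} [Field F] [Fintype F] (p : ℕ) [Fact p.Prime] [CharP F p] (n : ℕ)
    (U : Subgroup (Matrix.SpecialLinearGroup (Fin n) F)) (hU : IsPGroup p ↥U) (hne : U ≠ ⊥) :
    ∃ (k : ℕ) (V : Fin (k + 2) → Submodule F (Fin n → F)), 1 ≤ k ∧ StrictMono V ∧ V 0 = ⊥ ∧ V (Fin.last (k + 1)) = ⊤ ∧
      (∀ g ∈ Subgroup.normalizer (U : Set (Matrix.SpecialLinearGroup (Fin n) F)), ∀ i, (V i).map (Matrix.mulVecLin (g : Matrix (Fin n) (Fin n) F)) = V i) ∧
      (∀ u ∈ U, ∀ i : Fin (k + 1), ∀ v ∈ V i.succ, (u : Matrix (Fin n) (Fin n) F).mulVec v - v ∈ V (Fin.castSucc i)) := by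
  classical
  obtain ⟨W, hW0, hW⟩ : ∃ W : ℕ → Submodule F (Fin n → F), W 0 = ⊥ ∧
      ∀ i v, v ∈ W (i + 1) ↔ ∀ u ∈ U, (u : Matrix (Fin n) (Fin n) F).mulVec v - v ∈ W i := by
    refine ⟨fun i => Nat.rec ⊥ (fun _ S => ⨅ u : U, S.comap (Matrix.mulVecLin
      ((u : Matrix.SpecialLinearGroup (Fin n) F) : Matrix (Fin n) (Fin n) F) - LinearMap.id)) i, rfl, ?_⟩
    intro i v
    simp [Submodule.mem_iInf]
  have hN : ∀ g ∈ Subgroup.normalizer (U : Set (Matrix.SpecialLinearGroup (Fin n) F)), ∀ i, ∀ v ∈ W i,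
      (g : Matrix (Fin n) (Fin n) F).mulVec v ∈ W i := by
    intro g hg i
    induction i with
    | zero => intro v hv; simp [hW0] at hv ⊢; simp [hv]
    | succ i ih =>
      intro v hv
      rw [hW] at hv ⊢
      intro u hu
      have h1 := ih _ (hv (g⁻¹ * u * g) (by
        have := (Subgroup.mem_normalizer_iff.1 (Subgroup.inv_mem _ hg) u).1 hu
        simpa using this))
      rw [Matrix.mulVec_sub, Matrix.mulVec_mulVec, ← Matrix.SpecialLinearGroup.coe_mul,
        ← mul_assoc, ← mul_assoc, mul_inv_cancel, one_mul, Matrix.SpecialLinearGroup.coe_mul,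
        ← Matrix.mulVec_mulVec] at h1
      exact h1
  have hlt : ∀ i, W i ≠ ⊤ → W i < W (i + 1) := by
    intro i hi
    refine lt_of_le_of_ne (fun v hv => (hW i v).2 fun u hu =>
      (W i).sub_mem (hN u (Subgroup.le_normalizer hu) i v hv) hv) ?_
    intro he
    let ρ : Representation F U (Fin n → F) :=
      { toFun := fun u => Matrix.mulVecLin ((u : Matrix.SpecialLinearGroup (Fin n) F) : Matrix (Fin n) (Fin n) F)
        map_one' := by simp [Module.End.one_eq_id]
        map_mul' := fun a b => by simp [Module.End.mul_eq_comp] }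
    let ρ' := ρ.quotient (W i) (fun u v hv => hN u (Subgroup.le_normalizer u.2) i v hv)
    letI : MulAction U ((Fin n → F) ⧸ W i) := 
      { smul := fun u x => ρ' u x
        one_smul := fun x => by show ρ' 1 x = x; simp
        mul_smul := fun a b x => by show ρ' (a * b) x = ρ' a (ρ' b x); simp }
    have hnt : Nontrivial ((Fin n → F) ⧸ W i) := Submodule.Quotient.nontrivial_iff.2 hi
    have hdvd : p ∣ Nat.card ((Fin n → F) ⧸ W i) := by
      rw [Module.natCard_eq_pow_finrank (K := F)]
      obtain ⟨k, -, hk⟩ := FiniteField.card F p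
      apply dvd_pow _ Module.finrank_pos.ne'
      rw [Nat.card_eq_fintype_card, hk]
      exact dvd_pow_self _ k.ne_zero
    obtain ⟨b, hb, hb0⟩ := hU.exists_fixed_point_of_prime_dvd_card_of_fixed_point _ hdvd
      (a := (0 : (Fin n → F) ⧸ W i)) (fun u => map_zero (ρ' u))
    induction b using Submodule.Quotient.induction_on with
    | H b =>
      apply hb0
      symm
      rw [Submodule.Quotient.mk_eq_zero, he, hW]
      intro u hu
      exact (Submodule.Quotient.eq _).1 (hb ⟨u, hu⟩)
  have hex : ∃ m : ℕ, W m = ⊤ := by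
    refine Classical.by_contradiction fun hcon => ?_
    push Not at hcon
    exact not_strictMono_of_wellFoundedGT W (strictMono_nat_of_lt_succ fun i => hlt i (hcon i))
  have hm := Nat.find_spec hex
  have hmin := fun i => @Nat.find_min _ _ hex i
  have h1 : W 1 ≠ ⊤ := by
    intro h
    apply hne
    rw [eq_bot_iff]
    intro u hu
    rw [Subgroup.mem_bot]
    apply Subtype.ext
    apply Matrix.ext_iff_mulVec.2
    intro v
    have := (hW 0 v).1 (by rw [zero_add, h]; trivial) u hu
    simp [hW0, sub_eq_zero] at this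
    simp [this]
  have h0 : W 0 ≠ ⊤ := by
    intro h
    apply h1
    rw [eq_top_iff]
    intro v _
    exact (hW 0 v).2 (by rw [h]; intros; trivial)
  obtain ⟨k, hk⟩ : ∃ k, Nat.find hex = k + 2 := by
    refine ⟨Nat.find hex - 2, ?_⟩
    have : Nat.find hex ≠ 0 := fun h => h0 (h ▸ hm)
    have : Nat.find hex ≠ 1 := fun h => h1 (h ▸ hm)
    omega
  rw [hk] at hm hmin
  refine ⟨k + 1, fun i => W i, by omega, ?_, hW0, hm, ?_, ?_⟩
  · rw [Fin.strictMono_iff_lt_succ]
    intro i
    exact hlt i (hmin i i.2)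
  · intro g hg i
    refine le_antisymm ?_ fun v hv => ⟨_, hN g⁻¹ (Subgroup.inv_mem _ hg) i v hv, ?_⟩
    · rintro _ ⟨v, hv, rfl⟩
      exact hN g hg i v hv
    · rw [Matrix.mulVecLin_apply, Matrix.mulVec_mulVec, ← Matrix.SpecialLinearGroup.coe_mul]
      simp
  · intro u hu i v hv
    exact (hW i v).1 hv u hu

end Cfsg.Agent.S2391
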