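import Cfsg.Statements.S2392
import Cfsg.Agent.Lib.Classical.Wt2

set_option autoImplicit false
open scoped MatrixGroups
open Cfsg

namespace Cfsg.Agent.S2392
open Cfsg.Agent.Classical

open Matrix in
def xs {F : Type*} [Field F] {m : ℕ} (v : Fin m → F) : SpecialLinearGroup (Fin (m + 1)) F :=
  ⟨1 + vecMulVec (Pi.single 0 1) (Fin.cons 0 v), by simp [Wt.det_one_add_vv]⟩

open Matrix in
theorem xs_mul {F : Type*} [Field F] {m : ℕ} (v w : Fin m → F) : xs v * xs w = xs (v + w) := by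
  apply Subtype.ext
  change (1 + vecMulVec _ _) * (1 + vecMulVec _ _) = 1 + vecMulVec _ _
  have e : (Fin.cons 0 (v + w) : Fin (m + 1) → F) = Fin.cons 0 v + Fin.cons 0 w := by
    funext i; refine Fin.cases ?_ (fun j => ?_) i <;> simp
  rw [add_mul, mul_add, mul_add, vecMulVec_mul_vecMulVec, e, vecMulVec_add]
  simp
  abel

open Matrix in
theorem xs_conj {F : Type*} [Field F] {m : ℕ} (g : SpecialLinearGroup (Fin (m + 1)) F)
    (hg : g.1 *ᵥ Pi.single 0 1 = Pi.single 0 1) (v : Fin m → F) :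
    (Fin.cons 0 (Fin.tail ((Fin.cons 0 v : Fin (m + 1) → F) ᵥ* g.1)) : Fin (m + 1) → F) =
      (Fin.cons 0 v : Fin (m + 1) → F) ᵥ* g.1 := by
  have : ((Fin.cons 0 v : Fin (m + 1) → F) ᵥ* g.1) 0 = 0 := by
    have h1 : ((Fin.cons 0 v : Fin (m + 1) → F) ᵥ* g.1) ⬝ᵥ Pi.single 0 1 = 0 := by
      rw [← dotProduct_mulVec, hg]; simp
    simpa using h1
  conv_rhs => rw [← Fin.cons_self_tail ((Fin.cons 0 v : Fin (m + 1) → F) ᵥ* g.1), this]

open Matrix in
theorem li {F : Type*} [Field F] {m : ℕ} {l : Fin m → F} (hl : l ≠ 0) :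
    LinearIndependent F ![(Pi.single 0 1 : Fin (m + 1) → F), Fin.cons 0 l] := by
  rw [LinearIndependent.pair_iff]
  intro s t h
  have h0 := congrFun h 0
  simp at h0
  refine ⟨h0, ?_⟩
  by_contra ht
  refine hl (funext fun i => ?_)
  have := congrFun h i.succ
  simpa [ht] using this


/-- A lower bound for representations in cross characteristic: for `n ≥ 3` and a field `F` with `q` elements, every homomorphism from `SL_n(F)` to `GL_d(K)`, `K` a field of characteristic different from that of `F`, whose kernel is central has `d ≥ q^(n-1) - 1`. -/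
theorem result {F : Type*} [Field F] [Fintype F] {q : ℕ} (hq : Fintype.card F = q) (n : ℕ) (hn : 3 ≤ n)
    {K : Type*} [Field K] (hK : ringChar K ≠ ringChar F) {d : ℕ}
    (ρ : Matrix.SpecialLinearGroup (Fin n) F →* GL (Fin d) K) (hker : ρ.ker ≤ Subgroup.center (Matrix.SpecialLinearGroup (Fin n) F)) :
    q ^ (n - 1) - 1 ≤ d := by
  classical
  obtain ⟨m, rfl⟩ : ∃ m, n = m + 1 := ⟨n - 1, by omega⟩
  obtain ⟨Ξ, hfin, hcard, hmul, hne, hnt, hact⟩ := Wt.weights ρ (Wt.cast_ringChar_ne hK)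
    (xs (F := F) (m := m)) (fun a b => by
      change _ * _ = _ * _
      rw [xs_mul, xs_mul, add_comm a b]) (Wt.pow_ringChar _ xs_mul)
  let i0 : Fin m := ⟨0, by omega⟩
  obtain ⟨χ, hχ, h1⟩ := hnt (Pi.single i0 1) (fun h => by
    obtain ⟨r, -, hr⟩ := Matrix.SpecialLinearGroup.mem_center_iff.1 (hker h)
    have := congrFun (congrFun hr 0) i0.succ
    simp [xs, Matrix.vecMulVec_apply, Matrix.one_apply, (Fin.succ_ne_zero i0).symm] at this)
  have hχm : ∀ a b, χ a * χ b = χ (a + b) := fun a b => hmul χ hχ a b _ (xs_mul a b)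
  let ψ : F → AlgebraicClosure K := fun t => χ (Pi.single i0 t)
  have hψm : ∀ a b, ψ a * ψ b = ψ (a + b) := fun a b => by simp only [ψ, hχm, Pi.single_add]
  have hψ0 : ∀ a, ψ a ≠ 0 := fun a => hne χ hχ _
  obtain ⟨l0, hl0⟩ := Wt.char_dual hψm hψ0 ⟨1, h1⟩ hχm (hne χ hχ)
  have hl0' : l0 ≠ 0 := by
    rintro rfl
    exact h1 (by rw [hl0, zero_dotProduct, Wt.psi_zero hψm hψ0])
  have key : ∀ l : Fin m → F, l ≠ 0 → (fun v => ψ (l ⬝ᵥ v)) ∈ Ξ := by
    intro l hl
    obtain ⟨g, hg⟩ := Wt.exists_SL_of_li (by simp; omega) (li hl0') (li hl)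
    have g0 : g.1.mulVec (Pi.single 0 1) = Pi.single 0 1 := hg 0
    have g1 : g.1.mulVec (Fin.cons 0 l0) = Fin.cons 0 l := hg 1
    have := hact g (fun v => Fin.tail (Matrix.vecMul (Fin.cons 0 v : Fin (m + 1) → F) g.1)) (fun a => by
      apply Subtype.ext
      change (1 + Matrix.vecMulVec _ _) * g.1 = g.1 * (1 + Matrix.vecMulVec _ _)
      rw [xs_conj g g0, add_mul, mul_add, one_mul, mul_one, Matrix.vecMulVec_mul,
        Matrix.mul_vecMulVec, g0]) χ hχ
    convert this using 1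
    funext v
    rw [Function.comp_apply, hl0]
    congr 1
    have e : ∀ a b : Fin m → F, a ⬝ᵥ b = (Fin.cons 0 b : Fin (m + 1) → F) ⬝ᵥ Fin.cons 0 a := by
      intro a b
      simp [dotProduct, Fin.sum_univ_succ, mul_comm]
    rw [e l0, xs_conj g g0, ← Matrix.dotProduct_mulVec, g1, ← e]
  have h2 : ({0}ᶜ : Set (Fin m → F)).ncard ≤ Ξ.ncard :=
    Set.ncard_le_ncard_of_injOn (fun l v => ψ (l ⬝ᵥ v)) (fun l hl => key l hl)
      (fun l _ l' _ h => Wt.psi_inj hψm hψ0 ⟨1, h1⟩ fun v => congrFun h v) hfin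
  have h3 := Set.ncard_add_ncard_compl ({0} : Set (Fin m → F))
  rw [Set.ncard_singleton, Nat.card_eq_fintype_card, Fintype.card_fun, Fintype.card_fin, hq] at h3
  rw [Nat.add_sub_cancel]
  omega

end Cfsg.Agent.S2392
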