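import Cfsg.Statements.S2393
import Cfsg.Agent.Lib.Classical.Wt2
import Cfsg.Agent.Lib.Classical.Omega

set_option autoImplicit false
open scoped MatrixGroups
open Cfsg

namespace Cfsg.Agent.S2393
open Cfsg.Agent.Classical

open Matrix in
def Sm {F : Type*} [Field F] {m : ℕ} (u : Fin (m + 1) → F) : Matrix (Fin (m + 1)) (Fin (m + 1)) F :=
  vecMulVec (Pi.single 0 1) u + vecMulVec u (Pi.single 0 1)

open Matrix in
def xs {F : Type*} [Field F] {m : ℕ} (u : Fin (m + 1) → F) : symplecticGroup (Fin (m + 1)) F :=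
  ⟨fromBlocks 1 (Sm u) 0 1, SymplecticGroup.fromBlocks_mem_iff.2 (by
    simp [Sm, transpose_add, add_comm])⟩

open Matrix in
theorem xs_mul {F : Type*} [Field F] {m : ℕ} (v w : Fin (m + 1) → F) : xs v * xs w = xs (v + w) := by
  apply Subtype.ext
  change fromBlocks _ _ _ _ * fromBlocks _ _ _ _ = fromBlocks _ _ _ _
  rw [fromBlocks_multiply]
  simp [Sm, vecMulVec_add, add_vecMulVec]
  abel

open Matrix in
theorem det_up {F : Type*} [Field F] {m : ℕ} (r : Fin (m + 1) → F) :
    (updateRow (1 : Matrix (Fin (m + 1)) (Fin (m + 1)) F) 0 r).det = r 0 := by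
  rw [← cramer_transpose_apply, transpose_one, cramer_one]; rfl

open Matrix in
noncomputable def lev {F : Type*} [Field F] {m : ℕ} (g : Matrix (Fin (m + 1)) (Fin (m + 1)) F)
    (hg : g.det ≠ 0) : symplecticGroup (Fin (m + 1)) F :=
  ⟨fromBlocks g⁻¹ 0 0 gᵀ, SymplecticGroup.fromBlocks_mem_iff.2 (by
    refine ⟨by simp, by simp, ?_⟩
    rw [← transpose_mul, mul_nonsing_inv _ (Ne.isUnit hg)]; simp)⟩

open Matrix in
theorem xs_lev {F : Type*} [Field F] {m : ℕ} (g : Matrix (Fin (m + 1)) (Fin (m + 1)) F)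
    (hg : g.det ≠ 0) (s : F) (hs : g *ᵥ Pi.single 0 1 = s • Pi.single 0 1) (u : Fin (m + 1) → F) :
    xs u * lev g hg = lev g hg * xs (s • g *ᵥ u) := by
  apply Subtype.ext
  change fromBlocks _ _ _ _ * fromBlocks _ _ _ _ = fromBlocks _ _ _ _ * fromBlocks _ _ _ _
  have e : Sm (s • g *ᵥ u) = g * (Sm u * gᵀ) := by
    simp only [Sm, add_mul, mul_add, vecMulVec_mul, mul_vecMulVec, vecMul_transpose, hs,
      smul_vecMulVec, vecMulVec_smul, Matrix.mul_smul]
  rw [fromBlocks_multiply, fromBlocks_multiply, e, nonsing_inv_mul_cancel_left _ _ (Ne.isUnit hg)]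
  simp

open Matrix in
theorem up_mulVec {F : Type*} [Field F] {m : ℕ} (r u : Fin (m + 1) → F) :
    updateRow (1 : Matrix (Fin (m + 1)) (Fin (m + 1)) F) 0 r *ᵥ u = Function.update u 0 (r ⬝ᵥ u) := by
  funext i
  by_cases h : i = 0
  · subst h; simp [mulVec]
  · rw [Function.update_of_ne h]
    change updateRow _ _ _ i ⬝ᵥ u = _
    rw [updateRow_ne h]
    exact congrFun (one_mulVec u) i


/-- A lower bound for representations in cross characteristic: for `n ≥ 2` and a field `F` with `q` elements, `q` odd, every homomorphism from the symplectic group `Sp_{2n}(F)` to `GL_d(K)`, `K` a field of characteristic different from that of `F`, whose kernel is central has `d ≥ q^(n-1)(q-1)/2`. -/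
theorem result {F : Type*} [Field F] [Fintype F] {q : ℕ} (hq : Fintype.card F = q) (hodd : Odd q) (n : ℕ) (hn : 2 ≤ n)
    {K : Type*} [Field K] (hK : ringChar K ≠ ringChar F) {d : ℕ}
    (ρ : ↥(Matrix.symplecticGroup (Fin n) F) →* GL (Fin d) K) (hker : ρ.ker ≤ Subgroup.center ↥(Matrix.symplecticGroup (Fin n) F)) :
    q ^ (n - 1) * (q - 1) / 2 ≤ d := by
  classical
  have h2 : (2 : F) ≠ 0 := two_ne_zero_of_odd (hq ▸ hodd)
  obtain ⟨m, rfl⟩ : ∃ m, n = m + 1 := ⟨n - 1, by omega⟩
  obtain ⟨Ξ, hfin, hcard, hmul, hne, hnt, hact⟩ := Wt.weights ρ (Wt.cast_ringChar_ne hK)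
    (xs (F := F) (m := m)) (fun a b => by
      change _ * _ = _ * _
      rw [xs_mul, xs_mul, add_comm a b]) (Wt.pow_ringChar _ xs_mul)
  obtain ⟨χ, hχ, h1⟩ := hnt (Pi.single 0 1) (fun h => by
    have h3 := congrArg Subtype.val (Subgroup.mem_center_iff.1 (hker h) ⟨Matrix.J _ F, SymplecticGroup.J_mem _ _⟩)
    change Matrix.fromBlocks _ _ _ _ * Matrix.fromBlocks _ _ _ _ =
      Matrix.fromBlocks _ _ _ _ * Matrix.fromBlocks _ _ _ _ at h3
    rw [Matrix.fromBlocks_multiply, Matrix.fromBlocks_multiply] at h3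
    have h4 := congrFun (congrFun h3 (.inl 0)) (.inl 0)
    simp [Sm, Matrix.vecMulVec_apply] at h4
    exact h2 (by rw [← one_add_one_eq_two]; exact h4.symm))
  have hχm : ∀ a b, χ a * χ b = χ (a + b) := fun a b => hmul χ hχ a b _ (xs_mul a b)
  let ψ : F → AlgebraicClosure K := fun t => χ (Pi.single 0 t)
  have hψm : ∀ a b, ψ a * ψ b = ψ (a + b) := fun a b => by simp only [ψ, hχm, Pi.single_add]
  have hψ0 : ∀ a, ψ a ≠ 0 := fun a => hne χ hχ _
  let r : Fˣ × (Fin m → F) → Fin (m + 1) → F := fun p => Fin.cons p.1 p.2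
  let f : Fˣ × (Fin m → F) → (Fin (m + 1) → F) → AlgebraicClosure K := fun p u =>
    χ ((p.1 : F) • Function.update u 0 (r p ⬝ᵥ u))
  have hf : ∀ p, f p ∈ Ξ := fun p => by
    have := hact (lev (Matrix.updateRow 1 0 (r p)) (by rw [det_up]; exact p.1.ne_zero)) _
      (xs_lev _ _ (p.1 : F) (by
        rw [up_mulVec]
        funext i
        refine Fin.cases ?_ (fun j => ?_) i <;> simp [r])) χ hχ
    convert this using 1
    funext u
    simp only [Function.comp_apply, up_mulVec, f]
  have hsq : ∀ p p', f p = f p' → (p.1 : F) * p.1 = p'.1 * p'.1 := fun p p' h => by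
    refine Wt.psi_scal hψm hψ0 ⟨1, h1⟩ fun t => ?_
    have h3 := congrFun h (Pi.single 0 t)
    have e : ∀ p : Fˣ × (Fin m → F), (p.1 : F) • Function.update (Pi.single 0 t : Fin (m + 1) → F) 0
        (r p ⬝ᵥ Pi.single 0 t) = Pi.single 0 ((p.1 : F) * p.1 * t) := fun p => by
      funext i
      refine Fin.cases ?_ (fun j => ?_) i <;> simp [r, mul_assoc]
    simp only [f, e] at h3
    exact h3
  have heq : ∀ p p', f p = f p' → p.1 = p'.1 → p = p' := fun p p' h h' => by
    have h3 : (p.1 : F) • r p = (p.1 : F) • r p' := by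
      refine Wt.psi_inj hψm hψ0 ⟨1, h1⟩ fun u => ?_
      have h4 := congrFun h u
      have e : ∀ a : F, (p.1 : F) • Function.update u 0 a =
          Pi.single 0 ((p.1 : F) * a) + (p.1 : F) • Function.update u 0 0 := fun a => by
        funext i
        refine Fin.cases ?_ (fun j => ?_) i <;> simp
      change χ _ = χ _ at h4
      rw [← h', e, e (r p' ⬝ᵥ u), ← hχm, ← hχm] at h4
      rw [smul_dotProduct, smul_dotProduct]
      exact mul_right_cancel₀ (hne χ hχ _) h4
    have h4 := smul_right_injective _ p.1.ne_zero h3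
    exact Prod.ext h' (funext fun i => by simpa [r] using congrFun h4 i.succ)
  have h5 : (Finset.univ : Finset (Fˣ × (Fin m → F))).card ≤ 2 * hfin.toFinset.card := by
    refine Finset.card_le_mul_card_image_of_maps_to (f := f) (fun p _ => by simpa using hf p) 2
      fun b _ => ?_
    by_cases hb : ∃ p0, f p0 = b
    · obtain ⟨p0, rfl⟩ := hb
      refine le_trans (Finset.card_le_card_of_injOn (t := {p0.1, -p0.1}) Prod.fst ?_ ?_)
        Finset.card_le_two
      · intro p hp
        have := hsq p p0 (Finset.mem_filter.1 hp).2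
        rcases mul_self_eq_mul_self_iff.1 this with h | h
        · simp [Units.ext h]
        · have : p.1 = -p0.1 := Units.ext h
          simp [this]
      · intro p hp p' hp' h
        exact heq p p' ((Finset.mem_filter.1 hp).2.trans (Finset.mem_filter.1 hp').2.symm) h
    · rw [Finset.filter_eq_empty_iff.2 fun p _ h => hb ⟨p, h⟩]; simp
  rw [Finset.card_univ, Fintype.card_prod, Fintype.card_units, Fintype.card_fun, Fintype.card_fin,
    hq, ← Set.ncard_eq_toFinset_card _ hfin] at h5
  rw [Nat.add_sub_cancel, mul_comm]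
  omega

end Cfsg.Agent.S2393
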