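import Cfsg.Statements.S2394
import Cfsg.Agent.Lib.Classical.Zsig
import Cfsg.Agent.S0245

set_option autoImplicit false
open scoped MatrixGroups
open Cfsg

namespace Cfsg.Agent.S2394
open Cfsg.Agent.Classical


/-- The smallest degree of a faithful representation of the symplectic group `Sp_{2n}(q)` over its own field `F_q` is `2n`: every injective homomorphism from `Sp_{2n}(F)` to `GL_d(F)`, `F` the field with `q` elements, has `d ≥ 2n`. -/
theorem result {F : Type*} [Field F] [Fintype F] (n : ℕ) {d : ℕ}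
    (ρ : ↥(Matrix.symplecticGroup (Fin n) F) →* GL (Fin d) F) (hρ : Function.Injective ρ) : 2 * n ≤ d := by
  by_contra hd
  push Not at hd
  have hdvd := Subgroup.card_dvd_of_injective ρ hρ
  rw [S0245.result rfl n, Matrix.card_GL_field] at hdvd
  have hq : 1 < Fintype.card F := Fintype.one_lt_card
  generalize Fintype.card F = q at hdvd hq
  by_cases h1 : n = 1
  · subst h1
    have h2 : q ∣ ∏ i : Fin d, (q ^ d - q ^ (i : ℕ)) :=
      ((dvd_pow_self q (by norm_num)).mul_right _).trans hdvd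
    obtain rfl | rfl : d = 0 ∨ d = 1 := by omega
    · simp at h2; omega
    · have h2 : q ∣ q - 1 := by simpa using h2
      have := Nat.le_of_dvd (by omega) h2
      omega
  by_cases h3 : q = 2 ∧ n = 3
  · obtain ⟨rfl, rfl⟩ := h3
    revert hdvd
    have : d < 6 := hd
    interval_cases d <;> decide +kernel
  obtain ⟨r, hr, hr1, hr2⟩ := Zsig.zsigmondy q (2 * n) hq (by omega) (by omega) (by omega)
  have h4 : r ∣ ∏ i : Fin d, (q ^ d - q ^ (i : ℕ)) := by
    refine (Dvd.dvd.mul_left ?_ _).trans hdvd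
    refine hr1.trans ?_
    have := Finset.dvd_prod_of_mem (fun i => q ^ (2 * (i + 1)) - 1)
      (Finset.mem_range.2 (show n - 1 < n by omega))
    rwa [show n - 1 + 1 = n by omega] at this
  obtain ⟨i, -, hi⟩ := (Prime.dvd_finsetProd_iff hr.prime _).1 h4
  have e : q ^ d - q ^ (i : ℕ) = q ^ (i : ℕ) * (q ^ (d - i) - 1) := by
    rw [Nat.mul_sub, ← pow_add, mul_one, Nat.add_sub_cancel' i.2.le]
  rw [e] at hi
  rcases (Nat.Prime.dvd_mul hr).1 hi with h | h
  · have h5 : r ∣ q ^ (2 * n) := (hr.dvd_of_dvd_pow h).trans (dvd_pow_self q (by omega))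
    have h6 : r ∣ q ^ (2 * n) - (q ^ (2 * n) - 1) := Nat.dvd_sub h5 hr1
    rw [Nat.sub_sub_self (Nat.one_le_pow _ _ (by omega))] at h6
    exact hr.one_lt.ne' (Nat.dvd_one.1 h6)
  · exact hr2 (d - i) (by have := i.2; omega) (by omega) h

end Cfsg.Agent.S2394
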