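import Cfsg.Statements.S2399
import Cfsg.Agent.Lib.Chev.Schur

set_option autoImplicit false
open scoped MatrixGroups
open Cfsg

namespace Cfsg.Agent.S2399

open Chev Cfsg.Lie Matrix

/-- Projective representations in the natural characteristic lift: for each of the types G₂, B₂, D₄, F₄, E₆, E₇, E₈ over any field `K` (for types B₂ and G₂ the field must have more than two elements — the cases where the Chevalley group is not simple are set aside), every homomorphism from the Chevalley group to `PGL_n(L) = GL_n(L)/Z`, `L` a field of the same characteristic as `K`, lifts uniquely to a homomorphism from the group Δ presented by (R1), (R2) to `GL_n(L)`, compatibly with the projection Δ → Chevalley group sending x̄_r(t) to x_r(t). -/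
theorem result {K : Type*} [Field K] (D : Cfsg.Lie.ChevalleyDatum) (hD : D ∈ [Cfsg.Lie.chevG2, Cfsg.Lie.chevB2, Cfsg.Lie.chevD4, Cfsg.Lie.chevF4, Cfsg.Lie.chevE6, Cfsg.Lie.chevE7, Cfsg.Lie.chevE8]) (hK : D ∈ [Cfsg.Lie.chevB2, Cfsg.Lie.chevG2] → ∃ x : K, x ≠ 0 ∧ x ≠ 1)
    (θ : D.SteinbergCover K →* ↥(D.group K))
    (hθ : ∀ (r : ℕ) (t : K), r < D.nroots → ((θ (D.scGen K r t) : GL D.Idx K) : Matrix D.Idx D.Idx K) = D.x K r t)
    {L : Type*} [Field L] (hL : ringChar L = ringChar K) {n : ℕ}
    (φ : ↥(D.group K) →* GL (Fin n) L ⧸ Subgroup.center (GL (Fin n) L)) :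
    ∃! ψ : D.SteinbergCover K →* GL (Fin n) L, (QuotientGroup.mk' (Subgroup.center (GL (Fin n) L))).comp ψ = φ.comp θ := by
  have hp := perfect_of_mem hD hK
  have hc : (QuotientGroup.mk' (Subgroup.center (GL (Fin n) L))).ker ≤ Subgroup.center _ := (QuotientGroup.ker_mk' _).le
  have hs := pbπ_surj (QuotientGroup.mk'_surjective (Subgroup.center (GL (Fin n) L))) (φ.comp θ)
  suffices ∃ τ : D.SteinbergCover K →* pb (QuotientGroup.mk' (Subgroup.center (GL (Fin n) L))) (φ.comp θ),
      ∀ g, pbπ _ _ (τ g) = g by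
    obtain ⟨τ, hτ⟩ := this
    have h1 : (QuotientGroup.mk' (Subgroup.center (GL (Fin n) L))).comp
        (((MonoidHom.snd _ _).comp (pb _ (φ.comp θ)).subtype).comp τ) = φ.comp θ :=
      MonoidHom.ext fun g => (τ g).2.symm.trans (congrArg (φ.comp θ) (hτ g))
    exact ⟨_, h1, fun τ' h => lift_unique hc hp (h.trans h1.symm)⟩
  rcases finite_or_infinite K with hf | hf
  swap
  · exact cov_split_big hD ((Infinite.exists_subset_card_eq K 5).imp fun s h => by omega) (pbπ_ker hc _) hs
  obtain ⟨c, h⟩ := checked_of_mem hD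
  obtain ⟨p, hp'⟩ := CharP.exists K
  haveI : Fact p.Prime := ⟨CharP.char_is_prime K p⟩
  haveI : CharP L p := ringChar.of_eq (hL.trans (ringChar.eq K p))
  let N := commutator (pb (QuotientGroup.mk' (Subgroup.center (GL (Fin n) L))) (φ.comp θ))
  let ρ : N →* GL (Fin n) L := ((MonoidHom.snd _ _).comp (Subgroup.subtype _)).comp N.subtype
  let π : N →* D.SteinbergCover K := (pbπ _ _).comp N.subtype
  have h1 : Function.Surjective π := fun g => by
    have : g ∈ N.map (pbπ _ _) := by
      rw [show N = ⁅⊤, ⊤⁆ from rfl, Subgroup.map_commutator, Subgroup.map_top_of_surjective _ hs, ← commutator_def, hp]; trivial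
    obtain ⟨a, ha, rfl⟩ := this
    exact ⟨⟨a, ha⟩, rfl⟩
  have h2 : π.ker ≤ Subgroup.center N := fun z hz =>
    Subgroup.mem_center_iff.2 fun g => Subtype.ext (ker_comm (pbπ_ker hc _) hz _)
  have h3 : ∀ z : π.ker, ∃ a : Lˣ, (n = 0 ∨ a ^ n = 1) ∧ ρ z = GeneralLinearGroup.scalar _ a := fun z => by
    have e1 : (QuotientGroup.mk' (Subgroup.center (GL (Fin n) L))) (ρ z) = 1 :=
      z.1.1.2.symm.trans ((congrArg (φ.comp θ) z.2).trans (map_one _))
    obtain ⟨a, ha⟩ := GeneralLinearGroup.center_eq_range_scalar.le (hc e1)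
    refine ⟨a, .inr ?_, ha.symm⟩
    have := Abelianization.commutator_subset_ker (A := Lˣ)
      (GeneralLinearGroup.det.comp ((MonoidHom.snd _ _).comp (Subgroup.subtype _))) z.1.2
    have e3 : GeneralLinearGroup.det (ρ z) = 1 := this
    rw [← ha] at e3
    exact Units.ext (by simpa [GeneralLinearGroup.scalar] using congrArg Units.val e3)
  have h4 : ∀ z z' : π.ker, ρ z = ρ z' → z = z' := fun z z' e =>
    Subtype.ext (Subtype.ext (Subtype.ext (Prod.ext (z.2.trans z'.2.symm) e)))
  choose a h3 h5 using h3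
  haveI : Finite π.ker := by
    rcases Nat.eq_zero_or_pos n with rfl | hn
    · exact @Finite.of_subsingleton _ ⟨fun z z' => h4 _ _ (Subsingleton.elim _ _)⟩
    haveI : NeZero n := ⟨hn.ne'⟩
    exact Finite.of_injective (fun z => (⟨a z, (h3 z).resolve_left hn.ne'⟩ : rootsOfUnity n L)) fun z z' e =>
      h4 _ _ (by rw [h5, h5, show a z = a z' from congrArg Subtype.val e])
  obtain ⟨τ, hτ⟩ := h.cov_split (St.lifts_coprime h2 h1 (p := p) (by
    rw [Nat.coprime_comm, (Fact.out : p.Prime).coprime_iff_not_dvd]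
    intro hd
    obtain ⟨z, hz⟩ := exists_prime_orderOf_dvd_card' p hd
    have e1 : ρ z ^ p = 1 := by rw [← map_pow, ← Subgroup.coe_pow, ← hz, pow_orderOf_eq_one]; simp
    have e2 : ρ z = 1 := by
      rcases Nat.eq_zero_or_pos n with rfl | hn
      · exact Subsingleton.elim _ _
      rw [h5, ← map_pow] at e1
      have e3 : (a z : L) ^ p = 1 := by
        simpa [GeneralLinearGroup.scalar, diagonal_pow] using congrArg (fun g : GL (Fin n) L => g.1 ⟨0, hn⟩ ⟨0, hn⟩) e1
      rw [h5, show a z = 1 from Units.ext (frobenius_inj L p (by simpa [frobenius_def] using e3)), map_one]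
    rw [h4 z 1 (by simpa using e2), orderOf_one] at hz
    exact (Fact.out : p.Prime).one_lt.ne hz))
  exact ⟨N.subtype.comp τ, hτ⟩

end Cfsg.Agent.S2399
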