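import Cfsg.Statements.S2400
import Cfsg.Agent.Lib.Chev.Schur

set_option autoImplicit false
open Cfsg

namespace Cfsg.Agent.S2400

open Chev Cfsg.Lie

/-- Over a finite field `K`, the group presented by Steinberg's relators (R1)–(R3) (the universal Chevalley group) of type E₆ or E₇, or of type B₂ or D₄ with `K` of more than two elements, has trivial Schur multiplier: every finite stem extension of it is an isomorphism (Schur multiplier described through stem extensions as in the definitions). Types G₂, F₄ and E₈ are not covered here. -/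
theorem result {K : Type*} [Field K] [Fintype K] (e : Cfsg.Lie.ChevalleyDatum × ℕ)
    (he : e ∈ [(Cfsg.Lie.chevE6, 0), (Cfsg.Lie.chevE7, 0), (Cfsg.Lie.chevB2, 2), (Cfsg.Lie.chevD4, 2)]) (hK : Fintype.card K ≠ e.2) :
    Cfsg.HasCyclicSchurMultiplier (e.1.SteinbergGroup K) 1 := by
  have h2 : Fintype.card K ≠ 2 → ∃ a : K, a ≠ 0 ∧ a ≠ 1 := fun h =>
    ne_of_big ⟨Finset.univ, by have := Fintype.one_lt_card (α := K); rw [Finset.card_univ]; omega⟩
  simp only [List.mem_cons, List.not_mem_nil, or_false] at he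
  rcases he with rfl | rfl | rfl | rfl
  · exact checkedE6.hasSchur_uni (perfect_E6 checkedE6.uni_Gx) fun hc hs => St.lifts_sl hc hs checkedE6.uni_Gx sl_E6
  · exact checkedE7.hasSchur_uni (perfect_E7 checkedE7.uni_Gx) fun hc hs => St.lifts_sl hc hs checkedE7.uni_Gx sl_E7
  · exact checkedB2.hasSchur_uni (perfect_B2 checkedB2.uni_Gx (h2 hK)) fun hc hs => lifts_B2 hc hs checkedB2.uni_Gx (h2 hK)
  · exact checkedD4.hasSchur_uni (perfect_D4 checkedD4.uni_Gx) fun hc hs => lifts_D4 hc hs checkedD4.uni_Gx (h2 hK)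

end Cfsg.Agent.S2400
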