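import Cfsg.Statements.S2401
import Cfsg.Agent.Lib.Chev.TypeA2

set_option autoImplicit false
open Cfsg

namespace Cfsg.Agent.S2401

open Cfsg.Agent.Chev Matrix

/-- The Steinberg presentation of `SL_n` over a finite field for `n ≥ 3`: the group generated by symbols `x_ij(t)` (`i ≠ j`, `t` in the field) subject to `x_ij(t) x_ij(u) = x_ij(t + u)` and, for `i ≠ l`, `x_ij(t) x_kl(u) x_ij(t)⁻¹ x_kl(u)⁻¹ = x_il(tu)` if `j = k` and `= 1` if `j ≠ k`, is isomorphic to `SL_n` by an isomorphism sending `x_ij(t)` to the elementary matrix `1 + t E_ij`. -/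
theorem result {K : Type*} [Field K] [Finite K] (n : ℕ) (hn : 3 ≤ n) :
    ∃ e : PresentedGroup
        ({g : FreeGroup ({ij : Fin n × Fin n // ij.1 ≠ ij.2} × K) | ∃ (a : {ij : Fin n × Fin n // ij.1 ≠ ij.2}) (t u : K),
            g = FreeGroup.of (a, t) * FreeGroup.of (a, u) * (FreeGroup.of (a, t + u))⁻¹} ∪
          {g | ∃ (a b : {ij : Fin n × Fin n // ij.1 ≠ ij.2}) (t u : K), a.1.1 ≠ b.1.2 ∧ a.1.2 ≠ b.1.1 ∧
            g = FreeGroup.of (a, t) * FreeGroup.of (b, u) * (FreeGroup.of (a, t))⁻¹ * (FreeGroup.of (b, u))⁻¹} ∪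
          {g | ∃ (a b : {ij : Fin n × Fin n // ij.1 ≠ ij.2}) (h : a.1.1 ≠ b.1.2) (t u : K), a.1.2 = b.1.1 ∧
            g = FreeGroup.of (a, t) * FreeGroup.of (b, u) * (FreeGroup.of (a, t))⁻¹ * (FreeGroup.of (b, u))⁻¹ *
              (FreeGroup.of (⟨(a.1.1, b.1.2), h⟩, t * u))⁻¹}) ≃* Matrix.SpecialLinearGroup (Fin n) K,
      ∀ (a : {ij : Fin n × Fin n // ij.1 ≠ ij.2}) (t : K), ((e (PresentedGroup.of (a, t)) : Matrix (Fin n) (Fin n) K)) = Matrix.transvection a.1.1 a.1.2 t := by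
  obtain ⟨n, rfl⟩ : ∃ m, n = m + 1 := ⟨n - 1, by omega⟩
  set rels : Set (FreeGroup (RA n × K)) := _ ∪ _ ∪ _ with hr
  have h1 : ∀ g ∈ rels, FreeGroup.lift (fun p : RA n × K => SpecialLinearGroup.transvection p.1.2 p.2) g = 1 := by
    rintro _ ((⟨a, t, u, rfl⟩ | ⟨a, b, t, u, h, h', rfl⟩) | ⟨⟨⟨a, b⟩, p⟩, ⟨⟨c, d⟩, p'⟩, h, t, u, rfl, rfl⟩)
    · simp [SpecialLinearGroup.transvection_add]
    · simp [(tv_comm a.2 b.2 h h' t u).eq]
    · simp only [map_mul, map_inv, FreeGroup.lift_apply_of]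
      rw [← commutatorElement_def, tv_br h, mul_inv_cancel]
  have h2 : ∀ g ∈ rels, PresentedGroup.mk rels g = 1 := fun g => PresentedGroup.one_of_mem
  obtain ⟨φ, hφ⟩ := exists_homA (by omega) (relA (by omega) (y := fun r t => (PresentedGroup.of (r, t) : PresentedGroup rels))
    (fun r t u => mul_inv_eq_one.1 (h2 _ (.inl (.inl ⟨r, t, u, rfl⟩))))
    (fun r s t u h h' => commutatorElement_eq_one_iff_commute.1 (h2 _ (.inl (.inr ⟨r, s, t, u, h, h', rfl⟩))))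
    fun a b c h h' h'' t u => mul_inv_eq_one.1 (h2 _ (.inr ⟨⟨(a, b), h'⟩, ⟨(b, c), h''⟩, h, t, u, rfl, rfl⟩)))
  obtain ⟨S, a1, a2, -⟩ := exists_stA (n := n) (by omega) K
  refine ⟨(PresentedGroup.toGroup h1).toMulEquiv φ (PresentedGroup.ext fun x => ?_) (St.hom_ext a1 fun r t => ?_), fun a t => ?_⟩
  · simp [hφ]
  · simp [a2, hφ]
  · exact congrArg Subtype.val (PresentedGroup.toGroup.of h1)

end Cfsg.Agent.S2401
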