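import Cfsg.Statements.S2416
import Cfsg.Agent.Lib.Chev.Fix

set_option autoImplicit false
open scoped MatrixGroups
open Cfsg

namespace Cfsg.Agent.S2416

open Chev Cfsg.Lie Checked

theorem aux {K : Type*} [Field K] {D : ChevalleyDatum} {c : Cert} (h : Checked D c) (hΦ : h.toCD.Good)
    (a b p : Fin D.nroots) (e : ℤ) (he : (e : K) ≠ 0)
    (h1 : (b ≠ a ∧ b ≠ h.toCD.neg a ∧ h.toCD.ct a b = [(p, e, 1, 1)]) ∧ ∀ i : Fin D.rank, D.isLong (D.simple i) = false →
      h.toCD.ln (h.toCD.sim i) = h.toCD.ln a ∧ h.toCD.ln (h.toCD.sim i) = h.toCD.ln b ∧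
      ∀ r, h.toCD.ln (h.toCD.sim i) = h.toCD.ln r ∨ h.toCD.ln p = h.toCD.ln r)
    (i : ℕ) (hi : i < D.rank) (hshort : D.isLong (D.simple i) = false) :
    D.group K ≤ D.monomialSubgroup K ⊔ D.rootSubgroup K (D.simple i) := by
  rw [h.group_eq, h.N_eq, h.root_eq (h.sim_lt hi)]
  obtain ⟨h2, h3, h4⟩ := h1.2 ⟨i, hi⟩ hshort
  have h5 : ∀ r, h.toCD.ln (h.toCD.sim ⟨i, hi⟩) = h.toCD.ln r → ∀ t,
      (h.st K).x r t ∈ (h.st K).N ⊔ (h.st K).Ux {⟨_, h.sim_lt hi⟩} := fun r e t => by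
    obtain ⟨w, rfl⟩ := hΦ.trans _ _ e
    obtain ⟨m, hm, χ, -, hχ⟩ := St.exists_of_W (S := h.st K) w
    rw [← Units.mul_inv_cancel_left (χ _) t, ← hχ]
    exact mul_mem (mul_mem (Subgroup.mem_sup_left hm) (Subgroup.mem_sup_right (St.x_mem (Set.mem_singleton _) _)))
      (inv_mem (Subgroup.mem_sup_left hm))
  exact St.Gx_le_of_len hΦ le_sup_left fun r => (h4 r).elim (fun e => ⟨r, rfl, h5 r e⟩)
    fun e => ⟨p, e, St.x_mem_of_ct h1.1 he (h5 a h2) (h5 b h3)⟩

theorem aux2 {K : Type*} [Field K] {D : ChevalleyDatum} {c : Cert} (h : Checked D c) (hΦ : h.toCD.Good)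
    (h1 : ∀ r, h.toCD.ln r = 1) (i : ℕ) (hi : i < D.rank) :
    D.group K ≤ D.monomialSubgroup K ⊔ D.rootSubgroup K (D.simple i) := by
  rw [h.group_eq, h.N_eq, h.root_eq (h.sim_lt hi)]
  exact St.Gx_le_of_len hΦ le_sup_left fun r => ⟨_, by rw [h1, h1],
    fun t => Subgroup.mem_sup_right (St.x_mem (Set.mem_singleton _) _)⟩

theorem ne {K : Type*} [Field K] {p : ℕ} (hp : p.Prime) (h : ringChar K ≠ p) : ((p : ℤ) : K) ≠ 0 := fun e =>
  h (CharP.ringChar_of_prime_eq_zero hp (by simpa using e))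

/-- A Chevalley group of type G₂, B₂, D₄, F₄, E₆, E₇ or E₈ over a finite field lies in (indeed equals) the subgroup generated by its monomial subgroup `N` and a single fundamental root subgroup `X_p`, where `p` is a short fundamental root if there are two root lengths (any fundamental root otherwise), provided the characteristic is not 2 for types B₂, F₄ and not 3 for type G₂ (and the field has more than two elements for B₂, G₂). -/
theorem result {K : Type*} [Field K] [Finite K] (D : Cfsg.Lie.ChevalleyDatum) (hD : D ∈ [Cfsg.Lie.chevG2, Cfsg.Lie.chevB2, Cfsg.Lie.chevD4, Cfsg.Lie.chevF4, Cfsg.Lie.chevE6, Cfsg.Lie.chevE7, Cfsg.Lie.chevE8])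
    (hK : D ∈ [Cfsg.Lie.chevB2, Cfsg.Lie.chevG2] → ∃ x : K, x ≠ 0 ∧ x ≠ 1)
    (h2 : D ∈ [Cfsg.Lie.chevB2, Cfsg.Lie.chevF4] → ringChar K ≠ 2) (h3 : D = Cfsg.Lie.chevG2 → ringChar K ≠ 3)
    (i : ℕ) (hi : i < D.rank) (hshort : D.isLong (D.simple i) = false) :
    D.group K ≤ D.monomialSubgroup K ⊔ D.rootSubgroup K (D.simple i) := by
  simp only [List.mem_cons, List.not_mem_nil, or_false] at hD h2
  rcases hD with rfl | rfl | rfl | rfl | rfl | rfl | rfl
  · exact aux checkedG2 good_G2 (g2r 7) (g2r 9) (g2r 10) 3 (ne Nat.prime_three (h3 rfl)) (by decide +kernel) i hi hshort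
  · exact aux checkedB2 good_B2 ⟨5, by decide⟩ ⟨6, by decide⟩ ⟨7, by decide⟩ 2 (ne Nat.prime_two (h2 (.inl rfl)))
      (by decide +kernel) i hi hshort
  · exact aux2 checkedD4 good_D4 (by decide +kernel) i hi
  · exact aux checkedF4 good_F4 (f4r 27) (f4r 28) (f4r 30) 2 (ne Nat.prime_two (h2 (.inr rfl)))
      (by decide +kernel) i hi hshort
  · exact aux2 checkedE6 good_E6 (by decide +kernel) i hi
  · exact aux2 checkedE7 good_E7 (by decide +kernel) i hi
  · exact aux2 checkedE8 good_E8 (by decide +kernel) i hi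

end Cfsg.Agent.S2416
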