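import Cfsg.Statements.S2417
import Cfsg.Agent.Lib.Chev.Fix

set_option autoImplicit false
open scoped MatrixGroups
open Cfsg

namespace Cfsg.Agent.S2417

open Chev Cfsg.Lie Checked

theorem aux {K : Type*} [Field K] {D : ChevalleyDatum} {c : Cert} (h : Checked D c) (hΦ : h.toCD.Good)
    (h1 : ∀ i j : Fin D.rank, D.isLong (D.simple i) = false → D.isLong (D.simple j) = true →
      ∀ r, h.toCD.ln (h.toCD.sim i) = h.toCD.ln r ∨ h.toCD.ln (h.toCD.sim j) = h.toCD.ln r)
    (i j : ℕ) (hi : i < D.rank) (hj : j < D.rank) (hshort : D.isLong (D.simple i) = false)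
    (hlong : D.isLong (D.simple j) = true) :
    D.group K ≤ D.monomialSubgroup K ⊔ D.rootSubgroup K (D.simple i) ⊔ D.rootSubgroup K (D.simple j) := by
  rw [h.group_eq, h.N_eq, h.root_eq (h.sim_lt hi), h.root_eq (h.sim_lt hj)]
  exact St.Gx_le_of_len hΦ (le_sup_left.trans le_sup_left) fun r => (h1 ⟨i, hi⟩ ⟨j, hj⟩ hshort hlong r).elim
    (fun e => ⟨_, e, fun t => Subgroup.mem_sup_left (Subgroup.mem_sup_right (St.x_mem (Set.mem_singleton _) _))⟩)
    fun e => ⟨_, e, fun t => Subgroup.mem_sup_right (St.x_mem (Set.mem_singleton _) _)⟩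

/-- In the characteristics with an exceptional graph symmetry — type B₂ or F₄ in characteristic 2 (field of more than two elements for B₂) and type G₂ in characteristic 3 — the Chevalley group lies in the subgroup generated by its monomial subgroup `N` and the two fundamental root subgroups `X_a`, `X_b` of a short root `a` and a long root `b` joined in the Dynkin diagram. -/
theorem result {K : Type*} [Field K] [Finite K] (e : Cfsg.Lie.ChevalleyDatum × ℕ)
    (he : e ∈ [(Cfsg.Lie.chevB2, 2), (Cfsg.Lie.chevF4, 2), (Cfsg.Lie.chevG2, 3)]) [CharP K e.2]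
    (hK : e.1 = Cfsg.Lie.chevB2 → ∃ x : K, x ≠ 0 ∧ x ≠ 1)
    (i j : ℕ) (hi : i < e.1.rank) (hj : j < e.1.rank) (hshort : e.1.isLong (e.1.simple i) = false)
    (hlong : e.1.isLong (e.1.simple j) = true) (hbond : e.1.bonds i j ≠ 0) :
    e.1.group K ≤ e.1.monomialSubgroup K ⊔ e.1.rootSubgroup K (e.1.simple i) ⊔ e.1.rootSubgroup K (e.1.simple j) := by
  simp only [List.mem_cons, List.not_mem_nil, or_false] at he
  rcases he with rfl | rfl | rfl
  · exact aux checkedB2 good_B2 (by decide +kernel) i j hi hj hshort hlong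
  · exact aux checkedF4 good_F4 (by decide +kernel) i j hi hj hshort hlong
  · exact aux checkedG2 good_G2 (by decide +kernel) i j hi hj hshort hlong

end Cfsg.Agent.S2417
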