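import Cfsg.Statements.S2418
import Mathlib
import Cfsg.Agent.Lib.Perm.Wey1

set_option autoImplicit false
open Cfsg

namespace Cfsg.Agent.S2418

open Cfsg.Agent.Chev Perm.Wey Cfsg.Lie

theorem one_chk {D : ChevalleyDatum} {c : Cert} (h : Checked D c) (hc : h.toRS.Conn)
    (L : List (Fin D.rank)) (σ : Fin D.rank → Fin D.rank)
    (hL : ∀ i : Fin D.rank, wact c (L.map Fin.val) (D.simple i) = D.neg (D.simple (σ i))) (i : Fin D.rank)
    (hi : σ i ≠ i) : Subgroup.center h.toRS.W = ⊥ := by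
  have h1 : ∀ i, wp h.toRS.s L • h.toRS.sim i = h.toRS.neg (h.toRS.sim (σ i)) := fun i =>
    Fin.ext (by rw [h.wp_smul]; exact hL i)
  refine center_one hc (z := wp h.toRS.s L) (fun i => ?_) (i := i) fun e => ?_
  · rw [h1]; exact h.toRS.not_pos_neg_sim _
  · rw [h1] at e
    exact hi (h.toRS.sim_inj (h.toRS.neg_inj e))

theorem e6 : Subgroup.center checkedE6.toRS.W = ⊥ :=
  one_chk checkedE6 conn_E6 ([0, 1, 2, 0, 3, 1, 2, 0, 3, 2, 4, 3, 1, 2, 0, 3, 2, 4, 3, 1, 5, 4, 3, 1, 2, 0,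
    3, 2, 4, 3, 1, 5, 4, 3, 2, 0] : List (Fin 6)) (![5, 1, 4, 3, 2, 0] : Fin 6 → Fin 6) (by decide +kernel)
    (0 : Fin 6) (show (5 : Fin 6) ≠ 0 by decide)

/-- For the Coxeter groups of types B₂, G₂, D₄, F₄, E₇, E₈ the centre has order 2 (the element acting as −1 on the root system) and is generated by a power of the Coxeter element `s₁ s₂ ⋯ s_l`; the Coxeter group of type E₆ has trivial centre. -/
theorem result (c : (Σ n : ℕ, CoxeterMatrix (Fin n)) × ℕ)
    (hc : c ∈ [(⟨2, CoxeterMatrix.B 2⟩, 2), (⟨2, CoxeterMatrix.G₂⟩, 2), (⟨4, Cfsg.Lie.coxeterD4⟩, 2), (⟨4, CoxeterMatrix.F₄⟩, 2),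
      (⟨6, CoxeterMatrix.E₆⟩, 1), (⟨7, CoxeterMatrix.E₇⟩, 2), (⟨8, CoxeterMatrix.E₈⟩, 2)]) :
    Nat.card (Subgroup.center c.1.2.Group) = c.2 ∧
      Subgroup.center c.1.2.Group ≤ Subgroup.zpowers ((List.finRange c.1.1).map c.1.2.simple).prod := by
  simp only [List.mem_cons, List.not_mem_nil, or_false] at hc
  rcases hc with rfl | rfl | rfl | rfl | rfl | rfl | rfl
  · exact center_tr cox_B2 (center_chk checkedB2 conn_B2 (by decide) 2 (by decide +kernel))
  · exact center_tr cox_G2 (center_chk checkedG2 conn_G2 (by decide) 3 (by decide +kernel))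
  · exact center_tr cox_D4 (center_chk checkedD4 conn_D4 (by decide) 3 (by decide +kernel))
  · exact center_tr cox_F4 (center_chk checkedF4 conn_F4 (by decide) 6 (by decide +kernel))
  · exact center_tr cox_E6 (by rw [e6]; exact ⟨Subgroup.card_bot, bot_le⟩)
  · exact center_tr cox_E7 (center_chk checkedE7 conn_E7 (by decide) 9 (by decide +kernel))
  · exact center_tr cox_E8 (center_chk checkedE8 conn_E8 (by decide) 15 (by decide +kernel))

end Cfsg.Agent.S2418
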