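import Cfsg.Statements.S2419
import Mathlib
import Cfsg.Agent.Lib.Perm.Wey1

set_option autoImplicit false
open Cfsg

namespace Cfsg.Agent.S2419

open Cfsg.Agent.Chev Perm.Wey Cfsg.Lie

/-- The Coxeter groups of types B₂, G₂, E₆, E₇, E₈ are generated by the Coxeter element `s₁ s₂ ⋯ s_l` together with one suitable reflection (a conjugate of a simple reflection); for types D₄ and F₄ the Coxeter element together with two suitable reflections suffices. -/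
theorem result (c : (Σ n : ℕ, CoxeterMatrix (Fin n)) × ℕ)
    (hc : c ∈ [(⟨2, CoxeterMatrix.B 2⟩, 1), (⟨2, CoxeterMatrix.G₂⟩, 1), (⟨4, Cfsg.Lie.coxeterD4⟩, 2), (⟨4, CoxeterMatrix.F₄⟩, 2),
      (⟨6, CoxeterMatrix.E₆⟩, 1), (⟨7, CoxeterMatrix.E₇⟩, 1), (⟨8, CoxeterMatrix.E₈⟩, 1)]) :
    ∃ T : Finset c.1.2.Group, T.card = c.2 ∧ (∀ t ∈ T, ∃ (g : c.1.2.Group) (i : Fin c.1.1), t = g * c.1.2.simple i * g⁻¹) ∧
      Subgroup.closure (({((List.finRange c.1.1).map c.1.2.simple).prod} : Set c.1.2.Group) ∪ ↑T) = ⊤ := by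
  simp only [List.mem_cons, List.not_mem_nil, or_false] at hc
  rcases hc with rfl | rfl | rfl | rfl | rfl | rfl | rfl
  · exact gen_tr cox_B2 s_inj {0} (gen_two checkedB2.toRS.invGen)
  · exact gen_tr cox_G2 s_inj {0} (gen_two checkedG2.toRS.invGen)
  · exact gen_tr cox_D4 s_inj {0, 2} (gen_chk checkedD4 (0 : Fin 4) (2 : Fin 4)
      (![(true, []), (true, [0]), (false, []), (true, [0, 2, 0])] : Fin 4 → _) (by decide +kernel))
  · exact gen_tr cox_F4 s_inj {0, 2} (gen_chk checkedF4 (0 : Fin 4) (2 : Fin 4)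
      (![(true, []), (true, [0]), (false, []), (false, [0])] : Fin 4 → _) (by decide +kernel))
  · exact gen_tr cox_E6 s_inj {0, 0} (gen_chk checkedE6 (0 : Fin 6) (0 : Fin 6)
      (![(true, []), (true, [0, 0, 1, 0, 0, 0, 1]), (true, [0]), (true, [0, 0, 0, 0, 0]),
        (true, [0, 0, 0, 0, 0, 0]), (true, [0, 0, 0, 0, 0, 0, 0])] : Fin 6 → _) (by decide +kernel))
  · exact gen_tr cox_E7 s_inj {1, 1} (gen_chk checkedE7 (1 : Fin 7) (1 : Fin 7)
      (![(true, [0, 0, 0, 1, 0, 0, 1]), (true, []), (true, [0, 0, 0, 0, 1, 0, 0, 1]),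
        (true, [1, 0, 0, 0, 0, 0, 1, 0, 0, 1]), (true, [0, 1, 0, 0, 0, 0, 0, 1, 0, 0, 1]),
        (true, [0, 0, 1, 0, 0, 0, 0, 0, 1, 0, 0, 1]),
        (true, [0, 0, 0, 1, 0, 0, 0, 0, 0, 1, 0, 0, 1])] : Fin 7 → _) (by decide +kernel))
  · exact gen_tr cox_E8 s_inj {0, 0} (gen_chk checkedE8 (0 : Fin 8) (0 : Fin 8)
      (![(true, []), (true, [0, 0, 1, 0, 0, 1, 0, 0, 0, 1]), (true, [0]),
        (true, [0, 0, 0, 0, 1, 0, 0, 0]), (true, [0, 0, 0, 0, 0, 1, 0, 0, 0]),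
        (true, [0, 0, 0, 0, 0, 0, 1, 0, 0, 0]), (true, [0, 0, 0, 0, 0, 0, 0, 1, 0, 0, 0]),
        (true, [0, 0, 0, 0, 0, 0, 0, 0, 1, 0, 0, 0])] : Fin 8 → _) (by decide +kernel))

end Cfsg.Agent.S2419
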