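import Cfsg.Statements.S2420

set_option autoImplicit false
open scoped MatrixGroups
open Cfsg

namespace Cfsg.Agent.S2420

open Matrix in
theorem card_parab {F : Type*} [Field F] [Fintype F] {ι α : Type*} [Fintype ι] [DecidableEq ι]
    [Fintype α] [LinearOrder α] (b : ι → α) :
    Nat.card {g : GL ι F // g.val.BlockTriangular b} = (∏ a, Nat.card (GL {i // b i = a} F)) *
      Fintype.card F ^ Fintype.card {p : ι × ι // b p.1 < b p.2} := by
  classical
  rw [← Nat.card_pi, ← Fintype.card_fun, ← Nat.card_eq_fintype_card, ← Nat.card_prod]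
  refine Nat.card_congr (Equiv.ofBijective (fun g => (fun a => GeneralLinearGroup.mkOfDetNeZero
    (g.1.val.toSquareBlock b a) (Finset.prod_ne_zero_iff.1 (g.2.det_fintype ▸ g.1.det_ne_zero) a
      (Finset.mem_univ a)), fun p => g.1.val p.1.1 p.1.2)) ⟨fun g g' h => ?_, fun ⟨h, u⟩ => ?_⟩)
  · refine Subtype.ext (Units.ext (Matrix.ext fun i j => ?_))
    rcases lt_trichotomy (b i) (b j) with hij | hij | hij
    · exact congrFun (congrArg Prod.snd h) ⟨(i, j), hij⟩
    · exact congrArg (fun x : GL {i // b i = b j} F => x.val ⟨i, hij⟩ ⟨j, rfl⟩)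
        (congrFun (congrArg Prod.fst h) (b j))
    · rw [g.2 hij, g'.2 hij]
  · let M : Matrix ι ι F := of fun i j => if hij : b i = b j then (h (b j)).val ⟨i, hij⟩ ⟨j, rfl⟩ else
      if hij : b i < b j then u ⟨(i, j), hij⟩ else 0
    have hM : M.BlockTriangular b := fun i j hij => by
      simp [M, hij.ne', hij.not_gt]
    have hM2 : ∀ a, M.toSquareBlock b a = (h a).val := fun a => by
      ext ⟨i, hi⟩ ⟨j, rfl⟩
      simp [M, toSquareBlock_def, hi]
    refine ⟨⟨GeneralLinearGroup.mkOfDetNeZero M ?_, hM⟩, Prod.ext (funext fun a => Units.ext (hM2 a))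
      (funext fun p => ?_)⟩
    · rw [hM.det_fintype]
      exact Finset.prod_ne_zero_iff.2 fun a _ => by rw [hM2]; exact (h a).det_ne_zero
    · change M p.1.1 p.1.2 = _
      simp [M, p.2.ne, p.2]

theorem card_GL' {F : Type*} [Field F] [Fintype F] {ι : Type*} [Fintype ι] [DecidableEq ι] {m q : ℕ}
    (hq : Fintype.card F = q) (hm : Fintype.card ι = m) :
    Nat.card (GL ι F) = q ^ (∑ j ∈ Finset.range m, j) * (q - 1) ^ m *
      ∏ j ∈ Finset.range m, ∑ l ∈ Finset.range (j + 1), q ^ l := by
  rw [Nat.card_congr (Units.mapEquiv (Matrix.reindexAlgEquiv F F (Fintype.equivFinOfCardEq hm)).toMulEquiv).toEquiv]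
  erw [Matrix.card_GL_field]
  have h1 : 1 < q := hq ▸ Fintype.one_lt_card
  rw [hq, Fin.prod_univ_eq_prod_range (fun i => q ^ m - q ^ i), ← Finset.prod_pow_eq_pow_sum,
    ← Finset.prod_range_reflect (fun j => ∑ l ∈ Finset.range (j + 1), q ^ l),
    show (q - 1) ^ m = ∏ _j ∈ Finset.range m, (q - 1) by simp, ← Finset.prod_mul_distrib,
    ← Finset.prod_mul_distrib]
  refine Finset.prod_congr rfl fun j hj => ?_
  have hj' := Finset.mem_range.1 hj
  rw [mul_assoc, mul_comm (q - 1), geom_sum_mul_of_one_le h1.le, Nat.mul_sub, ← pow_add, mul_one]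
  congr 2
  omega

theorem pairs {ι α : Type*} [Fintype ι] [Fintype α] [LinearOrder α] (b : ι → α) :
    2 * Fintype.card {p : ι × ι // b p.1 < b p.2} + ∑ a, Fintype.card {i // b i = a} ^ 2 =
      Fintype.card ι ^ 2 := by
  classical
  have h1 : Fintype.card {p : ι × ι // b p.1 < b p.2} = Fintype.card {p : ι × ι // b p.2 < b p.1} :=
    Fintype.card_congr ((Equiv.prodComm ι ι).subtypeEquiv fun _ => Iff.rfl)
  have h2 : ∑ a, Fintype.card {i // b i = a} ^ 2 = Fintype.card {p : ι × ι // b p.1 = b p.2} := by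
    rw [Fintype.card_subtype, Finset.card_eq_sum_card_fiberwise (f := fun p => b p.1) (t := Finset.univ)
      (by simp)]
    refine Finset.sum_congr rfl fun a _ => ?_
    rw [Fintype.card_subtype, sq, ← Finset.card_product]
    congr 1
    ext p
    simp only [Finset.mem_product, Finset.mem_filter, Finset.mem_univ, true_and]
    exact ⟨fun h => ⟨h.1.trans h.2.symm, h.1⟩, fun h => ⟨h.2, h.1.symm.trans h.2⟩⟩
  rw [h2, two_mul]
  nth_rewrite 2 [h1]
  simp only [Fintype.card_subtype, Finset.card_filter, ← Finset.sum_add_distrib]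
  rw [sq, ← Fintype.card_prod, Fintype.card_eq_sum_ones]
  refine Finset.sum_congr rfl fun p _ => ?_
  rcases lt_trichotomy (b p.1) (b p.2) with h | h | h
  · simp [h, h.ne, h.not_gt]
  · simp [h]
  · simp [h, h.ne', h.not_gt]

theorem label_le {n : ℕ} (μ : Fin n → ℕ) (i a : Fin n) :
    compLabel μ i ≤ a ↔ i.val < ∑ k ∈ Finset.univ.filter (fun k : Fin n => k ≤ a), μ k := by
  have mono : ∀ j j' : Fin n, j ≤ j' → ∑ k ∈ Finset.univ.filter (fun k : Fin n => k ≤ j), μ k ≤
      ∑ k ∈ Finset.univ.filter (fun k : Fin n => k ≤ j'), μ k := fun j j' h =>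
    Finset.sum_le_sum_of_subset fun k hk => by
      simp only [Finset.mem_filter, Finset.mem_univ, true_and] at hk ⊢; exact hk.trans h
  unfold compLabel
  constructor
  · intro h
    by_contra h'
    have : Finset.Iic a ⊆ Finset.univ.filter fun j : Fin n =>
        (∑ k ∈ Finset.univ.filter (fun k : Fin n => k ≤ j), μ k) ≤ i.val := fun j hj =>
      Finset.mem_filter.2 ⟨Finset.mem_univ _, (mono j a (Finset.mem_Iic.1 hj)).trans (not_lt.1 h')⟩
    have := Finset.card_le_card this
    rw [Fin.card_Iic] at this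
    omega
  · intro h
    rw [← Fin.card_Iio a]
    refine Finset.card_le_card fun j hj => Finset.mem_Iio.2 (lt_of_not_ge fun h' => ?_)
    exact absurd ((mono a j h').trans (Finset.mem_filter.1 hj).2) h.not_ge

theorem card_le_label {n : ℕ} (μ : Fin n → ℕ) (hμ : ∑ i, μ i = n) (a : Fin n) :
    (Finset.univ.filter fun i => compLabel μ i ≤ a).card =
      ∑ k ∈ Finset.univ.filter (fun k : Fin n => k ≤ a), μ k := by
  simp only [label_le]
  rw [Fin.card_filter_val_lt, min_eq_right]
  exact (Finset.sum_le_sum_of_subset (Finset.filter_subset _ _)).trans hμ.le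

theorem label_lt {n : ℕ} (μ : Fin n → ℕ) (hμ : ∑ i, μ i = n) (i : Fin n) : compLabel μ i < n := by
  have hn : n - 1 < n := by have := i.pos; omega
  have := (label_le μ i ⟨n - 1, hn⟩).2 (by
    rw [Finset.filter_true_of_mem fun k _ => Fin.le_def.2 (by have := k.2; simp; omega), hμ]
    exact i.2)
  simp only at this
  omega

theorem card_label {n : ℕ} (μ : Fin n → ℕ) (hμ : ∑ i, μ i = n) (a : Fin n) :
    (Finset.univ.filter fun i => compLabel μ i = a).card = μ a := by
  have h1 := card_le_label μ hμ a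
  rw [show (Finset.univ.filter fun k : Fin n => k ≤ a) = insert a (Finset.univ.filter fun k => k < a) by
    ext k; simp [le_iff_eq_or_lt], Finset.sum_insert (by simp),
    show (Finset.univ.filter fun i => compLabel μ i ≤ a) = (Finset.univ.filter fun i => compLabel μ i = a) ∪
      (Finset.univ.filter fun i => compLabel μ i < a) by ext k; simp [le_iff_eq_or_lt],
    Finset.card_union_of_disjoint (Finset.disjoint_filter.2 fun _ _ h => by omega)] at h1
  suffices (Finset.univ.filter fun i => compLabel μ i < a).card =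
      ∑ k ∈ Finset.univ.filter (fun k : Fin n => k < a), μ k by omega
  rcases Nat.eq_zero_or_pos a with h | h
  · rw [Finset.filter_false_of_mem fun _ _ => by omega,
      Finset.filter_false_of_mem fun k _ => by rw [Fin.lt_def]; omega]
    simp
  · have := card_le_label μ hμ ⟨a - 1, by omega⟩
    convert this using 2
    · ext k; simp; omega
    · ext k; simp only [Finset.mem_filter, Finset.mem_univ, true_and, Fin.lt_def, Fin.le_def]; omega


/-- The number of partial flags of a given type: for a composition `μ` of `n` (with `n` parts, zeros allowed) and a field with `q` elements, the index of the standard parabolic subgroup `P_μ` in `GL_n(q)` times `∏_i {μ_i}` equals `{n}`, where `{r}` denotes the product over `k = 1, …, r` of the q-integers `1 + q + ⋯ + q^(k−1)`. -/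
theorem result {F : Type*} [Field F] [Fintype F] {q : ℕ} (hq : Fintype.card F = q) {n : ℕ} (μ : Fin n → ℕ) (hμ : ∑ i, μ i = n) :
    Nat.card (GL (Fin n) F ⧸ Cfsg.parabolicGL n F μ) * ∏ i : Fin n, ∏ j ∈ Finset.range (μ i), ∑ l ∈ Finset.range (j + 1), q ^ l =
      ∏ j ∈ Finset.range n, ∑ l ∈ Finset.range (j + 1), q ^ l := by
  classical
  let b : Fin n → Fin n := fun i => ⟨compLabel μ i, label_lt μ hμ i⟩
  have hb : ∀ a, Fintype.card {i // b i = a} = μ a := fun a => by
    rw [Fintype.card_subtype, ← card_label μ hμ a]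
    congr 1
    ext i
    simp [b, Fin.ext_iff]
  have h1 : Nat.card (parabolicGL n F μ) = _ := card_parab (F := F) b
  have h2 := pairs b
  simp only [card_GL' hq (hb _), hb, Fintype.card_fin, hq] at h1 h2
  have h3 := (parabolicGL n F μ).card_eq_card_quotient_mul_card_subgroup
  rw [card_GL' hq (Fintype.card_fin n), h1, Finset.prod_mul_distrib, Finset.prod_mul_distrib,
    Finset.prod_pow_eq_pow_sum, Finset.prod_pow_eq_pow_sum, hμ] at h3
  have h4 : ∀ m : ℕ, (∑ j ∈ Finset.range m, j) * 2 + m = m ^ 2 := fun m => by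
    induction m with
    | zero => simp
    | succ m ih => rw [Finset.sum_range_succ]; linarith
  have h5 : ∑ j ∈ Finset.range n, j = ∑ a, ∑ j ∈ Finset.range (μ a), j +
      Fintype.card {p : Fin n × Fin n // b p.1 < b p.2} := by
    simp only [← h4, Finset.sum_add_distrib, ← Finset.sum_mul, hμ] at h2
    omega
  have hq1 : 1 < q := hq ▸ Fintype.one_lt_card
  have hpos : 0 < q ^ (∑ j ∈ Finset.range n, j) * (q - 1) ^ n := by
    have : 0 < q - 1 := by omega
    positivity
  refine Nat.eq_of_mul_eq_mul_left hpos ?_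
  rw [h3, h5, pow_add]
  ring

end Cfsg.Agent.S2420
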