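import Cfsg.Statements.S2426
import Cfsg.Agent.Lib.Classical.St2

set_option autoImplicit false
open Cfsg

namespace Cfsg.Agent.S2426
open Cfsg.Agent.Classical

open Matrix in
def L2 {K : Type*} [Field K] (a : K) : SpecialLinearGroup (Fin 2) K := ⟨!![1, 0; a, 1], by simp [det_fin_two_of]⟩

def gen {K : Type*} [Field K] (p : Bool × K) : Matrix.SpecialLinearGroup (Fin 2) K :=
  if p.1 then Pres.U2 p.2 else L2 p.2

theorem gen_t {K : Type*} [Field K] (a : K) : (gen (true, a)).1 = !![1, a; 0, 1] := rfl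
theorem gen_f {K : Type*} [Field K] (a : K) : (gen (false, a)).1 = !![1, 0; a, 1] := rfl
theorem vm {K : Type*} [Field K] (a b : Matrix.SpecialLinearGroup (Fin 2) K) : (a * b).1 = a.1 * b.1 := rfl


/-- The rank-one Steinberg presentation of `SL₂` over a finite field `K`: generators `x(t)`, `y(t)` (`t ∈ K`; the two opposite root subgroups) subject to additivity `x(t)x(u) = x(t+u)`, `y(t)y(u) = y(t+u)` and, with `w(t) = x(t) y(−t⁻¹) x(t)` and `w'(t) = y(t) x(−t⁻¹) y(t)` for `t ≠ 0`, the relations `w(t) x(u) w(t)⁻¹ = y(−t⁻² u)` and `w'(t) y(u) w'(t)⁻¹ = x(−t⁻² u)`, present `SL₂(K)`, with `x(t) ↦ (1 t; 0 1)` and `y(t) ↦ (1 0; t 1)`. -/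
theorem result {K : Type*} [Field K] [Finite K] :
    ∃ e : PresentedGroup
        ({g : FreeGroup (Bool × K) | ∃ (b : Bool) (t u : K), g = FreeGroup.of (b, t) * FreeGroup.of (b, u) * (FreeGroup.of (b, t + u))⁻¹} ∪
          {g | ∃ (b : Bool) (t u : K), t ≠ 0 ∧
            g = (FreeGroup.of (b, t) * FreeGroup.of (!b, -t⁻¹) * FreeGroup.of (b, t)) * FreeGroup.of (b, u) *
                  (FreeGroup.of (b, t) * FreeGroup.of (!b, -t⁻¹) * FreeGroup.of (b, t))⁻¹ * (FreeGroup.of (!b, -(t⁻¹ ^ 2 * u)))⁻¹})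
        ≃* Matrix.SpecialLinearGroup (Fin 2) K,
      (∀ t : K, ((e (PresentedGroup.of (true, t)) : Matrix (Fin 2) (Fin 2) K)) = !![1, t; 0, 1]) ∧
      (∀ t : K, ((e (PresentedGroup.of (false, t)) : Matrix (Fin 2) (Fin 2) K)) = !![1, 0; t, 1]) := by
  set R : Set (FreeGroup (Bool × K)) := _ ∪ _ with hR
  have hrel : ∀ r ∈ R, FreeGroup.lift (gen (K := K)) r = 1 := by
    rintro r (⟨b, t, u, rfl⟩ | ⟨b, t, u, ht, rfl⟩)
    · simp only [map_mul, map_inv, FreeGroup.lift_apply_of, mul_inv_eq_one]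
      apply Subtype.ext
      cases b <;> simp [vm, gen_t, gen_f, add_comm]
    · simp only [map_mul, map_inv, FreeGroup.lift_apply_of, mul_inv_eq_one, mul_inv_eq_iff_eq_mul]
      apply Subtype.ext
      cases b <;> simp only [vm, gen_t, gen_f, Bool.not_true, Bool.not_false] <;> ext i j <;>
        fin_cases i <;> fin_cases j <;> simp [ht] <;> field_simp
  let π := PresentedGroup.toGroup hrel
  have hπ : ∀ p, π (PresentedGroup.of p) = gen p := fun p => PresentedGroup.toGroup.of hrel
  have had : ∀ b, Pres.Ad fun a : K => (PresentedGroup.of (b, a) : PresentedGroup R) := fun b t u => by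
    have := PresentedGroup.one_of_mem (rels := R) (Or.inl ⟨b, t, u, rfl⟩)
    rw [map_mul, map_mul, map_inv, mul_inv_eq_one] at this
    exact this.symm
  have hS : Pres.St2 (fun a : K => (PresentedGroup.of (true, a) : PresentedGroup R))
      fun a => PresentedGroup.of (false, a) := ⟨had _, had _, fun t u => by
    have := PresentedGroup.one_of_mem (rels := R) (Or.inr ⟨true, t, u, t.ne_zero, rfl⟩)
    simp only [map_mul, map_inv, mul_inv_eq_one] at this
    exact this⟩
  have hinj : Function.Injective π := (injective_iff_map_eq_one π).2 fun j hj =>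
    hS.inj π (fun a => hπ _) (fun a => by rw [hπ]; rfl) (by
      refine (Subgroup.closure_mono ?_) (PresentedGroup.closure_range_of R ▸ Subgroup.mem_top j)
      rintro _ ⟨⟨b, a⟩, rfl⟩
      cases b
      · exact .inr ⟨a, rfl⟩
      · exact .inl ⟨a, rfl⟩) hj
  have hsurj : Function.Surjective π := MonoidHom.range_eq_top.1 (Pres.sl2_gen
    (fun a => ⟨_, hπ (true, a)⟩) ⟨PresentedGroup.of (true, 1) * PresentedGroup.of (false, -1) *
      PresentedGroup.of (true, 1), Subtype.ext (by
        simp only [map_mul, hπ, vm, gen_t, gen_f, Pres.T2_val]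
        ext i j; fin_cases i <;> fin_cases j <;> simp)⟩)
  exact ⟨MulEquiv.ofBijective π ⟨hinj, hsurj⟩, fun t => congrArg Subtype.val (hπ (true, t)),
    fun t => congrArg Subtype.val (hπ (false, t))⟩

end Cfsg.Agent.S2426
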