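import Cfsg.Statements.S2427


set_option autoImplicit false
open Cfsg

namespace Cfsg.Agent.S2427

set_option linter.unusedSectionVars false
set_option linter.unusedVariables false
set_option linter.style.haveILetI false
set_option linter.unusedSimpArgs false

/-- The group SL₂ over the field with 3 elements has order 24 and centre of order 2; its commutator subgroup has order 8, is isomorphic to the quaternion group of order 8 and is complemented by every Sylow 3-subgroup (so the group is a semidirect product of a quaternion group of order 8 by a cyclic group of order 3); and its only normal subgroups besides the trivial subgroup and the whole group are the centre and the commutator subgroup. -/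
theorem result :
    Nat.card (Matrix.SpecialLinearGroup (Fin 2) (ZMod 3)) = 24 ∧
    Nat.card (Subgroup.center (Matrix.SpecialLinearGroup (Fin 2) (ZMod 3))) = 2 ∧
    Nat.card (commutator (Matrix.SpecialLinearGroup (Fin 2) (ZMod 3))) = 8 ∧
    Nonempty (commutator (Matrix.SpecialLinearGroup (Fin 2) (ZMod 3)) ≃* QuaternionGroup 2) ∧
    (∀ P : Sylow 3 (Matrix.SpecialLinearGroup (Fin 2) (ZMod 3)),
      Subgroup.IsComplement' (commutator (Matrix.SpecialLinearGroup (Fin 2) (ZMod 3)))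
        (P : Subgroup (Matrix.SpecialLinearGroup (Fin 2) (ZMod 3)))) ∧
    ∀ N : Subgroup (Matrix.SpecialLinearGroup (Fin 2) (ZMod 3)), N.Normal →
      N = ⊥ ∨ N = ⊤ ∨ N = Subgroup.center (Matrix.SpecialLinearGroup (Fin 2) (ZMod 3)) ∨
        N = commutator (Matrix.SpecialLinearGroup (Fin 2) (ZMod 3)) := by
  have hc : Nat.card (Matrix.SpecialLinearGroup (Fin 2) (ZMod 3)) = 24 := by rw [Nat.card_eq_fintype_card]; decide +kernel
  let A : Matrix.SpecialLinearGroup (Fin 2) (ZMod 3) := ⟨!![0, 1; 2, 0], by decide⟩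
  let X : Matrix.SpecialLinearGroup (Fin 2) (ZMod 3) := ⟨!![1, 1; 1, 2], by decide⟩
  let φ : QuaternionGroup 2 →* Matrix.SpecialLinearGroup (Fin 2) (ZMod 3) := MonoidHom.mk'
    (fun q => match q with | .a i => A ^ i.val | .xa i => X * A ^ i.val) (by decide +kernel)
  have i : Function.Injective φ := by unfold Function.Injective; decide +kernel
  have m : ∀ x, x ∈ commutator (Matrix.SpecialLinearGroup (Fin 2) (ZMod 3)) ↔ x ^ 4 = 1 := fun x => ⟨fun h => by
    obtain ⟨q, rfl⟩ : x ∈ φ.range := Subgroup.commutator_le.2 (fun g _ h _ =>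
      (by decide +kernel : ∀ g h : Matrix.SpecialLinearGroup (Fin 2) (ZMod 3), ∃ q, φ q = g * h * g⁻¹ * h⁻¹) g h) h
    clear h; revert q; decide +kernel, fun h => by
    obtain ⟨g, k, rfl⟩ := (by decide +kernel : ∀ x : Matrix.SpecialLinearGroup (Fin 2) (ZMod 3), x ^ 4 = 1 →
      ∃ g h : Matrix.SpecialLinearGroup (Fin 2) (ZMod 3), x = g * h * g⁻¹ * h⁻¹) x h
    exact Subgroup.commutator_mem_commutator trivial trivial⟩
  have z : ∀ x, x ∈ Subgroup.center (Matrix.SpecialLinearGroup (Fin 2) (ZMod 3)) ↔ x ^ 2 = 1 := fun x => by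
    rw [Subgroup.mem_center_iff]; revert x; decide +kernel
  have e : φ.range = commutator _ := Subgroup.ext fun x => by rw [m, MonoidHom.mem_range]; revert x; decide +kernel
  have c8 : Nat.card (commutator (Matrix.SpecialLinearGroup (Fin 2) (ZMod 3))) = 8 := by
    rw [← e, ← Nat.card_congr (MonoidHom.ofInjective i).toEquiv, Nat.card_eq_fintype_card, QuaternionGroup.card]
  refine ⟨hc, by rw [Nat.card_congr (Equiv.subtypeEquivRight z), Nat.card_eq_fintype_card]; decide +kernel, c8,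
    ⟨e ▸ (MonoidHom.ofInjective i).symm⟩, fun P => ?_, fun N hN => ?_⟩
  · have := Fact.mk Nat.prime_three
    have c3 : Nat.card P = 3 := by rw [P.card_eq_multiplicity, hc]; decide +kernel
    exact Subgroup.isComplement'_of_coprime (by rw [c8, c3, hc]) (by rw [c8, c3]; decide)
  by_cases h : ∀ x ∈ N, x ^ 2 = 1
  · by_cases h1 : N = ⊥
    · exact .inl h1
    obtain ⟨⟨x, hx⟩, h2⟩ := Subgroup.ne_bot_iff_exists_ne_one.1 h1
    refine .inr (.inr (.inl (le_antisymm (fun y hy => (z y).2 (h y hy)) fun y hy => ?_)))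
    rcases (by decide +kernel : ∀ x y : Matrix.SpecialLinearGroup (Fin 2) (ZMod 3), x ^ 2 = 1 → y ^ 2 = 1 → x = 1 ∨ y = 1 ∨ y = x)
      x y (h x hx) ((z y).1 hy) with rfl | rfl | rfl
    exacts [absurd rfl h2, one_mem _, hx]
  push Not at h
  obtain ⟨x, hx, h⟩ := h
  obtain ⟨g, h3, h4⟩ := (by decide +kernel : ∀ x : Matrix.SpecialLinearGroup (Fin 2) (ZMod 3), x ^ 2 ≠ 1 →
    ∃ g : Matrix.SpecialLinearGroup (Fin 2) (ZMod 3), (g * x * g⁻¹ * x⁻¹) ^ 2 ≠ 1 ∧ (g * x * g⁻¹ * x⁻¹) ^ 4 = 1) x h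
  have le : ∀ w, w ^ 4 = 1 → w ∈ N := fun w hw => by
    obtain ⟨a, k, -, rfl⟩ := (by decide +kernel : ∀ y : Matrix.SpecialLinearGroup (Fin 2) (ZMod 3), y ^ 2 ≠ 1 → y ^ 4 = 1 → ∀ w :
      Matrix.SpecialLinearGroup (Fin 2) (ZMod 3), w ^ 4 = 1 → ∃ a : Matrix.SpecialLinearGroup (Fin 2) (ZMod 3), ∃ k < 4,
      w = (a * y * a⁻¹) ^ k) _ h3 h4 w hw
    exact pow_mem (hN.conj_mem _ (mul_mem (hN.conj_mem x hx g) (inv_mem hx)) a) k
  by_cases h5 : ∀ x ∈ N, x ^ 4 = 1
  · exact .inr (.inr (.inr (Subgroup.ext fun x => ⟨fun h => (m x).2 (h5 x h), fun h => le x ((m x).1 h)⟩)))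
  push Not at h5
  obtain ⟨u, hu, h5⟩ := h5
  refine .inr (.inl (top_unique fun y _ => ?_))
  obtain ⟨k, -, h6⟩ := (by decide +kernel : ∀ u : Matrix.SpecialLinearGroup (Fin 2) (ZMod 3), u ^ 4 ≠ 1 →
    ∀ y : Matrix.SpecialLinearGroup (Fin 2) (ZMod 3), ∃ k < 3, (y * u ^ k) ^ 4 = 1) u h5 y
  exact (N.mul_mem_cancel_right (pow_mem hu k)).1 (le _ h6)

end Cfsg.Agent.S2427
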