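import Cfsg.Statements.S2429
import Mathlib
import Cfsg.Agent.Lib.Perm.GL2h

set_option autoImplicit false
open Cfsg

namespace Cfsg.Agent.S2429

open Cfsg.Agent.Perm.GL2

/-- Let F be a finite field with q elements, q odd. Then SL₂ over F contains a cyclic subgroup T′ of order q + 1 (a non-split torus) with the following properties: T′ is its own centraliser, and indeed the centraliser of each element of T′ other than 1 and −1 is exactly T′; every element of SL₂ having no eigenvector in F² is conjugate to an element of T′; the normaliser of T′ has order 2(q + 1) and exactly (q + 7)/2 conjugacy classes; and every element of that normaliser outside T′ has square −1. -/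
theorem result {F : Type*} [Field F] [Fintype F] (hodd : Odd (Fintype.card F)) :
    ∃ T' : Subgroup (Matrix.SpecialLinearGroup (Fin 2) F), IsCyclic T' ∧ Nat.card T' = Fintype.card F + 1 ∧
      Subgroup.centralizer ((T' : Set (Matrix.SpecialLinearGroup (Fin 2) F))) = T' ∧
      (∀ g : Matrix.SpecialLinearGroup (Fin 2) F, g ∈ T' → (g : Matrix (Fin 2) (Fin 2) F) ≠ 1 → (g : Matrix (Fin 2) (Fin 2) F) ≠ -1 → Subgroup.centralizer ({g} : Set (Matrix.SpecialLinearGroup (Fin 2) F)) = T') ∧
      (∀ g : Matrix.SpecialLinearGroup (Fin 2) F, (∀ (c : F) (v : Fin 2 → F), v ≠ 0 → (g : Matrix (Fin 2) (Fin 2) F).mulVec v ≠ c • v) → ∃ h : Matrix.SpecialLinearGroup (Fin 2) F, h * g * h⁻¹ ∈ T') ∧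
      Nat.card (Subgroup.normalizer (T' : Set (Matrix.SpecialLinearGroup (Fin 2) F))) = 2 * (Fintype.card F + 1) ∧
      Nat.card (ConjClasses (Subgroup.normalizer (T' : Set (Matrix.SpecialLinearGroup (Fin 2) F)))) = (Fintype.card F + 7) / 2 ∧
      ∀ g : Matrix.SpecialLinearGroup (Fin 2) F, g ∈ Subgroup.normalizer (T' : Set (Matrix.SpecialLinearGroup (Fin 2) F)) → g ∉ T' → ((g * g) : Matrix (Fin 2) (Fin 2) F) = -1 := by
  obtain ⟨e, he, -⟩ := exists_reg_add (F := F)
  have h2 := two_ne_zero_of_odd hodd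
  refine ⟨cent e, he.isCyclic_cent_SL, he.card_cent_SL,
    centralizer_eq_cent he.not_scal le_rfl (mem_cent.2 rfl) he.not_scal,
    fun g h1 h3 h4 => cent_eq_cent_SL he.not_scal h1 fun h => ?_, fun g hg => ?_,
    by rw [he.isReg.card_normalizer, he.card_cent_SL], ?_, fun g h3 h4 => ?_⟩
  · rcases isScal_SL_iff.1 h with rfl | rfl
    · exact h3 rfl
    · exact h4 rfl
  · obtain ⟨c, hc, h⟩ := IsEll.exists_isConj_SL (e := Matrix.SpecialLinearGroup.toGL e) he hg
    obtain ⟨x, rfl⟩ := isConj_iff.1 h
    exact ⟨x, mem_cent_SL.2 hc⟩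
  · have := he.isReg.card_conjClasses_normalizer h2
    rw [he.card_cent_SL] at this
    exact (Nat.div_eq_of_eq_mul_right two_pos this.symm).symm
  · exact congrArg Subtype.val (mul_self_of_trace (he.isReg.trace_of_inverts
      (he.isReg.inverts_of_mem h3 h4 (mem_cent.2 rfl))))

end Cfsg.Agent.S2429
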