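import Cfsg.Statements.S2430
import Mathlib
import Cfsg.Agent.Lib.Perm.GL2h

set_option autoImplicit false
open Cfsg

namespace Cfsg.Agent.S2430

open Cfsg.Agent.Perm.GL2

/-- Let F be a finite field with q elements, q odd, ℓ an odd prime, and P a Sylow ℓ-subgroup of SL₂ over F. If ℓ divides q − 1, the centraliser of P is cyclic of order q − 1 (a split torus) and the normaliser of P has order 2(q − 1); if ℓ divides q + 1, the centraliser of P is cyclic of order q + 1 (a non-split torus) and the normaliser of P has order 2(q + 1). -/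
theorem result {F : Type*} [Field F] [Fintype F] (hodd : Odd (Fintype.card F)) (ℓ : ℕ) [Fact ℓ.Prime] (hℓ : ℓ ≠ 2)
    (P : Sylow ℓ (Matrix.SpecialLinearGroup (Fin 2) F)) :
    (ℓ ∣ Fintype.card F - 1 →
      Nat.card (Subgroup.centralizer ((P : Subgroup (Matrix.SpecialLinearGroup (Fin 2) F)) : Set (Matrix.SpecialLinearGroup (Fin 2) F))) = Fintype.card F - 1 ∧
      IsCyclic (Subgroup.centralizer ((P : Subgroup (Matrix.SpecialLinearGroup (Fin 2) F)) : Set (Matrix.SpecialLinearGroup (Fin 2) F))) ∧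
      Nat.card (Subgroup.normalizer ((P : Subgroup (Matrix.SpecialLinearGroup (Fin 2) F)) : Set (Matrix.SpecialLinearGroup (Fin 2) F))) = 2 * (Fintype.card F - 1)) ∧
    (ℓ ∣ Fintype.card F + 1 →
      Nat.card (Subgroup.centralizer ((P : Subgroup (Matrix.SpecialLinearGroup (Fin 2) F)) : Set (Matrix.SpecialLinearGroup (Fin 2) F))) = Fintype.card F + 1 ∧
      IsCyclic (Subgroup.centralizer ((P : Subgroup (Matrix.SpecialLinearGroup (Fin 2) F)) : Set (Matrix.SpecialLinearGroup (Fin 2) F))) ∧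
      Nat.card (Subgroup.normalizer ((P : Subgroup (Matrix.SpecialLinearGroup (Fin 2) F)) : Set (Matrix.SpecialLinearGroup (Fin 2) F))) = 2 * (Fintype.card F + 1)) := by
  have hl : ℓ.Prime := Fact.out
  have hq := Fintype.one_lt_card (α := F)
  have key : ℓ ∣ (Fintype.card F + 1) * (Fintype.card F - 1) → ∃ g : SL2 F, IsReg (g : M2 F) ∧
      ℓ ∣ Nat.card (cent g) ∧
      Subgroup.centralizer ((P : Subgroup (SL2 F)) : Set (SL2 F)) = cent g ∧
      Subgroup.normalizer ((P : Subgroup (SL2 F)) : Set (SL2 F)) =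
        Subgroup.normalizer (cent g : Set (SL2 F)) := by
    intro h
    haveI : Nontrivial P := (Subgroup.nontrivial_iff_ne_bot _).2 (P.ne_bot_of_dvd_card
      (by rw [card_SL2, mul_assoc]; exact h.mul_left _))
    haveI := P.isPGroup'.center_nontrivial
    obtain ⟨z, hz⟩ := exists_ne (1 : Subgroup.center P)
    obtain ⟨k, hk⟩ := IsPGroup.iff_orderOf.1 P.isPGroup' z
    have hk0 : k ≠ 0 := by
      rintro rfl
      exact hz (Subtype.ext (orderOf_eq_one_iff.1 hk))
    rw [← Subgroup.orderOf_coe] at hk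
    have h1 : ℓ ∣ orderOf ((z : P) : SL2 F) := hk ▸ dvd_pow_self _ hk0
    have hr : IsReg (((z : P) : SL2 F) : M2 F) := by
      refine isReg_of_orderOf (fun h => hℓ ((Nat.prime_dvd_prime_iff_eq hl Nat.prime_two).1
        (h1.trans h))) fun h3 => ?_
      obtain ⟨n, hp, hn⟩ := FiniteField.card F (ringChar F)
      rw [hk] at h3
      have h4 := (Nat.prime_dvd_prime_iff_eq hp hl).1 (hp.dvd_of_dvd_pow h3)
      have h5 : ℓ ∣ Fintype.card F := by rw [hn, ← h4]; exact dvd_pow_self _ n.2.ne'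
      rcases (Nat.Prime.dvd_mul hl).1 h with h6 | h6
      · exact hl.one_lt.ne' (Nat.dvd_one.1 ((Nat.dvd_add_right h5).1 h6))
      · have := Nat.dvd_sub h5 h6
        rw [Nat.sub_sub_self hq.le] at this
        exact hl.one_lt.ne' (Nat.dvd_one.1 this)
    have hP : (P : Subgroup (SL2 F)) ≤ cent ((z : P) : SL2 F) := fun x hx =>
      mem_cent.2 (congrArg Subtype.val (Subgroup.mem_center_iff.1 z.2 ⟨x, hx⟩))
    exact ⟨_, hr, h1.trans (Subgroup.orderOf_dvd_natCard _ (mem_cent.2 rfl)),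
      centralizer_eq_cent hr.not_scal hP (z : P).2 hr.not_scal,
      hr.normalizer_eq hP (z : P).2 hr.not_scal⟩
  have hno : ℓ ∣ Fintype.card F + 1 → ℓ ∣ Fintype.card F - 1 → False := fun h1 h2 => by
    have := Nat.dvd_sub h1 h2
    rw [show Fintype.card F + 1 - (Fintype.card F - 1) = 2 by omega] at this
    exact hℓ ((Nat.prime_dvd_prime_iff_eq hl Nat.prime_two).1 this)
  refine ⟨fun h => ?_, fun h => ?_⟩
  · obtain ⟨g, h1, h2, h3, h4⟩ := key (h.mul_left _)
    have h5 := h1.card_cent.resolve_left fun h5 => hno (h5 ▸ h2) h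
    rw [h3, h4, h1.card_normalizer, h5]
    exact ⟨rfl, h1.isCyclic_cent, rfl⟩
  · obtain ⟨g, h1, h2, h3, h4⟩ := key (h.mul_right _)
    have h5 := h1.card_cent.resolve_right fun h5 => hno h (h5 ▸ h2)
    rw [h3, h4, h1.card_normalizer, h5]
    exact ⟨rfl, h1.isCyclic_cent, rfl⟩

end Cfsg.Agent.S2430
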