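import Cfsg.Statements.S2431
import Mathlib
import Cfsg.Agent.Lib.Perm.P2b

set_option autoImplicit false
open Cfsg

namespace Cfsg.Agent.S2431

open Cfsg.Agent.Perm Cfsg.Agent.Perm.GL2 Subgroup Cfsg.Agent.Transfer

/-- Let F be a finite field with q elements, q odd, and S a Sylow 2-subgroup of SL₂ over F. The centraliser of S is the centre of SL₂ (of order 2); S is its own normaliser when q ≡ ±1 mod 8, and has index 3 in its normaliser when q ≡ ±3 mod 8. -/
theorem result {F : Type*} [Field F] [Fintype F] (hodd : Odd (Fintype.card F)) (S : Sylow 2 (Matrix.SpecialLinearGroup (Fin 2) F)) :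
    Subgroup.centralizer ((S : Subgroup (Matrix.SpecialLinearGroup (Fin 2) F)) : Set (Matrix.SpecialLinearGroup (Fin 2) F)) = Subgroup.center (Matrix.SpecialLinearGroup (Fin 2) F) ∧
    ((Fintype.card F % 8 = 1 ∨ Fintype.card F % 8 = 7) →
      Subgroup.normalizer ((S : Subgroup (Matrix.SpecialLinearGroup (Fin 2) F)) : Set (Matrix.SpecialLinearGroup (Fin 2) F)) = (S : Subgroup (Matrix.SpecialLinearGroup (Fin 2) F))) ∧
    ((Fintype.card F % 8 = 3 ∨ Fintype.card F % 8 = 5) →
      Nat.card (Subgroup.normalizer ((S : Subgroup (Matrix.SpecialLinearGroup (Fin 2) F)) : Set (Matrix.SpecialLinearGroup (Fin 2) F))) = 3 * Nat.card S) := by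
  have h2 := two_ne_zero_of_odd hodd
  obtain ⟨g, hg, h4, hS⟩ : ∃ g : SL2 F, IsReg (g : M2 F) ∧ 4 ∣ Nat.card (cent g) ∧
      (S : Subgroup _) ≤ normalizer (cent g : Set (SL2 F)) := by
    obtain ⟨g, hg, h4, -⟩ := exists_reg_four h2 (x := 1) ⟨0, by simp⟩
    obtain ⟨P, -, hP⟩ := exists_syl_le (odd_index h2 hg h4) (one_mem _) ⟨0, by simp⟩
    obtain ⟨c, rfl⟩ := MulAction.exists_smul_eq (SL2 F) P S
    have h1 := isConj_iff.2 ⟨c, (rfl : c * g * c⁻¹ = _)⟩
    refine ⟨c * g * c⁻¹, hg.of_isConj h1, card_cent_of_isConj h1 ▸ h4, ?_⟩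
    rw [← cj_sylow, cent, ← cj_centralizer_singleton, ← cj_normalizer]
    exact cj_mono c hP
  obtain ⟨w, hw, hw'⟩ := exists_notMem_cent hg S
  have hT : ∀ y ∈ cent g, (∃ k : ℕ, orderOf y = 2 ^ k) → y ∈ S := fun y hy h =>
    mem_syl_of_le h fun s hs => by
      rw [mem_normalizer_iff_cj, cj_zpowers]
      by_cases h1 : s ∈ cent g
      · rw [cent_comm_SL hg.not_scal h1 hy, mul_inv_cancel_right]
      · rw [hg.inverts_of_mem (hS hs) h1 hy, zpowers_inv]
  have hord : ∀ k : ℕ, 2 ≤ k → 2 ^ k ∣ Nat.card (cent g) →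
      ∃ y ∈ cent g, y ∈ S ∧ orderOf y = 2 ^ k ∧ ¬ IsScal (y : M2 F) := fun k hk h => by
    have := hg.isCyclic_cent
    obtain ⟨y, hy⟩ : ∃ y : cent g, orderOf y = 2 ^ k := by
      obtain ⟨y, hy⟩ := IsCyclic.exists_ofOrder_eq_natCard (α := cent g)
      exact ⟨_, orderOf_pow_orderOf_div (orderOf_pos y).ne' (hy ▸ h)⟩
    rw [← orderOf_coe] at hy
    refine ⟨y, y.2, hT y y.2 ⟨k, hy⟩, hy, fun h1 => ?_⟩
    have := Nat.le_of_dvd two_pos (hy ▸ orderOf_dvd_of_scal h1)
    have := Nat.pow_le_pow_right two_pos hk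
    omega
  have hq := Nat.odd_iff.1 hodd
  have hq1 := Fintype.one_lt_card (α := F)
  refine ⟨le_antisymm (fun c hc => ?_) (center_le_centralizer _), fun h => le_antisymm (fun n hn => ?_)
    le_normalizer, fun h => ?_⟩
  · obtain ⟨y, h1, h3, -, h5⟩ := hord 2 le_rfl h4
    have h6 : c ∈ cent g := cent_eq_cent_SL hg.not_scal h1 h5 ▸ mem_cent.2 (hc y h3).symm
    have h7 := hg.inverts_of_mem (hS hw) hw' h6
    rw [hc w hw, mul_inv_cancel_right] at h7
    exact isScal_iff_center_SL.1 (isScal_of_mul_self_eq_one h2 (by nth_rewrite 2 [h7]; simp))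
  · obtain ⟨y, h1, h3, h5, h6⟩ := hord 3 (by norm_num) (by rcases hg.card_cent with e | e <;> omega)
    have h7 : n * y * n⁻¹ ∈ cent g := by
      by_contra h7
      have h8 := orderOf_eq_four h2 (hg.trace_of_inverts (hg.inverts_of_mem
        (hS (conj_mem_of_mem_normalizer hn h3)) h7 (mem_cent.2 rfl)))
      rw [orderOf_conj, h5] at h8; omega
    have h8 : n ∈ normalizer (cent g : Set (SL2 F)) := by
      rw [mem_normalizer_iff_cj, ← cent_eq_cent_SL hg.not_scal h1 h6, cj_centralizer_singleton]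
      exact (cent_eq_cent_SL hg.not_scal h7 fun e => h6 (isScal_of_isConj_SL
        (isConj_iff.2 ⟨n, rfl⟩).symm e)).trans (cent_eq_cent_SL hg.not_scal h1 h6).symm
    have h9 : ∀ t ∈ cent g, t ∈ normalizer ((S : Subgroup (SL2 F)) : Set (SL2 F)) → t ∈ S := by
      intro t ht ht'
      have h10 : t * t ∈ (S : Subgroup (SL2 F)) := by
        have := mul_mem (conj_mem_of_mem_normalizer ht' hw) (S.1.inv_mem hw)
        rwa [mul_assoc, mul_assoc, ← mul_assoc w, hg.inverts_of_mem (hS hw) hw' (inv_mem ht), inv_inv] at this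
      obtain ⟨k, hk⟩ := order_of_mem S.2 h10
      refine hT t ht (((Nat.dvd_prime_pow Nat.prime_two (m := k + 1)).1 ?_).imp fun _ h => h.2)
      rw [orderOf_dvd_iff_pow_eq_one, pow_succ', pow_mul, ← hk, sq, pow_orderOf_eq_one]
    by_cases h10 : n ∈ cent g
    · exact h9 n h10 hn
    · refine (mul_mem_cancel_right hw).1 (h9 _ ?_ (mul_mem hn (le_normalizer hw)))
      exact (mul_mem_iff_of_index_two hg.index_subgroupOf (a := ⟨n, h8⟩) (b := ⟨w, hS hw⟩)).2
        (iff_of_false h10 hw')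
  · have h1 : -1 ∈ (S : Subgroup (SL2 F)) := hT _ (scal_mem_cent_SL (isScal_SL_iff.2 (Or.inr rfl)) g)
      ⟨1, orderOf_eq_two (by simp) (neg_one_ne_one_SL h2)⟩
    have h8 : ¬ 8 ∣ Nat.card (cent g) := by rcases hg.card_cent with e | e <;> omega
    have h3 : Nat.card S = 8 := by
      obtain ⟨k, hk⟩ := S.2.exists_card_eq
      have h5 := card_dvd_of_le hS
      have h6 : 2 ^ 3 ∣ Nat.card S := S.pow_dvd_card_of_pow_dvd_card (Dvd.dvd.trans (by
        rw [hg.card_normalizer]; omega) (card_subgroup_dvd_card (normalizer (cent g : Set (SL2 F)))))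
      rw [hg.card_normalizer] at h5
      have h7 : Nat.card (S : Subgroup (SL2 F)) = Nat.card S := rfl
      rw [← h7, hk] at h6 ⊢
      rw [hk] at h5
      have h9 := (Nat.pow_dvd_pow_iff_le_right one_lt_two).1 h6
      have h10 : k ≤ 3 := by
        by_contra h10
        have := (pow_dvd_pow 2 (show 4 ≤ k by omega)).trans h5
        omega
      rw [le_antisymm h10 h9]; rfl
    have h5 := card_eq_two_mul h2 h1
    have hV : IsKleinFour ((S : Subgroup (SL2 F)).map ph) := by
      have h6 : Nat.card ((S : Subgroup (SL2 F)).map ph) = 4 := by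
        exact Nat.eq_of_mul_eq_mul_left two_pos (h5.symm.trans h3)
      haveI : Nontrivial ((S : Subgroup (SL2 F)).map ph) := Finite.one_lt_card_iff_nontrivial.1 (by omega)
      refine ⟨h6, (Monoid.exponent_eq_prime_iff Nat.prime_two).2 ?_⟩
      rintro ⟨_, s, hs, rfl⟩ h7
      refine orderOf_eq_two (Subtype.ext ?_) h7
      change ph s * ph s = 1
      rw [← map_mul, ph_eq_one, ← isScal_SL_iff]
      by_cases h9 : s ∈ cent g
      · refine isScal_of_mul_self_eq_one h2 ?_
        obtain ⟨k, hk⟩ := order_of_mem S.2 hs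
        have h10 : k ≤ 2 := by
          by_contra h10
          exact h8 ((pow_dvd_pow 2 (show 3 ≤ k by omega)).trans (hk ▸ (cent g).orderOf_dvd_natCard h9))
        have := orderOf_dvd_iff_pow_eq_one.1 (hk ▸ pow_dvd_pow 2 h10)
        rw [← this]; simp [pow_succ, mul_assoc]
      · rw [mul_self_of_trace (hg.trace_of_inverts (hg.inverts_of_mem (hS hs) h9 (mem_cent.2 rfl)))]
        exact isScal_SL_iff.2 (Or.inr rfl)
    have hr : (ph (F := F)).range = PS F := rfl
    obtain ⟨e⟩ := klein_normalizer h2 hV (hr ▸ map_le_range _ _)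
    have h6 := card_inf_PS hodd (M := normalizer (((S : Subgroup (SL2 F)).map ph : Subgroup _) : Set (PGL2 F)))
      (by rw [S4_le_PS_iff e]; omega)
    have h7 : normalizer ((S : Subgroup (SL2 F)) : Set (SL2 F)) =
        (normalizer (((S : Subgroup (SL2 F)).map ph : Subgroup _) : Set (PGL2 F))).comap ph := by
      refine le_antisymm (map_le_iff_le_comap.1 (le_normalizer_map _)) ?_
      conv_rhs => rw [← comap_map_eq_self (ker_le h1)]
      exact le_normalizer_comap _
    rw [card_eq_two_mul h2 (le_normalizer h1), h7, map_comap_eq, hr, inf_comm, ← h6,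
      Nat.card_congr e.toEquiv, Tri.card_S4, h3]

end Cfsg.Agent.S2431
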