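import Cfsg.Statements.S2435
import Mathlib
import Cfsg.Agent.Lib.Perm.GL2g

set_option autoImplicit false
open Cfsg

namespace Cfsg.Agent.S2435

open Cfsg.Agent.Perm.GL2

/-- Let F be a finite field with q elements, q odd and q ≥ 5, and χ an irreducible complex character of SL₂ over F. If χ has degree (q + 1)/2, then at a diagonal element with entry a, a² ≠ 1, χ takes the value 1 when a is a square in F and −1 otherwise. If χ has degree (q − 1)/2, then at an element g with no eigenvector in F² (so g has order dividing q + 1), χ takes the value −1 when g raised to the power (q + 1)/2 is the identity and the value 1 otherwise. -/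
theorem result {F : Type*} [Field F] [Fintype F] (hodd : Odd (Fintype.card F)) (hq : 5 ≤ Fintype.card F)
    (χ : Matrix.SpecialLinearGroup (Fin 2) F → ℂ) (hχ : Cfsg.IsIrrCharacter (Matrix.SpecialLinearGroup (Fin 2) F) χ) (g : Matrix.SpecialLinearGroup (Fin 2) F) :
    (χ 1 = (((Fintype.card F + 1) / 2 : ℕ) : ℂ) → (g : Matrix (Fin 2) (Fin 2) F) 0 1 = 0 → (g : Matrix (Fin 2) (Fin 2) F) 1 0 = 0 → (g : Matrix (Fin 2) (Fin 2) F) 0 0 ^ 2 ≠ 1 →
      (IsSquare ((g : Matrix (Fin 2) (Fin 2) F) 0 0) → χ g = 1) ∧ (¬ IsSquare ((g : Matrix (Fin 2) (Fin 2) F) 0 0) → χ g = -1)) ∧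
    (χ 1 = (((Fintype.card F - 1) / 2 : ℕ) : ℂ) → (∀ (c : F) (v : Fin 2 → F), v ≠ 0 → (g : Matrix (Fin 2) (Fin 2) F).mulVec v ≠ c • v) →
      (((g ^ ((Fintype.card F + 1) / 2)) : Matrix (Fin 2) (Fin 2) F) = 1 → χ g = -1) ∧ (((g ^ ((Fintype.card F + 1) / 2)) : Matrix (Fin 2) (Fin 2) F) ≠ 1 → χ g = 1)) := by
  classical
  obtain ⟨e, he⟩ := exists_ell (F := F)
  rw [cast_half_add hodd, cast_half_sub hodd]
  refine ⟨fun h h1 h2 h3 => ?_, fun h hg => ?_⟩
  · have hd := isDiag_of_sq_ne h1 h2 h3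
    obtain ⟨α, χ', h4, h5, H⟩ := ((irr_deg he hχ).2.2.2.2.1 h).resolve_right (by omega)
    have h6 := upper_ne_SL h2
    rw [H.half hd.not_jord, WS_diag _ hd, upper_inv_SL h2]
    refine ⟨fun h7 => ?_, fun h7 => ?_⟩
    · rw [(mulChar_sq_apply h4 h5 h6).1 h7, (mulChar_sq_apply h4 h5 (inv_ne_zero h6)).1 h7.inv]
      norm_num
    · rw [(mulChar_sq_apply h4 h5 h6).2 h7,
        (mulChar_sq_apply h4 h5 (inv_ne_zero h6)).2 (mt isSquare_inv.1 h7)]
      norm_num
  · have hg : IsEll (g : M2 F) := hg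
    obtain ⟨θ, χ', h4, h5, H⟩ := (irr_deg he hχ).2.2.2.2.2 h (by omega)
    obtain ⟨c, hc, h1⟩ := he.exists_isConj_SL hg
    have h2 := (isEll_of_isConj_SL h1 hg).not_scal
    rw [H.half hg.not_jord, (isGen_XS he θ).isClassFunction.eq_of_isConj h1, XS_mem he θ ⟨c, hc⟩ h2]
    have h6 := hom_sq_apply_eq_one_iff he.isCyclic_comap h4 h5 (n := (Fintype.card F + 1) / 2)
      (by rw [he.card_comap]; rw [Nat.odd_iff] at hodd; omega) ⟨c, hc⟩
    have h7 : ((g : M2 F) ^ ((Fintype.card F + 1) / 2)) = 1 ↔ θ ⟨c, hc⟩ = 1 := by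
      rw [h6, Subtype.ext_iff]
      show _ ↔ c ^ _ = 1
      rw [← orderOf_dvd_iff_pow_eq_one (x := c), ← orderOf_eq_of_isConj h1,
        orderOf_dvd_iff_pow_eq_one, ← Matrix.SpecialLinearGroup.coe_pow]
      exact ⟨fun h => Subtype.ext h, fun h => by rw [h]; rfl⟩
    refine ⟨fun h8 => ?_, fun h8 => ?_⟩
    · rw [h7.1 h8]; norm_num
    · rw [(units_sq_eq_one ((hom_sq_eq_one_iff θ).1 h4 _)).resolve_left (mt h7.2 h8)]; norm_num

end Cfsg.Agent.S2435
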