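import Cfsg.Statements.S2437
import Mathlib
import Cfsg.Agent.Lib.Perm.GL2h

set_option autoImplicit false
open Cfsg

namespace Cfsg.Agent.S2437

open Cfsg.Agent.Perm.GL2
open Matrix.SpecialLinearGroup (toGL)

/-- parametrisation of the Borel subgroup -/
def bE (F : Type*) [Field F] : Fˣ × F ≃ (upperTriangularGL 2 F).comap (toGL : SL2 F →* _) where
  toFun p := ⟨upS p.1 p.2, mem_B.2 (by simp)⟩
  invFun g := (Units.mk0 _ (upper_ne_SL (mem_B.1 g.2)), ((g : SL2 F) : M2 F) 0 1)
  left_inv p := by simp
  right_inv g := Subtype.ext (eq_upS (mem_B.1 g.2)).symm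

theorem comm_iff' {F : Type*} [Field F] (p r : Fˣ × F) :
    bE F r ∈ cent (bE F p) ↔
      r.2 * ((p.1 : F)⁻¹ - p.1) = p.2 * ((r.1 : F)⁻¹ - r.1) := by
  rw [mem_cent, Subtype.ext_iff]
  show upS r.1 r.2 * upS p.1 p.2 = upS p.1 p.2 * upS r.1 r.2 ↔ _
  rw [upS_mul, upS_mul, upS_inj, and_iff_right (mul_comm _ _)]
  constructor <;> intro h <;> linear_combination h

/-- Over a finite field F with q elements, q odd, the upper triangular subgroup of SL₂ (a Borel subgroup, of order q(q − 1)) has exactly q + 3 conjugacy classes. -/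
theorem result {F : Type*} [Field F] [Fintype F] (hodd : Odd (Fintype.card F)) :
    Nat.card (ConjClasses ((Cfsg.upperTriangularGL 2 F).comap Matrix.SpecialLinearGroup.toGL)) = Fintype.card F + 3 := by
  classical
  have h2 := two_ne_zero_of_odd hodd
  have hne : (1 : Fˣ) ≠ -1 := fun h => h2 (by
    have := congrArg Units.val h
    simp only [Units.val_one, Units.val_neg] at this
    linear_combination this)
  have hz : ∀ a : Fˣ, (a : F)⁻¹ - a = 0 ↔ a = 1 ∨ a = -1 := by
    intro a
    rw [sub_eq_zero, eq_comm, ← mul_eq_one_iff_eq_inv₀ a.ne_zero, mul_self_eq_one_iff]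
    simp only [Units.ext_iff, Units.val_one, Units.val_neg]
  have hc : ∀ p : Fˣ × F, Nat.card (cent (bE F p)) =
      Nat.card {r : Fˣ × F // r.2 * ((p.1 : F)⁻¹ - p.1) = p.2 * ((r.1 : F)⁻¹ - r.1)} := fun p =>
    (Nat.card_congr ((bE F).subtypeEquiv fun r => (comm_iff' p r).symm)).symm
  have hq := Fintype.one_lt_card (α := F)
  have hB : Nat.card ((upperTriangularGL 2 F).comap (toGL : SL2 F →* _)) =
      (Fintype.card F - 1) * Fintype.card F := by
    rw [← Nat.card_congr (bE F), Nat.card_prod, card_units_eq, Nat.card_eq_fintype_card]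
  have h1 : ∀ a : Fˣ, ∑ b : F, Nat.card (cent (bE F (a, b))) =
      (Fintype.card F - 1) * Fintype.card F + if a ∈ ({1, -1} : Finset Fˣ) then
        2 * ((Fintype.card F - 1) * Fintype.card F) else 0 := by
    intro a
    simp only [hc, Finset.mem_insert, Finset.mem_singleton]
    split_ifs with h
    · rw [← Finset.add_sum_erase _ _ (Finset.mem_univ 0), Finset.sum_congr rfl
        (g := fun _ => 2 * Fintype.card F)]
      · simp [(hz a).2 h, Finset.card_univ, Fintype.card_units]
        ring
      · intro b hb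
        simp only [(hz a).2 h, mul_zero, zero_eq_mul, Finset.ne_of_mem_erase hb, false_or, hz]
        rw [Nat.card_congr (Equiv.prodSubtypeFstEquivSubtypeProd
          (p := fun a : Fˣ => a = 1 ∨ a = -1)), Nat.card_prod, Nat.card_eq_fintype_card (α := F)]
        congr 1
        exact Set.ncard_pair hne
    · rw [Finset.sum_congr rfl (g := fun _ => Fintype.card F - 1)]
      · simp [mul_comm]
      · intro b _
        have h3 := mt (hz a).1 h
        rw [← card_units_eq]
        refine Nat.card_congr
          { toFun := fun r => r.1.1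
            invFun := fun c => ⟨(c, b * ((c : F)⁻¹ - c) / ((a : F)⁻¹ - a)), div_mul_cancel₀ _ h3⟩
            left_inv := fun r => Subtype.ext (Prod.ext rfl ?_)
            right_inv := fun _ => rfl }
        simp only
        rw [← r.2, mul_div_cancel_right₀ _ h3]
  have h3 := sum_card_cent (G := (upperTriangularGL 2 F).comap (toGL : SL2 F →* _))
  rw [← (bE F).sum_comp, Fintype.sum_prod_type] at h3
  simp only [h1, Finset.sum_add_distrib, Finset.sum_ite_mem, Finset.univ_inter, Finset.sum_const,
    Finset.card_pair hne, Finset.card_univ, Fintype.card_units, smul_eq_mul, hB] at h3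
  refine Nat.eq_of_mul_eq_mul_right (Nat.mul_pos (by omega) (by omega) :
    0 < (Fintype.card F - 1) * Fintype.card F) ?_
  rw [← h3, show Fintype.card F + 3 = Fintype.card F - 1 + 4 by omega]
  ring

end Cfsg.Agent.S2437
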