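import Cfsg.Statements.S2438
import Mathlib
import Cfsg.Agent.Lib.Perm.GL2g

set_option autoImplicit false
open Cfsg

namespace Cfsg.Agent.S2438

open Cfsg.Agent.Perm.GL2

theorem sum_eq {F : Type*} [Field F] [Fintype F] [DecidableEq F] (f : SL2 F → ℂ) :
    (∑ g : SL2 F, if (g : M2 F) 1 0 = 0 ∧ (g : M2 F) 0 0 = 1 ∧ (g : M2 F) 1 1 = 1 then f g else 0) =
      ∑ b : F, f (upS 1 b) := by
  rw [← Finset.sum_filter]
  symm
  refine Finset.sum_bij (fun b _ => upS 1 b) (fun b _ => by simp)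
    (fun _ _ _ _ h => (upS_inj.1 h).2) (fun g hg => ?_) (fun _ _ => rfl)
  obtain ⟨h1, h2, h3⟩ := (Finset.mem_filter.1 hg).2
  exact ⟨(g : M2 F) 0 1, Finset.mem_univ _, Subtype.ext (m2_ext (by simp [h2]) (by simp)
    (by simp [h1]) (by simp [h3]))⟩

theorem sum_val {F : Type*} [Field F] [Fintype F] [DecidableEq F] (f : SL2 F → ℂ) (c : ℂ)
    (h : ∀ g : SL2 F, IsJord (g : M2 F) → (g : M2 F) 0 0 = 1 → f g = c) :
    ∑ b : F, f (upS 1 b) = f 1 + (Fintype.card F - 1) * c := by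
  rw [← Finset.add_sum_erase _ _ (Finset.mem_univ 0), upS_one, Finset.sum_congr rfl
    fun b hb => h _ (isJord_u (Finset.ne_of_mem_erase hb)) (by simp), Finset.sum_const,
    Finset.card_erase_of_mem (Finset.mem_univ _), Finset.card_univ, nsmul_eq_mul, cast_q_sub_one]

theorem sum_half {F : Type*} [Field F] [Fintype F] [DecidableEq F] {Φ χ₁ χ₂ : SL2 F → ℂ}
    (H : HalfPair Φ χ₁ χ₂) : ∑ b : F, χ₁ (upS 1 b) = (∑ b : F, Φ (upS 1 b)) / 2 := by
  obtain ⟨ε, -, h⟩ := H.swap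
  have : ∑ b : F, χ₁ (upS 1 b) = ∑ b : F, χ₂ (upS 1 b) := by
    simp only [← h, cjG_u]
    exact Equiv.sum_comp (Equiv.mulLeft₀ (ε : F) ε.ne_zero) fun b => χ₂ (upS 1 b)
  simp only [H.eq, Pi.add_apply, Finset.sum_add_distrib, ← this]
  ring

/-- Let F be a finite field with q elements, q odd, q ≥ 5, U the upper unitriangular subgroup of SL₂ over F, and χ an irreducible complex character. The sum of the values of χ over U equals 2q, q, 0, q, 0 according as the degree of χ is q + 1, q, q − 1, (q + 1)/2, (q − 1)/2; so among these five degrees the sum vanishes exactly for the degrees q − 1 and (q − 1)/2, i.e. the irreducible characters of those two degrees are the ones whose restriction to U does not contain the trivial character (the cuspidal characters), while those of degree q + 1, q and (q + 1)/2 are not cuspidal. -/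
theorem result {F : Type*} [Field F] [Fintype F] [DecidableEq F] (hodd : Odd (Fintype.card F)) (hq : 5 ≤ Fintype.card F)
    (χ : Matrix.SpecialLinearGroup (Fin 2) F → ℂ) (hχ : Cfsg.IsIrrCharacter (Matrix.SpecialLinearGroup (Fin 2) F) χ) :
    (χ 1 = (Fintype.card F : ℂ) + 1 →
      (∑ g : Matrix.SpecialLinearGroup (Fin 2) F, if (g : Matrix (Fin 2) (Fin 2) F) 1 0 = 0 ∧ (g : Matrix (Fin 2) (Fin 2) F) 0 0 = 1 ∧ (g : Matrix (Fin 2) (Fin 2) F) 1 1 = 1 then χ g else 0) = 2 * (Fintype.card F : ℂ)) ∧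
    (χ 1 = (Fintype.card F : ℂ) →
      (∑ g : Matrix.SpecialLinearGroup (Fin 2) F, if (g : Matrix (Fin 2) (Fin 2) F) 1 0 = 0 ∧ (g : Matrix (Fin 2) (Fin 2) F) 0 0 = 1 ∧ (g : Matrix (Fin 2) (Fin 2) F) 1 1 = 1 then χ g else 0) = (Fintype.card F : ℂ)) ∧
    (χ 1 = (Fintype.card F : ℂ) - 1 →
      (∑ g : Matrix.SpecialLinearGroup (Fin 2) F, if (g : Matrix (Fin 2) (Fin 2) F) 1 0 = 0 ∧ (g : Matrix (Fin 2) (Fin 2) F) 0 0 = 1 ∧ (g : Matrix (Fin 2) (Fin 2) F) 1 1 = 1 then χ g else 0) = 0) ∧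
    (χ 1 = (((Fintype.card F + 1) / 2 : ℕ) : ℂ) →
      (∑ g : Matrix.SpecialLinearGroup (Fin 2) F, if (g : Matrix (Fin 2) (Fin 2) F) 1 0 = 0 ∧ (g : Matrix (Fin 2) (Fin 2) F) 0 0 = 1 ∧ (g : Matrix (Fin 2) (Fin 2) F) 1 1 = 1 then χ g else 0) = (Fintype.card F : ℂ)) ∧
    (χ 1 = (((Fintype.card F - 1) / 2 : ℕ) : ℂ) →
      (∑ g : Matrix.SpecialLinearGroup (Fin 2) F, if (g : Matrix (Fin 2) (Fin 2) F) 1 0 = 0 ∧ (g : Matrix (Fin 2) (Fin 2) F) 0 0 = 1 ∧ (g : Matrix (Fin 2) (Fin 2) F) 1 1 = 1 then χ g else 0) = 0) := by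
  obtain ⟨e, he⟩ := exists_ell (F := F)
  rw [cast_half_add hodd, cast_half_sub hodd, sum_eq]
  have hW : ∀ α : MulChar F ℂ, ∑ b : F, WS α (upS 1 b) = 2 * Fintype.card F := fun α => by
    rw [sum_val _ 1 fun g h1 h2 => by rw [WS_jord _ h1, h2, map_one], WS_one]; ring
  have hX : ∀ θ, ∑ b : F, XS he θ (upS 1 b) = 0 := fun θ => by
    rw [sum_val _ (-1) fun g h1 h2 => XS_jord_one he _ h1 h2, XS_one]; ring
  refine ⟨fun h => ?_, fun h => ?_, fun h => ?_, fun h => ?_, fun h => ?_⟩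
  · obtain ⟨α, -, rfl⟩ := (irr_deg he hχ).2.2.1 h
    exact hW α
  · obtain rfl := (irr_deg he hχ).2.1 h
    rw [sum_val _ 0 fun g h1 _ => StS_jord h1, StS_one]; ring
  · obtain ⟨α, -, rfl⟩ := (irr_deg he hχ).2.2.2.1 h (by omega)
    exact hX α
  · obtain ⟨α, χ', -, -, H⟩ := ((irr_deg he hχ).2.2.2.2.1 h).resolve_right (by omega)
    rw [sum_half H, hW]; ring
  · obtain ⟨α, χ', -, -, H⟩ := (irr_deg he hχ).2.2.2.2.2 h (by omega)
    rw [sum_half H, hX]; ring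

end Cfsg.Agent.S2438
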