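import Cfsg.Statements.S2440
import Cfsg.Agent.Lib.Chev.Rk1SBN

set_option autoImplicit false
open Cfsg

namespace Cfsg.Agent.S2440

/-- For a prime p and n ≥ 2, the group SL_n over the field with p elements has exactly gcd(n, p − 1) + 1 p-blocks relative to any maximal ideal of the algebraic integers containing p, that is, one more than the order of its centre (only this total is asserted; it arises as the defect-zero block of the Steinberg character plus as many blocks of maximal defect as the order of the centre). -/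
theorem result (p : ℕ) [Fact p.Prime] (n : ℕ) (hn : 2 ≤ n) (M : Ideal Cfsg.AlgInt) (hM : Cfsg.IsPModular p M) :
    Nat.card {B : Set (Cfsg.IrrCharacter (Matrix.SpecialLinearGroup (Fin n) (ZMod p))) // Cfsg.IsPBlock M B} =
      Nat.gcd n (p - 1) + 1 := by
  obtain ⟨P, a, h⟩ := Chev.exists_sbn_sl hn (ZMod p) p
  have b := P.toSBN₀.card_zero h hM
  have c := P.card_full a hM
  have d : (Nat.card (Matrix.SpecialLinearGroup (Fin n) (ZMod p))).factorization p ≠ 0 := fun e => by
    have := P.syl.card_eq_multiplicity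
    rw [e, pow_zero, Subgroup.card_eq_one] at this
    exact a (P.normalizer_U.symm.trans (by rw [show P.U = ⊥ from this]; exact Subgroup.normalizer_eq_top _))
  haveI : NeZero n := ⟨by omega⟩
  haveI := Classical.decEq (ZMod p)ˣ
  have e : Nat.card (Subgroup.center (Matrix.SpecialLinearGroup (Fin n) (ZMod p))) = Nat.gcd n (p - 1) := by
    rw [Nat.card_congr (Matrix.SpecialLinearGroup.center_equiv_rootsOfUnity' (⟨0, by omega⟩ : Fin n)).toEquiv, Fintype.card_fin]
    simpa [ZMod.card] using Chev.card_pow_eq_one (K := ZMod p) n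
  rw [← e, ← c, ← b, ← Nat.card_sum]
  refine (Nat.card_eq_of_bijective (Sum.elim (fun B => ⟨B.1, B.2.1⟩) fun B => ⟨B.1, B.2.1⟩) ⟨?_, fun B => ?_⟩).symm
  · rintro (B | B) (C | C) f
    · exact congrArg _ (Subtype.ext (Subtype.mk.inj f))
    · exact absurd (B.2.2.symm.trans ((congrArg Subtype.val f : B.1 = C.1) ▸ C.2.2)) d
    · exact absurd (C.2.2.symm.trans ((congrArg Subtype.val f : B.1 = C.1) ▸ B.2.2)) d
    · exact congrArg _ (Subtype.ext (Subtype.mk.inj f))
  · rcases P.defect hM B.2 with f | f
    exacts [⟨.inr ⟨B.1, B.2, f⟩, rfl⟩, ⟨.inl ⟨B.1, B.2, f⟩, rfl⟩]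

end Cfsg.Agent.S2440
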