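import Cfsg.Statements.S2450
import Mathlib
import Cfsg.Agent.Lib.Perm.GL2h

set_option autoImplicit false
open Cfsg

namespace Cfsg.Agent.S2450

open Cfsg.Agent.Perm.GL2 Polynomial

/-- The Arad–Herzog conjecture for PSL(2,q): let F be a finite field with q ≥ 4 elements. For any two non-identity elements a, b of PSL(2,F), the set of products of a conjugate of a with a conjugate of b is not a single conjugacy class. -/
theorem result {F : Type*} [Field F] [Fintype F] (h4 : 4 ≤ Fintype.card F)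
    (a b : Matrix.ProjectiveSpecialLinearGroup (Fin 2) F) (ha : a ≠ 1) (hb : b ≠ 1) (c : Matrix.ProjectiveSpecialLinearGroup (Fin 2) F) :
    {g : Matrix.ProjectiveSpecialLinearGroup (Fin 2) F | ∃ u v : Matrix.ProjectiveSpecialLinearGroup (Fin 2) F, g = (u * a * u⁻¹) * (v * b * v⁻¹)} ≠ {g | IsConj c g} := by
  intro h
  obtain ⟨a, rfl⟩ := toP_surjective a
  obtain ⟨b, rfl⟩ := toP_surjective b
  obtain ⟨c, rfl⟩ := toP_surjective c
  obtain ⟨x, hx⟩ := exists_conj_ne10 (mt toP_eq_one.2 ha)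
  obtain ⟨y, hy⟩ := exists_conj_ne10 (mt toP_eq_one.2 hb)
  set A := x * a * x⁻¹ with hA
  set B := y * b * y⁻¹ with hB
  let f : F[X] := C (-((A : M2 F) 1 0 * (B : M2 F) 1 0)) * X ^ 2 +
    C ((A : M2 F) 0 0 * (B : M2 F) 1 0 + (A : M2 F) 1 0 * ((B : M2 F) 1 1 - (B : M2 F) 0 0) -
      (A : M2 F) 1 1 * (B : M2 F) 1 0) * X + C ((A * B : SL2 F) : M2 F).trace
  have h1 : ∀ z : F, f.eval z = (c : M2 F).trace ∨ f.eval z = -(c : M2 F).trace := by
    intro z
    have h2 : toP (A * (upS 1 z * B * (upS 1 z)⁻¹)) ∈ {g | IsConj (toP c) g} := by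
      rw [← h]
      exact ⟨toP x, toP (upS 1 z * y), by simp only [hA, hB, map_mul, map_inv]; group⟩
    obtain ⟨w, hw⟩ := isConj_iff.1 h2
    obtain ⟨w, rfl⟩ := toP_surjective w
    rw [← map_inv, ← map_mul, ← map_mul, eq_comm, toP_eq_iff] at hw
    have h3 : f.eval z = ((A * (upS 1 z * B * (upS 1 z)⁻¹) : SL2 F) : M2 F).trace := by
      rw [upS_inv]
      simp only [f, Matrix.trace_fin_two, mul_apply_SL]
      simp
      ring
    have h4 := trace_eq_of_isConj_SL (isConj_iff.2 ⟨w, rfl⟩ : IsConj c _)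
    rcases hw with hw | hw
    · exact Or.inl (by rw [h3, hw, h4])
    · exact Or.inr (by rw [h3, hw, h4, Matrix.SpecialLinearGroup.coe_neg, Matrix.trace_neg])
  have hl : -((A : M2 F) 1 0 * (B : M2 F) 1 0) ≠ 0 := neg_ne_zero.2 (mul_ne_zero hx hy)
  have hd : ∀ t : F, (f - C t).natDegree = 2 := fun t => by
    rw [natDegree_sub_C, natDegree_quadratic hl]
  have hd0 : ∀ t : F, f - C t ≠ 0 := fun t h => by simpa [h] using hd t
  by_cases h2 : (2 : F) = 0
  · refine hd0 (c : M2 F).trace (eq_zero_of_natDegree_lt_card_of_eval_eq_zero _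
      Function.injective_id (fun z => ?_) (by rw [hd]; omega))
    rcases h1 z with h | h <;> simp only [eval_sub, eval_C, id, h]
    · ring
    · linear_combination -(c : M2 F).trace * h2
  · have h5 := Nat.odd_iff.1 (odd_of_two_ne_zero h2)
    refine mul_ne_zero (hd0 (c : M2 F).trace) (hd0 (-(c : M2 F).trace))
      (eq_zero_of_natDegree_lt_card_of_eval_eq_zero _ Function.injective_id (fun z => ?_)
      (by rw [natDegree_mul (hd0 _) (hd0 _), hd, hd]; omega))
    rcases h1 z with h | h <;> simp [h]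

end Cfsg.Agent.S2450
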