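import Cfsg.Statements.S2455
import Mathlib
import Cfsg.Agent.Lib.Perm.GL2h

set_option autoImplicit false
open Cfsg

namespace Cfsg.Agent.S2455

open Cfsg.Agent.Perm.GL2 Polynomial

theorem main {F : Type*} [Field F] [Fintype F] {x : SL2 F} (hx : IsReg (x : M2 F))
    (h : ∀ γ : F, ∃ a b s : F, (s = (x : M2 F).trace ∨ s = -(x : M2 F).trace) ∧
      a ^ 2 + b ^ 2 - a * b * γ - a * (x : M2 F).trace + b * s + 1 = 0)
    (g : PSL2 F) (hg : g ≠ 1) : ∃ u v : PSL2 F, g = (u * toP x * u⁻¹) * (v * toP x * v⁻¹) := by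
  obtain ⟨g, rfl⟩ := toP_surjective g
  obtain ⟨a, b, s, hs, h⟩ := h (g : M2 F).trace
  let c : SL2 F := mkS 0 (-1) 1 (g : M2 F).trace (by simp)
  let A : SL2 F := mkS a b (s + b - a * (g : M2 F).trace) ((x : M2 F).trace - a)
    (by linear_combination -h)
  obtain ⟨y, hy⟩ := isConj_iff.1 (isConj_of_trace_det (g := Matrix.SpecialLinearGroup.toGL c)
    (h := Matrix.SpecialLinearGroup.toGL g) (by simp [IsScal, c]) (mt toP_eq_one.2 hg)
    (by simp [c, Matrix.trace_fin_two]) (c.2.trans g.2.symm))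
  rw [← toGL_cjG] at hy
  have hy' := Matrix.SpecialLinearGroup.toGL_injective hy
  have ht : ∀ z : SL2 F, ((cjG y z : SL2 F) : M2 F).trace = (z : M2 F).trace := fun z =>
    (trace_eq_of_isConj (isConj_iff.2 ⟨y, (toGL_cjG y z).symm⟩)).symm
  obtain ⟨u, hu⟩ := isConj_iff.1 (hx.isConj_SL (h := cjG y A)
    (by rw [ht]; simp [A, Matrix.trace_fin_two]))
  have hB : ((cjG y (A⁻¹ * c) : SL2 F) : M2 F).trace = s := by
    rw [ht]
    rw [Matrix.trace_fin_two]
    simp only [mul_apply_SL, inv00, inv01, inv10, inv11]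
    simp [A, c]
  have key : ∃ v : SL2 F, toP (v * x * v⁻¹) = toP (cjG y (A⁻¹ * c)) := by
    rcases hs with hs | hs
    · obtain ⟨v, hv⟩ := isConj_iff.1 (hx.isConj_SL (hs.symm.trans hB.symm))
      exact ⟨v, by rw [hv]⟩
    · obtain ⟨v, hv⟩ := isConj_iff.1 (hx.isConj_SL (h := -cjG y (A⁻¹ * c))
        (by rw [Matrix.SpecialLinearGroup.coe_neg, Matrix.trace_neg, hB, hs, neg_neg]))
      exact ⟨v, toP_eq_iff.2 (Or.inr hv)⟩
  obtain ⟨v, hv⟩ := key
  refine ⟨toP u, toP v, ?_⟩
  simp only [← map_inv, ← map_mul]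
  rw [map_mul, hv, hu, ← map_mul, ← map_mul, mul_inv_cancel_left, hy']

/-- A strong covering result in the direction of Thompson's conjecture (non-identity elements) for PSL(2,q), q odd: let F be a finite field of odd characteristic p with at least 5 elements and let x ∈ PSL(2,F) have order greater than 2 and not divisible by p (so x is not unipotent). Then every non-identity element of PSL(2,F) is a product of two conjugates of x. -/
theorem result {F : Type*} [Field F] [Fintype F] (p : ℕ) [Fact p.Prime] [CharP F p] (hp : p ≠ 2) (h5 : 5 ≤ Fintype.card F)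
    (x : Matrix.ProjectiveSpecialLinearGroup (Fin 2) F) (hx2 : 2 < orderOf x) (hxp : ¬ p ∣ orderOf x) : ∀ g : Matrix.ProjectiveSpecialLinearGroup (Fin 2) F, g ≠ 1 → ∃ u v : Matrix.ProjectiveSpecialLinearGroup (Fin 2) F, g = (u * x * u⁻¹) * (v * x * v⁻¹) := by
  obtain ⟨x, rfl⟩ := toP_surjective x
  have h2 : (2 : F) ≠ 0 := fun h => hp (ringChar.eq F p ▸ ringChar_eq_two h)
  have hr : IsReg (x : M2 F) := by
    rcases classify_reg x with h | h | ⟨h, h1, h3⟩
    · rw [toP_eq_one.2 h, orderOf_one] at hx2; omega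
    · exact h
    · rw [orderOf_eq_of_isConj (toP.map_isConj h1), h3.orderOf_toP p] at hxp
      exact (hxp dvd_rfl).elim
  have ht : (x : M2 F).trace ≠ 0 := fun h => by
    have : orderOf (toP x) ∣ 2 := orderOf_toP_dvd.2 (by
      rw [sq, mul_self_of_trace h]; exact isScal_SL_iff.2 (Or.inr rfl))
    have := Nat.le_of_dvd two_pos this
    omega
  refine main hr fun γ => ?_
  set s := (x : M2 F).trace
  by_cases h3 : γ = 2
  · refine ⟨1 / (2 * s), 1 / (2 * s), -s, Or.inr rfl, ?_⟩
    rw [h3]; field_simp; ring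
  by_cases h4 : γ = -2
  · refine ⟨1 / (2 * s), -(1 / (2 * s)), s, Or.inl rfl, ?_⟩
    rw [h4]; field_simp; ring
  have h5 : 1 - γ ^ 2 / 4 ≠ 0 := by
    intro h
    have h6 : (4 : F) ≠ 0 := by
      rw [show (4 : F) = 2 * 2 by norm_num]; exact mul_ne_zero h2 h2
    have : (γ - 2) * (γ + 2) = 0 := by field_simp at h; linear_combination -h
    rcases mul_eq_zero.1 this with h | h
    · exact h3 (by linear_combination h)
    · exact h4 (by linear_combination h)
  obtain ⟨a, b, h⟩ := FiniteField.exists_root_sum_quadratic (f := C 1 * X ^ 2 + C (-s) * X + C 1)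
    (g := C (1 - γ ^ 2 / 4) * X ^ 2 + C (s - s * γ / 2) * X + C 0) (degree_quadratic one_ne_zero)
    (degree_quadratic h5) (Nat.odd_iff.1 (odd_of_two_ne_zero h2))
  refine ⟨a + γ * b / 2, b, s, Or.inl rfl, ?_⟩
  simp only [eval_add, eval_mul, eval_C, eval_pow, eval_X] at h
  have h6 : (4 : F) = 2 * 2 := by norm_num
  rw [h6] at h
  field_simp at h ⊢
  linear_combination h

end Cfsg.Agent.S2455
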