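import Cfsg.Statements.S2456
import Mathlib
import Cfsg.Agent.S2455

set_option autoImplicit false
open Cfsg

namespace Cfsg.Agent.S2456

open Cfsg.Agent.Perm.GL2

/-- A strong covering result in the direction of Thompson's conjecture (non-identity elements) for PSL(2,q), q even: let F be a finite field of characteristic 2 with q ≥ 4 elements and let x ∈ PSL(2,F) have order greater than 2 and not dividing q + 1. Then every non-identity element of PSL(2,F) is a product of two conjugates of x. -/
theorem result {F : Type*} [Field F] [Fintype F] [CharP F 2] (h4 : 4 ≤ Fintype.card F)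
    (x : Matrix.ProjectiveSpecialLinearGroup (Fin 2) F) (hx2 : 2 < orderOf x) (hxq : ¬ orderOf x ∣ Fintype.card F + 1) : ∀ g : Matrix.ProjectiveSpecialLinearGroup (Fin 2) F, g ≠ 1 → ∃ u v : Matrix.ProjectiveSpecialLinearGroup (Fin 2) F, g = (u * x * u⁻¹) * (v * x * v⁻¹) := by
  obtain ⟨x, rfl⟩ := toP_surjective x
  have h2 : (2 : F) = 0 := CharTwo.two_eq_zero
  rcases classify_SL x with h | h | ⟨h, h1, h3⟩ | ⟨h, h1, h3⟩
  · rw [toP_eq_one.2 h, orderOf_one] at hx2; omega
  · exact (hxq ((orderOf_map_dvd _ _).trans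
      (h.card_cent_SL ▸ Subgroup.orderOf_dvd_natCard _ (mem_cent.2 rfl)))).elim
  · rw [orderOf_eq_of_isConj (toP.map_isConj h1), h3.orderOf_toP 2] at hx2; omega
  · refine S2455.main (h3.isReg.of_isConj h1.symm) fun γ => ⟨(h : M2 F) 0 0, 0, _, Or.inl rfl, ?_⟩
    rw [trace_eq_of_isConj_SL h1, Matrix.trace_fin_two]
    linear_combination -upper_mul_SL h3.2.1

end Cfsg.Agent.S2456
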