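import Cfsg.Statements.S2459
import Cfsg.Agent.Lib.Classical.LU3
import Mathlib.LinearAlgebra.Center

set_option autoImplicit false
open Cfsg

namespace Cfsg.Agent.S2459
open Cfsg.Agent.Classical

open Matrix LU3
variable {F : Type*} [Field F]

theorem nf2 (h : SpecialLinearGroup (Fin 3) F) (c0 : h.1 0 0 = 0) (c1 : h.1 1 0 = 1) (c2 : h.1 2 0 = 0) :
    ∃ Q l m a b c, h = Q * (Lm 1 l m * Um a b c) * Q⁻¹ := by
  have hd := h.2
  rw [det_fin_three, c0, c1, c2] at hd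
  obtain ⟨x, y, hxy⟩ : ∃ x y, y * h.1 0 2 - h.1 0 1 + x * (h.1 2 1 - y * h.1 2 2) = 1 := by
    by_cases e : h.1 2 1 = 0
    · have : h.1 2 2 ≠ 0 := fun e' => by simp [e, e'] at hd
      exact ⟨(h.1 0 2 - h.1 0 1 - 1) / h.1 2 2, 1, by rw [e]; field_simp; ring⟩
    · exact ⟨(1 + h.1 0 1) / h.1 2 1, 0, by field_simp; ring⟩
  obtain ⟨Q, hQ⟩ : ∃ Q : SpecialLinearGroup (Fin 3) F, Q.1 = !![1, -1 - x * y, x; 0, 1, 0; 0, -y, 1] :=
    ⟨⟨_, by simp [det_fin_three]⟩, rfl⟩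
  obtain ⟨Q', hQ'⟩ : ∃ Q : SpecialLinearGroup (Fin 3) F, Q.1 = !![1, 1, -x; 0, 1, 0; 0, y, 1] :=
    ⟨⟨_, by simp [det_fin_three]⟩, rfl⟩
  have hQQ : Q' = Q⁻¹ := eq_inv_of_mul_eq_one_left (Subtype.ext (by
    show Q'.1 * Q.1 = 1
    rw [hQ, hQ']
    ext i j
    fin_cases i <;> fin_cases j <;> simp))
  have hv : ∀ i j, (Q' * h * Q).1 i j = ∑ l, (∑ k, Q'.1 i k * h.1 k l) * Q.1 l j := fun _ _ => rfl
  obtain ⟨l, m, a, b, c, e⟩ := lu (Q' * h * Q) (by simp [hv, hQ, hQ', Fin.sum_univ_three, c0, c1, c2])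
    (by simp [hv, hQ, hQ', Fin.sum_univ_three, c0, c1, c2])
    (by simp [hv, hQ, hQ', Fin.sum_univ_three, c0, c1, c2]; linear_combination hxy)
  exact ⟨Q, l, m, a, b, c, by rw [← e, hQQ]; group⟩

theorem nf0 (g : SpecialLinearGroup (Fin 3) F) (hg : g ∉ Subgroup.center _) :
    ∃ v, LinearIndependent F ![v, g.1 *ᵥ v] := by
  by_contra! h
  obtain ⟨a, ha⟩ := LinearMap.exists_eq_smul_id_of_forall_notLinearIndependent (f := toLin' g.1)
    (fun v => by rw [toLin'_apply]; exact h v)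
  refine hg (Subgroup.mem_center_iff.2 fun k => Subtype.ext ?_)
  have : g.1 = a • (1 : Matrix (Fin 3) (Fin 3) F) := toLin'.injective (by rw [ha, map_smul, toLin'_one]; rfl)
  show k.1 * g.1 = g.1 * k.1
  simp [this]

theorem nf (g : SpecialLinearGroup (Fin 3) F) (hg : g ∉ Subgroup.center _) :
    ∃ P l m a b c, g = P * (Lm 1 l m * Um a b c) * P⁻¹ := by
  obtain ⟨v, hv⟩ := nf0 g hg
  have li : LinearIndependent F ![(Pi.single 0 1 : Fin 3 → F), Pi.single 1 1] :=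
    LinearIndependent.pair_iff.2 fun s t h => ⟨by simpa using congrFun h 0, by simpa using congrFun h 1⟩
  obtain ⟨P, hP⟩ := Wt.exists_SL_of_li (by simp) li hv
  have h0 : (P⁻¹ * g * P).1 *ᵥ Pi.single 0 1 = Pi.single 1 1 := by
    have h2 : (P⁻¹).1 * P.1 = 1 := congrArg Subtype.val (inv_mul_cancel P)
    have a0 : P.1 *ᵥ Pi.single 0 1 = v := hP 0
    have a1 : P.1 *ᵥ Pi.single 1 1 = g.1 *ᵥ v := hP 1
    show ((P⁻¹).1 * g.1 * P.1) *ᵥ _ = _
    rw [← mulVec_mulVec, ← mulVec_mulVec, a0, ← a1, mulVec_mulVec, h2, one_mulVec]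
  have e : g = P * (P⁻¹ * g * P) * P⁻¹ := by group
  generalize P⁻¹ * g * P = h at h0 e
  rw [mulVec_single_one] at h0
  obtain ⟨Q, l, m, a, b, c, e'⟩ := nf2 h (congrFun h0 0) (congrFun h0 1) (congrFun h0 2)
  refine ⟨P * Q, l, m, a, b, c, ?_⟩
  rw [e, e']; group


/-- A form of Thompson's conjecture for PSL(3,q), q > 2 (covering the non-identity elements), with a semisimple class: for F a finite field of characteristic p with more than 2 elements there is an element x of PSL(3,F) of order prime to p such that every non-identity element of PSL(3,F) is a product of two conjugates of x. -/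
theorem result {F : Type*} [Field F] [Fintype F] (p : ℕ) [Fact p.Prime] [CharP F p] (h3 : 3 ≤ Fintype.card F) :
    ∃ x : Matrix.ProjectiveSpecialLinearGroup (Fin 3) F, ¬ p ∣ orderOf x ∧ ∀ g : Matrix.ProjectiveSpecialLinearGroup (Fin 3) F, g ≠ 1 → ∃ u v : Matrix.ProjectiveSpecialLinearGroup (Fin 3) F, g = (u * x * u⁻¹) * (v * x * v⁻¹) := by
  suffices h : ∃ x : SpecialLinearGroup (Fin 3) F, (∃ k, ¬ p ∣ k ∧ x ^ k = 1) ∧ ∀ l m a b c, ∃ u v,
      Lm 1 l m * Um a b c = (u * x * u⁻¹) * (v * x * v⁻¹) by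
    obtain ⟨x, ⟨k, hk, hx⟩, h⟩ := h
    refine ⟨x, fun e => hk (e.trans (orderOf_dvd_of_pow_eq_one ?_)), fun g hg => ?_⟩
    · rw [← QuotientGroup.mk_pow, hx]; rfl
    obtain ⟨g, rfl⟩ := QuotientGroup.mk_surjective g
    obtain ⟨P, l, m, a, b, c, rfl⟩ := nf g fun e => hg ((QuotientGroup.eq_one_iff _).2 e)
    obtain ⟨u, v, e⟩ := h l m a b c
    refine ⟨(P * u : SpecialLinearGroup (Fin 3) F), (P * v : SpecialLinearGroup (Fin 3) F), ?_⟩
    simp only [← QuotientGroup.mk_mul, ← QuotientGroup.mk_inv]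
    congr 1
    rw [e]; group
  obtain ⟨n, hp, hn⟩ := FiniteField.card F p
  rcases h3.eq_or_lt with h3 | h3
  · have : p = 3 := (Nat.prime_dvd_prime_iff_eq hp Nat.prime_three).1 (by
      rw [h3, hn]; exact dvd_pow_self _ n.ne_zero)
    subst this
    let f := ZMod.castHom (dvd_refl 3) F
    have hf : Function.Surjective f := (ZMod.castHom_bijective F h3.symm).2
    refine ⟨SpecialLinearGroup.map f (X3 _), ⟨4, by norm_num, by
      rw [← map_pow, show X3 (ZMod 3) ^ 4 = 1 from Subtype.ext (by decide +kernel), map_one]⟩, fun l m a b c => ?_⟩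
    obtain ⟨l, rfl⟩ := hf l
    obtain ⟨m, rfl⟩ := hf m
    obtain ⟨a, rfl⟩ := hf a
    obtain ⟨b, rfl⟩ := hf b
    obtain ⟨c, rfl⟩ := hf c
    obtain ⟨u, v, e⟩ := three l m a b c
    refine ⟨SpecialLinearGroup.map f u, SpecialLinearGroup.map f v, ?_⟩
    simp only [← map_mul, ← map_inv, ← e]
    rw [map_mul]
    congr 1 <;> apply Subtype.ext
    · show _ = (Lm 1 l m).1.map f
      ext i j; fin_cases i <;> fin_cases j <;> simp [Lm]
    · show _ = (Um a b c).1.map f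
      ext i j; fin_cases i <;> fin_cases j <;> simp [Um]
  · classical
    obtain ⟨s, -, hs⟩ := Finset.exists_mem_notMem_of_card_lt_card (s := ({0, 1, -1} : Finset F)) (t := Finset.univ)
      (Finset.card_le_three.trans_lt h3)
    simp only [Finset.mem_insert, Finset.mem_singleton, not_or] at hs
    refine ⟨Dm (mul_inv_cancel₀ hs.1), ⟨Fintype.card F - 1, fun e => ?_, Subtype.ext ?_⟩,
      big _ (sub_ne_zero.2 hs.2.1) (fun e => hs.2.2 (eq_neg_of_add_eq_zero_left e))⟩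
    · have : p ∣ 1 := (Nat.dvd_sub_iff_right (by omega) (hn ▸ dvd_pow_self _ n.ne_zero)).1 e
      exact hp.one_lt.ne' (Nat.dvd_one.1 this)
    · have : (Dm (mul_inv_cancel₀ hs.1)).1 = diagonal ![s, 1, s⁻¹] := by
        ext i j; fin_cases i <;> fin_cases j <;> simp [Dm]
      show (Dm (mul_inv_cancel₀ hs.1)).1 ^ _ = 1
      rw [this, diagonal_pow, ← diagonal_one]
      congr 1
      ext i; fin_cases i <;> simp [FiniteField.pow_card_sub_one_eq_one _ hs.1]

end Cfsg.Agent.S2459
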