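import Cfsg.Statements.S2466
import Mathlib
import Cfsg.Agent.Lib.Perm.Spec

set_option autoImplicit false
open Cfsg

namespace Cfsg.Agent.S2466

open Cfsg.Agent.Perm

theorem exists_dvd {C : Multiset ℕ} {p : ℕ} (hp : p.Prime) (h : p ∣ C.lcm) : ∃ a ∈ C, p ∣ a :=
  hp.prime.exists_mem_multiset_dvd
    (h.trans (Multiset.lcm_dvd.2 fun _ ha => Multiset.dvd_prod ha))

/-- Adjacency of odd primes in the prime graph of the alternating groups: let r ≠ s be odd primes at most n. The alternating group of degree n has an element of order r·s if and only if r + s ≤ n. -/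
theorem result (n r s : ℕ) (hr : r.Prime) (hs : s.Prime) (hr2 : r ≠ 2) (hs2 : s ≠ 2) (hrs : r ≠ s) (hrn : r ≤ n) (hsn : s ≤ n) :
    (r * s ∈ Set.range (orderOf : alternatingGroup (Fin n) → ℕ)) ↔ r + s ≤ n := by
  rw [mem_spec_alt]
  have hr3 := hr.two_le
  have hs3 := hs.two_le
  have hco : r.Coprime s := (Nat.coprime_primes hr hs).2 hrs
  constructor
  · rintro ⟨C, h1, h2, h3, -⟩
    obtain ⟨a, ha, hra⟩ := exists_dvd hr (h3 ▸ dvd_mul_right r s)
    obtain ⟨b, hb, hsb⟩ := exists_dvd hs (h3 ▸ dvd_mul_left s r)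
    have ha' := Nat.le_of_dvd (by have := h2 a ha; omega) hra
    have hb' := Nat.le_of_dvd (by have := h2 b hb; omega) hsb
    by_cases hab : b = a
    · subst hab
      have := Nat.le_of_dvd (by have := h2 b hb; omega) (hco.mul_dvd_of_dvd_of_dvd hra hsb)
      have h4 := Multiset.le_sum_of_mem ha
      nlinarith
    · obtain ⟨C', rfl⟩ := Multiset.exists_cons_of_mem ha
      have hb2 := (Multiset.mem_cons.1 hb).resolve_left hab
      have h4 := Multiset.le_sum_of_mem hb2
      rw [Multiset.sum_cons] at h1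
      omega
  · intro h
    refine ⟨{r, s}, by simpa using h, by simp [hr3, hs3], ?_, ?_⟩
    · simp [← hco.lcm_eq_mul, lcm_eq_nat_lcm]
    · have := hr.odd_of_ne_two hr2
      have := hs.odd_of_ne_two hs2
      simp only [Multiset.insert_eq_cons, Multiset.sum_cons, Multiset.sum_singleton,
        Multiset.card_cons, Multiset.card_singleton]
      grind

end Cfsg.Agent.S2466
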