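import Cfsg.Statements.S2467
import Mathlib
import Cfsg.Agent.Lib.Perm.Spec
import Cfsg.Agent.S2466

set_option autoImplicit false
open Cfsg

namespace Cfsg.Agent.S2467

open Cfsg.Agent.Perm

theorem par (C : Multiset ℕ) : (C.sum + C.card) % 2 = (C.filter Even).card % 2 := by
  induction C using Multiset.induction_on with
  | empty => simp
  | cons a C ih =>
    by_cases ha : Even a
    · rw [Multiset.filter_cons_of_pos _ ha]
      simp only [Multiset.sum_cons, Multiset.card_cons]
      rw [Nat.even_iff] at ha
      omega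
    · rw [Multiset.filter_cons_of_neg _ ha]
      simp only [Multiset.sum_cons, Multiset.card_cons]
      rw [Nat.even_iff] at ha
      omega

/-- Adjacency of 2 and an odd prime in the prime graph of the alternating groups: let r be an odd prime at most n, with n ≥ 4. The alternating group of degree n has an element of order 2r if and only if r + 4 ≤ n. -/
theorem result (n r : ℕ) (hn : 4 ≤ n) (hr : r.Prime) (hr2 : r ≠ 2) (hrn : r ≤ n) :
    (2 * r ∈ Set.range (orderOf : alternatingGroup (Fin n) → ℕ)) ↔ r + 4 ≤ n := by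
  rw [mem_spec_alt]
  have hr3 := hr.two_le
  have hodd := hr.odd_of_ne_two hr2
  constructor
  · rintro ⟨C, h1, h2, h3, h4⟩
    obtain ⟨a, ha, hra⟩ := S2466.exists_dvd hr (h3 ▸ dvd_mul_left r 2)
    obtain ⟨b, hb, hsb⟩ := S2466.exists_dvd Nat.prime_two (h3 ▸ dvd_mul_right 2 r)
    have hb' : b ∈ C.filter Even := Multiset.mem_filter.2 ⟨hb, even_iff_two_dvd.2 hsb⟩
    have hpos := Multiset.card_pos_iff_exists_mem.2 ⟨b, hb'⟩
    have hp := par C
    rw [Nat.even_iff] at h4
    have h5 : 2 ≤ (C.filter Even).card := by omega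
    have hsum : (C.filter Even).sum + (C.filter fun x => ¬ Even x).sum = C.sum := by
      rw [← Multiset.sum_add, Multiset.filter_add_not]
    by_cases hae : Even a
    · have ha' : a ∈ C.filter Even := Multiset.mem_filter.2 ⟨ha, hae⟩
      obtain ⟨E, hE⟩ := Multiset.exists_cons_of_mem ha'
      rw [hE, Multiset.card_cons] at h5
      obtain ⟨y, hy⟩ := Multiset.card_pos_iff_exists_mem.1 (show 0 < E.card by omega)
      have hy2 : 2 ≤ y := h2 y (Multiset.mem_of_mem_filter (hE ▸ Multiset.mem_cons_of_mem hy))
      have hy3 := Multiset.le_sum_of_mem hy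
      rw [hE, Multiset.sum_cons] at hsum
      have : 2 * r ∣ a := (Nat.coprime_two_left.2 hodd).mul_dvd_of_dvd_of_dvd
        (even_iff_two_dvd.1 hae) hra
      have := Nat.le_of_dvd (by have := h2 a ha; omega) this
      omega
    · have ha' : a ∈ C.filter fun x => ¬ Even x := Multiset.mem_filter.2 ⟨ha, hae⟩
      have h6 := Multiset.le_sum_of_mem ha'
      have h7 := Multiset.card_nsmul_le_sum (s := C.filter Even) (a := 2)
        fun x hx => h2 x (Multiset.mem_of_mem_filter hx)
      have := Nat.le_of_dvd (by have := h2 a ha; omega) hra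
      rw [smul_eq_mul] at h7
      omega
  · intro h
    refine ⟨{r, 2, 2}, by simpa using h, by simp [hr3], ?_, ?_⟩
    · simp [lcm_eq_nat_lcm, (Nat.coprime_two_right.2 hodd).lcm_eq_mul, mul_comm]
    · simp only [Multiset.insert_eq_cons, Multiset.sum_cons, Multiset.sum_singleton,
        Multiset.card_cons, Multiset.card_singleton]
      grind

end Cfsg.Agent.S2467
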