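import Cfsg.Statements.S2468
import Mathlib
import Cfsg.Agent.Lib.Perm.PGr

set_option autoImplicit false
open Cfsg

namespace Cfsg.Agent.S2468

open Module Cfsg.Agent.Perm.PGr

theorem dims {F V : Type*} [Field F] [Fintype F] [AddCommGroup V] [Module F V] [FiniteDimensional F V]
    {r : ℕ} (hr : r.Prime) (h : ¬ r ∣ Fintype.card F) {B : End F V} (hB : B ^ r = 1) {U : Submodule F V}
    (hU : ∀ x ∈ U, B x ∈ U) (l : U ≤ LinearMap.range (B - 1)) :
    orderOf (Fintype.card F : ZMod r) ∣ finrank F U := by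
  have := S2364.fix_dim hr B hB U hU h
  have r0 : (r : F) ≠ 0 := fun e => h (by
    obtain ⟨p, _, m, hp, hm⟩ := FiniteField.card' F
    rw [hm, (Nat.prime_dvd_prime_iff_eq hp hr).1 ((CharP.cast_eq_zero_iff F p r).1 e)]
    exact dvd_pow_self _ m.ne_zero)
  rwa [(Submodule.eq_bot_iff (U ⊓ LinearMap.ker (B - 1))).2 fun x hx => semis hB r0 (l hx.1) hx.2, finrank_bot, Nat.sub_zero,
    dvd_iff Fintype.card_pos] at this

/-- Adjacency of two odd primes in the prime graph of PSL(n,q): let F be a finite field of characteristic p with q elements, n ≥ 2 with PSL(n,F) simple, and let r ≠ s be odd primes different from p dividing the order of PSL(n,F). Let k and l be the multiplicative orders of q modulo r and modulo s, and suppose 2 ≤ k ≤ l. Then PSL(n,F) has NO element of order r·s if and only if k + l > n and k does not divide l. -/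
theorem result {F : Type*} [Field F] [Fintype F] (p : ℕ) [Fact p.Prime] [CharP F p] (n : ℕ) (hn : 2 ≤ n) (hsmall : n = 2 → 4 ≤ Fintype.card F)
    (r s : ℕ) (hr : r.Prime) (hs : s.Prime) (hr2 : r ≠ 2) (hs2 : s ≠ 2) (hrp : r ≠ p) (hsp : s ≠ p) (hrs : r ≠ s)
    (hrG : r ∣ Nat.card (Matrix.ProjectiveSpecialLinearGroup (Fin n) F)) (hsG : s ∣ Nat.card (Matrix.ProjectiveSpecialLinearGroup (Fin n) F))
    (k l : ℕ) (hk : k = orderOf ((Fintype.card F : ℕ) : ZMod r)) (hl : l = orderOf ((Fintype.card F : ℕ) : ZMod s))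
    (h2k : 2 ≤ k) (hkl : k ≤ l) :
    (r * s ∉ Set.range (orderOf : Matrix.ProjectiveSpecialLinearGroup (Fin n) F → ℕ)) ↔ (n < k + l ∧ ¬ k ∣ l) := by
  classical
  have hp : p.Prime := Fact.out
  have q0 := Fintype.card_pos (α := F)
  have nq : ∀ {r : ℕ}, r.Prime → r ≠ p → ¬ r ∣ Fintype.card F := fun h1 h2 h => by
    obtain ⟨m, -, hm⟩ := FiniteField.card F p
    exact h2 ((Nat.prime_dvd_prime_iff_eq h1 hp).1 (h1.dvd_of_dvd_pow (hm ▸ h)))
  have n1 : ∀ {r : ℕ}, 2 ≤ orderOf (Fintype.card F : ZMod r) → ¬ r ∣ Fintype.card F - 1 := fun {r} h1 h => by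
    have := Nat.le_of_dvd one_pos ((dvd_iff (r := r) q0).1 (by rwa [pow_one])); omega
  have r1 := n1 (hk ▸ h2k)
  have s1 := n1 (hl ▸ h2k.trans hkl)
  have rk := (dvd_iff q0).2 hk.symm.dvd
  have sl := (dvd_iff q0).2 hl.symm.dvd
  have cop := (Nat.coprime_primes hr hs).2 hrs
  have cq := Nat.Coprime.mul_left ((Nat.Prime.coprime_iff_not_dvd hr).2 r1) ((Nat.Prime.coprime_iff_not_dvd hs).2 s1)
  haveI := Fact.mk hr
  haveI := Fact.mk hs
  refine ⟨fun h => by_contra fun h' => h ?_, ?_⟩
  · suffices ∃ g : Matrix.SpecialLinearGroup (Fin n) F, orderOf g = r * s by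
      obtain ⟨g, hg⟩ := this
      exact ⟨g, (ord_mk (by omega) (hg ▸ cq)).trans hg⟩
    by_cases h1 : k + l ≤ n
    · obtain ⟨B, hB⟩ := exists_prime_orderOf_dvd_card' r
        ((rk.mul_left _).trans (S2364.dvd_SL (F := F) h2k (by omega) le_rfl))
      obtain ⟨C, hC⟩ := exists_prime_orderOf_dvd_card' s
        ((sl.mul_left _).trans (S2364.dvd_SL (F := F) (m := n - k) (by omega) (by omega) (by omega)))
      exact ⟨bs (show k + (n - k) = n by omega) (B, C), by
        rw [orderOf_injective _ (bs_inj _), Prod.orderOf_mk, hB, hC, cop.lcm_eq_mul]⟩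
    have kl : k ∣ l := by_contra fun h2 => h' ⟨by omega, h2⟩
    have ln : l ≤ n := by
      have := (hsG.trans (Subgroup.card_quotient_dvd_card _)).mul_left (Fintype.card F - 1)
      rw [S0242.result rfl n (by omega)] at this
      obtain ⟨i, -, hi⟩ := (Prime.dvd_finset_prod_iff hs.prime _).1 this
      rw [show Fintype.card F ^ n = Fintype.card F ^ (n - i) * Fintype.card F ^ (i : ℕ) by
        rw [← pow_add, Nat.sub_add_cancel i.2.le], ← Nat.sub_one_mul] at hi
      have := (dvd_iff q0).1 ((hs.dvd_mul.1 hi).resolve_right fun h => nq hs hsp (hs.dvd_of_dvd_pow h))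
      have := Nat.le_of_dvd (by have := i.2; omega) this
      omega
    haveI : NeZero l := ⟨by omega⟩
    obtain ⟨y, hy⟩ := IsCyclic.exists_ofOrder_eq_natCard (α := (FiniteField.Extension F p l)ˣ)
    rw [Nat.card_units, FiniteField.natCard_extension, Nat.card_eq_fintype_card] at hy
    have d : r * s ∣ orderOf y := hy ▸ cop.mul_dvd_of_dvd_of_dvd ((dvd_iff q0).2 (hk ▸ kl)) sl
    have o := orderOf_pow_orderOf_div (orderOf_pos y).ne' d
    generalize y ^ _ = x at o
    let b := finBasisOfFinrankEq F _ (FiniteField.finrank_extension F p l)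
    have o2 : orderOf (Algebra.leftMulMatrix b x.1) = r * s := by
      rw [← o, ← orderOf_units]
      exact orderOf_injective (Algebra.leftMulMatrix b).toMonoidHom (Algebra.leftMulMatrix_injective b) _
    have d1 : (Algebra.leftMulMatrix b x.1).det ^ (r * s) = 1 := by
      rw [← Matrix.det_pow, ← o2, pow_orderOf_eq_one, Matrix.det_one]
    have d2 := (pow_eq_one_iff_of_coprime cq).1 ⟨d1, FiniteField.pow_card_sub_one_eq_one _ fun h => by
      rw [h, zero_pow (Nat.mul_pos hr.pos hs.pos).ne'] at d1; exact zero_ne_one d1⟩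
    obtain ⟨Y, hY⟩ : ∃ Y : Matrix.SpecialLinearGroup (Fin l) F, orderOf Y = r * s :=
      ⟨⟨_, d2⟩, (orderOf_injective _ Matrix.SpecialLinearGroup.coeMonoidHom_injective _).symm.trans o2⟩
    exact ⟨bs (show l + (n - l) = n by omega) (Y, 1), by
      rw [orderOf_injective _ (bs_inj _), Prod.orderOf_mk, orderOf_one, Nat.lcm_one_right, hY]⟩
  · rintro ⟨h1, h2⟩ ⟨x, hx⟩
    obtain ⟨X, rfl⟩ := QuotientGroup.mk_surjective x
    obtain ⟨a1, a2⟩ := lift (by omega) hs hr.ne_zero hx s1
    obtain ⟨b1, b2⟩ := lift (by omega) hr hs.ne_zero (hx.trans (mul_comm _ _)) r1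
    have c := (Commute.pow_pow_self X (r * (Fintype.card F - 1)) (s * (Fintype.card F - 1))).map nat
    replace a1 : nat (X ^ (r * (Fintype.card F - 1))) ^ s = 1 := by rw [← map_pow, a1, map_one]
    replace b1 : nat (X ^ (s * (Fintype.card F - 1))) ^ r = 1 := by rw [← map_pow, b1, map_one]
    replace a2 : nat (X ^ (r * (Fintype.card F - 1))) ≠ 1 := fun h => a2 (nat_inj (h.trans (map_one _).symm))
    replace b2 : nat (X ^ (s * (Fintype.card F - 1))) ≠ 1 := fun h => b2 (nat_inj (h.trans (map_one _).symm))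
    generalize nat (X ^ (r * (Fintype.card F - 1))) = C at *
    generalize nat (X ^ (s * (Fintype.card F - 1))) = B at *
    have iB := inv_range ((Commute.refl B).sub_left (Commute.one_left _))
    have iC := inv_range ((Commute.refl C).sub_left (Commute.one_left _))
    have pos : ∀ {B : End F (Fin n → F)}, B ≠ 1 → 0 < finrank F (LinearMap.range (B - 1)) := fun h =>
      Nat.pos_of_ne_zero fun e => h (sub_eq_zero.1 (LinearMap.range_eq_bot.1 (Submodule.finrank_eq_zero.1 e)))
    have e1 := Nat.le_of_dvd (pos b2) (dims hr (nq hr hrp) b1 iB le_rfl)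
    have e2 := Nat.le_of_dvd (pos a2) (dims hs (nq hs hsp) a1 iC le_rfl)
    have e3 := dims hr (nq hr hrp) b1 (U := LinearMap.range (B - 1) ⊓ LinearMap.range (C - 1))
      (fun x hx => ⟨iB x hx.1, inv_range (c.sub_left (Commute.one_left _)) x hx.2⟩) inf_le_left
    have e4 := dims hs (nq hs hsp) a1 (U := LinearMap.range (B - 1) ⊓ LinearMap.range (C - 1))
      (fun x hx => ⟨inv_range (c.symm.sub_left (Commute.one_left _)) x hx.1, iC x hx.2⟩) inf_le_right
    have e5 := Submodule.finrank_sup_add_finrank_inf_eq (LinearMap.range (B - 1)) (LinearMap.range (C - 1))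
    have e6 := (LinearMap.range (B - 1) ⊔ LinearMap.range (C - 1)).finrank_le
    have e7 := (LinearMap.range (B - 1) ⊓ LinearMap.range (C - 1)).finrank_le
    rw [finrank_fin_fun] at e6 e7
    rw [← hk] at e1 e3
    rw [← hl] at e2 e4
    obtain ⟨j, hj⟩ := e4
    rcases j with _ | _ | j
    · omega
    · exact h2 (by rwa [hj, zero_add, mul_one] at e3)
    · have : l * (j + 1 + 1) = l * j + 2 * l := by ring
      omega

end Cfsg.Agent.S2468
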