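import Cfsg.Statements.S2470
import Mathlib
import Cfsg.Agent.Lib.Perm.PGr

set_option autoImplicit false
open Cfsg

namespace Cfsg.Agent.S2470

open Module Cfsg.Agent.Perm.PGr Matrix

/-- a semisimple times unipotent element -/
def el {F : Type*} [Field F] (μ : Fˣ) (c : F) : SpecialLinearGroup (Fin 3) F :=
  ⟨!![μ, μ * c, 0; 0, μ, 0; 0, 0, (μ⁻¹ : Fˣ) * (μ⁻¹ : Fˣ)], by simp [det_fin_three]; field_simp⟩

theorem el_pow {F : Type*} [Field F] (μ : Fˣ) (m : ℕ) : el μ 1 ^ m = el (μ ^ m) m := by
  induction m with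
  | zero => rw [pow_zero]; exact Subtype.ext (by ext i j; fin_cases i <;> fin_cases j <;> simp [el])
  | succ m ih =>
    rw [pow_succ, ih]
    refine Subtype.ext ?_
    change (el _ _).1 * (el _ _).1 = _
    ext i j; fin_cases i <;> fin_cases j <;> simp [el, Matrix.mul_apply, Fin.sum_univ_succ, pow_succ] <;> ring

theorem el_cen {F : Type*} [Field F] (μ : Fˣ) (c : F) : el μ c ∈ Subgroup.center _ ↔ μ ^ 3 = 1 ∧ c = 0 := by
  rw [Matrix.SpecialLinearGroup.mem_center_iff]
  constructor
  · rintro ⟨r, h1, h2⟩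
    have a := congrFun (congrFun h2 0) 0
    have b := congrFun (congrFun h2 0) 1
    simp [el] at a b h1
    exact ⟨Units.ext (by simpa [a] using h1), b⟩
  · rintro ⟨h, rfl⟩
    have h' : (μ : F) ^ 3 = 1 := congrArg Units.val h
    refine ⟨μ, h', ?_⟩
    ext i j; fin_cases i <;> fin_cases j <;> simp [el]
    field_simp; exact h'

/-- Adjacency of an odd prime and the characteristic in the prime graph of PSL(n,q): let F be a finite field of characteristic p with q elements, n ≥ 2 with PSL(n,F) simple, and let r ≠ p be an odd prime dividing the order of PSL(n,F), with k the multiplicative order of q modulo r. Then PSL(n,F) has NO element of order r·p if and only if either k > n − 2, or n = 3, r = 3 and 3 divides q − 1 exactly once. -/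
theorem result {F : Type*} [Field F] [Fintype F] (p : ℕ) [Fact p.Prime] [CharP F p] (n : ℕ) (hn : 2 ≤ n) (hsmall : n = 2 → 4 ≤ Fintype.card F)
    (r : ℕ) (hr : r.Prime) (hr2 : r ≠ 2) (hrp : r ≠ p) (hrG : r ∣ Nat.card (Matrix.ProjectiveSpecialLinearGroup (Fin n) F))
    (k : ℕ) (hk : k = orderOf ((Fintype.card F : ℕ) : ZMod r)) :
    (r * p ∉ Set.range (orderOf : Matrix.ProjectiveSpecialLinearGroup (Fin n) F → ℕ)) ↔
      (n - 2 < k ∨ (n = 3 ∧ r = 3 ∧ 3 ∣ Fintype.card F - 1 ∧ ¬ 9 ∣ Fintype.card F - 1)) := by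
  classical
  have hp : p.Prime := Fact.out
  have q0 := Fintype.card_pos (α := F)
  have k1 := Fintype.one_lt_card (α := F)
  obtain ⟨m, -, hm⟩ := FiniteField.card F p
  have nq : ¬ r ∣ Fintype.card F := fun h => hrp ((Nat.prime_dvd_prime_iff_eq hr hp).1 (hr.dvd_of_dvd_pow (hm ▸ h)))
  have q4 : ¬ p ∣ Fintype.card F - 1 := fun h => hp.not_dvd_one (by
    have := Nat.dvd_sub (hm ▸ dvd_pow_self p m.ne_zero : p ∣ Fintype.card F) h
    rwa [Nat.sub_sub_self k1.le] at this)
  have r0 : (r : F) ≠ 0 := fun e => hrp ((Nat.prime_dvd_prime_iff_eq hp hr).1 ((CharP.cast_eq_zero_iff F p r).1 e)).symm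
  haveI := Fact.mk hr
  have k0 : 0 < k := hk ▸ (isOfFinOrder_iff_pow_eq_one.2 ⟨r - 1, by have := hr.two_le; omega,
    ZMod.pow_card_sub_one_eq_one fun h => nq ((ZMod.natCast_eq_zero_iff _ _).1 h)⟩).orderOf_pos
  have dv : ∀ {e}, r ∣ Fintype.card F ^ e - 1 ↔ k ∣ e := hk ▸ dvd_iff q0
  have cop := (Nat.coprime_primes hr hp).2 hrp
  refine ⟨fun h => by_contra fun h' => h ?_, ?_⟩
  · rw [not_or, not_lt] at h'
    by_cases h3 : n = 3
    · subst h3
      have r1 := dv.2 (show k ∣ 1 by rw [show k = 1 by omega])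
      rw [pow_one] at r1
      obtain ⟨y, hy⟩ := IsCyclic.exists_ofOrder_eq_natCard (α := Fˣ)
      rw [Nat.card_units, Nat.card_eq_fintype_card] at hy
      obtain ⟨μ, hμ⟩ : ∃ μ : Fˣ, orderOf (μ ^ 3) = r := by
        by_cases r3 : r = 3
        · subst r3
          have := orderOf_pow_orderOf_div (orderOf_pos y).ne' (hy ▸ by_contra fun h => h'.2 ⟨rfl, rfl, r1, h⟩)
          exact ⟨_, by rw [orderOf_pow_of_dvd (by norm_num) (by rw [this]; norm_num), this]⟩
        · have := orderOf_pow_orderOf_div (orderOf_pos y).ne' (hy ▸ r1)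
          exact ⟨_, (Nat.Coprime.orderOf_pow (by
            rw [this]; exact (Nat.coprime_primes hr Nat.prime_three).2 r3)).trans this⟩
      have e : ∀ j, (el μ 1 : ProjectiveSpecialLinearGroup (Fin 3) F) ^ j = 1 ↔ r * p ∣ j := fun j => by
        rw [← QuotientGroup.mk_pow, QuotientGroup.eq_one_iff, el_pow, el_cen, ← pow_mul, mul_comm j, pow_mul,
          ← orderOf_dvd_iff_pow_eq_one, hμ, CharP.cast_eq_zero_iff F p]
        exact ⟨fun h => cop.mul_dvd_of_dvd_of_dvd h.1 h.2, fun h => ⟨(dvd_mul_right _ _).trans h, (dvd_mul_left _ _).trans h⟩⟩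
      exact ⟨_, Nat.dvd_antisymm (orderOf_dvd_of_pow_eq_one ((e _).2 dvd_rfl)) ((e _).1 (pow_orderOf_eq_one _))⟩
    obtain ⟨B, hB⟩ := exists_prime_orderOf_dvd_card' r
      (((dv.2 dvd_rfl).mul_left _).trans (S2364.dvd_SL (F := F) (m := n - 2) (by omega) k0 h'.1))
    let J := Matrix.SpecialLinearGroup.transvection (show (0 : Fin 2) ≠ 1 by decide) (1 : F)
    have pw : ∀ j : ℕ, J ^ j = Matrix.SpecialLinearGroup.transvection (show (0 : Fin 2) ≠ 1 by decide) (j : F) :=
      fun j => by
        induction j with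
        | zero => simp
        | succ j ih => rw [pow_succ, ih, Nat.cast_succ, Matrix.SpecialLinearGroup.transvection_add]
    have oJ : orderOf J = p := orderOf_eq_prime (by rw [pw]; simp) fun h => one_ne_zero
      ((Matrix.SpecialLinearGroup.transvection_mem_center_iff _ _).1 (show J ∈ _ from h ▸ one_mem _))
    refine ⟨bs (show n - 2 + 2 = n by omega) (B, J), ?_⟩
    rw [← cop.lcm_eq_mul, ← hB, ← oJ, ← Prod.orderOf_mk, ← orderOf_injective _ (bs_inj (show n - 2 + 2 = n by omega)),
      orderOf_eq_orderOf_iff]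
    refine fun j => ⟨fun h => ?_, fun h => by rw [← QuotientGroup.mk_pow, h]; rfl⟩
    rw [← QuotientGroup.mk_pow, QuotientGroup.eq_one_iff, Matrix.SpecialLinearGroup.mem_center_iff] at h
    obtain ⟨c, -, hc⟩ := h
    have := bs_apply (show n - 2 + 2 = n by omega) ((B, J) ^ j) 0
    rw [map_pow, ← hc, Prod.pow_snd, pw] at this
    replace this : c = 1 := by simpa [Matrix.SpecialLinearGroup.transvection, Matrix.transvection] using this
    exact Subtype.ext (by rw [← hc, this]; simp)
  · rintro h ⟨x, hx⟩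
    obtain ⟨X, rfl⟩ := QuotientGroup.mk_surjective x
    obtain ⟨a1, a2⟩ := lift (by omega) hp hr.ne_zero hx q4
    haveI : Nontrivial (Fin n) := Fin.nontrivial_iff_two_le.2 hn
    haveI : CharP (End F (Fin n → F)) p := charP_of_injective_algebraMap (algebraMap F _).injective p
    have nil : IsNilpotent (nat (X ^ (r * (Fintype.card F - 1))) - 1) := ⟨p, by
      rw [sub_pow_char_of_commute _ (Commute.one_right _), ← map_pow, a1, map_one, one_pow, sub_self]⟩
    have n0 : nat (X ^ (r * (Fintype.card F - 1))) - 1 ≠ 0 := fun h => a2 (nat_inj (by rw [sub_eq_zero.1 h, map_one]))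
    have cm := fun j => ((Commute.pow_pow_self X (r * (Fintype.card F - 1)) j).map nat).sub_left (Commute.one_left _)
    by_cases k2 : 2 ≤ k
    · have r1 : ¬ r ∣ Fintype.card F - 1 := fun h => by
        have := Nat.le_of_dvd one_pos (dv.1 (by rwa [pow_one])); omega
      obtain ⟨b1, b2⟩ := lift (by omega) hr hp.ne_zero (hx.trans (mul_comm _ _)) r1
      refine core k2 ?_ _ _ nil n0 (cm _) (fun h => b2 (nat_inj (h.trans (map_one _).symm)))
        fun U hU => dv.1 (S2364.fix_dim hr _ (by rw [← map_pow, b1, map_one]) U hU nq)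
      rw [finrank_fin_fun]
      rcases h with h | ⟨-, rfl, h, -⟩
      · omega
      · exact absurd h r1
    obtain ⟨c, c1, c2⟩ := Matrix.SpecialLinearGroup.mem_center_iff.1 ((QuotientGroup.eq_one_iff (X ^ (r * p))).1 (by
      rw [QuotientGroup.mk_pow, ← hx, pow_orderOf_eq_one]))
    rw [Fintype.card_fin] at c1
    have e : nat (X ^ p) ^ r = c • 1 := by
      rw [← map_pow, ← pow_mul, mul_comm]
      change toLinAlgEquiv' (X ^ (r * p)).1 = _
      rw [← c2, scalar_apply, ← smul_one_eq_diagonal, map_smul, map_one]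
    have c0 : c ≠ 0 := by rintro rfl; rw [zero_pow (by omega)] at c1; exact zero_ne_one c1
    obtain ⟨μ, m1, m2⟩ := core2 (by rw [finrank_fin_fun]; omega) nil n0 (cm p) r0 c0 e
    rw [finrank_fin_fun] at m2
    have μ0 : μ ≠ 0 := by rintro rfl; rw [zero_pow hr.ne_zero] at m1; exact c0 m1.symm
    have e1 : μ⁻¹ • nat (X ^ p) = 1 := by
      rcases h with h | ⟨rfl, rfl, -, h⟩
      · exact sub_eq_zero.1 (LinearMap.range_eq_bot.1 (Submodule.finrank_eq_zero.1 (by omega)))
      · refine one_of_det (by rw [smul_pow, e, smul_smul, inv_pow, m1, inv_mul_cancel₀ c0, one_smul]) r0 (by omega) ?_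
        have : LinearMap.det (nat (X ^ p)) = 1 := (LinearMap.det_toLin' _).trans (X ^ p).2
        rw [LinearMap.det_smul, this, finrank_fin_fun, inv_pow, m1, mul_one, inv_eq_one, ← m1]
        obtain ⟨i, hi, e⟩ := (Nat.dvd_prime_pow Nat.prime_three).1
          (orderOf_dvd_of_pow_eq_one (show μ ^ 3 ^ 2 = 1 by rw [← c1, ← m1, ← pow_mul]; rfl))
        have := orderOf_dvd_of_pow_eq_one (FiniteField.pow_card_sub_one_eq_one μ μ0)
        refine orderOf_dvd_iff_pow_eq_one.1 ?_
        rw [e] at this ⊢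
        interval_cases i
        · norm_num
        · norm_num
        · exact absurd this h
    have : X ^ p ∈ Subgroup.center _ := Subgroup.mem_center_iff.2 fun g => nat_inj (by
      rw [map_mul, map_mul, (inv_smul_eq_iff₀ μ0).1 e1]; simp)
    have := orderOf_dvd_of_pow_eq_one ((QuotientGroup.mk_pow _ _ _).symm.trans ((QuotientGroup.eq_one_iff _).2 this))
    rw [hx] at this
    have := Nat.le_of_dvd hp.pos this
    have := hr.two_le
    have := hp.pos
    nlinarith

end Cfsg.Agent.S2470
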