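import Cfsg.Statements.S2471
import Mathlib
import Cfsg.Agent.Lib.Perm.GL2b

set_option autoImplicit false
open Cfsg

namespace Cfsg.Agent.S2471

open Cfsg.Agent.Perm.GL2

/-- In PSL(2,q) with q odd, the characteristic p is isolated from 2 in the prime graph: for F a finite field of odd characteristic p with at least 5 elements, PSL(2,F) has no element of order 2p. -/
theorem result {F : Type*} [Field F] [Fintype F] (p : ℕ) [Fact p.Prime] [CharP F p] (hp : p ≠ 2) (h5 : 5 ≤ Fintype.card F) (g : Matrix.ProjectiveSpecialLinearGroup (Fin 2) F) :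
    orderOf g ≠ 2 * p := by
  intro h
  have hpp : p.Prime := Fact.out
  have h1 : 2 * p ∈ Set.range (orderOf : PSL2 F → ℕ) := ⟨g, h⟩
  rw [spec_PSL2 p] at h1
  obtain ⟨n, -, hn⟩ := FiniteField.card F p
  have hq : p ∣ Fintype.card F := hn ▸ dvd_pow_self p n.ne_zero
  have hodd : Fintype.card F % 2 = 1 := by
    rw [hn, ← Nat.odd_iff]; exact (hpp.odd_of_ne_two hp).pow
  have hg : Nat.gcd 2 (Fintype.card F - 1) = 2 := Nat.gcd_eq_left (by omega)
  rw [hg] at h1
  rcases h1 with h1 | h1 | h1
  · have := Nat.le_of_dvd hpp.pos h1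
    have := hpp.pos
    omega
  · have h2 : p ∣ Fintype.card F - 1 :=
      ((dvd_mul_left p 2).trans h1).trans (Nat.div_dvd_of_dvd (by omega))
    have := (Nat.dvd_sub_iff_right (by omega) hq).1 h2
    exact hpp.one_lt.ne' (Nat.dvd_one.1 this)
  · have h2 : p ∣ Fintype.card F + 1 :=
      ((dvd_mul_left p 2).trans h1).trans (Nat.div_dvd_of_dvd (by omega))
    have := (Nat.dvd_add_right hq).1 h2
    exact hpp.one_lt.ne' (Nat.dvd_one.1 this)

end Cfsg.Agent.S2471
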