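import Cfsg.Statements.S2472
import Cfsg.Agent.Lib.Chev.PAdj2

set_option autoImplicit false
open Cfsg

namespace Cfsg.Agent.S2472

open Cfsg.Agent.Chev.PAdj

/-- Adjacency of a prime and the characteristic in the prime graph of PSp(2n,q): let F be a finite field of characteristic p with q elements, n ≥ 2 with PSp(2n,F) simple, and let r ≠ p be an odd prime dividing the order of PSp(2n,F), with k the multiplicative order of q modulo r and η(k) = k for odd k, k/2 for even k. Then PSp(2n,F) has NO element of order r·p if and only if η(k) > n − 1. -/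
theorem result {F : Type*} [Field F] [Fintype F] (p : ℕ) [Fact p.Prime] [CharP F p] (n : ℕ) (hn : 2 ≤ n) (hsmall : n = 2 → 3 ≤ Fintype.card F)
    (r : ℕ) (hr : r.Prime) (hr2 : r ≠ 2) (hrp : r ≠ p) (hrG : r ∣ Nat.card (Cfsg.PSp n F))
    (k ηk : ℕ) (hk : k = orderOf ((Fintype.card F : ℕ) : ZMod r)) (hηk : (Odd k ∧ ηk = k) ∨ (Even k ∧ 2 * ηk = k)) :
    (r * p ∉ Set.range (orderOf : Cfsg.PSp n F → ℕ)) ↔ n - 1 < ηk := by
  have hp : p.Prime := Fact.out
  obtain ⟨e, -, he⟩ := FiniteField.card F p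
  have hq : ¬r ∣ Fintype.card F := fun f => hrp ((Nat.prime_dvd_prime_iff_eq hr hp).1 (hr.dvd_of_dvd_pow (he ▸ f)))
  have hZ := S0246.result (F := F) rfl n (by omega)
  have c : ∀ s : ℕ, s.Prime → (s = r ∨ s = p) → ¬s ∣ Nat.gcd 2 (Fintype.card F - 1) := fun s hs h f => by
    obtain rfl : s = 2 := (Nat.prime_dvd_prime_iff_eq hs Nat.prime_two).1 (f.trans (Nat.gcd_dvd_left _ _))
    rcases h with h | rfl
    · exact hr2 h.symm
    have a := f.trans (Nat.gcd_dvd_right _ _)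
    have b : 2 ∣ Fintype.card F := he ▸ dvd_pow_self _ e.ne_zero
    have := Fintype.card_pos (α := F)
    omega
  have cop : r.Coprime p := (Nat.coprime_primes hr hp).2 hrp
  rw [← not_iff_not, not_not, not_lt, show ηk ≤ n - 1 ↔ ηk < n by omega, ← eta Fintype.card_ne_zero hr hq hk hηk]
  constructor
  · rintro ⟨g, hg⟩
    have h1 : orderOf (g ^ r) = p := by rw [orderOf_pow' _ hr.ne_zero, hg, Nat.gcd_mul_right_left, Nat.mul_div_cancel_left _ hr.pos]
    have h2 : orderOf (g ^ p) = r := by rw [orderOf_pow' _ hp.ne_zero, hg, Nat.gcd_mul_left_left, Nat.mul_div_cancel _ hp.pos]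
    obtain ⟨u, y, a1, a2, a3, a4, a5⟩ := lift (n := Nat.gcd 2 (Fintype.card F - 1)) (p := p) (r := r) (fun z hz => by
      rw [← hZ]; exact congrArg Subtype.val (pow_card_eq_one' (x := (⟨z, hz⟩ : Subgroup.center _))))
      ((Commute.refl g).pow_pow r p) (orderOf_dvd_iff_pow_eq_one.1 h1.dvd) (orderOf_dvd_iff_pow_eq_one.1 h2.dvd)
      (fun f => c p hp (.inr rfl) (h1 ▸ orderOf_dvd_of_pow_eq_one f)) fun f => c r hr (.inl rfl) (h2 ▸ orderOf_dvd_of_pow_eq_one f)
    exact sp_comm hn hr hq a1 a2 a3 a4 a5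
  rintro ⟨j, j1, j2, h⟩
  obtain ⟨g, hg⟩ := sp_exists (p := p) hn hr hrp j1 j2 h
  refine ⟨(g : Cfsg.PSp n F), Nat.dvd_antisymm (hg ▸ orderOf_map_dvd (QuotientGroup.mk' _) g) ?_⟩
  have a : g ^ orderOf (g : Cfsg.PSp n F) ∈ Subgroup.center _ := (QuotientGroup.eq_one_iff _).1 (pow_orderOf_eq_one (g : Cfsg.PSp n F))
  have b : (g ^ orderOf (g : Cfsg.PSp n F)) ^ Nat.gcd 2 (Fintype.card F - 1) = 1 := by
    rw [← hZ]; exact congrArg Subtype.val (pow_card_eq_one' (x := (⟨_, a⟩ : Subgroup.center _)))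
  rw [← pow_mul, ← orderOf_dvd_iff_pow_eq_one, hg] at b
  exact (Nat.Coprime.mul_left ((Nat.Prime.coprime_iff_not_dvd hr).2 (c r hr (.inl rfl)))
    ((Nat.Prime.coprime_iff_not_dvd hp).2 (c p hp (.inr rfl)))).dvd_of_dvd_mul_right b

end Cfsg.Agent.S2472
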