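import Cfsg.Statements.S2485
import Mathlib
import Cfsg.Agent.Lib.Perm.P2b
import Cfsg.Agent.Lib.Transfer.ElemC

set_option autoImplicit false
open scoped Pointwise
open Cfsg

namespace Cfsg.Agent.S2485

open Cfsg.Agent.Perm Cfsg.Agent.Perm.GL2 Subgroup Cfsg.Agent.Transfer MulAction

/-- Let q = 2^k − 1 ≥ 7 be a prime and let G = PGL(2,q), the general linear group of degree 2 over the field with q elements modulo its centre. Then any two Sylow 2-subgroups of G have a non-trivial intersection: for a Sylow 2-subgroup H and every x ∈ G, H ∩ H^x ≠ 1. -/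
theorem result {q k : ℕ} [Fact q.Prime] (hk : q + 1 = 2 ^ k) (hq : 7 ≤ q)
    (H : Sylow 2 (GL (Fin 2) (ZMod q) ⧸ Subgroup.center (GL (Fin 2) (ZMod q))))
    (x : GL (Fin 2) (ZMod q) ⧸ Subgroup.center (GL (Fin 2) (ZMod q))) :
    (H : Subgroup (GL (Fin 2) (ZMod q) ⧸ Subgroup.center (GL (Fin 2) (ZMod q)))) ⊓ MulAut.conj x • (H : Subgroup _) ≠ ⊥ := by
  change Sylow 2 (PGL2 (ZMod q)) at H
  change PGL2 (ZMod q) at x
  change (H : Subgroup (PGL2 (ZMod q))) ⊓ MulAut.conj x • (H : Subgroup (PGL2 (ZMod q))) ≠ ⊥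
  have hF : Fintype.card (ZMod q) = q := ZMod.card q
  obtain ⟨k, rfl⟩ : ∃ j, k = j + 3 := ⟨k - 3, by
    have : 3 ≤ k := (Nat.pow_le_pow_iff_right one_lt_two).1 (by omega)
    omega⟩
  have h8 : 2 ^ (k + 3) = 8 * 2 ^ k := by ring
  have hk0 : 0 < 2 ^ k := by positivity
  have hH : 2 ^ (k + 4) ∣ Nat.card (H : Subgroup (PGL2 (ZMod q))) :=
    H.pow_dvd_card_of_pow_dvd_card (by
      rw [card_PGL2, hF, hk, pow_succ, mul_assoc]
      exact (Nat.mul_dvd_mul_left _ (by omega)).mul_left _)
  obtain ⟨z, hzH, hz, h1⟩ := exists_central_invol H.2 fun e => by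
    rw [e, card_bot, Nat.dvd_one] at hH
    exact (Nat.one_lt_two_pow (by omega)).ne' hH
  have hzq : z ^ q ≠ 1 := fun e => by
    have := hz ▸ orderOf_dvd_of_pow_eq_one e
    omega
  obtain ⟨t, s, h2, h3, -, h4, h5, h6, -, h7⟩ := torus hzq
  have h9 : centralizer ({z} : Set (PGL2 (ZMod q))) ≤ closure {t, s} := fun g hg =>
    (mem_dih h4 h5).2 (h7 g (Or.inl (commute_iff_conj.1 (mem_centralizer_singleton'.1 hg))))
  have h10 := hH.trans (card_dvd_of_le (h1.trans h9))
  rw [card_dih h4 h5 h6, pow_succ'] at h10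
  have h11 : orderOf t = 2 ^ (k + 3) := by
    rw [hF] at h2
    rcases h2 with h | ⟨h, -⟩
    · rw [h, hk]
    · have := Nat.le_of_dvd (by omega) h10
      omega
  have h12 : (H : Subgroup (PGL2 (ZMod q))) = closure {t, s} := eq_of_le_of_card_ge (h1.trans h9) (by
    rw [card_dih h4 h5 h6, h11, ← pow_succ']; exact Nat.le_of_dvd Nat.card_pos hH)
  have key : ∃ w : PGL2 (ZMod q), w ≠ 1 ∧ Commute w z ∧ Commute w (x * z * x⁻¹) := by
    have hz' := conj_mul_self (mul_self_of_orderOf hz) x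
    generalize x * z * x⁻¹ = z' at hz'
    have hi : z⁻¹ = z := inv_eq_of_mul_eq_one_right (mul_self_of_orderOf hz)
    have hi' : z'⁻¹ = z' := inv_eq_of_mul_eq_one_right hz'
    have ha : z * (z * z') * z⁻¹ = (z * z')⁻¹ := by
      rw [← mul_assoc, mul_self_of_orderOf hz, mul_inv_rev, hi', one_mul]
    have ha' : z' * (z * z') * z'⁻¹ = (z * z')⁻¹ := by
      rw [mul_assoc, mul_inv_cancel_right, mul_inv_rev, hi', hi]
    by_cases h : (z * z') ^ q = 1
    · by_cases h0 : z * z' = 1
      · exact ⟨z, ne_one_of_orderOf hz, Commute.refl z, by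
          rw [← inv_eq_of_mul_eq_one_right h0]; exact (Commute.refl z).inv_right⟩
      exfalso
      obtain ⟨y, hy⟩ := fix1_of_finite h0 h
      have h13 : z • y = y := (hy _).1 (by
        rw [← mul_smul, show z * z' * z = z * ((z * z')⁻¹)⁻¹⁻¹ by rw [inv_inv, mul_inv_rev, hi, hi', mul_assoc],
          mul_smul, inv_inv, inv_smul_eq_iff.2 ((hy y).2 rfl).symm])
      have hc : Commute z t := by
        obtain ⟨n, rfl⟩ := h3
        exact (Commute.refl t).zpow_left n
      have h14 : (t * t) • y = y := by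
        by_contra h14
        have h15 : t • y ≠ y := fun e => h14 (by rw [mul_smul, e, e])
        refine ne_one_of_orderOf hz (eq_one_of_fix_three h15.symm (Ne.symm h14)
          (fun e => h15 (smul_left_cancel t (by rw [← mul_smul, ← e]))) h13 ?_ ?_)
        · rw [← mul_smul, hc.eq, mul_smul, h13]
        · rw [← mul_smul, (hc.mul_right hc).eq, mul_smul, h13]
      have h15 := (stabilizer (PGL2 (ZMod q)) y).orderOf_dvd_natCard h14
      rw [card_stab, hF, ← sq, orderOf_pow' _ two_ne_zero, h11, h8, Nat.gcd_eq_right (by omega)] at h15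
      have h16 : 4 ∣ q * (q - 1) := Dvd.dvd.trans (by omega) h15
      have h17 := (Nat.Coprime.dvd_mul_left (by
        rw [show 4 = 2 ^ 2 by rfl]
        exact (Nat.coprime_two_left.2 (Nat.odd_iff.2 (by omega))).pow_left 2)).1 h16
      omega
    · obtain ⟨t', s', h13, -, -, h14, h15, -, -, h16⟩ := torus h
      have h17 : 2 ∣ orderOf t' := by rw [hF] at h13; omega
      have h18 : orderOf (t' ^ (orderOf t' / 2)) = 2 := orderOf_pow_orderOf_div (orderOf_pos _).ne' h17
      have h19 : closure {t', s'} ≤ centralizer {t' ^ (orderOf t' / 2)} := by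
        rw [closure_le]
        rintro _ (rfl | rfl)
        · exact mem_centralizer_singleton'.2 ((Commute.refl _).pow_right _)
        · refine mem_centralizer_singleton'.2 (commute_iff_conj.2 ?_)
          rw [← conj_pow, h14, inv_pow, inv_eq_of_mul_eq_one_right (mul_self_of_orderOf h18)]
      exact ⟨_, ne_one_of_orderOf h18,
        (mem_centralizer_singleton'.1 (h19 ((mem_dih h14 h15).2 (h16 _ (Or.inr ha))))).symm,
        (mem_centralizer_singleton'.1 (h19 ((mem_dih h14 h15).2 (h16 _ (Or.inr ha'))))).symm⟩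
  obtain ⟨w, h13, h14, h15⟩ := key
  refine fun e => h13 (mem_bot.1 (e ▸ mem_inf.2 ⟨h12 ▸ h9 (mem_centralizer_singleton'.2 h14), ?_⟩))
  rw [← cj_eq_smul]
  refine cj_mono x (h9.trans h12.ge) ?_
  rw [cj_centralizer_singleton]
  exact mem_centralizer_singleton'.2 h15

end Cfsg.Agent.S2485
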