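import Cfsg.Statements.S2487
import Cfsg.Agent.Lib.Chev.BC2

set_option autoImplicit false
open scoped Pointwise
open Cfsg

namespace Cfsg.Agent.S2487

open Cfsg.Agent.Classical

/-- Let m ≥ 4 and let G be the full isometry group of the hyperbolic quadratic form x₁y₁ + ⋯ + x_m y_m on the 2m-dimensional space over the field with 2 elements (the orthogonal group O⁺(2m,2), which contains Ω⁺(2m,2) with index 2). Then any two Sylow 2-subgroups of G have a non-trivial intersection: for a Sylow 2-subgroup H and every x ∈ G, H ∩ H^x ≠ 1. -/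
theorem result {F : Type*} [Field F] [Fintype F] (hF : Fintype.card F = 2) {m : ℕ} (hm : 4 ≤ m)
    (H : Sylow 2 (Cfsg.isometryGroup F (Cfsg.quadFormPlus m F)))
    (x : Cfsg.isometryGroup F (Cfsg.quadFormPlus m F)) :
    (H : Subgroup (Cfsg.isometryGroup F (Cfsg.quadFormPlus m F))) ⊓ MulAut.conj x • (H : Subgroup _) ≠ ⊥ := by
  obtain ⟨n, rfl⟩ : ∃ k, m = k + 1 := ⟨m - 1, by omega⟩
  have : CharP F 2 := charP_of_card_eq_prime_pow (f := 1) (by simpa using hF)
  have X := Chev.Cl.frameP n F
  have hG := (X.qa (by omega) (by omega) (by omega)).S_Gx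
  obtain ⟨ψ, h1, h2, -⟩ := X.exists_spin (by omega) (by omega) (by omega)
  have h4 := (X.exists_pomega (by omega) (by omega) (by omega) (.inl (by omega))).2
  let e : commutator (plusForm (n + 1) F).Isom ≃* (plusForm (n + 1) F).E :=
    { toFun g := ⟨g.1.1, h4.le (mem_commutator_subtype.1 g.2)⟩
      invFun g := ⟨⟨g.1, (plusForm (n + 1) F).E_le g.2⟩, mem_commutator_subtype.2 (h4.ge g.2)⟩
      left_inv _ := rfl
      right_inv _ := rfl
      map_mul' _ _ := rfl }
  have h5 : ∀ c : Fˣ, c = 1 := fun c => by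
    classical
    have : Subsingleton Fˣ := Fintype.card_le_one_iff_subsingleton.1 (by rw [Fintype.card_units, hF])
    exact Subsingleton.elim _ _
  exact Chev.St.syl_inf h5 ((index_commutator_congr (orthEquiv (plusForm (n + 1) F))).trans
    ((Form.good_of_finrank (plusForm_nondeg _) (by simp; omega)).index_commutator_of_two (plusForm_nondeg _) CharTwo.two_eq_zero (by simp)))
    (Chev.St.congr_Gx (Chev.St.ofSurj_Gx hG ψ h1 h2) ((commutatorCongr (orthEquiv (plusForm (n + 1) F))).trans e).symm) H x

end Cfsg.Agent.S2487
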