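import Cfsg.Statements.S2488
import Mathlib
import Cfsg.Agent.Lib.Perm.A6c

set_option autoImplicit false
open scoped Pointwise
open Cfsg

namespace Cfsg.Agent.S2488

open Equiv Equiv.Perm Subgroup

/-- Let G be a finite group with a normal subgroup N of index 4 isomorphic to the alternating group of degree 6 and with trivial centralizer in G (so G is the full automorphism group of A₆). Then any two Sylow 2-subgroups of G have a non-trivial intersection: for a Sylow 2-subgroup H and every x ∈ G, H ∩ H^x ≠ 1. -/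
theorem result {G : Type*} [Group G] [Finite G] (N : Subgroup G) [N.Normal]
    (e : N ≃* alternatingGroup (Fin 6)) (hidx : N.index = 4)
    (hC : Subgroup.centralizer (N : Set G) = ⊥)
    (H : Sylow 2 G) (x : G) :
    (H : Subgroup G) ⊓ MulAut.conj x • (H : Subgroup G) ≠ ⊥ := by
  have cN : Nat.card N = 360 := by rw [Nat.card_congr e.toEquiv, nat_card_alternatingGroup]; simp [Nat.factorial]
  have cG : Nat.card G = 1440 := by rw [← N.index_mul_card, hidx, cN]
  have cH : Nat.card H = 32 := by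
    rw [H.card_eq_multiplicity, cG, Nat.factorization_def _ Nat.prime_two, show 1440 = 2 ^ 5 * 45 from rfl,
      padicValNat.mul (by norm_num) (by norm_num), padicValNat.prime_pow, padicValNat.eq_zero_of_not_dvd (by norm_num)]
    rfl
  have nb : N.subgroupOf H ≠ ⊥ := fun h => by
    have := (relIndex_dvd_index_of_normal N H)
    rw [relIndex, h, index_bot, cH, hidx] at this
    omega
  obtain ⟨t, t1, t2, t3⟩ : ∃ t : H, t ∈ N.subgroupOf H ⊓ center H ∧ t * t = 1 ∧ t ≠ 1 := by
    haveI : Nontrivial (N.subgroupOf H) := (nontrivial_iff_ne_bot _).2 nb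
    obtain ⟨l, l0, hl⟩ := (H.2.to_subgroup (N.subgroupOf H)).nontrivial_iff_card.1 this
    obtain ⟨b, b1, b2⟩ := (H.2.of_equiv ConjAct.toConjAct).exists_fixed_point_of_prime_dvd_card_of_fixed_point
      (N.subgroupOf H) (hl ▸ dvd_pow_self 2 l0.ne') (a := 1) fun g => smul_one g
    have : N.subgroupOf H ⊓ center H ≠ ⊥ := fun h => b2 (Subtype.ext (mem_bot.1 (h ▸ ⟨b.2, mem_center_iff.2 fun g =>
      mul_inv_eq_iff_eq_mul.1 (congrArg Subtype.val (b1 (ConjAct.toConjAct g)))⟩)).symm)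
    obtain ⟨k, hk⟩ := IsPGroup.iff_card.1 (H.2.to_subgroup (N.subgroupOf H ⊓ center H))
    obtain ⟨t, ht⟩ := exists_prime_orderOf_dvd_card' (G := ↥(N.subgroupOf H ⊓ center H)) 2 (by
      rw [hk]; refine dvd_pow_self _ ?_
      rintro rfl
      exact this (card_eq_one.1 hk))
    refine ⟨t, t.2, ?_, fun h => ?_⟩
    · rw [← pow_two]; exact orderOf_dvd_iff_pow_eq_one.1 (by rw [Subgroup.orderOf_coe, ht])
    · rw [← Subgroup.orderOf_coe, h, orderOf_one] at ht; omega
  let τ : N := ⟨t, t1.1⟩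
  have m : ∀ (e : N ≃* alternatingGroup (Fin 6)) (s : N), s * s = 1 → (e s).1 * (e s).1 = 1 := fun e s h => by
    rw [← Subgroup.coe_mul, ← map_mul, h, map_one]; rfl
  have n : ∀ (e : N ≃* alternatingGroup (Fin 6)) (s : N), s ≠ 1 → (e s).1 ≠ 1 := fun e s h k =>
    h (e.injective (Subtype.ext (by rw [k, map_one]; rfl)))
  have τ2 : τ * τ = 1 := Subtype.ext (congrArg Subtype.val t2 :)
  have τ1 : τ ≠ 1 := fun h => t3 (Subtype.ext (congrArg Subtype.val h :))
  obtain ⟨e, he⟩ : ∃ e : N ≃* alternatingGroup (Fin 6), (e τ).1 = swap 0 1 * swap 2 3 := by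
    obtain ⟨g, hg⟩ := Perm.A6c.c0 _ (m e _ τ2) (n e _ τ1) (e τ).2
    exact ⟨e.trans (MulAut.conjNormal g), mul_inv_eq_iff_eq_mul.2 hg⟩
  obtain ⟨a1, a2, a3⟩ := Perm.A6c.c8 _ he
  have hH : (H : Subgroup G) = centralizer {t.1} := by
    refine eq_of_le_of_card_ge (fun h hh => mem_centralizer_singleton_iff.2
      (congrArg Subtype.val (mem_center_iff.1 t1.2 ⟨h, hh⟩))) ?_
    have b1 : Nat.card (N.subgroupOf (centralizer {t.1})) ≤ 8 := by
      rw [← a1, ← Nat.card_eq_fintype_card]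
      refine Nat.card_le_card_of_injective (fun g => ⟨e ⟨g.1.1, g.2⟩, by
        rw [← Subgroup.coe_mul, ← Subgroup.coe_mul, ← map_mul, ← map_mul]
        exact congrArg (fun y => (e y).1) (Subtype.ext (mem_centralizer_singleton_iff.1 g.1.2)), (e _).2⟩)
        fun a b h => Subtype.ext (Subtype.ext (Subtype.mk.inj (e.injective (Subtype.ext (Subtype.mk.inj h)))))
    have b2 := Nat.le_of_dvd (by omega) (relIndex_dvd_index_of_normal N (centralizer {t.1}))
    rw [← (N.subgroupOf (centralizer {t.1})).index_mul_card, cH]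
    exact Nat.mul_le_mul (b2.trans_eq hidx) b1
  intro h
  let c : G → N := fun g => ⟨g * t * g⁻¹, ‹N.Normal›.conj_mem _ t1.1 g⟩
  have c2 : ∀ g, c g * c g = 1 := fun g => Subtype.ext (by
    change g * t * g⁻¹ * (g * t * g⁻¹) = 1
    rw [conj_mul, show t.1 * t.1 = 1 from congrArg Subtype.val t2]; group)
  have c1 : ∀ g, c g ≠ 1 := fun g k => t3 (Subtype.ext (conj_eq_one_iff.1 (congrArg Subtype.val k)))
  have inj : ∀ a b : H, (e (c (a * x))).1 = (e (c (b * x))).1 → a = b := fun a b k => by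
    have k := Subtype.mk.inj (e.injective (Subtype.ext k))
    have : b.1⁻¹ * a ∈ (H : Subgroup G) ⊓ MulAut.conj x • (H : Subgroup G) := mem_inf.2 ⟨mul_mem (inv_mem b.2) a.2, by
      rw [mem_pointwise_smul_iff_inv_smul_mem, hH, mem_centralizer_singleton_iff]
      change x⁻¹ * (b.1⁻¹ * a) * x * t = t * (x⁻¹ * (b.1⁻¹ * a) * x)
      calc _ = (b * x)⁻¹ * (a * x * t * (a * x)⁻¹) * (a * x) := by group
        _ = _ := by rw [k]; group⟩
    rw [h, mem_bot, inv_mul_eq_one] at this
    exact Subtype.ext this.symm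
  have iv : ∀ a : H, (e τ).1 * (e (c (a * x))).1 * ((e τ).1 * (e (c (a * x))).1) * ((e τ).1 * (e (c (a * x))).1) *
      ((e τ).1 * (e (c (a * x))).1) * ((e τ).1 * (e (c (a * x))).1) = 1 ↔ (t.1 * (x * t * x⁻¹)) ^ 5 = 1 := fun a => by
    have : (t.1 * (a * x * t * (a * x)⁻¹)) = a * (t * (x * t * x⁻¹)) * a⁻¹ := by
      rw [← mul_assoc a.1, show a.1 * t = t * a from congrArg Subtype.val (mem_center_iff.1 t1.2 a)]
      simp [mul_assoc]
    rw [← conj_eq_one_iff (a := a.1), ← conj_pow, ← InvMemClass.coe_inv, ← this]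
    simp only [← Subgroup.coe_mul, ← map_mul, OneMemClass.coe_eq_one, EmbeddingLike.map_eq_one_iff]
    simp only [Subtype.ext_iff, pow_succ, pow_zero, one_mul]
    rfl
  rw [← cH, ← Nat.card_eq_fintype_card] at a2 a3
  by_cases k : (t.1 * (x * t * x⁻¹)) ^ 5 = 1
  · exact a2.not_ge (Nat.card_le_card_of_injective (fun a => ⟨_, m e _ (c2 _), n e _ (c1 _), (e (c (a * x))).2, (iv a).2 k⟩)
      fun a b h => inj a b (Subtype.mk.inj h))
  · exact a3.not_ge (Nat.card_le_card_of_injective (fun a => ⟨_, m e _ (c2 _), n e _ (c1 _), (e (c (a * x))).2,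
      mt (iv a).1 k⟩) fun a b h => inj a b (Subtype.mk.inj h))

end Cfsg.Agent.S2488
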