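import Cfsg.Statements.S2490
import Cfsg.Agent.Lib.Block.M12h

set_option autoImplicit false
open Cfsg

namespace Cfsg.Agent.S2490

open Cfsg.Agent.Blk
open Cfsg.Agent.Char hiding cj cj_mul cj_inv_cj cj_cj_inv

/-- Let G be a finite group of order 7920 = 2⁴·3²·5·11 (the order of the smallest Mathieu group) and suppose its prime graph (vertices the prime divisors of the order, distinct p, q joined when there is an element of order pq) is disconnected: the prime divisors split into two non-empty parts with no element of order pq for p in one part and q in the other. Then G is simple. -/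
theorem result {G : Type*} [Group G] [Finite G] (hord : Nat.card G = 7920)
    (hdisc : (∃ A : Set ℕ, (∃ a ∈ A, a.Prime ∧ a ∣ Nat.card G) ∧ (∃ b ∉ A, b.Prime ∧ b ∣ Nat.card G) ∧
      ∀ a ∈ A, ∀ b ∉ A, a.Prime → b.Prime → a ∣ Nat.card G → b ∣ Nat.card G → ¬ ∃ g : G, orderOf g = a * b)) :
    IsSimpleGroup G := by
  obtain ⟨A, ⟨a, a1, a2, a3⟩, ⟨b, b1, b2, b3⟩, h⟩ := hdisc
  have E : ∀ (p q : ℕ) (u : G), p.Prime → q.Prime → orderOf u = p → q ∣ Nat.card (Ce1 u) →
      (p ∈ A ↔ q ∈ A) := fun p q u hp hq hu k => by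
    by_cases e : p = q
    · rw [e]
    have := Fact.mk hq
    obtain ⟨s, s1, s2⟩ := exists_ord_Ce1 k
    have o := s2.orderOf_mul_eq_mul_orderOf_of_coprime
      (by rw [hu, s1]; exact (Nat.coprime_primes hp hq).2 e)
    rw [hu, s1] at o
    exact ⟨fun i => by_contra fun j => h p i q j hp hq (hu ▸ orderOf_dvd_natCard u)
      (s1 ▸ orderOf_dvd_natCard s) ⟨_, o⟩, fun i => by_contra fun j => h q i p j hq hp
      (s1 ▸ orderOf_dvd_natCard s) (hu ▸ orderOf_dvd_natCard u) ⟨_, o.trans (mul_comm _ _)⟩⟩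
  have F : (11 ∈ A ↔ 2 ∈ A) → (11 ∈ A ↔ 3 ∈ A) → ¬ (5 ∈ A ↔ 3 ∈ A) := fun e1 e2 e3 => by
    have : ∀ p : ℕ, p.Prime → p ∣ Nat.card G → (p ∈ A ↔ 11 ∈ A) := fun p hp k => by
      have := Nat.le_of_dvd (by norm_num) ((hp.dvd_of_dvd_pow (n := 4)
        (k.trans (by rw [hord]; norm_num : _ ∣ 330 ^ 4))))
      have : p ∈ Nat.primeFactors 7920 := Nat.mem_primeFactors.2 ⟨hp, hord ▸ k, by norm_num⟩
      rw [show Nat.primeFactors 7920 = {2, 3, 5, 11} by decide +kernel] at this
      simp only [Finset.mem_insert, Finset.mem_singleton] at this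
      rcases this with rfl | rfl | rfl | rfl <;> tauto
    exact b1 ((this b b2 b3).2 ((this a a2 a3).1 a1))
  obtain ⟨x, hx⟩ := exists_S1 (G := G) (p := 11) (by norm_num) (by rw [hord]; norm_num)
    (by rw [hord]; norm_num)
  obtain ⟨y, hy⟩ := exists_S1 (G := G) (p := 5) (by norm_num) (by rw [hord]; norm_num)
    (by rw [hord]; norm_num)
  obtain ⟨K, _, xK, hK⟩ := M12.Dv.exists_K hx
  have cK : Nat.card K ∣ 7920 := hord ▸ Subgroup.card_subgroup_dvd_card K
  have hx' : S1 11 (⟨x, xK⟩ : K) := ⟨hx.prime, by rw [← Subgroup.orderOf_coe]; exact hx.ord,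
    fun e => hx.3 (e.trans (Subgroup.card_subgroup_dvd_card _))⟩
  have q := M12.Dv.quasi (cK.trans (by norm_num)) hx' hK
  have i1 := K.card_mul_index
  have i2 := (Subgroup.center K).card_mul_index
  have i3 := (No (Subgroup.zpowers x)).card_mul_index
  have i4 := hx.index_modEq
  have c11 : 11 ∣ Nat.card K := hx'.card ▸ Subgroup.card_subgroup_dvd_card _
  obtain ⟨e, e1, e2⟩ := hx.No_eq
  have e3 := Nat.le_of_dvd (by norm_num) e1
  have G6 : 660 ∣ Nat.card (No (Subgroup.zpowers x)) → ¬ (5 ∈ A ↔ 3 ∈ A) := fun k => by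
    rw [e2] at k
    refine F (E 11 2 x hx.prime Nat.prime_two hx.ord ?_) (E 11 3 x hx.prime Nat.prime_three hx.ord ?_)
    all_goals interval_cases e <;> omega
  rw [hord] at i1 i3
  by_cases ab : ∀ a b : K, a * b = b * a
  · have n : (Subgroup.zpowers x).Normal := ⟨fun u hu g => ?_⟩
    swap
    · have l := (cs_mono g (Subgroup.zpowers_le.2 xK)).trans (cs_normal g K).le
      exact (hx.isSyl.of_le (Subgroup.zpowers_le.2 xK) le_top).ge_of_le_No (isPGroup_cs g hx.isSyl.pg) l
        (fun v hv => Ce_le_No _ (mem_Ce.2 fun w hw => congrArg Subtype.val (ab ⟨w, l hw⟩ ⟨v, hv⟩)))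
        (conj_mem_cs.2 hu)
    have t : Nat.card (No (Subgroup.zpowers x)) = 7920 := by
      rw [No, Subgroup.normalizer_eq_top, Subgroup.card_top, hord]
    have g6 := G6 (by rw [t]; norm_num)
    refine (g6 ?_).elim
    by_cases k : 5 ∣ Nat.card (Ce1 x)
    · refine (E 11 5 x hx.prime Nat.prime_five hx.ord k).symm.trans
        (E 11 3 x hx.prime Nat.prime_three hx.ord ?_)
      interval_cases e <;> omega
    by_contra k'
    have := lemL (N := Ce (Subgroup.zpowers x)) Nat.prime_five Nat.prime_three (by rw [hord]; norm_num)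
      (by rwa [Ce_zpowers]) fun a ha k => k' (E 5 3 a Nat.prime_five Nat.prime_three ha k)
    rw [Ce_zpowers, fact_eq (k := 2) (m := Nat.card (Ce1 x) / 9) (by interval_cases e <;> omega)
      (by interval_cases e <;> omega)] at this
    exact absurd this (by decide)
  have j1 : 11 ∣ (Subgroup.center K).index := ((Nat.Prime.dvd_mul hx.prime).1 (i2 ▸ c11)).resolve_left
    fun k => ab fun a b => (Subgroup.mem_center_iff.1 ((hK _ inferInstance k).ge (Subgroup.mem_top b)) a)
  have j2 : (Subgroup.center K).index ≠ 11 := fun k => ab (by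
    have := isCyclic_of_prime_card (α := K ⧸ Subgroup.center K) k
    exact commutative_of_cyclic_center_quotient (QuotientGroup.mk' _) (QuotientGroup.ker_mk' _).le)
  have j0 : (Subgroup.center K).index ≠ 1 := fun k => by simp [k] at j1
  have sim := M12.Dv.quot_simple q j0
  have j3 := (Dvd.intro_left _ i2).trans cK
  have o := M12.Dv.orders (G := K ⧸ Subgroup.center K) (j3.trans (by norm_num)) j1 j2
  change (Subgroup.center K).index = _ ∨ (Subgroup.center K).index = _ ∨
    (Subgroup.center K).index = _ ∨ (Subgroup.center K).index = _ at o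
  have z1 : Nat.card (Subgroup.center K) = 1 := by_contra fun k => by
    obtain ⟨r, r1, r2⟩ := Nat.exists_prime_and_dvd k
    have := Fact.mk r1
    obtain ⟨z, hz⟩ := exists_prime_orderOf_dvd_card' r r2
    have j4 : 660 ∣ Nat.card (Ce1 ((z : K) : G)) := dvd_trans (i2 ▸ Dvd.dvd.mul_left (by omega) _)
      (Subgroup.card_dvd_of_le (show K ≤ _ from fun u hu => mem_Ce1.2
        (congrArg Subtype.val (Subgroup.mem_center_iff.1 z.2 ⟨u, hu⟩))))
    have j5 := fun p hp (k : p ∣ 660) => E r p _ r1 hp (by rw [Subgroup.orderOf_coe, Subgroup.orderOf_coe, hz]) (k.trans j4)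
    exact F ((j5 11 (by norm_num) (by norm_num)).symm.trans (j5 2 (by norm_num) (by norm_num)))
      ((j5 11 (by norm_num) (by norm_num)).symm.trans (j5 3 (by norm_num) (by norm_num)))
      ((j5 5 (by norm_num) (by norm_num)).symm.trans (j5 3 (by norm_num) (by norm_num)))
  rw [z1, one_mul] at i2
  by_cases t : Nat.card K = 7920
  · exact ((MulEquiv.ofBijective K.subtype ((Nat.bijective_iff_injective_and_card _).2
      ⟨K.subtype_injective, t.trans hord.symm⟩)).symm.trans (MulEquiv.ofBijective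
        (QuotientGroup.mk' _) ((Nat.bijective_iff_surjective_and_card _).2
          ⟨QuotientGroup.mk'_surjective _, i2.symm⟩))).isSimpleGroup
  have j6 : 6 ∣ K.index := by
    rcases o with o | o | o | o <;> rw [← i2, o] at i1 t <;> omega
  have f1 := (mul_dvd_mul_right j6 _).trans (hx.frat c11)
  have f2 := (mul_dvd_mul_right j6 _).trans (hy.frat (S := K) (by omega))
  obtain ⟨e', e4, e5⟩ := hy.No_eq
  have e6 := Nat.le_of_dvd (by norm_num) e4
  rw [e5] at f2
  refine (G6 ?_ (E 5 3 y Nat.prime_five Nat.prime_three hy.ord (by interval_cases e' <;> omega))).elim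
  obtain ⟨m, hm⟩ := f1
  have : ∀ n ∈ Nat.divisors 120, n % 11 = 1 % 11 → n = 1 ∨ n = 12 := by decide
  rcases this _ (Nat.mem_divisors.2 ⟨Dvd.intro_left m (by rw [hm] at i3; linarith), by norm_num⟩) i4
    with k | k <;> rw [k] at i3 <;> omega

end Cfsg.Agent.S2490
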