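import Cfsg.Statements.S2504
import Mathlib
import Cfsg.Agent.Lib.Perm.AbS

set_option autoImplicit false
open Cfsg

namespace Cfsg.Agent.S2504

open Cfsg.Agent.Perm.AbS

/-- The largest order of an abelian subgroup of the alternating group of degree n is 3^k when n = 3k, 4·3^(k−1) when n = 3k + 1, and 16·3^(k−2) when n = 3k + 2, for every k ≥ 2 (so for all degrees n ≥ 6). -/
theorem result (k : ℕ) (hk : 2 ≤ k) :
    IsGreatest {c : ℕ | ∃ A : Subgroup (alternatingGroup (Fin (3 * k))), IsMulCommutative A ∧ Nat.card A = c} (3 ^ k) ∧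
    IsGreatest {c : ℕ | ∃ A : Subgroup (alternatingGroup (Fin (3 * k + 1))), IsMulCommutative A ∧ Nat.card A = c}
      (4 * 3 ^ (k - 1)) ∧
    IsGreatest {c : ℕ | ∃ A : Subgroup (alternatingGroup (Fin (3 * k + 2))), IsMulCommutative A ∧ Nat.card A = c}
      (16 * 3 ^ (k - 2)) := by
  obtain ⟨j, rfl⟩ := Nat.exists_eq_add_of_le' hk
  refine ⟨⟨(ex3k True (j + 2)).alt, ?_⟩, ⟨?_, ?_⟩, ⟨?_, ?_⟩⟩
  · rintro _ ⟨A, a, rfl⟩; exact (alt_bound A a).1.trans (f_val (j + 1)).1.le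
  · obtain ⟨A, a, b⟩ := ((ex3k True (j + 1)).add (ex4 True)).alt; exact ⟨A, a, b.trans (mul_comm _ _)⟩
  · rintro _ ⟨A, a, rfl⟩; exact (alt_bound A a).1.trans (f_val (j + 1)).2.1.le
  · obtain ⟨A, a, b⟩ := (((ex3k True j).add (ex4 True)).add (ex4 True)).alt
    exact ⟨A, a, b.trans (by simp only [Nat.add_sub_cancel]; ring)⟩
  · rintro _ ⟨A, a, rfl⟩
    simp only [Nat.add_sub_cancel]
    rcases (alt_bound A a).2 with h | ⟨-, h⟩
    · refine (h.trans (f_val (j + 1)).2.2.2.le).trans ?_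
      rw [pow_succ]; omega
    · have := (f_val j).2.1
      rw [show 3 * (j + 2) + 2 - 4 = 3 * j + 4 by omega, this] at h
      omega

end Cfsg.Agent.S2504
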