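import Cfsg.Statements.S2505
import Mathlib
import Cfsg.Agent.Lib.Perm.AbS

set_option autoImplicit false
open Cfsg

namespace Cfsg.Agent.S2505

open Cfsg.Agent.Perm.AbS

/-- The largest order of an abelian subgroup of the symmetric group of degree n is 3^k when n = 3k, 4·3^(k−1) when n = 3k + 1, and 2·3^k when n = 3k + 2, for every k ≥ 1. -/
theorem result (k : ℕ) (hk : 1 ≤ k) :
    IsGreatest {c : ℕ | ∃ A : Subgroup (Equiv.Perm (Fin (3 * k))), IsMulCommutative A ∧ Nat.card A = c} (3 ^ k) ∧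
    IsGreatest {c : ℕ | ∃ A : Subgroup (Equiv.Perm (Fin (3 * k + 1))), IsMulCommutative A ∧ Nat.card A = c}
      (4 * 3 ^ (k - 1)) ∧
    IsGreatest {c : ℕ | ∃ A : Subgroup (Equiv.Perm (Fin (3 * k + 2))), IsMulCommutative A ∧ Nat.card A = c}
      (2 * 3 ^ k) := by
  obtain ⟨j, rfl⟩ := Nat.exists_eq_add_of_le' hk
  refine ⟨⟨?_, ?_⟩, ⟨?_, ?_⟩, ⟨?_, ?_⟩⟩
  · obtain ⟨A, a, b, -⟩ := ex3k False (j + 1); exact ⟨A, a, b⟩
  · rintro _ ⟨A, a, rfl⟩; exact (le_f A a).trans (f_val j).1.le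
  · obtain ⟨A, a, b, -⟩ := (ex3k False j).add (ex4 False); exact ⟨A, a, b.trans (mul_comm _ _)⟩
  · rintro _ ⟨A, a, rfl⟩; exact (le_f A a).trans (f_val j).2.1.le
  · obtain ⟨A, a, b, -⟩ := (ex3k False (j + 1)).add ex2; exact ⟨A, a, b.trans (mul_comm _ _)⟩
  · rintro _ ⟨A, a, rfl⟩; exact (le_f A a).trans (f_val (j + 1)).2.2.1.le

end Cfsg.Agent.S2505
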