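import Cfsg.Statements.S2507
import Mathlib
import Cfsg.Agent.Lib.Perm.GL2h

set_option autoImplicit false
open Cfsg

namespace Cfsg.Agent.S2507

open Cfsg.Agent.Perm.GL2

/-- Let F be a finite field with q = 2^f ≥ 4 elements. The conjugacy class sizes of PSL(2,F) are exactly 1, q(q − 1), q² − 1 and q(q + 1). -/
theorem result {F : Type*} [Field F] [Fintype F]
    (h2 : 2 ∣ Fintype.card F) (h4 : 4 ≤ Fintype.card F) :
    Set.range (fun g : (Matrix.ProjectiveSpecialLinearGroup (Fin 2) F) => (Subgroup.centralizer ({g} : Set (Matrix.ProjectiveSpecialLinearGroup (Fin 2) F))).index) =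
      {1, Fintype.card F * (Fintype.card F - 1), Fintype.card F ^ 2 - 1, Fintype.card F * (Fintype.card F + 1)} := by
  have h0 := two_eq_zero_of_even h2
  have hi : ∀ g : SL2 F, (cent (toP g)).index = (cent g).index := fun g => by
    rw [index_cent_toP, comap_cent_of_ne (Or.inl h0)]
  have hJ : ∀ g : SL2 F, IsJord (g : M2 F) → (cent g).index = Fintype.card F ^ 2 - 1 :=
    fun g hg => index_eq_of_card hg.card_cent_SL (by
      rw [center_SL_even h0, Subgroup.card_bot, sq_sub_one_eq]; ring)
  have hE : ∀ g : SL2 F, IsEll (g : M2 F) →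
      (cent g).index = Fintype.card F * (Fintype.card F - 1) :=
    fun g hg => index_eq_of_card hg.card_cent_SL (by ring)
  have hD : ∀ g : SL2 F, IsDiag (g : M2 F) →
      (cent g).index = Fintype.card F * (Fintype.card F + 1) :=
    fun g hg => index_eq_of_card hg.card_cent_SL (by ring)
  ext n
  constructor
  · rintro ⟨x, rfl⟩
    obtain ⟨g, rfl⟩ := toP_surjective x
    rcases classify_SL g with h | h | ⟨h, h1, h3⟩ | ⟨h, h1, h3⟩
    · simp [toP_eq_one.2 h]
    · exact Or.inr (Or.inl ((hi g).trans (hE g h)))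
    · exact Or.inr (Or.inr (Or.inl (((hi g).trans (index_cent_of_isConj h1)).trans (hJ h h3))))
    · exact Or.inr (Or.inr (Or.inr (((hi g).trans (index_cent_of_isConj h1)).trans (hD h h3))))
  · rintro (rfl | rfl | rfl | rfl)
    · exact ⟨1, by simp⟩
    · obtain ⟨g, hg, -⟩ := exists_reg_add (F := F)
      exact ⟨toP g, (hi g).trans (hE g hg)⟩
    · exact ⟨toP (upS 1 1), (hi _).trans (hJ _ (isJord_u one_ne_zero))⟩
    · obtain ⟨g, hg, -⟩ := exists_reg_sub h4
      exact ⟨toP g, (hi g).trans (hD g hg)⟩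

end Cfsg.Agent.S2507
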