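import Cfsg.Statements.S2508
import Mathlib
import Cfsg.Agent.Lib.Perm.GL2h

set_option autoImplicit false
open Cfsg

namespace Cfsg.Agent.S2508

open Cfsg.Agent.Perm.GL2

theorem main {F : Type*} [Field F] [Fintype F] (hodd : Odd (Fintype.card F))
    (h7 : 7 ≤ Fintype.card F) (m : ℕ)
    (hm : ∀ g : SL2 F, (g : M2 F).trace = 0 → m * (2 * Nat.card (cent g)) =
      Fintype.card F * (Fintype.card F + 1) * (Fintype.card F - 1)) :
    Set.range (fun g : PSL2 F => (cent g).index) = {1, (Fintype.card F ^ 2 - 1) / 2, m,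
      Fintype.card F * (Fintype.card F - 1), Fintype.card F * (Fintype.card F + 1)} := by
  have h0 := two_ne_zero_of_odd hodd
  have hi : ∀ g : SL2 F, (g : M2 F).trace ≠ 0 → (cent (toP g)).index = (cent g).index :=
    fun g hg => by rw [index_cent_toP, comap_cent_of_ne (Or.inr hg)]
  have hT : ∀ g : SL2 F, (g : M2 F).trace = 0 → (cent (toP g)).index = m := fun g hg => by
    rw [index_cent_toP, comap_cent_of_trace h0 hg]
    exact index_eq_of_card (isReg_of_trace h0 hg).card_normalizer (hm g hg)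
  have hJ : ∀ g : SL2 F, IsJord (g : M2 F) → (cent g).index = (Fintype.card F ^ 2 - 1) / 2 :=
    fun g hg => index_eq_of_card hg.card_cent_SL (by
      rw [card_center_SL_odd h0, sq_sub_one_eq]
      obtain ⟨k, hk⟩ := hodd
      rw [hk, show (2 * k + 1 + 1) * (2 * k + 1 - 1) = 2 * ((k + 1) * (2 * k)) by
        rw [Nat.add_sub_cancel]; ring, Nat.mul_div_cancel_left _ two_pos, Nat.add_sub_cancel]
      ring)
  have hE : ∀ g : SL2 F, IsEll (g : M2 F) →
      (cent g).index = Fintype.card F * (Fintype.card F - 1) :=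
    fun g hg => index_eq_of_card hg.card_cent_SL (by ring)
  have hD : ∀ g : SL2 F, IsDiag (g : M2 F) →
      (cent g).index = Fintype.card F * (Fintype.card F + 1) :=
    fun g hg => index_eq_of_card hg.card_cent_SL (by ring)
  ext n
  constructor
  · rintro ⟨x, rfl⟩
    obtain ⟨g, rfl⟩ := toP_surjective x
    by_cases ht : (g : M2 F).trace = 0
    · exact Or.inr (Or.inr (Or.inl (hT g ht)))
    rcases classify_SL g with h | h | ⟨h, h1, h3⟩ | ⟨h, h1, h3⟩
    · simp [toP_eq_one.2 h]
    · exact Or.inr (Or.inr (Or.inr (Or.inl ((hi g ht).trans (hE g h)))))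
    · exact Or.inr (Or.inl (((hi g ht).trans (index_cent_of_isConj h1)).trans (hJ h h3)))
    · exact Or.inr (Or.inr (Or.inr (Or.inr (((hi g ht).trans (index_cent_of_isConj h1)).trans
        (hD h h3)))))
  · rintro (rfl | rfl | rfl | rfl | rfl)
    · exact ⟨1, by simp⟩
    · exact ⟨toP (upS 1 1), (hi _ ((isJord_u one_ne_zero).trace_ne.resolve_left h0)).trans
        (hJ _ (isJord_u one_ne_zero))⟩
    · obtain ⟨g, hg⟩ := exists_trace_zero (F := F)
      exact ⟨toP g, hT g hg⟩
    · obtain ⟨g, hg, h⟩ := exists_reg_add (F := F)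
      exact ⟨toP g, (hi g fun h' => by rw [orderOf_eq_four h0 h'] at h; omega).trans (hE g hg)⟩
    · obtain ⟨g, hg, h⟩ := exists_reg_sub (F := F) (by omega)
      exact ⟨toP g, (hi g fun h' => by rw [orderOf_eq_four h0 h'] at h; omega).trans (hD g hg)⟩

/-- Let F be a finite field with q elements, q odd and q ≥ 7. If q ≡ 1 (mod 4) the conjugacy class sizes of PSL(2,F) are exactly 1, (q² − 1)/2, q(q + 1)/2, q(q − 1) and q(q + 1); if q ≡ 3 (mod 4) they are exactly 1, (q² − 1)/2, q(q − 1)/2, q(q + 1) and q(q − 1). -/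
theorem result {F : Type*} [Field F] [Fintype F]
    (hodd : ¬ 2 ∣ Fintype.card F) (h7 : 7 ≤ Fintype.card F) :
    (Fintype.card F % 4 = 1 →
      Set.range (fun g : (Matrix.ProjectiveSpecialLinearGroup (Fin 2) F) => (Subgroup.centralizer ({g} : Set (Matrix.ProjectiveSpecialLinearGroup (Fin 2) F))).index) =
        {1, (Fintype.card F ^ 2 - 1) / 2, Fintype.card F * (Fintype.card F + 1) / 2,
          Fintype.card F * (Fintype.card F - 1), Fintype.card F * (Fintype.card F + 1)}) ∧
    (Fintype.card F % 4 = 3 →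
      Set.range (fun g : (Matrix.ProjectiveSpecialLinearGroup (Fin 2) F) => (Subgroup.centralizer ({g} : Set (Matrix.ProjectiveSpecialLinearGroup (Fin 2) F))).index) =
        {1, (Fintype.card F ^ 2 - 1) / 2, Fintype.card F * (Fintype.card F - 1) / 2,
          Fintype.card F * (Fintype.card F + 1), Fintype.card F * (Fintype.card F - 1)}) := by
  have hodd' : Odd (Fintype.card F) := by rw [Nat.odd_iff]; omega
  have h0 := two_ne_zero_of_odd hodd'
  have h4 : ∀ g : SL2 F, (g : M2 F).trace = 0 → 4 ∣ Nat.card (cent g) := fun g hg =>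
    orderOf_eq_four h0 hg ▸ Subgroup.orderOf_dvd_natCard _ (mem_cent.2 rfl)
  refine ⟨fun h => main hodd' h7 _ fun g hg => ?_, fun h => (main hodd' h7
    (Fintype.card F * (Fintype.card F - 1) / 2) fun g hg => ?_).trans ?_⟩
  · have := h4 g hg
    rw [(isReg_of_trace h0 hg).card_cent.resolve_left fun h' => by omega, ← mul_assoc,
      Nat.div_mul_cancel (Dvd.dvd.mul_left (by omega) _)]
  · have := h4 g hg
    rw [(isReg_of_trace h0 hg).card_cent.resolve_right fun h' => by omega, ← mul_assoc,
      Nat.div_mul_cancel (Dvd.dvd.mul_left (by omega) _)]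
    ring
  · rw [Set.pair_comm]

end Cfsg.Agent.S2508
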