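import Cfsg.Statements.S2513
import Cfsg.Agent.Lib.Classical.Torus
import Cfsg.Agent.S2368

set_option autoImplicit false
open Cfsg

namespace Cfsg.Agent.S2513
open Cfsg.Agent.Classical

open Matrix

theorem main {F : Type*} [Field F] [Fintype F] (hF : Fintype.card F = 2) (n k : ℕ) (hn : 2 ≤ n) (hk : (n + 3) / 2 ≤ k) :
    Set.range (orderOf : (Fin k → ProjectiveSpecialLinearGroup (Fin n) F) → ℕ) =
      {m | m ∣ Monoid.exponent (ProjectiveSpecialLinearGroup (Fin n) F)} := by
  obtain ⟨p, hp⟩ := CharP.exists F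
  obtain ⟨s, hp', hs⟩ := FiniteField.card F p
  haveI : Fact (Nat.Prime 2) := ⟨Nat.prime_two⟩
  obtain rfl : p = 2 := (Nat.prime_dvd_prime_iff_eq hp' Nat.prime_two).1 (by
    rw [← hF, hs]; exact dvd_pow_self _ s.ne_zero)
  have hu : ∀ a : F, a ≠ 0 → a = 1 := fun a ha => by
    simpa [hF] using FiniteField.pow_card_sub_one_eq_one a ha
  have ex : ∀ g : GL (Fin n) F, ∃ x : ProjectiveSpecialLinearGroup (Fin n) F, orderOf x = orderOf g := fun g => by
    let g' : SpecialLinearGroup (Fin n) F := ⟨g.1, hu _ (GeneralLinearGroup.det_ne_zero g)⟩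
    refine ⟨g', ?_⟩
    rw [← orderOf_injective SpecialLinearGroup.toGL SpecialLinearGroup.toGL_injective g' |>.symm.trans
      (congrArg orderOf (show SpecialLinearGroup.toGL g' = g from Units.ext rfl))]
    refine orderOf_injective (QuotientGroup.mk' _) ((injective_iff_map_eq_one _).2 fun a ha => ?_) g'
    obtain ⟨r, hr, e⟩ := Matrix.SpecialLinearGroup.mem_center_iff.1 ((QuotientGroup.eq_one_iff a).1 ha)
    have : r = 1 := hu r fun h => by
      rw [h, zero_pow (by simp; omega)] at hr; exact zero_ne_one hr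
    exact Subtype.ext (by rw [← e, this, map_one]; rfl)
  obtain ⟨J, ⟨t, ht⟩, hJ⟩ := (S2368.result (F := F) 2 n (by omega)).2
  obtain ⟨J', hJ'⟩ := ex J
  have ex2 : ∀ j : ℕ, ∃ x : ProjectiveSpecialLinearGroup (Fin n) F, j < n → orderOf x = 2 ^ (n - j) - 1 := fun j => by
    by_cases h : j < n
    · obtain ⟨g, hg⟩ := Torus.exists_order (F := F) (i := n - j) (n := n) (by omega) (by omega)
      obtain ⟨x, hx⟩ := ex g
      exact ⟨x, fun _ => by rw [hx, hg, hF]⟩
    · exact ⟨1, fun h' => absurd h' h⟩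
  choose x hx using ex2
  let y : Fin k → ProjectiveSpecialLinearGroup (Fin n) F := fun j => if j.val = 0 then J' else x (j - 1)
  have hy : ∀ j, orderOf (y j) ∣ orderOf y := fun j =>
    orderOf_dvd_of_pow_eq_one (congrFun (pow_orderOf_eq_one y) j)
  obtain ⟨M, hM⟩ : 2 ^ t ∣ orderOf y := by
    simpa [y, hJ', ht] using hy ⟨0, by omega⟩
  have h1 : Monoid.exponent (ProjectiveSpecialLinearGroup (Fin n) F) ∣ orderOf y := by
    refine Monoid.exponent_dvd_of_forall_pow_eq_one fun g => ?_
    obtain ⟨g, rfl⟩ := QuotientGroup.mk_surjective g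
    rw [← QuotientGroup.mk_pow, show g ^ orderOf y = 1 from Subtype.ext ?_]; · rfl
    show g.1 ^ _ = 1
    rw [hM, mul_comm]
    refine Torus.pow_eq_one (by rw [g.2]; exact one_ne_zero) (fun i h1 h2 => ?_) (by rw [← ht]; simpa using hJ)
    rw [Fintype.card_fin] at h2
    have a1 := Nat.div_add_mod n i
    have a2 := Nat.mod_lt n h1
    have a3 : i ≤ i * (n / i) := Nat.le_mul_of_pos_right _ (Nat.div_pos h2 h1)
    have a4 := hy ⟨n % i + 1, by omega⟩
    simp only [y, Nat.add_eq_zero_iff, one_ne_zero, and_false, if_false, Nat.add_sub_cancel] at a4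
    rw [hx _ (by omega), show n - n % i = i * (n / i) by omega, hM] at a4
    rw [hF]
    refine Nat.Coprime.dvd_of_dvd_mul_left (Nat.Coprime.pow_right _ ?_)
      ((Nat.pow_sub_one_dvd_pow_sub_one _ (dvd_mul_right _ _)).trans a4)
    obtain ⟨i, rfl⟩ : ∃ j, i = j + 1 := ⟨i - 1, by omega⟩
    have := Nat.one_le_two_pow (n := i)
    rw [Nat.coprime_two_right, Nat.odd_iff, pow_succ]; omega
  ext m
  refine ⟨?_, fun h => ⟨_, orderOf_pow_orderOf_div (orderOf_pos y).ne' (h.trans h1)⟩⟩
  rintro ⟨z, rfl⟩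
  exact orderOf_dvd_of_pow_eq_one (funext fun j => Monoid.pow_exponent_eq_one (z j))


/-- Let F be the field with two elements, n ≥ 2, L = PSL(n, F) and k₀ = ⌊(n + 3)/2⌋. Then for every k ≥ k₀ the direct product of k copies of L has the same set of element orders as the direct product of k₀ copies of L. -/
theorem result {F : Type*} [Field F] [Fintype F] (hF : Fintype.card F = 2) (n k : ℕ) (hn : 2 ≤ n) (hk : (n + 3) / 2 ≤ k) :
    Set.range (orderOf : (Fin k → Matrix.ProjectiveSpecialLinearGroup (Fin n) F) → ℕ) = Set.range (orderOf : (Fin ((n + 3) / 2) → Matrix.ProjectiveSpecialLinearGroup (Fin n) F) → ℕ) := by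
  rw [main hF n k hn hk, main hF n _ hn le_rfl]

end Cfsg.Agent.S2513
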