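import Cfsg.Statements.S2514
import Mathlib
import Cfsg.Agent.Lib.Perm.Spec

set_option autoImplicit false
open Cfsg

namespace Cfsg.Agent.S2514

open Cfsg.Agent.Perm

theorem exists_max {G : Type*} [Group G] [Finite G] (x : G) : ∃ y : G, orderOf x ∣ orderOf y ∧
    ∀ m ∈ Set.range (orderOf : G → ℕ), orderOf y ∣ m → m = orderOf y := by
  obtain ⟨y, hy, h⟩ := Set.exists_max_image {y : G | orderOf x ∣ orderOf y} orderOf
    (Set.toFinite _) ⟨x, dvd_rfl⟩
  refine ⟨y, hy, ?_⟩
  rintro _ ⟨z, rfl⟩ hz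
  exact le_antisymm (h z (dvd_trans hy hz)) (Nat.le_of_dvd (orderOf_pos z) hz)

theorem dvd_of_forall {G : Type*} [Group G] {k n : ℕ} (x : Fin k → G)
    (h : ∀ i, orderOf (x i) ∣ n) : orderOf x ∣ n := by
  rw [orderOf_dvd_iff_pow_eq_one]
  funext i
  exact orderOf_dvd_iff_pow_eq_one.1 (h i)

theorem comp_dvd {G : Type*} [Group G] {k : ℕ} (x : Fin k → G) (i : Fin k) :
    orderOf (x i) ∣ orderOf x := orderOf_map_dvd (Pi.evalMonoidHom (fun _ => G) i) x

/-- For a finite group X write μ(X) for the set of element orders of X that are maximal under divisibility. Let G and H be finite groups and k ≥ 1 such that μ(H) ⊆ μ(G) and μ(G) has fewer than k elements outside μ(H). Then the direct product of k copies of G has the same set of element orders as the direct product of k − 1 copies of G with H. -/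
theorem result {G H : Type*} [Group G] [Finite G] [Group H] [Finite H] (k : ℕ) (hk : 1 ≤ k)
    (hsub : {n : ℕ | n ∈ Set.range (orderOf : H → ℕ) ∧ ∀ m ∈ Set.range (orderOf : H → ℕ), n ∣ m → m = n} ⊆ {n : ℕ | n ∈ Set.range (orderOf : G → ℕ) ∧ ∀ m ∈ Set.range (orderOf : G → ℕ), n ∣ m → m = n})
    (hfew : ({n : ℕ | n ∈ Set.range (orderOf : G → ℕ) ∧ ∀ m ∈ Set.range (orderOf : G → ℕ), n ∣ m → m = n} \ {n : ℕ | n ∈ Set.range (orderOf : H → ℕ) ∧ ∀ m ∈ Set.range (orderOf : H → ℕ), n ∣ m → m = n}).ncard < k) :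
    Set.range (orderOf : (Fin k → G) → ℕ) = Set.range (orderOf : (Fin (k - 1) → G) × H → ℕ) := by
  obtain ⟨k, rfl⟩ : ∃ j, k = j + 1 := ⟨k - 1, by omega⟩
  show Set.range (orderOf : (Fin (k + 1) → G) → ℕ) = Set.range (orderOf : (Fin k → G) × H → ℕ)
  apply Set.Subset.antisymm
  · rintro _ ⟨x, rfl⟩
    choose y hy1 hy2 using fun i => exists_max (x i)
    have key : ∀ (i : Fin (k + 1)) (h : H) (l : Fin (k + 1)), l ≠ i →
        orderOf (y l) ∣ orderOf ((fun j => y (i.succAbove j), h) : (Fin k → G) × H) := by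
      intro i h l hl
      obtain ⟨j, rfl⟩ := Fin.exists_succAbove_eq hl
      rw [Prod.orderOf]
      exact (comp_dvd (fun j => y (i.succAbove j)) j).trans (Nat.dvd_lcm_left _ _)
    by_cases hc : ∃ i, orderOf (y i) ∈ Set.range (orderOf : H → ℕ)
    · obtain ⟨i, h, hh⟩ := hc
      refine spec_dvd ⟨(fun j => y (i.succAbove j), h), rfl⟩ (dvd_of_forall x fun l => ?_)
      refine (hy1 l).trans ?_
      by_cases hl : l = i
      · rw [hl, ← hh, Prod.orderOf]
        exact Nat.dvd_lcm_right _ _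
      · exact key i h l hl
    · push Not at hc
      set S := ({n : ℕ | n ∈ Set.range (orderOf : G → ℕ) ∧ ∀ m ∈ Set.range (orderOf : G → ℕ), n ∣ m → m = n} \ {n : ℕ | n ∈ Set.range (orderOf : H → ℕ) ∧ ∀ m ∈ Set.range (orderOf : H → ℕ), n ∣ m → m = n}) with hS
      have hfin : S.Finite := (Set.finite_range (orderOf : G → ℕ)).subset fun n hn => hn.1.1
      have hmem : ∀ i, orderOf (y i) ∈ S := fun i => ⟨⟨⟨_, rfl⟩, hy2 i⟩, fun h => hc i h.1⟩
      haveI := hfin.to_subtype
      have : ¬ Function.Injective fun i => (⟨orderOf (y i), hmem i⟩ : S) := by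
        intro hinj
        have := Nat.card_le_card_of_injective _ hinj
        rw [Nat.card_coe_set_eq, Nat.card_eq_fintype_card, Fintype.card_fin] at this
        omega
      obtain ⟨i, j, hij, hne⟩ := Function.not_injective_iff.1 this
      have hij' : orderOf (y i) = orderOf (y j) := congrArg Subtype.val hij
      refine spec_dvd ⟨(fun j => y (i.succAbove j), 1), rfl⟩ (dvd_of_forall x fun l => ?_)
      refine (hy1 l).trans ?_
      by_cases hl : l = i
      · rw [hl, hij']
        exact key i 1 j (Ne.symm hne)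
      · exact key i 1 l hl
  · rintro _ ⟨⟨x, h⟩, rfl⟩
    obtain ⟨h', h1, h2⟩ := exists_max h
    obtain ⟨⟨g, hg⟩, -⟩ := hsub (show orderOf h' ∈ _ from ⟨⟨h', rfl⟩, h2⟩)
    refine spec_dvd ⟨Fin.cons g x, rfl⟩ ?_
    rw [Prod.orderOf]
    refine Nat.lcm_dvd (dvd_of_forall x fun i => ?_) ?_
    · exact comp_dvd (Fin.cons g x : Fin (k + 1) → G) i.succ
    · exact h1.trans (hg ▸ comp_dvd (Fin.cons g x : Fin (k + 1) → G) 0)

end Cfsg.Agent.S2514
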