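import Cfsg.Statements.S2516
import Mathlib
import Cfsg.Agent.Lib.Perm.Spec

set_option autoImplicit false
open Cfsg

namespace Cfsg.Agent.S2516

open Cfsg.Agent.Perm

/-- Let F be a field of characteristic p > 0, V a non-zero finite-dimensional F-vector space, G a finite group and ρ a representation of G on V; form the semidirect product V ⋊ G. For g ∈ G of order k, the coset Vg contains an element of order pk if and only if the minimal polynomial of ρ(g) does not divide 1 + X + ⋯ + X^(k−1). -/
theorem result {F : Type*} [Field F] (p : ℕ) [Fact p.Prime] [CharP F p] {V : Type*} [AddCommGroup V] [Module F V] [FiniteDimensional F V] [Nontrivial V]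
    {G : Type*} [Group G] [Finite G] (ρ : Representation F G V) (g : G) :
    (∃ x : Multiplicative V ⋊[(MulAutMultiplicative V).symm.toMonoidHom.comp
        ((DistribMulAction.toAddAut ((V →ₗ[F] V)ˣ) V).comp ρ.asGroupHom)] G,
        x.right = g ∧ orderOf x = p * orderOf g) ↔
      ¬ (minpoly F (ρ g) ∣ ∑ i ∈ Finset.range (orderOf g), (Polynomial.X : Polynomial F) ^ i) := by
  have hp : p.Prime := Fact.out
  have hk : orderOf g ≠ 0 := (orderOf_pos g).ne'
  have key : ∀ x : Multiplicative V ⋊[(MulAutMultiplicative V).symm.toMonoidHom.comp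
        ((DistribMulAction.toAddAut ((V →ₗ[F] V)ˣ) V).comp ρ.asGroupHom)] G, x.right = g →
      orderOf x = orderOf g * orderOf (Multiplicative.ofAdd ((Polynomial.aeval (ρ g)
        (∑ i ∈ Finset.range (orderOf g), (Polynomial.X : Polynomial F) ^ i)) x.left.toAdd)) := by
    intro x hx
    subst hx
    rw [sd_orderOf x hk]
    congr 2
    rw [map_sum, LinearMap.sum_apply, ofAdd_sum]
    refine Finset.prod_congr rfl fun i _ => ?_
    rw [map_pow (Polynomial.aeval (ρ x.right)), Polynomial.aeval_X, ← map_pow]
    rfl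
  have hexp : ∀ v : V, (Multiplicative.ofAdd v) ^ p = 1 := by
    intro v
    rw [← ofAdd_nsmul, ← Nat.cast_smul_eq_nsmul F, CharP.cast_eq_zero, zero_smul, ofAdd_zero]
  rw [minpoly.dvd_iff]
  constructor
  · rintro ⟨x, hx, h⟩ h0
    rw [key x hx, h0, LinearMap.zero_apply, ofAdd_zero, orderOf_one, mul_one] at h
    have := hp.two_le
    have := orderOf_pos g
    nlinarith
  · intro h
    obtain ⟨v, hv⟩ : ∃ v, (Polynomial.aeval (ρ g)
        (∑ i ∈ Finset.range (orderOf g), (Polynomial.X : Polynomial F) ^ i)) v ≠ 0 := by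
      by_contra hc
      push Not at hc
      exact h (LinearMap.ext hc)
    refine ⟨⟨Multiplicative.ofAdd v, g⟩, rfl, ?_⟩
    rw [key _ rfl, mul_comm]
    congr 1
    exact orderOf_eq_prime (hexp _) (fun h0 => hv (ofAdd_eq_one.1 h0))

end Cfsg.Agent.S2516
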