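import Cfsg.Statements.S2518
import Cfsg.Agent.Lib.Classical.Oct11
import Cfsg.Agent.Lib.Perm.GL2b

set_option autoImplicit false
open Cfsg

namespace Cfsg.Agent.S2518
open Cfsg.Agent.Classical

theorem pp {r s p k : ℕ} (hr : r.Prime) (hs : s.Prime) (h : r ≠ s) (hp : p.Prime) (hd : r * s ∣ p ^ k) : False :=
  h (((Nat.prime_dvd_prime_iff_eq hr hp).1 (hr.dvd_of_dvd_pow ((dvd_mul_right r s).trans hd))).trans
    ((Nat.prime_dvd_prime_iff_eq hs hp).1 (hs.dvd_of_dvd_pow ((dvd_mul_left s r).trans hd))).symm)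

theorem six {r s : ℕ} (hr : r.Prime) (hs : s.Prime) (h : r ≠ s) (hd : r * s ∣ 12) : r * s = 6 := by
  have k : ∀ r : ℕ, r.Prime → r ∣ 12 → r = 2 ∨ r = 3 := fun r hr h =>
    ((Nat.Prime.dvd_mul hr).1 (show r ∣ 2 ^ 2 * 3 from h)).imp
      (fun h => (Nat.prime_dvd_prime_iff_eq hr Nat.prime_two).1 (hr.dvd_of_dvd_pow h)) (Nat.prime_dvd_prime_iff_eq hr Nat.prime_three).1
  rcases k r hr ((dvd_mul_right r s).trans hd) with rfl | rfl <;> rcases k s hs ((dvd_mul_left s _).trans hd) with rfl | rfl <;>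
    simp_all

/-- Let F₃ be the field with 3 elements and F₁₃ the field with 13 elements. The Chevalley group G₂(F₃) and PSL(2, F₁₃) have the same prime graph: the same prime divisors of their orders, and for distinct primes r, s an element of order rs in one iff in the other. -/
theorem result {F : Type*} [Field F] [Fintype F] (hF : Fintype.card F = 3) {E : Type*} [Field E] [Fintype E] (hE : Fintype.card E = 13) :
    ((∀ r : ℕ, r.Prime → (r ∣ Nat.card ↥(Cfsg.Lie.chevG2.group F) ↔ r ∣ Nat.card (Matrix.ProjectiveSpecialLinearGroup (Fin 2) E))) ∧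
      (∀ r s : ℕ, r.Prime → s.Prime → r ≠ s → ((∃ x : ↥(Cfsg.Lie.chevG2.group F), orderOf x = r * s) ↔ (∃ y : (Matrix.ProjectiveSpecialLinearGroup (Fin 2) E), orderOf y = r * s)))) := by
  haveI : CharP F 3 := charP_of_card_eq_prime hF
  haveI : Fact (Nat.Prime 13) := ⟨by norm_num⟩
  haveI : CharP E 13 := charP_of_card_eq_prime hE
  obtain ⟨φ⟩ := (Oct.exists_iso hF.ge).1
  have h1 := Perm.GL2.card_PSL2_mul (F := E)
  have h2 := Perm.GL2.spec_PSL2 (F := E) 13
  rw [hE] at h1 h2
  refine ⟨fun r hr => ?_, fun r s hr hs h => ?_⟩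
  · rw [Chev.card_G2 hF, show Nat.card (Matrix.ProjectiveSpecialLinearGroup (Fin 2) E) = 1092 from Nat.eq_of_mul_eq_mul_right two_pos h1]
    exact ⟨fun h => hr.dvd_of_dvd_pow (n := 6) (h.trans (by norm_num)), fun h => h.trans (by norm_num)⟩
  refine Iff.trans (b := r * s = 6) ⟨fun hx => ?_, fun e => ?_⟩ ⟨fun e => h2.ge (by rw [e]; norm_num), fun hx => ?_⟩
  · obtain ⟨g, hg⟩ := (Oct.range_iso φ).le hx
    have k : ∀ n, g ^ n = 1 → r * s ∣ n := fun n h => hg ▸ orderOf_dvd_of_pow_eq_one h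
    have := Oct.UB 3 hF.ge g
    rw [hF] at this
    rcases this with ⟨j, e⟩ | e | e | e | e | e | ⟨e, -⟩
    · exact (pp hr hs h Nat.prime_three (k _ e)).elim
    · exact (pp hr hs h Nat.prime_two (k := 3) (k _ e)).elim
    · exact (pp hr hs h (p := 13) (by norm_num) (k := 1) (k _ e)).elim
    · exact (pp hr hs h (p := 7) (by norm_num) (k := 1) (k _ e)).elim
    · exact six hr hs h ((k _ e).trans (by norm_num))
    · exact six hr hs h (k _ e)
    · omega
  · have := (Oct.ex_ph (F := F) 3).2.2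
    rw [hF] at this
    exact (Oct.range_iso φ).ge (e ▸ this)
  · rcases h2.le hx with e | e | e
    · exact (pp hr hs h (p := 13) (by norm_num) (k := 1) e).elim
    · exact six hr hs h (e.trans (by norm_num))
    · exact (pp hr hs h (p := 7) (by norm_num) (k := 1) e).elim

end Cfsg.Agent.S2518
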