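import Cfsg.Statements.S2519
import Cfsg.Agent.Lib.Classical.Oct11

set_option autoImplicit false
open Cfsg

namespace Cfsg.Agent.S2519
open Cfsg.Agent.Classical

theorem nd {p q : ℕ} (hp : p.Prime) (hq : p ∣ q) (h5 : 5 ≤ q) {x y : ℕ}
    (hx : x ∈ ({p * (q + 1), p * (q - 1), q ^ 2 - 1, q ^ 2 + q + 1, q ^ 2 - q + 1, p ^ 2} : Set ℕ))
    (hy : y ∈ ({p * (q + 1), p * (q - 1), q ^ 2 - 1, q ^ 2 + q + 1, q ^ 2 - q + 1, p ^ 2} : Set ℕ)) (h : x ∣ y) : x = y := by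
  obtain ⟨r, rfl⟩ : ∃ r, q = r + 5 := ⟨q - 5, by omega⟩
  have hpq : p ≤ r + 5 := Nat.le_of_dvd (by omega) hq
  have e1 : (r + 5) ^ 2 - 1 = r ^ 2 + 10 * r + 24 := by rw [show (r + 5) ^ 2 = r ^ 2 + 10 * r + 24 + 1 by ring]; rfl
  have e2 : (r + 5) ^ 2 - (r + 5) + 1 = r ^ 2 + 9 * r + 21 := by
    rw [show (r + 5) ^ 2 = r ^ 2 + 9 * r + 20 + (r + 5) by ring, Nat.add_sub_cancel]
  have e3 : (r + 5) ^ 2 + (r + 5) + 1 = r ^ 2 + 11 * r + 31 := by ring
  have nd : ∀ a b, a = (r + 5) * b + 1 ∨ a + 1 = (r + 5) * b → ¬ p ∣ a := fun a b h k =>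
    hp.one_lt.ne' (Nat.dvd_one.1 (h.elim (fun h => (Nat.dvd_add_right (hq.mul_right b)).1 (h ▸ k))
      fun h => (Nat.dvd_add_right k).1 (h ▸ hq.mul_right b)))
  have n1 := nd (r ^ 2 + 10 * r + 24) (r + 5) (.inr (by ring))
  have n2 := nd (r ^ 2 + 9 * r + 21) (r + 4) (.inl (by ring))
  have n3 := nd (r ^ 2 + 11 * r + 31) (r + 6) (.inl (by ring))
  have n4 := nd (r + 5 + 1) 1 (.inl (by ring))
  have n5 := nd (r + 4) 1 (.inr (by ring))
  have c : ∀ a b, ¬ p ∣ a → a ∣ p * b → 0 < b → a ≤ b := fun a b h1 h2 h3 =>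
    Nat.le_of_dvd h3 (((Nat.Prime.coprime_iff_not_dvd hp).2 h1).symm.dvd_of_dvd_mul_left h2)
  have c2 : ∀ a, ¬ p ∣ a → a ∣ p * p → a ≤ 1 := fun a h1 h2 =>
    c a 1 h1 (by simpa using ((Nat.Prime.coprime_iff_not_dvd hp).2 h1).symm.dvd_of_dvd_mul_left h2) one_pos
  have d : ∀ a b, a ∣ b → a < b → 2 * a ≤ b := fun a b ⟨k, h⟩ h' => by
    subst h; rcases k with _ | _ | k <;> nlinarith
  have p0 := hp.pos
  rw [e1, e2, e3, show r + 5 - 1 = r + 4 from rfl, pow_two p] at hx hy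
  rcases hx with rfl | rfl | rfl | rfl | rfl | rfl <;> rcases hy with rfl | rfl | rfl | rfl | rfl | rfl <;>
    first | rfl | exact absurd ((dvd_mul_right _ _).trans h) ‹_› | (exfalso; have := c2 _ ‹_› h; omega)
          | (exfalso; have := c _ _ ‹_› h (by omega); omega)
          | (exfalso; have := Nat.le_of_dvd (by omega) h; omega)
          | (exfalso; have := d _ _ h (by omega); nlinarith)
          | (exfalso; rw [Nat.mul_dvd_mul_iff_left p0] at h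
             first | exact absurd h ‹_› | (have := Nat.le_of_dvd (by omega) h; omega) | (have := d _ _ h (by omega); omega)
                   | exact n5 (((Nat.dvd_prime hp).1 h).elim (by omega) fun e => e ▸ dvd_rfl))

/-- Let F be a finite field of odd order q = p^a ≥ 5. The element orders of the Chevalley group G₂(F) that are maximal under divisibility are exactly p(q + 1), p(q − 1), q² − 1, q² + q + 1, q² − q + 1, together with p² when p is 3 or 5. -/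
theorem result {F : Type*} [Field F] [Fintype F] (p a : ℕ) (hp : p.Prime) (hp2 : p ≠ 2) (ha : 1 ≤ a) (hF : Fintype.card F = p ^ a) (hq5 : 5 ≤ Fintype.card F) :
    {n : ℕ | n ∈ Set.range (orderOf : ↥(Cfsg.Lie.chevG2.group F) → ℕ) ∧ ∀ m ∈ Set.range (orderOf : ↥(Cfsg.Lie.chevG2.group F) → ℕ), n ∣ m → m = n} =
      ({p * (p ^ a + 1), p * (p ^ a - 1), p ^ (2 * a) - 1, p ^ (2 * a) + p ^ a + 1, p ^ (2 * a) - p ^ a + 1} : Set ℕ) ∪
        (if p = 3 ∨ p = 5 then ({p ^ 2} : Set ℕ) else ∅) := by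
  haveI := Fact.mk hp
  haveI : CharP F p := charP_of_card_eq_prime_pow hF
  have hq : 3 ≤ Fintype.card F := by omega
  have h2 : (2 : F) ≠ 0 := fun h => hp2 ((Nat.prime_dvd_prime_iff_eq hp Nat.prime_two).1 ((CharP.cast_eq_zero_iff F p 2).1 h))
  have hd : p ∣ Fintype.card F := hF ▸ dvd_pow_self p (by omega)
  obtain ⟨φ⟩ := (Oct.exists_iso hq).1
  rw [Oct.range_iso φ, mul_comm 2 a, pow_mul, ← hF]
  obtain ⟨e1, e2, e3⟩ := Oct.ex_ph (F := F) p
  obtain ⟨s, e4, -⟩ := Oct.selfcent hq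
  refine Oct.max_eq ?_ ?_ fun x hx y hy => nd hp hd hq5 ?_ ?_
  · rintro _ ((rfl | rfl | rfl | rfl | rfl) | h)
    exacts [e2, e3, e1, ⟨s, e4⟩, Oct.ex_su hq, by
      split_ifs at h with k
      · obtain rfl := h
        rcases k with rfl | rfl
        exacts [Oct.o9 ▸ Oct.ex_small 3 _, Oct.o25 ▸ Oct.ex_small 5 _]
      · exact h.elim]
  · rintro _ ⟨g, rfl⟩
    rcases Oct.UB p hq g with ⟨k, h⟩ | h | h | h | h | h | ⟨h, -⟩
    · by_cases k : p = 3 ∨ p = 5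
      · exact ⟨p ^ 2, by simp [k], orderOf_dvd_of_pow_eq_one (Oct.unip p h (.inl (by rcases k with rfl | rfl <;> norm_num)))⟩
      · refine ⟨p * (Fintype.card F + 1), by simp, (orderOf_dvd_of_pow_eq_one (Oct.unip p h (j := 1) (.inr ⟨h2, ?_⟩))).trans (by simp)⟩
        rw [pow_one]; by_contra! h7
        interval_cases p <;> simp_all (config := {decide := true})
    any_goals exact ⟨_, by simp, orderOf_dvd_of_pow_eq_one h⟩
    exact absurd h hp2
  · split_ifs at hx <;> simp at hx ⊢ <;> tauto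
  · split_ifs at hy <;> simp at hy ⊢ <;> tauto

end Cfsg.Agent.S2519
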