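import Cfsg.Statements.S2520
import Cfsg.Agent.Lib.Classical.Oct11

set_option autoImplicit false
open Cfsg

namespace Cfsg.Agent.S2520
open Cfsg.Agent.Classical


/-- Let F be a finite field with q = 2^a ≥ 4 elements and G₂(F) the Chevalley group of type G₂ over it. Every element order of G₂(F) maximal under divisibility lies in the set {8, 12, 2(q + 1), 2(q − 1), q² − 1, q² + q + 1, q² − q + 1}, and every member of that set is an element order of G₂(F). -/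
theorem result {F : Type*} [Field F] [Fintype F] (a : ℕ) (ha : 2 ≤ a) (hF : Fintype.card F = 2 ^ a) :
    {n : ℕ | n ∈ Set.range (orderOf : ↥(Cfsg.Lie.chevG2.group F) → ℕ) ∧ ∀ m ∈ Set.range (orderOf : ↥(Cfsg.Lie.chevG2.group F) → ℕ), n ∣ m → m = n} ⊆ ({8, 12, 2 * (2 ^ a + 1), 2 * (2 ^ a - 1), 2 ^ (2 * a) - 1, 2 ^ (2 * a) + 2 ^ a + 1, 2 ^ (2 * a) - 2 ^ a + 1} : Set ℕ) ∧
    ({8, 12, 2 * (2 ^ a + 1), 2 * (2 ^ a - 1), 2 ^ (2 * a) - 1, 2 ^ (2 * a) + 2 ^ a + 1, 2 ^ (2 * a) - 2 ^ a + 1} : Set ℕ) ⊆ Set.range (orderOf : ↥(Cfsg.Lie.chevG2.group F) → ℕ) := by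
  haveI : CharP F 2 := charP_of_card_eq_prime_pow hF
  have hq : 3 ≤ Fintype.card F := hF ▸ le_trans (by norm_num) (Nat.pow_le_pow_right two_pos ha)
  obtain ⟨φ⟩ := (Oct.exists_iso hq).1
  rw [Oct.range_iso φ, mul_comm 2 a, pow_mul, ← hF]
  obtain ⟨e1, e2, e3⟩ := Oct.ex_ph (F := F) 2
  obtain ⟨s, e4, -⟩ := Oct.selfcent hq
  refine And.symm ((fun h1 h2 => ⟨h1, Oct.max_sub h1 h2⟩) ?_ ?_)
  · rintro _ (rfl | rfl | rfl | rfl | rfl | rfl | rfl)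
    exacts [(Oct.ex_small 2 _).imp fun _ h => h.trans Oct.o8, (Oct.ex_small 2 _).imp fun _ h => h.trans Oct.o12, e2, e3, e1, ⟨s, e4⟩, Oct.ex_su hq]
  · rintro _ ⟨g, rfl⟩
    rcases Oct.UB 2 hq g with ⟨k, h⟩ | h | h | h | h | h | ⟨-, h⟩
    · exact ⟨8, by simp, orderOf_dvd_of_pow_eq_one (Oct.unip 2 h (j := 3) (.inl le_rfl))⟩
    all_goals exact ⟨_, by simp, orderOf_dvd_of_pow_eq_one h⟩

end Cfsg.Agent.S2520
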