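import Cfsg.Statements.S2530
import Cfsg.Agent.Lib.Classical.Pres1

set_option autoImplicit false
open Cfsg

namespace Cfsg.Agent.S2530
open Cfsg.Agent.Classical


/-- The Coxeter presentation of the symmetric group: for every n, the symmetric group on n+1 letters is the Coxeter group of type A_n with the adjacent transpositions (i, i+1) as simple reflections; that is, it is presented by generators r_1, …, r_n subject to r_i² = 1, (r_i r_j)² = 1 for |i − j| > 1 and (r_i r_{i+1})³ = 1, with r_i mapping to (i, i+1). -/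
theorem result (n : ℕ) :
    ∃ cs : CoxeterSystem (CoxeterMatrix.A n) (Equiv.Perm (Fin (n + 1))), ∀ i : Fin n, cs.simple i = Equiv.swap i.castSucc i.succ := by
  let M := CoxeterMatrix.A n
  let s : Fin n → Equiv.Perm (Fin (n + 1)) := fun i => Equiv.swap i.castSucc i.succ
  have hs : ∀ i : Fin n, s i = PC.sw n i := fun i => by
    rw [PC.sw, show Fin.ofNat (n + 1) i = i.castSucc from Fin.ext (Nat.mod_eq_of_lt (by omega)),
      show Fin.ofNat (n + 1) (i + 1) = i.succ from Fin.ext (Nat.mod_eq_of_lt (by omega))]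
  have c : PC.CoxA (PC.sw n) n := PC.coxA_swap (PC.ofNat_inj n)
  have cube : ∀ {G : Type} [Group G] {a b : G}, a * a = 1 → b * b = 1 → a * b * a = b * a * b → (a * b) ^ 3 = 1 := by
    intro G _ a b ha hb h
    calc (a * b) ^ 3 = (a * b * a) * (b * a * b) := by simp [pow_succ, mul_assoc]
      _ = b * a * (b * b) * a * b := by rw [h]; simp only [mul_assoc]
      _ = 1 := by rw [hb, mul_one, mul_assoc b, ha, mul_one, hb]
  have sq : ∀ {G : Type} [Group G] {a b : G}, a * a = 1 → b * b = 1 → Commute a b → (a * b) ^ 2 = 1 := by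
    intro G _ a b ha hb h
    rw [h.mul_pow, pow_two, pow_two, ha, hb, one_mul]
  have hl : M.IsLiftable s := fun i j => by
    simp only [hs, M, CoxeterMatrix.A, Matrix.of_apply]
    split_ifs with h1 h2
    · subst h1; simpa using c.sq i i.2
    · rcases h2 with h | h
      · exact cube (c.sq i i.2) (c.sq j j.2) (by rw [← h]; exact (c.br j (by omega)).symm)
      · exact cube (c.sq i i.2) (c.sq j j.2) (by rw [← h]; exact c.br i (by omega))
    · have : (i : ℕ) ≠ j := fun h => h1 (Fin.ext h)
      rcases lt_or_gt_of_ne this with h | h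
      · exact sq (c.sq i i.2) (c.sq j j.2) (c.cm i j (by omega) j.2)
      · exact sq (c.sq i i.2) (c.sq j j.2) (c.cm j i (by omega) i.2).symm
  let π : M.Group →* _ := M.toCoxeterSystem.lift ⟨s, hl⟩
  have hπ : ∀ i, π (M.simple i) = s i := fun i => M.toCoxeterSystem.lift_apply_simple hl i
  let t : ℕ → M.Group := fun i => if h : i < n then M.simple ⟨i, h⟩ else 1
  have ht : ∀ i (h : i < n), t i = M.simple ⟨i, h⟩ := fun i h => dif_pos h
  have h0 : ∀ i, M.simple i * M.simple i = 1 := fun i => M.toCoxeterSystem.simple_mul_simple_self i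
  have h1 : ∀ i j, (M.simple i * M.simple j) ^ M i j = 1 := fun i j => M.toCoxeterSystem.simple_mul_simple_pow i j
  obtain ⟨φ, hφ⟩ := PC.CoxA.hom (s := t) (m := n) ⟨fun i hi => by rw [ht i hi, h0], fun i hi => by
    rw [ht i (by omega), ht _ hi]
    refine Pres.braid_of_cube (h0 _) (h0 _) ?_
    have := h1 ⟨i, by omega⟩ ⟨i + 1, hi⟩
    simpa [M, CoxeterMatrix.A] using this, fun i j a b => by
    rw [ht i (by omega), ht _ b]
    refine Pres.comm_of_sq (h0 _) (h0 _) ?_
    have := h1 ⟨i, by omega⟩ ⟨j, b⟩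
    simpa [M, CoxeterMatrix.A, show i ≠ j by omega, show j + 1 ≠ i by omega, show i + 1 ≠ j by omega] using this⟩
  have hφ' : ∀ i, φ (s i) = M.simple i := fun i => by rw [hs, hφ _ i.2, ht _ i.2]
  have e1 : φ.comp π = MonoidHom.id _ := M.toCoxeterSystem.ext_simple (fun i => by simp [hπ, hφ'])
  have e2 : π.comp φ = MonoidHom.id _ :=
    MonoidHom.eq_of_eqOn_denseM (Equiv.Perm.mclosure_swap_castSucc_succ n) (by
      rintro _ ⟨i, rfl⟩
      exact (congrArg π (hφ' i)).trans (hπ i))
  exact ⟨⟨MonoidHom.toMulEquiv φ π e2 e1⟩, hπ⟩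

end Cfsg.Agent.S2530
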