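import Cfsg.Statements.S2531
import Mathlib

set_option autoImplicit false
open Cfsg

namespace Cfsg.Agent.S2531
section
open Pointwise commutatorElement Subgroup
theorem cnt {F V : Type*} [Field F] [Finite F] [AddCommGroup V] [Module F V] [Finite V] (W : Submodule F V) (h : W ≠ ⊥) :
    (({x : Projectivization F V | x.submodule ≤ W}.ncard : ℕ) : F) = 1 := by
  haveI := Fintype.ofFinite F
  have e : {x : Projectivization F V | x.submodule ≤ W} = Set.range (Projectivization.map W.subtype W.subtype_injective) := by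
    ext x
    induction x using Projectivization.ind with
    | h v hv =>
      simp only [Set.mem_setOf_eq, Projectivization.submodule_mk, Submodule.span_singleton_le_iff_mem]
      refine ⟨fun h => ⟨Projectivization.mk F ⟨v, h⟩ fun e => hv (congrArg Subtype.val e), rfl⟩, ?_⟩
      rintro ⟨y, hy⟩
      induction y using Projectivization.ind with
      | h w hw =>
        obtain ⟨a, rfl⟩ := (Projectivization.mk_eq_mk_iff' F _ _ _ _).1 hy.symm
        exact W.smul_mem a w.2
  haveI : Module.Finite F V := Module.Finite.of_finite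
  obtain ⟨d, hd⟩ := Nat.exists_eq_succ_of_ne_zero (mt Submodule.finrank_eq_zero.1 h)
  rw [e, Set.ncard_range_of_injective (Projectivization.map_injective _ _), Projectivization.card_of_finrank F W hd,
    Finset.sum_range_succ']
  simp [pow_succ]
end

/-- Let `F` be a finite field and `n ≥ 3`. No set of permutations of the points of the projective space of `Fⁿ`, each induced by an invertible semilinear transformation of `Fⁿ` (so a subset of the full projective semilinear group), is sharply 2-transitive on the points: it is impossible that for all pairs of distinct points `(a, b)` and `(c, d)` exactly one member of the set sends `a` to `c` and `b` to `d`. -/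
theorem result {F : Type*} [Field F] [Finite F]
    (n : ℕ) (hn : 3 ≤ n) (S : Set (Equiv.Perm (Projectivization F (Fin n → F))))
    (hS : ∀ s ∈ S, ∃ (σ : F ≃+* F) (f : (Fin n → F) →ₛₗ[(σ : F →+* F)] (Fin n → F)) (hf : Function.Injective f),
      ∀ x, s x = Projectivization.map f hf x) :
    ¬ (∀ a b c d : Projectivization F (Fin n → F), a ≠ b → c ≠ d →
        ∃! s, s ∈ S ∧ s a = c ∧ s b = d) := by
  open Pointwise commutatorElement Subgroup in
  classical
  intro h
  haveI : Finite (Projectivization F (Fin n → F)) := (Projectivization.finite_iff_of_finite F _).2 inferInstance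
  haveI := Fintype.ofFinite (Projectivization F (Fin n → F))
  let i : Fin n := ⟨0, by omega⟩
  let H : Submodule F (Fin n → F) := LinearMap.ker (LinearMap.proj i)
  have key : ∀ g : (Fin n → F) →+ F, ∃ v, v ≠ 0 ∧ v i = 0 ∧ g v = 0 := fun g => by
    by_contra f
    push Not at f
    have := Nat.card_le_card_of_injective _ ((injective_iff_map_eq_zero ((Pi.evalAddMonoidHom (fun _ => F) i).prod g)).2
      fun v hv => by_contra fun e => f v e (congrArg Prod.fst hv) (congrArg Prod.snd hv))
    rw [Nat.card_fun, Nat.card_prod, Nat.card_fin, ← pow_two] at this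
    have := (Nat.pow_le_pow_iff_right (Finite.one_lt_card (α := F))).1 this
    omega
  let B : Finset (Projectivization F (Fin n → F)) := Finset.univ.filter fun x => x.submodule ≤ H
  have hB : (B.card : F) = 1 := by
    obtain ⟨v, h1, h2, -⟩ := key 0
    rw [← cnt H ((Submodule.ne_bot_iff H).2 ⟨v, h2, h1⟩), ← Set.ncard_coe_finset]; simp [B]
  have hU : (Fintype.card (Projectivization F (Fin n → F)) : F) = 1 := by
    obtain ⟨v, h1, -⟩ := key 0
    rw [← cnt ⊤ ((Submodule.ne_bot_iff (⊤ : Submodule F (Fin n → F))).2 ⟨v, trivial, h1⟩)]; simp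
  let a := Projectivization.mk F (Pi.single i (1 : F) : Fin n → F) (by simp)
  have ha : ∀ x ∈ B, a ≠ x := fun x hx e => by simp [← e, B, a, H] at hx
  let A := Finset.univ.filter fun s : Equiv.Perm (Projectivization F (Fin n → F)) => s ∈ S ∧ s a = a
  obtain ⟨b, hb⟩ := Finset.card_pos.1 (Nat.pos_of_ne_zero (n := B.card) fun e => by simp [e] at hB)
  have h1 : A.card = (Finset.univ.erase a).card := Finset.card_bij (fun s _ => s b)
    (fun s hs => Finset.mem_erase.2 ⟨fun e => ha b hb (s.injective ((Finset.mem_filter.1 hs).2.2.trans e.symm)), by simp⟩)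
    (fun s hs t ht e => (h a b a (t b) (ha b hb) fun f => ha b hb (t.injective ((Finset.mem_filter.1 ht).2.2.trans f))).unique
      ⟨(Finset.mem_filter.1 hs).2.1, (Finset.mem_filter.1 hs).2.2, e⟩ ⟨(Finset.mem_filter.1 ht).2.1, (Finset.mem_filter.1 ht).2.2, rfl⟩)
    fun y hy => by
      obtain ⟨s, h2, -⟩ := h a b a y (ha b hb) (Finset.mem_erase.1 hy).1.symm
      exact ⟨s, by simp [A, h2], h2.2.2⟩
  have h2 : (A.sigma fun s => B.filter fun x => s x ∈ B).card = (B ×ˢ B).card := Finset.card_bij (fun p _ => (p.2, p.1 p.2))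
    (fun p hp => Finset.mem_product.2 (Finset.mem_filter.1 (Finset.mem_sigma.1 hp).2))
    (by
      rintro ⟨s, x⟩ hs ⟨t, y⟩ ht e
      simp only [Finset.mem_sigma, A, Finset.mem_filter, Finset.mem_univ, true_and, Prod.mk.injEq] at hs ht e
      obtain ⟨rfl, e⟩ := e
      rw [(h a x a (t x) (ha x hs.2.1) (ha _ ht.2.2)).unique ⟨hs.1.1, hs.1.2, e⟩ ⟨ht.1.1, ht.1.2, rfl⟩])
    fun p hp => by
      obtain ⟨h3, h4⟩ := Finset.mem_product.1 hp
      obtain ⟨s, h2, -⟩ := h a p.1 a p.2 (ha _ h3) (ha _ h4)
      exact ⟨⟨s, p.1⟩, by simp [A, h2, h3, h4], by simp [h2]⟩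
  have h3 : ∀ s ∈ A, ((B.filter fun x => s x ∈ B).card : F) = 1 := fun s hs => by
    obtain ⟨σ, f, hf, e⟩ := hS s (Finset.mem_filter.1 hs).2.1
    obtain ⟨v, h1, h2, h3⟩ := key ((Pi.evalAddMonoidHom (fun _ => F) i).comp f.toAddMonoidHom)
    rw [← cnt (H ⊓ H.comap f) ((Submodule.ne_bot_iff _).2 ⟨v, ⟨h2, h3⟩, h1⟩), ← Set.ncard_coe_finset]
    congr 2
    ext x
    induction x using Projectivization.ind with
    | h w hw => simp [B, e, Projectivization.map_mk]
  have h4 := congrArg (Nat.cast : ℕ → F) h2
  rw [Finset.card_sigma, Nat.cast_sum, Finset.sum_congr rfl h3, Finset.card_product, Nat.cast_mul, hB, Finset.sum_const, h1,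
    Finset.card_erase_of_mem (Finset.mem_univ a), Finset.card_univ, nsmul_one,
    Nat.cast_pred (Fintype.card_pos_iff.2 ⟨a⟩), hU] at h4
  simp at h4

end Cfsg.Agent.S2531
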