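import Cfsg.Statements.S2532

set_option autoImplicit false
open Cfsg

namespace Cfsg.Agent.S2532


/-- There is a function `f` of two natural-number arguments such that, whenever `m ≥ f(n, r)`, every subgroup of order `n` of the alternating group of degree `m` centralizes some subgroup of that alternating group isomorphic to the alternating group of degree `r`. -/
theorem result :
    ∃ f : ℕ → ℕ → ℕ, ∀ (m r : ℕ) (H : Subgroup ↥(alternatingGroup (Fin m))), f (Nat.card H) r ≤ m →
      ∃ K : Subgroup ↥(alternatingGroup (Fin m)), Nonempty (↥K ≃* ↥(alternatingGroup (Fin r))) ∧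
        K ≤ Subgroup.centralizer (H : Set ↥(alternatingGroup (Fin m))) := by
  classical
  refine ⟨fun n r => n * (2 ^ n * r + 1), fun m r H hm => ?_⟩
  let O := MulAction.orbitRel.Quotient H (Fin m)
  have h1 : m ≤ Nat.card H * Nat.card O := by
    rw [← Nat.card_prod]
    refine le_trans (by simp) (Nat.card_le_card_of_surjective (fun p : H × O => p.1 • p.2.out) fun y => ?_)
    obtain ⟨h, hh⟩ : y ∈ MulAction.orbit H (Quotient.out (Quotient.mk'' y : O)) :=
      MulAction.orbitRel_apply.1 (Quotient.exact' (Quotient.out_eq' (Quotient.mk'' y : O)).symm)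
    exact ⟨(h, Quotient.mk'' y), hh⟩
  have h2 : Nat.card (Subgroup H) ≤ 2 ^ Nat.card H := by
    refine (Nat.card_le_card_of_injective (fun S : Subgroup H => (S : Set H)) SetLike.coe_injective).trans ?_
    letI := Fintype.ofFinite H
    rw [Nat.card_eq_fintype_card, Fintype.card_set, Nat.card_eq_fintype_card]
  have h3 : 2 ^ Nat.card H * r + 1 ≤ Nat.card O := Nat.le_of_mul_le_mul_left (hm.trans h1) Nat.card_pos
  letI := Fintype.ofFinite O
  letI := Fintype.ofFinite (Subgroup H)
  obtain ⟨S, hS⟩ := Fintype.exists_lt_card_fiber_of_mul_lt_card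
    (fun o : O => MulAction.stabilizer H o.out) (n := r) (by
      rw [← Nat.card_eq_fintype_card, ← Nat.card_eq_fintype_card]
      exact lt_of_le_of_lt (Nat.mul_le_mul_right _ h2) h3)
  obtain ⟨x, hx⟩ := Function.Embedding.exists_of_card_le_finset (α := Fin r) (by simpa using hS.le)
  have hx' : ∀ i, MulAction.stabilizer H (x i).out = S := fun i =>
    (Finset.mem_filter.1 (hx ⟨i, rfl⟩)).2
  let j : (H ⧸ S) × Fin r → Fin m := fun p => p.1.out • (x p.2).out
  have hj : ∀ (a : H) i, j (QuotientGroup.mk a, i) = a • (x i).out := fun a i => by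
    obtain ⟨s, hs⟩ := QuotientGroup.mk_out_eq_mul S a
    have : (s : H) ∈ MulAction.stabilizer H (x i).out := (hx' i).symm ▸ s.2
    simp only [j, hs, mul_smul, MulAction.mem_stabilizer_iff.1 this]
  have hji : Function.Injective j := by
    rintro ⟨a, i⟩ ⟨b, k⟩ h
    obtain ⟨a, rfl⟩ := QuotientGroup.mk_surjective a
    obtain ⟨b, rfl⟩ := QuotientGroup.mk_surjective b
    rw [hj, hj, ← inv_smul_eq_iff, smul_smul] at h
    have h4 : i = k := x.injective (by
      rw [← Quotient.out_eq' (x i), ← Quotient.out_eq' (x k)]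
      exact (Quotient.sound' (MulAction.orbitRel_apply.2 ⟨_, h⟩)).symm)
    subst h4
    refine Prod.ext (QuotientGroup.eq.2 ?_).symm rfl
    rw [← hx' i]
    exact h
  let e : (H ⧸ S) × Fin r ↪ Fin m := ⟨j, hji⟩
  let φ0 : Equiv.Perm (Fin r) →* Equiv.Perm ((H ⧸ S) × Fin r) :=
    MonoidHom.mk' (fun π => Equiv.prodCongrRight fun _ => π) fun _ _ => rfl
  let φ : alternatingGroup (Fin r) →* alternatingGroup (Fin m) :=
    (((Equiv.Perm.viaEmbeddingHom e).comp φ0).comp (Subgroup.subtype _)).codRestrict _ fun π => by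
      letI := Fintype.ofFinite (H ⧸ S)
      rw [Equiv.Perm.mem_alternatingGroup]
      change Equiv.Perm.sign (Equiv.Perm.viaEmbedding _ _) = 1
      unfold Equiv.Perm.viaEmbedding
      rw [Equiv.Perm.sign_extendDomain]
      change Equiv.Perm.sign (Equiv.prodCongrRight fun _ => π.1) = 1
      rw [Equiv.Perm.sign_prodCongrRight]
      simp [Equiv.Perm.mem_alternatingGroup.1 π.2]
  have hφ : Function.Injective φ := fun π π' h => by
    have h4 := Equiv.Perm.viaEmbeddingHom_injective e (congrArg Subtype.val h)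
    exact Subtype.ext (Equiv.ext fun i => congrArg (fun f : Equiv.Perm ((H ⧸ S) × Fin r) =>
      (f (QuotientGroup.mk 1, i)).2) h4)
  refine ⟨φ.range, ⟨(MonoidHom.ofInjective hφ).symm⟩, ?_⟩
  rintro _ ⟨π, rfl⟩ h hh
  refine Subtype.ext (Equiv.ext fun y => ?_)
  change h.1 ((φ0 π.1).viaEmbedding e y) = (φ0 π.1).viaEmbedding e (h.1 y)
  by_cases hy : y ∈ Set.range e
  · obtain ⟨⟨a, i⟩, rfl⟩ := hy
    obtain ⟨a, rfl⟩ := QuotientGroup.mk_surjective a
    have h4 : ∀ i, h.1 (e (QuotientGroup.mk a, i)) = e (QuotientGroup.mk ((⟨h, hh⟩ : H) * a), i) := fun i => by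
      change h.1 (j _) = j _
      rw [hj, hj, mul_smul]; rfl
    rw [h4, Equiv.Perm.viaEmbedding_apply, Equiv.Perm.viaEmbedding_apply]
    exact h4 _
  · rw [Equiv.Perm.viaEmbedding_apply_of_notMem _ _ _ hy, Equiv.Perm.viaEmbedding_apply_of_notMem]
    rintro ⟨⟨a, i⟩, ha⟩
    obtain ⟨a, rfl⟩ := QuotientGroup.mk_surjective a
    refine hy ⟨(QuotientGroup.mk ((⟨h, hh⟩ : H)⁻¹ * a), i), ?_⟩
    change j _ = _ at ha ⊢
    rw [hj] at ha ⊢
    rw [mul_smul, ha, inv_smul_eq_iff]; rfl

end Cfsg.Agent.S2532
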