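import Cfsg.Statements.S2533
import Mathlib

set_option autoImplicit false
open Cfsg

namespace Cfsg.Agent.S2533
section
open Pointwise commutatorElement Subgroup
open Matrix

@[ext] structure H (F : Type) where
  v : Fin 3 → F
  u : ℤˣ

variable {F : Type} [Field F] {m : ℕ}

instance : Mul (H F) := ⟨fun a b => ⟨a.v + a.u • b.v, a.u * b.u⟩⟩
@[simp] theorem mul_v (a b : H F) : (a * b).v = a.v + a.u • b.v := rfl
@[simp] theorem mul_u (a b : H F) : (a * b).u = a.u * b.u := rfl
instance : One (H F) := ⟨⟨0, 1⟩⟩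
@[simp] theorem one_v : (1 : H F).v = 0 := rfl
@[simp] theorem one_u : (1 : H F).u = 1 := rfl
instance : Inv (H F) := ⟨fun a => ⟨-(a.u⁻¹ • a.v), a.u⁻¹⟩⟩
instance : Group (H F) := Group.ofLeftAxioms (fun a b c => by ext1 <;> simp [mul_smul, add_assoc, mul_assoc])
  (fun a => by ext1 <;> simp) fun a => H.ext (neg_add_cancel _) (inv_mul_cancel _)

def B (F : Type) [Field F] (m k : ℕ) : Matrix (Fin (m + 1)) (Fin m) F := of fun i j => if (i : ℕ) = j + k then 1 else 0
def A (m : ℕ) (v : Fin 3 → F) : Matrix (Fin (m + 1)) (Fin m) F := ∑ k, v k • B F m k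
def M (m : ℕ) : H F →* Matrix (Fin m ⊕ Fin (m + 1)) (Fin m ⊕ Fin (m + 1)) F where
  toFun h := fromBlocks 1 0 (A m h.v) (h.u • 1)
  map_one' := by simp [A]
  map_mul' a b := by simp [A, fromBlocks_multiply, add_smul, Finset.sum_add_distrib, Finset.smul_sum, smul_smul, mul_comm]

theorem M_apply (h : H F) : M m h = fromBlocks 1 0 (A m h.v) (h.u • 1) := rfl

theorem toep {P : Matrix (Fin m) (Fin m) F} {Q : Matrix (Fin (m + 1)) (Fin (m + 1)) F} (h0 : Q * B F m 0 = B F m 0 * P)
    (h1 : Q * B F m 1 = B F m 1 * P) : P = Q 0 0 • 1 ∧ Q = Q 0 0 • 1 := by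
  have a0 : ∀ i (j : Fin m), (Q * B F m 0) i j = Q i j.castSucc := fun i j => by
    rw [mul_apply, Finset.sum_eq_single j.castSucc (fun k _ hk => by simp [B, show (k : ℕ) ≠ j from fun e => hk (Fin.ext e)])
      (by simp)]
    simp [B]
  have a1 : ∀ i (j : Fin m), (Q * B F m 1) i j = Q i j.succ := fun i j => by
    rw [mul_apply, Finset.sum_eq_single j.succ (fun k _ hk => by simp [B, show (k : ℕ) ≠ j + 1 from fun e => hk (Fin.ext e)])
      (by simp)]
    simp [B]
  have e1 : ∀ i j : Fin m, Q i.castSucc j.castSucc = P i j := fun i j => by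
    rw [← a0, h0, mul_apply, Finset.sum_eq_single i (fun k _ hk => by simp [B, Fin.val_inj, hk.symm]) (by simp)]
    simp [B]
  have e2 : ∀ j : Fin m, Q (Fin.last m) j.castSucc = 0 := fun j => by
    rw [← a0, h0, mul_apply]
    exact Finset.sum_eq_zero fun k _ => by simp [B, k.2.ne']
  have e3 : ∀ i j : Fin m, Q i.succ j.succ = P i j := fun i j => by
    rw [← a1, h1, mul_apply, Finset.sum_eq_single i (fun k _ hk => by simp [B, Fin.val_inj, hk.symm]) (by simp)]
    simp [B]
  have e4 : ∀ j : Fin m, Q 0 j.succ = 0 := fun j => by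
    rw [← a1, h1, mul_apply]
    exact Finset.sum_eq_zero fun k _ => by simp [B]
  have st : ∀ d a b (ha : a + d < m + 1) (hb : b + d < m + 1), Q ⟨a + d, ha⟩ ⟨b + d, hb⟩ = Q ⟨a, by omega⟩ ⟨b, by omega⟩ := by
    intro d a b
    induction d with
    | zero => exact fun _ _ => rfl
    | succ d ih =>
      exact fun ha hb => ((e3 ⟨a + d, by omega⟩ ⟨b + d, by omega⟩).trans (e1 _ _).symm).trans (ih (by omega) (by omega))
  have hQ : ∀ i j, Q i j = if i = j then Q 0 0 else 0 := by
    rintro ⟨i, hi⟩ ⟨j, hj⟩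
    obtain h | rfl | h := lt_trichotomy i j
    · obtain ⟨d, rfl⟩ := Nat.exists_eq_add_of_lt h
      rw [if_neg (by simp; omega)]
      have := (st i 0 (d + 1) (by omega) (by omega)).trans (e4 ⟨d, by omega⟩)
      convert this using 2 <;> simp <;> omega
    · simpa using st i 0 0 (by omega) (by omega)
    · rw [if_neg (by simp; omega), ← st (m - i) i j (by omega) (by omega)]
      convert e2 ⟨j + (m - i), by omega⟩ using 2
      all_goals (ext; simp; try omega)
  refine ⟨Matrix.ext fun i j => ?_, Matrix.ext fun i j => ?_⟩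
  · rw [← e1, hQ]; simp [one_apply]
  · rw [hQ]; simp [one_apply]

theorem cent (h2 : (2 : F) ≠ 0) {G G' : Matrix (Fin m ⊕ Fin (m + 1)) (Fin m ⊕ Fin (m + 1)) F} (hG : G' * G = 1)
    (h : ∀ x : H F, ∃ c : F, G * M m x = c • (M m x * G)) : ∃ c : F, G = c • 1 := by
  have k : ∀ v, G * M m ⟨v, -1⟩ = M m ⟨v, -1⟩ * G := fun v => by
    obtain ⟨c, e⟩ := h ⟨v, -1⟩
    have := congrArg (fun X => trace (G' * X)) e
    simp only [← Matrix.mul_assoc, hG, Matrix.one_mul, Matrix.mul_smul, trace_smul] at this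
    rw [trace_mul_cycle, mul_eq_one_comm.1 hG, Matrix.one_mul] at this
    have t : trace (M m ⟨v, -1⟩) = -1 := by simp [M_apply, trace, Fintype.sum_sum_type]
    rw [e, show c = 1 by simpa [t] using this.symm, one_smul]
  rw [← fromBlocks_toBlocks G] at k ⊢
  have k0 := k 0
  have k1 := k (Pi.single 0 1)
  have k2 := k (Pi.single 1 1)
  simp only [M_apply, fromBlocks_multiply, fromBlocks_inj, A, Fin.sum_univ_three] at k0 k1 k2
  simp at k0 k1 k2
  have z : ∀ {a b : Type} (X : Matrix a b F), -X = X → X = 0 := fun X e => Matrix.ext fun i j =>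
    (mul_eq_zero.1 (show 2 * X i j = 0 by
      have h : -X i j = X i j := congrFun (congrFun e i) j
      linear_combination -h)).resolve_left h2
  have r1 := z _ k0.1
  have r2 := z _ k0.2.symm
  simp only [r1, r2, zero_add, add_zero, sub_zero, neg_zero] at k1 k2
  obtain ⟨p1, p2⟩ := toep k1.2.2.1 k2.2.2.1
  exact ⟨G.toBlocks₂₂ 0 0, by rw [r1, r2, p1, ← fromBlocks_one, fromBlocks_smul, ← p2]; simp⟩
end

/-- For every odd prime `p` there is a finite group `H` of order `2p³` which, for infinitely many `n`, embeds in the projective special linear group `PSL(n, p)` as a subgroup with trivial centralizer. -/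
theorem result
    (p : ℕ) [Fact p.Prime] (hp : p ≠ 2) :
    ∃ (H : Type) (_ : Group H) (_ : Finite H), Nat.card H = 2 * p ^ 3 ∧
      ∀ N : ℕ, ∃ n, N ≤ n ∧ ∃ φ : H →* Matrix.ProjectiveSpecialLinearGroup (Fin n) (ZMod p),
        Function.Injective φ ∧ Subgroup.centralizer (φ.range : Set (Matrix.ProjectiveSpecialLinearGroup (Fin n) (ZMod p))) = ⊥ := by
  open Pointwise commutatorElement Subgroup in
  let e : H (ZMod p) ≃ (Fin 3 → ZMod p) × ℤˣ := ⟨fun h => (h.v, h.u), fun x => ⟨x.1, x.2⟩, fun _ => rfl, fun _ => rfl⟩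
  refine ⟨H (ZMod p), inferInstance, Finite.of_equiv _ e.symm, by
    rw [Nat.card_congr e, Nat.card_prod, Nat.card_fun, Nat.card_zmod, mul_comm]; simp, fun N => ?_⟩
  obtain ⟨m, hm⟩ : ∃ m, m = 2 * N + 3 := ⟨_, rfl⟩
  let r := Matrix.reindexAlgEquiv (ZMod p) (ZMod p) (finSumFinEquiv (m := m) (n := m + 1))
  let ψ : H (ZMod p) →* Matrix.SpecialLinearGroup (Fin (m + (m + 1))) (ZMod p) :=
    { toFun := fun h => ⟨r (M m h), by
        rw [Matrix.det_reindexAlgEquiv, M_apply, Matrix.det_fromBlocks_zero₁₂, Matrix.det_one, one_mul]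
        obtain h | h := Int.units_eq_one_or h.u <;> simp [h, Matrix.det_neg, hm, pow_succ, pow_mul]⟩
      map_one' := Subtype.ext (by simp)
      map_mul' := fun a b => Subtype.ext ((congrArg r (map_mul (M m) a b)).trans (map_mul r _ _)) }
  have sc : ∀ c : ZMod p, r.symm (Matrix.scalar _ c) = c • 1 := fun c => by
    rw [Matrix.scalar_apply, ← Matrix.smul_one_eq_diagonal, map_smul, map_one]
  refine ⟨m + (m + 1), by omega, (QuotientGroup.mk' _).comp ψ, (injective_iff_map_eq_one _).2 fun h e => ?_,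
    eq_bot_iff.2 fun g hg => ?_⟩
  · obtain ⟨c, -, e⟩ := Matrix.SpecialLinearGroup.mem_center_iff.1 ((QuotientGroup.eq_one_iff _).1 e)
    have e : c • 1 = M m h := (sc c).symm.trans (r.symm_apply_eq.2 e)
    have e1 := congrFun (congrFun e (.inl ⟨0, by omega⟩)) (.inl ⟨0, by omega⟩)
    have e2 := congrFun (congrFun e (.inr 0)) (.inr 0)
    have e3 := fun k : Fin 3 => congrFun (congrFun e (.inr ⟨k, by omega⟩)) (.inl ⟨0, by omega⟩)
    simp [M_apply] at e1 e2
    refine H.ext (funext fun k => ?_) ?_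
    · simpa [M_apply, A, B, Matrix.sum_apply, Fin.val_inj] using (e3 k).symm
    · refine (Int.units_eq_one_or h.u).resolve_right fun f => hp ?_
      rw [e1, f] at e2
      exact ((Nat.prime_dvd_prime_iff_eq Fact.out Nat.prime_two).1 ((ZMod.natCast_eq_zero_iff 2 p).1 (by
        simp at e2; push_cast; linear_combination e2)))
  obtain ⟨g, rfl⟩ := QuotientGroup.mk_surjective g
  obtain ⟨c, hc⟩ := cent (m := m) (G := r.symm g.1) (G' := r.symm g⁻¹.1) (fun f => hp ((Nat.prime_dvd_prime_iff_eq Fact.out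
    Nat.prime_two).1 ((ZMod.natCast_eq_zero_iff 2 p).1 (by exact_mod_cast f))))
    (by rw [← map_mul, ← Matrix.SpecialLinearGroup.coe_mul, inv_mul_cancel, Matrix.SpecialLinearGroup.coe_one, map_one]) fun x => by
      have h1 : QuotientGroup.mk (s := center _) (ψ x * g) = QuotientGroup.mk (g * ψ x) := hg _ ⟨x, rfl⟩
      obtain ⟨c, -, e⟩ := Matrix.SpecialLinearGroup.mem_center_iff.1 (QuotientGroup.eq.1 h1)
      refine ⟨c, ?_⟩
      have h2 := congrArg (fun X => r.symm ((ψ x * g).1 * X)) e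
      simp only [← Matrix.SpecialLinearGroup.coe_mul, mul_inv_cancel_left] at h2
      simp only [Matrix.SpecialLinearGroup.coe_mul, map_mul, sc, Matrix.mul_smul, Matrix.mul_one] at h2
      rw [show r.symm (ψ x).1 = M m x from r.symm_apply_apply _] at h2
      exact h2.symm
  refine mem_bot.2 ((QuotientGroup.eq_one_iff _).2 (mem_center_iff.2 fun y => Subtype.ext ?_))
  have : g.1 = c • 1 := by rw [r.symm_apply_eq.1 hc, map_smul, map_one]
  simp [this]

end Cfsg.Agent.S2533
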