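import Cfsg.Statements.S2537
import Mathlib
import Cfsg.Agent.Lib.Perm.Dick7
import Cfsg.Agent.S0802
import Cfsg.Agent.S0803
import Cfsg.Agent.S0811
import Cfsg.Agent.S0812

set_option autoImplicit false
open Cfsg

namespace Cfsg.Agent.S2537

open Cfsg.Agent.Perm Cfsg.Agent.Perm.GL2 Subgroup

theorem hall_iff {G : Type*} [Group G] [Finite G] (H : Subgroup G) : IsPiHall ({2, 3} : Set ℕ) H ↔
    Nat.card H = 2 ^ (Nat.card G).factorization 2 * 3 ^ (Nat.card G).factorization 3 := by
  have e := fun r => congrArg (fun n : ℕ => n.factorization r) H.card_mul_index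
  simp only [Nat.factorization_mul Nat.card_pos.ne' index_ne_zero_of_finite, Finsupp.add_apply] at e
  constructor
  · rintro ⟨h1, h2⟩
    rw [← e, ← e, Nat.factorization_eq_zero_of_not_dvd (h2 2 Nat.prime_two (by simp)),
      Nat.factorization_eq_zero_of_not_dvd (h2 3 Nat.prime_three (by simp)), add_zero, add_zero]
    conv_lhs => rw [← Nat.prod_factorization_pow_eq_self (Nat.card_pos (α := H)).ne']
    rw [Finsupp.prod_of_support_subset (s := {2, 3}) _ (fun r hr => by
      simpa using h1 r (Nat.prime_of_mem_primeFactors hr) (Nat.dvd_of_mem_primeFactors hr)) _ (by simp),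
      Finset.prod_pair (by decide)]
  · intro h
    refine ⟨fun r hr d => ?_, fun r hr h' d => ?_⟩
    · rcases hr.dvd_mul.1 (h ▸ d) with d | d
      · exact Or.inl ((Nat.prime_dvd_prime_iff_eq hr Nat.prime_two).1 (hr.dvd_of_dvd_pow d))
      · exact Or.inr ((Nat.prime_dvd_prime_iff_eq hr Nat.prime_three).1 (hr.dvd_of_dvd_pow d))
    · have := hr.factorization_pos_of_dvd index_ne_zero_of_finite d
      have e := e r
      rw [h, Nat.factorization_mul (by positivity) (by positivity), Nat.prime_two.factorization_pow,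
        Nat.prime_three.factorization_pow] at e
      rcases h' with rfl | rfl <;> simp at e <;> omega

theorem sub_dih {G : Type*} [Group G] {H : Subgroup G} {k d : ℕ} (hk : k ≠ 0) (e : H ≃* DihedralGroup k) (h : d ∣ k) :
    ∃ K : Subgroup G, Nat.card K = 2 * d := by
  have o := orderOf_pow_orderOf_div (x := (DihedralGroup.r 1 : DihedralGroup k)) (n := d)
    (by rwa [DihedralGroup.orderOf_r_one]) (by rwa [DihedralGroup.orderOf_r_one])
  rw [DihedralGroup.r_one_pow] at o
  generalize ((_ / d : ℕ) : ZMod k) = i at o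
  have := card_dih (t := DihedralGroup.r i) (s := DihedralGroup.sr 0) (by simp) (by simp [pow_two]) (by
    rintro ⟨j, hj⟩; simp at hj)
  exact ⟨_, (card_map_of_injective (f := H.subtype.comp e.symm.toMonoidHom)
    (H.subtype_injective.comp e.symm.injective)).trans (o ▸ this)⟩

/-- Let `F` be a finite field with `q` elements of characteristic `p ≥ 5`, and `ε = 1` if `q ≡ 1 (mod 4)`, `ε = -1` otherwise. Then `PSL(2, F)` has a Hall `{2, 3}`-subgroup if and only if `3` divides `q − ε`, or the `{2,3}`-part of `q² − 1` is 24, or the `{2,3}`-part of `q² − 1` is 48 (the `{2,3}`-part of `m` being the largest divisor of `m` with no prime factor other than 2 and 3). -/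
theorem result {F : Type*} [Field F] [Fintype F] {p : ℕ} [Fact p.Prime] [CharP F p]
    (hp : 5 ≤ p) (q : ℕ) (hq : Fintype.card F = q) :
    (∃ H : Subgroup (Matrix.ProjectiveSpecialLinearGroup (Fin 2) F), Cfsg.IsPiHall ({2, 3} : Set ℕ) H) ↔
      (3 ∣ q - 1 ∧ q % 4 = 1) ∨ (3 ∣ q + 1 ∧ q % 4 = 3) ∨
        2 ^ (q ^ 2 - 1).factorization 2 * 3 ^ (q ^ 2 - 1).factorization 3 = 24 ∨
        2 ^ (q ^ 2 - 1).factorization 2 * 3 ^ (q ^ 2 - 1).factorization 3 = 48 := by
  subst hq
  have pp : p.Prime := Fact.out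
  obtain ⟨n, -, hn⟩ := FiniteField.card F p
  have c := card_PSL2_mul (F := F)
  have nd : ∀ r, r.Prime → r < 5 → ¬ r ∣ Fintype.card F := fun r hr h d => by
    have := (Nat.prime_dvd_prime_iff_eq hr pp).1 (hr.dvd_of_dvd_pow (hn ▸ d)); omega
  have q2 := nd 2 Nat.prime_two (by norm_num)
  have q3 := nd 3 Nat.prime_three (by norm_num)
  have q1 := Fintype.one_lt_card (α := F)
  have g2 : Nat.gcd 2 (Fintype.card F - 1) = 2 := Nat.gcd_eq_left (by omega)
  rw [g2, mul_assoc, ← sq_sub_one_eq] at c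
  have N0 : Fintype.card F ^ 2 - 1 ≠ 0 := by rw [sq_sub_one_eq]; exact mul_ne_zero (by omega) (by omega)
  have e := fun r => congrArg (fun n : ℕ => n.factorization r) c
  simp only [Nat.factorization_mul Nat.card_pos.ne' two_ne_zero, Nat.factorization_mul Fintype.card_ne_zero N0,
    Finsupp.add_apply] at e
  have e2 := e 2
  have e3 := e 3
  rw [Nat.factorization_eq_zero_of_not_dvd q2, Nat.prime_two.factorization_self, zero_add] at e2
  rw [Nat.factorization_eq_zero_of_not_dvd q3, Nat.factorization_eq_zero_of_not_dvd (n := 2) (by decide), zero_add,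
    add_zero] at e3
  have d24 : 24 ∣ Fintype.card F ^ 2 - 1 := by
    have : ∀ x < 24, ¬ 2 ∣ x → ¬ 3 ∣ x → x ^ 2 % 24 = 1 := by decide
    have := this _ (Nat.mod_lt (Fintype.card F) (by norm_num)) (by omega) (by omega)
    rw [← Nat.pow_mod] at this; omega
  have a3 := (Nat.prime_two.pow_dvd_iff_le_factorization N0 (k := 3)).1 (Dvd.dvd.trans (by norm_num) d24)
  have b1 := (Nat.prime_three.pow_dvd_iff_le_factorization N0 (k := 1)).1 (Dvd.dvd.trans (by norm_num) d24)
  have dv := (Nat.Coprime.pow _ _ (by norm_num : Nat.Coprime 2 3)).mul_dvd_of_dvd_of_dvd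
    (Nat.ordProj_dvd (Fintype.card F ^ 2 - 1) 2) (Nat.ordProj_dvd (Fintype.card F ^ 2 - 1) 3)
  simp only [hall_iff]
  rw [← e2, ← e3] at dv ⊢
  rw [← e2] at a3
  rw [← e3] at b1
  obtain ⟨a, ha⟩ : ∃ a, (Nat.card (PSL2 F)).factorization 2 = a + 2 := ⟨_, (Nat.sub_add_cancel (by omega)).symm⟩
  obtain ⟨b, hb⟩ : ∃ b, (Nat.card (PSL2 F)).factorization 3 = b + 1 := ⟨_, (Nat.sub_add_cancel b1).symm⟩
  rw [ha, hb] at dv ⊢
  have s1 : 2 ^ (a + 2) * 3 ^ (b + 1) = 12 * (2 ^ a * 3 ^ b) := by ring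
  have s2 : 2 ^ (a + 2 + 1) * 3 ^ (b + 1) = 24 * (2 ^ a * 3 ^ b) := by ring
  have nr : ∀ r, r.Prime → 5 ≤ r → ¬ r ∣ 2 ^ (a + 2) * 3 ^ (b + 1) := fun r hr h d => by
    rcases hr.dvd_mul.1 d with d | d <;> have := Nat.le_of_dvd (by norm_num) (hr.dvd_of_dvd_pow d) <;> omega
  constructor
  · rintro ⟨H, hH⟩
    rw [Nat.card_congr (ioEquiv H).toEquiv] at hH
    have ho : ∀ x : H.map io, 12 ∣ 2 * orderOf x → (3 ∣ Fintype.card F - 1 ∧ Fintype.card F % 4 = 1) ∨
        (3 ∣ Fintype.card F + 1 ∧ Fintype.card F % 4 = 3) := fun x hx => by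
      rcases spec_PS p (map_io_le H x.2) with h | h | h <;> rw [orderOf_coe] at h
      · have := (Nat.prime_dvd_prime_iff_eq Nat.prime_two pp).1 (Dvd.dvd.trans (by omega) h); omega
      · rw [g2] at h; have := hx.trans (mul_comm 2 _ ▸ h); omega
      · rw [g2] at h; have := hx.trans (mul_comm 2 _ ▸ h); omega
    have np := hH ▸ nr p pp hp
    rcases dickson p (H.map io) with ⟨h1, -⟩ | h | ⟨h1, -⟩ | ⟨-, ⟨⟨e⟩⟩ | ⟨⟨e⟩⟩⟩ | ⟨-, ⟨e⟩⟩ | ⟨L, c, -, h⟩
    · obtain ⟨x, hx⟩ := h1.exists_ofOrder_eq_natCard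
      rw [← or_assoc]; exact Or.inl (ho x (by omega))
    · obtain ⟨x, -, ⟨e⟩⟩ := IsDih_iso h
      rw [Nat.card_congr e.toEquiv, DihedralGroup.nat_card] at hH
      rw [← or_assoc]; exact Or.inl (ho x (by omega))
    · exact absurd h1 np
    · rw [Nat.card_congr e.toEquiv, nat_card_alternatingGroup] at hH
      simp [Nat.factorial] at hH; omega
    · rw [Nat.card_congr e.toEquiv, Nat.card_perm] at hH
      simp [Nat.factorial] at hH; omega
    · refine absurd ?_ (hH ▸ nr 5 Nat.prime_five le_rfl)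
      rw [Nat.card_congr e.toEquiv, nat_card_alternatingGroup]; simp [Nat.factorial]
    · letI := Fintype.ofFinite L
      obtain ⟨m, -, hm⟩ := FiniteField.card L p
      have pL : p ∣ oP (Nat.card L) := by
        rw [oP, mul_assoc, Nat.card_eq_fintype_card, hm]; exact (dvd_pow_self p m.ne_zero).mul_right _
      refine absurd ?_ np
      rcases h with h | h <;> rw [h]
      · exact card_RG' L.subtype c ▸ pL
      · refine (pp.dvd_mul.1 (card_RS' L.subtype c ▸ pL)).resolve_right fun h => ?_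
        have := Nat.le_of_dvd two_pos (h.trans (Nat.gcd_dvd_left _ _)); omega
  · have cop : ∀ y, ¬ 2 ∣ y → ¬ 3 ∣ y → (2 ^ (a + 2 + 1) * 3 ^ (b + 1)).Coprime y := fun y h2 h3 =>
      Nat.Coprime.mul_left (((Nat.Prime.coprime_iff_not_dvd Nat.prime_two).2 h2).pow_left _)
        (((Nat.Prime.coprime_iff_not_dvd Nat.prime_three).2 h3).pow_left _)
    rw [sq_sub_one_eq] at dv
    rintro (h | h | h | h)
    · obtain ⟨H, -, ⟨e⟩⟩ := S0812.result (F := F) rfl (by simp; omega)
      rw [show Fintype.card F + 1 = (Fintype.card F + 1) / 2 * 2 by omega, mul_assoc] at dv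
      have := (cop ((Fintype.card F + 1) / 2) (by omega) (by omega)).dvd_of_dvd_mul_left dv
      obtain ⟨K, hK⟩ := sub_dih (d := 6 * (2 ^ a * 3 ^ b)) (by rw [g2]; omega) e (by
        rw [g2]; refine Nat.dvd_of_mul_dvd_mul_left (k := 4) (by norm_num) ?_
        rwa [← mul_assoc, show 4 * 6 = 24 from rfl, ← s2, show 4 * ((Fintype.card F - 1) / 2) = 2 * (Fintype.card F - 1) by omega])
      exact ⟨K, by omega⟩
    · obtain ⟨H, -, ⟨e⟩⟩ := S0811.result (F := F) rfl (by simp; omega)
      rw [show Fintype.card F - 1 = 2 * ((Fintype.card F - 1) / 2) by omega, ← mul_assoc] at dv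
      have := (cop ((Fintype.card F - 1) / 2) (by omega) (by omega)).dvd_of_dvd_mul_right dv
      obtain ⟨K, hK⟩ := sub_dih (d := 6 * (2 ^ a * 3 ^ b)) (by rw [g2]; omega) e (by
        rw [g2]; refine Nat.dvd_of_mul_dvd_mul_left (k := 4) (by norm_num) ?_
        rwa [← mul_assoc, show 4 * 6 = 24 from rfl, ← s2, show 4 * ((Fintype.card F + 1) / 2) = (Fintype.card F + 1) * 2 by omega])
      exact ⟨K, by omega⟩
    · obtain ⟨H, ⟨e⟩⟩ := (S0802.result p n hn).2 (by omega)
      exact ⟨H, by rw [Nat.card_congr e.toEquiv, nat_card_alternatingGroup]; simp [Nat.factorial]; omega⟩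
    · obtain ⟨H, ⟨e⟩⟩ := (S0803.result (F := F) rfl).2 (by rw [h, ← sq_sub_one_eq] at dv; omega)
      exact ⟨H, by rw [Nat.card_congr e.toEquiv, Nat.card_perm]; simp [Nat.factorial]; omega⟩

end Cfsg.Agent.S2537
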