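import Cfsg.Statements.S2540
import Cfsg.Agent.Lib.Classical.Lin1
import Mathlib.LinearAlgebra.Projectivization.PSL.PSL2

set_option autoImplicit false
open Cfsg

namespace Cfsg.Agent.S2540
open Cfsg.Agent.Classical

theorem normal_cases {S : Type*} [Group S] (hp : commutator S = ⊤)
    [IsSimpleGroup (S ⧸ Subgroup.center S)] (N : Subgroup S) [hN : N.Normal] :
    N ≤ Subgroup.center S ∨ N = ⊤ := by
  rcases (hN.map (QuotientGroup.mk' (Subgroup.center S))
    (QuotientGroup.mk'_surjective _)).eq_bot_or_eq_top with h | h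
  · left
    rw [Subgroup.map_eq_bot_iff, QuotientGroup.ker_mk'] at h
    exact h
  · right
    have h2 : N ⊔ Subgroup.center S = ⊤ := by
      have := congrArg (Subgroup.comap (QuotientGroup.mk' (Subgroup.center S))) h
      rwa [Subgroup.comap_map_eq, QuotientGroup.ker_mk', Subgroup.comap_top] at this
    have := hN.commutator_le_of_self_sup_commutative_eq_top h2 inferInstance
    rw [hp] at this
    exact top_le_iff.1 this

theorem trick {S H : Type*} [Group S] [Group H] (hp : commutator S = ⊤) (T : S →* H) (g : H)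
    (hc : ∀ s, T s * g * (T s)⁻¹ * g⁻¹ ∈ Subgroup.center H) (s : S) : T s * g = g * T s := by
  let φ : S →* H :=
    MonoidHom.mk' (fun s => T s * g * (T s)⁻¹ * g⁻¹) (fun s t => by
      have h1 := Subgroup.mem_center_iff.1 (hc t) (T s)
      have h2 := Subgroup.mem_center_iff.1 (hc t) (T s * g * (T s)⁻¹ * g⁻¹)
      simp only [map_mul]
      rw [h2]
      calc T s * T t * g * (T s * T t)⁻¹ * g⁻¹
          = (T s * (T t * g * (T t)⁻¹ * g⁻¹)) * g * (T s)⁻¹ * g⁻¹ := by group
        _ = _ := by rw [h1]; group)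
  have h0 : commutator S ≤ φ.ker := by
    rw [commutator_def, Subgroup.commutator_le]
    intro a _ b _
    rw [MonoidHom.mem_ker, map_commutatorElement, commutatorElement_eq_one_iff_mul_comm]
    exact Subgroup.mem_center_iff.1 (hc b) _
  have h2 : T s * g * (T s)⁻¹ * g⁻¹ = 1 := h0 (hp ▸ Subgroup.mem_top s)
  rwa [mul_inv_eq_one, mul_inv_eq_iff_eq_mul] at h2

theorem main {F : Type*} [Field F] {n : ℕ} (hp : commutator (Matrix.SpecialLinearGroup (Fin n) F) = ⊤)
    [IsSimpleGroup (Matrix.ProjectiveSpecialLinearGroup (Fin n) F)]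
    (G : Subgroup (Matrix.GeneralLinearGroup (Fin n) F)) (hG : ∀ s : Matrix.SpecialLinearGroup (Fin n) F, ∀ g ∈ G, (Matrix.SpecialLinearGroup.toGL s) * g * (Matrix.SpecialLinearGroup.toGL s)⁻¹ ∈ G) : (∀ g ∈ G, ∃ c : F, (g : Matrix (Fin n) (Fin n) F) = c • (1 : Matrix (Fin n) (Fin n) F)) ∨ (Matrix.SpecialLinearGroup.toGL : Matrix.SpecialLinearGroup (Fin n) F →* _).range ≤ G := by
  set T : Matrix.SpecialLinearGroup (Fin n) F →* GL (Fin n) F := Matrix.SpecialLinearGroup.toGL with hT
  haveI : (G.comap T).Normal := ⟨fun m hm s => by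
    rw [Subgroup.mem_comap] at hm ⊢
    simpa using hG s _ hm⟩
  haveI : IsSimpleGroup (Matrix.SpecialLinearGroup (Fin n) F ⧸ Subgroup.center _) := ‹_›
  rcases normal_cases hp (G.comap T) with h | h
  · left
    intro g hg
    have hc : ∀ s, T s * g * (T s)⁻¹ * g⁻¹ ∈ Subgroup.center (GL (Fin n) F) := by
      intro s
      have hd : ((T s * g * (T s)⁻¹ * g⁻¹ : GL (Fin n) F) : Matrix (Fin n) (Fin n) F).det = 1 := by
        have : Matrix.GeneralLinearGroup.det (T s * g * (T s)⁻¹ * g⁻¹) = 1 := by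
          simp only [map_mul, map_inv]
          rw [mul_comm (Matrix.GeneralLinearGroup.det (T s))]
          group
        exact congrArg Units.val this
      let m : Matrix.SpecialLinearGroup (Fin n) F := ⟨_, hd⟩
      have hm : T m = T s * g * (T s)⁻¹ * g⁻¹ := by
        ext i j; rfl
      have hm2 : m ∈ G.comap T := by
        rw [Subgroup.mem_comap, hm]
        exact mul_mem (hG s g hg) (inv_mem hg)
      obtain ⟨r, -, hr⟩ := Matrix.SpecialLinearGroup.mem_center_iff.1 (h hm2)
      exact Matrix.GeneralLinearGroup.mem_center_iff_val_mem_range_scalar.2 ⟨r, hr⟩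
    have hφ := trick hp T g hc
    obtain ⟨r, hr⟩ : (g : Matrix (Fin n) (Fin n) F) ∈ Set.range (Matrix.scalar (Fin n)) := by
      refine Matrix.mem_range_scalar_of_commute_transvectionStruct fun t => ?_
      exact congrArg Units.val (hφ ⟨t.toMatrix, by simp⟩)
    exact ⟨r, by rw [← hr, Matrix.scalar_apply, Matrix.smul_one_eq_diagonal]⟩
  · right
    rintro _ ⟨s, rfl⟩
    exact (h ▸ Subgroup.mem_top s : s ∈ G.comap T)


/-- Let F be a finite field and n ≥ 1, excluding the case n = 2 with #F ≤ 3. A subgroup of GL_n(F) that is normalized by every element of SL_n(F) either consists of scalar matrices or contains SL_n(F). -/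
theorem result {F : Type*} [Field F] [Fintype F] (n : ℕ) (hn : 1 ≤ n) (hex : ¬ (n = 2 ∧ Fintype.card F ≤ 3)) (G : Subgroup (Matrix.GeneralLinearGroup (Fin n) F)) (hG : ∀ s : Matrix.SpecialLinearGroup (Fin n) F, ∀ g ∈ G, (Matrix.SpecialLinearGroup.toGL s) * g * (Matrix.SpecialLinearGroup.toGL s)⁻¹ ∈ G) : (∀ g ∈ G, ∃ c : F, (g : Matrix (Fin n) (Fin n) F) = c • (1 : Matrix (Fin n) (Fin n) F)) ∨ (Matrix.SpecialLinearGroup.toGL : Matrix.SpecialLinearGroup (Fin n) F →* _).range ≤ G := by
  rcases Nat.lt_or_ge n 3 with h3 | h3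
  · obtain rfl | rfl : n = 1 ∨ n = 2 := by omega
    · left
      intro g _
      refine ⟨(g : Matrix (Fin 1) (Fin 1) F) 0 0, ?_⟩
      ext i j
      fin_cases i; fin_cases j; simp
    · have h4 : 4 ≤ Nat.card F := by
        rw [Nat.card_eq_fintype_card]; by_contra h; exact hex ⟨rfl, by omega⟩
      obtain ⟨a, ha, ha2⟩ : ∃ a : F, a ≠ 0 ∧ a ^ 2 ≠ 1 := by
        obtain ⟨x, hx⟩ : IsCyclic Fˣ := by infer_instance
        refine ⟨x, Units.ne_zero x, fun h ↦ ?_⟩
        grw [Nat.card_eq_card_units_add_one F, ← orderOf_eq_card_of_forall_mem_zpowers hx,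
          orderOf_le_of_pow_eq_one zero_lt_two (Units.ext <| by simpa using h)] at h4
        omega
      haveI := Matrix.ProjectiveSpecialLinearGroup.rank_two_simple h4
      exact main (Matrix.SL2.commutator_eq_top ha ha2) G hG
  · haveI := Lin.simple_PSL (F := F) (ι := Fin n) (by simpa using h3)
    exact main (Lin.commutator_SL (by simpa using h3)) G hG

end Cfsg.Agent.S2540
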