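import Cfsg.Statements.S2541

set_option autoImplicit false
open Cfsg

namespace Cfsg.Agent.S2541

theorem pow60 (x : Equiv.Perm (Fin 6)) : x ^ 60 = 1 := by
  rw [← orderOf_dvd_iff_pow_eq_one, ← Equiv.Perm.lcm_cycleType, Multiset.lcm_dvd]
  intro b hb
  have h1 := Equiv.Perm.two_le_of_mem_cycleType hb
  have h2 := (Equiv.Perm.le_card_support_of_mem_cycleType hb).trans (Finset.card_le_univ _)
  simp only [Fintype.card_fin] at h2
  interval_cases b <;> norm_num


/-- Let F be a field with 9 elements. The symmetric group S_6 is not isomorphic to PGL_2(F) (although both have index-2 subgroups isomorphic to A_6). -/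
theorem result {F : Type*} [Field F] [Fintype F] (hF : Fintype.card F = 9) : ¬ Nonempty (Equiv.Perm (Fin 6) ≃* Matrix.ProjGenLinGroup (Fin 2) F) := by
  classical
  rintro ⟨e⟩
  obtain ⟨g, hg⟩ : IsCyclic Fˣ := inferInstance
  have ho : orderOf g = 8 := by
    rw [orderOf_eq_card_of_forall_mem_zpowers hg, Nat.card_eq_fintype_card, Fintype.card_units, hF]
  let D : GL (Fin 2) F := Matrix.GeneralLinearGroup.mkOfDetNeZero (Matrix.diagonal ![(g : F), 1])
    (by simp [Matrix.det_diagonal])
  have h1 : (Matrix.ProjGenLinGroup.mk D) ^ 60 = 1 := by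
    rw [← e.apply_symm_apply (Matrix.ProjGenLinGroup.mk D), ← map_pow, pow60, map_one]
  rw [← map_pow, ← MonoidHom.mem_ker, Matrix.ProjGenLinGroup.ker_mk] at h1
  obtain ⟨r, hr⟩ := Matrix.GeneralLinearGroup.mem_center_iff_val_mem_range_scalar.1 h1
  have hD : ((D ^ 60 : GL (Fin 2) F) : Matrix (Fin 2) (Fin 2) F) = Matrix.diagonal (![(g : F), 1] ^ 60) := by
    rw [Units.val_pow_eq_pow_val, ← Matrix.diagonal_pow]; rfl
  rw [hD] at hr
  have h0 := congrFun (congrFun hr 0) 0
  have h2 := congrFun (congrFun hr 1) 1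
  simp at h0 h2
  have h3 : g ^ 60 = 1 := by
    ext; simp [← h0, h2]
  rw [← orderOf_dvd_iff_pow_eq_one, ho] at h3
  omega

end Cfsg.Agent.S2541
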