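import Cfsg.Statements.S2542
import Mathlib
import Cfsg.Agent.Lib.Perm.P2a
import Cfsg.Agent.S0675

set_option autoImplicit false
open Cfsg

namespace Cfsg.Agent.S2542

open Cfsg.Agent.Perm Cfsg.Agent.Perm.GL2 Cfsg.Agent.Perm.Tri Subgroup MulAction

/-- Let F be a field with 11 elements. PSL_2(F) has a subgroup H of index 11 isomorphic to the alternating group A_5, and the action of PSL_2(F) on the cosets of H is 2-transitive (of degree 11). -/
theorem result {F : Type*} [Field F] [Fintype F] (hF : Fintype.card F = 11) : ∃ H : Subgroup (Matrix.ProjectiveSpecialLinearGroup (Fin 2) F), H.index = 11 ∧ Nonempty (H ≃* alternatingGroup (Fin 5)) ∧ MulAction.IsMultiplyPretransitive (Matrix.ProjectiveSpecialLinearGroup (Fin 2) F) ((Matrix.ProjectiveSpecialLinearGroup (Fin 2) F) ⧸ H) 2 := by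
  classical
  obtain ⟨X, ⟨e⟩⟩ := exists_A5' (F := F) (five_dvd_oP.2 (by omega))
  obtain ⟨H, ⟨e⟩⟩ := exists_PSL_of_le (A5_le_PS e) ⟨e⟩
  have h1 : H.index = 11 := by
    have h2 := H.card_mul_index
    have h3 := card_PSL2_mul (F := F)
    rw [Nat.card_congr e.toEquiv, card_A5] at h2
    rw [hF, ← h2] at h3
    norm_num at h3
    omega
  refine ⟨H, h1, ⟨e⟩, ?_⟩
  have := Matrix.ProjectiveSpecialLinearGroup.rank_two_simple (F := F) (by
    rw [Nat.card_eq_fintype_card]; omega)
  have := Fintype.ofFinite (PSL2 F ⧸ H)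
  have : IsPretransitive (toPermHom (PSL2 F) (PSL2 F ⧸ H)).range (PSL2 F ⧸ H) := ⟨fun x y => by
    obtain ⟨g, hg⟩ := exists_smul_eq (PSL2 F) x y
    exact ⟨⟨_, g, rfl⟩, hg⟩⟩
  rcases S0675.result (α := PSL2 F ⧸ H) (by
    rw [← Nat.card_eq_fintype_card, ← index_eq_card, h1]; norm_num)
    (toPermHom (PSL2 F) (PSL2 F ⧸ H)).range with h | h
  · have h2 : (toPermHom (PSL2 F) (PSL2 F ⧸ H)).ker = ⊥ := by
      rw [← normalCore_eq_ker]
      exact Transfer.normalCore_eq_bot_of_simple fun e => by rw [e, index_top] at h1; omega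
    have : Group.IsSolvable (PSL2 F) := solvable_of_solvable_injective
      (f := (toPermHom (PSL2 F) (PSL2 F ⧸ H)).rangeRestrict)
      (MonoidHom.rangeRestrict_injective_iff.2 ((MonoidHom.ker_eq_bot_iff _).1 h2))
    exact (not_solvable_A5 (solvable_of_surjective (f := e.toMonoidHom) e.surjective)).elim
  · refine two_trans_iff.2 fun a b c d h3 h4 => ?_
    obtain ⟨⟨_, g, rfl⟩, hg⟩ := two_trans_iff.1 h a b c d h3 h4
    exact ⟨g, hg⟩

end Cfsg.Agent.S2542
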