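import Cfsg.Statements.S2543
import Mathlib
import Cfsg.Agent.Lib.Perm.P2a

set_option autoImplicit false
open scoped Pointwise
open Cfsg

namespace Cfsg.Agent.S2543

open Cfsg.Agent.Perm Cfsg.Agent.Perm.GL2 Cfsg.Agent.Perm.Tri Subgroup MulAction

/-- Let F be a field with 11 elements. PSL_2(F) has exactly 22 subgroups isomorphic to the alternating group A_5, and they form two conjugacy classes: there are two such subgroups that are not conjugate, and every such subgroup is conjugate to one of these two. -/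
theorem result {F : Type*} [Field F] [Fintype F] (hF : Fintype.card F = 11) : Nat.card {H : Subgroup (Matrix.ProjectiveSpecialLinearGroup (Fin 2) F) // Nonempty (H ≃* alternatingGroup (Fin 5))} = 22 ∧ ∃ H K : Subgroup (Matrix.ProjectiveSpecialLinearGroup (Fin 2) F), Nonempty (H ≃* alternatingGroup (Fin 5)) ∧ Nonempty (K ≃* alternatingGroup (Fin 5)) ∧ (∀ g : Matrix.ProjectiveSpecialLinearGroup (Fin 2) F, MulAut.conj g • H ≠ K) ∧ ∀ L : Subgroup (Matrix.ProjectiveSpecialLinearGroup (Fin 2) F), Nonempty (L ≃* alternatingGroup (Fin 5)) → ∃ g : Matrix.ProjectiveSpecialLinearGroup (Fin 2) F, MulAut.conj g • L = H ∨ MulAut.conj g • L = K := by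
  classical
  have h2 : (2 : F) ≠ 0 := two_ne_zero_of_odd (by rw [hF]; decide)
  obtain ⟨X, ⟨e⟩⟩ := exists_A5' (F := F) (five_dvd_oP.2 (by omega))
  have hN := normalizer_A5_eleven hF e
  have hc : ∀ c : PGL2 F, Nonempty (cjs c X ≃* alternatingGroup (Fin 5)) := fun c =>
    ⟨(cjsEquiv c X).symm.trans e⟩
  have hm : ∀ c : PGL2 F, ((cjs c X).comap io).map io = cjs c X := fun c =>
    map_comap_io (A5_le_PS (hc c).some)
  have hi : ∀ c : PGL2 F, Nonempty ((cjs c X).comap io ≃* alternatingGroup (Fin 5)) := fun c =>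
    ⟨(ioEquiv _).trans ((MulEquiv.subgroupCongr (hm c)).trans (hc c).some)⟩
  have hall : ∀ L : Subgroup (PSL2 F), Nonempty (L ≃* alternatingGroup (Fin 5)) →
      ∃ c, L.map io = cjs c X := fun L ⟨e'⟩ => rigid_A5 h2 e ((ioEquiv L).symm.trans e')
  have heq : ∀ c d : PGL2 F, cjs c X = cjs d X ↔ d⁻¹ * c ∈ X := fun c d => by
    rw [← hN, ← cjs_eq_iff, hN, cjs_mul]
    exact ⟨fun h => by rw [h, cjs_inv_cjs], fun h => by rw [← cjs_cjs_inv d (cjs c X), h]⟩
  have hsm : ∀ (g : PSL2 F) (L : Subgroup (PSL2 F)), MulAut.conj g • L = cjs g L := fun _ _ => rfl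
  constructor
  · have h3 := Transfer.cnt_eq_mul_of_fiber (p := fun _ : PGL2 F => True)
      (q := fun L : Subgroup (PSL2 F) => Nonempty (L ≃* alternatingGroup (Fin 5)))
      (fun c => (cjs c X).comap io) (n := 60) (fun c _ => hi c) (fun L hL => by
        obtain ⟨d, hd⟩ := hall L hL
        rw [← card_A5, ← Nat.card_congr e.toEquiv]
        refine (Transfer.cnt_eq_of_bij (p := fun x => x ∈ X) (fun x => d * x) (fun x hx => ⟨trivial, ?_⟩)
          (fun x y _ _ h => mul_left_cancel h) fun c hc => ⟨d⁻¹ * c, ?_, by simp⟩).symm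
        · rw [← heq, ← hd, ← hc.2, hm]
        · rw [(heq (d * x) d).2 (by simpa using hx), ← hd, comap_map_eq_self_of_injective io_injective])
    rw [Transfer.cnt_true, card_PGL2, hF] at h3
    exact Nat.eq_of_mul_eq_mul_right (by norm_num : 0 < 60) h3.symm
  · obtain ⟨c, hc⟩ : ∃ c, c ∉ PS F := by
      by_contra h
      push Not at h
      have := index_PS (F := F)
      rw [(eq_top_iff' (PS F)).2 h, index_top, hF] at this
      norm_num at this
    refine ⟨(cjs 1 X).comap io, (cjs c X).comap io, hi _, hi _, fun g h => hc ?_, fun L hL => ?_⟩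
    · rw [hsm, eq_comm, eq_cjs_iff, hm, hm, ← cjs_mul, heq] at h
      exact (mul_mem_cancel_left (inv_mem (mul_mem (io_mem g) (one_mem _)))).1 (A5_le_PS e h)
    · obtain ⟨d, hd⟩ := hall L hL
      by_cases h : d ∈ PS F
      · obtain ⟨g, hg⟩ := exists_io (inv_mem h)
        exact ⟨g, Or.inl (by rw [hsm, eq_comm, eq_cjs_iff, hm, hd, hg, ← cjs_mul, inv_mul_cancel])⟩
      · obtain ⟨g, hg⟩ := exists_io (mul_mem_PS hc (mt inv_mem_iff.1 h))
        exact ⟨g, Or.inr (by rw [hsm, eq_comm, eq_cjs_iff, hm, hd, hg, ← cjs_mul, inv_mul_cancel_right])⟩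

end Cfsg.Agent.S2543
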