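import Cfsg.Statements.S2546
import Cfsg.Agent.Lib.Chev.Cl12
import Cfsg.Agent.S0281

set_option autoImplicit false
open Cfsg

namespace Cfsg.Agent.S2546

/-- Let F be a finite field of characteristic p and consider the projective special unitary group PSU_n(q), n ≥ 2, realised over the field F with q² elements. This group has an irreducible complex character χ whose degree equals the order of a Sylow p-subgroup (namely q^(n(n−1)/2)) and whose restriction to any Sylow p-subgroup P is the regular character of P: χ vanishes on the non-identity elements of P. (This is the Steinberg character.) -/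
theorem result {F : Type*} [Field F] [Fintype F] (p : ℕ) [Fact p.Prime] [CharP F p] (n q : ℕ) (hn : 2 ≤ n) (hF : Fintype.card F = q ^ 2) : ∃ χ : Cfsg.PSU n F q → ℂ, Cfsg.IsIrrCharacter (Cfsg.PSU n F q) χ ∧ ∀ P : Sylow p (Cfsg.PSU n F q), χ 1 = Nat.card P ∧ ∀ x : Cfsg.PSU n F q, x ∈ P → x ≠ 1 → χ x = 0 := by
  open Cfsg.Agent.Classical Cfsg.Agent.Chev in
  refine Stein.out (LieT.stein (LieT.quot ?_))
  obtain rfl | h := hn.eq_or_lt
  · obtain ⟨r, k, hr, _, rfl, hk⟩ := exists_pow_of_card_sq hF
    obtain rfl : p = r := CharP.eq F ‹CharP F p› ‹CharP F r›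
    have := Fintype.ofFinite (GaloisField p k)
    exact (lieT_sl le_rfl (GaloisField p k) p).congr (S0281.result hF (by rw [← Nat.card_eq_fintype_card, GaloisField.card p k (by omega)])).some.symm
  · exact lieT_su p h hF

end Cfsg.Agent.S2546
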