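import Cfsg.Statements.S2566
import Cfsg.Agent.Lib.Classical.F2

set_option autoImplicit false
open Cfsg

namespace Cfsg.Agent.S2566
open Cfsg.Agent.Classical

abbrev I4 := Fin 2 ⊕ Fin 2
def row : I4 → Fin 2 := Sum.elim ![0, 0] ![1, 1]
def col : I4 → Fin 2 := Sum.elim ![0, 1] ![1, 0]
def r (g : Equiv.Perm (Fin 3)) (i j : Fin 2) : ZMod 2 :=
  (if g j.castSucc = i.castSucc then 1 else 0) + (if g 2 = i.castSucc then 1 else 0)
def MA (g : Equiv.Perm (Fin 3)) : Matrix I4 I4 (ZMod 2) :=
  Matrix.of fun p q => if col p = col q then r g (row p) (row q) else 0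
def MB (g : Equiv.Perm (Fin 3)) : Matrix I4 I4 (ZMod 2) :=
  Matrix.of fun p q => if row p = row q then r g (col p) (col q) else 0
def MT : Matrix I4 I4 (ZMod 2) := Matrix.of fun p q => if row p = col q ∧ col p = row q then 1 else 0

def hA : Equiv.Perm (Fin 3) →* Matrix I4 I4 (ZMod 2) := ⟨⟨MA, by decide +kernel⟩, by
  intro a b; revert a b; decide +kernel⟩
def hB : Equiv.Perm (Fin 3) →* Matrix I4 I4 (ZMod 2) := ⟨⟨MB, by decide +kernel⟩, by
  intro a b; revert a b; decide +kernel⟩

abbrev O4 := isometryGroup (ZMod 2) (quadFormPlus 2 (ZMod 2))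

theorem memA : ∀ (g : Equiv.Perm (Fin 3)) (v : I4 → ZMod 2),
    quadFormPlus 2 (ZMod 2) ((MA g).mulVec v) = quadFormPlus 2 (ZMod 2) v := by decide +kernel
theorem memB : ∀ (g : Equiv.Perm (Fin 3)) (v : I4 → ZMod 2),
    quadFormPlus 2 (ZMod 2) ((MB g).mulVec v) = quadFormPlus 2 (ZMod 2) v := by decide +kernel
theorem memT : ∀ (v : I4 → ZMod 2),
    quadFormPlus 2 (ZMod 2) (MT.mulVec v) = quadFormPlus 2 (ZMod 2) v := by decide +kernel

def fA : Equiv.Perm (Fin 3) →* O4 := hA.toHomUnits.codRestrict _ fun g => mem_isometryGroup.2 (memA g)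
def fB : Equiv.Perm (Fin 3) →* O4 := hB.toHomUnits.codRestrict _ fun g => mem_isometryGroup.2 (memB g)
def T : O4 := ⟨⟨MT, MT, by decide +kernel, by decide +kernel⟩, mem_isometryGroup.2 memT⟩

theorem comm : ∀ a b, MA a * MB b = MB b * MA a := by decide +kernel
theorem inj : ∀ a b, MA a * MB b = 1 → a = 1 ∧ b = 1 := by decide +kernel
theorem conj : ∀ a, MT * MA a * MT = MB a := by decide +kernel


/-- The full orthogonal group of the plus-type form x₁y₁ + x₂y₂ in dimension 4 over the field of two elements has order 72 and is isomorphic to the wreath product of the symmetric group of degree 3 by a group of order 2: it has a normal subgroup isomorphic to the direct product of two symmetric groups of degree 3, of index 2, whose two direct factors are interchanged by conjugation by some element. -/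
theorem result :
    Nat.card ↥(Cfsg.isometryGroup (ZMod 2) (Cfsg.quadFormPlus 2 (ZMod 2))) = 72 ∧
    ∃ (A B : Subgroup ↥(Cfsg.isometryGroup (ZMod 2) (Cfsg.quadFormPlus 2 (ZMod 2)))),
      Nonempty (↥A ≃* Equiv.Perm (Fin 3)) ∧ Nonempty (↥B ≃* Equiv.Perm (Fin 3)) ∧ A ⊓ B = ⊥ ∧ (∀ a ∈ A, ∀ b ∈ B, a * b = b * a) ∧
      (A ⊔ B).index = 2 ∧ ∃ g : ↥(Cfsg.isometryGroup (ZMod 2) (Cfsg.quadFormPlus 2 (ZMod 2))), A.map (MulAut.conj g).toMonoidHom = B := by
  have hc : Nat.card O4 = 72 := by
    have := card_orth_even (F := ZMod 2) (Or.inl rfl) 1 (plusForm 2 (ZMod 2)) (plusForm_nondeg _) (plusForm_isType _)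
    rw [← Nat.card_congr (orthEquiv (plusForm 2 (ZMod 2))).toEquiv] at this
    simp only [Nat.card_zmod] at this
    norm_num at this
    exact_mod_cast this
  have hcomm : ∀ a b, Commute (fA a) (fB b) := fun a b => Subtype.ext (Units.ext (comm a b))
  have hinj : Function.Injective (fA.noncommCoprod fB hcomm) := by
    rw [injective_iff_map_eq_one]
    rintro ⟨a, b⟩ h
    obtain ⟨rfl, rfl⟩ := inj a b (congrArg (fun g : O4 => (g.1 : Matrix I4 I4 (ZMod 2))) h)
    rfl
  obtain ⟨h1, h2, h3⟩ := (MonoidHom.noncommCoprod_injective _ _ _).1 hinj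
  refine ⟨hc, fA.range, fB.range, ⟨(MonoidHom.ofInjective h1).symm⟩, ⟨(MonoidHom.ofInjective h2).symm⟩,
    h3.eq_bot, ?_, ?_, T, ?_⟩
  · rintro _ ⟨a, rfl⟩ _ ⟨b, rfl⟩; exact hcomm a b
  · rw [← MonoidHom.noncommCoprod_range _ _ hcomm]
    have h4 := (fA.noncommCoprod fB hcomm).range.card_mul_index
    rw [hc, ← Nat.card_congr (MonoidHom.ofInjective hinj).toEquiv] at h4
    simp only [Nat.card_prod, Nat.card_perm, Nat.card_eq_fintype_card, Fintype.card_fin, Fintype.card_perm,
      Fintype.card_prod, Nat.factorial] at h4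
    omega
  · rw [MonoidHom.map_range]
    congr 1
    ext1 a
    exact Subtype.ext (Units.ext (conj a))

end Cfsg.Agent.S2566
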