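import Cfsg.Statements.S2548
import Cfsg.Agent.Lib.Chev.Cl6
import Cfsg.Agent.S2566
import Cfsg.Agent.S0250

set_option autoImplicit false
open Cfsg

namespace Cfsg.Agent.S2548

open Cfsg.Agent.Classical Cfsg.Agent.Chev S2566 in
open scoped commutatorElement in
theorem stein22 : Stein 2 (POmega (ZMod 2) (quadFormPlus 2 (ZMod 2))) := by
  have hcomm : ∀ a b, Commute (fA a) (fB b) := fun a b => Subtype.ext (Units.ext (comm a b))
  let ψ := fA.noncommCoprod fB hcomm
  have hinj : Function.Injective ψ := by
    rw [injective_iff_map_eq_one]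
    rintro ⟨a, b⟩ h
    obtain ⟨rfl, rfl⟩ := inj a b (congrArg (fun g : O4 => (g.1 : Matrix I4 I4 (ZMod 2))) h)
    rfl
  let L : Subgroup (Equiv.Perm (Fin 3) × Equiv.Perm (Fin 3)) :=
    (Equiv.Perm.sign.comp (MonoidHom.fst _ _)).eqLocus (Equiv.Perm.sign.comp (MonoidHom.snd _ _))
  have hL : Nat.card (L.map ψ) = 18 := by
    rw [Subgroup.card_map_of_injective hinj]
    exact (Nat.card_eq_fintype_card (α := {x : Equiv.Perm (Fin 3) × Equiv.Perm (Fin 3) // x.1.sign = x.2.sign})).trans (by decide +kernel)
  have hT : ∀ a, T * fA a * T⁻¹ = fB a := fun a => Subtype.ext (Units.ext (conj a))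
  have hT2 : T * T = 1 := Subtype.ext (Units.ext T.1.3)
  have h2 : ψ.range.index = 2 := by
    have h4 := ψ.range.card_mul_index
    rw [S2566.result.1, ← Nat.card_congr (MonoidHom.ofInjective hinj).toEquiv] at h4
    simp only [Nat.card_prod, Nat.card_eq_fintype_card, Fintype.card_fin, Fintype.card_perm, Fintype.card_prod, Nat.factorial] at h4
    omega
  have h3 : T ∉ ψ.range := fun ⟨x, e⟩ => (by decide +kernel : ∀ a b, MA a * MB b ≠ MT) x.1 x.2
    (congrArg (fun g : O4 => (g.1 : Matrix I4 I4 (ZMod 2))) e)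
  have h4 : ∀ x, T * ψ x * T⁻¹ = ψ x.swap := fun x => by
    have := hT x.2
    simp only [ψ, MonoidHom.noncommCoprod_apply, Prod.fst_swap, Prod.snd_swap]
    rw [(hcomm _ _).eq, ← hT, ← hT, inv_eq_of_mul_eq_one_right hT2]
    simp only [mul_assoc, ← mul_assoc T T, hT2, one_mul, mul_one]
  have : (L.map ψ).Normal := ⟨by
    rintro _ ⟨x, hx, rfl⟩ g
    have h5 : ∀ y, ∀ x ∈ L, ψ y * ψ x * (ψ y)⁻¹ ∈ L.map ψ := fun y x hx => ⟨y * x * y⁻¹, by
      have : Equiv.Perm.sign x.1 = Equiv.Perm.sign x.2 := hx
      show Equiv.Perm.sign (y.1 * x.1 * y.1⁻¹) = Equiv.Perm.sign (y.2 * x.2 * y.2⁻¹)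
      simp [this, mul_right_comm], by simp only [map_mul, map_inv]⟩
    by_cases e : g ∈ ψ.range
    · obtain ⟨y, rfl⟩ := e
      exact h5 y x hx
    obtain ⟨y, e⟩ := (Subgroup.mul_mem_iff_of_index_two h2 (a := g) (b := T⁻¹)).2 (by simp only [e, inv_mem_iff, h3])
    simpa only [← h4, e, mul_inv_rev, inv_inv, mul_assoc, inv_mul_cancel_left] using h5 y x.swap hx.symm⟩
  have hK : commutator O4 ≤ L.map ψ := Subgroup.Normal.quotient_commutative_iff_commutator_le.1 (IsPGroup.isMulCommutative_of_card_eq_prime_sq (p := 2) (by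
    have := (L.map ψ).card_mul_index
    rw [S2566.result.1, hL, Subgroup.index] at this; omega))
  let f : commutator O4 →* Equiv.Perm (Fin 3) := (MonoidHom.fst _ _).comp ((MonoidHom.ofInjective hinj).symm.toMonoidHom.comp
    (Subgroup.inclusion (hK.trans (Subgroup.map_le_range _ _))))
  have hf : Function.Surjective f := fun a => ⟨⟨⁅T, fA a⁻¹⁆, Subgroup.commutator_mem_commutator trivial trivial⟩,
    congrArg Prod.fst ((MulEquiv.symm_apply_eq (MonoidHom.ofInjective hinj) (y := (a, a⁻¹))).2 (Subtype.ext (by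
      show ⁅T, fA a⁻¹⁆ = fA a * fB a⁻¹
      rw [commutatorElement_def, hT, ← map_inv, inv_inv, (hcomm _ _).eq])))⟩
  have hz : Subgroup.center (commutator O4) ≤ f.ker := fun g hg => (by decide : ∀ a : Equiv.Perm (Fin 3), (∀ b, b * a = a * b) → a = 1) _ fun b => by
    obtain ⟨b, rfl⟩ := hf b
    rw [← map_mul, Subgroup.mem_center_iff.1 hg, map_mul]
  have hf' := QuotientGroup.lift_surjective_of_surjective _ f hf hz
  refine ((lieT_sl le_rfl (ZMod 2) 2).stein.congr (S0250.result (ZMod.card 2)).some.symm).comp _ hf' fun e => ?_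
  have h5 := (QuotientGroup.lift _ f hz).ker.card_mul_index
  rw [Subgroup.index_ker, MonoidHom.range_eq_top_of_surjective _ hf', Subgroup.card_top, Nat.card_eq_fintype_card (α := Equiv.Perm _),
    Fintype.card_perm] at h5
  have := (mul_dvd_mul_right e _).trans (h5 ▸ (Subgroup.card_quotient_dvd_card _).trans (hL ▸ Subgroup.card_dvd_of_le hK))
  revert this; decide

/-- Let F be a finite field of characteristic p and consider the group PΩ⁺_{2m}(F) of the hyperbolic quadratic form Σ x_i y_i with m ≥ 1, where Ω denotes the commutator subgroup of the full isometry group. This group has an irreducible complex character χ whose degree equals the order of a Sylow p-subgroup (equal to q^(m(m−1)) when #F = q, except in the degenerate case m = 2, q = 2, where this commutator subgroup has order 18 and its Sylow 2-subgroups have order 2) and whose restriction to any Sylow p-subgroup P is the regular character of P: χ vanishes on the non-identity elements of P. (This is the Steinberg character.) -/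
theorem result {F : Type*} [Field F] [Fintype F] (p : ℕ) [Fact p.Prime] [CharP F p] (m : ℕ) (hm : 1 ≤ m) : ∃ χ : Cfsg.POmega F (Cfsg.quadFormPlus m F) → ℂ, Cfsg.IsIrrCharacter (Cfsg.POmega F (Cfsg.quadFormPlus m F)) χ ∧ ∀ P : Sylow p (Cfsg.POmega F (Cfsg.quadFormPlus m F)), χ 1 = Nat.card P ∧ ∀ x : Cfsg.POmega F (Cfsg.quadFormPlus m F), x ∈ P → x ≠ 1 → χ x = 0 := by
  open Cfsg.Agent.Classical Cfsg.Agent.Chev in
  refine Stein.out ?_
  rcases m with _ | _ | _ | m
  · omega
  · have h := card_orth_even (.inl rfl) 0 (plusForm 1 F) (plusForm_nondeg _) (plusForm_isType _)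
    rw [← Nat.card_congr (orthEquiv (plusForm 1 F)).toEquiv, plusForm_N] at h
    obtain ⟨f, hp, hf⟩ := FiniteField.card F p
    have h1 : ¬ p ∣ Fintype.card F - 1 := fun e =>
      hp.not_dvd_one ((Nat.dvd_sub_iff_right Fintype.card_pos (hf ▸ dvd_pow_self p f.ne_zero)).1 e)
    have h2 : Nat.card (isometryGroup F (quadFormPlus 1 F)) = 2 * (Fintype.card F - 1) := by
      have := Fintype.card_pos (α := F)
      zify [this]; simpa using h
    refine .of_not_dvd fun e => ?_
    replace e := e.trans (Subgroup.card_quotient_dvd_card _)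
    by_cases h3 : p = 2
    · subst h3
      obtain ⟨P⟩ : Nonempty (Sylow 2 (isometryGroup F (quadFormPlus 1 F))) := inferInstance
      have h4 : Nat.card P = 2 := by
        rw [P.card_eq_multiplicity, h2, Nat.factorization_mul two_ne_zero (by intro e; exact h1 (e ▸ dvd_zero _)), Finsupp.add_apply,
          Nat.factorization_eq_zero_of_not_dvd h1, hp.factorization_self]; rfl
      have := isCyclic_of_prime_card h4
      have h5 := IsCyclic.isComplement' (P := P) (by rw [h2]; exact (Nat.minFac_eq_two_iff _).2 (dvd_mul_right _ _)) this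
      have h6 := h5.card_mul_card.trans h2
      rw [h4, mul_comm, mul_right_inj' two_ne_zero] at h6
      exact h1 (h6 ▸ e.trans (Subgroup.card_dvd_of_le (letI := this.commGroup; Abelianization.commutator_subset_ker _)))
    · exact ((hp.dvd_mul.1 (h2 ▸ e.trans (Subgroup.card_subgroup_dvd_card _))).resolve_right h1 |> (Nat.prime_dvd_prime_iff_eq hp Nat.prime_two).1 |> h3)
  · by_cases h : 3 ≤ Fintype.card F
    · exact ((lieT_sl le_rfl F p).quot.stein.prod (lieT_sl le_rfl F p).quot.stein).congr (iso_four_plus h).some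
    have h2 : Fintype.card F = 2 := by have := Fintype.one_lt_card (α := F); omega
    let e := ZMod.ringEquivOfPrime F Nat.prime_two h2
    obtain rfl : p = 2 := CharP.eq F inferInstance (charP_of_injective_ringHom (f := e.toRingHom) e.injective 2)
    refine stein22.congr (nonempty_central_quot_equiv (commutatorCongr ?_)).some
    let E := Units.mapEquiv (e.mapMatrix (m := Fin 2 ⊕ Fin 2)).toMulEquiv
    refine (MulEquiv.subgroupCongr (Subgroup.ext fun g => ?_)).trans (E.subgroupMap _).symm
    obtain ⟨g, rfl⟩ := E.surjective g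
    have h3 : ∀ v, quadFormPlus 2 F (e ∘ v) = e (quadFormPlus 2 _ v) := fun v => by simp [quadFormPlus]
    have h4 : ∀ v, (g.1.map e).mulVec (e ∘ v) = e ∘ g.1.mulVec v := fun v => funext fun i => (RingHom.map_mulVec e.toRingHom _ _ _).symm
    refine .trans ?_ (Subgroup.mem_map_iff_mem (MulEquiv.injective _)).symm
    simp only [mem_isometryGroup]
    refine ⟨fun h v => e.injective ?_, fun h v => ?_⟩
    · rw [← h3, ← h3, ← h4]; exact h _
    · obtain ⟨v, rfl⟩ : ∃ u, v = e ∘ u := ⟨e.symm ∘ v, by ext; simp⟩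
      exact (congrArg _ (h4 v)).trans (by rw [h3, h3, h])
  exact (Cl.lieT_plus F p (by omega)).stein

end Cfsg.Agent.S2548
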