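import Cfsg.Statements.S2549
import Cfsg.Agent.Lib.Chev.Cl13

set_option autoImplicit false
open Cfsg

namespace Cfsg.Agent.S2549

/-- Let F be a finite field of characteristic p and consider the group PΩ⁻_{2m+2}(F) of the quadratic form Σ_{i<m} x_i y_i + (z₁² + a z₁ z₂ + b z₂²) with anisotropic binary part, m ≥ 0. This group has an irreducible complex character χ whose degree equals the order of a Sylow p-subgroup (namely q^(m(m+1)) when #F = q) and whose restriction to any Sylow p-subgroup P is the regular character of P: χ vanishes on the non-identity elements of P. (This is the Steinberg character.) -/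
theorem result {F : Type*} [Field F] [Fintype F] (p : ℕ) [Fact p.Prime] [CharP F p] (m : ℕ) (a b : F) (hab : ∀ z₁ z₂ : F, z₁ ^ 2 + a * z₁ * z₂ + b * z₂ ^ 2 = 0 → z₁ = 0 ∧ z₂ = 0) : ∃ χ : Cfsg.POmega F (Cfsg.quadFormMinus m F a b) → ℂ, Cfsg.IsIrrCharacter (Cfsg.POmega F (Cfsg.quadFormMinus m F a b)) χ ∧ ∀ P : Sylow p (Cfsg.POmega F (Cfsg.quadFormMinus m F a b)), χ 1 = Nat.card P ∧ ∀ x : Cfsg.POmega F (Cfsg.quadFormMinus m F a b), x ∈ P → x ≠ 1 → χ x = 0 := by
  open Cfsg.Agent.Classical Cfsg.Agent.Chev in
  refine Stein.out ?_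
  rcases m with _ | _ | m
  · have h := card_orth_even (.inr rfl) 0 (minusForm 0 F a b) (minusForm_nondeg _ hab) (minusForm_isType _ hab)
    rw [← Nat.card_congr (orthEquiv (minusForm 0 F a b)).toEquiv, minusForm_N] at h
    obtain ⟨f, hp, hf⟩ := FiniteField.card F p
    have h1 : ¬ p ∣ Fintype.card F + 1 := fun e => hp.not_dvd_one ((Nat.dvd_add_right (hf ▸ dvd_pow_self p f.ne_zero)).1 e)
    have h2 : Nat.card (isometryGroup F (quadFormMinus 0 F a b)) = 2 * (Fintype.card F + 1) := by
      zify; simpa using h
    refine .of_not_dvd fun e => ?_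
    replace e := e.trans (Subgroup.card_quotient_dvd_card _)
    by_cases h3 : p = 2
    · subst h3
      obtain ⟨P⟩ : Nonempty (Sylow 2 (isometryGroup F (quadFormMinus 0 F a b))) := inferInstance
      have h4 : Nat.card P = 2 := by
        rw [P.card_eq_multiplicity, h2, Nat.factorization_mul two_ne_zero (by omega), Finsupp.add_apply,
          Nat.factorization_eq_zero_of_not_dvd h1, hp.factorization_self]; rfl
      have := isCyclic_of_prime_card h4
      have h5 := IsCyclic.isComplement' (P := P) (by rw [h2]; exact (Nat.minFac_eq_two_iff _).2 (dvd_mul_right _ _)) this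
      have h6 := h5.card_mul_card.trans h2
      rw [h4, mul_comm, mul_right_inj' two_ne_zero] at h6
      exact h1 (h6 ▸ e.trans (Subgroup.card_dvd_of_le (letI := this.commGroup; Abelianization.commutator_subset_ker _)))
    · exact ((hp.dvd_mul.1 (h2 ▸ e.trans (Subgroup.card_subgroup_dvd_card _))).resolve_right h1 |> (Nat.prime_dvd_prime_iff_eq hp Nat.prime_two).1 |> h3)
  · obtain ⟨K, _, _, _, h2⟩ := exists_quad_ext F
    have := charP_of_injective_algebraMap (algebraMap F K).injective p
    have := Fintype.ofFinite K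
    exact (lieT_sl le_rfl K p).quot.stein.congr (iso_four_minus (by rw [Module.card_eq_pow_finrank (K := F), h2]) hab).some
  exact (Cl.lieT_minus p (by omega) hab).stein

end Cfsg.Agent.S2549
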