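import Cfsg.Statements.S2550
import Cfsg.Agent.Lib.Classical.Small2
import Cfsg.Agent.S0243

set_option autoImplicit false
open Cfsg

namespace Cfsg.Agent.S2550
open Cfsg.Agent.Classical


/-- Let F be a field with 2 elements and K a field with 4 elements. PSL_4(F) and PSL_3(K) have the same order (20160) but are not isomorphic. -/
theorem result {F K : Type*} [Field F] [Fintype F] [Field K] [Fintype K] (hF : Fintype.card F = 2) (hK : Fintype.card K = 4) : Nat.card (Matrix.ProjectiveSpecialLinearGroup (Fin 4) F) = Nat.card (Matrix.ProjectiveSpecialLinearGroup (Fin 3) K) ∧ ¬ Nonempty (Matrix.ProjectiveSpecialLinearGroup (Fin 4) F ≃* Matrix.ProjectiveSpecialLinearGroup (Fin 3) K) := by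
  have h1 := S0243.result hF 4 (by norm_num)
  have h2 := S0243.result hK 3 (by norm_num)
  simp only [Fin.prod_univ_three, Fin.prod_univ_four] at h1 h2
  norm_num at h1 h2
  refine ⟨by omega, fun ⟨e⟩ => ?_⟩
  obtain ⟨e'⟩ := Pres.sl4_two hF
  let g : alternatingGroup (Fin 8) := ⟨c[0, 1, 2] * c[3, 4, 5, 6, 7], by
    rw [Equiv.Perm.mem_alternatingGroup]; decide +kernel⟩
  have : orderOf g = 15 := by
    rw [← Subgroup.orderOf_coe, orderOf_eq_iff (by norm_num)]
    decide +kernel
  exact Pres.psl34_order hK (e ((Pres.pslTwo hF).symm (e'.symm g))) (by simpa using this)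

end Cfsg.Agent.S2550
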