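import Cfsg.Statements.S2551
import Mathlib
import Cfsg.Agent.Lib.Classical.Small1

set_option autoImplicit false
open Cfsg

namespace Cfsg.Agent.S2551

open Matrix MulAction

theorem tr2 {F : Type*} [Field F] {n : ℕ} {v w v' w' : Fin n → F} (h : LinearIndependent F ![v, w])
    (h' : LinearIndependent F ![v', w']) : ∃ g : GL (Fin n) F, g.1 *ᵥ v = v' ∧ g.1 *ᵥ w = w' := by
  let f := h.linearCombinationEquiv.symm ≪≫ₗ h'.linearCombinationEquiv
  obtain ⟨g, hg⟩ := Submodule.exists_linearEquiv_restrict_eq f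
  have k := fun i => hg (h.linearCombinationEquiv (Finsupp.single i 1))
  refine ⟨GeneralLinearGroup.toLin.symm (LinearMap.GeneralLinearGroup.ofLinearEquiv g), ?_⟩
  have e : ∀ x, (GeneralLinearGroup.toLin.symm (LinearMap.GeneralLinearGroup.ofLinearEquiv g)).1 *ᵥ x = g x := fun x =>
    (GeneralLinearGroup.toLin_apply _ x).symm.trans (by rw [MulEquiv.apply_symm_apply]; rfl)
  exact ⟨(e _).trans (by simpa [f] using (k 0).symm), (e _).trans (by simpa [f] using (k 1).symm)⟩

/-- Let F be the field with 2 elements. GL_4(F) (≅ A_8) has a subgroup isomorphic to the alternating group A_7, and every such subgroup acts 2-transitively on the 15 non-zero vectors of F⁴: any ordered pair of distinct non-zero vectors is carried to any other by some element of the subgroup. -/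
theorem result {F : Type*} [Field F] [Fintype F] (hF : Fintype.card F = 2) : (∃ H : Subgroup (Matrix.GeneralLinearGroup (Fin 4) F), Nonempty (H ≃* alternatingGroup (Fin 7))) ∧ ∀ H : Subgroup (Matrix.GeneralLinearGroup (Fin 4) F), Nonempty (H ≃* alternatingGroup (Fin 7)) → ∀ v w v' w' : Fin 4 → F, v ≠ 0 → w ≠ 0 → v ≠ w → v' ≠ 0 → w' ≠ 0 → v' ≠ w' → ∃ g ∈ H, (g : Matrix (Fin 4) (Fin 4) F).mulVec v = v' ∧ (g : Matrix (Fin 4) (Fin 4) F).mulVec w = w' := by
  classical
  refine ⟨?_, fun H ⟨e⟩ => ?_⟩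
  · obtain ⟨e⟩ := Classical.Pres.sl4_two hF
    let s : Finset (Fin 8) := {0}ᶜ
    let φ := (SpecialLinearGroup.toGL.comp e.symm.toMonoidHom).comp ((alternatingGroup.ofSubtype s).comp
      (Fintype.equivFinOfCardEq (show Fintype.card s = 7 by decide)).symm.altCongrHom.toMonoidHom)
    exact ⟨φ.range, ⟨(MonoidHom.ofInjective ((SpecialLinearGroup.toGL_injective.comp e.symm.injective).comp
      (alternatingGroup.ofSubtype_injective.comp (MulEquiv.injective _)))).symm⟩⟩
  have cH : Nat.card H = 2520 := by rw [Nat.card_congr e.toEquiv, nat_card_alternatingGroup]; simp [Nat.factorial]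
  have cG : Nat.card (GL (Fin 4) F) = 20160 := by rw [card_GL_field, hF]; decide
  let P : Set ((Fin 4 → F) × (Fin 4 → F)) := (Finset.univ.erase (0 : Fin 4 → F)).offDiag
  have hP : ∀ x, x ∈ P ↔ x.1 ≠ 0 ∧ x.2 ≠ 0 ∧ x.1 ≠ x.2 := fun x => by simp [P]
  have cP : P.ncard = 210 := by
    rw [Set.ncard_coe_finset, Finset.offDiag_card, Finset.card_erase_of_mem (Finset.mem_univ _), Finset.card_univ,
      Fintype.card_fun, hF, Fintype.card_fin]; norm_num
  have li : ∀ x ∈ P, LinearIndependent F ![x.1, x.2] := fun x hx => by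
    obtain ⟨h1, h2, h3⟩ := (hP x).1 hx
    refine (LinearIndependent.pair_iff' h1).2 fun a h => ?_
    by_cases ha : a = 0
    · exact h2 (by rw [← h, ha, zero_smul])
    · have := FiniteField.pow_card_sub_one_eq_one a ha
      rw [hF, pow_one] at this
      exact h3 (by rw [← h, this, one_smul])
  have sub : ∀ (g : GL (Fin 4) F), ∀ x ∈ P, g • x ∈ P := fun g x hx => by
    obtain ⟨h1, h2, h3⟩ := (hP x).1 hx
    exact (hP _).2 ⟨(smul_ne_zero_iff_ne g).2 h1, (smul_ne_zero_iff_ne g).2 h2, fun h => h3 (smul_left_cancel g h)⟩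
  obtain ⟨t, ht⟩ := exists_prime_orderOf_dvd_card' (G := H) 2 (by rw [cH]; decide)
  obtain ⟨a, ha⟩ : ∃ a : Fin 4 → F, t • a ≠ a := by
    by_contra h
    push Not at h
    have : t = 1 := Subtype.ext (Units.ext (toLin'.injective (LinearMap.ext fun v => (h v).trans (by simp))))
    rw [this, orderOf_one] at ht; omega
  have tt : t • t • a = a := by rw [smul_smul, ← pow_two, ← ht, pow_orderOf_eq_one, one_smul]
  have xP : (a, t • a) ∈ P := (hP _).2 ⟨fun h => ha (by simp [show a = 0 from h]), fun h => ha (by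
    simp [show a = 0 from (smul_eq_zero_iff_eq t).1 h]), ha.symm⟩
  have o1 : orbit (GL (Fin 4) F) (a, t • a) = P := Set.Subset.antisymm (by rintro _ ⟨g, rfl⟩; exact sub g _ xP)
    fun y hy => by
      obtain ⟨g, h1, h2⟩ := tr2 (li _ xP) (li y hy)
      exact ⟨g, Prod.ext h1 h2⟩
  have c1 := (stabilizer (GL (Fin 4) F) (a, t • a)).index_mul_card
  rw [index_stabilizer, o1, cP, cG] at c1
  have c2 := (stabilizer H (a, t • a)).index_mul_card
  have d1 := Subgroup.card_comap_dvd_of_injective (stabilizer (GL (Fin 4) F) (a, t • a)) H.subtype H.subtype_injective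
  change Nat.card (stabilizer H (a, t • a)) ∣ _ at d1
  have sb : orbit H (a, t • a) ⊆ P := by rintro _ ⟨g, rfl⟩; exact sub g _ xP
  have l := Set.ncard_le_ncard sb
  have ev : 2 ∣ (orbit H (a, t • a)).ncard := by
    let f : Function.End (orbit H (a, t • a)) := fun y => ⟨y.1.swap, by
      obtain ⟨_, g, rfl⟩ := y
      exact ⟨g * t, Prod.ext (mul_smul g t a) ((mul_smul g t _).trans (congrArg (g • ·) tt))⟩⟩
    have m := Equiv.Perm.card_fixedPoints_modEq (f := f) (p := 2) (n := 1) rfl
    haveI : IsEmpty (Function.fixedPoints f) := ⟨fun y =>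
      ((hP _).1 (sb y.1.2)).2.2 (congrArg (fun z => z.1.2) y.2)⟩
    rwa [Fintype.card_eq_zero (α := Function.fixedPoints f), ← Nat.card_eq_fintype_card, Nat.card_coe_set_eq,
      Nat.modEq_zero_iff_dvd] at m
  rw [index_stabilizer, cH] at c2
  rw [show Nat.card (stabilizer (GL (Fin 4) F) (a, t • a)) = 96 by omega] at d1
  have o2 : orbit H (a, t • a) = P := Set.eq_of_subset_of_ncard_le sb (by
    have d2 := Nat.dvd_gcd d1 (Dvd.intro_left _ c2)
    have := Nat.le_of_dvd (by norm_num) d2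
    generalize Nat.card (stabilizer H (a, t • a)) = k at *
    have : k ≤ 24 := this
    interval_cases k <;> omega)
  intro v w v' w' h1 h2 h3 h4 h5 h6
  obtain ⟨g, hg⟩ := (orbit_eq_iff.2 (o2.ge ((hP (v, w)).2 ⟨h1, h2, h3⟩))).ge (o2.ge ((hP (v', w')).2 ⟨h4, h5, h6⟩))
  exact ⟨g, g.2, congrArg Prod.fst hg, congrArg Prod.snd hg⟩

end Cfsg.Agent.S2551
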