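import Cfsg.Statements.S2552
import Mathlib

set_option autoImplicit false
open Cfsg

namespace Cfsg.Agent.S2552



/-- Let F be a finite field and n ≥ 1. For every k, the special linear group SL_n(F) acts transitively on the set of k-dimensional subspaces of F^n: any two subspaces of the same dimension are carried onto each other by some matrix of determinant 1. -/
theorem result {F : Type*} [Field F] [Fintype F] (n : ℕ) (hn : 1 ≤ n) (U₁ U₂ : Submodule F (Fin n → F)) (h : Module.finrank F U₁ = Module.finrank F U₂) : ∃ g : Matrix.SpecialLinearGroup (Fin n) F, U₁.map ((Matrix.SpecialLinearGroup.toLin' g : (Fin n → F) ≃ₗ[F] (Fin n → F)) : (Fin n → F) →ₗ[F] (Fin n → F)) = U₂ := by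
  classical
  obtain ⟨e, he⟩ : ∃ e : (Fin n → F) ≃ₗ[F] (Fin n → F), U₁.map (e : (Fin n → F) →ₗ[F] (Fin n → F)) = U₂ := by
    obtain ⟨f⟩ := FiniteDimensional.nonempty_linearEquiv_of_finrank_eq h
    obtain ⟨e, he⟩ := Submodule.exists_linearEquiv_restrict_eq f
    refine ⟨e, ?_⟩
    apply Submodule.eq_of_le_of_finrank_eq
    · rintro _ ⟨x, hx, rfl⟩
      have := he ⟨x, hx⟩
      simp only [LinearEquiv.coe_coe] at this ⊢
      rw [← this]; exact (f ⟨x, hx⟩).2
    · rw [LinearEquiv.finrank_map_eq, h]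
  by_cases h0 : U₁ = ⊥
  · subst h0
    exact ⟨1, by rw [← he]; simp⟩
  obtain ⟨v, hv, hv0⟩ := Submodule.exists_mem_ne_zero_of_ne_bot h0
  obtain ⟨f, hf⟩ := Module.Projective.exists_dual_eq_one F hv0
  have hd : LinearMap.det (e : (Fin n → F) →ₗ[F] (Fin n → F)) ≠ 0 := by
    rw [← LinearEquiv.coe_det]; exact Units.ne_zero _
  set d := LinearMap.det (e : (Fin n → F) →ₗ[F] (Fin n → F))
  let T := (e : (Fin n → F) →ₗ[F] (Fin n → F)) ∘ₗ LinearMap.transvection f ((d⁻¹ - 1) • v)
  have hT : LinearMap.det T = 1 := by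
    rw [LinearMap.det_comp, LinearMap.transvection.det, map_smul, hf]
    simp [d] at hd ⊢
    exact mul_inv_cancel₀ hd
  refine ⟨⟨LinearMap.toMatrix' T, by rw [LinearMap.det_toMatrix', hT]⟩, ?_⟩
  apply Submodule.eq_of_le_of_finrank_eq
  · rintro _ ⟨x, hx, rfl⟩
    show Matrix.toLin' (LinearMap.toMatrix' T) x ∈ U₂
    rw [Matrix.toLin'_toMatrix', ← he]
    refine ⟨_, ?_, rfl⟩
    rw [LinearMap.transvection.apply]
    exact U₁.add_mem hx (U₁.smul_mem _ (U₁.smul_mem _ hv))
  · rw [LinearEquiv.finrank_map_eq, h]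

end Cfsg.Agent.S2552
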