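import Cfsg.Statements.S2561
import Cfsg.Agent.Lib.Classical.F2

set_option autoImplicit false
open Cfsg

namespace Cfsg.Agent.S2561
open Cfsg.Agent.Classical


/-- Fix the non-singular alternating form on the 2m-dimensional space over the field of two elements obtained by polarizing the plus-type form Σ xᵢyᵢ (m ≥ 1). The functions q on the space with q(u + v) = q(u) + q(v) + f(u, v) (the quadratic forms polarizing to f) number 2^(2m); each is equivalent under an invertible linear map either to the plus-type form or to the minus-type form Σ xᵢyᵢ + (z₁² + z₁z₂ + z₂²); and those of plus type number 2^(2m−1) + 2^(m−1), those of minus type 2^(2m−1) − 2^(m−1). -/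
theorem result (m : ℕ) (hm : 1 ≤ m) :
    Nat.card {q : (Fin m ⊕ Fin m → ZMod 2) → ZMod 2 // (∀ u v : (Fin m ⊕ Fin m → ZMod 2), q (u + v) = q u + q v + (Cfsg.quadFormPlus m (ZMod 2) (u + v) - Cfsg.quadFormPlus m (ZMod 2) u - Cfsg.quadFormPlus m (ZMod 2) v))} = 2 ^ (2 * m) ∧
    (∀ q : (Fin m ⊕ Fin m → ZMod 2) → ZMod 2, (∀ u v : (Fin m ⊕ Fin m → ZMod 2), q (u + v) = q u + q v + (Cfsg.quadFormPlus m (ZMod 2) (u + v) - Cfsg.quadFormPlus m (ZMod 2) u - Cfsg.quadFormPlus m (ZMod 2) v)) →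
      (∃ g : (Fin m ⊕ Fin m → ZMod 2) ≃ₗ[ZMod 2] (Fin m ⊕ Fin m → ZMod 2), ∀ v, q v = Cfsg.quadFormPlus m (ZMod 2) (g v)) ∨
      (∃ g : (Fin m ⊕ Fin m → ZMod 2) ≃ₗ[ZMod 2] ((Fin (m - 1) ⊕ Fin (m - 1)) ⊕ Fin 2 → ZMod 2), ∀ v, q v = Cfsg.quadFormMinus (m - 1) (ZMod 2) 1 1 (g v))) ∧
    Nat.card {q : (Fin m ⊕ Fin m → ZMod 2) → ZMod 2 // (∀ u v : (Fin m ⊕ Fin m → ZMod 2), q (u + v) = q u + q v + (Cfsg.quadFormPlus m (ZMod 2) (u + v) - Cfsg.quadFormPlus m (ZMod 2) u - Cfsg.quadFormPlus m (ZMod 2) v)) ∧ ∃ g : (Fin m ⊕ Fin m → ZMod 2) ≃ₗ[ZMod 2] (Fin m ⊕ Fin m → ZMod 2), ∀ v, q v = Cfsg.quadFormPlus m (ZMod 2) (g v)} = 2 ^ (2 * m - 1) + 2 ^ (m - 1) ∧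
    Nat.card {q : (Fin m ⊕ Fin m → ZMod 2) → ZMod 2 // (∀ u v : (Fin m ⊕ Fin m → ZMod 2), q (u + v) = q u + q v + (Cfsg.quadFormPlus m (ZMod 2) (u + v) - Cfsg.quadFormPlus m (ZMod 2) u - Cfsg.quadFormPlus m (ZMod 2) v)) ∧ ∃ g : (Fin m ⊕ Fin m → ZMod 2) ≃ₗ[ZMod 2] ((Fin (m - 1) ⊕ Fin (m - 1)) ⊕ Fin 2 → ZMod 2), ∀ v, q v = Cfsg.quadFormMinus (m - 1) (ZMod 2) 1 1 (g v)} = 2 ^ (2 * m - 1) - 2 ^ (m - 1) := by
  have hB : ∀ u v, quadFormPlus m (ZMod 2) (u + v) - quadFormPlus m (ZMod 2) u - quadFormPlus m (ZMod 2) v =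
      (plusForm m (ZMod 2)).B u v := fun u v => ((plusForm m (ZMod 2)).orth_B u v).symm
  simp only [hB]
  have hP := plusForm_nondeg (F := ZMod 2) m
  have hM := minusForm_nondeg (F := ZMod 2) (m - 1) F2.aniso11
  have ht := plusForm_isType (F := ZMod 2) m
  have ht' := minusForm_isType (F := ZMod 2) (m - 1) F2.aniso11
  rw [show m - 1 + 1 = m by omega] at ht'
  have h1 : ∀ w, (∃ g : (Fin m ⊕ Fin m → ZMod 2) ≃ₗ[ZMod 2] (Fin m ⊕ Fin m → ZMod 2), ∀ v,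
      (F2.shift (plusForm m (ZMod 2)) w).N v = quadFormPlus m (ZMod 2) (g v)) ↔ (plusForm m (ZMod 2)).N w = 0 := fun w => by
    refine (F2.iso_iff _ (plusForm m (ZMod 2))).trans ?_
    rw [F2.iso_iff_type (F2.shift_nondeg hP w) hP (F2.shift_isType ht w) ht, mul_one, F2.chi_eq_one]
  have h2 : ∀ w, (∃ g : (Fin m ⊕ Fin m → ZMod 2) ≃ₗ[ZMod 2] ((Fin (m - 1) ⊕ Fin (m - 1)) ⊕ Fin 2 → ZMod 2), ∀ v,
      (F2.shift (plusForm m (ZMod 2)) w).N v = quadFormMinus (m - 1) (ZMod 2) 1 1 (g v)) ↔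
      ¬ (plusForm m (ZMod 2)).N w = 0 := fun w => by
    refine (F2.iso_iff _ (minusForm (m - 1) (ZMod 2) 1 1)).trans ?_
    rw [F2.iso_iff_type (F2.shift_nondeg hP w) hM (F2.shift_isType ht w) ht', mul_one]
    rcases F2.chi_cases ((plusForm m (ZMod 2)).N w) with ⟨h, h'⟩ | ⟨h, h'⟩ <;> rw [h', h] <;> decide
  have hV : Nat.card (Fin m ⊕ Fin m → ZMod 2) = 2 ^ (2 * m) := by simp [two_mul]
  have h3 : Nat.card {w // (plusForm m (ZMod 2)).N w = 0} = 2 ^ (2 * m - 1) + 2 ^ (m - 1) := by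
    have := F2.two_cnt (plusForm m (ZMod 2)).N
    rw [((F2.isType_iff _ _ _).1 ht).2, hV] at this
    obtain ⟨n, rfl⟩ : ∃ n, m = n + 1 := ⟨m - 1, by omega⟩
    rw [show 2 * (n + 1) - 1 = 2 * n + 1 by omega, Nat.add_sub_cancel]
    zify
    push_cast at this
    have e1 : (2 : ℤ) ^ (2 * (n + 1)) = 2 * 2 ^ (2 * n + 1) := by ring
    have e2 : (2 : ℤ) ^ (n + 1) = 2 * 2 ^ n := by ring
    linarith
  refine ⟨?_, fun q hq => ?_, ?_, ?_⟩
  · have := F2.card_shift hP fun _ => True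
    simp only [and_true] at this
    rw [this, ← hV]
    exact Nat.card_congr (Equiv.subtypeUnivEquiv fun _ => trivial)
  · obtain ⟨w, rfl⟩ := F2.exists_shift hP hq
    rw [h1, h2]; exact em _
  · rw [F2.card_shift hP]
    simp only [h1, h3]
  · rw [F2.card_shift hP]
    simp only [h2]
    classical
    rw [Nat.card_eq_fintype_card, Fintype.card_subtype_compl, ← Nat.card_eq_fintype_card,
      ← Nat.card_eq_fintype_card, hV, h3]
    have : 2 ^ (2 * m) = 2 * 2 ^ (2 * m - 1) := by rw [← pow_succ']; congr 1; omega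
    omega

end Cfsg.Agent.S2561
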