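import Cfsg.Statements.S2562
import Cfsg.Agent.Lib.Classical.F2

set_option autoImplicit false
open Cfsg

namespace Cfsg.Agent.S2562
open Cfsg.Agent.Classical


/-- Witt indices over the field of two elements, m ≥ 1: for the plus-type form Σ xᵢyᵢ in dimension 2m some m-dimensional subspace is totally singular and no totally singular subspace has larger dimension; for the minus-type form Σ xᵢyᵢ + (z₁² + z₁z₂ + z₂²) in dimension 2m the maximal dimension of a totally singular subspace is m − 1. -/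
theorem result (m : ℕ) (hm : 1 ≤ m) :
    (∃ U : Submodule (ZMod 2) (Fin m ⊕ Fin m → ZMod 2), (∀ u ∈ U, Cfsg.quadFormPlus m (ZMod 2) u = 0) ∧ Module.finrank (ZMod 2) ↥U = m) ∧
    (∀ U : Submodule (ZMod 2) (Fin m ⊕ Fin m → ZMod 2), (∀ u ∈ U, Cfsg.quadFormPlus m (ZMod 2) u = 0) → Module.finrank (ZMod 2) ↥U ≤ m) ∧
    (∃ U : Submodule (ZMod 2) ((Fin (m - 1) ⊕ Fin (m - 1)) ⊕ Fin 2 → ZMod 2), (∀ u ∈ U, Cfsg.quadFormMinus (m - 1) (ZMod 2) 1 1 u = 0) ∧ Module.finrank (ZMod 2) ↥U = m - 1) ∧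
    (∀ U : Submodule (ZMod 2) ((Fin (m - 1) ⊕ Fin (m - 1)) ⊕ Fin 2 → ZMod 2), (∀ u ∈ U, Cfsg.quadFormMinus (m - 1) (ZMod 2) 1 1 u = 0) → Module.finrank (ZMod 2) ↥U ≤ m - 1) := by
  obtain ⟨n, rfl⟩ : ∃ n, m = n + 1 := ⟨m - 1, by omega⟩
  have hM := minusForm_nondeg (F := ZMod 2) n F2.aniso11
  have ht := minusForm_isType (F := ZMod 2) n F2.aniso11
  refine ⟨⟨plusTS _ _, (plusTS_TS _).1, finrank_plusTS _⟩, fun U hU => ?_, ?_, fun U hU => ?_⟩
  · have := (Form.TS_orth (Φ := plusForm (n + 1) (ZMod 2)) hU).two_finrank_le (plusForm_nondeg _)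
    rw [(plusForm_isType _).1] at this; omega
  · let j : (Fin n ⊕ Fin n → ZMod 2) →ₗ[ZMod 2] ((Fin n ⊕ Fin n) ⊕ Fin 2 → ZMod 2) :=
      { toFun := fun v => Sum.elim v 0
        map_add' := fun u v => by ext (i | i) <;> simp
        map_smul' := fun c v => by ext (i | i) <;> simp }
    have hj : Function.Injective j := fun u v h => funext fun i => congrFun h (.inl i)
    refine ⟨(plusTS n (ZMod 2)).map j, ?_, ?_⟩
    · rintro _ ⟨u, hu, rfl⟩
      simp [j, quadFormMinus, mem_plusTS.1 hu]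
    · exact ((Submodule.equivMapOfInjective j hj _).finrank_eq).symm.trans (finrank_plusTS n)
  · have h1 := Form.TS_orth (Φ := minusForm n (ZMod 2) 1 1) hU
    have h2 := h1.two_finrank_le hM
    rw [ht.1] at h2
    by_contra h3
    have := ((isType_one_iff hM ht.1).2 ⟨U, le_antisymm (by omega) (not_le.1 h3), h1⟩).unique ht
    omega

end Cfsg.Agent.S2562
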