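import Cfsg.Statements.S2563
import Cfsg.Agent.Lib.Classical.F2

set_option autoImplicit false
open Cfsg

namespace Cfsg.Agent.S2563
open Cfsg.Agent.Classical

theorem pow_one_add (k : ℕ) : ((⟨1, 1⟩ : GaussianInt) ^ (4 * k + 3)).re = (-1) ^ (k + 1) * 2 ^ (2 * k + 1) := by
  have h : ((⟨1, 1⟩ : GaussianInt) ^ (4 * k + 3)) = (((-4) ^ k : ℤ) : GaussianInt) * ⟨-2, 2⟩ := by
    rw [pow_add, pow_mul]
    push_cast
    congr 1
  rw [h, Zsqrtd.re_mul, Zsqrtd.re_intCast, Zsqrtd.im_intCast, show (-4 : ℤ) = (-1) * 2 ^ 2 by norm_num, mul_pow,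
    ← pow_mul]
  ring

theorem main (k : ℕ) (hk : 1 ≤ k) {ι : Type} [Fintype ι] [DecidableEq ι] (Φ : Form (Kind.orth (ZMod 2)) (ι → ZMod 2))
    (hΦ : Φ.Nondeg) (ht : Φ.IsType (2 * k + 1) ((-1) ^ (k + 1))) :
    ∃ φ : Equiv.Perm (Fin (4 * k + 4)) →* isometryGroup (ZMod 2) Φ.N, Function.Injective φ := by
  classical
  let Ψ := (F2.eForm (Fin (4 * k + 3))).restrict (sumZero (ZMod 2) (Fin (4 * k + 3)))
  have hΨ : Ψ.Nondeg := F2.eForm_nondeg _ (by rw [Fintype.card_fin]; exact ⟨2 * k + 1, by ring⟩)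
  letI : Fintype (sumZero (ZMod 2) (Fin (4 * k + 3))) := Fintype.ofFinite _
  have ht' : Ψ.IsType (2 * k + 1) ((-1) ^ (k + 1)) := by
    rw [F2.isType_iff]
    have := F2.finrank_sumZero (ZMod 2) (Fin (4 * k + 3))
    rw [Fintype.card_fin] at this
    refine ⟨by omega, ?_⟩
    rw [F2.gs_eForm, Fintype.card_fin, pow_one_add]
  obtain ⟨e⟩ := (orth_iso_even _ _ _ _ hΨ hΦ ht' ht).nonempty_equiv
  let L : (Fin (4 * k + 4) → ZMod 2) →ₗ[ZMod 2] (Fin (4 * k + 3) → ZMod 2) :=
    { toFun := fun u => (fun i => u i.succ + u 0) + (∑ i, u i) • Pi.single 0 1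
      map_add' := fun u v => by
        ext i; simp only [Pi.add_apply, Finset.sum_add_distrib, Pi.smul_apply, smul_eq_mul]; ring
      map_smul' := fun c v => by
        ext i; simp only [Pi.add_apply, Pi.smul_apply, smul_eq_mul, ← Finset.mul_sum, RingHom.id_apply]; ring }
  have h2 : (2 : ZMod 2) = 0 := rfl
  have h4 : (4 : ZMod 2) = 0 := rfl
  have hL : ∀ u, L u ∈ sumZero (ZMod 2) (Fin (4 * k + 3)) := fun u => by
    rw [mem_sumZero]
    simp only [L, LinearMap.coe_mk, AddHom.coe_mk, Pi.add_apply, Finset.sum_add_distrib, Pi.smul_apply,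
      smul_eq_mul, ← Finset.mul_sum, Finset.sum_pi_single', Finset.mem_univ, if_true, Finset.sum_const,
      Finset.card_univ, Fintype.card_fin, nsmul_eq_mul]
    rw [Fin.sum_univ_succ (n := 4 * k + 3) u]
    push_cast
    linear_combination (∑ i : Fin (4 * k + 3), u i.succ) * h2 + (k + 1) * u 0 * h4
  have hL' : ∀ u ∈ sumZero (ZMod 2) (Fin (4 * k + 4)), L u = fun i => u i.succ + u 0 := fun u hu => by
    simp only [L, LinearMap.coe_mk, AddHom.coe_mk, mem_sumZero.1 hu, zero_smul, add_zero]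
  have hone : (F2.eForm (Fin (4 * k + 4))).N (fun _ => 1) = 0 := by
    have := F2.prod_psi (Finset.univ.val.map fun _ : Fin (4 * k + 4) => (1 : ZMod 2))
    rw [← F2.eForm_N] at this
    simp only [Multiset.map_const', Multiset.map_replicate, Multiset.prod_replicate, Multiset.sum_replicate,
      Finset.card_val, Finset.card_univ, Fintype.card_fin, nsmul_eq_mul, mul_one] at this
    rw [show 4 * k + 4 = 4 * (k + 1) by ring, pow_mul, show F2.psi 1 ^ 4 = 1 by decide, one_pow] at this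
    push_cast at this
    rw [h4, zero_mul, show F2.psi 0 = 1 from rfl, mul_one] at this
    rw [← F2.chi_eq_one]
    exact_mod_cast this.symm
  obtain ⟨φ, hφ⟩ := exists_perm_hom hΨ (L.codRestrict _ hL) (fun w => ⟨Fin.cons 0 w.1, by
      rw [mem_sumZero, Fin.sum_univ_succ]; simpa using mem_sumZero.1 w.2, by
      apply Subtype.ext
      rw [LinearMap.codRestrict_apply, hL' _ (by rw [mem_sumZero, Fin.sum_univ_succ]; simpa using mem_sumZero.1 w.2)]
      ext i; simp⟩) 1 fun u hu => by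
    rw [one_mul, ← F2.eForm_N]
    show (F2.eForm _).N (L u) = _
    have e1 : (F2.eForm (Fin (4 * k + 4))).N (u + u 0 • fun _ => 1) = (F2.eForm _).N u := by
      rw [Form.orth_N_add, Form.orth_N_smul, hone, Form.orth_B_smul, F2.eForm_B]
      simp [mem_sumZero.1 hu]
    rw [← e1, hL' u hu, F2.eForm_N, F2.eForm_N, Fin.univ_succ (4 * k + 3)]
    simp only [Finset.cons_val, Multiset.map_cons, F2.esymm2_cons, Finset.map_val, Multiset.map_map]
    simp [CharTwo.add_self_eq_zero]
  refine ⟨(orthEquiv Φ).symm.toMonoidHom.comp (e.toMonoidHom.comp φ),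
    (orthEquiv Φ).symm.injective.comp (e.injective.comp ?_)⟩
  rw [injective_iff_map_eq_one]
  intro g hg
  refine perm_eq_one (F := ZMod 2) (by rw [Fintype.card_fin]; omega) fun u hu => ?_
  have h1 := hφ g u hu
  rw [hg] at h1
  have h3 := congrArg Subtype.val h1
  simp only [OneMemClass.coe_one, LinearEquiv.coe_one, id_eq, LinearMap.codRestrict_apply] at h3
  rw [hL' _ hu, hL' _ (permRep_mem g u hu)] at h3
  refine ⟨permRep _ _ g u 0 - u 0, funext fun i => ?_⟩
  refine Fin.cases rfl (fun i => ?_) i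
  have := congrFun h3 i
  simp only [Pi.sub_apply]
  linear_combination -this + (u 0 - permRep _ _ g u 0) * h2


/-- For k ≥ 1 the symmetric group of degree 4k + 4 embeds in a full orthogonal group in dimension 4k + 2 over the field of two elements: in the isometry group of the plus-type form Σ xᵢyᵢ when k is odd, and in that of the minus-type form Σ xᵢyᵢ + (z₁² + z₁z₂ + z₂²) when k is even (through its action on even partitions of a (4k+4)-set, with the form 'half the size of a part, modulo 2'). -/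
theorem result (k : ℕ) (hk : 1 ≤ k) :
    (Odd k → ∃ φ : Equiv.Perm (Fin (4 * k + 4)) →* ↥(Cfsg.isometryGroup (ZMod 2) (Cfsg.quadFormPlus (2 * k + 1) (ZMod 2))), Function.Injective φ) ∧
    (Even k → ∃ φ : Equiv.Perm (Fin (4 * k + 4)) →* ↥(Cfsg.isometryGroup (ZMod 2) (Cfsg.quadFormMinus (2 * k) (ZMod 2) 1 1)), Function.Injective φ) := by
  refine ⟨fun h => main k hk (plusForm _ _) (plusForm_nondeg _) ?_,
    fun h => main k hk (minusForm _ _ 1 1) (minusForm_nondeg _ F2.aniso11) ?_⟩
  · rw [h.add_one.neg_one_pow]; exact plusForm_isType _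
  · rw [h.add_one.neg_one_pow]; exact minusForm_isType _ F2.aniso11

end Cfsg.Agent.S2563
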