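import Cfsg.Statements.S2564
import Cfsg.Agent.Lib.Classical.F2

set_option autoImplicit false
open Cfsg

namespace Cfsg.Agent.S2564
open Cfsg.Agent.Classical


/-- On the 2m-dimensional space over the field of two elements (m ≥ 1) let f be the alternating form obtained by polarizing the plus-type form Σ xᵢyᵢ, and let q be any quadratic form polarizing to f. For a vector w, the function q + f(·, w) again polarizes to f, and it is equivalent to q under an invertible linear map (that is, has the same type) if and only if q(w) = 0. -/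
theorem result (m : ℕ) (hm : 1 ≤ m) (q : (Fin m ⊕ Fin m → ZMod 2) → ZMod 2) (hq : (∀ u v : (Fin m ⊕ Fin m → ZMod 2), q (u + v) = q u + q v + (Cfsg.quadFormPlus m (ZMod 2) (u + v) - Cfsg.quadFormPlus m (ZMod 2) u - Cfsg.quadFormPlus m (ZMod 2) v))) (w : (Fin m ⊕ Fin m → ZMod 2)) :
    (∀ u v : (Fin m ⊕ Fin m → ZMod 2), (q (u + v) + (Cfsg.quadFormPlus m (ZMod 2) (u + v + w) - Cfsg.quadFormPlus m (ZMod 2) (u + v) - Cfsg.quadFormPlus m (ZMod 2) w)) =
        (q u + (Cfsg.quadFormPlus m (ZMod 2) (u + w) - Cfsg.quadFormPlus m (ZMod 2) u - Cfsg.quadFormPlus m (ZMod 2) w)) + (q v + (Cfsg.quadFormPlus m (ZMod 2) (v + w) - Cfsg.quadFormPlus m (ZMod 2) v - Cfsg.quadFormPlus m (ZMod 2) w)) +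
        (Cfsg.quadFormPlus m (ZMod 2) (u + v) - Cfsg.quadFormPlus m (ZMod 2) u - Cfsg.quadFormPlus m (ZMod 2) v)) ∧
    ((∃ g : (Fin m ⊕ Fin m → ZMod 2) ≃ₗ[ZMod 2] (Fin m ⊕ Fin m → ZMod 2), ∀ v, q v + (Cfsg.quadFormPlus m (ZMod 2) (v + w) - Cfsg.quadFormPlus m (ZMod 2) v - Cfsg.quadFormPlus m (ZMod 2) w) = q (g v)) ↔ q w = 0) := by
  have hB : ∀ u v, quadFormPlus m (ZMod 2) (u + v) - quadFormPlus m (ZMod 2) u - quadFormPlus m (ZMod 2) v =
      (plusForm m (ZMod 2)).B u v := fun u v => ((plusForm m (ZMod 2)).orth_B u v).symm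
  simp only [hB] at hq ⊢
  let Φ := F2.mkF q _ hq
  have hΦ : Φ.Nondeg := plusForm_nondeg m
  obtain ⟨η, hη, ht⟩ : ∃ η : ℤ, η ≠ 0 ∧ Φ.IsType m η := by
    rcases exists_isType m Φ hΦ (plusForm_isType m).1 with h | h
    · exact ⟨_, one_ne_zero, h⟩
    · exact ⟨_, by decide, h⟩
  refine ⟨(F2.shift Φ w).orth_N_add, ?_⟩
  refine (F2.iso_iff (F2.shift Φ w) Φ).trans ?_
  rw [F2.iso_iff_type (F2.shift_nondeg hΦ w) hΦ (F2.shift_isType ht w) ht, ← F2.chi_eq_one]
  exact ⟨fun h => mul_right_cancel₀ hη (h.trans (one_mul _).symm), fun h => by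
    rw [show F2.chi (Φ.N w) = 1 from h, one_mul]⟩

end Cfsg.Agent.S2564
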