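import Cfsg.Statements.S2567
import Mathlib

set_option autoImplicit false
open Cfsg

namespace Cfsg.Agent.S2567



/-- Lifting elements of prime order from PGL to GL: let F be a finite field with q elements, r a prime not dividing q − 1, and x an element of order r in GL_n(F) modulo its centre (the scalar matrices). Then x has exactly one preimage in GL_n(F) of order r. -/
theorem result {F : Type*} [Field F] [Fintype F] {q n r : ℕ} (hF : Fintype.card F = q) (hr : r.Prime) (hdiv : ¬ r ∣ q - 1) (x : GL (Fin n) F ⧸ Subgroup.center (GL (Fin n) F)) (hx : orderOf x = r) : ∃! g : GL (Fin n) F, (QuotientGroup.mk g : GL (Fin n) F ⧸ Subgroup.center (GL (Fin n) F)) = x ∧ orderOf g = r := by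
  classical
  have hZ : ∀ z ∈ Subgroup.center (GL (Fin n) F), z ^ (q - 1) = 1 := by
    intro z hz
    obtain ⟨c, hc⟩ := Matrix.GeneralLinearGroup.mem_center_iff_val_mem_range_scalar.1 hz
    rcases Nat.eq_zero_or_pos n with rfl | hn
    · exact Subsingleton.elim _ _
    have hc0 : c ≠ 0 := by
      rintro rfl
      have := z.isUnit
      rw [← hc, map_zero] at this
      have _ : Nonempty (Fin n) := ⟨⟨0, hn⟩⟩
      exact not_isUnit_zero this
    apply Units.ext
    rw [Units.val_pow_eq_pow_val, ← hc, ← map_pow, ← hF, FiniteField.pow_card_sub_one_eq_one c hc0]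
    simp
  have hcop : Nat.Coprime r (q - 1) := (Nat.Prime.coprime_iff_not_dvd hr).2 hdiv
  have : Fact r.Prime := ⟨hr⟩
  obtain ⟨g, rfl⟩ := QuotientGroup.mk_surjective x
  have h1 : g ^ r ∈ Subgroup.center (GL (Fin n) F) := by
    rw [← QuotientGroup.eq_one_iff, QuotientGroup.mk_pow, ← hx, pow_orderOf_eq_one]
  have hco : (orderOf (g ^ r)⁻¹).Coprime r := by
    rw [orderOf_inv]
    exact Nat.Coprime.coprime_dvd_left (orderOf_dvd_of_pow_eq_one (hZ _ h1)) hcop.symm
  obtain ⟨k, hk⟩ := exists_pow_eq_self_of_coprime hco.symm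
  have hw : (g ^ r)⁻¹ ^ k ∈ Subgroup.center (GL (Fin n) F) := Subgroup.pow_mem _ (Subgroup.inv_mem _ h1) _
  refine ⟨g * (g ^ r)⁻¹ ^ k, ⟨QuotientGroup.mk_mul_of_mem _ hw, ?_⟩, ?_⟩
  · apply orderOf_eq_prime
    · rw [Commute.mul_pow (Subgroup.mem_center_iff.1 hw g), ← pow_mul, mul_comm k, pow_mul, hk, mul_inv_cancel]
    · intro h
      have := QuotientGroup.mk_mul_of_mem g hw
      rw [h] at this
      rw [← this] at hx
      simp at hx
      exact hr.ne_one hx.symm
  · rintro y ⟨hy1, hy2⟩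
    have hz := QuotientGroup.eq.1 hy1.symm
    obtain ⟨z, rfl⟩ : ∃ z, y = g * z := ⟨g⁻¹ * y, by group⟩
    rw [inv_mul_cancel_left] at hz
    congr 1
    have h3 := pow_orderOf_eq_one (g * z)
    rw [hy2, Commute.mul_pow (Subgroup.mem_center_iff.1 hz g), mul_eq_one_iff_inv_eq] at h3
    have h4 : (z⁻¹ * (g ^ r)⁻¹ ^ k) ^ r = 1 := by
      rw [Commute.mul_pow (Subgroup.mem_center_iff.1 hw _), ← pow_mul, mul_comm k, pow_mul, hk, h3]
      simp
    have h5 := hZ _ (Subgroup.mul_mem _ (Subgroup.inv_mem _ hz) hw)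
    have h6 := pow_gcd_eq_one.2 ⟨h4, h5⟩
    rw [hcop, pow_one, inv_mul_eq_one] at h6
    exact h6

end Cfsg.Agent.S2567
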