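import Cfsg.Statements.S2568
import Mathlib
import Cfsg.Agent.Lib.Perm.Cj9

set_option autoImplicit false
open Cfsg

namespace Cfsg.Agent.S2568

open Cfsg.Agent.Classical Cfsg.Agent.Perm.Inv Cfsg.Agent.Perm.Cj

/-- Number of conjugacy classes of elements of a given prime order r, coprime to the characteristic, in GL_n(q): if i is the multiplicative order of q modulo r and t = (r − 1)/i, the classes correspond to the non-zero t-tuples of natural numbers (a_1, …, a_t) with i(a_1 + ⋯ + a_t) ≤ n (a_j is the multiplicity of the j-th Frobenius orbit of nontrivial r-th roots of unity among the eigenvalues), so there are exactly C(⌊n/i⌋ + t, t) − 1 of them. -/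
theorem result {F : Type*} [Field F] [Fintype F] {p q : ℕ} [Fact p.Prime] [CharP F p] (hF : Fintype.card F = q) (n r i t : ℕ) (hr : r.Prime) (hrp : r ≠ p) (hi : i = orderOf (q : ZMod r)) (ht : t * i = r - 1) : Nat.card {C : ConjClasses (GL (Fin n) F) // ∃ g : GL (Fin n) F, ConjClasses.mk g = C ∧ orderOf g = r} = Nat.choose (n / i + t) t - 1 := by
  have := neZero_of (F := F) hr hrp
  rw [← hF, ← Nat.card_eq_fintype_card] at hi
  have h0 : t * i ≠ 0 := by have := hr.two_le; omega
  have h1 := Nat.pos_of_ne_zero (right_ne_zero_of_mul h0)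
  rw [card_ord glE hr hi (n := n) (by simp) (fun _ => True) (fun _ _ _ _ _ H => by simpa using conj_iff_sim.2 H)
    fun s a hs h => iff_of_true trivial ?_]
  · simp only [and_true, mul_comm i, ← Nat.le_div_iff_mul_le h1, ms_le, (cf_spec hr).2, ← hi, ← ht, Nat.mul_div_cancel _ h1]
  simpa using exists_ss' (V := Fin n → F) (((Polynomial.monic_X_sub_C 1).pow a).mul (cf_monic hs)) (by
    rw [((Polynomial.monic_X_sub_C 1).pow a).natDegree_mul (cf_monic hs), cf_deg hs (cf_spec hr).1, Polynomial.natDegree_pow,
      Polynomial.natDegree_X_sub_C, mul_one, ← hi, h]; simp) (by simpa [Polynomial.coeff_zero_eq_eval_zero] using cf_coeff' hr hs)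

end Cfsg.Agent.S2568
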