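import Cfsg.Statements.S2572
import Cfsg.Agent.S2420
import Cfsg.Agent.S0839
import Cfsg.Agent.Lib.Classical.Wt2

set_option autoImplicit false
open Cfsg

namespace Cfsg.Agent.S2572
open Cfsg.Agent.Classical

theorem card_cent_conj {G : Type*} [Group G] (g t : G) :
    Nat.card (Subgroup.centralizer ({g⁻¹ * t * g} : Set G)) =
      Nat.card (Subgroup.centralizer ({t} : Set G)) := by
  refine Nat.card_congr ((MulAut.conj g).toEquiv.subtypeEquiv fun x => ?_)
  rw [Subgroup.mem_centralizer_singleton_iff, Subgroup.mem_centralizer_singleton_iff]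
  change _ ↔ g * x * g⁻¹ * t = t * (g * x * g⁻¹)
  constructor
  · intro h
    calc g * x * g⁻¹ * t = g * (x * (g⁻¹ * t * g)) * g⁻¹ := by group
      _ = _ := by rw [h]; group
  · intro h
    calc x * (g⁻¹ * t * g) = g⁻¹ * (g * x * g⁻¹ * t) * g := by group
      _ = _ := by rw [h]; group

open Matrix in
theorem std {F : Type*} [Field F] [Fintype F] {q n : ℕ} (hF : Fintype.card F = q) {i j : Fin (n + 2)}
    (hij : j ≠ i) (t : GL (Fin (n + 2)) F) (ht : t.val = 1 + single j i 1) :
    Nat.card (Subgroup.centralizer ({t} : Set (GL (Fin (n + 2)) F))) =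
      q ^ (2 * n + 1) * (q - 1) * ∏ k : Fin n, (q ^ n - q ^ (k : ℕ)) := by
  classical
  let b : Fin (n + 2) → Fin 3 := fun k => if k = j then 0 else if k = i then 2 else 1
  have hb : ∀ g : Matrix (Fin (n + 2)) (Fin (n + 2)) F, g.BlockTriangular b ↔
      (∀ k, k ≠ j → g k j = 0) ∧ ∀ l, l ≠ i → g i l = 0 := fun g => by
    constructor
    · refine fun h => ⟨fun k hk => h ?_, fun l hl => h ?_⟩
      · simp only [b, if_pos, if_neg hk]; split_ifs <;> decide
      · simp only [b, if_pos, if_neg hij.symm, if_neg hl]; split_ifs <;> decide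
    · rintro ⟨h1, h2⟩ k l hkl
      by_cases hl : l = j
      · exact hl ▸ h1 k (by rintro rfl; simp [hl] at hkl)
      · by_cases hk : k = i
        · exact hk ▸ h2 l (by rintro rfl; simp [hk] at hkl)
        · exfalso; revert hkl; simp only [b, if_neg hl, if_neg hk]; split_ifs <;> decide
  let P : Subgroup (GL (Fin (n + 2)) F) :=
    { carrier := {g | g.val.BlockTriangular b}
      mul_mem' := fun ha hb => BlockTriangular.mul ha hb
      one_mem' := blockTriangular_one
      inv_mem' := fun {a} ha => by
        have := a.invertible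
        change (a⁻¹).val.BlockTriangular b
        rw [Matrix.coe_units_inv]
        exact blockTriangular_inv_of_blockTriangular ha }
  let χj : P →* F :=
    { toFun := fun g => g.1.val j j
      map_one' := by simp
      map_mul' := fun g h => by
        change (g.1.val * h.1.val) j j = _
        rw [mul_apply, Finset.sum_eq_single j (fun k _ hk => by rw [((hb _).1 h.2).1 k hk, mul_zero])
          (by simp)] }
  let χi : P →* F :=
    { toFun := fun g => g.1.val i i
      map_one' := by simp
      map_mul' := fun g h => by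
        change (g.1.val * h.1.val) i i = _
        rw [mul_apply, Finset.sum_eq_single i (fun k _ hk => by rw [((hb _).1 g.2).2 k hk, zero_mul])
          (by simp)] }
  let χ : P →* Fˣ := χj.toHomUnits / χi.toHomUnits
  have hs : χ.range = ⊤ := MonoidHom.range_eq_top.2 fun c => by
    refine ⟨⟨GeneralLinearGroup.mkOfDetNeZero (diagonal (Function.update 1 j c)) ?_,
      blockTriangular_diagonal _⟩, Units.ext ?_⟩
    · rw [det_diagonal, Finset.prod_update_of_mem (Finset.mem_univ j)]; simp
    · simp [χ, χj, χi, hij.symm]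
  have hC : ∀ g : GL (Fin (n + 2)) F, g ∈ Subgroup.centralizer ({t} : Set (GL (Fin (n + 2)) F)) ↔
      g ∈ P ∧ g.val j j = g.val i i := fun g => by
    rw [Subgroup.mem_centralizer_singleton_iff, Units.ext_iff, Units.val_mul, Units.val_mul, ht, mul_add,
      add_mul, mul_one, one_mul, add_right_inj]
    change _ ↔ g.val.BlockTriangular b ∧ _
    rw [hb]
    constructor
    · intro h
      refine ⟨⟨fun k hk => ?_, fun l hl => ?_⟩, ?_⟩
      · simpa [hk] using congrFun (congrFun h k) i
      · simpa [hl] using (congrFun (congrFun h j) l).symm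
      · simpa using congrFun (congrFun h j) i
    · rintro ⟨⟨h1, h2⟩, h3⟩
      ext k l
      by_cases hk : k = j <;> by_cases hl : l = i
      · simp [hk, hl, h3]
      · simp [hk, hl, h2 l hl]
      · simp [hk, hl, h1 k hk]
      · simp [hk, hl]
  have h1 : Nat.card (Subgroup.centralizer ({t} : Set (GL (Fin (n + 2)) F))) = Nat.card χ.ker := by
    refine Nat.card_congr (Equiv.trans (Equiv.subtypeEquivRight hC)
      ((Equiv.subtypeSubtypeEquivSubtypeInter _ _).symm.trans (Equiv.subtypeEquivRight fun g => ?_)))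
    rw [MonoidHom.mem_ker, MonoidHom.div_apply, div_eq_one, Units.ext_iff]
    rfl
  have h2 := χ.ker.card_mul_index
  have c0 : Fintype.card {k // b k = 0} = 1 := by
    rw [Fintype.card_subtype, Finset.card_eq_one]
    refine ⟨j, Finset.ext fun k => ?_⟩
    simp only [b, Finset.mem_filter, Finset.mem_univ, true_and, Finset.mem_singleton]
    by_cases h : k = j
    · simp [h]
    · by_cases h' : k = i
      · simp [h', hij.symm]
      · simp [h, h']
  have c2 : Fintype.card {k // b k = 2} = 1 := by
    rw [Fintype.card_subtype, Finset.card_eq_one]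
    refine ⟨i, Finset.ext fun k => ?_⟩
    simp only [b, Finset.mem_filter, Finset.mem_univ, true_and, Finset.mem_singleton]
    by_cases h : k = j
    · simp [h, hij]
    · by_cases h' : k = i
      · simp [h', hij.symm]
      · simp [h, h']
  have c1 : Fintype.card {k // b k = 1} = n := by
    rw [Fintype.card_subtype, show (Finset.univ.filter fun k => b k = 1) = {j, i}ᶜ from ?_,
      Finset.card_compl, Finset.card_pair hij]
    · simp
    · ext k
      simp only [b, Finset.mem_filter, Finset.mem_univ, true_and, Finset.mem_compl, Finset.mem_insert,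
        Finset.mem_singleton]
      split_ifs <;> simp [*]
  have h3 := S2420.pairs b
  rw [Fin.sum_univ_three, c0, c1, c2, Fintype.card_fin] at h3
  have h4 : Nat.card P = _ := S2420.card_parab (F := F) b
  have h5 := S2420.card_GL' hF (Fintype.card_fin n)
  rw [Matrix.card_GL_field, hF] at h5
  rw [Fin.prod_univ_three, S2420.card_GL' hF c0, S2420.card_GL' hF c1, S2420.card_GL' hF c2, ← h5, hF,
    show Fintype.card {p : Fin (n + 2) × Fin (n + 2) // b p.1 < b p.2} = 2 * n + 1 by nlinarith] at h4
  rw [Subgroup.index_ker, hs, Subgroup.card_top, h4, Nat.card_units, Nat.card_eq_fintype_card (α := F),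
    hF] at h2
  have hq1 : 1 < q := hF ▸ Fintype.one_lt_card
  refine Nat.eq_of_mul_eq_mul_right (show 0 < q - 1 by omega) ?_
  rw [h1, h2]
  simp
  ring


/-- Centraliser of a transvection in GL_n(q), n ≥ 2: if t − 1 has rank one and square zero, the centraliser of t in GL_n(q) has order q^(2n−3) (q − 1) |GL_(n−2)(q)| (a group of order q^(2n−3) extended by GL_1(q) × GL_(n−2)(q)). -/
theorem result {F : Type*} [Field F] [Fintype F] {q n : ℕ} (hF : Fintype.card F = q) (hn : 2 ≤ n) (t : GL (Fin n) F) (ht : Cfsg.IsTransvection (t : Matrix (Fin n) (Fin n) F)) : Nat.card ↥(Subgroup.centralizer ({t} : Set (GL (Fin n) F))) = q ^ (2 * n - 3) * (q - 1) * ∏ i : Fin (n - 2), (q ^ (n - 2) - q ^ (i : ℕ)) := by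
  classical
  obtain ⟨n, rfl⟩ : ∃ m, n = m + 2 := ⟨n - 2, by omega⟩
  have hd : t.val.det = 1 := by
    have h1 : IsNilpotent (t.val - 1) := ⟨2, by rw [sq]; exact ht.2⟩
    obtain ⟨⟨a, ha⟩, a0, h3⟩ := finrank_eq_one_iff'.1 ht.1
    choose b hb using fun j => h3 ⟨_, Pi.single j 1, rfl⟩
    have hN : t.val - 1 = Matrix.vecMulVec a b := by
      ext i j; simpa [Matrix.vecMulVec_apply, mul_comm, Matrix.one_apply, Pi.single_apply] using (congrFun (congrArg Subtype.val (hb j)) i).symm
    have h2 := (Matrix.isNilpotent_trace_of_isNilpotent h1).eq_zero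
    rw [hN, Matrix.trace_vecMulVec] at h2
    rw [← add_sub_cancel 1 t.val, hN, Wt.det_one_add_vv, dotProduct_comm, h2, add_zero]
  let s : Matrix.SpecialLinearGroup (Fin (n + 2)) F := ⟨t.val, hd⟩
  obtain ⟨g, v, hv0, hv⟩ := S0839.result n s ht
  obtain ⟨j, hj⟩ : ∃ j, v j ≠ 0 := by
    by_contra h
    push Not at h
    rw [show v = 0 from funext h, Matrix.zero_vecMulVec, add_zero] at hv
    have h1 : s = 1 := by
      have h1 : g⁻¹ * s * g = 1 := Subtype.ext hv
      rwa [mul_assoc, inv_mul_eq_one, eq_comm, mul_eq_right] at h1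
    have h2 := ht.1
    rw [show t.val = 1 from congrArg Subtype.val h1] at h2
    simp at h2
  have hj0 : j ≠ 0 := by rintro rfl; exact hj hv0
  let k : GL (Fin (n + 2)) F := Matrix.GeneralLinearGroup.mkOfDetNeZero (Matrix.updateCol 1 j v) (by
    rw [← Matrix.cramer_apply, Matrix.cramer_one]; exact hj)
  rw [← card_cent_conj (Matrix.SpecialLinearGroup.toGL g), ← card_cent_conj k,
    show 2 * (n + 2) - 3 = 2 * n + 1 by omega]
  refine std hF (i := 0) hj0 _ ?_
  have e1 : ((Matrix.SpecialLinearGroup.toGL g)⁻¹ * t * Matrix.SpecialLinearGroup.toGL g).val =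
      1 + Matrix.vecMulVec v (Pi.single 0 1) := hv
  rw [mul_assoc, Units.val_mul, Units.val_mul, e1, Units.inv_mul_eq_iff_eq_mul, add_mul, mul_add, one_mul,
    mul_one, add_right_inj, Matrix.single_eq_single_vecMulVec_single, Matrix.vecMulVec_mul,
    Matrix.mul_vecMulVec]
  congr 1
  · funext i; simp [k]
  · funext i
    by_cases h : i = j
    · simp [k, h, hv0, hj0]
    · simp [k, Matrix.updateCol_ne h, Matrix.one_apply, Pi.single_apply, eq_comm]

end Cfsg.Agent.S2572
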