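import Cfsg.Statements.S2575
import Mathlib

set_option autoImplicit false
open Cfsg

namespace Cfsg.Agent.S2575



/-- Which diagonal involutions of PGL_n(q) lie in PSL_n(q), q odd: for the diagonal matrix t with i entries −1 and n − i entries 1, some non-zero scalar multiple of t has determinant one if and only if i is even or the 2-part of q − 1 exceeds the 2-part of n (that is, −1 is an n-th power in the field exactly in the latter case). -/
theorem result {F : Type*} [Field F] [Fintype F] {q : ℕ} (hF : Fintype.card F = q) (hq : Odd q) {n : ℕ} (hn : 1 ≤ n) (i : ℕ) (hi : i ≤ n) : (∃ c : F, c ≠ 0 ∧ (c • Matrix.diagonal (fun j : Fin n => if (j : ℕ) < i then (-1 : F) else 1)).det = 1) ↔ (Even i ∨ padicValNat 2 n < padicValNat 2 (q - 1)) := by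
  classical
  have hq1 : 1 < q := hF ▸ Fintype.one_lt_card
  obtain ⟨a, N, hN, hqN⟩ := Nat.exists_eq_two_pow_mul_odd (n := q - 1) (by omega)
  obtain ⟨b, n', hn', hnb⟩ := Nat.exists_eq_two_pow_mul_odd (n := n) (by omega)
  have hv : ∀ a N, Odd N → padicValNat 2 (2 ^ a * N) = a := by
    intro a N hN
    rw [padicValNat.mul (by positivity) (by rintro rfl; simp at hN), padicValNat.prime_pow,
      padicValNat.eq_zero_of_not_dvd hN.not_two_dvd_nat, add_zero]
  have h2 : (-1 : F) ≠ 1 := by
    intro h
    have h2 : ringChar F = 2 := by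
      apply CharP.ringChar_of_prime_eq_zero Nat.prime_two
      push_cast; linear_combination -h
    have := FiniteField.even_card_of_char_two h2
    rw [hF] at this
    obtain ⟨k, hk⟩ := hq
    omega
  have hdet : ∀ c : F, (c • Matrix.diagonal (fun j : Fin n => if (j : ℕ) < i then (-1 : F) else 1)).det = c ^ n * (-1) ^ i := by
    intro c
    rw [Matrix.det_smul, Matrix.det_diagonal, Fintype.card_fin, Finset.prod_ite]
    simp only [Finset.prod_const, one_pow, mul_one]
    rw [Fin.card_filter_val_lt, min_eq_right hi]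
  simp only [hdet]
  rw [hqN, hv a N hN]
  nth_rewrite 2 [hnb]
  rw [hv b n' hn']
  constructor
  · rintro ⟨c, hc0, hc⟩
    by_contra hcon
    push Not at hcon
    obtain ⟨h1, h3⟩ := hcon
    rw [Nat.not_even_iff_odd] at h1
    rw [h1.neg_one_pow] at hc
    have h4 : c ^ n = -1 := by linear_combination -hc
    obtain ⟨d, rfl⟩ := Nat.exists_eq_add_of_le h3
    have h5 : (c ^ n) ^ N = (c ^ (q - 1)) ^ (2 ^ d * n') := by
      rw [← pow_mul, ← pow_mul, hqN, hnb]; congr 1; ring
    rw [h4, hN.neg_one_pow, ← hF, FiniteField.pow_card_sub_one_eq_one c hc0, one_pow] at h5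
    exact h2 h5
  · intro h
    rcases Nat.even_or_odd i with hi2 | hi2
    · exact ⟨1, one_ne_zero, by simp [hi2.neg_one_pow]⟩
    have h3 : b < a := h.resolve_left (Nat.not_even_iff_odd.2 hi2)
    obtain ⟨d, rfl⟩ := Nat.exists_eq_add_of_lt h3
    obtain ⟨g, hg⟩ := IsCyclic.exists_ofOrder_eq_natCard (α := Fˣ)
    rw [Nat.card_units, Nat.card_eq_fintype_card, hF, hqN, ← orderOf_units] at hg
    have h4 : (g : F) ^ (2 ^ (b + d) * N) = -1 := by
      refine (sq_eq_one_iff.1 ?_).resolve_left ?_
      · rw [← pow_mul, ← pow_orderOf_eq_one (g : F), hg]; congr 1; ring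
      · apply pow_ne_one_of_lt_orderOf
        · have := hN.pos; positivity
        · rw [hg, pow_succ]
          have : 0 < 2 ^ (b + d) * N := by have := hN.pos; positivity
          nlinarith
    refine ⟨(g : F) ^ (2 ^ d * N), pow_ne_zero _ g.ne_zero, ?_⟩
    have h5 : ((g : F) ^ (2 ^ d * N)) ^ n = ((g : F) ^ (2 ^ (b + d) * N)) ^ n' := by
      rw [← pow_mul, ← pow_mul, hnb]; congr 1; ring
    rw [h5, h4, hn'.neg_one_pow, hi2.neg_one_pow]; simp

end Cfsg.Agent.S2575
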