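import Cfsg.Statements.S2576
import Mathlib

set_option autoImplicit false
open Cfsg

namespace Cfsg.Agent.S2576



/-- Which involutions of PGL_2m(q) coming from a scalar of the quadratic extension field lie in PSL_2m(q), q odd: let μ generate the Sylow 2-subgroup of the multiplicative group of the field with q elements (μ has order the 2-part of q − 1) and let t be the block-diagonal matrix with m diagonal blocks [[0, 1], [μ, 0]] (so t² is the scalar μ and t is an involution modulo scalars). Then some non-zero scalar multiple of t has determinant one if and only if q ≡ 3 (mod 4) or the 2-part of q − 1 is less than the 2-part of 2m. -/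
theorem result {F : Type*} [Field F] [Fintype F] {q : ℕ} (hF : Fintype.card F = q) (hq : Odd q) {m : ℕ} (hm : 1 ≤ m) (μ : F) (hμ : orderOf μ = 2 ^ padicValNat 2 (q - 1)) : (∃ c : F, c ≠ 0 ∧ (c • Matrix.blockDiagonal (fun _ : Fin m => !![(0 : F), 1; μ, 0])).det = 1) ↔ (q % 4 = 3 ∨ padicValNat 2 (q - 1) < padicValNat 2 (2 * m)) := by
  classical
  have hq1 : 1 < q := hF ▸ Fintype.one_lt_card
  obtain ⟨a, N, hN, hqN⟩ := Nat.exists_eq_two_pow_mul_odd (n := q - 1) (by omega)
  obtain ⟨b, n', hn', hnb⟩ := Nat.exists_eq_two_pow_mul_odd (n := m) (by omega)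
  have hv : ∀ a N, Odd N → padicValNat 2 (2 ^ a * N) = a := by
    intro a N hN
    rw [padicValNat.mul (by positivity) (by rintro rfl; simp at hN), padicValNat.prime_pow,
      padicValNat.eq_zero_of_not_dvd hN.not_two_dvd_nat, add_zero]
  have hdet : ∀ c : F, (c • Matrix.blockDiagonal (fun _ : Fin m => !![(0 : F), 1; μ, 0])).det = c ^ (2 * m) * (-μ) ^ m := by
    intro c
    rw [Matrix.det_smul, Matrix.det_blockDiagonal]
    simp [Matrix.det_fin_two]
  simp only [hdet]
  rw [hqN, hv a N hN] at hμ ⊢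
  have h2m : 2 * m = 2 ^ (b + 1) * n' := by rw [hnb]; ring
  nth_rewrite 2 [h2m]
  rw [hv _ n' hn']
  obtain ⟨k, hk⟩ := hq
  obtain ⟨l, hl⟩ := hN
  obtain ⟨a, rfl⟩ : ∃ a', a = a' + 1 := by
    cases a with
    | zero => omega
    | succ a => exact ⟨a, rfl⟩
  constructor
  · rintro ⟨c, hc0, hc⟩
    by_contra hcon
    push Not at hcon
    obtain ⟨h1, h3⟩ := hcon
    obtain ⟨d, rfl⟩ := Nat.exists_eq_add_of_le (show b ≤ a by omega)
    have h4 := congrArg (· ^ (2 ^ d * N)) hc
    have h5 : (c ^ (2 * m)) ^ (2 ^ d * N) = (c ^ (q - 1)) ^ n' := by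
      rw [← pow_mul, ← pow_mul, hqN, hnb]; congr 1; ring
    have h6 : Even (m * (2 ^ d * N)) := by
      have : m * (2 ^ d * N) = 2 ^ (b + d) * (N * n') := by rw [hnb]; ring
      rw [this]
      apply Even.mul_right
      apply (Nat.even_pow.2 ⟨even_two, ?_⟩)
      intro h0
      rw [h0] at hqN
      omega
    simp only [mul_pow, one_pow] at h4
    rw [h5, ← hF, FiniteField.pow_card_sub_one_eq_one c hc0, one_pow, one_mul, ← pow_mul, h6.neg_pow] at h4
    have h7 := orderOf_dvd_of_pow_eq_one h4
    have : m * (2 ^ d * N) = 2 ^ (b + d) * (N * n') := by rw [hnb]; ring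
    rw [hμ, this, pow_succ] at h7
    exact (Odd.mul ⟨l, hl⟩ hn').not_two_dvd_nat (Nat.dvd_of_mul_dvd_mul_left (by positivity) h7)
  · rintro (h | h)
    · have ha : a = 0 := by
        cases a with
        | zero => rfl
        | succ a =>
          exfalso
          have : q - 1 = 4 * (2 ^ a * N) := by rw [hqN]; ring
          omega
      subst ha
      have h4 : μ = -1 := by
        refine (sq_eq_one_iff.1 ?_).resolve_left ?_
        · rw [← pow_orderOf_eq_one μ, hμ]; simp
        · rintro rfl; simp at hμ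
      exact ⟨1, one_ne_zero, by simp [h4]⟩
    · refine ⟨1, one_ne_zero, ?_⟩
      obtain ⟨d, rfl⟩ := Nat.exists_eq_add_of_le (show a + 1 ≤ b by omega)
      have h6 : Even m := by rw [hnb]; exact ⟨2 ^ (a + d) * n', by ring⟩
      rw [one_pow, one_mul, h6.neg_pow, ← orderOf_dvd_iff_pow_eq_one, hμ, hnb]
      exact ⟨2 ^ d * n', by ring⟩

end Cfsg.Agent.S2576
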