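import Cfsg.Statements.S2577
import Cfsg.Agent.Lib.Classical.Inv4

set_option autoImplicit false
open Cfsg

namespace Cfsg.Agent.S2577
open Cfsg.Agent.Classical

open Matrix in
theorem cen {F : Type*} [Field F] {n : ℕ} {g : GL (Fin n) F} :
    g ∈ Subgroup.center (GL (Fin n) F) ↔ ∃ c : F, ∀ v, g.1 *ᵥ v = c • v := by
  rw [Matrix.GeneralLinearGroup.mem_center_iff_val_mem_range_scalar]
  refine exists_congr fun c => ⟨fun h v => by rw [← h]; ext i; simp, fun h => ?_⟩
  refine Matrix.ext_of_mulVec_single fun i => ?_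
  rw [h]; ext j; by_cases e : j = i <;> simp [e]

open Matrix in
theorem ne0 {F : Type*} [Field F] {n : ℕ} (hn : 0 < n) {g : GL (Fin n) F} {c : F} (h : ∀ v, g.1 *ᵥ v = c • v) :
    c ≠ 0 := by
  rintro rfl
  have := mulVec_injective_iff_isUnit.2 g.isUnit (show g.1 *ᵥ (fun _ => 1) = g.1 *ᵥ 0 by simp [h])
  exact one_ne_zero (congrFun this ⟨0, hn⟩)

open Matrix in
theorem exGL {F : Type*} [Field F] {n : ℕ} (g : Module.End F (Fin n → F)) (h : Function.Injective g) :
    ∃ u : GL (Fin n) F, Matrix.toLin' u.1 = g :=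
  ⟨GeneralLinearGroup.mkOfDetNeZero (LinearMap.toMatrix' g) (by
    rw [LinearMap.det_toMatrix']
    exact ((LinearMap.isUnit_iff_ker_eq_bot g).2 (LinearMap.ker_eq_bot.2 h) |>.map LinearMap.det).ne_zero),
    Matrix.toLin'_toMatrix' g⟩

open Matrix in
theorem conj_iff {F : Type*} [Field F] {n : ℕ} {g h : GL (Fin n) F} :
    ConjClasses.mk (g : GL (Fin n) F ⧸ Subgroup.center (GL (Fin n) F)) = ConjClasses.mk (h : _ ⧸ _) ↔
      ∃ (e : (Fin n → F) ≃ₗ[F] (Fin n → F)) (l : F), ∀ v, toLin' h.1 (e v) = l • e (toLin' g.1 v) := by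
  rw [ConjClasses.mk_eq_mk_iff_isConj, isConj_iff]
  refine ⟨fun ⟨c, hc⟩ => ?_, fun ⟨e, l, k⟩ => ?_⟩
  · obtain ⟨u, rfl⟩ := QuotientGroup.mk_surjective c
    rw [← QuotientGroup.mk_inv, ← QuotientGroup.mk_mul, ← QuotientGroup.mk_mul, QuotientGroup.eq] at hc
    obtain ⟨l, hl⟩ := cen.1 hc
    refine ⟨Matrix.toLin'OfInv u.inv_mul u.mul_inv, l, fun v => ?_⟩
    change h.1 *ᵥ (u.1 *ᵥ v) = l • u.1 *ᵥ (g.1 *ᵥ v)
    have := congrArg ((u * g * u⁻¹).1 *ᵥ ·) (hl (u.1 *ᵥ v))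
    simp only [mulVec_mulVec, ← Units.val_mul, mul_inv_cancel_left, ← mul_assoc, mulVec_smul,
      inv_mul_cancel_right, mul_inv_cancel, one_mul] at this ⊢
    exact this
  · obtain ⟨u, hu⟩ := exGL (e : Module.End F (Fin n → F)) e.injective
    have hu' : ∀ v, u.1 *ᵥ v = e v := fun v => LinearMap.congr_fun hu v
    refine ⟨u, ?_⟩
    rw [← QuotientGroup.mk_inv, ← QuotientGroup.mk_mul, ← QuotientGroup.mk_mul, QuotientGroup.eq]
    refine cen.2 ⟨l, fun v => ?_⟩
    obtain ⟨v, rfl⟩ := e.surjective v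
    have := k v
    simp only [toLin'_apply, ← hu'] at this ⊢
    rw [Units.val_mul, ← mulVec_mulVec, this]
    simp only [mulVec_smul, mulVec_mulVec, ← Units.val_mul]
    congr 3
    group

open Matrix in
theorem ord_iff {F : Type*} [Field F] {n : ℕ} {g : GL (Fin n) F} :
    orderOf (g : GL (Fin n) F ⧸ Subgroup.center (GL (Fin n) F)) = 2 ↔
      (∃ z : F, ∀ v, toLin' g.1 (toLin' g.1 v) = z • v) ∧ ¬ ∃ c : F, ∀ v, toLin' g.1 v = c • v := by
  rw [orderOf_eq_prime_iff, ← QuotientGroup.mk_pow, Ne, QuotientGroup.eq_one_iff, QuotientGroup.eq_one_iff, cen, cen]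
  simp [pow_two]


/-- Number of conjugacy classes of involutions in PGL_n(q) for q odd and n ≥ 2: there are ⌊n/2⌋ classes represented by diagonal matrices with i entries −1 (1 ≤ i ≤ n/2) and, when n is even, one more class represented by a block-diagonal matrix of 2 × 2 blocks [[0, 1], [μ, 0]] with μ a non-square (a matrix squaring to a scalar but having no eigenvalue in the field); in all ⌊n/2⌋ + 1 classes if n is even and ⌊n/2⌋ if n is odd. -/
theorem result {F : Type*} [Field F] [Fintype F] {q : ℕ} (hF : Fintype.card F = q) (hq : Odd q) {n : ℕ} (hn : 2 ≤ n) : Nat.card {C : ConjClasses (GL (Fin n) F ⧸ Subgroup.center (GL (Fin n) F)) // ∃ g : GL (Fin n) F ⧸ Subgroup.center (GL (Fin n) F), ConjClasses.mk g = C ∧ orderOf g = 2} = n / 2 + (if Even n then 1 else 0) := by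
  classical
  have h2 : (2 : F) ≠ 0 := fun h => by
    have := (FiniteField.even_card_iff_char_two (F := F)).1
      ((ringChar.eq_iff.2 ((CharP.charP_iff_prime_eq_zero Nat.prime_two).2 (by exact_mod_cast h))))
    rw [hF] at this
    have := Nat.odd_iff.1 hq
    omega
  have fr : Module.finrank F (Fin n → F) = n := by simp
  have f0 : 0 < Module.finrank F (Fin n → F) := by omega
  have z0 : ∀ {g : GL (Fin n) F} {z : F}, (∀ v, Matrix.toLin' g.1 (Matrix.toLin' g.1 v) = z • v) → z ≠ 0 :=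
    fun {g z} h => ne0 (by omega) (g := g * g) fun v => by simpa using h v
  have rep : ∀ C : {C : ConjClasses (GL (Fin n) F ⧸ Subgroup.center (GL (Fin n) F)) //
      ∃ g : GL (Fin n) F ⧸ Subgroup.center (GL (Fin n) F), ConjClasses.mk g = C ∧ orderOf g = 2},
      ∃ g : GL (Fin n) F, ConjClasses.mk (g : _ ⧸ Subgroup.center (GL (Fin n) F)) = C.1 ∧
        orderOf (g : _ ⧸ Subgroup.center (GL (Fin n) F)) = 2 := fun ⟨C, g, h⟩ => by
    obtain ⟨g, rfl⟩ := QuotientGroup.mk_surjective g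
    exact ⟨g, h⟩
  choose r r1 r2 using rep
  have inv : ∀ g h : GL (Fin n) F, ConjClasses.mk (g : _ ⧸ Subgroup.center (GL (Fin n) F)) = ConjClasses.mk (h : _ ⧸ _) →
      Inv.phi (Matrix.toLin' g.1) = Inv.phi (Matrix.toLin' h.1) := fun g h k => by
    obtain ⟨e, l, k1⟩ := conj_iff.1 k
    obtain ⟨e', l', k2⟩ := conj_iff.1 k.symm
    exact le_antisymm (Inv.phi_le e k1) (Inv.phi_le e' k2)
  have mem : ∀ C, Inv.phi (Matrix.toLin' (r C).1) ∈ Finset.Ico ((n + 1) / 2) n ∪ if Even n then {0} else ∅ := fun C => by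
    obtain ⟨⟨z, hz⟩, k⟩ := ord_iff.1 (r2 C)
    have := mt (Inv.phi_eq_iff f0).1 k
    rcases Inv.phi_cases h2 f0 (z0 hz) hz with ⟨k1, k2⟩ | ⟨c, -, -, k2⟩
    · obtain ⟨U, -, u⟩ := Inv.exists_half k2 hz
      have : Even n := ⟨Module.finrank F U, by omega⟩
      simp [this, k1]
    · exact Finset.mem_union_left _ (Finset.mem_Ico.2 ⟨by omega, by omega⟩)
  rw [Nat.card_eq_of_bijective (fun C => (⟨_, mem C⟩ : ↥(Finset.Ico ((n + 1) / 2) n ∪ if Even n then {0} else ∅)))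
    ⟨fun C D h => ?_, fun ⟨a, ha⟩ => ?_⟩, Nat.card_eq_finsetCard, Finset.card_union_of_disjoint, Nat.card_Ico]
  · split_ifs <;> simp <;> omega
  · split_ifs <;> simp <;> omega
  · obtain ⟨⟨z, hz⟩, -⟩ := ord_iff.1 (r2 C)
    obtain ⟨⟨w, hw⟩, -⟩ := ord_iff.1 (r2 D)
    exact Subtype.ext ((r1 C).symm.trans ((conj_iff.2
      (Inv.conj_of_phi h2 f0 (z0 hz) (z0 hw) hz hw (congrArg Subtype.val h))).trans (r1 D)))
  · obtain ⟨g, z, z1, g1, g2, g3⟩ : ∃ (g : Module.End F (Fin n → F)) (z : F), z ≠ 0 ∧ (∀ x, g (g x) = z • x) ∧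
        Inv.phi g = a ∧ a < n := by
      rcases Finset.mem_union.1 ha with ha | ha
      · rw [Finset.mem_Ico] at ha
        obtain ⟨g, g1, g2⟩ := Inv.exists_sq (V := Fin n → F) h2 (a := a) (by omega) (by omega)
        exact ⟨g, 1, one_ne_zero, g1, g2, ha.2⟩
      · split_ifs at ha with he
        · obtain ⟨b, hb⟩ := he
          obtain ⟨g, z, z1, g1, g2⟩ := Inv.exists_nsq (V := Fin n → F) h2 (a := b) (by omega) (by omega)
          rw [Finset.mem_singleton.1 ha]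
          exact ⟨g, z, z1, g1, g2, by omega⟩
        · simp at ha
    obtain ⟨u, rfl⟩ := exGL g fun x y h => smul_right_injective _ z1 (by simp only [← g1, h])
    refine ⟨⟨_, u, rfl, ord_iff.2 ⟨⟨z, g1⟩, fun k => ?_⟩⟩, Subtype.ext ((inv _ _ (r1 _)).trans g2)⟩
    have := (Inv.phi_eq_iff f0).2 k
    omega

end Cfsg.Agent.S2577
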