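import Cfsg.Statements.S2578
import Mathlib
import Cfsg.Agent.Lib.Perm.Un2

set_option autoImplicit false
open Cfsg

namespace Cfsg.Agent.S2578

open Cfsg.Agent.Classical Cfsg.Agent.Perm.Inv Cfsg.Agent.Perm.Cj

/-- Regular unipotent classes of SL_n(q): for n ≥ 2 over the field with q elements, the matrices u of determinant one with (u − 1)^n = 0 and rank(u − 1) = n − 1 form a single GL_n(q)-class which splits into exactly gcd(n, q − 1) conjugacy classes of SL_n(q). -/
theorem result {F : Type*} [Field F] [Fintype F] {q : ℕ} (hF : Fintype.card F = q) {n : ℕ} (hn : 2 ≤ n) : Nat.card {C : ConjClasses (Matrix.SpecialLinearGroup (Fin n) F) // ∃ u : Matrix.SpecialLinearGroup (Fin n) F, ConjClasses.mk u = C ∧ ((u : Matrix (Fin n) (Fin n) F) - 1) ^ n = 0 ∧ ((u : Matrix (Fin n) (Fin n) F) - 1).rank = n - 1} = Nat.gcd n (q - 1) := by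
  have : Nonempty (Fin n) := ⟨⟨0, by omega⟩⟩
  obtain ⟨u, hu⟩ := exists_reg (F := F) (V := Fin n → F)
  rw [card_split_cl slE LinearEquiv.det (T := ⊤) (by simp) (det_unip hu.1) _ fun a => (mat_reg (M := a) (n := n) (t := (slE a).1) (fun _ => rfl)
    (by simp)).trans ⟨fun h => by simpa using conj_iff_sim.2 (sim_dl.1 (hu.sim h rfl)), fun ⟨g, _, h⟩ =>
    (sim_dl.2 (conj_iff_sim.1 ⟨g, h⟩)).reg hu⟩, hu.map_det, Subgroup.map_top_of_surjective LinearEquiv.det fun c => ?_,
    relIndex_pow]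
  · simp [← hF, Nat.card_units]
  obtain ⟨k, -, h⟩ := ss_comm_det (F := F) (V := Fin n → F) Module.End.isSemisimple_id c
  exact ⟨k, h⟩

end Cfsg.Agent.S2578
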