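import Cfsg.Statements.S2582
import Mathlib
import Cfsg.Agent.Lib.Perm.Un5

set_option autoImplicit false
open Cfsg

namespace Cfsg.Agent.S2582

open Cfsg.Agent.Classical Cfsg.Agent.Perm.Inv Cfsg.Agent.Perm.Cj

/-- Which unipotent Jordan types occur in the finite symplectic group: over a finite field, a unipotent matrix with Jordan block sizes d_1, …, d_t (sum 2m, all at least 1) is similar to an element of Sp_2m(F) if and only if every odd block size occurs an even number of times. -/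
theorem result {F : Type*} [Field F] [Fintype F] {m t : ℕ} (d : Fin t → ℕ) (hd : ∀ k, 1 ≤ d k) (hsum : ∑ k, d k = 2 * m) : (∃ e : ((k : Fin t) × Fin (d k)) ≃ (Fin m ⊕ Fin m), ∃ A : Matrix.symplecticGroup (Fin m) F, IsConj (Matrix.reindex e e (Cfsg.jordanTypeMatrix d F)) (A : Matrix (Fin m ⊕ Fin m) (Fin m ⊕ Fin m) F)) ↔ ∀ j : ℕ, Odd j → Even (Finset.univ.filter (fun k : Fin t => d k = j)).card := by
  have hΦ := spForm_nondeg (F := F) m
  refine ⟨fun ⟨e, A, h⟩ j ⟨k, hk⟩ => hk ▸ even_blocks rfl hΦ (spEquiv m F A).2 ((conj_jordan d e fun _ => rfl).1 h) _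
    (alt_blocks (spEquiv m F A).2 (by simp [Form.B_self]) k), fun h => ?_⟩
  obtain ⟨V, _, _, _, Ψ, h1, h2, t, h3, h4⟩ := real_of (F := F) real_symp2 d fun k => (d k).even_or_odd.imp (fun ⟨c, hc⟩ =>
    real_of_reg (spForm_nondeg c) (exists_reg_symp (spForm_nondeg c)) (by simp [hc])) (h _)
  obtain ⟨s, hs, h6⟩ := exists_of_iso (symp_iso _ Ψ _ h1 hΦ rfl (by simp [h2, hsum, two_mul])) h3
  obtain ⟨A, hA⟩ := (spEquiv m F).surjective ⟨s, hs⟩
  exact ⟨Fintype.equivOfCardEq (by simp [hsum, two_mul]), A, (conj_jordan d _ (t := (spEquiv m F A).1) fun _ => rfl).2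
    (hA ▸ h4.trans (sim_dl.2 h6))⟩

end Cfsg.Agent.S2582
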