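import Cfsg.Statements.S2583
import Mathlib
import Cfsg.Agent.Lib.Perm.Un5

set_option autoImplicit false
open Cfsg

namespace Cfsg.Agent.S2583

open Cfsg.Agent.Classical Cfsg.Agent.Perm.Inv Cfsg.Agent.Perm.Cj

/-- Which unipotent Jordan types occur in a finite orthogonal group in odd characteristic: over a finite field of odd order, a unipotent matrix with Jordan block sizes d_1, …, d_t (sum n, all at least 1) is similar to an isometry of some quadratic form on F^n with non-degenerate polar form if and only if every even block size occurs an even number of times. -/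
theorem result {F : Type*} [Field F] [Fintype F] (h2 : (2 : F) ≠ 0) {n t : ℕ} (d : Fin t → ℕ) (hd : ∀ k, 1 ≤ d k) (hsum : ∑ k, d k = n) : (∃ Q : QuadraticForm F (Fin n → F), (QuadraticMap.polarBilin Q).Nondegenerate ∧ ∃ e : ((k : Fin t) × Fin (d k)) ≃ Fin n, ∃ A : ↥(Cfsg.isometryGroup F ⇑Q), IsConj (Matrix.reindex e e (Cfsg.jordanTypeMatrix d F)) ((A : Matrix.GeneralLinearGroup (Fin n) F) : Matrix (Fin n) (Fin n) F)) ↔ ∀ j : ℕ, Even j → 0 < j → Even (Finset.univ.filter (fun k : Fin t => d k = j)).card := by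
  refine ⟨fun ⟨Q, hQ, e, A, h⟩ j hj h0 => ?_, fun h => real_mat d hsum (real_of real_orth2 d fun k =>
    (d k).even_or_odd.symm.imp (fun ⟨c, hc⟩ => hc ▸ real_odd h2 c) (h _ · (hd k)))⟩
  obtain ⟨j, rfl⟩ := Nat.exists_eq_add_one_of_ne_zero h0.ne'
  have := (orthEquiv (Form.ofQuad Q) A).2
  exact even_blocks rfl (Form.ofQuad_nondeg hQ) this ((conj_jordan d e fun _ => rfl).1 h) _
    (sym_blocks this h2 (by simpa [parity_simps] using hj))

end Cfsg.Agent.S2583
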