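import Cfsg.Statements.S2584
import Mathlib
import Cfsg.Agent.Lib.Perm.Un5

set_option autoImplicit false
open Cfsg

namespace Cfsg.Agent.S2584

open Cfsg.Agent.Classical Cfsg.Agent.Perm.Inv Cfsg.Agent.Perm.Cj

/-- Which unipotent Jordan types occur in a finite orthogonal group in characteristic two: over a finite field of characteristic 2 and in even dimension 2m, a unipotent matrix with Jordan block sizes d_1, …, d_t (sum 2m, all at least 1) is similar to an isometry of some quadratic form on F^(2m) with non-degenerate polar form if and only if every odd block size occurs an even number of times (the same condition as for the symplectic group, which contains these orthogonal groups). -/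
theorem result {F : Type*} [Field F] [Fintype F] [CharP F 2] {m t : ℕ} (d : Fin t → ℕ) (hd : ∀ k, 1 ≤ d k) (hsum : ∑ k, d k = 2 * m) : (∃ Q : QuadraticForm F (Fin (2 * m) → F), (QuadraticMap.polarBilin Q).Nondegenerate ∧ ∃ e : ((k : Fin t) × Fin (d k)) ≃ Fin (2 * m), ∃ A : ↥(Cfsg.isometryGroup F ⇑Q), IsConj (Matrix.reindex e e (Cfsg.jordanTypeMatrix d F)) ((A : Matrix.GeneralLinearGroup (Fin (2 * m)) F) : Matrix (Fin (2 * m)) (Fin (2 * m)) F)) ↔ ∀ j : ℕ, Odd j → Even (Finset.univ.filter (fun k : Fin t => d k = j)).card := by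
  have h2 : (2 : F) = 0 := CharTwo.two_eq_zero
  refine ⟨fun ⟨Q, hQ, e, A, h⟩ j ⟨k, hk⟩ => ?_, fun h => real_mat d hsum (real_of real_orth2 d fun k =>
    (d k).even_or_odd.imp (fun ⟨c, hc⟩ => ?_) (h _))⟩
  · have := (orthEquiv (Form.ofQuad Q) A).2
    exact hk ▸ even_blocks rfl (Form.ofQuad_nondeg hQ) this ((conj_jordan d e fun _ => rfl).1 h) _
      (alt_blocks this (fun v => by rw [Form.orth_B_self, h2, zero_mul]) k)
  · rw [show d k = 2 * (c - 1 + 1) by have := hd k; omega]; exact real_even h2 _

end Cfsg.Agent.S2584
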