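import Cfsg.Statements.S2585
import Mathlib
import Cfsg.Agent.Lib.Perm.Inv5

set_option autoImplicit false
open Cfsg

namespace Cfsg.Agent.S2585

open Cfsg.Agent.Classical Cfsg.Agent.Perm.Inv

/-- Over a finite field of characteristic two every element of the symplectic group is orthogonal for a suitable quadratic form: for each A in Sp_2m(F) there is a quadratic form Q on F^(2m) whose polar form is the alternating form defining Sp_2m(F) (so Q is non-degenerate) and which A preserves. Equivalently, for m ≥ 1, Sp_2m(F) is the union of the conjugates of its two orthogonal subgroups O⁺_2m(F) and O⁻_2m(F). -/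
theorem result {F : Type*} [Field F] [Fintype F] [CharP F 2] {m : ℕ} (A : Matrix.symplecticGroup (Fin m) F) : ∃ Q : QuadraticForm F (Fin m ⊕ Fin m → F), (∀ u v : Fin m ⊕ Fin m → F, QuadraticMap.polar ⇑Q u v = Cfsg.sympForm m F u v) ∧ ∀ v : Fin m ⊕ Fin m → F, Q ((A : Matrix (Fin m ⊕ Fin m) (Fin m ⊕ Fin m) F).mulVec v) = Q v := by
  have h2 : (2 : F) = 0 := CharTwo.two_eq_zero
  have hB : ∀ u v, (plusForm m F).B u v = Cfsg.sympForm m F u v := fun u v => by
    rw [plusForm_B, sympForm_eq]
    exact Finset.sum_congr rfl fun i _ => by rw [CharTwo.sub_eq_add, add_comm]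
  obtain ⟨z, hz⟩ := exists_inv_quad h2 (plusForm_nondeg m) (t := (spEquiv m F A).1)
    fun u v => by rw [hB, hB]; exact (spEquiv m F A).2.1 u v
  refine ⟨QuadraticMap.ofPolar (fun v => (plusForm m F).N v + (plusForm m F).B v z ^ 2) (fun a v => ?_) (fun a b c => ?_) (fun a b c => ?_), fun u v => ?_, fun v => by simpa only [QuadraticMap.ofPolar_apply, spEquiv_apply] using hz v⟩
  · simp only [Form.N_smul, Form.B_smul_left, Kind.orth_σ, smul_eq_mul]; ring
  all_goals simp only [QuadraticMap.polar, QuadraticMap.ofPolar_apply, Form.N_add, Form.N_smul, Kind.orth_T, Kind.orth_σ, map_add, map_smul, LinearMap.add_apply, LinearMap.smul_apply, smul_eq_mul, ← hB]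
  · ring
  · ring
  · linear_combination ((plusForm m F).B u z * (plusForm m F).B v z) * h2

end Cfsg.Agent.S2585
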