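import Cfsg.Statements.S2587
import Mathlib
import Cfsg.Agent.Lib.Perm.Cj4

set_option autoImplicit false
open Cfsg

namespace Cfsg.Agent.S2587

open Cfsg.Agent.Classical Cfsg.Agent.Perm.Inv Cfsg.Agent.Perm.Cj

/-- Conjugacy in the finite general unitary group is controlled by the general linear group: two elements of GU_n(q) (the invertible matrices over the field with q² elements preserving the Hermitian form Σ u_i v_i^q) are conjugate in GU_n(q) if and only if they are conjugate in GL_n(q²). -/
theorem result {K : Type*} [Field K] [Fintype K] {q n : ℕ} (hK : Fintype.card K = q ^ 2) (A B : ↥(Cfsg.GU n K q)) : IsConj A B ↔ IsConj (A : GL (Fin n) K) (B : GL (Fin n) K) := by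
  refine ⟨fun h => (Cfsg.GU n K q).subtype.map_isConj h, fun h => (isConj_equiv (guEquiv hK n)).2 (isim_iff.1 ?_)⟩
  exact isim_unit (frobq_ne_id hK) (uForm_nondeg hK n) (uForm_nondeg hK n) (guEquiv hK n A).2 (guEquiv hK n B).2
    (gl_isConj.1 h)

end Cfsg.Agent.S2587
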