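import Cfsg.Statements.S2588
import Mathlib
import Cfsg.Agent.Lib.Perm.Cj6

set_option autoImplicit false
open Cfsg

namespace Cfsg.Agent.S2588

open Cfsg.Agent.Classical Cfsg.Agent.Perm.Inv Cfsg.Agent.Perm.Cj

/-- An invertible matrix A over the field with q² elements is conjugate in GL_n(q²) to an element of the general unitary group GU_n(q) (isometries of the Hermitian form Σ u_i v_i^q) if and only if A is similar to the inverse transpose of its entrywise q-th power (A ~ A^(−qT), the image of A under the map sending a matrix to the inverse transpose of its entrywise q-th power — inverse transpose composed with the field automorphism — whose fixed points form GU_n(q)). -/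
theorem result {K : Type*} [Field K] [Fintype K] {q n : ℕ} (hK : Fintype.card K = q ^ 2) (A : GL (Fin n) K) : (∃ B : ↥(Cfsg.GU n K q), IsConj A (B : GL (Fin n) K)) ↔ IsConj (A : Matrix (Fin n) (Fin n) K) (((A : Matrix (Fin n) (Fin n) K).map (fun x : K => x ^ q)).transpose)⁻¹ := by
  let C : GL (Fin n) K := .mkOfDetNeZero (A.1.map (frobq hK)).transpose (by
    rw [Matrix.det_transpose, ← RingHom.mapMatrix_apply, ← RingHom.map_det]; exact (map_ne_zero _).2 A.det_ne_zero)
  have := unit_iff_sim (frobq_ne_id hK) (uForm_nondeg hK n) (t := glEquiv A) (s := glEquiv C⁻¹) fun u v => by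
    obtain ⟨u, rfl⟩ := (glEquiv C).surjective u
    rw [← LinearEquiv.mul_apply, ← map_mul, inv_mul_cancel, map_one]
    change u ⬝ᵥ (frobq hK ∘ A.1.mulVec v) = (A.1.map (frobq hK)).transpose.mulVec u ⬝ᵥ (frobq hK ∘ v)
    rw [Matrix.mulVec_transpose, ← Matrix.dotProduct_mulVec]
    congr 1; ext i; exact RingHom.map_mulVec _ _ _ i
  rw [← gl_isConj, units_isConj, Matrix.coe_units_inv] at this
  refine Iff.trans ⟨fun ⟨B, h⟩ => ⟨_, (guEquiv hK n B).2, gl_isConj.1 h⟩, fun ⟨r, h1, h2⟩ =>
    ⟨(guEquiv hK n).symm ⟨r, h1⟩, gl_isConj.2 ?_⟩⟩ this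
  rwa [← glEquiv.apply_symm_apply r] at h2

end Cfsg.Agent.S2588
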