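import Cfsg.Statements.S2590
import Mathlib
import Cfsg.Agent.Lib.Perm.Cj4

set_option autoImplicit false
open Cfsg

namespace Cfsg.Agent.S2590

open Cfsg.Agent.Classical Cfsg.Agent.Perm.Inv Cfsg.Agent.Perm.Cj

/-- Two semisimple elements of odd order of a finite orthogonal group (isometry group of a quadratic form on F^n with non-degenerate polar form, F finite of characteristic p; the elements have odd order prime to p) are conjugate in the orthogonal group if and only if they are conjugate in GL_n(F). -/
theorem result {F : Type*} [Field F] [Fintype F] {p : ℕ} [Fact p.Prime] [CharP F p] {n : ℕ} (Q : QuadraticForm F (Fin n → F)) (hQ : (QuadraticMap.polarBilin Q).Nondegenerate) (A B : ↥(Cfsg.isometryGroup F ⇑Q)) (hodd : Odd (orderOf A)) (hA : (orderOf A).Coprime p) : IsConj A B ↔ IsConj ((A : Matrix.GeneralLinearGroup (Fin n) F) : Matrix (Fin n) (Fin n) F) ((B : Matrix.GeneralLinearGroup (Fin n) F) : Matrix (Fin n) (Fin n) F) := by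
  let e := orthEquiv (Form.ofQuad Q)
  refine ⟨fun h => units_isConj.1 ((Cfsg.isometryGroup F Q).subtype.map_isConj h), fun h => (isConj_equiv e).2 (isim_iff.1 ?_)⟩
  have h1 := orderOf_equiv e A
  exact isim_one (Form.ofQuad_nondeg hQ) (Form.Iso.refl _) (e A).2 (e B).2 (ss_iff.1 (h1 ▸ hA)) (odd_fix (h1 ▸ hodd))
    (isConj_iff_sim.1 h)

end Cfsg.Agent.S2590
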