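import Cfsg.Statements.S2591
import Mathlib
import Cfsg.Agent.Lib.Perm.Un4

set_option autoImplicit false
open Cfsg

namespace Cfsg.Agent.S2591

open Cfsg.Agent.Classical Cfsg.Agent.Perm.Inv Cfsg.Agent.Perm.Cj

/-- Over a finite field of odd order and for m ≥ 1, the regular unipotent elements of Sp_2m(F) (u − 1 nilpotent of rank 2m − 1, a single Jordan block) form exactly two conjugacy classes of Sp_2m(F) (one class under the similarity group, which splits in two). -/
theorem result {F : Type*} [Field F] [Fintype F] {q : ℕ} (hF : Fintype.card F = q) (hq : Odd q) {m : ℕ} (hm : 1 ≤ m) : Nat.card {C : ConjClasses ↥(Matrix.symplecticGroup (Fin m) F) // ∃ u : Matrix.symplecticGroup (Fin m) F, ConjClasses.mk u = C ∧ ((u : Matrix (Fin m ⊕ Fin m) (Fin m ⊕ Fin m) F) - 1) ^ (2 * m) = 0 ∧ ((u : Matrix (Fin m ⊕ Fin m) (Fin m ⊕ Fin m) F) - 1).rank = 2 * m - 1} = 2 := by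
  have : Nonempty (Fin m) := ⟨⟨0, hm⟩⟩
  have h2 : (2 : F) ≠ 0 := Ring.two_ne_zero fun h => by
    have := FiniteField.even_card_of_char_two h; obtain ⟨k, hk⟩ := hq; omega
  have hΦ := spForm_nondeg (F := F) m
  have h0 := fun a : Matrix.symplecticGroup (Fin m) F => mat_reg (M := a) (n := 2 * m) (t := (spEquiv m F a).1)
    (fun _ => rfl) (by simp [two_mul])
  simp only [h0]
  rw [card_cl _ (fun a => sqI (spForm m F) (spEquiv m F a).1) (fun _ => True) (fun a b ha hb => (isConj_equiv (spEquiv m F)).trans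
    ((sp_reg_conj hΦ h2 (spEquiv m F a).2 ha (spEquiv m F b).2 hb).trans eq_iff_iff.symm)) fun P => iff_of_true trivial ?_]
  · simp
  obtain ⟨t, h1, h3⟩ := exists_sqI hΦ h2 P
  exact ⟨(spEquiv m F).symm ⟨t, h1⟩, by simpa using h3⟩

end Cfsg.Agent.S2591
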