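import Cfsg.Statements.S2680
import Mathlib
import Cfsg.Agent.Lib.Perm.Inv7

set_option autoImplicit false
open Cfsg

namespace Cfsg.Agent.S2680

open Cfsg.Agent.Classical Cfsg.Agent.Perm.Inv

/-- Centraliser order of an involution t of Sp_2m(q), q even, with s = rank(t − 1) odd (type b_s): |C(t)| = q^(2ms − (3s² − s)/2) · |Sp_(s−1)(q)| · |Sp_(2m−2s)(q)|, where |Sp_2k(q)| = q^(k²) Π_(i=1)^k (q^(2i) − 1). -/
theorem result {F : Type*} [Field F] [Fintype F] [CharP F 2] {q : ℕ} (hF : Fintype.card F = q) {m s : ℕ} (t : Matrix.symplecticGroup (Fin m) F) (ht : t ^ 2 = 1) (hs : ((t : Matrix (Fin m ⊕ Fin m) (Fin m ⊕ Fin m) F) - 1).rank = s) (hodd : Odd s) : Nat.card ↥(Subgroup.centralizer ({t} : Set ↥(Matrix.symplecticGroup (Fin m) F))) = q ^ (2 * m * s - (3 * s ^ 2 - s) / 2) * ((q : ℕ) ^ (((s - 1) / 2) ^ 2) * ∏ i : Fin ((s - 1) / 2), (q ^ (2 * ((i : ℕ) + 1)) - 1)) * ((q : ℕ) ^ ((m - s) ^ 2) * ∏ i : Fin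 (m - s), (q ^ (2 * ((i : ℕ) + 1)) - 1)) := by
  have H := so2_symp (F := F) CharTwo.two_eq_zero
  have ht := (sq_equiv (spEquiv m F)).1 ht
  rw [rank_eq (spEquiv_apply m t)] at hs
  subst hs hF
  rw [card_cent_equiv (spEquiv m F), H.card_cent (spForm_nondeg m) (spEquiv m F t).2, spc_eq, spc_eq,
    (H.card_beta (spForm_nondeg m) (spEquiv m F t).2 ht).2.1 hodd,
    sp_fix H.two (spForm_nondeg m) (spEquiv m F t).2 ht (m := m) (by simp [two_mul]), Nat.card_eq_fintype_card]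
  ring

end Cfsg.Agent.S2680
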