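import Cfsg.Statements.S2594
import Mathlib
import Cfsg.Agent.S2680

set_option autoImplicit false
open Cfsg

namespace Cfsg.Agent.S2594

open Cfsg.Agent.Classical Cfsg.Agent.Perm.Inv

/-- Over a finite field with q elements, q even, an element t of Sp_2m(F) with rank(t − 1) = 1 (a symplectic transvection) has centraliser in Sp_2m(F) of order q^(2m−1) · |Sp_(2m−2)(q)| = q^(2m−1) · q^((m−1)²) · Π_(i=1)^(m−1) (q^(2i) − 1). -/
theorem result {F : Type*} [Field F] [Fintype F] [CharP F 2] {q : ℕ} (hF : Fintype.card F = q) {m : ℕ} (hm : 1 ≤ m) (t : Matrix.symplecticGroup (Fin m) F) (ht : ((t : Matrix (Fin m ⊕ Fin m) (Fin m ⊕ Fin m) F) - 1).rank = 1) : Nat.card ↥(Subgroup.centralizer ({t} : Set ↥(Matrix.symplecticGroup (Fin m) F))) = q ^ (2 * m - 1) * (q ^ ((m - 1) ^ 2) * ∏ i : Fin (m - 1), (q ^ (2 * ((i : ℕ) + 1)) - 1)) := by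
  have H := so2_symp (F := F) CharTwo.two_eq_zero
  have h1 := rank_eq (spEquiv_apply m t)
  have h2 : t ^ 2 = 1 := (sq_equiv (spEquiv m F)).2 (LinearEquiv.ext fun v => by
    have h3 : ∀ w ∈ im (spEquiv m F t).1, (spEquiv m F t).1 w = w := fun w hw =>
      (perp_im (spForm_nondeg m) (spEquiv m F t).2).1 fun u hu => by
        obtain ⟨b, hb, hb'⟩ := finrank_eq_one_iff'.1 (h1.symm.trans ht)
        obtain ⟨c, hc⟩ := hb' ⟨w, hw⟩
        obtain ⟨d, hd⟩ := hb' ⟨u, hu⟩
        rw [show w = c • b.1 from congrArg Subtype.val hc.symm, show u = d • b.1 from congrArg Subtype.val hd.symm]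
        simp [H.self]
    have := h3 _ ⟨v, rfl⟩
    rw [dl_apply, map_sub, sub_eq_iff_eq_add, sub_add_eq_add_sub, ← two_smul F, H.two, zero_smul, zero_sub] at this
    rw [LinearEquiv.mul_apply, this, ← neg_one_smul F, show (-1 : F) = 1 from CharTwo.neg_eq 1, one_smul]; rfl)
  simpa using Cfsg.Agent.S2680.result hF t h2 ht odd_one

end Cfsg.Agent.S2594
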