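import Cfsg.Statements.S2599
import Mathlib
import Cfsg.Agent.Lib.Perm.Inv5

set_option autoImplicit false
open Cfsg

namespace Cfsg.Agent.S2599

open Cfsg.Agent.Classical Cfsg.Agent.Perm.Inv

/-- An irreducible invariant subspace of a semisimple isometry is non-degenerate or totally singular: let Q be a quadratic form on F^n (F finite of characteristic p) with non-degenerate polar form f, x an isometry of Q of order prime to p, and U a non-zero x-invariant subspace containing no x-invariant subspace other than 0 and U. Then U meets its f-orthogonal trivially, or Q vanishes on U, or p = 2, U is a line spanned by a non-singular vector and x fixes U pointwise. -/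
theorem result {F : Type*} [Field F] [Fintype F] {p : ℕ} [Fact p.Prime] [CharP F p] {n : ℕ} (Q : QuadraticForm F (Fin n → F)) (hQ : (QuadraticMap.polarBilin Q).Nondegenerate) (x : ↥(Cfsg.isometryGroup F ⇑Q)) (hx : (orderOf x).Coprime p) (U : Submodule F (Fin n → F)) (hU0 : U ≠ ⊥) (hUx : ∀ u ∈ U, ((x : Matrix.GeneralLinearGroup (Fin n) F) : Matrix (Fin n) (Fin n) F).mulVec u ∈ U) (hirr : ∀ W : Submodule F (Fin n → F), W ≤ U → (∀ w ∈ W, ((x : Matrix.GeneralLinearGroup (Fin n) F) : Matrix (Fin n) (Fin n) F).mulVec w ∈ W) → W = ⊥ ∨ W = U) : U ⊓ LinearMap.BilinForm.orthogonal (QuadraticMap.polarBilin Q) U = ⊥ ∨ (∀ u ∈ U, Q u = 0) ∨ (p = 2 ∧ Module.finrank F U = 1 ∧ (∃ u ∈ U, Q u ≠ 0) ∧ ∀ u ∈ U, ((x : Matrix.GeneralLinearGroup (Fin n) F) : Matrix (Fin n) (Fin n) F).mulVec u = u) := by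
  have hp : CharP F p := inferInstance
  let Φ := Form.ofQuad Q
  let t := orthEquiv Φ x
  have ht : ∀ v, t.1 v = x.1.1.mulVec v := orthEquiv_apply Φ x
  have hsurj : ∀ u ∈ U, ∃ w ∈ U, t.1 w = u := fun u hu => by
    obtain ⟨w, hw⟩ := (LinearMap.injective_iff_surjective (f := (t.1 : _ →ₗ[F] _).restrict (p := U) (q := U) fun u hu => (ht u).symm ▸ hUx u hu)).1
      (fun a b h => Subtype.ext (t.1.injective (by have := congrArg Subtype.val h; exact this))) ⟨u, hu⟩
    exact ⟨w, w.2, congrArg Subtype.val hw⟩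
  rcases hirr (U ⊓ LinearMap.BilinForm.orthogonal (QuadraticMap.polarBilin Q) U) inf_le_left (fun w hw => ⟨hUx w hw.1, fun u hu => by
    obtain ⟨u, hu', rfl⟩ := hsurj u hu
    exact (t.2.1 u w).trans (hw.2 u hu')⟩) with h | h
  · exact .inl h
  have h1 : ∀ u ∈ U, ∀ w ∈ U, Φ.B u w = 0 := fun u hu w hw => (h.ge hw).2 u hu
  by_cases h0 : ∀ u ∈ U, Q u = 0
  · exact .inr (.inl h0)
  push Not at h0
  obtain ⟨u, hu, hQu⟩ := h0
  have h2 : (2 : F) = 0 := by
    have := h1 u hu u hu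
    rw [Form.ofQuad_B, QuadraticMap.polar_self, two_smul, ← two_mul] at this
    exact (mul_eq_zero.1 this).resolve_right hQu
  haveI : CharP F 2 := CharTwo.of_one_ne_zero_of_two_eq_zero one_ne_zero h2
  obtain ⟨φ, hφ⟩ := exists_sqrt_lin (V := U) h2 (fun v => Q v) (fun a b => Φ.N_add_of_orth (h1 _ a.2 _ b.2))
    fun c v => by simp [QuadraticMap.map_smul, sq]
  have h3 : ∀ v : U, φ v = 0 → v = 0 := by
    rcases hirr ((LinearMap.ker φ).map U.subtype) (Submodule.map_subtype_le _ _) (by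
      rintro _ ⟨w, hw, rfl⟩
      refine ⟨⟨_, hUx _ w.2⟩, pow_eq_zero_iff two_ne_zero |>.1 ?_, rfl⟩
      rw [hφ]
      exact (t.2.2 w).trans ((hφ w).symm.trans (by rw [LinearMap.mem_ker.1 hw]; simp))) with h | h
    · exact fun v hv => Subtype.ext (by simpa using (h ▸ ⟨v, hv, rfl⟩ : v.1 ∈ (⊥ : Submodule F _)))
    · obtain ⟨w, hw, rfl⟩ := (h.symm ▸ hu : u ∈ (LinearMap.ker φ).map U.subtype)
      exact absurd ((hφ w).symm.trans (by rw [LinearMap.mem_ker.1 hw]; simp)) hQu
  refine .inr (.inr ⟨CharP.eq F hp inferInstance, le_antisymm ?_ ?_, ⟨u, hu, hQu⟩, fun w hw => ?_⟩)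
  · simpa using LinearMap.finrank_le_finrank_of_injective (f := φ) ((injective_iff_map_eq_zero _).2 h3)
  · exact Nat.one_le_iff_ne_zero.2 (mt Submodule.finrank_eq_zero.1 hU0)
  · have := h3 (⟨_, hUx w hw⟩ - ⟨w, hw⟩) (by
      rw [map_sub, sub_eq_zero]
      exact CharTwo.sq_injective ((hφ _).trans ((t.2.2 w).trans (hφ ⟨w, hw⟩).symm)))
    exact sub_eq_zero.1 (congrArg Subtype.val this)

end Cfsg.Agent.S2599
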