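import Cfsg.Statements.S2601
import Mathlib
import Cfsg.Agent.Lib.Perm.Aut16

set_option autoImplicit false
open Cfsg

namespace Cfsg.Agent.S2601



/-- Structure of the outer automorphism group of PSL_n(q), n ≥ 3, q = p^f: it has a normal cyclic subgroup of order gcd(n, q − 1) (the diagonal automorphisms) whose quotient is the direct product of a cyclic group of order f (field automorphisms) and a group of order 2 (the inverse-transpose graph automorphism). -/
theorem result {F : Type*} [Field F] [Fintype F] {p f n : ℕ} [Fact p.Prime] (hf : 1 ≤ f) (hF : Fintype.card F = p ^ f) (hn : 3 ≤ n) : ∃ φ : Cfsg.Out (Matrix.ProjectiveSpecialLinearGroup (Fin n) F) →* Multiplicative (ZMod f × ZMod 2), Function.Surjective φ ∧ IsCyclic φ.ker ∧ Nat.card φ.ker = Nat.gcd n (p ^ f - 1) := by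
  haveI := Perm.Aut.charP_of_card' F p hF
  obtain ⟨ψ, h1, h2⟩ := Perm.Aut.exists_psi3' (Perm.Aut.repSL n (by omega) F).cov p (by simpa using hn)
  obtain ⟨e⟩ := Perm.Aut.nonempty_autF F p hF
  let e' : (F ≃+* F) × ℤˣ ≃* Multiplicative (ZMod f × ZMod 2) :=
    (e.prodCongr Perm.Aut.signEquiv).trans (MulEquiv.prodMultiplicative _ _).symm
  have := Perm.Aut.exists_out (Perm.Aut.repSL n (by omega) F).cov p (by simp; omega)
    (e'.toMonoidHom.comp ψ) (e'.surjective.comp h1) (by rw [h2]; ext; simp)
  rwa [Fintype.card_fin, Nat.card_eq_fintype_card, hF] at this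

end Cfsg.Agent.S2601
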