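import Cfsg.Statements.S2608
import Mathlib
import Cfsg.Agent.Lib.Perm.Aut21

set_option autoImplicit false
open Cfsg

namespace Cfsg.Agent.S2608



/-- Outer automorphism group of PΩ⁺_2m(q), q = p^f odd: for m = 4 it is S_4 × C_f (triality); for m ≥ 5 it is C_2 × C_2 × C_f when q ≡ 3 (mod 4) and m is odd, and D_8 × C_f otherwise. -/
theorem result {F : Type*} [Field F] [Fintype F] {p f m : ℕ} [Fact p.Prime] (hf : 1 ≤ f) (hF : Fintype.card F = p ^ f) (hp : p ≠ 2) (hm : 4 ≤ m) : if m = 4 then Nonempty (Cfsg.Out (Cfsg.POmega F (Cfsg.quadFormPlus m F)) ≃* Equiv.Perm (Fin 4) × Multiplicative (ZMod f)) else if p ^ f % 4 = 3 ∧ Odd m then Nonempty (Cfsg.Out (Cfsg.POmega F (Cfsg.quadFormPlus m F)) ≃* Multiplicative (ZMod 2 × ZMod 2 × ZMod f)) else Nonempty (Cfsg.Out (Cfsg.POmega F (Cfsg.quadFormPlus m F)) ≃* DihedralGroup 4 × Multiplicative (ZMod f)) := by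
  have h2 : (2 : F) ≠ 0 := fun h => hp ((Perm.Aut.two_eq_zero_iff hF).1 h)
  by_cases h4 : m = 4
  · rw [if_pos h4]
    subst h4
    obtain ⟨e⟩ := Perm.Aut.out8_odd (Perm.Aut.covP 4 (by omega) F) h2
    obtain ⟨a⟩ := Perm.Aut.nonempty_autF F p hF
    exact ⟨e.trans ((MulEquiv.refl _).prodCongr a)⟩
  rw [if_neg h4]
  have hn : 5 ≤ Module.finrank F (Fin m ⊕ Fin m → F) := by rw [Perm.Aut.finrank_sum]; omega
  let R := Perm.Aut.orepO _ (Classical.plusForm_nondeg m) hn (Perm.Aut.range_plus m (by omega) hn)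
  split_ifs with h
  · exact Perm.Aut.plus_A (by omega) R hF h2 h
  · exact Perm.Aut.plus_B (by omega) R hF h2 h

end Cfsg.Agent.S2608
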