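import Cfsg.Statements.S2609
import Mathlib
import Cfsg.Agent.Lib.Perm.Or1

set_option autoImplicit false
open Cfsg

namespace Cfsg.Agent.S2609

open Cfsg.Agent.Classical Cfsg.Agent.Perm.Ort

/-- Spinor norm criterion for Ω over a finite field of odd order: let Q be a quadratic form on F^n, n ≥ 2, with non-degenerate polar form, and let g be an isometry written as a product of reflections in non-singular vectors v_1, …, v_k. Then g lies in Ω (the commutator subgroup of the orthogonal group) if and only if k is even and Q(v_1)⋯Q(v_k) is a square; in particular, for g of determinant one, whether that product is a square does not depend on the chosen factorisation (it is the spinor norm of g). -/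
theorem result {F : Type*} [Field F] [Fintype F] (h2 : (2 : F) ≠ 0) {n : ℕ} (hn : 2 ≤ n) (Q : QuadraticForm F (Fin n → F)) (hQ : (QuadraticMap.polarBilin Q).Nondegenerate) (g : ↥(Cfsg.isometryGroup F ⇑Q)) (vs : List (Fin n → F)) (hvs : ∀ v ∈ vs, Q v ≠ 0) (hg : ((g : Matrix.GeneralLinearGroup (Fin n) F) : Matrix (Fin n) (Fin n) F) = (vs.map (fun v => Cfsg.reflectionMatrix ⇑Q v)).prod) : g ∈ Cfsg.Omega F ⇑Q ↔ (Even vs.length ∧ IsSquare (vs.map (fun v => Q v)).prod) := by
  have hΦ := Form.ofQuad_nondeg hQ
  have hG := Form.good_of_two hΦ h2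
  have key : ∃ x : (Form.ofQuad Q).Isom, (∀ w, (vs.map (fun v => Cfsg.reflectionMatrix ⇑Q v)).prod.mulVec w = x.1 w) ∧
      hG.dick hΦ x = (-1) ^ vs.length ∧ ∃ u : Fˣ, (u : F) = (vs.map (fun v => Q v)).prod ∧ hG.spin hΦ x = sqSign F u := by
    clear hg
    induction vs with
    | nil => exact ⟨1, by simp, by simp, 1, by simp, by simp⟩
    | cons v vs ih =>
      obtain ⟨x, h1, h3, u, h4, h5⟩ := ih fun w hw => hvs w (List.mem_cons_of_mem _ hw)
      have hv : (Form.ofQuad Q).N v ≠ 0 := hvs v List.mem_cons_self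
      refine ⟨(Form.ofQuad Q).reflI v hv * x, fun w => ?_, ?_, Units.mk0 _ hv * u, ?_, ?_⟩
      · rw [List.map_cons, List.prod_cons, ← Matrix.mulVec_mulVec, h1]
        exact (reflectionMatrix_mulVec (Form.ofQuad Q) v _).trans (Form.refl_apply _ v hv _).symm
      · rw [map_mul, hG.dick_reflI, h3, List.length_cons, pow_succ']
      · simp [h4]
      · rw [map_mul, hG.spin_reflI, h5, map_mul]
  obtain ⟨x, h1, h3, u, h4, h5⟩ := key
  refine (mem_Omega_iff (Form.ofQuad Q) g).trans ?_
  rw [Subtype.ext ((coe_eq_iff_orthEquiv (Form.ofQuad Q) g h1).1 hg), hG.mem_commutator_iff hΦ, h3, h5,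
    sqSign_eq_one_iff, h4, neg_one_pow_eq_one_iff_even (by decide)]

end Cfsg.Agent.S2609
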