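import Cfsg.Statements.S2612
import Mathlib
import Cfsg.Agent.Lib.Perm.Or2

set_option autoImplicit false
open Cfsg

namespace Cfsg.Agent.S2612

open Cfsg.Agent.Classical Cfsg.Agent.Perm.Ort

/-- For the hyperbolic quadratic form Σ x_i y_i on F^(2m) (F finite, m ≥ 1, excluding m = 2 over the field of two elements), Ω⁺_2m(F) (the commutator subgroup of the orthogonal group) contains an element interchanging the two complementary maximal totally singular subspaces {y = 0} and {x = 0} if and only if m is even (dimension divisible by 4). -/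
theorem result {F : Type*} [Field F] [Fintype F] {m : ℕ} (hm : 1 ≤ m) (h : Fintype.card F ≠ 2 ∨ m ≠ 2) : (∃ g : ↥(Cfsg.isometryGroup F (Cfsg.quadFormPlus m F)), g ∈ Cfsg.Omega F (Cfsg.quadFormPlus m F) ∧ (∀ v : Fin m ⊕ Fin m → F, (∀ i, v (Sum.inr i) = 0) → ∀ i, (((g : Matrix.GeneralLinearGroup (Fin m ⊕ Fin m) F) : Matrix (Fin m ⊕ Fin m) (Fin m ⊕ Fin m) F).mulVec v) (Sum.inl i) = 0) ∧ (∀ v : Fin m ⊕ Fin m → F, (∀ i, v (Sum.inl i) = 0) → ∀ i, (((g : Matrix.GeneralLinearGroup (Fin m ⊕ Fin m) F) : Matrix (Fin m ⊕ Fin m) (Fin m ⊕ Fin m) F).mulVec v) (Sum.inr i) = 0)) ↔ Even m := by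
  have hΦ := plusForm_nondeg (F := F) m
  have hG := Form.good_of_card hΦ (h.imp id fun h => by simp; omega)
  constructor
  · rintro ⟨g, h1, h2, -⟩
    exact (dick_of_swap hG (g := orthEquiv _ g) h2).1
      ((hG.mem_commutator_iff hΦ).1 ((mem_Omega_iff (plusForm m F) g).1 h1)).1
  intro he
  obtain ⟨_, ⟨a, rfl⟩, h1⟩ := adjust hG hΦ Perm.Aut.dg.range (swp m F)
    (Or.inl ((dick_of_swap hG fun v hv i => hv i).2 he)) fun h2 => by
      obtain ⟨l, hl⟩ := exists_sqSign h2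
      refine ⟨_, ⟨Pi.mulSingle ⟨0, hm⟩ l, rfl⟩, ?_⟩
      rw [Perm.Aut.dg_single, hG.dick_dil, hG.spin_dil]; exact ⟨rfl, hl⟩
  obtain ⟨g, hg⟩ := (orthEquiv (plusForm m F)).surjective (swp m F * Perm.Aut.dg a)
  have e : ∀ v k, (g.1.1.mulVec v) k = Perm.Aut.dgL a v k.swap := fun v k => by
    rw [← orthEquiv_apply, hg]; rfl
  exact ⟨g, (mem_Omega_iff (plusForm m F) g).2 (hg ▸ h1), fun v hv i => (e v _).trans (by simp [hv]),
    fun v hv i => (e v _).trans (by simp [hv])⟩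

end Cfsg.Agent.S2612
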