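import Cfsg.Statements.S2616
import Mathlib
import Cfsg.Agent.Lib.Perm.Or1

set_option autoImplicit false
open Cfsg

namespace Cfsg.Agent.S2616

open Cfsg.Agent.Classical Cfsg.Agent.Perm.Ort

/-- Standard bases of a non-degenerate quadratic space of even dimension 2m over a finite field: either there is a hyperbolic basis e_i, f_i (Q(e_i) = Q(f_i) = 0, B(e_i, f_j) = δ_ij, the e's pairwise orthogonal and the f's pairwise orthogonal, B the polar form), or there is an elliptic basis: hyperbolic pairs e_i, f_i for i < m − 1 together with x, y orthogonal to them with Q(x) = 1, B(x, y) = 1, Q(y) = ζ where t² + t + ζ has no root in the field. -/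
theorem result {F V : Type*} [Field F] [Finite F] [AddCommGroup V] [Module F V] [FiniteDimensional F V] {m : ℕ} (hm : 1 ≤ m) (hV : Module.finrank F V = 2 * m) (Q : QuadraticForm F V) (hQ : (QuadraticMap.polarBilin Q).Nondegenerate) : (∃ b : Module.Basis (Fin m ⊕ Fin m) F V, (∀ i, Q (b (Sum.inl i)) = 0 ∧ Q (b (Sum.inr i)) = 0) ∧ (∀ i j, QuadraticMap.polar ⇑Q (b (Sum.inl i)) (b (Sum.inr j)) = if i = j then 1 else 0) ∧ (∀ i j, QuadraticMap.polar ⇑Q (b (Sum.inl i)) (b (Sum.inl j)) = 0 ∧ QuadraticMap.polar ⇑Q (b (Sum.inr i)) (b (Sum.inr j)) = 0)) ∨ (∃ (b : Module.Basis ((Fin (m - 1) ⊕ Fin (m - 1)) ⊕ Fin 2) F V) (ζ : F), (∀ t : F, t ^ 2 + t + ζ ≠ 0) ∧ (∀ i, Q (b (Sum.inl (Sum.inl i))) = 0 ∧ Q (b (Sum.inl (Sum.inr i))) = 0) ∧ (∀ i j, QuadraticMap.polar ⇑Q (b (Sum.inl (Sum.inl i))) (b (Sum.inl (Sum.inr j))) = if i = j then 1 else 0) ∧ (∀ i j, QuadraticMap.polar ⇑Q (b (Sum.inl (Sum.inl i))) (b (Sum.inl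 (Sum.inl j))) = 0 ∧ QuadraticMap.polar ⇑Q (b (Sum.inl (Sum.inr i))) (b (Sum.inl (Sum.inr j))) = 0) ∧ (∀ i (k : Fin 2), QuadraticMap.polar ⇑Q (b (Sum.inl (Sum.inl i))) (b (Sum.inr k)) = 0 ∧ QuadraticMap.polar ⇑Q (b (Sum.inl (Sum.inr i))) (b (Sum.inr k)) = 0) ∧ Q (b (Sum.inr 0)) = 1 ∧ QuadraticMap.polar ⇑Q (b (Sum.inr 0)) (b (Sum.inr 1)) = 1 ∧ Q (b (Sum.inr 1)) = ζ) := by
  have hΦ := Form.ofQuad_nondeg hQ
  rcases exists_isType m _ hΦ hV with h | h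
  · obtain ⟨e, h1, h2⟩ := orth_iso_even 1 m _ _ (plusForm_nondeg m) hΦ (plusForm_isType m) h
    have h1 : ∀ u v, QuadraticMap.polar Q (e u) (e v) = (plusForm m F).B u v := h1
    have h2 : ∀ v, Q (e v) = Cfsg.quadFormPlus m F v := h2
    refine Or.inl ⟨(Pi.basisFun F _).map e, ?_⟩
    simp [h1, h2, plusForm_B, Cfsg.quadFormPlus, Pi.single_apply, eq_comm]
  obtain ⟨m, rfl⟩ : ∃ k, m = k + 1 := ⟨m - 1, by omega⟩
  obtain ⟨ζ, hζ⟩ : ∃ ζ : F, ∀ t : F, t ^ 2 + t + ζ ≠ 0 := by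
    by_contra hc
    push Not at hc
    have : Function.Surjective fun t : F => -(t ^ 2 + t) := fun z => (hc z).imp fun t h => by
      linear_combination -h
    exact absurd (Finite.injective_iff_surjective.2 this (a₁ := 0) (a₂ := -1) (by simp)) (by simp)
  have hab : ∀ z₁ z₂ : F, z₁ ^ 2 + 1 * z₁ * z₂ + ζ * z₂ ^ 2 = 0 → z₁ = 0 ∧ z₂ = 0 := fun x y e => by
    by_cases hy : y = 0
    · subst hy; simpa using e
    · exact absurd (by field_simp; linear_combination e) (hζ (x / y))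
  obtain ⟨e, h1, h2⟩ := orth_iso_even (-1) (m + 1) _ _ (minusForm_nondeg m hab) hΦ (minusForm_isType m hab) h
  have h1 : ∀ u v, QuadraticMap.polar Q (e u) (e v) = (minusForm m F 1 ζ).B u v := h1
  have h2 : ∀ v, Q (e v) = Cfsg.quadFormMinus m F 1 ζ v := h2
  refine Or.inr ⟨(Pi.basisFun F ((Fin m ⊕ Fin m) ⊕ Fin 2)).map e, ζ, hζ, ?_⟩
  simp [h1, h2, minusForm_B, Cfsg.quadFormMinus, Pi.single_apply, eq_comm]

end Cfsg.Agent.S2616
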