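import Cfsg.Statements.S2618
import Mathlib
import Cfsg.Agent.Lib.Perm.Or1

set_option autoImplicit false
open Cfsg

namespace Cfsg.Agent.S2618

open Cfsg.Agent.Classical Cfsg.Agent.Perm.Ort

/-- Standard (parabolic) basis of a non-degenerate quadratic space of odd dimension 2m + 1 over a finite field (the non-degeneracy of the polar form forces the characteristic to be odd): there is a basis e_i, f_i (i < m), x with Q(e_i) = Q(f_i) = 0, B(e_i, f_j) = δ_ij (B the polar form), the e's pairwise orthogonal and the f's pairwise orthogonal, x orthogonal to all of them and Q(x) ≠ 0. -/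
theorem result {F V : Type*} [Field F] [Finite F] [AddCommGroup V] [Module F V] [FiniteDimensional F V] {m : ℕ} (hV : Module.finrank F V = 2 * m + 1) (Q : QuadraticForm F V) (hQ : (QuadraticMap.polarBilin Q).Nondegenerate) : ∃ b : Module.Basis (Unit ⊕ (Fin m ⊕ Fin m)) F V, Q (b (Sum.inl ())) ≠ 0 ∧ (∀ i, QuadraticMap.polar ⇑Q (b (Sum.inl ())) (b (Sum.inr (Sum.inl i))) = 0 ∧ QuadraticMap.polar ⇑Q (b (Sum.inl ())) (b (Sum.inr (Sum.inr i))) = 0) ∧ (∀ i, Q (b (Sum.inr (Sum.inl i))) = 0 ∧ Q (b (Sum.inr (Sum.inr i))) = 0) ∧ (∀ i j, QuadraticMap.polar ⇑Q (b (Sum.inr (Sum.inl i))) (b (Sum.inr (Sum.inr j))) = if i = j then 1 else 0) ∧ (∀ i j, QuadraticMap.polar ⇑Q (b (Sum.inr (Sum.inl i))) (b (Sum.inr (Sum.inl j))) = 0 ∧ QuadraticMap.polar ⇑Q (b (Sum.inr (Sum.inr i))) (b (Sum.inr (Sum.inr j))) = 0) := by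
  have hΦ := Form.ofQuad_nondeg hQ
  have h2 := two_ne_of_odd hΦ ⟨m, hV⟩
  obtain ⟨c, hc, e, h1, h2⟩ := orth_iso_odd m _ _ (oddForm_nondeg m h2) hΦ (by simp; omega) hV
  have h1 : ∀ u v, QuadraticMap.polar Q (e u) (e v) = c * (oddForm m F).B u v := h1
  have h2 : ∀ v, Q (e v) = c * Cfsg.quadFormOdd m F v := h2
  refine ⟨((Pi.basisFun F _).unitsSMul (Sum.elim 1 (Sum.elim 1 fun _ => (Units.mk0 c hc)⁻¹))).map e, ?_⟩
  simp only [Module.Basis.map_apply, h1, h2, Module.Basis.unitsSMul_apply]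
  simp [oddForm_B, Cfsg.quadFormOdd, Pi.single_apply, eq_comm, hc, Units.smul_def]

end Cfsg.Agent.S2618
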