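import Cfsg.Statements.S2619
import Mathlib

set_option autoImplicit false
open Cfsg

namespace Cfsg.Agent.S2619



/-- Over a finite field of characteristic two, given an alternating bilinear form B on a finite-dimensional space, a basis (v_i) and scalars (λ_i), there is exactly one quadratic form whose polar form is B and whose value at each v_i is λ_i. -/
theorem result {F V ι : Type*} [Field F] [Finite F] [CharP F 2] [AddCommGroup V] [Module F V] [Fintype ι] (b : Module.Basis ι F V) (B : LinearMap.BilinForm F V) (hB : B.IsAlt) (c : ι → F) : ∃! Q : QuadraticForm F V, QuadraticMap.polarBilin Q = B ∧ ∀ i, Q (b i) = c i := by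
  classical
  letI := (Fintype.equivFin ι).linearOrder
  have h2 : (2 : F) = 0 := CharTwo.two_eq_zero
  refine existsUnique_of_exists_of_unique ?_ fun Q Q' ⟨h1, h3⟩ ⟨h1', h3'⟩ => QuadraticMap.ext fun v => ?_
  · obtain ⟨B', hB'⟩ : ∃ B' : LinearMap.BilinForm F V, ∀ i j, B' (b i) (b j) =
        if i < j then B (b i) (b j) else if i = j then c i else 0 :=
      ⟨b.constr F fun i => b.constr F fun j => _, fun i j => by rw [b.constr_basis, b.constr_basis]⟩
    refine ⟨B'.toQuadraticMap, ?_, fun i => by simp [hB']⟩
    rw [LinearMap.BilinMap.polarBilin_toQuadraticMap]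
    refine b.ext fun i => b.ext fun j => ?_
    rcases lt_trichotomy i j with h | rfl | h
    · simp [hB', h, h.ne', h.not_gt]
    · simp [hB', hB.self_eq_zero, ← two_mul, h2]
    · simp [hB', h, h.ne', h.not_gt, ← hB.neg_eq (b j), CharTwo.neg_eq]
  · induction b.mem_span v using Submodule.span_induction with
    | mem x hx => obtain ⟨i, rfl⟩ := hx; rw [h3, h3']
    | zero => simp
    | add x y _ _ hx hy =>
      rw [QuadraticMap.map_add Q, QuadraticMap.map_add Q', hx, hy, ← QuadraticMap.polarBilin_apply_apply,
        ← QuadraticMap.polarBilin_apply_apply, h1, h1']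
    | smul a x _ hx => rw [QuadraticMap.map_smul, QuadraticMap.map_smul, hx]

end Cfsg.Agent.S2619
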