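import Cfsg.Statements.S2620
import Mathlib
import Cfsg.Agent.Lib.Perm.Or1
import Cfsg.Agent.Lib.Perm.Aut12

set_option autoImplicit false
open Cfsg

namespace Cfsg.Agent.S2620

open Cfsg.Agent.Classical Cfsg.Agent.Perm.Ort

/-- Discriminant of the hyperbolic quadratic form Σ_(i<m) x_i y_i over a field with q elements, q odd, m ≥ 1: the determinant of the Gram matrix of its polar form in any basis is a square if and only if m(q − 1)/2 is even (equivalently q^m ≡ 1 (mod 4)). -/
theorem result {F : Type*} [Field F] [Fintype F] {q : ℕ} (hF : Fintype.card F = q) (hq : Odd q) {m : ℕ} (hm : 1 ≤ m) {ι : Type*} [Fintype ι] [DecidableEq ι] (b : Module.Basis ι F (Fin m ⊕ Fin m → F)) : IsSquare (Matrix.of (fun i j : ι => QuadraticMap.polar (Cfsg.quadFormPlus m F) (b i) (b j))).det ↔ Even (m * (q - 1) / 2) := by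
  subst hF
  have := isSquare_gd_iff (plusForm_nondeg m) (two_ne_zero_of_odd hq) (η := 1) (plusForm_isType m) b
  rw [Perm.Aut.even_half_iff (Nat.odd_iff.1 hq), ← sqSign_neg_pow, eq_comm, ← this]
  refine iff_of_eq ?_
  congr 3; ext i j
  exact ((plusForm m F).orth_B _ _).symm

end Cfsg.Agent.S2620
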