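import Cfsg.Statements.S2623
import Mathlib
import Cfsg.Agent.Lib.Perm.Or1

set_option autoImplicit false
open Cfsg

namespace Cfsg.Agent.S2623

open Cfsg.Agent.Classical Cfsg.Agent.Perm.Ort

/-- Over a finite field of odd order, two quadratic forms on F^n with non-degenerate polar forms are isometric (related by an invertible linear change of variables) if and only if their discriminants (determinants of the Gram matrices of their polar forms) lie in the same square class. -/
theorem result {F : Type*} [Field F] [Fintype F] (h2 : (2 : F) ≠ 0) {n : ℕ} (Q₁ Q₂ : QuadraticForm F (Fin n → F)) (h₁ : (QuadraticMap.polarBilin Q₁).Nondegenerate) (h₂ : (QuadraticMap.polarBilin Q₂).Nondegenerate) : (∃ g : (Fin n → F) ≃ₗ[F] (Fin n → F), ∀ v, Q₂ (g v) = Q₁ v) ↔ IsSquare ((Matrix.of (fun i j : Fin n => QuadraticMap.polar ⇑Q₁ (Pi.single i 1) (Pi.single j 1))).det * (Matrix.of (fun i j : Fin n => QuadraticMap.polar ⇑Q₂ (Pi.single i 1) (Pi.single j 1))).det) := by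
  have hΦ := Form.ofQuad_nondeg h₁
  have hΨ := Form.ofQuad_nondeg h₂
  let b := Pi.basisFun F (Fin n)
  have e : ∀ Q : QuadraticForm F (Fin n → F), (Matrix.of (fun i j : Fin n =>
      QuadraticMap.polar ⇑Q (Pi.single i 1) (Pi.single j 1))).det = gd (bl (Form.ofQuad Q)) b := fun Q => by
    simp only [b, gd, bl_apply, Form.ofQuad_B, Pi.basisFun_apply]
  rw [e, e]
  constructor
  · rintro ⟨g, hg⟩
    obtain ⟨t, ht, h1⟩ := gd_basis (bl (Form.ofQuad Q₂)) b (b.map g)
    have : gd (bl (Form.ofQuad Q₂)) (b.map g) = gd (bl (Form.ofQuad Q₁)) b := by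
      simp only [gd, bl_apply, Form.ofQuad_B, QuadraticMap.polar, Module.Basis.map_apply, ← map_add, hg]
    exact ⟨t * gd (bl (Form.ofQuad Q₂)) b, by rw [← this, h1]; ring⟩
  intro h
  suffices (Form.ofQuad Q₁).Iso (Form.ofQuad Q₂) from this.imp fun _ h => h.2
  rcases n with _ | n
  · exact Form.iso_of_subsingleton _ _
  obtain ⟨α, hα⟩ := Form.exists_not_isSquare h2
  have key : ∀ Φ : Form (Kind.orth F) (Fin (n + 1) → F), Φ.Nondeg → ∃ c : Module.Basis (Fin (n + 1)) F (Fin (n + 1) → F),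
      (∀ i j, i ≠ j → Φ.B (c i) (c j) = 0) ∧ (∀ i, i ≠ Fin.last n → Φ.N (c i) = 1) ∧
      (Φ.N (c (Fin.last n)) = 1 ∨ Φ.N (c (Fin.last n)) = α) ∧
      ∃ t, t ≠ 0 ∧ gd (bl Φ) b = t ^ 2 * (2 ^ (n + 1) * Φ.N (c (Fin.last n))) := fun Φ hΦ => by
    obtain ⟨c, h1, h3, h4⟩ := exists_orthonormal h2 hα n Φ hΦ (by simp)
    have : ∀ i, Φ.B (c i) (c i) ≠ 0 := fun i => by
      rw [Form.orth_B_self]
      refine mul_ne_zero h2 ?_
      by_cases hi : i = Fin.last n
      · subst hi
        rcases h4 with h | h <;> rw [h]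
        · exact one_ne_zero
        · rintro rfl; exact hα ⟨0, by simp⟩
      · rw [h3 i hi]; exact one_ne_zero
    let c' := basisOfLinearIndependentOfCardEqFinrank (Form.linearIndependent_of_orth h1 this) (by simp)
    have hc : ⇑c' = c := coe_basisOfLinearIndependentOfCardEqFinrank _ _
    obtain ⟨t, ht, e⟩ := gd_basis (bl Φ) c' b
    refine ⟨c', by rwa [hc], by rwa [hc], by rwa [hc], t, ht, ?_⟩
    rw [e, hc, gd_orth (bl Φ) _ h1]
    simp [bl_apply, Form.orth_B_self, Finset.prod_mul_distrib, Fin.prod_univ_castSucc, h3, pow_succ, mul_assoc]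
  obtain ⟨c, a1, a2, a3, s, hs, a4⟩ := key _ hΦ
  obtain ⟨d, b1, b2, b3, t, ht, b4⟩ := key _ hΨ
  have hN : ∀ i, (Form.ofQuad Q₂).N (d i) = (Form.ofQuad Q₁).N (c i) := fun i => by
    by_cases hi : i = Fin.last n
    · subst hi
      rw [a4, b4, show ∀ x y : F, s ^ 2 * (2 ^ (n + 1) * x) * (t ^ 2 * (2 ^ (n + 1) * y)) =
        (s * t * 2 ^ (n + 1)) ^ 2 * (x * y) from fun x y => by ring,
        isSquare_sq_mul (mul_ne_zero (mul_ne_zero hs ht) (pow_ne_zero _ h2))] at h
      rcases a3 with a3 | a3 <;> rcases b3 with b3 | b3 <;> rw [a3, b3] at h ⊢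
      · exact absurd (by simpa using h) hα
      · exact absurd (by simpa using h) hα
    · rw [a2 i hi, b2 i hi]
  refine Form.iso_of_basis c d (fun i j => ?_) hN
  by_cases hij : i = j
  · subst hij; rw [Form.orth_B_self, Form.orth_B_self, hN]
  · rw [a1 i j hij, b1 i j hij]

end Cfsg.Agent.S2623
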