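import Cfsg.Statements.S2624
import Mathlib
import Cfsg.Agent.Lib.Perm.Or1

set_option autoImplicit false
open Cfsg

namespace Cfsg.Agent.S2624

open Cfsg.Agent.Classical Cfsg.Agent.Perm.Ort

/-- For a quadratic form Q on F^n with non-degenerate polar form, F finite and n ≥ 2 even, every non-zero scalar c is the multiplier of some similarity: there is an invertible linear map g with Q(g v) = c·Q(v) for all v. -/
theorem result {F : Type*} [Field F] [Fintype F] {n : ℕ} (hn : 2 ≤ n) (he : Even n) (Q : QuadraticForm F (Fin n → F)) (hQ : (QuadraticMap.polarBilin Q).Nondegenerate) (c : F) (hc : c ≠ 0) : ∃ g : (Fin n → F) ≃ₗ[F] (Fin n → F), ∀ v, Q (g v) = c * Q v := by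
  have hΦ := Form.ofQuad_nondeg hQ
  obtain ⟨m, hm⟩ := he
  obtain ⟨η, h⟩ : ∃ η, (Form.ofQuad Q).IsType m η :=
    (exists_isType m _ hΦ (by simp; omega)).elim (fun h => ⟨_, h⟩) fun h => ⟨_, h⟩
  obtain ⟨g, -, hg⟩ := orth_iso_even η m ((Form.ofQuad Q).scale c) _ (hΦ.scale hc) hΦ
    ⟨h.1, by rw [Form.cnt_scale _ hc]; exact h.2⟩ h
  exact ⟨g, hg⟩

end Cfsg.Agent.S2624
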