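import Cfsg.Statements.S2625
import Mathlib
import Cfsg.Agent.Lib.Perm.Or1

set_option autoImplicit false
open Cfsg

namespace Cfsg.Agent.S2625

open Cfsg.Agent.Classical Cfsg.Agent.Perm.Ort

/-- For a quadratic form Q on F^n with non-degenerate polar form, F finite and n odd (so |F| is odd), the multiplier of any similarity is a square: if g is an invertible linear map with Q(g v) = c·Q(v) for all v then c is a square. -/
theorem result {F : Type*} [Field F] [Fintype F] {n : ℕ} (hn : Odd n) (Q : QuadraticForm F (Fin n → F)) (hQ : (QuadraticMap.polarBilin Q).Nondegenerate) (g : (Fin n → F) ≃ₗ[F] (Fin n → F)) (c : F) (hg : ∀ v, Q (g v) = c * Q v) : IsSquare c := by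
  have hΦ := Form.ofQuad_nondeg hQ
  let b := Pi.basisFun F (Fin n)
  have h0 := gd_ne_zero (B := bl (Form.ofQuad Q)) hΦ b
  obtain ⟨t, ht, h1⟩ := gd_basis (bl (Form.ofQuad Q)) b (b.map g)
  have h2 : gd (bl (Form.ofQuad Q)) (b.map g) = c ^ n * gd (bl (Form.ofQuad Q)) b := by
    rw [gd, gd, show c ^ n = c ^ Fintype.card (Fin n) by simp, ← Matrix.det_smul]
    congr 1; ext i j
    simp only [bl_apply, Form.ofQuad_B, QuadraticMap.polar, Matrix.of_apply, Module.Basis.map_apply,
      Matrix.smul_apply, ← map_add, hg, smul_eq_mul]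
    ring
  rw [h2, mul_left_inj' h0] at h1
  obtain ⟨k, rfl⟩ := hn
  have hc : c ≠ 0 := by rintro rfl; exact pow_ne_zero 2 ht (by simpa using h1.symm)
  rw [← isSquare_sq_mul (pow_ne_zero k hc)]
  exact ⟨t, by linear_combination h1⟩

end Cfsg.Agent.S2625
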