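import Cfsg.Statements.S2630
import Mathlib
import Cfsg.Agent.Lib.Perm.Or1

set_option autoImplicit false
open Cfsg

namespace Cfsg.Agent.S2630

open Cfsg.Agent.Classical Cfsg.Agent.Perm.Ort

/-- For the hyperbolic form Σ x_i y_i on F^(2m) over a finite field of characteristic two (m ≥ 1, excluding m = 2 over the field of two elements), an isometry g preserves the class of the maximal totally singular subspace U₀ = {y = 0} (m − dim(U₀ ∩ gU₀) even) if and only if g lies in Ω (the commutator subgroup of the orthogonal group): the stabiliser of each class is Ω. -/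
theorem result {F : Type*} [Field F] [Fintype F] [CharP F 2] {m : ℕ} (hm : 1 ≤ m) (h : Fintype.card F ≠ 2 ∨ m ≠ 2) (g : ↥(Cfsg.isometryGroup F (Cfsg.quadFormPlus m F))) : Even (m - Module.finrank F ↥(LinearMap.ker (LinearMap.funLeft F F (Sum.inr : Fin m → Fin m ⊕ Fin m)) ⊓ (LinearMap.ker (LinearMap.funLeft F F (Sum.inr : Fin m → Fin m ⊕ Fin m))).map (Matrix.mulVecLin ((g : Matrix.GeneralLinearGroup (Fin m ⊕ Fin m) F) : Matrix (Fin m ⊕ Fin m) (Fin m ⊕ Fin m) F)))) ↔ g ∈ Cfsg.Omega F (Cfsg.quadFormPlus m F) := by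
  have hΦ := plusForm_nondeg (F := F) m
  have hG := Form.good_of_card hΦ (h.imp id fun h => by simp; omega)
  have hU : (plusForm m F).MTS (plusTS m F) := ⟨plusTS_TS m, by simp [finrank_plusTS, two_mul]⟩
  have := even_iff_dick hG hΦ hU (orthEquiv _ g)
  rw [← even_sub_iff, finrank_plusTS, ← mulVecLin_eq (plusForm m F) g] at this
  have e : LinearMap.ker (LinearMap.funLeft F F (Sum.inr : Fin m → Fin m ⊕ Fin m)) = plusTS m F := by
    ext v; rw [mem_plusTS, LinearMap.mem_ker, funext_iff]; rfl
  rw [e]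
  refine this.trans (Iff.trans ?_ (mem_Omega_iff (plusForm m F) g).symm)
  rw [hG.commutator_eq_of_two hΦ CharTwo.two_eq_zero, MonoidHom.mem_ker]

end Cfsg.Agent.S2630
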