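import Cfsg.Statements.S2634
import Mathlib
import Cfsg.Agent.Lib.Perm.Or1

set_option autoImplicit false
open Cfsg

namespace Cfsg.Agent.S2634

open Cfsg.Agent.Classical Cfsg.Agent.Perm.Ort

/-- Over a finite field of characteristic two, Ω (the commutator subgroup of the orthogonal group of a quadratic form Q on F^n with non-degenerate polar form; excluding dimension 4 over the field of two elements) acts transitively on the non-singular 1-spaces: for u, v with Q(u) ≠ 0 and Q(v) ≠ 0 some element of Ω carries the line through u to the line through v. -/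
theorem result {F : Type*} [Field F] [Fintype F] [CharP F 2] {n : ℕ} (h : Fintype.card F ≠ 2 ∨ n ≠ 4) (Q : QuadraticForm F (Fin n → F)) (hQ : (QuadraticMap.polarBilin Q).Nondegenerate) (u v : Fin n → F) (hu : Q u ≠ 0) (hv : Q v ≠ 0) : ∃ g : ↥(Cfsg.isometryGroup F ⇑Q), g ∈ Cfsg.Omega F ⇑Q ∧ (F ∙ ((g : Matrix.GeneralLinearGroup (Fin n) F) : Matrix (Fin n) (Fin n) F).mulVec u) = F ∙ v := by
  have hΦ := Form.ofQuad_nondeg hQ
  have hG := Form.good_of_card hΦ (by simpa using h)
  obtain ⟨t, ht⟩ := exists_sq_of_two (CharTwo.two_eq_zero (R := F)) (Q u / Q v)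
  have ht0 : t ≠ 0 := by rintro rfl; exact div_ne_zero hu hv (by simpa using ht.symm)
  have hv0 : v ≠ 0 := by rintro rfl; simp at hv
  obtain ⟨g, hg, h1⟩ := hΦ.exists_isom_vec (u := u) (u' := t • v) (by rintro rfl; simp at hu) (smul_ne_zero ht0 hv0)
    (by rw [Form.orth_N_smul, ht]; exact (div_mul_cancel₀ _ hv).symm)
  obtain ⟨g, h2, h3⟩ := exists_Omega_map (Form.ofQuad Q) (adjust_map hG hΦ (U := F ∙ u) (W := F ∙ v) (g := ⟨g, hg⟩)
    (by rw [Submodule.map_span, Set.image_singleton]
        exact (congrArg (F ∙ ·) h1).trans (Submodule.span_singleton_smul_eq ht0.isUnit _))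
    (Or.inr ⟨_, refl_stab (Submodule.mem_span_singleton_self u) hu, hG.dick_reflI hΦ _ _⟩)
    fun h => absurd CharTwo.two_eq_zero h)
  rw [Submodule.map_span, Set.image_singleton] at h3
  exact ⟨g, h2, h3⟩

end Cfsg.Agent.S2634
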