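import Cfsg.Statements.S2635
import Mathlib
import Cfsg.Agent.Lib.Perm.Or1

set_option autoImplicit false
open Cfsg

namespace Cfsg.Agent.S2635

open Cfsg.Agent.Classical Cfsg.Agent.Perm.Ort

/-- Over a finite field of characteristic two, for a quadratic form Q on F^n with non-degenerate polar form, n ≥ 2, other than dimension 4 over the field of two elements, Ω (the commutator subgroup of the orthogonal group) is exactly the subgroup generated by the products of two reflections (orthogonal transvections) x ↦ x − Q(v)⁻¹ f(x, v) v, Q(v) ≠ 0: the products of an even number of reflections. -/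
theorem result {F : Type*} [Field F] [Fintype F] [CharP F 2] {n : ℕ} (hn : 2 ≤ n) (h : Fintype.card F ≠ 2 ∨ n ≠ 4) (Q : QuadraticForm F (Fin n → F)) (hQ : (QuadraticMap.polarBilin Q).Nondegenerate) : Cfsg.Omega F ⇑Q = Subgroup.closure {g : ↥(Cfsg.isometryGroup F ⇑Q) | ∃ u v : Fin n → F, Q u ≠ 0 ∧ Q v ≠ 0 ∧ ((g : Matrix.GeneralLinearGroup (Fin n) F) : Matrix (Fin n) (Fin n) F) = Cfsg.reflectionMatrix ⇑Q u * Cfsg.reflectionMatrix ⇑Q v} := by
  have hΦ := Form.ofQuad_nondeg hQ
  have hG := Form.good_of_card hΦ (by simpa using h)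
  ext g
  refine (mem_Omega_iff (Form.ofQuad Q) g).trans ?_
  rw [hG.commutator_eq_of_two hΦ CharTwo.two_eq_zero, MonoidHom.mem_ker, ← mem_refl2_iff hG hΦ]
  refine (mem_closure_equiv_subtype (orthEquiv (Form.ofQuad Q)) (Form.refl2Set_subset _) fun g => ?_).symm
  constructor
  · rintro ⟨u, v, hu, hv, h⟩; exact ⟨u, hu, v, hv, (coe_eq_refl2_iff (Form.ofQuad Q) g hu hv).1 h⟩
  · rintro ⟨u, hu, v, hv, h⟩; exact ⟨u, v, hu, hv, (coe_eq_refl2_iff (Form.ofQuad Q) g hu hv).2 h⟩

end Cfsg.Agent.S2635
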