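import Cfsg.Statements.S2636

set_option autoImplicit false
open Cfsg

namespace Cfsg.Agent.S2636

open Matrix in
theorem main {F : Type*} [Field F] [Fintype F] (E : Subfield F) {n : ℕ} (hn : 1 ≤ n) (σ : F ≃+* F)
    (hE : ∀ a, a ∈ E ↔ σ a = a) :
    Nat.card {g : GL (Fin n) F // ∃ c : F, c ≠ 0 ∧ (g : Matrix (Fin n) (Fin n) F).map σ = c • (g : Matrix (Fin n) (Fin n) F)} * Nat.card Eˣ = Nat.card Fˣ * Nat.card (GL (Fin n) E) := by
  let μ : Fˣ × GL (Fin n) E →* GL (Fin n) F :=
    MonoidHom.noncommCoprod (GeneralLinearGroup.scalar (Fin n)) (GeneralLinearGroup.map E.subtype)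
      fun a h => (Subgroup.mem_center_iff.1 (GeneralLinearGroup.center_eq_range_scalar.ge ⟨a, rfl⟩) _).symm
  have hμ : ∀ a h i j, (μ (a, h) : Matrix (Fin n) (Fin n) F) i j = a * ((h : Matrix (Fin n) (Fin n) E) i j : F) := by
    intro a h i j
    change (Matrix.scalar (Fin n) (a : F) * (h : Matrix (Fin n) (Fin n) E).map E.subtype) i j = _
    simp [Matrix.scalar_apply, Matrix.diagonal_mul]
  let i0 : Fin n := ⟨0, hn⟩
  have h1 : ∀ g : GL (Fin n) F, g ∈ μ.range ↔ ∃ c : F, c ≠ 0 ∧ (g : Matrix (Fin n) (Fin n) F).map σ = c • (g : Matrix (Fin n) (Fin n) F) := by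
    intro g
    constructor
    · rintro ⟨⟨a, h⟩, rfl⟩
      refine ⟨σ a / a, div_ne_zero ((map_ne_zero σ).2 a.ne_zero) a.ne_zero, ?_⟩
      ext i j
      rw [Matrix.map_apply, Matrix.smul_apply, hμ, map_mul, (hE _).1 (Subtype.prop _), smul_eq_mul]
      field_simp
    · rintro ⟨c, hc, h⟩
      obtain ⟨j0, hj0⟩ : ∃ j, (g : Matrix (Fin n) (Fin n) F) i0 j ≠ 0 := by
        by_contra h0
        push Not at h0
        exact g.det_ne_zero (det_eq_zero_of_row_eq_zero i0 h0)
      set a := (g : Matrix (Fin n) (Fin n) F) i0 j0 with ha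
      have hij : ∀ i j, σ ((g : Matrix (Fin n) (Fin n) F) i j) = c * (g : Matrix (Fin n) (Fin n) F) i j :=
        fun i j => congrFun (congrFun h i) j
      let M : Matrix (Fin n) (Fin n) E := of fun i j => ⟨a⁻¹ * (g : Matrix (Fin n) (Fin n) F) i j, (hE _).2 (by
        rw [map_mul, map_inv₀, ha, hij, hij]; field_simp)⟩
      have hM : E.subtype.mapMatrix M = a⁻¹ • (g : Matrix (Fin n) (Fin n) F) := by
        ext i j; rfl
      have hd : M.det ≠ 0 := fun h0 => by
        have := congrArg det hM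
        rw [← RingHom.map_det, h0, map_zero, det_smul] at this
        exact mul_ne_zero (pow_ne_zero _ (inv_ne_zero hj0)) g.det_ne_zero this.symm
      refine ⟨(Units.mk0 a hj0, GeneralLinearGroup.mkOfDetNeZero M hd), Units.ext ?_⟩
      ext i j
      rw [hμ]
      change a * (a⁻¹ * _) = _
      rw [mul_inv_cancel_left₀ hj0]
  let ν : Eˣ →* Fˣ × GL (Fin n) E :=
    (Units.map E.subtype.toMonoidHom).prod ((GeneralLinearGroup.scalar (Fin n)).comp invMonoidHom)
  have hν : Function.Injective ν := fun u v h =>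
    Units.ext (Subtype.ext (congrArg (fun x : Fˣ × GL (Fin n) E => (x.1 : F)) h))
  have h2 : ν.range = μ.ker := by
    ext ⟨a, h⟩
    constructor
    · rintro ⟨u, hu⟩
      rw [← hu, MonoidHom.mem_ker]
      ext i j
      change (μ (_, _) : Matrix (Fin n) (Fin n) F) i j = _
      rw [hμ]
      change (u.1 : F) * ((Matrix.scalar (Fin n) (u⁻¹).1 i j : E) : F) = _
      by_cases hij : i = j <;> simp [hij, Matrix.scalar_apply]
    · intro hk
      have hk' : ∀ i j, (a : F) * ((h : Matrix (Fin n) (Fin n) E) i j : F) = (1 : Matrix (Fin n) (Fin n) F) i j :=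
        fun i j => by rw [← hμ, MonoidHom.mem_ker.1 hk]; rfl
      have h0 := hk' i0 i0
      rw [one_apply_eq] at h0
      have h3 : (h : Matrix (Fin n) (Fin n) E) i0 i0 ≠ 0 := fun h4 => by simp [h4] at h0
      refine ⟨(Units.mk0 _ h3)⁻¹, Prod.ext (Units.ext ?_) (Units.ext ?_)⟩
      · simp [ν]
        exact (eq_inv_of_mul_eq_one_left h0).symm
      · ext i j
        apply mul_left_cancel₀ a.ne_zero
        rw [hk']
        by_cases hij : i = j <;> simp [ν, hij, Matrix.scalar_apply, h0, Matrix.one_apply]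
  have h3 := μ.ker.card_mul_index
  rw [Subgroup.index_ker, ← h2, ← Nat.card_congr (MonoidHom.ofInjective hν).toEquiv, Nat.card_prod] at h3
  rw [← h3, mul_comm]
  congr 1
  exact Nat.card_congr (Equiv.subtypeEquivRight fun g => (h1 g).symm)


/-- Centraliser of a field automorphism in PGL_n: let F be the field with q = q₀^r elements, σ a field automorphism of F of prime order r (so its fixed field has q₀ elements) and n ≥ 1. The invertible matrices g whose entrywise image under σ is a scalar multiple of g — those whose coset modulo scalars is fixed by σ — number (q − 1)/(q₀ − 1) · |GL_n(q₀)|; equivalently the centraliser in PGL_n(q) of the induced automorphism has the order of PGL_n(q₀). -/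
theorem result {F : Type*} [Field F] [Fintype F] {q₀ r n : ℕ} (hr : r.Prime) (hn : 1 ≤ n) (hF : Fintype.card F = q₀ ^ r) (σ : F ≃+* F) (hσ : orderOf σ = r) : Nat.card {g : GL (Fin n) F // ∃ c : F, c ≠ 0 ∧ (g : Matrix (Fin n) (Fin n) F).map σ = c • (g : Matrix (Fin n) (Fin n) F)} = (q₀ ^ r - 1) / (q₀ - 1) * ∏ i : Fin n, (q₀ ^ n - q₀ ^ (i : ℕ)) := by
  classical
  let E := FixedPoints.subfield (Subgroup.zpowers σ) F
  have hE : ∀ a, a ∈ E ↔ σ a = a := fun a => by
    refine ⟨fun h => h ⟨σ, Subgroup.mem_zpowers σ⟩, fun h g => ?_⟩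
    exact (Subgroup.zpowers_le.2 (show σ ∈ MulAction.stabilizer (F ≃+* F) a from h) g.2 :)
  haveI : Finite (F ≃+* F) := Finite.of_injective (fun f : F ≃+* F => (f : F → F)) DFunLike.coe_injective
  letI := Fintype.ofFinite (Subgroup.zpowers σ)
  have h1 := FixedPoints.finrank_eq_card (Subgroup.zpowers σ) F
  rw [← Nat.card_eq_fintype_card, Nat.card_zpowers, hσ] at h1
  have h2 : Fintype.card E = q₀ := by
    have := Module.card_eq_pow_finrank (K := E) (V := F)
    rw [h1, hF] at this
    exact (Nat.pow_left_injective hr.ne_zero this).symm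
  have h3 := main E hn σ hE
  rw [Matrix.card_GL_field, Nat.card_eq_fintype_card (α := Eˣ), Nat.card_eq_fintype_card (α := Fˣ),
    Fintype.card_units, Fintype.card_units, h2, hF] at h3
  have h4 : 0 < q₀ - 1 := by
    have : 1 < Fintype.card E := Fintype.one_lt_card
    omega
  have h5 : q₀ - 1 ∣ q₀ ^ r - 1 := by simpa using Nat.sub_dvd_pow_sub_pow q₀ 1 r
  refine Nat.eq_of_mul_eq_mul_right h4 ?_
  rw [h3, mul_right_comm, Nat.div_mul_cancel h5]

end Cfsg.Agent.S2636
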