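import Cfsg.Statements.S2637
import Cfsg.Agent.Lib.Classical.GUc
import Cfsg.Agent.Lib.Classical.Ext2

set_option autoImplicit false
open Cfsg

namespace Cfsg.Agent.S2637
open Cfsg.Agent.Classical

open Polynomial Module in
theorem main {F : Type*} [Field F] [Fintype F] {q : ℕ} (hF : Fintype.card F = q) (hq : q % 3 = 2)
    {V : Type*} [AddCommGroup V] [Module F V] [FiniteDimensional F V] {Φ : Form (Kind.symp F) V}
    (hΦ : Φ.Nondeg) {m : ℕ} (hV : finrank F V = 2 * m) (x : Φ.Isom)
    (hx : ∀ v, x.1 (x.1 v) + x.1 v + v = 0) :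
    Nat.card (Subgroup.centralizer ({x} : Set Φ.Isom)) = q ^ (m * (m - 1) / 2) *
      ∏ i ∈ Finset.range m, (if Even i then q ^ (i + 1) + 1 else q ^ (i + 1) - 1) := by
  classical
  have cube : ∀ {R : Type _} [CommRing R] (a : R), a ^ 2 + a + 1 = 0 → a ^ q = a ^ 2 := by
    intro R _ a ha
    have h3 : a ^ 3 = 1 := by linear_combination (a - 1) * ha
    rw [← Nat.div_add_mod q 3, hq, pow_add, pow_mul, h3, one_pow, one_mul]
  let P : F[X] := X ^ 2 + X + 1
  have hPm : P.Monic := by unfold P; monicity!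
  have hPd : P.natDegree = 2 := by unfold P; compute_degree!
  have h3 : (3 : F) ≠ 0 := fun h => by
    have h1 := FiniteField.cast_card_eq_zero F
    rw [hF, ← Nat.div_add_mod q 3, hq] at h1
    push_cast at h1
    have h2 : (1 : F) = 0 := by linear_combination h - h1 + (q / 3 : ℕ) * h
    exact one_ne_zero h2
  have hirr : Irreducible P := by
    refine (hPm.irreducible_iff_roots_eq_zero_of_degree_le_three (by omega) (by omega)).2 ?_
    refine Multiset.eq_zero_of_forall_notMem fun a ha => ?_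
    have h1 : a ^ 2 + a + 1 = 0 := by simpa [P] using (mem_roots hPm.ne_zero).1 ha
    have h2 := cube a h1
    rw [← hF, FiniteField.pow_card] at h2
    have h4 : a * (a - 1) = 0 := by linear_combination -h2
    rcases mul_eq_zero.1 h4 with h | h
    · simp [h] at h1
    · exact h3 (by linear_combination h1 - (a + 2) * h)
  haveI := Fact.mk hirr
  let L := AdjoinRoot P
  let φ : L →+* End F V := Ideal.Quotient.lift _ (aeval (x.1 : End F V) : F[X] →ₐ[F] _).toRingHom
    fun a ha => aeval_eq_zero_of_dvd_aeval_eq_zero (Ideal.mem_span_singleton.1 ha) (by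
      ext v; simpa [P, sq] using hx v)
  have hφ : ∀ a, φ (AdjoinRoot.mk _ a) = aeval (x.1 : End F V) a := fun a => rfl
  letI : Module L V := Module.compHom V φ
  have hsm : ∀ (c : L) (v : V), c • v = φ c v := fun _ _ => rfl
  have hal : ∀ (a : F) (v : V), algebraMap F L a • v = a • v := fun a v => by
    rw [hsm, show algebraMap F L a = AdjoinRoot.mk P (C a) from rfl, hφ, aeval_C]; rfl
  haveI : IsScalarTower F L V := ⟨fun a c v => by rw [Algebra.smul_def, mul_smul, hal]⟩
  haveI : Module.Finite F L := hPm.finite_adjoinRoot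
  haveI : Finite L := Module.finite_of_finite F
  letI := Fintype.ofFinite L
  have hr : finrank F L = 2 := by
    rw [(AdjoinRoot.powerBasis hPm.ne_zero).finrank, AdjoinRoot.powerBasis_dim, hPd]
  have hL : Fintype.card L = q ^ 2 := by rw [Module.card_eq_pow_finrank (K := F), hF, hr]
  let θ : L := AdjoinRoot.root P
  have hθ : ∀ v : V, θ • v = x.1 v := fun v => by
    rw [hsm, show θ = AdjoinRoot.mk P X from rfl, hφ, aeval_X]; rfl
  have hθ2 : θ ^ 2 + θ + 1 = 0 := by
    have := AdjoinRoot.mk_self (f := P)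
    rw [show AdjoinRoot.mk P P = AdjoinRoot.mk P (X ^ 2 + X + 1) from rfl, map_add, map_add, map_pow, map_one] at this
    exact this
  have hτ : frobq hL θ = θ ^ 2 := cube θ hθ2
  have hne : frobq hL θ ≠ θ := fun h => by
    rw [hτ] at h
    have h4 : θ * (θ - 1) = 0 := by linear_combination h
    rcases mul_eq_zero.1 h4 with h | h
    · simp [h] at hθ2
    · refine h3 ((algebraMap F L).injective ?_)
      rw [map_ofNat, map_zero]
      linear_combination hθ2 - (θ + 2) * h
  have hfix : ∀ a : F, frobq hL (algebraMap F L a) = algebraMap F L a := fun a => by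
    rw [frobq_apply, ← map_pow, ← hF, FiniteField.pow_card]
  have hQ : Form.QF2 F (frobq hL) θ := ⟨hfix, hne, fun c => by
    obtain ⟨a, rfl⟩ := AdjoinRoot.mk_surjective c
    induction a using Polynomial.induction_on with
    | C a => exact ⟨a, 0, by rw [map_zero, zero_mul, add_zero]; rfl⟩
    | add a b ha hb =>
      obtain ⟨a1, a2, ha⟩ := ha
      obtain ⟨b1, b2, hb⟩ := hb
      exact ⟨a1 + b1, a2 + b2, by rw [map_add, ha, hb, map_add, map_add]; ring⟩
    | monomial k a ha =>
      obtain ⟨a1, a2, ha⟩ := ha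
      refine ⟨-a2, a1 - a2, ?_⟩
      rw [pow_succ, ← mul_assoc, map_mul, ha, map_neg, map_sub]
      change _ * θ = _
      linear_combination (algebraMap F L a2) * hθ2⟩
  have ha : ∀ (c : L) u v, Φ.B (c • u) v = Φ.B u (frobq hL c • v) := fun c u v => by
    obtain ⟨a, b, rfl⟩ := hQ.gen c
    have h1 : Φ.B (θ • u) v = Φ.B u (θ ^ 2 • v) := by
      have h2 : θ • θ ^ 2 • v = v := by
        rw [smul_smul, show θ * θ ^ 2 = 1 by linear_combination (θ - 1) * hθ2, one_smul]
      rw [← x.2.1 u, ← hθ, ← hθ, h2]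
    rw [map_add, map_mul, hfix, hfix, hτ, add_smul, add_smul, mul_smul, mul_smul, hal, hal, hal, hal,
      map_add, map_add, LinearMap.add_apply, Φ.B_smul_left, Φ.B_smul_left, Φ.B_smul_right,
      Φ.B_smul_right, h1]
    rfl
  obtain ⟨Ψ, hΨ, hB1, hB2⟩ := Form.exists_herm (hτ := frobq_frobq hL) (ζ := θ - frobq hL θ) hQ hΦ
    (fun _ => rfl) ha (sub_ne_zero.2 hne.symm) (by rw [map_sub, frobq_frobq, Kind.symp_ε, map_neg, map_one]; ring)
  haveI : FiniteDimensional L V := Module.Finite.of_restrictScalars_finite F L V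
  have hm : finrank L V = m := by
    have := Module.finrank_mul_finrank F L V
    rw [hr, hV] at this
    omega
  rw [← card_unit hL m Ψ hΨ hm]
  symm
  refine Nat.card_congr (Equiv.ofBijective (fun g => ⟨⟨Form.rsc F g.1, Form.mem_Isom_symp.2 fun u v =>
    (algebraMap F L).injective ?_⟩, Subgroup.mem_centralizer_singleton_iff.2 ?_⟩) ⟨?_, ?_⟩)
  · rw [hB1, hB1, Form.rsc_apply, Form.rsc_apply, g.2.1]
  · refine Subtype.ext (LinearEquiv.ext fun v => ?_)
    change g.1 (x.1 v) = x.1 (g.1 v)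
    rw [← hθ, ← hθ, map_smul]
  · intro g g' h
    exact Subtype.ext (LinearEquiv.ext fun v =>
      congrArg (fun y : Subgroup.centralizer ({x} : Set Φ.Isom) => y.1.1 v) h)
  · rintro ⟨g, hg⟩
    have h1 : ∀ v, g.1 (θ • v) = θ • g.1 v := fun v => by
      rw [hθ, hθ]
      exact congrArg (fun y : Φ.Isom => y.1 v) (Subgroup.mem_centralizer_singleton_iff.1 hg)
    let g' : V ≃ₗ[L] V := { g.1.toAddEquiv with map_smul' := hQ.lin (f := g.1.toLinearMap) h1 }
    refine ⟨⟨g', Form.mem_Isom_unit.2 fun u v => ?_⟩, rfl⟩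
    apply mul_left_cancel₀ (mul_ne_zero (sub_ne_zero.2 hne.symm) (sub_ne_zero.2 hne.symm))
    rw [hB2, hB2]
    change algebraMap F L (Φ.B (θ • g.1 u) (g.1 v)) - _ * algebraMap F L (Φ.B (g.1 u) (g.1 v)) = _
    rw [← h1, g.2.1, g.2.1]


/-- Centraliser of a fixed-point-free element of order three in Sp_2m(q) when q ≡ 2 (mod 3): if x ∈ Sp_2m(F) (|F| = q, m ≥ 1) satisfies x³ = 1 and x − 1 is invertible, then its centraliser in Sp_2m(F) has the order of the unitary group GU_m(q), namely q^(m(m−1)/2) Π_(i=1)^m (q^i − (−1)^i) (x lies in the centre of a subgroup GU_m(q) of Sp_2m(q)). -/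
theorem result {F : Type*} [Field F] [Fintype F] {q : ℕ} (hF : Fintype.card F = q) (hq : q % 3 = 2) {m : ℕ} (hm : 1 ≤ m) (x : Matrix.symplecticGroup (Fin m) F) (hx3 : x ^ 3 = 1) (hfpf : IsUnit ((x : Matrix (Fin m ⊕ Fin m) (Fin m ⊕ Fin m) F) - 1)) : (Nat.card ↥(Subgroup.centralizer ({x} : Set ↥(Matrix.symplecticGroup (Fin m) F))) : ℤ) = (q : ℤ) ^ (m * (m - 1) / 2) * ∏ i : Fin m, ((q : ℤ) ^ ((i : ℕ) + 1) - (-1) ^ ((i : ℕ) + 1)) := by
  have h1 : Nat.card (Subgroup.centralizer ({x} : Set (Matrix.symplecticGroup (Fin m) F))) =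
      Nat.card (Subgroup.centralizer ({spEquiv m F x} : Set (spForm m F).Isom)) := by
    refine Nat.card_congr ((spEquiv m F).toEquiv.subtypeEquiv fun g => ?_)
    rw [Subgroup.mem_centralizer_singleton_iff, Subgroup.mem_centralizer_singleton_iff,
      MulEquiv.toEquiv_eq_coe, MulEquiv.coe_toEquiv, ← map_mul, ← map_mul, (spEquiv m F).apply_eq_iff_eq]
  have h2 : x.1 * x.1 + x.1 + 1 = 0 := by
    have h3 : x.1 ^ 3 = 1 := congrArg Subtype.val hx3
    refine hfpf.mul_left_cancel ?_
    rw [mul_zero, ← sub_self (1 : Matrix _ _ F)]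
    nth_rewrite 3 [← h3]
    noncomm_ring
  rw [h1, main hF hq (spForm_nondeg m) (m := m) (by simp; omega) _ fun v => by
    simp only [spEquiv_apply]
    rw [Matrix.mulVec_mulVec, ← Matrix.add_mulVec]
    conv_lhs => arg 2; rw [← Matrix.one_mulVec v]
    rw [← Matrix.add_mulVec, h2, Matrix.zero_mulVec], unit_prod_cast (by omega)]

end Cfsg.Agent.S2637
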