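import Cfsg.Statements.S2638

set_option autoImplicit false
open Cfsg

namespace Cfsg.Agent.S2638
open Polynomial Matrix


/-- If an element x of GL_n(q), n ≥ 1, has prime order r and the multiplicative order of q modulo r is n (r is a primitive prime divisor of q^n − 1, so x acts irreducibly), then the centraliser of x in GL_n(q) is cyclic of order q^n − 1 (the multiplicative group of the field with q^n elements, a Singer cycle). -/
theorem result {F : Type*} [Field F] [Fintype F] {p q : ℕ} [Fact p.Prime] [CharP F p] (hF : Fintype.card F = q) {n r : ℕ} (hn : 1 ≤ n) (hr : r.Prime) (hrp : r ≠ p) (hi : orderOf (q : ZMod r) = n) (x : GL (Fin n) F) (hx : orderOf x = r) : IsCyclic ↥(Subgroup.centralizer ({x} : Set (GL (Fin n) F))) ∧ Nat.card ↥(Subgroup.centralizer ({x} : Set (GL (Fin n) F))) = q ^ n - 1 := by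
  classical

  haveI : NeZero n := ⟨by omega⟩
  haveI : Fact r.Prime := ⟨hr⟩
  obtain ⟨f, -, hf⟩ := FiniteField.card F p
  have hcop : p.Coprime r := (Nat.coprime_primes Fact.out hr).2 hrp.symm
  set X0 : Matrix (Fin n) (Fin n) F := x.val with hX0
  have hint : IsIntegral F X0 := Matrix.isIntegral _
  have hm0 := minpoly.monic hint
  have h1 : minpoly F X0 ∣ cyclotomic r F * (X - 1) := by
    rw [cyclotomic_prime_mul_X_sub_one]
    refine minpoly.dvd _ _ ?_
    have : X0 ^ r = 1 := by rw [hX0, ← Units.val_pow_eq_pow_val, ← hx, pow_orderOf_eq_one, Units.val_one]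
    simp [this]
  obtain ⟨g, hg, hg1, hg2⟩ : ∃ g : F[X], Irreducible g ∧ g ∣ minpoly F X0 ∧ g ∣ cyclotomic r F := by
    by_contra h
    have h2 : IsCoprime (minpoly F X0) (cyclotomic r F) :=
      isCoprime_of_irreducible_dvd (fun h => hm0.ne_zero h.1) fun g hg h1 h2 => h ⟨g, hg, h1, h2⟩
    have h3 := aeval_eq_zero_of_dvd_aeval_eq_zero (h2.dvd_of_dvd_mul_left h1) (minpoly.aeval F X0)
    have h4 : x = 1 := Units.ext (show X0 = 1 by simpa [sub_eq_zero] using h3)
    rw [h4, orderOf_one] at hx
    exact hr.one_lt.ne hx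
  have hdeg : g.natDegree = n := by
    rw [natDegree_of_dvd_cyclotomic_of_irreducible hf hcop hg2 hg, ← orderOf_units, ZMod.coe_unitOfCoprime,
      ← hf, hF, hi]
  have hle : (minpoly F X0).natDegree ≤ n := by
    simpa using natDegree_le_of_dvd (Matrix.minpoly_dvd_charpoly X0) (Matrix.charpoly_monic X0).ne_zero
  have hass : Associated g (minpoly F X0) := associated_of_dvd_of_natDegree_le hg1 hm0.ne_zero (by omega)
  have hirr : Irreducible (minpoly F X0) := hass.irreducible hg
  have hdeg' : (minpoly F X0).natDegree = n := by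
    rw [← natDegree_eq_of_degree_eq (degree_eq_degree_of_associated hass), hdeg]
  haveI := Fact.mk hirr
  let K := AdjoinRoot (minpoly F X0)
  let φ : K →+* Matrix (Fin n) (Fin n) F := Ideal.Quotient.lift _ (aeval X0 : F[X] →ₐ[F] _).toRingHom
    fun a ha => aeval_eq_zero_of_dvd_aeval_eq_zero (Ideal.mem_span_singleton.1 ha) (minpoly.aeval F X0)
  have hφ : ∀ a, φ (AdjoinRoot.mk _ a) = aeval X0 a := fun a => rfl
  haveI : Module.Finite F K := hm0.finite_adjoinRoot
  haveI : Finite K := Module.finite_of_finite F
  letI := Fintype.ofFinite K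
  have hK : Fintype.card K = q ^ n := by
    rw [Module.card_eq_pow_finrank (K := F), hF, (AdjoinRoot.powerBasis hm0.ne_zero).finrank,
      AdjoinRoot.powerBasis_dim, hdeg']
  let v : Fin n → F := Pi.single 0 1
  have hv : v ≠ 0 := by simp [v]
  have hinj : Function.Injective fun k : K => φ k *ᵥ v := fun k k' h => by
    by_contra hk
    have h2 : φ (k - k') *ᵥ v = 0 := by rw [map_sub, sub_mulVec]; exact sub_eq_zero.2 h
    have h3 : φ (k - k')⁻¹ *ᵥ (φ (k - k') *ᵥ v) = v := by
      rw [mulVec_mulVec, ← map_mul, inv_mul_cancel₀ (sub_ne_zero.2 hk), map_one, one_mulVec]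
    rw [h2, mulVec_zero] at h3
    exact hv h3.symm
  have hsurj := ((Fintype.bijective_iff_injective_and_card _).2 ⟨hinj, by simp [hK, hF]⟩).2
  let ψ : Kˣ →* GL (Fin n) F := Units.map φ.toMonoidHom
  have hψ : Function.Injective ψ := Units.map_injective φ.injective
  have hC : Subgroup.centralizer ({x} : Set (GL (Fin n) F)) = ψ.range := by
    ext y
    rw [Subgroup.mem_centralizer_singleton_iff]
    constructor
    · intro h
      have hc : ∀ k, y.val * φ k = φ k * y.val := fun k => by
        obtain ⟨a, rfl⟩ := AdjoinRoot.mk_surjective k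
        rw [hφ]
        have hy : Commute y.val X0 := congrArg Units.val h
        induction a using Polynomial.induction_on' with
        | add a b ha hb => rw [map_add, mul_add, add_mul, ha, hb]
        | monomial k c =>
          rw [aeval_monomial]
          exact Commute.mul_right (Algebra.commutes c y.val).symm (hy.pow_right k)
      obtain ⟨k, hk⟩ := hsurj (y.val *ᵥ v)
      have he : φ k = y.val := by
        refine Matrix.toLin'.injective (LinearMap.ext fun w => ?_)
        obtain ⟨k', rfl⟩ := hsurj w
        dsimp only at hk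
        simp only [toLin'_apply]
        rw [mulVec_mulVec, mulVec_mulVec, hc, ← mulVec_mulVec _ (φ k'), ← hk, mulVec_mulVec, ← map_mul,
          ← map_mul, mul_comm]
      have hk0 : k ≠ 0 := by
        rintro rfl
        rw [map_zero] at he
        exact y.ne_zero he.symm
      exact ⟨Units.mk0 k hk0, Units.ext he⟩
    · rintro ⟨k, rfl⟩
      apply Units.ext
      change φ k * X0 = X0 * φ k
      have h5 : φ (AdjoinRoot.mk _ X) = X0 := by rw [hφ, aeval_X]
      have h6 : φ k * φ (AdjoinRoot.mk _ X) = φ (AdjoinRoot.mk _ X) * φ k := by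
        rw [← map_mul, ← map_mul, mul_comm]
      rwa [h5] at h6
  rw [hC]
  refine ⟨isCyclic_of_surjective _ ψ.rangeRestrict_surjective, ?_⟩
  rw [← Nat.card_congr (MonoidHom.ofInjective hψ).toEquiv, Nat.card_eq_fintype_card, Fintype.card_units, hK]

end Cfsg.Agent.S2638
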