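import Cfsg.Statements.S2642
import Mathlib
import Cfsg.Agent.Lib.Perm.Un1

set_option autoImplicit false
open Cfsg

namespace Cfsg.Agent.S2642

open Cfsg.Agent.Classical Cfsg.Agent.Perm.Inv Cfsg.Agent.Perm.Cj

/-- Number of conjugacy classes of elements of order p in the general unitary group GU_n(q), q a power of p: every unipotent Jordan type occurs and the classes correspond to the partitions of n with all parts at most p other than the all-ones partition, exactly as in GL_n; so there are (number of partitions of n with parts ≤ p) − 1 classes. -/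
theorem result {K : Type*} [Field K] [Fintype K] {p q n : ℕ} [Fact p.Prime] [CharP K p] (hK : Fintype.card K = q ^ 2) : Nat.card {C : ConjClasses ↥(Cfsg.GU n K q) // ∃ g : ↥(Cfsg.GU n K q), ConjClasses.mk g = C ∧ orderOf g = p} = (Finset.univ.filter (fun μ : Nat.Partition n => ∀ a ∈ μ.parts, a ≤ p)).card - 1 := by
  have hΦ := uForm_nondeg hK n
  rw [card_ord_sub Fact.out, card_unip (guEquiv hK n) (n := n) (by simp) (· ∣ p) p (fun t => by
    simpa [orderOf_dvd_iff_pow_eq_one] using (dl_pow_char p t 1).symm)
    (fun t ht s hs H => isim_iff.1 (isim_unit (frobq_ne_id hK) hΦ hΦ ht hs H)) (exists_unit_unip (frobq_ne_id hK) hΦ)]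

end Cfsg.Agent.S2642
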