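import Cfsg.Statements.S2643
import Mathlib
import Cfsg.Agent.Lib.Perm.Un2

set_option autoImplicit false
open Cfsg

namespace Cfsg.Agent.S2643

open Cfsg.Agent.Classical Cfsg.Agent.Perm.Inv Cfsg.Agent.Perm.Cj

/-- Regular unipotent classes of SU_n(q), n ≥ 2: the elements u of the special unitary group (isometries of Σ u_i v_i^q of determinant one over the field with q² elements) with (u − 1)^n = 0 and rank(u − 1) = n − 1 form exactly gcd(n, q + 1) conjugacy classes of SU_n(q). -/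
theorem result {K : Type*} [Field K] [Fintype K] {q n : ℕ} (hK : Fintype.card K = q ^ 2) (hn : 2 ≤ n) : Nat.card {C : ConjClasses ↥(Cfsg.SU n K q) // ∃ u : ↥(Cfsg.SU n K q), ConjClasses.mk u = C ∧ (((u : GL (Fin n) K) : Matrix (Fin n) (Fin n) K) - 1) ^ n = 0 ∧ (((u : GL (Fin n) K) : Matrix (Fin n) (Fin n) K) - 1).rank = n - 1} = Nat.gcd n (q + 1) := by
  have : Nonempty (Fin n) := ⟨⟨0, by omega⟩⟩
  have hΦ := uForm_nondeg hK n
  obtain ⟨u, hu⟩ := exists_reg (F := K) (V := Fin n → K)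
  obtain ⟨u, h1, H⟩ := exists_unit_unip (frobq_ne_id hK) hΦ u hu.1
  replace hu := (sim_dl.2 H).reg hu
  have h2 := unit_range_det hK hΦ (by simp; omega)
  rw [MonoidHom.range_comp, Subgroup.range_subtype] at h2
  rw [card_split_cl (suEquiv hK n) LinearEquiv.det (T := (uForm hK n).Isom) (fun _ => .rfl) ⟨h1, det_unip hu.1⟩ _ fun a =>
    (mat_reg (t := (suEquiv hK n a).1) (fun _ => rfl) (by simp)).trans ⟨fun h => isim_iff.1 (isim_unit (frobq_ne_id hK) hΦ hΦ
    h1 (suEquiv hK n a).2.1 (sim_dl.1 (hu.sim h rfl))), fun ⟨g, _, h⟩ => (sim_dl.2 (conj_iff_sim.1 ⟨g, h⟩)).reg hu⟩,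
    hu.map_det_unit hΦ h1 fun _ => mem_ker_norm_iff hK, h2, relIndex_pow, card_ker_norm hK]
  simp

end Cfsg.Agent.S2643
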