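import Cfsg.Statements.S2645
import Mathlib
import Cfsg.Agent.Lib.Perm.Cj9

set_option autoImplicit false
open Cfsg

namespace Cfsg.Agent.S2645

open Cfsg.Agent.Classical Cfsg.Agent.Perm.Inv Cfsg.Agent.Perm.Cj

/-- Number of conjugacy classes of elements of odd prime order r, r different from the characteristic, in the symplectic group Sp_2m(q): let i be the multiplicative order of q modulo r and t = (r − 1)/i. If i is odd the eigenvalue orbits pair off (Λ ≠ Λ⁻¹) and the classes correspond to the non-zero (t/2)-tuples (a_j) with 2i Σ a_j ≤ 2m, giving C(⌊m/i⌋ + t/2, t/2) − 1 classes; if i is even (Λ = Λ⁻¹) they correspond to the non-zero t-tuples with i Σ a_j ≤ 2m, giving C(⌊2m/i⌋ + t, t) − 1 classes. -/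
theorem result {F : Type*} [Field F] [Fintype F] {p q : ℕ} [Fact p.Prime] [CharP F p] (hF : Fintype.card F = q) (m r i t : ℕ) (hr : r.Prime) (hr2 : r ≠ 2) (hrp : r ≠ p) (hi : i = orderOf (q : ZMod r)) (ht : t * i = r - 1) : Nat.card {C : ConjClasses ↥(Matrix.symplecticGroup (Fin m) F) // ∃ g : Matrix.symplecticGroup (Fin m) F, ConjClasses.mk g = C ∧ orderOf g = r} = if Odd i then Nat.choose (m / i + t / 2) (t / 2) - 1 else Nat.choose (2 * m / i + t) t - 1 := by
  have := neZero_of (F := F) hr hrp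
  rw [← hF, ← Nat.card_eq_fintype_card] at hi
  have h0 : t * i ≠ 0 := by have := hr.two_le; omega
  have h1 := Nat.pos_of_ne_zero (right_ne_zero_of_mul h0)
  have hΦ := spForm_nondeg (F := F) m
  obtain ⟨J, _, -, h2, h3⟩ := ms_id hr hr2 hi ht
  rw [card_ord (spEquiv m F) hr hi (n := 2 * m) (by simp [two_mul]) (fun s => s.map (dual (RingHom.id F)) = s)
    (conj_odd hr hr2 hΦ) fun s a hs h => symp_Q hr hs hr2 hΦ (by rw [← hi, h]; simp [two_mul])]
  simp only [and_comm (a := _ ≤ _), h3 (i * · ≤ 2 * m)]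
  split_ifs at * <;> simp only [one_mul, mul_left_comm i, Nat.mul_le_mul_left_iff two_pos, mul_comm i, mul_assoc,
    ← Nat.le_div_iff_mul_le h1, ms_le, h2]

end Cfsg.Agent.S2645
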