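import Cfsg.Statements.S4010
import Cfsg.Agent.Lib.Block.Syl1
import Cfsg.Agent.Lib.Block.Defect

set_option autoImplicit false
open Cfsg

namespace Cfsg.Agent.S4010

open Cfsg.Agent.Blk
open Cfsg.Agent.Char hiding cj cj_mul cj_inv_cj cj_cj_inv
open Subgroup commutatorElement Module

universe u v w

section
variable {K : Type w} [Field K]

theorem sub_triv {P V : Type*} [Group P] [AddCommGroup V] [Module K V] (ρ : Representation K P V)
    {W : Submodule K V} (hW : ∀ g, W ≤ W.comap (ρ g)) {x : P}
    (hx : x ∈ (ρ.subrepresentation W hW).ker) : ∀ w ∈ W, ρ x w = w := fun w hw =>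
  congrArg Subtype.val (LinearMap.congr_fun (MonoidHom.mem_ker.1 hx) ⟨w, hw⟩)

theorem quo_triv {P V : Type*} [Group P] [AddCommGroup V] [Module K V] (ρ : Representation K P V)
    {W : Submodule K V} (hW : ∀ g, W ≤ W.comap (ρ g)) {x : P}
    (hx : x ∈ (ρ.quotient W hW).ker) (v : V) : ρ x v - v ∈ W :=
  (Submodule.Quotient.eq W).1 (LinearMap.congr_fun (MonoidHom.mem_ker.1 hx) (Submodule.Quotient.mk v))

theorem exists_flag {p : ℕ} [Fact p.Prime] [CharP K p] {P V : Type*} [Group P] [Finite P]
    [AddCommGroup V] [Module K V] [FiniteDimensional K V] (hP : IsPGroup p P)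
    (ρ : Representation K P V) (d : ℕ) (hd : d ≤ finrank K V) :
    ∃ W : Submodule K V, (∀ g, W ≤ W.comap (ρ g)) ∧ finrank K W = d := by
  induction d with
  | zero => exact ⟨⊥, fun g => bot_le, finrank_bot K V⟩
  | succ d ih =>
    obtain ⟨W, hW, hWd⟩ := ih (by omega)
    have h1 : 0 < finrank K (V ⧸ W) := by have := W.finrank_quotient_add_finrank; omega
    have : Nontrivial (V ⧸ W) := finrank_pos_iff.1 h1
    obtain ⟨v0, hv0⟩ := exists_ne (0 : V ⧸ W)
    obtain ⟨w, -, hw0, hw⟩ := exists_fixed_vector hP (ρ.quotient W hW) ⊤ (fun _ _ _ => trivial)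
      (AddSubgroup.mem_top v0) hv0
    obtain ⟨v, rfl⟩ := Submodule.Quotient.mk_surjective W w
    have hv : v ∉ W := fun h => hw0 ((Submodule.Quotient.mk_eq_zero W).2 h)
    refine ⟨W ⊔ K ∙ v, fun g => sup_le (fun x hx => Submodule.mem_sup_left (hW g hx)) ?_, ?_⟩
    · rw [Submodule.span_singleton_le_iff_mem, Submodule.mem_comap]
      have h2 : ρ g v - v ∈ W := (Submodule.Quotient.eq W).1 (hw g)
      have := add_mem (Submodule.mem_sup_left (T := K ∙ v) h2)
        (Submodule.mem_sup_right (Submodule.mem_span_singleton_self v))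
      rwa [sub_add_cancel] at this
    · have h3 := Submodule.finrank_sup_add_finrank_inf_eq W (K ∙ v)
      rw [(Submodule.disjoint_span_singleton_of_notMem hv).eq_bot, finrank_bot,
        finrank_span_singleton (K := K) (v := v) (fun h => hv (by rw [h]; exact W.zero_mem))] at h3
      omega

theorem charp {p : ℕ} [Fact p.Prime] [CharP K p] {P : Type u} [Group P] [Finite P]
    (hP : IsPGroup p P) (k : ℕ) : ∀ (V : Type v) [AddCommGroup V] [Module K V]
      [FiniteDimensional K V] (ρ : Representation K P V), finrank K V ≤ 2 ^ k →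
      derivedSeries P k ≤ ρ.ker := by
  induction k with
  | zero =>
    intro V _ _ _ ρ h x _
    rw [MonoidHom.mem_ker]
    ext v
    by_cases hv : v = 0
    · simp [hv]
    obtain ⟨w, -, hw0, hw⟩ := exists_fixed_vector hP ρ ⊤ (fun _ _ _ => trivial)
      (AddSubgroup.mem_top v) hv
    have h1 : finrank K V = 1 := by
      have : Nontrivial V := ⟨⟨v, 0, hv⟩⟩
      have := finrank_pos (R := K) (M := V)
      omega
    obtain ⟨c, rfl⟩ := (finrank_eq_one_iff_of_nonzero' w hw0).1 h1 v
    simp [hw]
  | succ k ih =>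
    intro V _ _ _ ρ h
    obtain ⟨W, hW, hWd⟩ := exists_flag hP ρ (min (finrank K V) (2 ^ k)) (min_le_left _ _)
    have h1 := ih W (ρ.subrepresentation W hW) (by omega)
    have h2 := ih (V ⧸ W) (ρ.quotient W hW) (by
      have := W.finrank_quotient_add_finrank; rw [pow_succ] at h; omega)
    rw [derivedSeries_succ, commutator_le]
    intro x hx y hy
    have key : ∀ x ∈ derivedSeries P k, ∀ y ∈ derivedSeries P k, ∀ v,
        ρ x (ρ y v) = ρ x v + ρ y v - v := by
      intro x hx y hy v
      have := sub_triv ρ hW (h1 hx) _ (quo_triv ρ hW (h2 hy) v)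
      rw [map_sub, sub_eq_iff_eq_add] at this
      rw [this]; abel
    have hc : ρ x * ρ y = ρ y * ρ x := by
      ext v
      simp only [End.mul_apply]
      rw [key x hx y hy, key y hy x hx, add_comm]
    rw [MonoidHom.mem_ker, commutatorElement_def, map_mul, map_mul, map_mul, hc, ← map_mul,
      ← map_mul, ← map_mul]
    simp

theorem ds_le {P : Type*} [Group P] {M : Subgroup P} (h : commutator P ≤ M) (i : ℕ) :
    derivedSeries P (i + 1) ≤ (derivedSeries M i).map M.subtype := by
  induction i with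
  | zero => rw [derivedSeries_zero, ← MonoidHom.range_eq_map, range_subtype]; exact h
  | succ i ih =>
    rw [derivedSeries_succ, derivedSeries_succ (G := M), map_commutator]
    exact commutator_mono ih ih

theorem reduce {p : ℕ} {P : Type u} [Group P] [Finite P] (hP : IsPGroup p P) {V : Type v}
    [AddCommGroup V] [Module K V] (ρ : Representation K P V) (j : ℕ)
    (h : ∀ (Q : Type u) [Group Q] [Finite Q], IsPGroup p Q → ∀ σ : Representation K Q V,
      Function.Injective σ → derivedSeries Q j = ⊥) : derivedSeries P j ≤ ρ.ker := by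
  let σ : Representation K (P ⧸ ρ.ker) V := QuotientGroup.lift ρ.ker ρ (fun x hx => hx)
  have h1 := h (P ⧸ ρ.ker) (hP.to_quotient _) σ (by
    rw [injective_iff_map_eq_one]
    intro x hx
    obtain ⟨x, rfl⟩ := QuotientGroup.mk_surjective x
    exact (QuotientGroup.eq_one_iff x).2 hx)
  intro x hx
  have h2 := map_derivedSeries_le_derivedSeries (QuotientGroup.mk' ρ.ker) j ⟨x, hx, rfl⟩
  rw [h1, mem_bot] at h2
  exact (QuotientGroup.eq_one_iff x).1 h2

theorem cross [IsAlgClosed K] {p : ℕ} [Fact p.Prime] (hp : (p : K) ≠ 0) (n : ℕ) :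
    ∀ (k : ℕ) (V : Type v) [AddCommGroup V] [Module K V] [FiniteDimensional K V]
      (P : Type u) [Group P] [Finite P], IsPGroup p P → ∀ ρ : Representation K P V,
      finrank K V = n → n < 2 ^ (k + 1) → derivedSeries P (k + 1) ≤ ρ.ker := by
  induction n using Nat.strong_induction_on with
  | _ n ih =>
  intro k V _ _ _ P₀ _ _ hP₀ ρ₀ hn hk
  refine reduce hP₀ ρ₀ _ fun P _ _ hP ρ hρ => ?_
  have hinj : ∀ x, (∀ v, ρ x v = v) → x = 1 := fun x hx =>
    hρ (by rw [map_one]; exact LinearMap.ext hx)
  rw [eq_bot_iff]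
  by_cases hred : ∃ W : Submodule K V, W ≠ ⊥ ∧ W ≠ ⊤ ∧ ∀ g, W ≤ W.comap (ρ g)
  · obtain ⟨W, hW0, hW1, hW⟩ := hred
    have hd1 : finrank K W < n := hn ▸ Submodule.finrank_lt hW1
    have hd0 : finrank K W ≠ 0 := fun h => hW0 (Submodule.finrank_eq_zero.1 h)
    have hq := W.finrank_quotient_add_finrank
    have h1 := ih _ hd1 k W P hP (ρ.subrepresentation W hW) rfl (by omega)
    have h2 := ih (finrank K (V ⧸ W)) (by omega) k (V ⧸ W) P hP (ρ.quotient W hW) rfl (by omega)
    intro x hx
    refine hinj x fun v => ?_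
    have h3 := sub_triv ρ hW (h1 hx) _ (quo_triv ρ hW (h2 hx) v)
    have h4 : ∀ N : ℕ, ρ (x ^ N) v = v + (N : K) • (ρ x v - v) := by
      intro N
      induction N with
      | zero => simp
      | succ N ihN =>
        rw [pow_succ', map_mul, End.mul_apply, ihN, map_add, map_smul, h3]
        push_cast
        rw [add_smul, one_smul]; abel
    obtain ⟨j, hj⟩ := hP x
    have h5 := h4 (p ^ j)
    rw [hj, map_one, End.one_apply, left_eq_add, smul_eq_zero] at h5
    rcases h5 with h5 | h5
    · exact absurd h5 (by push_cast; exact pow_ne_zero _ hp)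
    · exact sub_eq_zero.1 h5
  push Not at hred
  have hirr : ∀ W : Submodule K V, W ≠ ⊥ → (∀ g, W ≤ W.comap (ρ g)) → W = ⊤ := by
    intro W h0 h1
    by_contra h2
    obtain ⟨g, hg⟩ := hred W h0 h2
    exact hg (h1 g)
  by_cases hZ : center P = ⊤
  · refine (derivedSeries_antitone P (Nat.le_add_left 1 k)).trans ?_
    rw [derivedSeries_one, commutator_def, commutator_le]
    intro x _ y _
    rw [mem_bot, commutatorElement_eq_one_iff_mul_comm]
    exact mem_center_iff.1 (hZ ▸ mem_top y) x
  have : Nontrivial (P ⧸ center P) := QuotientGroup.nontrivial_iff.2 hZ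
  obtain ⟨a', ha', ha1⟩ := (nontrivial_iff_exists_ne_one _).1
    (IsPGroup.center_nontrivial (hP.to_quotient (center P)))
  obtain ⟨a, rfl⟩ := QuotientGroup.mk_surjective a'
  have haZ : a ∉ center P := fun h => ha1 ((QuotientGroup.eq_one_iff a).2 h)
  have hz : ∀ g : P, (g * a)⁻¹ * (a * g) ∈ center P := fun g =>
    QuotientGroup.eq.1 (by
      rw [QuotientGroup.mk_mul, QuotientGroup.mk_mul]; exact mem_center_iff.1 ha' _)
  have hV : Nontrivial V := by
    by_contra h
    rw [not_nontrivial_iff_subsingleton] at h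
    exact haZ (hinj a (fun v => Subsingleton.elim _ _) ▸ one_mem _)
  have schur : ∀ z ∈ center P, ∃ c : K, ∀ v, ρ z v = c • v := by
    intro z hzc
    obtain ⟨c, hc⟩ := End.exists_eigenvalue (ρ z)
    refine ⟨c, fun v => ?_⟩
    have h1 := hirr _ hc (fun g v hv => by
      rw [Submodule.mem_comap, End.mem_eigenspace_iff, ← End.mul_apply, ← map_mul,
        ← mem_center_iff.1 hzc g, map_mul, End.mul_apply, End.mem_eigenspace_iff.1 hv, map_smul])
    exact End.mem_eigenspace_iff.1 (h1.ge Submodule.mem_top)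
  choose c hc using fun g => schur _ (hz g)
  have hmap : ∀ g μ, ∀ v ∈ End.eigenspace (ρ a) μ, ρ g v ∈ End.eigenspace (ρ a) (c g * μ) := by
    intro g μ v hv
    rw [End.mem_eigenspace_iff] at hv ⊢
    rw [← End.mul_apply, ← map_mul, show a * g = g * a * ((g * a)⁻¹ * (a * g)) by group, map_mul,
      map_mul, End.mul_apply, End.mul_apply, hc, map_smul, hv, smul_smul, map_smul]
  have hinjρ : ∀ g, Function.Injective (ρ g) := fun g v w h => by
    have := congrArg (ρ g⁻¹) h
    rwa [← End.mul_apply, ← End.mul_apply, ← map_mul, inv_mul_cancel, map_one] at this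
  obtain ⟨g0, hg0⟩ : ∃ g0, g0 * a ≠ a * g0 := by
    by_contra h
    push Not at h
    exact haZ (mem_center_iff.2 h)
  have hc1 : c g0 ≠ 1 := fun h => hg0 (inv_mul_eq_one.1 (hinj _ fun v => by rw [hc, h, one_smul]))
  have hdim : ∀ μ, 2 * finrank K (End.eigenspace (ρ a) μ) ≤ n := by
    intro μ
    by_cases hμ : μ = 0
    · have : End.eigenspace (ρ a) μ = ⊥ := by
        rw [hμ, End.eigenspace_zero, LinearMap.ker_eq_bot]; exact hinjρ a
      rw [this, finrank_bot]; omega
    have hne : μ ≠ c g0 * μ := fun h => hc1 (mul_right_cancel₀ hμ (by rw [one_mul]; exact h.symm))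
    have h1 : finrank K (End.eigenspace (ρ a) μ) ≤ finrank K (End.eigenspace (ρ a) (c g0 * μ)) :=
      LinearMap.finrank_le_finrank_of_injective (f := (ρ g0).restrict (hmap g0 μ))
        fun v w h => Subtype.ext (hinjρ g0 (congrArg Subtype.val h))
    have h2 := Submodule.finrank_sup_add_finrank_inf_eq (End.eigenspace (ρ a) μ)
      (End.eigenspace (ρ a) (c g0 * μ))
    rw [((End.eigenspaces_iSupIndep (ρ a)).pairwiseDisjoint hne).eq_bot, finrank_bot] at h2
    have h3 := Submodule.finrank_le (End.eigenspace (ρ a) μ ⊔ End.eigenspace (ρ a) (c g0 * μ))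
    omega
  obtain ⟨l, hl⟩ := End.exists_eigenvalue (ρ a)
  have hl0 : finrank K (End.eigenspace (ρ a) l) ≠ 0 := fun h => hl (Submodule.finrank_eq_zero.1 h)
  have htop : ⨆ μ, End.eigenspace (ρ a) μ = ⊤ := by
    refine hirr _ (fun h => hl (eq_bot_iff.2 ((le_iSup (fun μ => End.eigenspace (ρ a) μ) l).trans h.le))) fun g => iSup_le fun μ v hv => ?_
    exact Submodule.mem_iSup_of_mem _ (hmap g μ v hv)
  obtain _ | k := k
  · have := hdim l
    omega
  let M := centralizer ({a} : Set P)
  have hM : _root_.commutator P ≤ M := by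
    rw [_root_.commutator_def, commutator_le]
    intro g _ h _
    rw [mem_centralizer_singleton_iff, commutatorElement_def]
    have e : ∀ g : P, ∃ z ∈ center P, g⁻¹ * a * g = a * z := fun g =>
      ⟨_, hz g, by group⟩
    obtain ⟨r, hr, hr'⟩ := e g
    obtain ⟨s, hs, hs'⟩ := e h
    have h1 : g⁻¹ * (h⁻¹ * a * h) * g = h⁻¹ * (g⁻¹ * a * g) * h := by
      calc _ = g⁻¹ * a * (s * g) := by rw [hs']; group
        _ = g⁻¹ * a * g * s := by rw [← mem_center_iff.1 hs g]; group
        _ = a * (s * r) := by rw [hr', mem_center_iff.1 hr s, mul_assoc]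
        _ = h⁻¹ * a * h * r := by rw [hs', mul_assoc]
        _ = h⁻¹ * a * (r * h) := by rw [← mem_center_iff.1 hr h]; group
        _ = _ := by rw [hr']; group
    calc g * h * g⁻¹ * h⁻¹ * a = g * h * (g⁻¹ * (h⁻¹ * a * h) * g) * g⁻¹ * h⁻¹ := by group
      _ = _ := by rw [h1]; group
  intro x hx
  obtain ⟨y, hy, rfl⟩ := ds_le hM (k + 1) hx
  refine hinj _ fun v => ?_
  have hinv : ∀ μ (g : M), End.eigenspace (ρ a) μ ≤
      (End.eigenspace (ρ a) μ).comap ((ρ.comp M.subtype : Representation K M V) g) := by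
    intro μ g v hv
    change ρ g v ∈ End.eigenspace (ρ a) μ
    rw [End.mem_eigenspace_iff, ← End.mul_apply, ← map_mul,
      ← mem_centralizer_singleton_iff.1 g.2, map_mul, End.mul_apply,
      End.mem_eigenspace_iff.1 hv, map_smul]
  have hle : ⨆ μ, End.eigenspace (ρ a) μ ≤ LinearMap.eqLocus (ρ y) LinearMap.id := by
    refine iSup_le fun μ w hw => ?_
    have h0 := hdim μ
    have h0' := hdim l
    have h1 := ih (finrank K (End.eigenspace (ρ a) μ)) (by omega) k _ M (hP.to_subgroup M)
      (Representation.subrepresentation (ρ.comp M.subtype) _ (hinv μ)) rfl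
      (by rw [pow_succ 2 (k + 1)] at hk; omega)
    exact sub_triv (ρ.comp M.subtype) (hinv μ) (h1 hy) w hw
  exact hle (htop ▸ Submodule.mem_top)
end

/-- Let F be a field, n ≥ 1, and P a finite p-group (p a prime) admitting an injective homomorphism into the general linear group of degree n over F. Then the derived length of P is at most ⌊log₂ n⌋ + 1: that term of the derived series of P is trivial. -/
theorem result {P : Type*} [Group P] [Finite P] (p : ℕ) [Fact p.Prime] (hP : IsPGroup p P) (F : Type*) [Field F] (n : ℕ) (hn : 1 ≤ n) (ρ : P →* Matrix.GeneralLinearGroup (Fin n) F) (hρ : Function.Injective ρ) : derivedSeries P (Nat.log 2 n + 1) = ⊥ := by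
  let K := AlgebraicClosure F
  let σ : Representation K P (Fin n → K) :=
    ((Matrix.toLinAlgEquiv' : Matrix (Fin n) (Fin n) K ≃ₐ[K] _) : Matrix (Fin n) (Fin n) K →* _).comp
      (((algebraMap F K).mapMatrix (m := Fin n)).toMonoidHom.comp ((Units.coeHom _).comp ρ))
  have hσ : Function.Injective σ := by
    refine (Matrix.toLinAlgEquiv' (n := Fin n) (R := K)).injective.comp
      (Function.Injective.comp (g := (algebraMap F K).mapMatrix) ?_ (Units.val_injective.comp hρ))
    exact Matrix.map_injective (algebraMap F K).injective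
  have hlt : n < 2 ^ (Nat.log 2 n + 1) := Nat.lt_pow_succ_log_self one_lt_two n
  have hd : finrank K (Fin n → K) = n := by simp
  rw [eq_bot_iff, ← σ.ker_eq_bot_iff.2 hσ]
  by_cases hp : (p : K) = 0
  · have : CharP K p := (CharP.charP_iff_prime_eq_zero Fact.out).2 hp
    exact charp hP _ _ σ (by omega)
  · exact cross hp n _ _ P hP σ hd hlt

end Cfsg.Agent.S4010
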