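import Cfsg.Statements.S4417
import Cfsg.Agent.Lib.Block.Syl1
import Cfsg.Agent.S4010

set_option autoImplicit false
open Cfsg

namespace Cfsg.Agent.S4417

open Cfsg.Agent.Blk
open Cfsg.Agent.Char hiding cj cj_mul cj_inv_cj cj_cj_inv
open Subgroup commutatorElement Module Cfsg.Agent.S4010

universe u v w

theorem eig_le {F K : Type w} [Field F] [Field K] [Algebra F K] {n : ℕ} (τ : K ≃ₐ[F] K)
    (A : Matrix (Fin n) (Fin n) F) (μ : K) :
    finrank K (End.eigenspace (Matrix.toLin' (A.map (algebraMap F K))) μ) ≤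
      finrank K (End.eigenspace (Matrix.toLin' (A.map (algebraMap F K))) (τ μ)) := by
  have h1 : ∀ v ∈ End.eigenspace (Matrix.toLin' (A.map (algebraMap F K))) μ,
      (fun i => τ (v i)) ∈ End.eigenspace (Matrix.toLin' (A.map (algebraMap F K))) (τ μ) := by
    intro v hv
    rw [End.mem_eigenspace_iff] at hv ⊢
    ext i
    have := congrArg τ (congrFun hv i)
    simpa [Matrix.toLin'_apply, Matrix.mulVec, dotProduct, map_sum] using this
  let j : End.eigenspace (Matrix.toLin' (A.map (algebraMap F K))) μ →+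
      End.eigenspace (Matrix.toLin' (A.map (algebraMap F K))) (τ μ) :=
    AddMonoidHom.mk' (fun v => ⟨fun i => τ (v.1 i), h1 v.1 v.2⟩) (fun v w => by
      ext i; simp)
  have h2 := rank_le_of_surjective_injective τ j τ.surjective (fun v w h => by
    ext i
    exact τ.injective (congrFun (congrArg Subtype.val h) i)) (fun r m => by
      ext i; simp [j])
  rwa [← finrank_eq_rank, ← finrank_eq_rank, Nat.cast_le] at h2

theorem eig_bound {F K : Type w} [Field F] [Fintype F] [Field K] [Algebra F K]
    [Algebra.IsAlgebraic F K] {n p : ℕ} [Fact p.Prime] (A : Matrix (Fin n) (Fin n) F) {μ : K}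
    (hμ : orderOf μ = p) :
    finrank K (End.eigenspace (Matrix.toLin' (A.map (algebraMap F K))) μ) *
      orderOf (Fintype.card F : ZMod p) ≤ n := by
  set f := Matrix.toLin' (A.map (algebraMap F K))
  set e := orderOf (Fintype.card F : ZMod p)
  have h1 : ∀ i : ℕ, finrank K (End.eigenspace f μ) ≤
      finrank K (End.eigenspace f (μ ^ Fintype.card F ^ i)) := by
    intro i
    induction i with
    | zero => rw [pow_zero, pow_one]
    | succ i ih =>
      rw [pow_succ, pow_mul]
      exact ih.trans (eig_le (FiniteField.frobeniusAlgEquivOfAlgebraic F K) A _)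
  have hp : 0 < p := (Fact.out : p.Prime).pos
  have h2 : Function.Injective fun i : Fin e => μ ^ Fintype.card F ^ (i : ℕ) := by
    intro i j h
    simp only at h
    rw [← pow_mod_orderOf μ, ← pow_mod_orderOf μ (Fintype.card F ^ (j : ℕ))] at h
    have h3 := pow_injOn_Iio_orderOf (Nat.mod_lt _ (hμ ▸ hp)) (Nat.mod_lt _ (hμ ▸ hp)) h
    rw [hμ] at h3
    have h4 := (ZMod.natCast_eq_natCast_iff' _ _ _).2 h3
    push_cast at h4
    exact Fin.ext (pow_injOn_Iio_orderOf i.2 j.2 h4)
  have h3 := ((End.eigenspaces_iSupIndep f).comp h2).dfinsupp_lsum_injective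
  have h4 := LinearMap.finrank_le_finrank_of_injective h3
  have h5 := finrank_directSum K (fun i : Fin e => End.eigenspace f (μ ^ Fintype.card F ^ (i : ℕ)))
  have h6 : ∑ _i : Fin e, finrank K (End.eigenspace f μ) ≤
      ∑ i : Fin e, finrank K (End.eigenspace f (μ ^ Fintype.card F ^ (i : ℕ))) :=
    Finset.sum_le_sum fun i _ => h1 i
  rw [Finset.sum_const, Finset.card_univ, Fintype.card_fin, smul_eq_mul, mul_comm, ← h5] at h6
  refine h6.trans (h4.trans ?_)
  simp

theorem crossF {F : Type w} [Field F] [Fintype F] {p : ℕ} [Fact p.Prime] (hp : (p : F) ≠ 0)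
    (he : 0 < orderOf (Fintype.card F : ZMod p)) (k n : ℕ) :
    ∀ (V : Type v) [AddCommGroup V] [Module F V] [FiniteDimensional F V]
      (P : Type u) [Group P] [Finite P], IsPGroup p P → ∀ ρ : Representation F P V,
      finrank F V = n → n / orderOf (Fintype.card F : ZMod p) < 2 ^ (k + 1) →
      derivedSeries P (k + 1) ≤ ρ.ker := by
  induction n using Nat.strong_induction_on with
  | _ n ih =>
  intro V _ _ _ P₀ _ _ hP₀ ρ₀ hn hk
  refine reduce hP₀ ρ₀ _ fun P _ _ hP ρ hρ => ?_
  have hinj : ∀ x, (∀ v, ρ x v = v) → x = 1 := fun x hx =>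
    hρ (by rw [map_one]; exact LinearMap.ext hx)
  rw [eq_bot_iff]
  by_cases hred : ∃ W : Submodule F V, W ≠ ⊥ ∧ W ≠ ⊤ ∧ ∀ g, W ≤ W.comap (ρ g)
  · obtain ⟨W, hW0, hW1, hW⟩ := hred
    have hd1 : finrank F W < n := hn ▸ Submodule.finrank_lt hW1
    have hd0 : finrank F W ≠ 0 := fun h => hW0 (Submodule.finrank_eq_zero.1 h)
    have hq := W.finrank_quotient_add_finrank
    have h1 := ih _ hd1 W P hP (ρ.subrepresentation W hW) rfl
      ((Nat.div_le_div_right hd1.le).trans_lt hk)
    have h2 := ih (finrank F (V ⧸ W)) (by omega) (V ⧸ W) P hP (ρ.quotient W hW) rfl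
      ((Nat.div_le_div_right (by omega)).trans_lt hk)
    intro x hx
    refine hinj x fun v => ?_
    have h3 := sub_triv ρ hW (h1 hx) _ (quo_triv ρ hW (h2 hx) v)
    have h4 : ∀ N : ℕ, ρ (x ^ N) v = v + (N : F) • (ρ x v - v) := by
      intro N
      induction N with
      | zero => simp
      | succ N ihN =>
        rw [pow_succ', map_mul, End.mul_apply, ihN, map_add, map_smul, h3]
        push_cast
        rw [add_smul, one_smul]; abel
    obtain ⟨j, hj⟩ := hP x
    have h5 := h4 (p ^ j)
    rw [hj, map_one, End.one_apply, left_eq_add, smul_eq_zero] at h5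
    rcases h5 with h5 | h5
    · exact absurd h5 (by push_cast; exact pow_ne_zero _ hp)
    · exact sub_eq_zero.1 h5
  push Not at hred
  have hirr : ∀ W : Submodule F V, W ≠ ⊥ → (∀ g, W ≤ W.comap (ρ g)) → W = ⊤ := by
    intro W h0 h1
    by_contra h2
    obtain ⟨g, hg⟩ := hred W h0 h2
    exact hg (h1 g)
  rcases subsingleton_or_nontrivial P with hs | hs
  · exact fun x _ => Subsingleton.elim x 1
  have hpp : p.Prime := Fact.out
  obtain ⟨z, hzc, hz1, hzp⟩ : ∃ z ∈ center P, z ≠ 1 ∧ z ^ p = 1 := by
    have := IsPGroup.center_nontrivial hP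
    obtain ⟨m, hm0, hm⟩ := (hP.to_subgroup (center P)).nontrivial_iff_card.1 this
    obtain ⟨z, hz⟩ := exists_prime_orderOf_dvd_card' (G := center P) p (hm ▸ dvd_pow_self p hm0.ne')
    refine ⟨z, z.2, fun h => ?_, by rw [← hz, ← orderOf_coe, pow_orderOf_eq_one]⟩
    rw [← orderOf_coe, h, orderOf_one] at hz
    exact hpp.one_lt.ne hz
  have hsum : ∑ i ∈ Finset.range p, ρ z ^ i = 0 := by
    have h1 : LinearMap.ker (ρ z - 1) = ⊥ := by
      by_contra h
      have h2 := hirr _ h (fun g v hv => by
        rw [Submodule.mem_comap]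
        rw [LinearMap.mem_ker, LinearMap.sub_apply, End.one_apply, sub_eq_zero] at hv ⊢
        rw [← End.mul_apply, ← map_mul, ← mem_center_iff.1 hzc g, map_mul, End.mul_apply, hv])
      refine hz1 (hinj z fun v => ?_)
      have h3 := h2.ge (Submodule.mem_top (x := v))
      rwa [LinearMap.mem_ker, LinearMap.sub_apply, End.one_apply, sub_eq_zero] at h3
    have h2 := mul_geom_sum (ρ z) p
    rw [← map_pow, hzp, map_one, sub_self] at h2
    ext v
    apply LinearMap.ker_eq_bot.1 h1
    rw [← End.mul_apply, h2]; simp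
  subst hn
  let K := AlgebraicClosure F
  let b := Module.finBasis F V
  let Φ : End F V →+* End K (Fin (finrank F V) → K) :=
    (Matrix.toLinAlgEquiv' (n := Fin (finrank F V)) (R := K)).toRingEquiv.toRingHom.comp
      (((algebraMap F K).mapMatrix (m := Fin (finrank F V))).comp
        (LinearMap.toMatrixAlgEquiv b).toRingEquiv.toRingHom)
  have hΦ : Function.Injective Φ :=
    (Matrix.toLinAlgEquiv' (n := Fin (finrank F V)) (R := K)).injective.comp
      ((Matrix.map_injective (algebraMap F K).injective).comp (LinearMap.toMatrixAlgEquiv b).injective)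
  let σ : Representation K P (Fin (finrank F V) → K) := Φ.toMonoidHom.comp ρ
  have hpK : (p : K) ≠ 0 := by
    rw [← map_natCast (algebraMap F K)]; exact (map_ne_zero _).2 hp
  have hσp : σ z ^ p = 1 := by rw [← map_pow, hzp, map_one]
  have hσs : ∑ i ∈ Finset.range p, σ z ^ i = 0 := by
    have := congrArg Φ hsum
    rw [map_sum, map_zero] at this
    simp only [map_pow] at this
    exact this
  have htop : ⨆ μ, End.eigenspace (σ z) μ = ⊤ :=
    (End.isSemisimple_of_squarefree_aeval_eq_zero
      (Polynomial.separable_X_pow_sub_C (1 : K) hpK one_ne_zero).squarefree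
      (by simp [hσp])).iSup_eigenspace_eq_top
  have hinv : ∀ μ (g : P), End.eigenspace (σ z) μ ≤ (End.eigenspace (σ z) μ).comap (σ g) := by
    intro μ g v hv
    rw [Submodule.mem_comap, End.mem_eigenspace_iff, ← End.mul_apply, ← map_mul,
      ← mem_center_iff.1 hzc g, map_mul, End.mul_apply, End.mem_eigenspace_iff.1 hv, map_smul]
  intro x hx
  have hle : ⨆ μ, End.eigenspace (σ z) μ ≤ LinearMap.eqLocus (σ x) LinearMap.id := by
    refine iSup_le fun μ w hw => ?_
    by_cases hw0 : w = 0
    · rw [hw0]; exact zero_mem _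
    have hev : End.HasEigenvector (σ z) μ w := ⟨hw, hw0⟩
    have hμp : μ ^ p = 1 := by
      have := hev.pow_apply p
      rw [hσp, End.one_apply] at this
      exact smul_left_injective K hw0 (by simpa using this.symm)
    have hμ1 : μ ≠ 1 := by
      rintro rfl
      have := LinearMap.congr_fun hσs w
      rw [LinearMap.sum_apply, Finset.sum_congr rfl fun i _ => hev.pow_apply i] at this
      simp only [one_pow, one_smul, Finset.sum_const, Finset.card_range, LinearMap.zero_apply] at this
      rw [← Nat.cast_smul_eq_nsmul K, smul_eq_zero] at this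
      exact this.elim hpK hw0
    have h0 := eig_bound (LinearMap.toMatrixAlgEquiv b (ρ z)) (orderOf_eq_prime hμp hμ1)
    have h1 := cross hpK _ k _ P hP (Representation.subrepresentation σ _ (hinv μ)) rfl
      (((Nat.le_div_iff_mul_le he).2 h0).trans_lt hk)
    exact sub_triv σ (hinv μ) (h1 hx) w hw
  refine hρ (hΦ ?_)
  rw [map_one, map_one]
  exact LinearMap.ext fun v => hle (htop ▸ Submodule.mem_top)

/-- Let F be a field with q elements, p a prime not dividing q, and e the multiplicative order of q modulo p; assume e ≤ n. Then every p-subgroup of GL_n(F) has derived length at most ⌊log₂(n/e)⌋ + 1: that term of its derived series is trivial (n/e is the integer quotient). -/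
theorem result {F : Type*} [Field F] [Fintype F] (q : ℕ) (hF : Fintype.card F = q) (p : ℕ) [Fact p.Prime] (hpq : ¬ p ∣ q) (n e : ℕ) (he : e = orderOf (q : ZMod p)) (hen : e ≤ n) (P : Subgroup (GL (Fin n) F)) (hP : IsPGroup p P) : derivedSeries ↥P (Nat.log 2 (n / e) + 1) = ⊥ := by
  subst hF he
  have hpp : p.Prime := Fact.out
  have hp : (p : F) ≠ 0 := fun h => by
    have : CharP F p := (CharP.charP_iff_prime_eq_zero hpp).2 h
    obtain ⟨m, -, hm⟩ := FiniteField.card F p
    exact hpq (hm ▸ dvd_pow_self p m.ne_zero)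
  have he : 0 < orderOf (Fintype.card F : ZMod p) :=
    orderOf_pos_iff.2 (isOfFinOrder_iff_pow_eq_one.2 ⟨p - 1, by have := hpp.two_le; omega,
      ZMod.pow_card_sub_one_eq_one fun h => hpq ((ZMod.natCast_eq_zero_iff _ _).1 h)⟩)
  let σ : Representation F P (Fin n → F) :=
    ((Matrix.toLinAlgEquiv' : Matrix (Fin n) (Fin n) F ≃ₐ[F] _) : Matrix (Fin n) (Fin n) F →* _).comp
      ((Units.coeHom _).comp P.subtype)
  have hσ : Function.Injective σ :=
    (Matrix.toLinAlgEquiv' (n := Fin n) (R := F)).injective.comp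
      (Units.val_injective.comp P.subtype_injective)
  rw [eq_bot_iff, ← σ.ker_eq_bot_iff.2 hσ]
  exact crossF hp he _ n _ P hP σ (by simp) (Nat.lt_pow_succ_log_self one_lt_two _)

end Cfsg.Agent.S4417
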