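import Cfsg.Statements.S4015
import Cfsg.Agent.Lib.Block.Syl1
import Cfsg.Agent.S4010
import Cfsg.Agent.S4417

set_option autoImplicit false
open Cfsg

namespace Cfsg.Agent.S4015

open Cfsg.Agent.Blk
open Cfsg.Agent.Char hiding cj cj_mul cj_inv_cj cj_cj_inv
open Subgroup commutatorElement Module Cfsg.Agent.S4010 Cfsg.Agent.S4417

universe u v w

theorem crossp {K : Type w} [Field K] [IsAlgClosed K] {p : ℕ} [Fact p.Prime] (hp : (p : K) ≠ 0) (n : ℕ) :
    ∀ (k : ℕ) (V : Type v) [AddCommGroup V] [Module K V] [FiniteDimensional K V]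
      (P : Type u) [Group P] [Finite P], IsPGroup p P → ∀ ρ : Representation K P V,
      finrank K V = n → n < p ^ (k + 1) → derivedSeries P (k + 1) ≤ ρ.ker := by
  induction n using Nat.strong_induction_on with
  | _ n ih =>
  intro k V _ _ _ P₀ _ _ hP₀ ρ₀ hn hk
  refine reduce hP₀ ρ₀ _ fun P _ _ hP ρ hρ => ?_
  have hinj : ∀ x, (∀ v, ρ x v = v) → x = 1 := fun x hx =>
    hρ (by rw [map_one]; exact LinearMap.ext hx)
  rw [eq_bot_iff]
  by_cases hred : ∃ W : Submodule K V, W ≠ ⊥ ∧ W ≠ ⊤ ∧ ∀ g, W ≤ W.comap (ρ g)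
  · obtain ⟨W, hW0, hW1, hW⟩ := hred
    have hd1 : finrank K W < n := hn ▸ Submodule.finrank_lt hW1
    have hd0 : finrank K W ≠ 0 := fun h => hW0 (Submodule.finrank_eq_zero.1 h)
    have hq := W.finrank_quotient_add_finrank
    have h1 := ih _ hd1 k W P hP (ρ.subrepresentation W hW) rfl (by omega)
    have h2 := ih (finrank K (V ⧸ W)) (by omega) k (V ⧸ W) P hP (ρ.quotient W hW) rfl (by omega)
    intro x hx
    refine hinj x fun v => ?_
    have h3 := sub_triv ρ hW (h1 hx) _ (quo_triv ρ hW (h2 hx) v)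
    have h4 : ∀ N : ℕ, ρ (x ^ N) v = v + (N : K) • (ρ x v - v) := by
      intro N
      induction N with
      | zero => simp
      | succ N ihN =>
        rw [pow_succ', map_mul, End.mul_apply, ihN, map_add, map_smul, h3]
        push_cast
        rw [add_smul, one_smul]; abel
    obtain ⟨j, hj⟩ := hP x
    have h5 := h4 (p ^ j)
    rw [hj, map_one, End.one_apply, left_eq_add, smul_eq_zero] at h5
    rcases h5 with h5 | h5
    · exact absurd h5 (by push_cast; exact pow_ne_zero _ hp)
    · exact sub_eq_zero.1 h5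
  push Not at hred
  have hirr : ∀ W : Submodule K V, W ≠ ⊥ → (∀ g, W ≤ W.comap (ρ g)) → W = ⊤ := by
    intro W h0 h1
    by_contra h2
    obtain ⟨g, hg⟩ := hred W h0 h2
    exact hg (h1 g)
  by_cases hZ : center P = ⊤
  · refine (derivedSeries_antitone P (Nat.le_add_left 1 k)).trans ?_
    rw [derivedSeries_one, commutator_def, commutator_le]
    intro x _ y _
    rw [mem_bot, commutatorElement_eq_one_iff_mul_comm]
    exact mem_center_iff.1 (hZ ▸ mem_top y) x
  have : Nontrivial (P ⧸ center P) := QuotientGroup.nontrivial_iff.2 hZ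
  obtain ⟨a', ha', ha1⟩ := (nontrivial_iff_exists_ne_one _).1
    (IsPGroup.center_nontrivial (hP.to_quotient (center P)))
  obtain ⟨a, rfl⟩ := QuotientGroup.mk_surjective a'
  have haZ : a ∉ center P := fun h => ha1 ((QuotientGroup.eq_one_iff a).2 h)
  have hz : ∀ g : P, (g * a)⁻¹ * (a * g) ∈ center P := fun g =>
    QuotientGroup.eq.1 (by
      rw [QuotientGroup.mk_mul, QuotientGroup.mk_mul]; exact mem_center_iff.1 ha' _)
  have hV : Nontrivial V := by
    by_contra h
    rw [not_nontrivial_iff_subsingleton] at h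
    exact haZ (hinj a (fun v => Subsingleton.elim _ _) ▸ one_mem _)
  have schur : ∀ z ∈ center P, ∃ c : K, ∀ v, ρ z v = c • v := by
    intro z hzc
    obtain ⟨c, hc⟩ := End.exists_eigenvalue (ρ z)
    refine ⟨c, fun v => ?_⟩
    have h1 := hirr _ hc (fun g v hv => by
      rw [Submodule.mem_comap, End.mem_eigenspace_iff, ← End.mul_apply, ← map_mul,
        ← mem_center_iff.1 hzc g, map_mul, End.mul_apply, End.mem_eigenspace_iff.1 hv, map_smul])
    exact End.mem_eigenspace_iff.1 (h1.ge Submodule.mem_top)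
  choose c hc using fun g => schur _ (hz g)
  have hmap : ∀ g μ, ∀ v ∈ End.eigenspace (ρ a) μ, ρ g v ∈ End.eigenspace (ρ a) (c g * μ) := by
    intro g μ v hv
    rw [End.mem_eigenspace_iff] at hv ⊢
    rw [← End.mul_apply, ← map_mul, show a * g = g * a * ((g * a)⁻¹ * (a * g)) by group, map_mul,
      map_mul, End.mul_apply, End.mul_apply, hc, map_smul, hv, smul_smul, map_smul]
  have hinjρ : ∀ g, Function.Injective (ρ g) := fun g v w h => by
    have := congrArg (ρ g⁻¹) h
    rwa [← End.mul_apply, ← End.mul_apply, ← map_mul, inv_mul_cancel, map_one] at this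
  obtain ⟨g0, hg0⟩ : ∃ g0, g0 * a ≠ a * g0 := by
    by_contra h
    push Not at h
    exact haZ (mem_center_iff.2 h)
  have hc1 : c g0 ≠ 1 := fun h => hg0 (inv_mul_eq_one.1 (hinj _ fun v => by rw [hc, h, one_smul]))
  have hpp : p.Prime := Fact.out
  have hord : p ≤ orderOf (c g0) := by
    obtain ⟨j, hj⟩ := hP ((g0 * a)⁻¹ * (a * g0))
    obtain ⟨w, hw⟩ := exists_ne (0 : V)
    have hev : End.HasEigenvector (ρ ((g0 * a)⁻¹ * (a * g0))) (c g0) w :=
      ⟨End.mem_eigenspace_iff.2 (hc g0 w), hw⟩
    have h1 := hev.pow_apply (p ^ j)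
    rw [← map_pow, hj, map_one, End.one_apply] at h1
    have h2 : c g0 ^ p ^ j = 1 := smul_left_injective K hw (by simpa using h1.symm)
    obtain ⟨s, -, hs⟩ := (Nat.dvd_prime_pow hpp).1 (orderOf_dvd_of_pow_eq_one h2)
    rcases s with _ | s
    · exact absurd (orderOf_eq_one_iff.1 hs) hc1
    · rw [hs]; exact Nat.le_self_pow s.succ_ne_zero p
  have hdim : ∀ μ, p * finrank K (End.eigenspace (ρ a) μ) ≤ n := by
    intro μ
    by_cases hμ : μ = 0
    · have : End.eigenspace (ρ a) μ = ⊥ := by
        rw [hμ, End.eigenspace_zero, LinearMap.ker_eq_bot]; exact hinjρ a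
      rw [this, finrank_bot]; omega
    have h1 : ∀ i : ℕ, finrank K (End.eigenspace (ρ a) μ) ≤
        finrank K (End.eigenspace (ρ a) (c g0 ^ i * μ)) := by
      intro i
      induction i with
      | zero => rw [pow_zero, one_mul]
      | succ i ih =>
        rw [pow_succ', mul_assoc]
        exact ih.trans (LinearMap.finrank_le_finrank_of_injective
          (f := (ρ g0).restrict (hmap g0 _))
          fun v w h => Subtype.ext (hinjρ g0 (congrArg Subtype.val h)))
    have h2 : Function.Injective fun i : Fin p => c g0 ^ (i : ℕ) * μ := fun i j h =>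
      Fin.ext (pow_injOn_Iio_orderOf (i.2.trans_le hord) (j.2.trans_le hord)
        (mul_right_cancel₀ hμ h))
    have h3 := ((End.eigenspaces_iSupIndep (ρ a)).comp h2).dfinsupp_lsum_injective
    have h4 := LinearMap.finrank_le_finrank_of_injective h3
    have h5 := finrank_directSum K (fun i : Fin p => End.eigenspace (ρ a) (c g0 ^ (i : ℕ) * μ))
    have h6 : ∑ _i : Fin p, finrank K (End.eigenspace (ρ a) μ) ≤
        ∑ i : Fin p, finrank K (End.eigenspace (ρ a) (c g0 ^ (i : ℕ) * μ)) :=
      Finset.sum_le_sum fun i _ => h1 i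
    rw [Finset.sum_const, Finset.card_univ, Fintype.card_fin, smul_eq_mul, ← h5] at h6
    exact h6.trans (h4.trans hn.le)
  obtain ⟨l, hl⟩ := End.exists_eigenvalue (ρ a)
  have hl0 : finrank K (End.eigenspace (ρ a) l) ≠ 0 := fun h => hl (Submodule.finrank_eq_zero.1 h)
  have htop : ⨆ μ, End.eigenspace (ρ a) μ = ⊤ := by
    refine hirr _ (fun h => hl (eq_bot_iff.2 ((le_iSup (fun μ => End.eigenspace (ρ a) μ) l).trans h.le))) fun g => iSup_le fun μ v hv => ?_
    exact Submodule.mem_iSup_of_mem _ (hmap g μ v hv)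
  obtain _ | k := k
  · have h1 := (hdim l).trans_lt hk
    rw [zero_add, pow_one] at h1
    exact absurd h1 (not_lt.2 (Nat.le_mul_of_pos_right p (Nat.pos_of_ne_zero hl0)))
  let M := centralizer ({a} : Set P)
  have hM : _root_.commutator P ≤ M := by
    rw [_root_.commutator_def, commutator_le]
    intro g _ h _
    rw [mem_centralizer_singleton_iff, commutatorElement_def]
    have e : ∀ g : P, ∃ z ∈ center P, g⁻¹ * a * g = a * z := fun g =>
      ⟨_, hz g, by group⟩
    obtain ⟨r, hr, hr'⟩ := e g
    obtain ⟨s, hs, hs'⟩ := e h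
    have h1 : g⁻¹ * (h⁻¹ * a * h) * g = h⁻¹ * (g⁻¹ * a * g) * h := by
      calc _ = g⁻¹ * a * (s * g) := by rw [hs']; group
        _ = g⁻¹ * a * g * s := by rw [← mem_center_iff.1 hs g]; group
        _ = a * (s * r) := by rw [hr', mem_center_iff.1 hr s, mul_assoc]
        _ = h⁻¹ * a * h * r := by rw [hs', mul_assoc]
        _ = h⁻¹ * a * (r * h) := by rw [← mem_center_iff.1 hr h]; group
        _ = _ := by rw [hr']; group
    calc g * h * g⁻¹ * h⁻¹ * a = g * h * (g⁻¹ * (h⁻¹ * a * h) * g) * g⁻¹ * h⁻¹ := by group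
      _ = _ := by rw [h1]; group
  intro x hx
  obtain ⟨y, hy, rfl⟩ := ds_le hM (k + 1) hx
  refine hinj _ fun v => ?_
  have hinv : ∀ μ (g : M), End.eigenspace (ρ a) μ ≤
      (End.eigenspace (ρ a) μ).comap ((ρ.comp M.subtype : Representation K M V) g) := by
    intro μ g v hv
    change ρ g v ∈ End.eigenspace (ρ a) μ
    rw [End.mem_eigenspace_iff, ← End.mul_apply, ← map_mul,
      ← mem_centralizer_singleton_iff.1 g.2, map_mul, End.mul_apply,
      End.mem_eigenspace_iff.1 hv, map_smul]
  have hle : ⨆ μ, End.eigenspace (ρ a) μ ≤ LinearMap.eqLocus (ρ y) LinearMap.id := by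
    refine iSup_le fun μ w hw => ?_
    have h0 := hdim μ
    have h0' := hdim l
    have h1 := ih (finrank K (End.eigenspace (ρ a) μ)) (by
      have h2 := Nat.mul_le_mul_right (finrank K (End.eigenspace (ρ a) μ)) hpp.two_le
      have h3 := Nat.mul_le_mul_right (finrank K (End.eigenspace (ρ a) l)) hpp.two_le
      omega) k _ M (hP.to_subgroup M)
      (Representation.subrepresentation (ρ.comp M.subtype) _ (hinv μ)) rfl
      (by rw [pow_succ' p (k + 1)] at hk; exact Nat.lt_of_mul_lt_mul_left (h0.trans_lt hk))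
    exact sub_triv (ρ.comp M.subtype) (hinv μ) (h1 hy) w hw
  exact hle (htop ▸ Submodule.mem_top)

theorem crossFp {F : Type w} [Field F] [Fintype F] {p : ℕ} [Fact p.Prime] (hp : (p : F) ≠ 0)
    (he : 0 < orderOf (Fintype.card F : ZMod p)) (k n : ℕ) :
    ∀ (V : Type v) [AddCommGroup V] [Module F V] [FiniteDimensional F V]
      (P : Type u) [Group P] [Finite P], IsPGroup p P → ∀ ρ : Representation F P V,
      finrank F V = n → n / orderOf (Fintype.card F : ZMod p) < p ^ (k + 1) →
      derivedSeries P (k + 1) ≤ ρ.ker := by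
  induction n using Nat.strong_induction_on with
  | _ n ih =>
  intro V _ _ _ P₀ _ _ hP₀ ρ₀ hn hk
  refine reduce hP₀ ρ₀ _ fun P _ _ hP ρ hρ => ?_
  have hinj : ∀ x, (∀ v, ρ x v = v) → x = 1 := fun x hx =>
    hρ (by rw [map_one]; exact LinearMap.ext hx)
  rw [eq_bot_iff]
  by_cases hred : ∃ W : Submodule F V, W ≠ ⊥ ∧ W ≠ ⊤ ∧ ∀ g, W ≤ W.comap (ρ g)
  · obtain ⟨W, hW0, hW1, hW⟩ := hred
    have hd1 : finrank F W < n := hn ▸ Submodule.finrank_lt hW1
    have hd0 : finrank F W ≠ 0 := fun h => hW0 (Submodule.finrank_eq_zero.1 h)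
    have hq := W.finrank_quotient_add_finrank
    have h1 := ih _ hd1 W P hP (ρ.subrepresentation W hW) rfl
      ((Nat.div_le_div_right hd1.le).trans_lt hk)
    have h2 := ih (finrank F (V ⧸ W)) (by omega) (V ⧸ W) P hP (ρ.quotient W hW) rfl
      ((Nat.div_le_div_right (by omega)).trans_lt hk)
    intro x hx
    refine hinj x fun v => ?_
    have h3 := sub_triv ρ hW (h1 hx) _ (quo_triv ρ hW (h2 hx) v)
    have h4 : ∀ N : ℕ, ρ (x ^ N) v = v + (N : F) • (ρ x v - v) := by
      intro N
      induction N with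
      | zero => simp
      | succ N ihN =>
        rw [pow_succ', map_mul, End.mul_apply, ihN, map_add, map_smul, h3]
        push_cast
        rw [add_smul, one_smul]; abel
    obtain ⟨j, hj⟩ := hP x
    have h5 := h4 (p ^ j)
    rw [hj, map_one, End.one_apply, left_eq_add, smul_eq_zero] at h5
    rcases h5 with h5 | h5
    · exact absurd h5 (by push_cast; exact pow_ne_zero _ hp)
    · exact sub_eq_zero.1 h5
  push Not at hred
  have hirr : ∀ W : Submodule F V, W ≠ ⊥ → (∀ g, W ≤ W.comap (ρ g)) → W = ⊤ := by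
    intro W h0 h1
    by_contra h2
    obtain ⟨g, hg⟩ := hred W h0 h2
    exact hg (h1 g)
  rcases subsingleton_or_nontrivial P with hs | hs
  · exact fun x _ => Subsingleton.elim x 1
  have hpp : p.Prime := Fact.out
  obtain ⟨z, hzc, hz1, hzp⟩ : ∃ z ∈ center P, z ≠ 1 ∧ z ^ p = 1 := by
    have := IsPGroup.center_nontrivial hP
    obtain ⟨m, hm0, hm⟩ := (hP.to_subgroup (center P)).nontrivial_iff_card.1 this
    obtain ⟨z, hz⟩ := exists_prime_orderOf_dvd_card' (G := center P) p (hm ▸ dvd_pow_self p hm0.ne')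
    refine ⟨z, z.2, fun h => ?_, by rw [← hz, ← orderOf_coe, pow_orderOf_eq_one]⟩
    rw [← orderOf_coe, h, orderOf_one] at hz
    exact hpp.one_lt.ne hz
  have hsum : ∑ i ∈ Finset.range p, ρ z ^ i = 0 := by
    have h1 : LinearMap.ker (ρ z - 1) = ⊥ := by
      by_contra h
      have h2 := hirr _ h (fun g v hv => by
        rw [Submodule.mem_comap]
        rw [LinearMap.mem_ker, LinearMap.sub_apply, End.one_apply, sub_eq_zero] at hv ⊢
        rw [← End.mul_apply, ← map_mul, ← mem_center_iff.1 hzc g, map_mul, End.mul_apply, hv])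
      refine hz1 (hinj z fun v => ?_)
      have h3 := h2.ge (Submodule.mem_top (x := v))
      rwa [LinearMap.mem_ker, LinearMap.sub_apply, End.one_apply, sub_eq_zero] at h3
    have h2 := mul_geom_sum (ρ z) p
    rw [← map_pow, hzp, map_one, sub_self] at h2
    ext v
    apply LinearMap.ker_eq_bot.1 h1
    rw [← End.mul_apply, h2]; simp
  subst hn
  let K := AlgebraicClosure F
  let b := Module.finBasis F V
  let Φ : End F V →+* End K (Fin (finrank F V) → K) :=
    (Matrix.toLinAlgEquiv' (n := Fin (finrank F V)) (R := K)).toRingEquiv.toRingHom.comp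
      (((algebraMap F K).mapMatrix (m := Fin (finrank F V))).comp
        (LinearMap.toMatrixAlgEquiv b).toRingEquiv.toRingHom)
  have hΦ : Function.Injective Φ :=
    (Matrix.toLinAlgEquiv' (n := Fin (finrank F V)) (R := K)).injective.comp
      ((Matrix.map_injective (algebraMap F K).injective).comp (LinearMap.toMatrixAlgEquiv b).injective)
  let σ : Representation K P (Fin (finrank F V) → K) := Φ.toMonoidHom.comp ρ
  have hpK : (p : K) ≠ 0 := by
    rw [← map_natCast (algebraMap F K)]; exact (map_ne_zero _).2 hp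
  have hσp : σ z ^ p = 1 := by rw [← map_pow, hzp, map_one]
  have hσs : ∑ i ∈ Finset.range p, σ z ^ i = 0 := by
    have := congrArg Φ hsum
    rw [map_sum, map_zero] at this
    simp only [map_pow] at this
    exact this
  have htop : ⨆ μ, End.eigenspace (σ z) μ = ⊤ :=
    (End.isSemisimple_of_squarefree_aeval_eq_zero
      (Polynomial.separable_X_pow_sub_C (1 : K) hpK one_ne_zero).squarefree
      (by simp [hσp])).iSup_eigenspace_eq_top
  have hinv : ∀ μ (g : P), End.eigenspace (σ z) μ ≤ (End.eigenspace (σ z) μ).comap (σ g) := by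
    intro μ g v hv
    rw [Submodule.mem_comap, End.mem_eigenspace_iff, ← End.mul_apply, ← map_mul,
      ← mem_center_iff.1 hzc g, map_mul, End.mul_apply, End.mem_eigenspace_iff.1 hv, map_smul]
  intro x hx
  have hle : ⨆ μ, End.eigenspace (σ z) μ ≤ LinearMap.eqLocus (σ x) LinearMap.id := by
    refine iSup_le fun μ w hw => ?_
    by_cases hw0 : w = 0
    · rw [hw0]; exact zero_mem _
    have hev : End.HasEigenvector (σ z) μ w := ⟨hw, hw0⟩
    have hμp : μ ^ p = 1 := by
      have := hev.pow_apply p
      rw [hσp, End.one_apply] at this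
      exact smul_left_injective K hw0 (by simpa using this.symm)
    have hμ1 : μ ≠ 1 := by
      rintro rfl
      have := LinearMap.congr_fun hσs w
      rw [LinearMap.sum_apply, Finset.sum_congr rfl fun i _ => hev.pow_apply i] at this
      simp only [one_pow, one_smul, Finset.sum_const, Finset.card_range, LinearMap.zero_apply] at this
      rw [← Nat.cast_smul_eq_nsmul K, smul_eq_zero] at this
      exact this.elim hpK hw0
    have h0 := eig_bound (LinearMap.toMatrixAlgEquiv b (ρ z)) (orderOf_eq_prime hμp hμ1)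
    have h1 := crossp hpK _ k _ P hP (Representation.subrepresentation σ _ (hinv μ)) rfl
      (((Nat.le_div_iff_mul_le he).2 h0).trans_lt hk)
    exact sub_triv σ (hinv μ) (h1 hx) w hw
  refine hρ (hΦ ?_)
  rw [map_one, map_one]
  exact LinearMap.ext fun v => hle (htop ▸ Submodule.mem_top)

theorem wr_ds {D C : Type*} [Group D] [Group C] {t : C} (ht : t ≠ 1) (j : ℕ)
    (h : derivedSeries (D ≀ᵣ C) (j + 1) = ⊥) : derivedSeries D j = ⊥ := by
  classical
  let B := (RegularWreathProduct.rightHom : D ≀ᵣ C →* C).ker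
  let π : B →* D := MonoidHom.mk' (fun a => a.1.left 1) (by
    rintro ⟨a, ha⟩ ⟨b, hb⟩
    have : a.right = 1 := ha
    simp [this])
  have key : ∀ j, derivedSeries D j ≤ ((derivedSeries (D ≀ᵣ C) (j + 1)).subgroupOf B).map π := by
    intro j
    induction j with
    | zero =>
      intro d _
      refine ⟨⟨⁅(⟨Pi.mulSingle 1 d, 1⟩ : D ≀ᵣ C), RegularWreathProduct.inl t⁆, ?_⟩, ?_, ?_⟩
      · simp [B, commutatorElement_def]
      · exact commutator_mem_commutator (mem_top _) (mem_top _)
      · simp [π, commutatorElement_def, ht]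
    | succ j ih =>
      rw [derivedSeries_succ]
      refine (commutator_mono ih ih).trans ?_
      rw [← map_commutator]
      refine map_mono (commutator_le.2 fun x hx y hy => ?_)
      exact commutator_mem_commutator (G := D ≀ᵣ C) hx hy
  have := key j
  rwa [h, bot_subgroupOf, Subgroup.map_bot, le_bot_iff] at this

/-- the induced action of the regular wreath product. -/
def wrRep {F D V : Type*} [Field F] [Group D] [AddCommGroup V] [Module F V]
    (ρ : Representation F D V) (C : Type*) [Group C] : Representation F (D ≀ᵣ C) (C → V) where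
  toFun := fun a => LinearMap.pi fun x => (ρ (a.left x)).comp (LinearMap.proj (a.right⁻¹ * x))
  map_one' := by
    refine LinearMap.ext fun v => funext fun x => ?_
    simp
  map_mul' := fun a b => by
    refine LinearMap.ext fun v => funext fun x => ?_
    simp [mul_assoc]

theorem exists_wr {F : Type w} [Field F] [Fintype F] {p : ℕ} [Fact p.Prime]
    (he : 0 < orderOf (Fintype.card F : ZMod p)) (k : ℕ) :
    ∃ (D : Type w) (_ : Group D) (_ : Finite D) (V : Type w) (_ : AddCommGroup V) (_ : Module F V)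
      (_ : FiniteDimensional F V) (ρ : Representation F D V), IsPGroup p D ∧ Function.Injective ρ ∧
      finrank F V = orderOf (Fintype.card F : ZMod p) * p ^ k ∧ derivedSeries D k ≠ ⊥ := by
  have hpp : p.Prime := Fact.out
  set e := orderOf (Fintype.card F : ZMod p)
  induction k with
  | zero =>
    classical
    have h1 : p ∣ Nat.card (GL (Fin e) F) := by
      rw [Matrix.card_GL_field]
      refine Dvd.dvd.trans ?_ (Finset.dvd_prod_of_mem _ (Finset.mem_univ (⟨0, he⟩ : Fin e)))
      rw [← ZMod.natCast_eq_zero_iff, Nat.cast_sub (Nat.pow_le_pow_right Fintype.card_pos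
        (Nat.zero_le _))]
      push_cast
      rw [pow_orderOf_eq_one, pow_zero, sub_self]
    obtain ⟨g, hg⟩ := exists_prime_orderOf_dvd_card' p h1
    refine ⟨zpowers g, inferInstance, inferInstance, Fin e → F, inferInstance, inferInstance,
      inferInstance, ((Matrix.toLinAlgEquiv' : Matrix (Fin e) (Fin e) F ≃ₐ[F] _) :
        Matrix (Fin e) (Fin e) F →* _).comp ((Units.coeHom _).comp (zpowers g).subtype),
      IsPGroup.of_card (n := 1) (by rw [Nat.card_zpowers, hg, pow_one]),
      (Matrix.toLinAlgEquiv' (n := Fin e) (R := F)).injective.comp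
        (Units.val_injective.comp (zpowers g).subtype_injective), by simp, fun h => ?_⟩
    have h2 : (⟨g, mem_zpowers g⟩ : zpowers g) = 1 := mem_bot.1 (h ▸ mem_top _)
    have h3 : g = 1 := congrArg Subtype.val h2
    rw [h3, orderOf_one] at hg
    exact hpp.one_lt.ne hg
  | succ k ih =>
    classical
    obtain ⟨D, _, _, V, _, _, _, ρ, hD, hρ, hV, hk⟩ := ih
    let C := Multiplicative (ZMod p)
    have hC : Nat.card C = p := by simp [C]
    let σ : Representation F (D ≀ᵣ C) (C → V) := wrRep ρ C
    have hσ : ∀ a v x, σ a v x = ρ (a.left x) (v (a.right⁻¹ * x)) := fun _ _ _ => rfl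
    have : Nontrivial V := finrank_pos_iff.1 (hV ▸ Nat.mul_pos he (pow_pos hpp.pos k))
    refine ⟨D ≀ᵣ C, inferInstance, inferInstance, C → V, inferInstance, inferInstance,
      inferInstance, σ, ?_, ?_, ?_, fun h => hk (wr_ds (t := Multiplicative.ofAdd 1) (by simp) k h)⟩
    · obtain ⟨m, hm⟩ := IsPGroup.iff_card.1 hD
      refine IsPGroup.of_card (n := m * p + 1) ?_
      rw [RegularWreathProduct.card, hm, hC, ← pow_mul, pow_succ]
    · rw [injective_iff_map_eq_one]
      intro a ha
      have h1 : ∀ (v : C → V) x, ρ (a.left x) (v (a.right⁻¹ * x)) = v x := fun v x => by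
        rw [← hσ, ha]; rfl
      obtain ⟨w, hw⟩ := exists_ne (0 : V)
      have h2 : a.right = 1 := by
        by_contra h2
        have h3 := h1 (Pi.single 1 w) 1
        rw [mul_one, Pi.single_eq_of_ne (inv_ne_one.2 h2), map_zero, Pi.single_eq_same] at h3
        exact hw h3.symm
      refine RegularWreathProduct.ext (funext fun x => hρ ?_) h2
      rw [RegularWreathProduct.one_left, Pi.one_apply, map_one]
      exact LinearMap.ext fun v => h1 (fun _ => v) x
    · rw [finrank_pi_fintype, Finset.sum_const, Finset.card_univ, ← Nat.card_eq_fintype_card, hC, hV,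
        smul_eq_mul, pow_succ]
      ring

/-- Let p be an odd prime, F a finite field with q elements where p does not divide q, and e the multiplicative order of q modulo p. Let n ≥ e and write w = ⌊n/e⌋ and k = ⌊log_p w⌋. Then a Sylow p-subgroup of GL(n, F) has derived length exactly k + 1: its (k+1)-st derived subgroup is trivial and its k-th is not. -/
theorem result (p : ℕ) [Fact p.Prime] (hp : p ≠ 2) (F : Type*) [Field F] [Fintype F] (q : ℕ) (hq : Fintype.card F = q) (hpq : ¬ p ∣ q) (n : ℕ) (hn : orderOf (q : ZMod p) ≤ n) (P : Sylow p (Matrix.GeneralLinearGroup (Fin n) F)) : derivedSeries ↥(P : Subgroup (Matrix.GeneralLinearGroup (Fin n) F)) (Nat.log p (n / orderOf (q : ZMod p)) + 1) = ⊥ ∧ derivedSeries ↥(P : Subgroup (Matrix.GeneralLinearGroup (Fin n) F)) (Nat.log p (n / orderOf (q : ZMod p))) ≠ ⊥ := by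
  subst hq
  have hpp : p.Prime := Fact.out
  have hp0 : (p : F) ≠ 0 := fun h => by
    have : CharP F p := (CharP.charP_iff_prime_eq_zero hpp).2 h
    obtain ⟨m, -, hm⟩ := FiniteField.card F p
    exact hpq (hm ▸ dvd_pow_self p m.ne_zero)
  have he : 0 < orderOf (Fintype.card F : ZMod p) :=
    orderOf_pos_iff.2 (isOfFinOrder_iff_pow_eq_one.2 ⟨p - 1, by have := hpp.two_le; omega,
      ZMod.pow_card_sub_one_eq_one fun h => hpq ((ZMod.natCast_eq_zero_iff _ _).1 h)⟩)
  constructor
  · let σ : Representation F P (Fin n → F) :=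
      ((Matrix.toLinAlgEquiv' : Matrix (Fin n) (Fin n) F ≃ₐ[F] _) : Matrix (Fin n) (Fin n) F →* _).comp
        ((Units.coeHom _).comp (P : Subgroup (GL (Fin n) F)).subtype)
    have hσ : Function.Injective σ :=
      (Matrix.toLinAlgEquiv' (n := Fin n) (R := F)).injective.comp
        (Units.val_injective.comp (P : Subgroup (GL (Fin n) F)).subtype_injective)
    rw [eq_bot_iff, ← σ.ker_eq_bot_iff.2 hσ]
    exact crossFp hp0 he _ n _ P P.isPGroup' σ (by simp) (Nat.lt_pow_succ_log_self hpp.one_lt _)
  set e := orderOf (Fintype.card F : ZMod p)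
  set k := Nat.log p (n / e)
  obtain ⟨D, _, _, V, _, _, _, ρ, hD, hρ, hV, hk⟩ := exists_wr he k
  have hle : e * p ^ k ≤ n :=
    (Nat.mul_le_mul_left e (Nat.pow_log_le_self p (Nat.div_pos hn he).ne')).trans
      (Nat.mul_div_le n e)
  let W := V × (Fin (n - e * p ^ k) → F)
  have hW : finrank F W = n := by
    rw [finrank_prod, hV, finrank_fin_fun]; exact Nat.add_sub_cancel' hle
  let b := finBasisOfFinrankEq F W hW
  let τ : D →* End F W :=
    { toFun := fun d => (ρ d).prodMap LinearMap.id
      map_one' := by rw [map_one]; rfl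
      map_mul' := fun x y => by rw [map_mul]; rfl }
  let f : D →* GL (Fin n) F :=
    (((LinearMap.toMatrixAlgEquiv b : End F W ≃ₐ[F] _) : End F W →* _).comp τ).toHomUnits
  have hf : Function.Injective f := by
    intro x y h
    have h1 : τ x = τ y := (LinearMap.toMatrixAlgEquiv b).injective (congrArg Units.val h)
    exact hρ (LinearMap.ext fun v => congrArg Prod.fst (LinearMap.congr_fun h1 (v, 0)))
  obtain ⟨Q, hQ⟩ := ((hD.to_subgroup ⊤).map f).exists_le_sylow
  let g : D →* P := (Sylow.equiv Q P).toMonoidHom.comp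
    (f.codRestrict (Q : Subgroup (GL (Fin n) F)) fun x => hQ ⟨x, mem_top x, rfl⟩)
  have hg : Function.Injective g := (Sylow.equiv Q P).injective.comp fun x y h =>
    hf (congrArg Subtype.val h)
  intro h
  apply hk
  have h1 := map_derivedSeries_le_derivedSeries g k
  rwa [h, le_bot_iff, map_eq_bot_iff_of_injective _ hg] at h1

end Cfsg.Agent.S4015
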