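import Cfsg.Statements.S2648
import Cfsg.Agent.Lib.Block.Syl1
import Cfsg.Agent.S4010
import Cfsg.Agent.S4015
import Cfsg.Agent.S0261
import Cfsg.Agent.Lib.Classical.Bridge

set_option autoImplicit false
open Cfsg

namespace Cfsg.Agent.S2648

open Cfsg.Agent.Blk
open Cfsg.Agent.Char hiding cj cj_mul cj_inv_cj cj_cj_inv
open Subgroup commutatorElement Module Cfsg.Agent.S4010 Cfsg.Agent.S4015

universe w

/-- a faithful symplectic representation of dimension `2 * m` of a `2`-group whose `j`-th derived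
subgroup is nontrivial. -/
def Good (F : Type w) [Field F] (m j : ℕ) : Prop :=
  ∃ (ι : Type) (_ : Fintype ι) (D : Type w) (_ : Group D) (_ : Finite D) (V : Type w)
    (_ : AddCommGroup V) (_ : Module F V) (_ : FiniteDimensional F V) (ρ : Representation F D V)
    (x y : ι → V →ₗ[F] F), Fintype.card ι = m ∧ IsPGroup 2 D ∧ Function.Injective ρ ∧
    finrank F V = 2 * m ∧ (∀ v, (∀ i, x i v = 0 ∧ y i v = 0) → v = 0) ∧
    (∀ d v w, ∑ i, (y i (ρ d v) * x i (ρ d w) - x i (ρ d v) * y i (ρ d w)) =
      ∑ i, (y i v * x i w - x i v * y i w)) ∧ derivedSeries D j ≠ ⊥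

theorem good_base {F : Type w} [Field F] [Fintype F] (hF : Odd (Fintype.card F)) : Good F 1 1 := by
  classical
  obtain ⟨P⟩ : Nonempty (Sylow 2 (Matrix.SpecialLinearGroup (Fin 2) F)) := inferInstance
  obtain ⟨k, hk, ⟨e⟩⟩ := Cfsg.Agent.S0261.result hF P
  refine ⟨Unit, inferInstance, P, inferInstance, inferInstance, Fin 2 → F, inferInstance,
    inferInstance, inferInstance,
    { toFun := fun d => Matrix.toLin' d.1.1
      map_one' := by simp; rfl
      map_mul' := fun a b => by simp [Matrix.toLin'_mul]; rfl },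
    fun _ => LinearMap.proj 0, fun _ => LinearMap.proj 1, rfl, P.isPGroup', ?_, by simp, ?_, ?_, ?_⟩
  · intro a b h
    exact Subtype.ext (Subtype.ext (Matrix.toLin'.injective h))
  · intro v hv
    ext i
    fin_cases i
    · exact (hv ()).1
    · exact (hv ()).2
  · intro d v w
    have h := d.1.2
    rw [Matrix.det_fin_two] at h
    simp [Matrix.mulVec, dotProduct, Fin.sum_univ_two]
    linear_combination (v 1 * w 0 - v 0 * w 1) * h
  · intro h
    have h1 : ∀ a b : P, a * b = b * a := fun a b => by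
      rw [← commutatorElement_eq_one_iff_mul_comm, ← mem_bot, ← h]
      exact commutator_mem_commutator (mem_top _) (mem_top _)
    have h2 := congrArg e (h1 (e.symm (.a 1)) (e.symm (.xa 0)))
    simp only [map_mul, MulEquiv.apply_symm_apply, QuaternionGroup.a_mul_xa,
      QuaternionGroup.xa_mul_a, QuaternionGroup.xa.injEq] at h2
    have h3 : ((2 : ℕ) : ZMod (2 * 2 ^ k)) = 0 := by push_cast; linear_combination -h2
    have h4 := Nat.le_of_dvd two_pos ((ZMod.natCast_eq_zero_iff _ _).1 h3)
    have := Nat.pow_le_pow_right two_pos hk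
    omega

theorem good_wr {F : Type w} [Field F] {m j : ℕ} (hm : 0 < m) (h : Good F m j) :
    Good F (2 * m) (j + 1) := by
  classical
  obtain ⟨ι, _, D, _, _, V, _, _, _, ρ, x, y, hι, hD, hρ, hV, hxy, hinv, hj⟩ := h
  obtain ⟨C, _, _, hC, t, ht⟩ : ∃ (C : Type) (_ : Group C) (_ : Fintype C), Nat.card C = 2 ∧
      ∃ t : C, t ≠ 1 := ⟨Multiplicative (ZMod 2), inferInstance, inferInstance, by simp,
        Multiplicative.ofAdd 1, by simp⟩
  have hσ : ∀ a v c, wrRep ρ C a v c = ρ (a.left c) (v (a.right⁻¹ * c)) := fun _ _ _ => rfl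
  have : Nontrivial V := (finrank_pos_iff (R := F)).1 (by omega)
  refine ⟨C × ι, inferInstance, D ≀ᵣ C, inferInstance, inferInstance, C → V, inferInstance,
    inferInstance, inferInstance, wrRep ρ C, fun i => (x i.2).comp (LinearMap.proj i.1),
    fun i => (y i.2).comp (LinearMap.proj i.1), ?_, ?_, ?_, ?_, ?_, ?_,
    fun h => hj (wr_ds ht j h)⟩
  · rw [Fintype.card_prod, ← Nat.card_eq_fintype_card, hC, hι]
  · obtain ⟨s, hs⟩ := IsPGroup.iff_card.1 hD
    refine IsPGroup.of_card (n := s * 2 + 1) ?_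
    rw [RegularWreathProduct.card, hs, hC, ← pow_mul, pow_succ]
  · rw [injective_iff_map_eq_one]
    intro a ha
    have h1 : ∀ (v : C → V) c, ρ (a.left c) (v (a.right⁻¹ * c)) = v c := fun v c => by
      rw [← hσ, ha]; rfl
    obtain ⟨w, hw⟩ := exists_ne (0 : V)
    have h2 : a.right = 1 := by
      by_contra h2
      have h3 := h1 (Pi.single 1 w) 1
      rw [mul_one, Pi.single_eq_of_ne (inv_ne_one.2 h2), map_zero, Pi.single_eq_same] at h3
      exact hw h3.symm
    refine RegularWreathProduct.ext (funext fun c => hρ ?_) h2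
    rw [RegularWreathProduct.one_left, Pi.one_apply, map_one]
    exact LinearMap.ext fun v => h1 (fun _ => v) c
  · rw [finrank_pi_fintype, Finset.sum_const, Finset.card_univ, ← Nat.card_eq_fintype_card, hC, hV,
      smul_eq_mul]
  · intro v hv
    exact funext fun c => hxy _ fun i => hv (c, i)
  · intro a v w
    simp only [Fintype.sum_prod_type, LinearMap.comp_apply, LinearMap.proj_apply, hσ, hinv]
    exact Equiv.sum_comp (Equiv.mulLeft a.right⁻¹)
      (fun c => ∑ i, (y i (v c) * x i (w c) - x i (v c) * y i (w c)))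

theorem good_pad {F : Type w} [Field F] {m j : ℕ} (h : Good F m j) (r : ℕ) :
    Good F (m + r) j := by
  obtain ⟨ι, _, D, _, _, V, _, _, _, ρ, x, y, hι, hD, hρ, hV, hxy, hinv, hj⟩ := h
  refine ⟨ι ⊕ Fin r, inferInstance, D, inferInstance, inferInstance, V × (Fin r → F) × (Fin r → F),
    inferInstance, inferInstance, inferInstance,
    { toFun := fun d => (ρ d).prodMap LinearMap.id
      map_one' := by rw [map_one]; rfl
      map_mul' := fun x y => by rw [map_mul]; rfl },
    Sum.elim (fun i => (x i).comp (LinearMap.fst _ _ _))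
      (fun i => (LinearMap.proj i).comp ((LinearMap.fst _ _ _).comp (LinearMap.snd _ _ _))),
    Sum.elim (fun i => (y i).comp (LinearMap.fst _ _ _))
      (fun i => (LinearMap.proj i).comp ((LinearMap.snd _ _ _).comp (LinearMap.snd _ _ _))),
    by simp [hι], hD, ?_, ?_, ?_, ?_, hj⟩
  · intro a b h
    exact hρ (LinearMap.ext fun v => congrArg Prod.fst (LinearMap.congr_fun h (v, 0)))
  · rw [finrank_prod, finrank_prod, hV, finrank_fin_fun]; ring
  · rintro ⟨v, s, t⟩ hv
    exact Prod.ext (hxy _ fun i => hv (.inl i))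
      (Prod.ext (funext fun i => (hv (.inr i)).1) (funext fun i => (hv (.inr i)).2))
  · intro d v w
    rw [Fintype.sum_sum_type, Fintype.sum_sum_type]
    exact congrArg₂ (· + ·) (hinv d v.1 w.1) rfl

theorem good_pow {F : Type w} [Field F] [Fintype F] (hF : Odd (Fintype.card F)) (j : ℕ) :
    Good F (2 ^ j) (j + 1) := by
  induction j with
  | zero => exact good_base hF
  | succ j ih => rw [pow_succ']; exact good_wr (pow_pos two_pos j) ih

/-- Let q be odd, F a field with q elements and n ≥ 1. A Sylow 2-subgroup R of the symplectic group Sp_{2n}(F) has derived length exactly k + 1, where 2^k ≤ 2n < 2^{k+1}: the (k+1)-st term of its derived series is trivial and the k-th is not. -/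
theorem result {F : Type*} [Field F] [Fintype F] [DecidableEq F] (q : ℕ) (hF : Fintype.card F = q) (hq : Odd q) (n : ℕ) (hn : 1 ≤ n) (R : Sylow 2 ↥(Matrix.symplecticGroup (Fin n) F)) : derivedSeries ↥(R : Subgroup ↥(Matrix.symplecticGroup (Fin n) F)) (Nat.log 2 (2 * n) + 1) = ⊥ ∧ derivedSeries ↥(R : Subgroup ↥(Matrix.symplecticGroup (Fin n) F)) (Nat.log 2 (2 * n)) ≠ ⊥ := by
  subst hF
  constructor
  · let K := AlgebraicClosure F
    have h2 : ((2 : ℕ) : K) ≠ 0 := by
      rw [← map_natCast (algebraMap F K)]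
      refine (map_ne_zero _).2 fun h => ?_
      have : CharP F 2 := (CharP.charP_iff_prime_eq_zero Nat.prime_two).2 h
      obtain ⟨m, -, hm⟩ := FiniteField.card F 2
      exact (Nat.not_even_iff_odd.2 hq) (hm ▸ (Nat.even_pow.2 ⟨even_two, m.ne_zero⟩))
    let σ : Representation K R (Fin n ⊕ Fin n → K) :=
      ((Matrix.toLinAlgEquiv' : Matrix (Fin n ⊕ Fin n) (Fin n ⊕ Fin n) K ≃ₐ[K] _) :
        Matrix (Fin n ⊕ Fin n) (Fin n ⊕ Fin n) K →* _).comp
        (((algebraMap F K).mapMatrix (m := Fin n ⊕ Fin n)).toMonoidHom.comp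
          ((Matrix.symplecticGroup (Fin n) F).subtype.comp
            (R : Subgroup (Matrix.symplecticGroup (Fin n) F)).subtype))
    have hσ : Function.Injective σ :=
      (Matrix.toLinAlgEquiv' (n := Fin n ⊕ Fin n) (R := K)).injective.comp
        ((Matrix.map_injective (algebraMap F K).injective).comp
          (Subtype.val_injective.comp Subtype.val_injective))
    rw [eq_bot_iff, ← σ.ker_eq_bot_iff.2 hσ]
    exact cross h2 (2 * n) _ _ R R.isPGroup' σ (by simp; ring) (Nat.lt_pow_succ_log_self one_lt_two _)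
  have hl : Nat.log 2 (2 * n) = Nat.log 2 n + 1 := by
    rw [mul_comm, Nat.log_mul_base one_lt_two (by omega)]
  have hg := good_pad (good_pow hq (Nat.log 2 n)) (n - 2 ^ Nat.log 2 n)
  rw [Nat.add_sub_cancel' (Nat.pow_log_le_self 2 (by omega)), ← hl] at hg
  obtain ⟨ι, _, D, _, _, V, _, _, _, ρ, x, y, hι, hD, hρ, hV, hxy, hinv, hj⟩ := hg
  let ε : Fin n ≃ ι := (Fintype.equivFinOfCardEq hι).symm
  let E₀ : V →ₗ[F] (Fin n ⊕ Fin n → F) := LinearMap.pi (Sum.elim (fun i => x (ε i)) (fun i => y (ε i)))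
  have hE₀ : Function.Injective E₀ := by
    rw [injective_iff_map_eq_zero]
    intro v hv
    refine hxy v fun i => ?_
    obtain ⟨i, rfl⟩ := ε.surjective i
    exact ⟨congrFun hv (.inl i), congrFun hv (.inr i)⟩
  let E := E₀.linearEquivOfInjective hE₀ (by simp [hV]; ring)
  have hform : ∀ v w, Cfsg.sympForm n F (E v) (E w) = ∑ i, (y i v * x i w - x i v * y i w) := by
    intro v w
    rw [Cfsg.Agent.Classical.sympForm_eq]
    exact Equiv.sum_comp ε (fun i => y i v * x i w - x i v * y i w)
  let f₀ : D →* Matrix (Fin n ⊕ Fin n) (Fin n ⊕ Fin n) F :=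
    ((LinearMap.toMatrixAlgEquiv' : _ ≃ₐ[F] Matrix (Fin n ⊕ Fin n) (Fin n ⊕ Fin n) F) :
      End F (Fin n ⊕ Fin n → F) →* _).comp ((E.conjRingEquiv.toMonoidHom).comp ρ)
  have hf₀ : ∀ d v, (f₀ d).mulVec (E v) = E (ρ d v) := by
    intro d v
    change (LinearMap.toMatrix' (E.conj (ρ d))).mulVec (E v) = _
    rw [LinearMap.toMatrix'_mulVec, LinearEquiv.conj_apply_apply, E.symm_apply_apply]
  let f : D →* Matrix.symplecticGroup (Fin n) F := f₀.codRestrict _ fun d =>
    (Cfsg.Agent.Classical.mem_symplecticGroup_iff_form n).2 fun u v => by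
      obtain ⟨u, rfl⟩ := E.surjective u
      obtain ⟨v, rfl⟩ := E.surjective v
      rw [hf₀, hf₀, hform, hform, hinv]
  have hf : Function.Injective f := by
    intro a b h
    have h1 : f₀ a = f₀ b := congrArg Subtype.val h
    refine hρ (LinearMap.ext fun v => E.injective ?_)
    rw [← hf₀, ← hf₀, h1]
  obtain ⟨Q, hQ⟩ := ((hD.to_subgroup ⊤).map f).exists_le_sylow
  let g : D →* R := (Sylow.equiv Q R).toMonoidHom.comp
    (f.codRestrict (Q : Subgroup (Matrix.symplecticGroup (Fin n) F)) fun x => hQ ⟨x, mem_top x, rfl⟩)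
  have hg : Function.Injective g := (Sylow.equiv Q R).injective.comp fun x y h =>
    hf (congrArg Subtype.val h)
  intro h
  apply hj
  have h1 := map_derivedSeries_le_derivedSeries g (Nat.log 2 (2 * n))
  rwa [h, le_bot_iff, map_eq_bot_iff_of_injective _ hg] at h1

end Cfsg.Agent.S2648
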