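import Cfsg.Statements.S2665
import Mathlib
import Cfsg.Agent.Lib.Perm.Lang1

set_option autoImplicit false
open scoped MatrixGroups
open Cfsg

namespace Cfsg.Agent.S2665

open Cfsg.Agent.Perm.Sh

/-- The Lang–Steinberg Theorem for the general linear group. Let `K` be an algebraically closed field of prime characteristic `p`, let `q = p^f` with `f ≥ 1`, and let `σ` be the endomorphism of GL_n(K) raising every matrix entry to the `q`-th power. Then every element `g` of GL_n(K) can be written `g = x · σ(x)⁻¹` for some `x` in GL_n(K): the map `x ↦ x σ(x)⁻¹` is surjective. -/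
theorem result {K : Type*} [Field K] [IsAlgClosed K] (p : ℕ) [Fact p.Prime] [CharP K p]
    (f : ℕ) (hf : 1 ≤ f) (n : ℕ) (g : GL (Fin n) K) :
    ∃ x : GL (Fin n) K, g = x * (Matrix.GeneralLinearGroup.map (iterateFrobenius K p f) x)⁻¹ := by
  classical
  let σ := iterateFrobenius K p f
  let φ : (Fin n → K) →ₛₗ[σ] (Fin n → K) :=
    { toFun := fun v => (g : Matrix (Fin n) (Fin n) K).mulVec (fun i => σ (v i))
      map_add' := fun v w => by
        rw [← Matrix.mulVec_add]; congr 1; ext i; simp
      map_smul' := fun c v => by
        rw [← Matrix.mulVec_smul]; congr 1; ext i; simp }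
  have hφ : Function.Injective φ := by
    intro v w h
    have := Matrix.mulVec_injective_iff_isUnit.2 (Units.isUnit g) h
    ext i
    exact σ.injective (congrFun this i)
  have hq : 2 ≤ p ^ f := le_trans (Fact.out : p.Prime).two_le (Nat.le_self_pow (by omega) p)
  have hspan := span_fixed (p ^ f) hq σ (fun x => iterateFrobenius_def p f x) φ hφ
  obtain ⟨s, hs, hs2, hs3⟩ := exists_linearIndependent K {v | φ v = v}
  let b0 : Module.Basis s K (Fin n → K) := Module.Basis.mk hs3 (by rw [Subtype.range_coe, hs2, hspan])
  let b := b0.reindex (b0.indexEquiv (Pi.basisFun K (Fin n)))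
  have hb : ∀ i, φ (b i) = b i := by
    intro i
    simp only [b, b0, Module.Basis.reindex_apply, Module.Basis.mk_apply]
    exact hs (Subtype.prop _)
  let A := (Pi.basisFun K (Fin n)).toMatrix b
  have hA : IsUnit A := by
    have := (Pi.basisFun K (Fin n)).invertibleToMatrix b
    exact isUnit_of_invertible _
  refine ⟨hA.unit, ?_⟩
  rw [eq_mul_inv_iff_mul_eq]
  ext i j
  have := congrFun (hb j) i
  simpa [φ, Matrix.mulVec, dotProduct, Matrix.mul_apply, A, Module.Basis.toMatrix_apply] using this

end Cfsg.Agent.S2665
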