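import Cfsg.Statements.S2669
import Mathlib
import Cfsg.Agent.Lib.Perm.Sh1

set_option autoImplicit false
open Cfsg

namespace Cfsg.Agent.S2669

open Cfsg.Agent.Perm.Sh

/-- Shintani descent preserves numbers of fixed points on coset spaces (abstract form). Let `σ` be an automorphism of a group `X` and `e ≥ 1`; write `G` for the fixed points of `σᵉ` and `H` for the fixed points of `σ`, and assume `G` is finite. Let `Y` be a `σ`-stable subgroup of `X` on which the maps `a ↦ a σ(a)⁻¹` and `a ↦ a σᵉ(a)⁻¹` are surjective (as for a closed connected `σ`-stable subgroup of an algebraic group). Let `g ∈ G`, let `a ∈ X` satisfy `g = a σ(a)⁻¹` and put `x = σᵉ(a)⁻¹ a` (the Shintani image, an element of `H`). The element `g σ` of the semidirect product acts on the cosets of `Y ∩ G` in `G` by `k (Y ∩ G) ↦ g σ(k) (Y ∩ G)`, fixing that coset exactly when `k⁻¹ g σ(k) ∈ Y`; and `x` fixes the coset `h (Y ∩ H)` of `H` exactly when `h⁻¹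 x h ∈ Y`. Then the two numbers of fixed cosets agree; in cross-multiplied form, `#{k ∈ G : k⁻¹ g σ(k) ∈ Y} · |Y ∩ H| = #{h ∈ H : h⁻¹ x h ∈ Y} · |Y ∩ G|`. -/
theorem result {X : Type*} [Group X] (σ : MulAut X) (e : ℕ) (he : 1 ≤ e)
    [Finite ↥((MulEquiv.toMonoidHom (σ ^ e)).eqLocus (MonoidHom.id X))]
    (Y : Subgroup X) (hY : ∀ y : X, y ∈ Y ↔ σ y ∈ Y)
    (hYL : ∀ y ∈ Y, ∃ a ∈ Y, y = a * (σ a)⁻¹) (hYLe : ∀ y ∈ Y, ∃ a ∈ Y, y = a * ((σ ^ e) a)⁻¹)
    (g : X) (hg : g ∈ (MulEquiv.toMonoidHom (σ ^ e)).eqLocus (MonoidHom.id X)) (a : X) (ha : g = a * (σ a)⁻¹) :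
    Nat.card {k : ↥((MulEquiv.toMonoidHom (σ ^ e)).eqLocus (MonoidHom.id X)) // (k : X)⁻¹ * g * σ k ∈ Y} *
        Nat.card ↥(Y ⊓ (MulEquiv.toMonoidHom σ).eqLocus (MonoidHom.id X)) =
      Nat.card {h : ↥((MulEquiv.toMonoidHom σ).eqLocus (MonoidHom.id X)) // (h : X)⁻¹ * (((σ ^ e) a)⁻¹ * a) * h ∈ Y} *
        Nat.card ↥(Y ⊓ (MulEquiv.toMonoidHom (σ ^ e)).eqLocus (MonoidHom.id X)) := by
  subst ha
  have hpm := pow_mem σ Y hY e
  rw [card_cosets (σ ^ e) Y hYLe (fun k => k⁻¹ * (a * (σ a)⁻¹) * σ k ∈ Y),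
    card_cosets σ Y hYL (fun h => h⁻¹ * (((σ ^ e) a)⁻¹ * a) * h ∈ Y)]
  · generalize σ ^ e = τ at *
    rw [mul_right_comm]
    congr 2
    refine Nat.card_congr (Equiv.subtypeEquiv (MulAction.toPerm a⁻¹) ?_)
    intro c
    constructor
    · rintro ⟨z, rfl, h1, h2⟩
      have h3 : (a⁻¹ * z)⁻¹ * σ (a⁻¹ * z) ∈ Y := by
        convert h2 using 1
        simp only [map_mul, map_inv]; group
      refine ⟨a⁻¹ * z, rfl, h3, ?_⟩
      convert Y.mul_mem (hpm _ h3) (Y.inv_mem h1) using 1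
      simp only [map_mul, map_inv]; group
    · rintro ⟨w, hw, h1, h2⟩
      refine ⟨a * w, ?_, ?_, ?_⟩
      · have : ((a * w : X) : X ⧸ Y) = a • (w : X ⧸ Y) := rfl
        rw [this, hw]; simp
      · convert Y.mul_mem (Y.inv_mem h2) (hpm _ h1) using 1
        simp only [map_mul]; group
      · convert h1 using 1
        simp only [map_mul]; group
  · intro z y hy h
    convert Y.mul_mem (Y.mul_mem (Y.inv_mem hy) h) hy using 1
    group
  · intro z y hy h
    convert Y.mul_mem (Y.mul_mem (Y.inv_mem hy) h) ((hY y).1 hy) using 1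
    simp only [map_mul]; group

end Cfsg.Agent.S2669
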