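import Cfsg.Statements.S2671
import Mathlib
import Cfsg.Agent.Lib.Perm.Cj9

set_option autoImplicit false
open Cfsg

namespace Cfsg.Agent.S2671

open Cfsg.Agent.Classical Cfsg.Agent.Perm.Inv Cfsg.Agent.Perm.Cj

/-- Number of conjugacy classes of elements of odd prime order r in the general unitary group GU_n(q), for r not dividing q(q + 1): let i be the multiplicative order of q modulo r, b = i if i is odd and b = i/2 if i is even, and s = (r − 1)/b. If i ≢ 2 (mod 4) the eigenvalue orbits pair off into dual pairs of totally isotropic blocks and there are C(⌊n/(2b)⌋ + s/2, s/2) − 1 classes; if i ≡ 2 (mod 4) each orbit gives a non-degenerate block of dimension i/2 and there are C(⌊2n/i⌋ + s, s) − 1 classes. -/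
theorem result {K : Type*} [Field K] [Fintype K] {p q n r i b s : ℕ} [Fact p.Prime] [CharP K p] (hK : Fintype.card K = q ^ 2) (hr : r.Prime) (hr2 : r ≠ 2) (hrp : r ≠ p) (hi : i = orderOf (q : ZMod r)) (hi2 : i ≠ 2) (hb : b = if Odd i then i else i / 2) (hs : s * b = r - 1) : Nat.card {C : ConjClasses ↥(Cfsg.GU n K q) // ∃ g : ↥(Cfsg.GU n K q), ConjClasses.mk g = C ∧ orderOf g = r} = if i % 4 = 2 then Nat.choose (2 * n / i + s) s - 1 else Nat.choose (n / (2 * b) + s / 2) (s / 2) - 1 := by
  have := neZero_of (F := K) hr hrp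
  have := Fact.mk hr
  have h0 : s * b ≠ 0 := by have := hr.two_le; omega
  have h1 := Nat.pos_of_ne_zero (right_ne_zero_of_mul h0)
  have hq : (Nat.card K : ZMod r) = q ^ 2 := by simp [hK]
  have hb' : b = orderOf (Nat.card K : ZMod r) := by
    rw [hq, orderOf_pow' _ two_ne_zero, ← hi, hb]
    split_ifs with h
    · rw [(Nat.coprime_two_right.2 h).gcd_eq_one, Nat.div_one]
    · rw [Nat.gcd_eq_right (even_iff_two_dvd.1 (Nat.not_odd_iff_even.1 h))]
  obtain ⟨p, k, hp, _, hk, -⟩ := exists_pow_of_card_sq hK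
  have := Fact.mk hp
  obtain ⟨J, _, -, h2, h3⟩ := ms_dual hr (frobq_frobq hK) (p := p) (k := k) (by simp [hk]) (¬ i % 4 = 2) (by
    simp only [not_not, hq, ← Nat.cast_pow p, ← hk, ← pow_mul, ← pow_succ', ← hi,
      pow_eq_neg_one_iff hr2 (pow_ne_zero_iff two_ne_zero |>.1 (hq ▸ card_ne hr))]
    exact ⟨fun h => ⟨i / 4, i / 2, by omega, by rw [show 2 * (i / 4) + 1 = i / 2 by omega]⟩, fun ⟨j, h, e, H⟩ => by
      have : (2 * j + 1) % 2 = h % 2 := H.of_mul_right _
      omega⟩) (hb' ▸ hs)
  have hΦ := uForm_nondeg hK n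
  rw [card_ord (guEquiv hK n) hr hb' (n := n) (by simp) (fun s => s.map (dual (frobq hK)) = s)
    (fun t ht s hs _ H => isim_iff.1 (isim_unit (frobq_ne_id hK) hΦ hΦ ht hs H))
    fun s a hs h => unit_Q hr hs (frobq_ne_id hK) hΦ (by rw [← hb', h]; simp)]
  simp only [and_comm (a := _ ≤ _), h3 (b * · ≤ n)]
  by_cases h : i % 4 = 2
  · obtain rfl : i = 2 * b := by rw [if_neg (by rw [Nat.odd_iff]; omega)] at hb; omega
    simp only [h, not_true, if_false, if_true, one_mul, mul_comm b, ← Nat.le_div_iff_mul_le h1, ms_le, h2,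
      Nat.mul_div_mul_left _ _ two_pos]
  · simp only [h, not_false_iff, if_false, if_true, show ∀ c, b * (2 * c) = c * (2 * b) from fun c => by ring,
      ← Nat.le_div_iff_mul_le (show 0 < 2 * b by omega), ms_le, h2]

end Cfsg.Agent.S2671
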