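import Cfsg.Statements.S2673
import Mathlib
import Cfsg.Agent.Lib.Perm.Cj9

set_option autoImplicit false
open Cfsg

namespace Cfsg.Agent.S2673

open Cfsg.Agent.Classical Cfsg.Agent.Perm.Inv Cfsg.Agent.Perm.Cj

/-- Number of conjugacy classes of elements of odd prime order r ≠ p in the orthogonal group O_(2m+1)(q) of x_0² + Σ x_j y_j, q odd: with i the multiplicative order of q mod r and t = (r − 1)/i, there are C(⌊m/i⌋ + t/2, t/2) − 1 classes if i is odd (dual pairs of totally singular i-blocks) and C(⌊(2m+1)/i⌋ + t, t) − 1 if i is even (elliptic i-blocks). -/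
theorem result {F : Type*} [Field F] [Fintype F] {p q : ℕ} [Fact p.Prime] [CharP F p] (hF : Fintype.card F = q) (hq : Odd q) (m r i t : ℕ) (hr : r.Prime) (hr2 : r ≠ 2) (hrp : r ≠ p) (hi : i = orderOf (q : ZMod r)) (ht : t * i = r - 1) : Nat.card {C : ConjClasses ↥(Cfsg.isometryGroup F (Cfsg.quadFormOdd m F)) // ∃ g : ↥(Cfsg.isometryGroup F (Cfsg.quadFormOdd m F)), ConjClasses.mk g = C ∧ orderOf g = r} = if Odd i then Nat.choose (m / i + t / 2) (t / 2) - 1 else Nat.choose ((2 * m + 1) / i + t) t - 1 := by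
  have := neZero_of (F := F) hr hrp
  have hΦ := oddForm_nondeg (F := F) m (Ring.two_ne_zero fun h => by
    have := FiniteField.even_card_of_char_two h; obtain ⟨k, hk⟩ := hq; omega)
  rw [← hF, ← Nat.card_eq_fintype_card] at hi
  have h0 : t * i ≠ 0 := by have := hr.two_le; omega
  have h1 := Nat.pos_of_ne_zero (right_ne_zero_of_mul h0)
  obtain ⟨J, _, -, h2, h3⟩ := ms_id hr hr2 hi ht
  have h4 : Module.finrank F (Unit ⊕ (Fin m ⊕ Fin m) → F) = 2 * m + 1 := by simp; omega
  have := card_ord (orthEquiv (oddForm m F)) hr hi h4 (fun s => s.map (dual (RingHom.id F)) = s)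
    (conj_odd hr hr2 hΦ) fun s a hs h => odd_Q hr hs hr2 hΦ h4 (by rw [← hi, h, h4])
  refine this.trans ?_
  simp only [and_comm (a := _ ≤ _), h3 (i * · ≤ 2 * m + 1)]
  split_ifs at * <;> simp only [one_mul, mul_left_comm i, show ∀ a, 2 * a ≤ 2 * m + 1 ↔ a ≤ m by omega, mul_comm i, mul_assoc,
    ← Nat.le_div_iff_mul_le h1, ms_le, h2]

end Cfsg.Agent.S2673
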