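import Cfsg.Statements.S2674
import Mathlib
import Cfsg.Agent.Lib.Perm.Cj9

set_option autoImplicit false
open Cfsg

namespace Cfsg.Agent.S2674

open Cfsg.Agent.Classical Cfsg.Agent.Perm.Inv Cfsg.Agent.Perm.Cj

/-- Number of conjugacy classes of elements of odd prime order r ≠ p in the orthogonal group O⁺_2m(q) of Σ x_j y_j (m ≥ 1): with i the multiplicative order of q mod r and t = (r − 1)/i — if i is odd, C(⌊m/i⌋ + t/2, t/2) − 1; if i is even, C(⌊2m/i⌋ + t, t) − 1 minus, when i divides 2m with odd quotient, the C(2m/i + t − 1, t − 1) tuples using the whole space (an odd number of elliptic i-blocks fills an elliptic, not a hyperbolic, space). -/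
theorem result {F : Type*} [Field F] [Fintype F] {p q : ℕ} [Fact p.Prime] [CharP F p] (hF : Fintype.card F = q) (m r i t : ℕ) (hm : 1 ≤ m) (hr : r.Prime) (hr2 : r ≠ 2) (hrp : r ≠ p) (hi : i = orderOf (q : ZMod r)) (ht : t * i = r - 1) : Nat.card {C : ConjClasses ↥(Cfsg.isometryGroup F (Cfsg.quadFormPlus m F)) // ∃ g : ↥(Cfsg.isometryGroup F (Cfsg.quadFormPlus m F)), ConjClasses.mk g = C ∧ orderOf g = r} = if Odd i then Nat.choose (m / i + t / 2) (t / 2) - 1 else Nat.choose (2 * m / i + t) t - 1 - (if i ∣ 2 * m ∧ Odd (2 * m / i) then Nat.choose (2 * m / i + t - 1) (t - 1) else 0) := by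
  have := neZero_of (F := F) hr hrp
  rw [← hF, ← Nat.card_eq_fintype_card] at hi
  have h1 : 0 < i := Nat.pos_of_ne_zero (by rintro rfl; have := hr.two_le; omega)
  have := card_even hr hr2 (orthEquiv (plusForm m F)) (plusForm_nondeg m) (.inl rfl) (plusForm_isType m) hi ht False
    (i ∣ 2 * m ∧ Odd (2 * m / i)) (fun _ => by simp [← orderOf_dvd_iff_pow_eq_one, hi]) fun _ => and_congr_right fun ⟨k, hk⟩ => by
      rw [Int.cast_one, Ne, ← orderOf_dvd_iff_pow_eq_one, ← hi, hk, Nat.mul_div_cancel_left _ h1, ← Nat.not_even_iff_odd,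
        ← Nat.mul_dvd_mul_iff_left two_pos, hk, mul_comm, Nat.mul_dvd_mul_iff_left h1, even_iff_two_dvd]
  exact this

end Cfsg.Agent.S2674
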