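import Cfsg.Statements.S2675
import Mathlib
import Cfsg.Agent.Lib.Perm.Cj9

set_option autoImplicit false
open Cfsg

namespace Cfsg.Agent.S2675

open Cfsg.Agent.Classical Cfsg.Agent.Perm.Inv Cfsg.Agent.Perm.Cj

/-- Number of conjugacy classes of elements of odd prime order r ≠ p in the orthogonal group O⁻_2m(q) of an elliptic form Σ_(j<m−1) x_j y_j + z₁² + a z₁z₂ + c z₂² (binary part anisotropic, m ≥ 1): with i the multiplicative order of q mod r and t = (r − 1)/i — if i is odd, C(⌊m/i⌋ + t/2, t/2) − 1 minus, when i divides m, the C(m/i + t/2 − 1, t/2 − 1) tuples filling the whole space (dual pairs of totally singular blocks fill a hyperbolic space); if i is even, C(⌊2m/i⌋ + t, t) − 1 minus, when i divides 2m with even quotient, the C(2m/i + t − 1, t − 1) tuples filling the whole space with an even number of elliptic blocks. -/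
theorem result {F : Type*} [Field F] [Fintype F] {p q : ℕ} [Fact p.Prime] [CharP F p] (hF : Fintype.card F = q) (m r i t : ℕ) (hm : 1 ≤ m) (a c : F) (hac : ∀ z₁ z₂ : F, z₁ ^ 2 + a * z₁ * z₂ + c * z₂ ^ 2 = 0 → z₁ = 0 ∧ z₂ = 0) (hr : r.Prime) (hr2 : r ≠ 2) (hrp : r ≠ p) (hi : i = orderOf (q : ZMod r)) (ht : t * i = r - 1) : Nat.card {C : ConjClasses ↥(Cfsg.isometryGroup F (Cfsg.quadFormMinus (m - 1) F a c)) // ∃ g : ↥(Cfsg.isometryGroup F (Cfsg.quadFormMinus (m - 1) F a c)), ConjClasses.mk g = C ∧ orderOf g = r} = if Odd i then Nat.choose (m / i + t / 2) (t / 2) - 1 - (if i ∣ m then Nat.choose (m / i + t / 2 - 1) (t / 2 - 1) else 0) else Nat.choose (2 * m / i + t) t - 1 - (if i ∣ 2 * m ∧ Even (2 * m / i) then Nat.choose (2 * m / i + t - 1) (t - 1) else 0) := by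
  have := neZero_of (F := F) hr hrp
  have := Fact.mk hr
  rw [← hF, ← Nat.card_eq_fintype_card] at hi
  have h1 : 0 < i := Nat.pos_of_ne_zero (by rintro rfl; have := hr.two_le; omega)
  have h2 : (Nat.card F : ZMod r) ^ m ≠ (-1 : ℤ) ↔ ¬ ∃ h, i = 2 * h ∧ m ≡ h [MOD 2 * h] := by
    rw [hi, ← pow_eq_neg_one_iff hr2 (card_ne hr)]; simp
  have := card_even hr hr2 (orthEquiv (minusForm (m - 1) F a c)) (minusForm_nondeg _ hac) (.inr rfl)
    (by simpa [Nat.sub_add_cancel hm] using minusForm_isType (m - 1) hac) hi ht (i ∣ m)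
    (i ∣ 2 * m ∧ Even (2 * m / i)) (fun ⟨_, h⟩ => (and_iff_left (h2.2 fun ⟨_, _, _⟩ => by omega)).symm)
    fun h => and_congr_right fun ⟨k, hk⟩ => by
      obtain ⟨j, rfl⟩ := even_iff_two_dvd.1 (Nat.not_odd_iff_even.1 h)
      obtain rfl : m = j * k := by rw [mul_assoc] at hk; omega
      have := Nat.ModEq.mul_left_cancel_iff' (c := j) (a := k) (b := 1) (m := 2) (by omega)
      rw [h2, hk, Nat.mul_div_cancel_left _ h1, ← Nat.not_odd_iff_even, Nat.odd_iff, show k % 2 = 1 ↔ k ≡ 1 [MOD 2] from .rfl,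
        ← this, mul_one, mul_comm j 2]
      simp
  exact this

end Cfsg.Agent.S2675
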