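import Cfsg.Statements.S2677
import Cfsg.Agent.Lib.Classical.GUc

set_option autoImplicit false
open Cfsg

namespace Cfsg.Agent.S2677
open Cfsg.Agent.Classical

open Matrix in
theorem main {F : Type*} [Field F] [Fintype F] (E : Subfield F) [Fintype E] {n q q₀ : ℕ} (hn : 1 ≤ n)
    (σ : F ≃+* F) (hF : Fintype.card F = q ^ 2) (hE0 : Fintype.card E = q₀ ^ 2)
    (hE : ∀ a, a ∈ E ↔ σ a = a) (hq : ∀ a : E, a ^ q = a ^ q₀) :
    Nat.card {g : GU n F q // ∃ c : F, c ≠ 0 ∧ ((g : GL (Fin n) F) : Matrix (Fin n) (Fin n) F).map σ = c • ((g : GL (Fin n) F) : Matrix (Fin n) (Fin n) F)} * (q₀ + 1) = (q + 1) * Nat.card (GU n E q₀) := by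
  have hq' : ∀ a : E, (a : F) ^ q = ((a ^ q₀ : E) : F) := fun a => by rw [← hq]; simp
  let U := (powMonoidHom (q + 1) : Fˣ →* Fˣ).ker
  let U0 := (powMonoidHom (q₀ + 1) : Eˣ →* Eˣ).ker
  have hU : ∀ a : Fˣ, a ∈ U ↔ (a : F) * a ^ q = 1 := fun a => mem_ker_norm_iff hF
  have hU0 : ∀ a : Eˣ, a ∈ U0 ↔ (a : E) * a ^ q₀ = 1 := fun a => mem_ker_norm_iff hE0
  let μ : U × GU n E q₀ →* GL (Fin n) F :=
    MonoidHom.noncommCoprod ((GeneralLinearGroup.scalar (Fin n)).comp U.subtype)
      ((GeneralLinearGroup.map E.subtype).comp (Subgroup.subtype _))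
      fun a h => (Subgroup.mem_center_iff.1 (GeneralLinearGroup.center_eq_range_scalar.ge ⟨a.1, rfl⟩) _).symm
  have hμ : ∀ a h i j, (μ (a, h)).val i j = a.1.val * (h.1.val i j : F) := by
    intro a h i j
    change (Matrix.scalar (Fin n) a.1.val * h.1.val.map E.subtype) i j = _
    simp [Matrix.scalar_apply, Matrix.diagonal_mul]
  let i0 : Fin n := ⟨0, hn⟩
  have h1 : ∀ g : GL (Fin n) F, g ∈ μ.range ↔ g ∈ GU n F q ∧ ∃ c : F, c ≠ 0 ∧ g.val.map σ = c • g.val := by
    intro g
    constructor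
    · rintro ⟨⟨a, h⟩, rfl⟩
      refine ⟨(mem_GU_mat hF).2 fun i j => ?_, σ a.1 / a.1,
        div_ne_zero ((map_ne_zero σ).2 a.1.ne_zero) a.1.ne_zero, ?_⟩
      · have h2 := congrArg E.subtype ((mem_GU_mat hE0).1 h.2 i j)
        rw [map_sum, apply_ite E.subtype, map_one, map_zero] at h2
        rw [← h2, ← one_mul (∑ k, E.subtype _), ← (hU _).1 a.2, Finset.mul_sum]
        refine Finset.sum_congr rfl fun k _ => ?_
        rw [hμ, hμ, mul_pow, hq']
        simp; ring
      · ext i j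
        rw [Matrix.map_apply, Matrix.smul_apply, hμ, map_mul, (hE _).1 (Subtype.prop _), smul_eq_mul]
        field_simp
    · rintro ⟨hg, c, hc, h⟩
      rw [mem_GU_mat hF] at hg
      obtain ⟨j0, hj0⟩ : ∃ j, g.val i0 j ≠ 0 := by
        by_contra h0
        push Not at h0
        exact g.det_ne_zero (det_eq_zero_of_row_eq_zero i0 h0)
      set a0 := g.val i0 j0 with ha0
      have hij : ∀ i j, σ (g.val i j) = c * g.val i j := fun i j => congrFun (congrFun h i) j
      have hmem : ∀ i j, a0⁻¹ * g.val i j ∈ E := fun i j => (hE _).2 (by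
        rw [map_mul, map_inv₀, ha0, hij, hij]; field_simp)
      have hl : (a0 * a0 ^ q)⁻¹ ∈ E := by
        have := hg i0 i0
        rw [if_pos rfl] at this
        rw [← mul_one (a0 * a0 ^ q)⁻¹, ← this, Finset.mul_sum]
        refine sum_mem fun k _ => ?_
        rw [show (a0 * a0 ^ q)⁻¹ * (g.val k i0 * g.val k i0 ^ q) =
          (a0⁻¹ * g.val k i0) * (a0⁻¹ * g.val k i0) ^ q by rw [mul_pow, inv_pow, mul_inv]; ring]
        exact mul_mem (hmem _ _) (pow_mem (hmem _ _) _)
      obtain ⟨b, hb⟩ := norm_surj_fixed (frobq hE0) (frobq_ne_id hE0) (frobq_frobq hE0) ⟨_, hl⟩ (by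
        apply Subtype.ext
        rw [frobq_apply, ← hq']
        change frobq hF (a0 * frobq hF a0)⁻¹ = (a0 * frobq hF a0)⁻¹
        rw [map_inv₀, map_mul, frobq_frobq, mul_comm])
      have hb' : (b : F) * (b : F) ^ q = (a0 * a0 ^ q)⁻¹ := by
        rw [hq']; exact congrArg Subtype.val hb
      have hq0 : a0 * a0 ^ q ≠ 0 := mul_ne_zero hj0 (pow_ne_zero _ hj0)
      have hb0 : (b : F) ≠ 0 := fun h0 => by
        rw [h0, zero_mul] at hb'
        exact inv_ne_zero hq0 hb'.symm
      set a := a0 * b with ha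
      have ha' : a ≠ 0 := mul_ne_zero hj0 hb0
      have haU : a * a ^ q = 1 := by
        rw [ha, mul_pow, mul_mul_mul_comm, hb', mul_inv_cancel₀ hq0]
      let M : Matrix (Fin n) (Fin n) E := of fun i j => ⟨a⁻¹ * g.val i j, by
        rw [ha, mul_inv, mul_right_comm]; exact mul_mem (hmem i j) (inv_mem b.2)⟩
      have hM : E.subtype.mapMatrix M = a⁻¹ • g.val := by
        ext i j; rfl
      have hd : M.det ≠ 0 := fun h0 => by
        have := congrArg det hM
        rw [← RingHom.map_det, h0, map_zero, det_smul] at this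
        exact mul_ne_zero (pow_ne_zero _ (inv_ne_zero ha')) g.det_ne_zero this.symm
      refine ⟨(⟨Units.mk0 a ha', (hU _).2 haU⟩, ⟨GeneralLinearGroup.mkOfDetNeZero M hd,
        (mem_GU_mat hE0).2 fun i j => ?_⟩), Units.ext ?_⟩
      · apply E.subtype.injective
        rw [map_sum, apply_ite E.subtype, map_one, map_zero, ← hg i j, ← one_mul (∑ k, g.val k i * _),
          ← inv_one, ← haU, Finset.mul_sum]
        refine Finset.sum_congr rfl fun k _ => ?_
        rw [map_mul, ← hq, map_pow]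
        change a⁻¹ * g.val k i * (a⁻¹ * g.val k j) ^ q = _
        rw [mul_pow, inv_pow, mul_inv]; ring
      · ext i j
        rw [hμ]
        change a * (a⁻¹ * _) = _
        rw [mul_inv_cancel_left₀ ha']
  have hsc : ∀ u : Eˣ, u ∈ U0 → GeneralLinearGroup.scalar (Fin n) u ∈ GU n E q₀ := fun u hu =>
    (mem_GU_mat hE0).2 fun i j => by
      change ∑ k, Matrix.scalar (Fin n) u.val k i * Matrix.scalar (Fin n) u.val k j ^ q₀ = _
      rw [Finset.sum_eq_single i (fun k _ hk => by simp [hk]) (by simp)]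
      have := two_le_of_card_sq hE0
      by_cases hij : i = j
      · simp [hij, (hU0 u).1 hu]
      · simp [hij, show q₀ ≠ 0 by omega]
  let ν : U0 →* U × GU n E q₀ :=
    (((Units.map E.subtype.toMonoidHom).comp U0.subtype).codRestrict U fun u => (hU _).2 (by
      change (u.1.val : F) * (u.1.val : F) ^ q = 1
      rw [hq']; exact congrArg Subtype.val ((hU0 _).1 u.2))).prod
    (((GeneralLinearGroup.scalar (Fin n)).comp (U0.subtype.comp invMonoidHom)).codRestrict _
      fun u => hsc _ (u⁻¹).2)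
  have hν : Function.Injective ν := fun u v h =>
    Subtype.ext (Units.ext (Subtype.ext (congrArg (fun x : U × GU n E q₀ => x.1.1.val) h)))
  have h2 : ν.range = μ.ker := by
    ext ⟨a, h⟩
    constructor
    · rintro ⟨u, hu⟩
      rw [← hu, MonoidHom.mem_ker]
      ext i j
      change (μ (_, _)).val i j = _
      rw [hμ]
      change (u.1.1 : F) * ((Matrix.scalar (Fin n) (u.1⁻¹).1 i j : E) : F) = _
      by_cases hij : i = j <;> simp [hij, Matrix.scalar_apply]
    · intro hk
      have hk' : ∀ i j, a.1.val * (h.1.val i j : F) = (1 : Matrix (Fin n) (Fin n) F) i j :=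
        fun i j => by rw [← hμ, MonoidHom.mem_ker.1 hk]; rfl
      have h0 := hk' i0 i0
      rw [one_apply_eq] at h0
      have h3 : h.1.val i0 i0 ≠ 0 := fun h4 => by simp [h4] at h0
      have h4 : (((Units.mk0 _ h3)⁻¹ : Eˣ).val : F) = a.1.val := by
        simpa using (eq_inv_of_mul_eq_one_left h0).symm
      refine ⟨⟨(Units.mk0 _ h3)⁻¹, (hU0 _).2 (Subtype.ext ?_)⟩,
        Prod.ext (Subtype.ext (Units.ext h4)) (Subtype.ext (Units.ext ?_))⟩
      · rw [Subfield.coe_mul, ← hq', h4]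
        exact (hU _).1 a.2
      · ext i j
        apply mul_left_cancel₀ a.1.ne_zero
        rw [hk']
        change a.1.val * ((Matrix.scalar (Fin n) ((Units.mk0 _ h3)⁻¹⁻¹).val i j : E) : F) = _
        by_cases hij : i = j <;> simp [hij, Matrix.scalar_apply, h0, Matrix.one_apply]
  have h3 := μ.ker.card_mul_index
  rw [Subgroup.index_ker, ← h2, ← Nat.card_congr (MonoidHom.ofInjective hν).toEquiv, Nat.card_prod,
    card_ker_norm hF, card_ker_norm hE0] at h3
  rw [← h3, mul_comm]
  congr 1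
  exact Nat.card_congr ((Equiv.subtypeSubtypeEquivSubtypeInter _ fun g : GL (Fin n) F =>
    ∃ c : F, c ≠ 0 ∧ g.val.map σ = c • g.val).trans (Equiv.subtypeEquivRight fun g => (h1 g).symm))


/-- Centraliser of a field automorphism of odd prime order in PGU_n(q): let q = q₀^r with r an odd prime, K the field with q² elements and σ a field automorphism of K of order r (fixed field of order q₀²). The elements g of GU_n(q) whose entrywise image under σ is a scalar multiple of g — those whose coset modulo the q + 1 unitary scalars is fixed by σ — number (q + 1)/(q₀ + 1) · |GU_n(q₀)|; equivalently the centraliser in PGU_n(q) of the induced automorphism has the order of PGU_n(q₀). -/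
theorem result {K : Type*} [Field K] [Fintype K] {q₀ q r n : ℕ} (hr : r.Prime) (hr2 : r ≠ 2) (hn : 1 ≤ n) (hq : q = q₀ ^ r) (hK : Fintype.card K = q ^ 2) (σ : K ≃+* K) (hσ : orderOf σ = r) : (Nat.card {g : ↥(Cfsg.GU n K q) // ∃ c : K, c ≠ 0 ∧ ((g : GL (Fin n) K) : Matrix (Fin n) (Fin n) K).map σ = c • ((g : GL (Fin n) K) : Matrix (Fin n) (Fin n) K)} : ℤ) = ((q + 1) / (q₀ + 1) : ℕ) * ((q₀ : ℤ) ^ (n * (n - 1) / 2) * ∏ i : Fin n, ((q₀ : ℤ) ^ ((i : ℕ) + 1) - (-1) ^ ((i : ℕ) + 1))) := by
  classical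
  let E := FixedPoints.subfield (Subgroup.zpowers σ) K
  have hE : ∀ a, a ∈ E ↔ σ a = a := fun a => by
    refine ⟨fun h => h ⟨σ, Subgroup.mem_zpowers σ⟩, fun h g => ?_⟩
    exact (Subgroup.zpowers_le.2 (show σ ∈ MulAction.stabilizer (K ≃+* K) a from h) g.2 :)
  haveI : Finite (K ≃+* K) := Finite.of_injective (fun f : K ≃+* K => (f : K → K)) DFunLike.coe_injective
  letI := Fintype.ofFinite (Subgroup.zpowers σ)
  have h1 := FixedPoints.finrank_eq_card (Subgroup.zpowers σ) K
  rw [← Nat.card_eq_fintype_card, Nat.card_zpowers, hσ] at h1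
  have h2 : Fintype.card E = q₀ ^ 2 := by
    have := Module.card_eq_pow_finrank (K := E) (V := K)
    rw [h1, hK, hq, ← pow_mul, mul_comm, pow_mul] at this
    exact (Nat.pow_left_injective hr.ne_zero this).symm
  have hodd := hr.odd_of_ne_two hr2
  have h3 := main E hn σ hK h2 hE fun a => by
    obtain ⟨k, hk⟩ := hodd
    rw [hq, hk, pow_succ, pow_mul, pow_mul, ← h2, FiniteField.pow_card_pow]
  have h5 : q₀ + 1 ∣ q + 1 := by simpa [hq] using hodd.nat_add_dvd_pow_add_pow q₀ 1
  rw [← card_GU_int h2, ← Nat.cast_mul, Nat.cast_inj]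
  refine Nat.eq_of_mul_eq_mul_right (Nat.succ_pos q₀) ?_
  rw [h3, mul_right_comm, Nat.div_mul_cancel h5]

end Cfsg.Agent.S2677
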