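import Cfsg.Statements.S2679
import Mathlib
import Cfsg.Agent.Lib.Perm.Or3

set_option autoImplicit false
open Cfsg

namespace Cfsg.Agent.S2679

open Cfsg.Agent.Classical Cfsg.Agent.Perm.Ort

/-- An elliptic orthogonal group embeds in the hyperbolic orthogonal group of the same dimension over the quadratic extension: for a field F with q elements and a field K with q² elements there is an injective homomorphism from O⁻_2m(F) (isometries of Σ_(j<m−1) x_j y_j + z₁² + a z₁z₂ + c z₂², binary part anisotropic) to O⁺_2m(K) (isometries of Σ_(j<m) x_j y_j over K). -/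
theorem result {F K : Type*} [Field F] [Fintype F] [Field K] [Fintype K] {q : ℕ} (hF : Fintype.card F = q) (hK : Fintype.card K = q ^ 2) {m : ℕ} (hm : 1 ≤ m) (a c : F) (hac : ∀ z₁ z₂ : F, z₁ ^ 2 + a * z₁ * z₂ + c * z₂ ^ 2 = 0 → z₁ = 0 ∧ z₂ = 0) : ∃ φ : ↥(Cfsg.isometryGroup F (Cfsg.quadFormMinus (m - 1) F a c)) →* ↥(Cfsg.isometryGroup K (Cfsg.quadFormPlus m K)), Function.Injective φ := by
  obtain ⟨_, h2⟩ := exists_alg hK hF
  obtain ⟨m, rfl⟩ : ∃ k, m = k + 1 := ⟨m - 1, by omega⟩
  have hb := Perm.Aut.bc_minus (φ := algebraMap F K) m a c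
  have h1 := hb.nondeg' (minusForm_nondeg m hac)
  obtain ⟨θ, hθ⟩ := exists_root_quad h2 a c fun x hx => one_ne_zero (hac x 1 (by simpa using hx)).2
  obtain ⟨e⟩ := (orth_iso_even _ _ _ _ h1 (plusForm_nondeg _) (Perm.Aut.minus_isType_of_root hθ h1)
    (plusForm_isType _)).nonempty_equiv
  have h3 : Function.Injective hb.bcI := fun x y h => Subtype.ext (Perm.Aut.bc_inj _ (congrArg Subtype.val h))
  exact ⟨(e.trans (orthEquiv (plusForm (m + 1) K)).symm).toMonoidHom.comp
    (hb.bcI.comp (orthEquiv (minusForm m F a c)).toMonoidHom), (e.trans (orthEquiv (plusForm (m + 1) K)).symm).injective.comp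
      (h3.comp (orthEquiv (minusForm m F a c)).injective)⟩

end Cfsg.Agent.S2679
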