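import Cfsg.Statements.S2682
import Mathlib
import Cfsg.Agent.Lib.Perm.Inv7

set_option autoImplicit false
open Cfsg

namespace Cfsg.Agent.S2682

open Cfsg.Agent.Classical Cfsg.Agent.Perm.Inv

/-- Centraliser order of an involution t of Sp_2m(q), q even, with s = rank(t − 1) even and f(v, tv) ≠ 0 for some v, f the symplectic form (type c_s): |C(t)| = q^(2ms − (3s² − 3s)/2 − 1) · |Sp_(s−2)(q)| · |Sp_(2m−2s)(q)|. -/
theorem result {F : Type*} [Field F] [Fintype F] [CharP F 2] {q : ℕ} (hF : Fintype.card F = q) {m s : ℕ} (t : Matrix.symplecticGroup (Fin m) F) (ht : t ^ 2 = 1) (hs : ((t : Matrix (Fin m ⊕ Fin m) (Fin m ⊕ Fin m) F) - 1).rank = s) (heven : Even s) (hna : ∃ v : Fin m ⊕ Fin m → F, Cfsg.sympForm m F v ((t : Matrix (Fin m ⊕ Fin m) (Fin m ⊕ Fin m) F).mulVec v) ≠ 0) : Nat.card ↥(Subgroup.centralizer ({t} : Set ↥(Matrix.symplecticGroup (Fin m) F))) = q ^ (2 * m * s - (3 * s ^ 2 - 3 * s) / 2 - 1)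 * ((q : ℕ) ^ (((s - 2) / 2) ^ 2) * ∏ i : Fin ((s - 2) / 2), (q ^ (2 * ((i : ℕ) + 1)) - 1)) * ((q : ℕ) ^ ((m - s) ^ 2) * ∏ i : Fin (m - s), (q ^ (2 * ((i : ℕ) + 1)) - 1)) := by
  have H := so2_symp (F := F) CharTwo.two_eq_zero
  have ht := (sq_equiv (spEquiv m F)).1 ht
  rw [rank_eq (spEquiv_apply m t)] at hs
  subst hs hF
  obtain ⟨h1, h2⟩ := (H.card_beta (spForm_nondeg m) (spEquiv m F t).2 ht).2.2 (fun h => hna.elim fun v hv => hv (h v)) heven
  have h3 := two_rk_le (spForm_nondeg m) H.two (spEquiv m F t).2 ht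
  rw [card_cent_equiv (spEquiv m F), H.card_cent (spForm_nondeg m) (spEquiv m F t).2, spc_eq, spc_eq, h2,
    sp_fix H.two (spForm_nondeg m) (spEquiv m F t).2 ht (m := m) (by simp [two_mul]), Nat.card_eq_fintype_card]
  generalize rk (spEquiv m F t).1 = s at *
  simp at h3
  have h4 : s ^ 2 ≤ m * s := by nlinarith
  have h5 : 2 * s ≤ s ^ 2 := by nlinarith
  have h6 : Even (s ^ 2) := heven.pow_of_ne_zero two_ne_zero
  rw [show 2 * m * s - (3 * s ^ 2 - 3 * s) / 2 - 1 = s - 1 + (2 * m * s - (3 * s ^ 2 - s) / 2) by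
    rw [mul_assoc]; omega]
  ring

end Cfsg.Agent.S2682
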