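import Cfsg.Statements.S2683
import Mathlib
import Cfsg.Agent.Lib.Perm.Inv7

set_option autoImplicit false
open Cfsg

namespace Cfsg.Agent.S2683

open Cfsg.Agent.Classical Cfsg.Agent.Perm.Inv

/-- For the hyperbolic form Σ x_j y_j on F^(2m) over a finite field with q elements, q even (excluding m = 2 over the field of two elements), and an involution x of the orthogonal group with s = rank(x − 1) odd (type b_s; such x lie outside Ω): the elements of Ω (the commutator subgroup of the orthogonal group) commuting with x number q^(2m(s−1) − (3s² − 3s)/2) · |Sp_(s−1)(q)| · |Sp_(2m−2s)(q)|, where |Sp_2k(q)| = q^(k²) Π_(i=1)^k (q^(2i) − 1). -/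
theorem result {F : Type*} [Field F] [Fintype F] [CharP F 2] {q : ℕ} (hF : Fintype.card F = q) {m s : ℕ} (h : Fintype.card F ≠ 2 ∨ m ≠ 2) (x : ↥(Cfsg.isometryGroup F (Cfsg.quadFormPlus m F))) (hx : x ^ 2 = 1) (hs : (((x : Matrix.GeneralLinearGroup (Fin m ⊕ Fin m) F) : Matrix (Fin m ⊕ Fin m) (Fin m ⊕ Fin m) F) - 1).rank = s) (hodd : Odd s) : Nat.card {g : ↥(Cfsg.Omega F (Cfsg.quadFormPlus m F)) // (g : ↥(Cfsg.isometryGroup F (Cfsg.quadFormPlus m F))) * x = x * (g : ↥(Cfsg.isometryGroup F (Cfsg.quadFormPlus m F)))} = q ^ (2 * m * (s - 1) - (3 * s ^ 2 - 3 * s) / 2) * ((q : ℕ) ^ (((s - 1) / 2) ^ 2) * ∏ i : Fin ((s - 1) / 2), (q ^ (2 * ((i : ℕ) + 1)) - 1)) * ((q : ℕ) ^ ((m - s) ^ 2) * ∏ i : Fin (m - s), (q ^ (2 * ((i : ℕ) + 1)) - 1)) := by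
  have H := so2_orth (F := F) CharTwo.two_eq_zero
  have hΦ := plusForm_nondeg (F := F) m
  have hG := Form.good_of_card hΦ (h.imp_right fun h => by simp; omega)
  have ht := (sq_equiv (orthEquiv (plusForm m F))).1 hx
  have ht' := (orthEquiv (plusForm m F) x).2
  rw [rank_eq (orthEquiv_apply (plusForm m F) x)] at hs
  subst hs hF
  refine (card_Om_comm (plusForm m F) x).trans ?_
  rw [om_cent_nonalt H.two hG hΦ ht' ht (fun a => Nat.not_even_iff_odd.2 hodd (H.even hΦ ht' a)) (m := m) (by simp [two_mul]),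
    spc_eq, spc_eq, (H.card_beta hΦ ht' ht).2.1 hodd, Nat.card_eq_fintype_card]

end Cfsg.Agent.S2683
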