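import Cfsg.Statements.S2685
import Mathlib
import Cfsg.Agent.Lib.Perm.Inv7

set_option autoImplicit false
open Cfsg

namespace Cfsg.Agent.S2685

open Cfsg.Agent.Classical Cfsg.Agent.Perm.Inv

/-- For the hyperbolic form Q = Σ x_j y_j on F^(2m) over a finite field with q elements, q even (excluding m = 2 over the field of two elements), and an involution x of the orthogonal group with s = rank(x − 1) even and Q not vanishing on the image of x − 1 (f(v, xv) ≠ 0 for some v, where f(u, w) = Q(u + w) − Q(u) − Q(w) is the bilinear form of Q; type c_s, which lies in Ω): its centraliser in Ω (the commutator subgroup of the orthogonal group) has order q^(2m(s−1) − (3s² − 5s)/2 − 1) · |Sp_(s−2)(q)| · |Sp_(2m−2s)(q)|. -/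
theorem result {F : Type*} [Field F] [Fintype F] [CharP F 2] {q : ℕ} (hF : Fintype.card F = q) {m s : ℕ} (h : Fintype.card F ≠ 2 ∨ m ≠ 2) (x : ↥(Cfsg.isometryGroup F (Cfsg.quadFormPlus m F))) (hx : x ^ 2 = 1) (hs : (((x : Matrix.GeneralLinearGroup (Fin m ⊕ Fin m) F) : Matrix (Fin m ⊕ Fin m) (Fin m ⊕ Fin m) F) - 1).rank = s) (heven : Even s) (hna : ∃ v : Fin m ⊕ Fin m → F, Cfsg.quadFormPlus m F ((((x : Matrix.GeneralLinearGroup (Fin m ⊕ Fin m) F) : Matrix (Fin m ⊕ Fin m) (Fin m ⊕ Fin m) F) - 1).mulVec v) ≠ 0) : Nat.card {g : ↥(Cfsg.Omega F (Cfsg.quadFormPlus m F)) // (g : ↥(Cfsg.isometryGroup F (Cfsg.quadFormPlus m F))) * x = x * (g : ↥(Cfsg.isometryGroup F (Cfsg.quadFormPlus m F)))} = q ^ (2 * m * (s - 1) - (3 * s ^ 2 - 5 * s) / 2 - 1) * ((q : ℕ) ^ (((s - 2) / 2) ^ 2) * ∏ i : Fin ((s - 2) / 2), (q ^ (2 * ((i : ℕ) + 1)) - 1)) * ((q : ℕ) ^ ((m - s) ^ 2) * ∏ i : Fin (m - s), (q ^ (2 * ((i : ℕ) + 1)) - 1)) := by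
  have H := so2_orth (F := F) CharTwo.two_eq_zero
  have hΦ := plusForm_nondeg (F := F) m
  have hG := Form.good_of_card hΦ (h.imp_right fun h => by simp; omega)
  have ht := (sq_equiv (orthEquiv (plusForm m F))).1 hx
  have ht' := (orthEquiv (plusForm m F) x).2
  have e := mulVecLin_sub (orthEquiv_apply (plusForm m F) x)
  have ha : ¬ Alt (plusForm m F) (orthEquiv (plusForm m F) x).1 := fun a => hna.elim fun v hv =>
    hv (((orth_alt_iff H.two ht').1 a).1 _ ⟨v, by rw [← e]; rfl⟩)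
  rw [rank_eq (orthEquiv_apply (plusForm m F) x)] at hs
  subst hs hF
  obtain ⟨h1, h2⟩ := (H.card_beta hΦ ht' ht).2.2 ha heven
  have h3 := two_rk_le hΦ H.two ht' ht
  refine (card_Om_comm (plusForm m F) x).trans ?_
  rw [om_cent_nonalt H.two hG hΦ ht' ht ha (m := m) (by simp [two_mul]), spc_eq, spc_eq, h2, Nat.card_eq_fintype_card]
  generalize rk (orthEquiv (plusForm m F) x).1 = s at *
  simp at h3
  obtain ⟨s, rfl⟩ : ∃ k, s = k + 2 := ⟨s - 2, by omega⟩
  have h4 : s ^ 2 + 2 * s ≤ m * s := by nlinarith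
  have h6 : Even (s ^ 2 + s) := by rw [sq, ← mul_add_one]; exact Nat.even_mul_succ_self s
  rw [show 2 * m * (s + 2 - 1) - (3 * (s + 2) ^ 2 - 5 * (s + 2)) / 2 - 1 = s + 2 - 1 + (2 * m * (s + 2 - 1) - (3 * (s + 2) ^ 2 - 3 * (s + 2)) / 2) by
    rw [show 2 * m * (s + 2 - 1) = 2 * (m * s) + 2 * m from by rw [Nat.add_sub_assoc one_le_two]; ring, show (s + 2) ^ 2 = s ^ 2 + 4 * s + 4 by ring]
    obtain ⟨k, hk⟩ := h6
    have : s ≤ s ^ 2 := Nat.le_self_pow two_ne_zero s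
    omega]
  ring

end Cfsg.Agent.S2685
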