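import Cfsg.Statements.S2692
import Mathlib
import Cfsg.Agent.Lib.Perm.Aut7

set_option autoImplicit false
open Cfsg

namespace Cfsg.Agent.S2692



/-- Every automorphism of a simple PSU_n(q), n ≥ 3, (n, q) ≠ (3, 2), realised over the field F with q² elements, is a product δ φ of an inner-diagonal automorphism δ (induced by a general unitary matrix) and a standard field automorphism φ (one automorphism of F applied to every entry, possibly the identity; the standard field automorphisms of even order are the graph automorphisms here). -/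
theorem result {F : Type*} [Field F] [Fintype F] {p f q : ℕ} [Fact p.Prime] (hq : q = p ^ f) (hf : 1 ≤ f) (hF : Fintype.card F = q ^ 2) {n : ℕ} (hn : 3 ≤ n) (hs : ¬ (n = 3 ∧ q = 2)) (β : MulAut (Cfsg.PSU n F q)) :
    ∃ (δ φ : MulAut (Cfsg.PSU n F q)) (σ : F ≃+* F), Cfsg.IsInnerDiagonalAutPSU δ ∧ Cfsg.IsFieldAutPSUOf σ φ ∧ β = δ * φ := by
  obtain ⟨s, rfl⟩ := (Perm.Aut.range_SU hF n hn hs).ge (Subgroup.mem_top β)
  obtain ⟨g, hg, h1, h2⟩ := Perm.Aut.exists_GU_of_semi hF (Perm.Aut.repSU hF n (by omega)).cov s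
  have h3 := Perm.Aut.lin_mem_Semi ((Classical.mem_GU_iff hF n).1 h1)
  have h4 : Perm.Aut.fld _ s.1.τ ∈ Perm.Aut.Semi (Classical.uForm hF n) := ⟨_, Perm.Aut.u_fld hF n _⟩
  refine ⟨Perm.Aut.semiAut (Perm.Aut.repSU hF n (by omega)).cov ⟨_, h3⟩,
    Perm.Aut.semiAut (Perm.Aut.repSU hF n (by omega)).cov ⟨_, h4⟩, s.1.τ,
    ⟨g, h1, ((Perm.Aut.repSU hF n (by omega)).ind_lin_iff (Perm.Aut.Semi_le_Nrm_E h3)).2 rfl⟩,
    ((Perm.Aut.repSU hF n (by omega)).ind_fld_iff (Perm.Aut.Semi_le_Nrm_E h4)).2 rfl, ?_⟩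
  rw [h2, ← map_mul]
  congr 1
  exact Subtype.ext (Perm.Aut.gamOf_eq _ _)

end Cfsg.Agent.S2692
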