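import Cfsg.Statements.S2697
import Mathlib
import Cfsg.Agent.Lib.Perm.Aut18

set_option autoImplicit false
open Cfsg

namespace Cfsg.Agent.S2697



/-- Let T = PSL_n(F) be simple over a finite field (n ≥ 2; |F| ≥ 4 when n = 2) and let x be a field automorphism or a graph-field automorphism of T of prime order r. Then an element y of the coset Inndiag(T)·x (that is, y = δ x with δ in the inner-diagonal group, the image of PGL_n(F)) has order r if and only if y is conjugate to x by an element of Inndiag(T). -/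
theorem result {F : Type*} [Field F] [Fintype F] {p f : ℕ} [Fact p.Prime] (hF : Fintype.card F = p ^ f) (hf : 1 ≤ f) {n : ℕ} (hn : 2 ≤ n) (hs : n = 2 → 4 ≤ Fintype.card F) (x δ : MulAut (Matrix.ProjectiveSpecialLinearGroup (Fin n) F)) (hx : Cfsg.IsFieldAutClassPSL x ∨ Cfsg.IsGraphFieldAutClassPSL x) {r : ℕ} (hr : r.Prime) (hxr : orderOf x = r) (hδ : δ ∈ Cfsg.inndiagPSL n F) :
    orderOf (δ * x) = r ↔ Cfsg.IsConjUnder (Cfsg.inndiagPSL n F) x (δ * x) := by
  haveI := Perm.Aut.charP_of_card' F p hF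
  have hn' : 2 ≤ Fintype.card (Fin n) := by simpa using hn
  rw [Perm.Aut.inndiagPSL_eq hn] at hδ ⊢
  haveI := Perm.Aut.normal_gl (Perm.Aut.repSL n hn F).cov p hn'
  refine Perm.Aut.LangP.iff ?_ hδ hxr
  rcases hx with ⟨α, σ, -, h⟩ | ⟨h3, α, φ, γ, σ, h0, h1, h2, h⟩
  · exact (Perm.Aut.langP_SL _ p hn' σ).conj ((Perm.Aut.fld_PSL_iff hn).1 h)
  · rw [(Perm.Aut.fld_PSL_iff hn).1 h1, (Perm.Aut.io_PSL_iff hn).1 h2] at h
    refine (Perm.Aut.langP_gf _ p hn' ?_ h0).conj h
    have h4 := Perm.Aut.order_gam_io (Perm.Aut.repSL n hn F).cov p (by simpa using h3) (Perm.Aut.fld _ σ)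
    rw [← Perm.Aut.order_conj h, hxr] at h4 ⊢
    exact ((Nat.prime_dvd_prime_iff_eq Nat.prime_two hr).1 h4).symm

end Cfsg.Agent.S2697
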