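import Cfsg.Statements.S2704
import Mathlib
import Cfsg.Agent.Lib.Perm.Aut18

set_option autoImplicit false
open Cfsg

namespace Cfsg.Agent.S2704

theorem gf_form {F : Type*} [Field F] [Finite F] {ι : Type} [Fintype ι] [DecidableEq ι] {P : Type*} [Group P]
    (C : Perm.Aut.Cov (Perm.Aut.SLV F (ι → F)) P) (p : ℕ) [Fact p.Prime] [CharP F p] (hn : 3 ≤ Fintype.card ι)
    {α x : MulAut P} {σ : F ≃+* F} (h0 : σ ≠ 1) (h : α * x * α⁻¹ = C.gam (Perm.Aut.fld _ σ) * C.io) :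
    ∃ s, x = C.gam s * C.io ∧ s.τ ≠ 1 := by
  haveI : Finite (F ≃+* F) := Finite.of_injective _ (DFunLike.coe_injective (F := F ≃+* F))
  letI := Fintype.ofFinite F
  haveI := Perm.Aut.isCyclic_autF F
  obtain ⟨ψ, h1, h2⟩ := Perm.Aut.exists_psi3 C p hn
  have h3 : ψ x = (σ, -1) := by
    have := congrArg ψ h
    rw [map_mul, map_mul, map_mul, map_inv, h1, h2] at this
    have hc : ψ α * ψ x = ψ x * ψ α := Prod.ext (IsCyclic.commutative.is_comm.comm _ _) (mul_comm _ _)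
    rw [hc, mul_inv_cancel_right] at this
    rw [this]; simp
  obtain ⟨s, rfl | rfl⟩ := Perm.Aut.exists_gam C p (by omega) x
  · rw [h1] at h3; simpa using congrArg Prod.snd h3
  · refine ⟨s, rfl, ?_⟩
    rw [map_mul, h1, h2] at h3
    have : s.τ = σ := by simpa using congrArg Prod.fst h3
    rwa [this]

/-- Let T = PSL_n(F) over the field F with p^f elements, n ≥ 3, and G = Inndiag(T) the image of PGL_n(F). If x is an involutory graph-field automorphism of T then f is even; x is G-conjugate to every other involutory graph-field automorphism; C_G(x) is isomorphic to the projective general unitary group PGU_n(q₀) with q₀² = p^f, realised over F itself through the Hermitian form Σ uᵢ vᵢ^{q₀}; and the G-class of x is the union of exactly gcd(n, q₀ − 1) T-classes. -/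
theorem result {F : Type*} [Field F] [Fintype F] {p f : ℕ} [Fact p.Prime] (hF : Fintype.card F = p ^ f) (hf : 1 ≤ f) {n : ℕ} (hn : 3 ≤ n) (x : MulAut (Matrix.ProjectiveSpecialLinearGroup (Fin n) F)) (hx : Cfsg.IsGraphFieldAutClassPSL x) (hx2 : orderOf x = 2) :
    Even f ∧ (∀ y : MulAut (Matrix.ProjectiveSpecialLinearGroup (Fin n) F), Cfsg.IsGraphFieldAutClassPSL y → orderOf y = 2 → Cfsg.IsConjUnder (Cfsg.inndiagPSL n F) x y) ∧ Nonempty (↥(Cfsg.inndiagPSL n F ⊓ Subgroup.centralizer {x}) ≃* Cfsg.PGU n F (p ^ (f / 2))) ∧ Cfsg.splitClassCount (Cfsg.inndiagPSL n F) (Cfsg.Inn (Matrix.ProjectiveSpecialLinearGroup (Fin n) F)) x = Nat.gcd n (p ^ (f / 2) - 1) := by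
  haveI := Perm.Aut.charP_of_card' F p hF
  have hn2 : 2 ≤ n := by omega
  have hn' : 2 ≤ Fintype.card (Fin n) := by simpa using hn2
  have hn3 : 3 ≤ Fintype.card (Fin n) := by simpa using hn
  rw [Perm.Aut.inndiagPSL_eq hn2]
  haveI := Perm.Aut.normal_gl (Perm.Aut.repSL n hn2 F).cov p hn'
  have key : ∀ y : MulAut (Matrix.ProjectiveSpecialLinearGroup (Fin n) F), Cfsg.IsGraphFieldAutClassPSL y →
      ∃ α σ, σ ≠ 1 ∧ α * y * α⁻¹ = (Perm.Aut.repSL n hn2 F).cov.gam (Perm.Aut.fld _ σ) *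
        (Perm.Aut.repSL n hn2 F).cov.io := by
    rintro y ⟨-, α, φ, γ, σ, h0, h1, h2, h⟩
    rw [(Perm.Aut.fld_PSL_iff hn2).1 h1, (Perm.Aut.io_PSL_iff hn2).1 h2] at h
    exact ⟨α, σ, h0, h⟩
  obtain ⟨α, σ, h0, h⟩ := key x hx
  have ho : orderOf σ = 2 := by
    refine orderOf_eq_prime ?_ h0
    have := pow_orderOf_eq_one ((Perm.Aut.repSL n hn2 F).cov.gam (Perm.Aut.fld _ σ) *
        (Perm.Aut.repSL n hn2 F).cov.io)
    rw [← Perm.Aut.order_conj h, hx2] at this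
    obtain ⟨t, -, h1, h2⟩ := Perm.Aut.exists_herm _ p hn' this h0
    have h3 := Perm.Aut.tau_sq_of (h2.trans (map_one _).symm)
    rwa [h1] at h3
  obtain ⟨h1, h2, h3⟩ := Perm.Aut.order_two_spec hF ho
  refine ⟨h1, fun y hy hy2 => ?_, Perm.Aut.cent_conj h (Perm.Aut.cent_gf _ p hn2 h2 h3), ?_⟩
  · obtain ⟨β, τ, h4, h5⟩ := key y hy
    obtain ⟨s, rfl, hs⟩ := gf_form _ p hn3 h0 h
    obtain ⟨t, rfl, ht⟩ := gf_form _ p hn3 h4 h5
    exact Perm.Aut.gf_conj _ p hn' (hx2 ▸ pow_orderOf_eq_one _) (hy2 ▸ pow_orderOf_eq_one _) hs ht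
  · rw [Perm.Aut.split_conj (Perm.Aut.Inn_le_gl _) h, Perm.Aut.split_gf _ p hn2 h2 h3]

end Cfsg.Agent.S2704
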