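import Cfsg.Statements.S2705
import Mathlib
import Cfsg.Agent.Lib.Perm.Aut18

set_option autoImplicit false
open Cfsg

namespace Cfsg.Agent.S2705



/-- Let T = PSU_n(q) be simple (n ≥ 3, (n, q) ≠ (3, 2), q = p^f), realised over the field F with q² elements, G = Inndiag(T) the image of PGU_n(q) in Aut(T), and x a field automorphism of T (conjugate to a standard field automorphism of odd order) of odd prime order r. Then r divides f; C_G(x) is isomorphic to PGU_n(q₀) with q₀ = p^(f/r), realised over a field F₀ with q₀² elements; and the G-class of x is the union of exactly gcd(n, (q + 1)/(q₀ + 1)) T-classes. -/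
theorem result {F : Type*} [Field F] [Fintype F] {p f q : ℕ} [Fact p.Prime] (hq : q = p ^ f) (hf : 1 ≤ f) (hF : Fintype.card F = q ^ 2) {n : ℕ} (hn : 3 ≤ n) (hs : ¬ (n = 3 ∧ q = 2)) (x : MulAut (Cfsg.PSU n F q)) (hx : Cfsg.IsFieldAutClassPSU x) {r : ℕ} (hr : r.Prime) (hro : Odd r) (hxr : orderOf x = r) (F₀ : Type*) [Field F₀] [Fintype F₀] (hF₀ : Fintype.card F₀ = p ^ (2 * (f / r))) :
    r ∣ f ∧ Nonempty (↥(Cfsg.inndiagPSU n F q ⊓ Subgroup.centralizer {x}) ≃* Cfsg.PGU n F₀ (p ^ (f / r))) ∧ Cfsg.splitClassCount (Cfsg.inndiagPSU n F q) (Cfsg.Inn (Cfsg.PSU n F q)) x = Nat.gcd n ((q + 1) / (p ^ (f / r) + 1)) := by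
  have hn2 : 2 ≤ n := by omega
  rw [Perm.Aut.inndiagPSU_eq hF hn2]
  haveI := Perm.Aut.normal_U hF (Perm.Aut.repSU hF n hn2).cov hn hs
  obtain ⟨α, φ, σ, -, -, h1, h⟩ := hx
  rw [(Perm.Aut.fld_PSU_iff hF hn2).1 h1] at h
  have ho : orderOf σ = r := by
    rw [← hxr, Perm.Aut.order_conj h,
      (Perm.Aut.fth_unit (Classical.uForm_nondeg hF n) (by simpa using hn) _).order_fld]
  subst ho
  have hF' : Fintype.card F = p ^ (2 * f) := by rw [hF, hq, ← pow_mul, mul_comm]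
  have hd : orderOf σ ∣ f := (Nat.Coprime.dvd_mul_left (Nat.coprime_two_right.2 hro)).1
    (Perm.Aut.card_of_order hF' σ)
  obtain ⟨φ, hφ⟩ := Perm.Aut.exists_desc' hF' σ (F₀ := F₀) (by rw [hF₀, Nat.mul_div_assoc _ hd])
  have hF₀' : Fintype.card F₀ = (p ^ (f / orderOf σ)) ^ 2 := by rw [hF₀, ← pow_mul, mul_comm]
  have hc := Perm.Aut.frobq_compat hF hF₀' (φ := φ) hro (by rw [hq, ← pow_mul, Nat.div_mul_cancel hd])
  refine ⟨hd, Perm.Aut.cent_conj h (Perm.Aut.cent_U hF _ hF₀' hn hφ hc), ?_⟩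
  rw [Perm.Aut.split_conj (Perm.Aut.Inn_le_range _ _ (Classical.Form.E_le _)) h,
    Perm.Aut.split_U hF _ hF₀' hn hφ hc]

end Cfsg.Agent.S2705
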