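import Cfsg.Statements.S2711
import Mathlib
import Cfsg.Agent.Lib.Perm.Aut18

set_option autoImplicit false
open Cfsg

namespace Cfsg.Agent.S2711



/-- Let T = PSU_n(q) be simple (n ≥ 3, (n,q) ≠ (3,2)), realised over the field F with q² elements, and let x be a field automorphism of T (conjugate to a standard field automorphism of odd order) of prime order r. Then an element y of the coset Inndiag(T)·x (y = δ x with δ in the image of PGU_n(q)) has order r if and only if y is conjugate to x by an element of Inndiag(T). (T has no graph-field automorphisms.) -/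
theorem result {F : Type*} [Field F] [Fintype F] {p f q : ℕ} [Fact p.Prime] (hq : q = p ^ f) (hf : 1 ≤ f) (hF : Fintype.card F = q ^ 2) {n : ℕ} (hn : 3 ≤ n) (hs : ¬ (n = 3 ∧ q = 2)) (x δ : MulAut (Cfsg.PSU n F q)) (hx : Cfsg.IsFieldAutClassPSU x) {r : ℕ} (hr : r.Prime) (hxr : orderOf x = r) (hδ : δ ∈ Cfsg.inndiagPSU n F q) :
    orderOf (δ * x) = r ↔ Cfsg.IsConjUnder (Cfsg.inndiagPSU n F q) x (δ * x) := by
  have hn2 : 2 ≤ n := by omega
  rw [Perm.Aut.inndiagPSU_eq hF hn2] at hδ ⊢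
  haveI := Perm.Aut.normal_U hF (Perm.Aut.repSU hF n hn2).cov hn hs
  obtain ⟨α, φ, σ, -, hro, h1, h⟩ := hx
  rw [(Perm.Aut.fld_PSU_iff hF hn2).1 h1] at h
  have hF' : Fintype.card F = p ^ (2 * f) := by rw [hF, hq, ← pow_mul, mul_comm]
  have hd : orderOf σ ∣ f := (Nat.Coprime.dvd_mul_left (Nat.coprime_two_right.2 hro)).1
    (Perm.Aut.card_of_order hF' σ)
  have h0 : 2 * (f / orderOf σ) ≠ 0 := by
    have := Nat.div_pos (Nat.le_of_dvd hf hd) hro.pos
    omega
  letI := Fintype.ofFinite (GaloisField p (2 * (f / orderOf σ)))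
  have hF₀ : Fintype.card (GaloisField p (2 * (f / orderOf σ))) = p ^ (2 * (f / orderOf σ)) := by
    rw [← Nat.card_eq_fintype_card, GaloisField.card p _ h0]
  obtain ⟨φ, hφ⟩ := Perm.Aut.exists_desc' hF' σ (F₀ := GaloisField p (2 * (f / orderOf σ)))
    (by rw [hF₀, Nat.mul_div_assoc _ hd])
  have hF₀' := hF₀.trans (show _ = (p ^ (f / orderOf σ)) ^ 2 by rw [← pow_mul, mul_comm])
  have hc := Perm.Aut.frobq_compat hF hF₀' (φ := φ) hro (by rw [hq, ← pow_mul, Nat.div_mul_cancel hd])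
  exact ((Perm.Aut.langP_U hF _ hF₀' hn hφ hc).conj h).iff hδ hxr

end Cfsg.Agent.S2711
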