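import Cfsg.Statements.S2714
import Mathlib
import Cfsg.Agent.Lib.Perm.Aut18

set_option autoImplicit false
open Cfsg

namespace Cfsg.Agent.S2714



/-- Let T = Ω_{2m+1}(F) (m ≥ 3, |F| = p^f odd; realised as PΩ of the form x₀² + Σ xᵢ yᵢ), G = Inndiag(T) the image of the conformal orthogonal group in Aut(T), and x a field automorphism of T of prime order r. Then r divides f; C_G(x) is isomorphic to Inndiag(Ω_{2m+1}(F₀)) for a field F₀ with p^(f/r) elements; and the G-class of x is a single T-class when r is odd and the union of exactly two T-classes when r = 2. -/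
theorem result {F : Type*} [Field F] [Fintype F] {p f : ℕ} [Fact p.Prime] (hF : Fintype.card F = p ^ f) (hf : 1 ≤ f) (hodd : Odd (Fintype.card F)) {m : ℕ} (hm : 3 ≤ m) (x : MulAut (Cfsg.POmega F (Cfsg.quadFormOdd m F))) (hx : Cfsg.IsFieldAutClassPOmega (Cfsg.quadFormOdd m F) x) {r : ℕ} (hr : r.Prime) (hxr : orderOf x = r) (F₀ : Type*) [Field F₀] [Fintype F₀] (hF₀ : Fintype.card F₀ = p ^ (f / r)) :
    r ∣ f ∧ Nonempty (↥(Cfsg.inndiagPOmegaOdd m F ⊓ Subgroup.centralizer {x}) ≃* ↥(Cfsg.inndiagPOmegaOdd m F₀)) ∧ (Odd r → Cfsg.splitClassCount (Cfsg.inndiagPOmegaOdd m F) (Cfsg.Inn (Cfsg.POmega F (Cfsg.quadFormOdd m F))) x = 1) ∧ (r = 2 → Cfsg.splitClassCount (Cfsg.inndiagPOmegaOdd m F) (Cfsg.Inn (Cfsg.POmega F (Cfsg.quadFormOdd m F))) x = 2) := by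
  have h2 := Classical.two_ne_zero_of_odd hodd
  have hn : 3 ≤ Module.finrank F (Unit ⊕ (Fin m ⊕ Fin m) → F) := by rw [Perm.Aut.finrank_odd]; omega
  have hΦ := Classical.oddForm_nondeg m h2
  obtain ⟨C, e1, e2, e3⟩ := Perm.Aut.odd_pack h2 (by omega : 2 ≤ m)
  haveI := Perm.Aut.normal_Sim _ e2
  obtain ⟨α, φ, σ, -, h1, h⟩ := hx
  have hs : Perm.Aut.fld _ σ ∈ Perm.Aut.Semi (Classical.oddForm m F) := ⟨_, Perm.Aut.odd_fld m σ⟩
  rw [(e3 _ _).1 h1] at h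
  have ho : orderOf σ = r := by
    rw [← hxr, Perm.Aut.order_conj h, (Perm.Aut.fth_orth hΦ hn C).order_fld]
  subst ho
  obtain ⟨φ, hφ⟩ := Perm.Aut.exists_desc' hF σ hF₀
  have hm' := Perm.Aut.fm_fld hφ (Perm.Aut.bc_odd (φ := φ) m)
  have hn₀ : 3 ≤ Module.finrank F₀ (Unit ⊕ (Fin m ⊕ Fin m) → F₀) := by rw [Perm.Aut.finrank_odd]; omega
  obtain ⟨C₀, e4, -⟩ := Perm.Aut.odd_pack ((Perm.Aut.two_ne_of_hom φ).2 h2) (by omega : 2 ≤ m)
  rw [e1, e4, Perm.Aut.split_conj (Perm.Aut.Inn_le_range _ _ Perm.Aut.E_le_Sim) h,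
    Perm.Aut.split_odd _ hm' hΦ (by rw [Perm.Aut.finrank_odd]; exact ⟨m, rfl⟩) hn
      (by rw [Perm.Aut.finrank_odd, Perm.Aut.finrank_odd]) hs (Perm.Aut.fld_pow σ) hφ]
  refine ⟨Perm.Aut.card_of_order hF σ, Perm.Aut.cent_conj h (Perm.Aut.cent_Sim _ hm' hΦ hn hn₀ hs
    (Perm.Aut.fld_pow σ) hφ _), fun h => if_pos h, fun h => if_neg ?_⟩
  change ¬ Odd (orderOf σ)
  rw [h]; decide

end Cfsg.Agent.S2714
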