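import Cfsg.Statements.S2715
import Mathlib
import Cfsg.Agent.Lib.Perm.Aut21

set_option autoImplicit false
open Cfsg

namespace Cfsg.Agent.S2715



/-- Let T = PΩ⁺_{2m}(F) (m ≥ 4, |F| = p^f; the form Σ xᵢ yᵢ), G = Inndiag(T) the image of the class-preserving similarities in Aut(T), and x a field automorphism of T of prime order r. Then r divides f; C_G(x) is isomorphic to Inndiag(PΩ⁺_{2m}(F₀)) for a field F₀ with p^(f/r) elements; and the G-class of x is the union of exactly c T-classes, where c = 1 if r is odd or p = 2, and otherwise (r = 2, p odd) c = 2 when m is odd and p^(f/2) ≡ 1 (mod 4), and c = 4 in the remaining cases. -/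
theorem result {F : Type*} [Field F] [Fintype F] {p f : ℕ} [Fact p.Prime] (hF : Fintype.card F = p ^ f) (hf : 1 ≤ f) {m : ℕ} (hm : 4 ≤ m) (x : MulAut (Cfsg.POmega F (Cfsg.quadFormPlus m F))) (hx : Cfsg.IsFieldAutClassPOmega (Cfsg.quadFormPlus m F) x) {r : ℕ} (hr : r.Prime) (hxr : orderOf x = r) (F₀ : Type*) [Field F₀] [Fintype F₀] (hF₀ : Fintype.card F₀ = p ^ (f / r)) :
    r ∣ f ∧ Nonempty (↥(Cfsg.inndiagPOmegaPlus m F ⊓ Subgroup.centralizer {x}) ≃* ↥(Cfsg.inndiagPOmegaPlus m F₀)) ∧ ((Odd r ∨ p = 2) → Cfsg.splitClassCount (Cfsg.inndiagPOmegaPlus m F) (Cfsg.Inn (Cfsg.POmega F (Cfsg.quadFormPlus m F))) x = 1) ∧ ((r = 2 ∧ p ≠ 2 ∧ Odd m ∧ p ^ (f / 2) % 4 = 1) → Cfsg.splitClassCount (Cfsg.inndiagPOmegaPlus m F) (Cfsg.Inn (Cfsg.POmega F (Cfsg.quadFormPlus m F))) x = 2) ∧ ((r = 2 ∧ p ≠ 2 ∧ ¬ (Odd m ∧ p ^ (f / 2) % 4 = 1)) → Cfsg.splitClassCount (Cfsg.inndiagPOmegaPlus m F) (Cfsg.Inn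 (Cfsg.POmega F (Cfsg.quadFormPlus m F))) x = 4) := by
  have h3 : 3 ≤ m := by omega
  have H := Perm.Aut.ev_plus (F := F) m h3
  haveI : ((Perm.Aut.covP m h3 F).linAut H.le_NrmL).range.Normal := by
    by_cases h4 : m = 4
    · subst h4; exact Perm.Aut.normal8 _
    · exact Perm.Aut.normal_Sim0 _ H (Perm.Aut.covP_range h3 (by omega))
  obtain ⟨α, φ, σ, -, h1, h⟩ := hx
  rw [(Perm.Aut.covP_fld h3).1 h1] at h
  have ho : orderOf σ = r := by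
    rw [← hxr, Perm.Aut.order_conj h, (Perm.Aut.fth_orth H.nd H.three _).order_fld]
  subst ho
  obtain ⟨φ, hφ⟩ := Perm.Aut.exists_desc' hF σ hF₀
  have hM := Perm.Aut.fm_fld hφ (Perm.Aut.bc_plus (φ := φ) m)
  have H₀ := Perm.Aut.ev_plus (F := F₀) m h3
  have h2 := Perm.Aut.two_eq_zero_iff hF
  rw [Perm.Aut.covP_inn h3, Perm.Aut.covP_inn h3, Perm.Aut.split_conj (Perm.Aut.Inn_le_range _ _ H.E_le) h]
  refine ⟨Perm.Aut.card_of_order hF σ, Perm.Aut.cent_conj h (Perm.Aut.cent_Sim0 _ hM H₀ H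
    (Perm.Aut.plus_fld_mem m σ) (Perm.Aut.fld_pow σ) hφ _), fun h => Perm.Aut.split_odd0 _ hM H₀ H
    (Perm.Aut.plus_fld_mem m σ) (Perm.Aut.fld_pow σ) hφ (h.imp id h2.2), fun ⟨a, b, c⟩ => ?_, fun ⟨a, b, c⟩ => ?_⟩
  · rw [Perm.Aut.split_plus H _ h3 hφ a (mt h2.1 b) (Perm.Aut.plus_fld_mem m σ), if_pos (by rwa [Nat.card_eq_fintype_card, hF₀, a])]
  · rw [Perm.Aut.split_plus H _ h3 hφ a (mt h2.1 b) (Perm.Aut.plus_fld_mem m σ), if_neg (by rwa [Nat.card_eq_fintype_card, hF₀, a])]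

end Cfsg.Agent.S2715
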