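import Cfsg.Statements.S2716
import Mathlib
import Cfsg.Agent.Lib.Perm.Aut19

set_option autoImplicit false
open Cfsg

namespace Cfsg.Agent.S2716



/-- Let T = PΩ⁻_{2m+2}(F) (m ≥ 3, |F| = p^f; the form Σ xᵢ yᵢ + z₁² + a z₁ z₂ + b z₂² with anisotropic binary part), G = Inndiag(T), and x a field automorphism of T of prime order r. Then r is odd and divides f; C_G(x) is isomorphic to Inndiag(PΩ⁻_{2m+2}(F₀)) for a field F₀ with p^(f/r) elements and some anisotropic binary part over F₀; and the G-class of x is a single T-class. -/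
theorem result {F : Type*} [Field F] [Fintype F] {p f : ℕ} [Fact p.Prime] (hF : Fintype.card F = p ^ f) (hf : 1 ≤ f) {m : ℕ} (hm : 3 ≤ m) (a b : F) (hab : (∀ z₁ z₂ : F, z₁ ^ 2 + a * z₁ * z₂ + b * z₂ ^ 2 = 0 → z₁ = 0 ∧ z₂ = 0)) (x : MulAut (Cfsg.POmega F (Cfsg.quadFormMinus m F a b))) (hx : Cfsg.IsFieldAutClassPOmegaMinus m x) {r : ℕ} (hr : r.Prime) (hxr : orderOf x = r) (F₀ : Type*) [Field F₀] [Fintype F₀] (hF₀ : Fintype.card F₀ = p ^ (f / r)) :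
    Odd r ∧ r ∣ f ∧ (∃ a₀ b₀ : F₀, (∀ z₁ z₂ : F₀, z₁ ^ 2 + a₀ * z₁ * z₂ + b₀ * z₂ ^ 2 = 0 → z₁ = 0 ∧ z₂ = 0) ∧ Nonempty (↥(Cfsg.inndiagPOmegaMinus m F a b ⊓ Subgroup.centralizer {x}) ≃* ↥(Cfsg.inndiagPOmegaMinus m F₀ a₀ b₀))) ∧ Cfsg.splitClassCount (Cfsg.inndiagPOmegaMinus m F a b) (Cfsg.Inn (Cfsg.POmega F (Cfsg.quadFormMinus m F a b))) x = 1 := by
  have h2 : 2 ≤ m := by omega
  rw [Perm.Aut.covM_inn h2 hab]
  obtain ⟨a', b', ψ, σ, hab', -, ha, hb, h⟩ := hx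
  have h : MulAut.congr ψ x = _ := (Perm.Aut.covM_fld h2 hab' ha hb).1 h
  have H := Perm.Aut.ev_minus m h2 hab'
  have ho : orderOf σ = r := by
    rw [← hxr, ← (MulAut.congr ψ).orderOf_eq, h, (Perm.Aut.fth_orth H.nd H.three _).order_fld]
  subst ho
  have hodd := hr.odd_of_ne_two (Perm.Aut.An.odd hab' ha hb)
  obtain ⟨φ, hφ⟩ := Perm.Aut.exists_desc' hF σ hF₀
  obtain ⟨a₀, rfl⟩ := (hφ a').1 ha
  obtain ⟨b₀, rfl⟩ := (hφ b').1 hb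
  have h₀ := Perm.Aut.An.of_map hab'
  have hM := Perm.Aut.fm_fld hφ (Perm.Aut.bc_minus (φ := φ) m a₀ b₀)
  refine ⟨hodd, Perm.Aut.card_of_order hF σ, ⟨a₀, b₀, h₀, ?_⟩, ?_⟩
  · refine Perm.Aut.cent_congr (MulAut.congr ψ) (Perm.Aut.congr_minus h2 hab hab' ψ) x ?_
    rw [h, Perm.Aut.covM_inn h2 h₀]
    exact Perm.Aut.cent_Sim0 _ hM _ H ⟨_, Perm.Aut.minus_fld m σ ha hb⟩ (Perm.Aut.fld_pow σ) hφ _
  · rw [Perm.Aut.split_congr (MulAut.congr ψ) (Perm.Aut.Inn_le_range _ _ (Perm.Aut.ev_minus m h2 hab).E_le)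
      (Perm.Aut.congr_minus h2 hab hab' ψ) (Perm.Aut.congr_mem_Inn ψ), h]
    exact Perm.Aut.split_odd0 _ hM (Perm.Aut.ev_minus m h2 h₀) H ⟨_, Perm.Aut.minus_fld m σ ha hb⟩
      (Perm.Aut.fld_pow σ) hφ (Or.inl hodd)

end Cfsg.Agent.S2716
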