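import Cfsg.Statements.S2717
import Mathlib
import Cfsg.Agent.Lib.Perm.Aut19

set_option autoImplicit false
open Cfsg

namespace Cfsg.Agent.S2717



/-- Let T = PΩ⁺_{2m}(F) with m ≥ 5 (dimension 2m ≠ 8) and |F| = p^f, G = Inndiag(T), and x an involutory graph-field automorphism of T. Then f is even; any two involutory graph-field automorphisms of T are G-conjugate; C_G(x) is isomorphic to Inndiag(PΩ⁻_{2m}(F₀)) for a field F₀ with p^(f/2) elements (some anisotropic binary part over F₀); and the G-class of x is the union of exactly c T-classes with c = 1 if p = 2, c = 4 if p is odd, m is odd and p^(f/2) ≡ 1 (mod 4), and c = 2 otherwise. -/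
theorem result {F : Type*} [Field F] [Fintype F] {p f : ℕ} [Fact p.Prime] (hF : Fintype.card F = p ^ f) (hf : 1 ≤ f) {m : ℕ} (hm : 5 ≤ m) (x : MulAut (Cfsg.POmega F (Cfsg.quadFormPlus m F))) (hx : Cfsg.IsGraphFieldAutClassPOmegaPlus m x) (hx2 : orderOf x = 2) (F₀ : Type*) [Field F₀] [Fintype F₀] (hF₀ : Fintype.card F₀ = p ^ (f / 2)) :
    Even f ∧ (∀ y : MulAut (Cfsg.POmega F (Cfsg.quadFormPlus m F)), Cfsg.IsGraphFieldAutClassPOmegaPlus m y → orderOf y = 2 → Cfsg.IsConjUnder (Cfsg.inndiagPOmegaPlus m F) x y) ∧ (∃ a₀ b₀ : F₀, (∀ z₁ z₂ : F₀, z₁ ^ 2 + a₀ * z₁ * z₂ + b₀ * z₂ ^ 2 = 0 → z₁ = 0 ∧ z₂ = 0) ∧ Nonempty (↥(Cfsg.inndiagPOmegaPlus m F ⊓ Subgroup.centralizer {x}) ≃* ↥(Cfsg.inndiagPOmegaMinus (m - 1) F₀ a₀ b₀))) ∧ (p = 2 → Cfsg.splitClassCount (Cfsg.inndiagPOmegaPlus m F) (Cfsg.Inn (Cfsg.POmega F (Cfsg.quadFormPlus m F))) x = 1) ∧ ((p ≠ 2 ∧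 Odd m ∧ p ^ (f / 2) % 4 = 1) → Cfsg.splitClassCount (Cfsg.inndiagPOmegaPlus m F) (Cfsg.Inn (Cfsg.POmega F (Cfsg.quadFormPlus m F))) x = 4) ∧ ((p ≠ 2 ∧ ¬ (Odd m ∧ p ^ (f / 2) % 4 = 1)) → Cfsg.splitClassCount (Cfsg.inndiagPOmegaPlus m F) (Cfsg.Inn (Cfsg.POmega F (Cfsg.quadFormPlus m F))) x = 2) := by
  have h3 : 3 ≤ m := by omega
  have H := Perm.Aut.ev_plus (F := F) m h3
  haveI : Finite (F ≃+* F) := Finite.of_injective _ (DFunLike.coe_injective (F := F ≃+* F))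
  haveI := Perm.Aut.isCyclic_autF F
  rw [Perm.Aut.covP_inn h3]
  haveI := Perm.Aut.normal_Sim0 _ H (Perm.Aut.covP_range h3 hm)
  obtain ⟨σ, g, h1, h2, h4, rfl⟩ := Perm.Aut.gf_class h3 hm hx (hx2 ▸ Nat.prime_two)
  rw [hx2] at h4
  obtain ⟨φ, hφ⟩ := Perm.Aut.exists_desc' hF σ (F₀ := F₀) (h4 ▸ hF₀)
  have hs := Perm.Aut.plus_fld_mem m σ
  have hT := (Perm.Aut.ty_fld (m := m) hφ).opp H h3 hφ hs h1 h2
  have key : ∀ t (ht : t ∈ Perm.Aut.Semi (Classical.plusForm m F)), t.τ = σ → Perm.Aut.Ty φ _ t m (-1) →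
      Cfsg.IsConjUnder ((Perm.Aut.covP m h3 F).linAut H.le_NrmL).range
        ((Perm.Aut.covP m h3 F).aut ⟨_, Perm.Aut.Semi_le_Nrm_E (mul_mem g.2 hs)⟩)
        ((Perm.Aut.covP m h3 F).aut ⟨t, Perm.Aut.Semi_le_Nrm_E ht⟩) := fun t ht e h => by
    obtain ⟨k, hk, e⟩ := hT.conj h H h3 e
    refine ⟨_, ⟨⟨k, hk⟩, rfl⟩, ?_⟩
    rw [Perm.Aut.Cov.linAut_apply, ← map_inv, ← map_mul, ← map_mul]
    congr 1
    exact Subtype.ext e
  obtain ⟨a₀, b₀, h₀⟩ := Perm.Aut.exists_an (F := F₀)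
  obtain ⟨n, rfl⟩ := Nat.exists_eq_add_of_le' (show 1 ≤ m by omega)
  obtain ⟨M, l, hM⟩ := hT.model H.nd (Classical.minusForm_nondeg n h₀) (Classical.minusForm_isType n h₀)
  have H₀ := Perm.Aut.ev_minus n (by omega) h₀
  have hc : Nat.card F₀ = p ^ (f / 2) := by rw [Nat.card_eq_fintype_card, hF₀]
  have hsp : p ≠ 2 → Cfsg.splitClassCount ((Perm.Aut.covP _ h3 F).linAut H.le_NrmL).range (Cfsg.Inn _)
      ((Perm.Aut.covP _ h3 F).aut ⟨_, Perm.Aut.Semi_le_Nrm_E (mul_mem g.2 hs)⟩) =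
      if Odd (n + 1) ∧ Nat.card F₀ % 4 = 1 then 4 else 2 := fun hp => by
    obtain ⟨t, ht, e1, e2, e3⟩ := Perm.Aut.exists_gf H (Perm.Aut.covP _ h3 F) h3 hφ h4
      (mt (Perm.Aut.two_eq_zero_iff hF).1 hp)
    obtain ⟨k, -, e4⟩ := key t ht e1 e2
    exact (Perm.Aut.split_conj (Perm.Aut.Inn_le_range _ _ H.E_le) e4.symm).trans e3
  refine ⟨(Perm.Aut.order_two_spec hF h4).1, fun y hy hy2 => ?_, ⟨a₀, b₀, h₀, ?_⟩, fun hp => ?_, fun hp => ?_,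
    fun hp => ?_⟩
  · obtain ⟨τ, k, e1, e2, e3, rfl⟩ := Perm.Aut.gf_class h3 hm hy (hy2 ▸ Nat.prime_two)
    rw [hy2] at e3
    obtain rfl : τ = σ := Perm.Aut.eq_of_sq_eq_one (e3 ▸ pow_orderOf_eq_one _) (h4 ▸ pow_orderOf_eq_one _)
      (by rintro rfl; simp at e3) (by rintro rfl; simp at h4)
    exact key _ (mul_mem k.2 hs) rfl ((Perm.Aut.ty_fld hφ).opp H h3 hφ hs e1 e2)
  · rw [Nat.add_sub_cancel, Perm.Aut.covM_inn (by omega) h₀]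
    exact Perm.Aut.cent_Sim0 _ hM H₀ H (mul_mem g.2 hs) h2 hφ _
  · exact Perm.Aut.split_odd0 _ hM H₀ H (mul_mem g.2 hs) h2 hφ (Or.inr ((Perm.Aut.two_eq_zero_iff hF).2 hp))
  · rw [hsp hp.1, if_pos (hc ▸ hp.2)]
  · rw [hsp hp.1, if_neg (hc ▸ hp.2)]

end Cfsg.Agent.S2717
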