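import Cfsg.Statements.S2722
import Mathlib
import Cfsg.Agent.Lib.Perm.Aut14

set_option autoImplicit false
open Cfsg

namespace Cfsg.Agent.S2722



/-- Let T = PΩ⁺_{2m}(F) with m ≥ 4 and |F| = q odd. Inside Aut(T), the image G̃ of the conformal orthogonal group of the form modulo the image of the special orthogonal group is elementary abelian of order 4. -/
theorem result {F : Type*} [Field F] [Fintype F] (hodd : Odd (Fintype.card F)) {m : ℕ} (hm : 4 ≤ m) :
    (∃ φ : ↥(Cfsg.pgoAut F (Cfsg.quadFormPlus m F)) →* Multiplicative (ZMod 2 × ZMod 2), Function.Surjective φ ∧ φ.ker = (Cfsg.psoAut F (Cfsg.quadFormPlus m F)).subgroupOf (Cfsg.pgoAut F (Cfsg.quadFormPlus m F))) := by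
  have h2 := Classical.two_ne_zero_of_odd hodd
  have hn : 5 ≤ Module.finrank F (Fin m ⊕ Fin m → F) := by rw [Perm.Aut.finrank_sum]; omega
  have H := Perm.Aut.ev_plus (F := F) m (by omega)
  have hs := H.sp_neg h2 (η := 1) (Classical.plusForm_isType m)
  simp only [one_mul, show (Fintype.card F % 4 = 3 ∧ Odd m) ↔ (Odd m ∧ Fintype.card F % 4 = 3) from and_comm] at hs
  have e1 := Perm.Aut.pgoAut_eq (Classical.plusForm m F) H.nd hn
  have e2 := Perm.Aut.psoAut_eq (Classical.plusForm m F) H.nd hn
  have h := H.pgo_pso (Perm.Aut.repO (Classical.plusForm m F) H.nd hn).cov h2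
  exact Perm.Aut.hom_congr e1 e2 h

end Cfsg.Agent.S2722
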