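import Cfsg.Statements.S2723
import Mathlib
import Cfsg.Agent.Lib.Perm.Aut14

set_option autoImplicit false
open Cfsg

namespace Cfsg.Agent.S2723



/-- Let T = PΩ⁺_{2m}(F) with m ≥ 4 and |F| = q odd. The image of the special orthogonal group in Aut(T) contains the inner automorphism group T with index 1 (they coincide) when m is odd and q ≡ 3 (mod 4), and with index 2 otherwise (the index is 2 exactly when the discriminant of the form is a square). -/
theorem result {F : Type*} [Field F] [Fintype F] (hodd : Odd (Fintype.card F)) {m : ℕ} (hm : 4 ≤ m) :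
    ((Odd m ∧ Fintype.card F % 4 = 3) → (Cfsg.Inn (Cfsg.POmega F (Cfsg.quadFormPlus m F))).relIndex (Cfsg.psoAut F (Cfsg.quadFormPlus m F)) = 1) ∧ (¬ (Odd m ∧ Fintype.card F % 4 = 3) → (Cfsg.Inn (Cfsg.POmega F (Cfsg.quadFormPlus m F))).relIndex (Cfsg.psoAut F (Cfsg.quadFormPlus m F)) = 2) := by
  have h2 := Classical.two_ne_zero_of_odd hodd
  have hn : 5 ≤ Module.finrank F (Fin m ⊕ Fin m → F) := by rw [Perm.Aut.finrank_sum]; omega
  have H := Perm.Aut.ev_plus (F := F) m (by omega)
  have hs := H.sp_neg h2 (η := 1) (Classical.plusForm_isType m)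
  simp only [one_mul, show (Fintype.card F % 4 = 3 ∧ Odd m) ↔ (Odd m ∧ Fintype.card F % 4 = 3) from and_comm] at hs
  have e2 := Perm.Aut.psoAut_eq (Classical.plusForm m F) H.nd hn
  have h := H.pso_index (Perm.Aut.repO (Classical.plusForm m F) H.nd hn).cov h2
  rw [← e2, hs] at h
  exact ⟨fun h1 => by rw [if_pos h1] at h; exact h, fun h1 => by rw [if_neg h1] at h; exact h⟩

end Cfsg.Agent.S2723
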