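import Cfsg.Statements.S2724
import Mathlib
import Cfsg.Agent.Lib.Perm.Aut14

set_option autoImplicit false
open Cfsg

namespace Cfsg.Agent.S2724



/-- Let T = PΩ⁺_{2m}(F) with m ≥ 4 and |F| = q odd. The image G̃ of the conformal orthogonal group in Aut(T), taken modulo the inner automorphism group T, is elementary abelian of order 4 when m is odd and q ≡ 3 (mod 4), and dihedral of order 8 otherwise. -/
theorem result {F : Type*} [Field F] [Fintype F] (hodd : Odd (Fintype.card F)) {m : ℕ} (hm : 4 ≤ m) :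
    ((Odd m ∧ Fintype.card F % 4 = 3) → (∃ φ : ↥(Cfsg.pgoAut F (Cfsg.quadFormPlus m F)) →* Multiplicative (ZMod 2 × ZMod 2), Function.Surjective φ ∧ φ.ker = (Cfsg.Inn (Cfsg.POmega F (Cfsg.quadFormPlus m F))).subgroupOf (Cfsg.pgoAut F (Cfsg.quadFormPlus m F)))) ∧ (¬ (Odd m ∧ Fintype.card F % 4 = 3) → (∃ φ : ↥(Cfsg.pgoAut F (Cfsg.quadFormPlus m F)) →* DihedralGroup 4, Function.Surjective φ ∧ φ.ker = (Cfsg.Inn (Cfsg.POmega F (Cfsg.quadFormPlus m F))).subgroupOf (Cfsg.pgoAut F (Cfsg.quadFormPlus m F)))) := by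
  have h2 := Classical.two_ne_zero_of_odd hodd
  have hn : 5 ≤ Module.finrank F (Fin m ⊕ Fin m → F) := by rw [Perm.Aut.finrank_sum]; omega
  have H := Perm.Aut.ev_plus (F := F) m (by omega)
  have hs := H.sp_neg h2 (η := 1) (Classical.plusForm_isType m)
  simp only [one_mul, show (Fintype.card F % 4 = 3 ∧ Odd m) ↔ (Odd m ∧ Fintype.card F % 4 = 3) from and_comm] at hs
  have e1 := Perm.Aut.pgoAut_eq (Classical.plusForm m F) H.nd hn
  constructor
  · intro h1
    have h := H.pgo_A (Perm.Aut.repO (Classical.plusForm m F) H.nd hn).cov h2 (by rw [hs, if_pos h1]; try rfl)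
    exact Perm.Aut.hom_congr e1 rfl h
  · intro h1
    have h := H.pgo_B (Perm.Aut.repO (Classical.plusForm m F) H.nd hn).cov h2 (by rw [hs, if_neg h1]; try rfl)
    exact Perm.Aut.hom_congr e1 rfl h

end Cfsg.Agent.S2724
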