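import Cfsg.Statements.S2726
import Mathlib
import Cfsg.Agent.Lib.Perm.Aut14

set_option autoImplicit false
open Cfsg

namespace Cfsg.Agent.S2726



/-- Let T = PΩ⁻_{2m+2}(F) with m ≥ 3 and |F| = q odd (form with anisotropic binary part). Inside Aut(T), the image G̃ of the conformal orthogonal group of the form modulo the image of the special orthogonal group is elementary abelian of order 4. -/
theorem result {F : Type*} [Field F] [Fintype F] (hodd : Odd (Fintype.card F)) {m : ℕ} (hm : 3 ≤ m) (a b : F) (hab : (∀ z₁ z₂ : F, z₁ ^ 2 + a * z₁ * z₂ + b * z₂ ^ 2 = 0 → z₁ = 0 ∧ z₂ = 0)) :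
    (∃ φ : ↥(Cfsg.pgoAut F (Cfsg.quadFormMinus m F a b)) →* Multiplicative (ZMod 2 × ZMod 2), Function.Surjective φ ∧ φ.ker = (Cfsg.psoAut F (Cfsg.quadFormMinus m F a b)).subgroupOf (Cfsg.pgoAut F (Cfsg.quadFormMinus m F a b))) := by
  have h2 := Classical.two_ne_zero_of_odd hodd
  have hn : 5 ≤ Module.finrank F ((Fin m ⊕ Fin m) ⊕ Fin 2 → F) := by rw [Perm.Aut.finrank_minus]; omega
  have H := Perm.Aut.ev_minus m (by omega) hab
  have hs := H.sp_neg h2 (η := -1) (Classical.minusForm_isType m hab)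
  simp only [show (Fintype.card F % 4 = 3 ∧ Odd (m + 1)) ↔ (Even m ∧ Fintype.card F % 4 = 3) by
    rw [and_comm, Nat.odd_add_one, Nat.not_odd_iff_even]] at hs
  have e1 := Perm.Aut.pgoAut_eq (Classical.minusForm m F a b) H.nd hn
  have e2 := Perm.Aut.psoAut_eq (Classical.minusForm m F a b) H.nd hn
  have h := H.pgo_pso (Perm.Aut.repO (Classical.minusForm m F a b) H.nd hn).cov h2
  exact Perm.Aut.hom_congr e1 e2 h

end Cfsg.Agent.S2726
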