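import Cfsg.Statements.S2729
import Mathlib
import Cfsg.Agent.Lib.Perm.Aut14

set_option autoImplicit false
open Cfsg

namespace Cfsg.Agent.S2729



/-- Let T = PΩ⁻_{2m+2}(F) with m ≥ 3 and |F| = q odd (form with anisotropic binary part). The inner-diagonal group G = Inndiag(T) (image of the class-preserving similarities) taken modulo the inner automorphism group T is cyclic of order 4 when m is even and q ≡ 3 (mod 4), and of order 2 otherwise. -/
theorem result {F : Type*} [Field F] [Fintype F] (hodd : Odd (Fintype.card F)) {m : ℕ} (hm : 3 ≤ m) (a b : F) (hab : (∀ z₁ z₂ : F, z₁ ^ 2 + a * z₁ * z₂ + b * z₂ ^ 2 = 0 → z₁ = 0 ∧ z₂ = 0)) :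
    ((Even m ∧ Fintype.card F % 4 = 3) → (∃ φ : ↥(Cfsg.inndiagPOmegaMinus m F a b) →* Multiplicative (ZMod 4), Function.Surjective φ ∧ φ.ker = (Cfsg.Inn (Cfsg.POmega F (Cfsg.quadFormMinus m F a b))).subgroupOf (Cfsg.inndiagPOmegaMinus m F a b))) ∧ (¬ (Even m ∧ Fintype.card F % 4 = 3) → (∃ φ : ↥(Cfsg.inndiagPOmegaMinus m F a b) →* Multiplicative (ZMod 2), Function.Surjective φ ∧ φ.ker = (Cfsg.Inn (Cfsg.POmega F (Cfsg.quadFormMinus m F a b))).subgroupOf (Cfsg.inndiagPOmegaMinus m F a b))) := by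
  have h2 := Classical.two_ne_zero_of_odd hodd
  have hn : 5 ≤ Module.finrank F ((Fin m ⊕ Fin m) ⊕ Fin 2 → F) := by rw [Perm.Aut.finrank_minus]; omega
  have H := Perm.Aut.ev_minus m (by omega) hab
  have hs := H.sp_neg h2 (η := -1) (Classical.minusForm_isType m hab)
  simp only [show (Fintype.card F % 4 = 3 ∧ Odd (m + 1)) ↔ (Even m ∧ Fintype.card F % 4 = 3) by
    rw [and_comm, Nat.odd_add_one, Nat.not_odd_iff_even]] at hs
  have e1 := Perm.Aut.inndiagMinus_eq hab H (by omega) hn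
  refine ⟨fun h1 => ?_, fun h1 => ?_⟩
  · have h := H.inn_B4 (Perm.Aut.repO (Classical.minusForm m F a b) H.nd hn).cov h2 (by rw [hs, if_pos h1]; rfl) h1.1.add_one
    exact Perm.Aut.hom_congr e1 rfl h
  · have h := H.inn_A (Perm.Aut.repO (Classical.minusForm m F a b) H.nd hn).cov h2 (by rw [hs, if_neg h1]; rfl)
    exact Perm.Aut.hom_congr e1 rfl h

end Cfsg.Agent.S2729
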