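import Cfsg.Statements.S2734
import Cfsg.Agent.Lib.Chev.Fold2

set_option autoImplicit false
open Cfsg

namespace Cfsg.Agent.S2734

open Chev Cfsg.Lie Checked

/-- In the Chevalley group of type D₄ over a finite field F (the matrix group generated by the root elements), a graph automorphism attached to a symmetry π of the Dynkin diagram (sending each fundamental root element x_p(t) to x_{π(p)}(t) and each x_{−p}(t) to x_{−π(p)}(t)) that has order 3 — a standard triality graph automorphism, π being a 3-cycle of the three outer nodes — has fixed-point subgroup isomorphic to the Chevalley group of type G₂ over F. -/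
theorem result {F : Type*} [Field F] [Fintype F] (τ : MulAut ↥(Cfsg.Lie.chevD4.group F)) (hτ : Cfsg.Lie.chevD4.IsGraphAut τ) (hτ3 : orderOf τ = 3) :
    Nonempty (↥(MonoidHom.eqLocus τ.toMonoidHom (MonoidHom.id ↥(Cfsg.Lie.chevD4.group F))) ≃* ↥(Cfsg.Lie.chevG2.group F)) := by
  obtain ⟨π, hπ, h⟩ := hτ
  have h0 : ∀ i j : Fin chevD4.rank, chevD4.graphExp (ringChar F) i j = 1 := fun i j => by
    have : ∀ j : Fin chevD4.rank, chevD4.isLong (chevD4.simple j) = false := by decide +kernel
    simp [ChevalleyDatum.graphExp, this]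
  simp only [h0, pow_one] at h
  have h1 : St.SimMap checkedD4.toCD (fun r t => τ ((checkedD4.adj F).x r t)) (checkedD4.adj F) π fun _ => RingHom.id F :=
    fun i t => ⟨(checkedD4.eq_adj_x (checkedD4.toCD.sim (π i)).2).1 ((h _ i t).1 rfl),
      (checkedD4.eq_adj_x (checkedD4.toCD.neg (checkedD4.toCD.sim (π i))).2).1 ((h _ i t).2 rfl)⟩
  obtain ⟨σ, hσ⟩ := graph_D4a F
  obtain ⟨φ, -, h2, h3⟩ := fix_D4 F hσ
  have h4 := (St.mkTw symD4a (fun r => etaP egD4a r) eta_gD4a (RingHom.id F) σ hσ).simMap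
  refine ⟨(MulEquiv.subgroupCongr (Eq.trans ?_ h3.symm)).trans (MonoidHom.ofInjective h2).symm⟩
  have h5 : ∀ π : Equiv.Perm (Fin chevD4.rank), (∀ i j, i ≠ j → chevD4.bonds (π i) (π j) = chevD4.bonds i j) →
    (∀ i, π (π i) = i) ∨ (∀ i, π i = symD4a.ρI i) ∨ ∀ i, π (symD4a.ρI i) = i := by decide +kernel
  rcases h5 π hπ with e | e | e
  · have : τ ^ 2 = 1 := MulEquiv.toMonoidHom_injective (St.hom_ext_sim checkedD4.adj_Gx fun i t => by
      have := h1 i t; have := h1 (π i) t
      simp_all [sq])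
    have := orderOf_dvd_of_pow_eq_one this
    rw [hτ3] at this; omega
  · rw [St.hom_ext_sim (φ := τ.toMonoidHom) (ψ := σ) checkedD4.adj_Gx fun i t =>
      ⟨(h1 i t).1.trans (e i ▸ (h4 i t).1.symm), (h1 i t).2.trans (e i ▸ (h4 i t).2.symm)⟩]
  · have := DFunLike.congr_fun (St.hom_ext_sim (φ := τ.toMonoidHom.comp σ) (ψ := MonoidHom.id _) checkedD4.adj_Gx
      fun i t => ⟨(congrArg τ (h4 i t).1).trans ((h1 _ t).1.trans (by rw [e]; rfl)),
        (congrArg τ (h4 i t).2).trans ((h1 _ t).2.trans (by rw [e]; rfl))⟩)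
    ext g
    exact ⟨fun hg => τ.injective ((this g).trans hg.symm), fun hg => (congrArg τ hg).symm.trans (this g)⟩

end Cfsg.Agent.S2734
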