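import Cfsg.Statements.S2736
import Mathlib
import Cfsg.Agent.Lib.Perm.Aut19

set_option autoImplicit false
open Cfsg

namespace Cfsg.Agent.S2736



/-- Let T = PΩ⁺_{2m}(F) with m ≥ 5 (dimension ≠ 8) and x a field automorphism or a graph-field automorphism of T of prime order r. Then an element y of the coset Inndiag(T)·x (y = δ x with δ induced by a class-preserving similarity) has order r if and only if y is conjugate to x by an element of Inndiag(T). -/
theorem result {F : Type*} [Field F] [Fintype F] {m : ℕ} (hm : 5 ≤ m) (x δ : MulAut (Cfsg.POmega F (Cfsg.quadFormPlus m F))) (hx : Cfsg.IsFieldAutClassPOmega (Cfsg.quadFormPlus m F) x ∨ Cfsg.IsGraphFieldAutClassPOmegaPlus m x) {r : ℕ} (hr : r.Prime) (hxr : orderOf x = r) (hδ : δ ∈ Cfsg.inndiagPOmegaPlus m F) :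
    orderOf (δ * x) = r ↔ Cfsg.IsConjUnder (Cfsg.inndiagPOmegaPlus m F) x (δ * x) := by
  have h3 : 3 ≤ m := by omega
  have H := Perm.Aut.ev_plus (F := F) m h3
  rw [Perm.Aut.covP_inn h3] at hδ ⊢
  haveI := Perm.Aut.normal_Sim0 _ H (Perm.Aut.covP_range h3 hm)
  refine Perm.Aut.LangP.iff ?_ hδ hxr
  rcases hx with ⟨α, φ, σ, -, h1, h⟩ | hx
  · rw [(Perm.Aut.covP_fld h3).1 h1] at h
    exact (Perm.Aut.langP_even _ H h3 (Perm.Aut.plus_fld_mem m σ) (Perm.Aut.fld_pow σ)).conj h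
  · obtain ⟨σ, g, -, h1, -, rfl⟩ := Perm.Aut.gf_class h3 hm hx (hxr ▸ hr)
    exact Perm.Aut.langP_even _ H h3 (mul_mem g.2 (Perm.Aut.plus_fld_mem m σ)) h1

end Cfsg.Agent.S2736
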