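import Cfsg.Statements.S2738
import Cfsg.Agent.Lib.Classical.Small2

set_option autoImplicit false
open Cfsg

namespace Cfsg.Agent.S2738
open Cfsg.Agent.Classical


/-- The special linear group SL(3, 4) has centre of order 3 and does not split over it: no subgroup is a complement to the centre (so SL(3, 4) is a non-split central extension of PSL(3, 4) by a group of order 3). -/
theorem result (F : Type*) [Field F] [Fintype F] (hF : Fintype.card F = 4) : Nat.card ↥(Subgroup.center (Matrix.SpecialLinearGroup (Fin 3) F)) = 3 ∧ ¬ ∃ K : Subgroup (Matrix.SpecialLinearGroup (Fin 3) F), Subgroup.IsComplement' (Subgroup.center (Matrix.SpecialLinearGroup (Fin 3) F)) K := by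
  obtain ⟨h2, ω, h3, h4⟩ := Pres.four_cases hF
  have hc : Nat.card ↥(Subgroup.center (Matrix.SpecialLinearGroup (Fin 3) F)) = 3 := by
    rw [Nat.card_congr (Matrix.SpecialLinearGroup.center_equiv_rootsOfUnity' (0 : Fin 3)).toEquiv]
    have : rootsOfUnity (Fintype.card (Fin 3)) F = ⊤ := by
      rw [eq_top_iff]
      intro a _
      have := pow_card_eq_one' (x := a)
      rwa [Nat.card_units, Nat.card_eq_fintype_card, hF] at this
    rw [this, Subgroup.card_top, Nat.card_units, Nat.card_eq_fintype_card, hF]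
  refine ⟨hc, fun ⟨K, hK⟩ => ?_⟩
  have : commutator (Matrix.SpecialLinearGroup (Fin 3) F) ≤ K := by
    rw [commutator_def, Subgroup.commutator_le]
    intro a _ b _
    obtain ⟨⟨⟨z, hz⟩, k⟩, rfl⟩ := hK.2 a
    obtain ⟨⟨⟨z', hz'⟩, k'⟩, rfl⟩ := hK.2 b
    have c1 : ∀ g, Commute z g := fun g => (Subgroup.mem_center_iff.1 hz g).symm
    have c2 : ∀ g, Commute z' g := fun g => (Subgroup.mem_center_iff.1 hz' g).symm
    have : z * k * (z' * k') * (z * k)⁻¹ * (z' * k')⁻¹ = k * k' * (k : Matrix.SpecialLinearGroup (Fin 3) F)⁻¹ *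
        (k' : Matrix.SpecialLinearGroup (Fin 3) F)⁻¹ := by
      rw [(c1 _).eq, (c2 k').eq, mul_assoc _ z, (c1 _).eq, mul_inv_rev, mul_inv_rev, ← mul_assoc, ← mul_assoc,
        ← mul_assoc, mul_inv_cancel_right, ← mul_assoc, mul_assoc _ z', (c2 _).eq, ← mul_assoc,
        mul_inv_cancel_right]
    rw [commutatorElement_def]
    exact this ▸ mul_mem (mul_mem (mul_mem k.2 k'.2) (inv_mem k.2)) (inv_mem k'.2)
  rw [Lin.commutator_SL (by simp), top_le_iff] at this
  have h := hK.disjoint
  rw [this, disjoint_top] at h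
  simp [h] at hc

end Cfsg.Agent.S2738
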