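import Cfsg.Statements.S2739
import Cfsg.Agent.Lib.Classical.Small2

set_option autoImplicit false
open scoped Pointwise
open Cfsg

namespace Cfsg.Agent.S2739
open Cfsg.Agent.Classical

open Matrix in
theorem conj_diag {F : Type*} [Field F] (h2 : (2 : F) = 0) {ω : F} (hω : ω ^ 2 = ω + 1)
    (hF : ∀ a : F, a = 0 ∨ a = 1 ∨ a = ω ∨ a = ω + 1) (A : SpecialLinearGroup (Fin 3) F) {c : F}
    (hA : A.1 ^ 3 = c • 1) (hn : ∀ a : F, A.1 ≠ a • 1) :
    ∃ P : SpecialLinearGroup (Fin 3) F, A.1 * P.1 = P.1 * diagonal ![1, ω, ω + 1] := by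
  obtain ⟨t, ht⟩ : ∃ t, t = A.1 0 0 + A.1 1 1 + A.1 2 2 := ⟨_, rfl⟩
  obtain ⟨s, hs⟩ : ∃ s, s = A.1 0 0 * A.1 1 1 - A.1 0 1 * A.1 1 0 + A.1 0 0 * A.1 2 2 - A.1 0 2 * A.1 2 0 +
    A.1 1 1 * A.1 2 2 - A.1 1 2 * A.1 2 1 := ⟨_, rfl⟩
  have hd := A.2
  have h1 : A.1 ^ 3 = t • A.1 ^ 2 - s • A.1 + (1 : F) • 1 := by
    have : A.1 ^ 3 = t • A.1 ^ 2 - s • A.1 + A.1.det • 1 := by
      rw [ht, hs]
      generalize A.1 = B
      ext i j
      fin_cases i <;> fin_cases j <;>
        simp [pow_succ, mul_apply, Fin.sum_univ_three, det_fin_three] <;> ring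
    rwa [hd] at this
  have hAi : A.1 * (A⁻¹).1 = 1 := congrArg Subtype.val (mul_inv_cancel A)
  have lin : ∀ a b : F, a • A.1 = b • 1 → a = 0 ∧ b = 0 := fun a b h => by
    have ha : a = 0 := by
      by_contra ha
      exact hn (a⁻¹ * b) (by rw [mul_smul, ← h, smul_smul, inv_mul_cancel₀ ha, one_smul])
    rw [ha, zero_smul] at h
    exact ⟨ha, by simpa using (congrFun (congrFun h 0) 0).symm⟩
  have h3 : t • A.1 ^ 2 = s • A.1 + (c - 1) • 1 := by
    rw [hA] at h1
    rw [sub_smul, h1]; abel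
  have ht0 : t = 0 := by
    by_contra ht0
    have h4 : (t * t) • A.1 ^ 3 = (t * s) • A.1 ^ 2 + (t * (c - 1)) • A.1 := by
      rw [pow_succ' _ 2, mul_smul, ← mul_smul_comm, h3, mul_add, smul_add, mul_smul_comm, mul_smul_comm,
        smul_smul, smul_smul, mul_one, sq]
    rw [mul_comm t s, mul_smul s, h3, hA, smul_add, smul_smul, smul_smul, smul_smul] at h4
    obtain ⟨h5, h6⟩ := lin (s * s + t * (c - 1)) (t * t * c - s * (c - 1)) (by
      rw [sub_smul, h4, add_smul]; abel)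
    have hc : c ≠ 0 := fun h => by
      have := congrArg det hA
      rw [det_pow, hd, h] at this
      simp at this
    rcases hF t with h | h | h | h <;> rcases hF s with h' | h' | h' | h' <;>
      rcases hF c with h'' | h'' | h'' | h'' <;> grind
  rw [ht0, zero_smul] at h3
  obtain ⟨hs0, -⟩ := lin s (1 - c) (by
    rw [eq_comm, ← neg_sub, neg_smul, neg_eq_iff_add_eq_zero, add_comm]; exact h3.symm)
  have hev : ∀ l : F, l ^ 3 = 1 → ∃ v ≠ 0, A.1 *ᵥ v = l • v := fun l hl => by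
    obtain ⟨v, hv, h⟩ := exists_mulVec_eq_zero_iff.2 (show (A.1 - l • 1).det = 0 by
      rw [det_fin_three] at hd ⊢
      simp
      linear_combination hd - hl + l * (hs.symm.trans hs0) * (-1) + l ^ 2 * (ht.symm.trans ht0))
    exact ⟨v, hv, by rwa [sub_mulVec, smul_mulVec, one_mulVec, sub_eq_zero] at h⟩
  have hl : ∀ i : Fin 3, (![1, ω, ω + 1] i) ^ 3 = 1 := fun i => by
    fin_cases i <;> simp <;> grind
  choose v hv0 hv using fun i : Fin 3 => hev _ (hl i)
  have hli : LinearIndependent F v := Module.End.eigenvectors_linearIndependent' (toLin' A.1)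
    ![1, ω, ω + 1] (by
      intro i j
      fin_cases i <;> fin_cases j <;> simp <;> grind) v
    fun i => ⟨Module.End.mem_eigenspace_iff.2 (hv i), hv0 i⟩
  let P : Matrix (Fin 3) (Fin 3) F := (of v)ᵀ
  have hP : P.det ≠ 0 := ((isUnit_iff_isUnit_det _).1 (linearIndependent_cols_iff_isUnit.1 hli)).ne_zero
  have hAP : A.1 * P = P * diagonal ![1, ω, ω + 1] := by
    ext i j
    rw [mul_diagonal, mul_comm]
    exact congrFun (hv j) i
  refine ⟨⟨P * diagonal ![P.det⁻¹, 1, 1], by simp [det_diagonal, Fin.prod_univ_three, hP]⟩, ?_⟩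
  change A.1 * (P * _) = P * _ * _
  rw [← mul_assoc, hAP, mul_assoc, mul_assoc, diagonal_mul_diagonal, diagonal_mul_diagonal]
  simp only [mul_comm]

theorem gen {G : Type*} [Group G] (X : Subgroup G) (hX : Nat.card X = 3) :
    ∃ x, x ≠ 1 ∧ x ^ 3 = 1 ∧ Subgroup.zpowers x = X := by
  haveI : Fact (Nat.Prime 3) := ⟨by norm_num⟩
  haveI : Finite X := Nat.finite_of_card_ne_zero (by omega)
  haveI : Nontrivial X := Finite.one_lt_card_iff_nontrivial.1 (by omega)
  obtain ⟨x, hx⟩ := exists_ne (1 : X)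
  refine ⟨x, fun h => hx (Subtype.ext h), ?_, ?_⟩
  · exact congrArg Subtype.val (hX ▸ pow_card_eq_one' (x := x))
  · have := congrArg (Subgroup.map X.subtype) (zpowers_eq_top_of_prime_card hX hx)
    rwa [MonoidHom.map_zpowers, ← MonoidHom.range_eq_map, Subgroup.range_subtype] at this


/-- In the projective special linear group PSL(3, 4) all subgroups of order 3 are conjugate. -/
theorem result (F : Type*) [Field F] [Fintype F] (hF : Fintype.card F = 4) (X Y : Subgroup (Matrix.ProjectiveSpecialLinearGroup (Fin 3) F)) (hX : Nat.card ↥X = 3) (hY : Nat.card ↥Y = 3) : ∃ g : Matrix.ProjectiveSpecialLinearGroup (Fin 3) F, MulAut.conj g • X = Y := by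
  obtain ⟨h2, ω, hω, h4⟩ := Pres.four_cases hF
  let D : Matrix.SpecialLinearGroup (Fin 3) F := ⟨Matrix.diagonal ![1, ω, ω + 1], by
    simp [Matrix.det_diagonal, Fin.prod_univ_three]; grind⟩
  have key : ∀ x : Matrix.ProjectiveSpecialLinearGroup (Fin 3) F, x ≠ 1 → x ^ 3 = 1 →
      IsConj (QuotientGroup.mk D : Matrix.ProjectiveSpecialLinearGroup (Fin 3) F) x := by
    intro x hx hx3
    obtain ⟨A, rfl⟩ := QuotientGroup.mk_surjective x
    rw [← QuotientGroup.mk_pow, QuotientGroup.eq_one_iff] at hx3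
    obtain ⟨c, -, hc⟩ := Matrix.SpecialLinearGroup.mem_center_iff.1 hx3
    obtain ⟨P, hP⟩ := conj_diag h2 hω h4 A (c := c) (by
      rw [Matrix.smul_one_eq_diagonal]; exact hc.symm) fun a ha => hx ((QuotientGroup.eq_one_iff _).2
        (Subgroup.mem_center_iff.2 fun g => Subtype.ext (by
          change g.1 * A.1 = A.1 * g.1
          simp [ha])))
    have hP' : A * P = P * D := Subtype.ext hP
    refine isConj_iff.2 ⟨QuotientGroup.mk P, ?_⟩
    rw [← QuotientGroup.mk_inv, ← QuotientGroup.mk_mul, ← QuotientGroup.mk_mul, ← hP', mul_inv_cancel_right]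
  obtain ⟨x, hx1, hx3, rfl⟩ := gen X hX
  obtain ⟨y, hy1, hy3, rfl⟩ := gen Y hY
  obtain ⟨g, hg⟩ := isConj_iff.1 ((key x hx1 hx3).symm.trans (key y hy1 hy3))
  exact ⟨g, hg ▸ MonoidHom.map_zpowers (MulAut.conj g).toMonoidHom x⟩

end Cfsg.Agent.S2739
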