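import Cfsg.Statements.S2751
import Cfsg.Agent.Lib.Fusion.Gs7

set_option autoImplicit false
open Cfsg

namespace Cfsg.Agent.S2751

open Subgroup Cfsg.Agent.Transfer Cfsg.Agent.MS Cfsg.Agent.NG Cfsg.Agent.Gs

/-- Goldschmidt's bound for amalgams of index (3, 3): let M₁ and M₂ be finite subgroups of a group G such that M₁ ⊓ M₂ is a Sylow 2-subgroup of both M₁ and M₂, each quotient Mᵢ / O₂(Mᵢ) is isomorphic to the symmetric group of degree 3, and no nontrivial subgroup of M₁ ⊓ M₂ is normal in both M₁ and M₂. Then M₁ ⊓ M₂ has order at most 2^7. -/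
theorem result {G : Type*} [Group G] (M₁ M₂ : Subgroup G) [Finite M₁] [Finite M₂] (ha₁ : ∃ P : Sylow 2 M₁, (P : Subgroup M₁) = (M₁ ⊓ M₂).subgroupOf M₁) (ha₂ : ∃ P : Sylow 2 M₂, (P : Subgroup M₂) = (M₁ ⊓ M₂).subgroupOf M₂) (hb₁ : Nonempty (M₁ ⧸ Cfsg.pCore 2 M₁ ≃* Equiv.Perm (Fin 3))) (hb₂ : Nonempty (M₂ ⧸ Cfsg.pCore 2 M₂ ≃* Equiv.Perm (Fin 3))) (hc : ∀ N : Subgroup G, N ≤ M₁ ⊓ M₂ → (N.subgroupOf M₁).Normal → (N.subgroupOf M₂).Normal → N = ⊥) : Nat.card ↥(M₁ ⊓ M₂) ≤ 2 ^ 7 := by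
  have a := S6_top ha₁ hb₁
  have b := S6_top ha₂ hb₂
  have h1 : M₁ ⊓ M₂ ≤ M₁ := inf_le_left
  have h2 : M₁ ⊓ M₂ ≤ M₂ := inf_le_right
  generalize M₁ ⊓ M₂ = T at *
  obtain ⟨φ₁, φ₂, i1, i2, e⟩ := exists_completion h1 h2 (by
    have := a.idx3.trans b.idx3.symm
    rwa [relIndex_top_right, relIndex_top_right] at this)
  have e1 : (T.subgroupOf M₁).map φ₁ = (T.subgroupOf M₂).map φ₂ := by
    ext x
    exact ⟨fun ⟨t, ht, l⟩ => ⟨⟨t, h2 ht⟩, ht, (e t ht).symm.trans l⟩,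
      fun ⟨t, ht, l⟩ => ⟨⟨t, h1 ht⟩, ht, (e t ht).trans l⟩⟩
  have key : ∀ {P : Subgroup G} (φ : P →* Equiv.Perm M₂) (N : Subgroup (Equiv.Perm M₂)),
      (⊤ : Subgroup P).map φ ≤ NN N → (((N.comap φ).map P.subtype).subgroupOf P).Normal := fun φ N l => by
    rw [subgroupOf, comap_map_eq_self_of_injective (subtype_injective _)]
    exact ⟨fun y hy g => by simpa using conj_mem_of_mem_normalizer (l ⟨g, trivial, rfl⟩) hy⟩
  have am : AM6 ((⊤ : Subgroup M₁).map φ₁) ((⊤ : Subgroup M₂).map φ₂) ((T.subgroupOf M₁).map φ₁) := by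
    refine ⟨a.map i1, e1 ▸ b.map i2, fun N n1 n2 n3 => ?_⟩
    have k1 : ∀ x : M₁, φ₁ x ∈ N → (x : G) ∈ T := fun x hx =>
      let ⟨t, ht, l⟩ := n1 hx
      i1 l ▸ ht
    have k2 : ∀ x : M₂, φ₂ x ∈ N → (x : G) ∈ T := fun x hx =>
      let ⟨t, ht, l⟩ := e1.le (n1 hx)
      i2 l ▸ ht
    have e2 : (N.comap φ₁).map M₁.subtype = (N.comap φ₂).map M₂.subtype := by
      ext x
      exact ⟨fun ⟨t, ht, l⟩ => ⟨⟨t, h2 (k1 t ht)⟩, (e t (k1 t ht) ▸ ht : φ₂ _ ∈ N), l⟩,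
        fun ⟨t, ht, l⟩ => ⟨⟨t, h1 (k2 t ht)⟩, ((e t (k2 t ht)).symm ▸ ht : φ₁ _ ∈ N), l⟩⟩
    have e3 := hc ((N.comap φ₁).map M₁.subtype) (by rintro _ ⟨t, ht, rfl⟩; exact k1 t ht) (key φ₁ N n2)
      (e2 ▸ key φ₂ N n3)
    refine eq_bot_iff.2 fun x hx => ?_
    obtain ⟨t, -, rfl⟩ := n1 hx
    have : (t : G) = 1 := mem_bot.1 (e3 ▸ ⟨t, hx, rfl⟩)
    rw [show t = 1 from Subtype.ext this, map_one]; exact one_mem _
  have := am.bound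
  rwa [card_map_of_injective i1, Nat.card_congr (subgroupOfEquivOfLe h1).toEquiv] at this

end Cfsg.Agent.S2751
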