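import Cfsg.Statements.S2758
import Cfsg.Agent.Lib.Block.Syl1
import Cfsg.Agent.Lib.Comp.SylIn
import Cfsg.Agent.Lib.Fusion.Free
import Cfsg.Agent.Lib.Transfer.Cyc2
import Cfsg.Agent.Lib.Transfer.Residual

set_option autoImplicit false
open Cfsg

namespace Cfsg.Agent.S2758

open Cfsg.Agent.Blk
open Cfsg.Agent.Char hiding cj cj_mul cj_inv_cj cj_cj_inv
open Subgroup
theorem bc {G : Type*} [Group G] [Finite G] {p : ℕ} [Fact p.Prime] (P : Subgroup G) (hP : IsPGroup p P) :
    ∀ (k : ℕ) (x : G), x ^ 2 ^ k = 1 → x ∈ normalizer (P : Set G) → x ∉ centralizer (P : Set G) →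
    ∃ x y : G, (∃ k : ℕ, orderOf x = 2 ^ k) ∧ (∃ k : ℕ, orderOf y = p ^ k) ∧ y ≠ 1 ∧ x * y * x⁻¹ = y⁻¹ := by
  intro k
  induction k with
  | zero => intro x h1 _ h3; exact absurd (by simp at h1; rw [h1]; exact one_mem _) h3
  | succ k ih =>
    intro x h1 h2 h3
    by_cases h4 : x ^ 2 ∈ centralizer (P : Set G)
    · obtain ⟨u, hu, hne⟩ : ∃ u ∈ P, u * x ≠ x * u := by
        by_contra h
        push Not at h
        exact h3 (mem_centralizer_iff.2 h)
      have hy : u⁻¹ * (x * u * x⁻¹) ∈ P := mul_mem (inv_mem hu) ((mem_normalizer_iff.1 h2 u).1 hu)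
      obtain ⟨j, -, hj⟩ := (Nat.dvd_prime_pow Nat.prime_two).1 (orderOf_dvd_of_pow_eq_one h1)
      obtain ⟨m, hm⟩ := (IsPGroup.iff_orderOf.1 hP) ⟨_, hy⟩
      rw [← orderOf_coe] at hm
      refine ⟨x, u⁻¹ * (x * u * x⁻¹), ⟨j, hj⟩, ⟨m, hm⟩, fun h => hne ?_, ?_⟩
      · calc u * x = u * (u⁻¹ * (x * u * x⁻¹)) * x := by rw [h, mul_one]
          _ = _ := by group
      · have h5 := mem_centralizer_iff.1 h4 u hu
        calc _ = x * u⁻¹ * x⁻¹ * (x ^ 2 * u) * (x ^ 2)⁻¹ := by rw [pow_two]; group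
          _ = _ := by rw [← h5]; group
    · exact ih (x ^ 2) (by rw [← pow_mul, ← pow_succ']; exact h1) (pow_mem h2 2) h4

/-- For an odd prime p and a finite group G the following are equivalent: the dihedral group of order 2p is involved in G; some element of 2-power order normalizes but does not centralize some p-subgroup of G; some element of 2-power order inverts some nonidentity element of p-power order. -/
theorem result {G : Type*} [Group G] [Finite G] {p : ℕ} [Fact p.Prime] (hp : p ≠ 2) : (Cfsg.Involves (DihedralGroup p) G ↔ ∃ (x : G) (P : Subgroup G), (∃ k : ℕ, orderOf x = 2 ^ k) ∧ IsPGroup p ↥P ∧ x ∈ Subgroup.normalizer (P : Set G) ∧ x ∉ Subgroup.centralizer (P : Set G)) ∧ (Cfsg.Involves (DihedralGroup p) G ↔ ∃ x y : G, (∃ k : ℕ, orderOf x = 2 ^ k) ∧ (∃ k : ℕ, orderOf y = p ^ k) ∧ y ≠ 1 ∧ x * y * x⁻¹ = y⁻¹) := by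
  classical
  have hpp : p.Prime := Fact.out
  haveI : Fact (Nat.Prime 2) := ⟨Nat.prime_two⟩
  have ac : Involves (DihedralGroup p) G →
      ∃ x y : G, (∃ k : ℕ, orderOf x = 2 ^ k) ∧ (∃ k : ℕ, orderOf y = p ^ k) ∧ y ≠ 1 ∧ x * y * x⁻¹ = y⁻¹ := by
    intro h
    obtain ⟨K, φ, hφ⟩ := Fusion.involves_iff.1 h
    have hR : ∀ g ∈ zpowers (DihedralGroup.r (1 : ZMod p)), ∃ i, g = DihedralGroup.r i := by
      rintro _ ⟨n, rfl⟩
      exact ⟨_, DihedralGroup.r_one_zpow n⟩
    have hRn : (zpowers (DihedralGroup.r (1 : ZMod p))).Normal := by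
      refine ⟨fun g hg a => ?_⟩
      obtain ⟨i, rfl⟩ := hR g hg
      rcases a with j | j
      · simpa using hg
      · have : DihedralGroup.sr j * DihedralGroup.r i * (DihedralGroup.sr j)⁻¹ = (DihedralGroup.r i)⁻¹ := by
          simp
        rw [this]; exact inv_mem hg
    have hRp : IsPGroup p (zpowers (DihedralGroup.r (1 : ZMod p))) :=
      IsPGroup.of_card (n := 1) (by rw [Nat.card_zpowers, DihedralGroup.orderOf_r_one, pow_one])
    set M := (zpowers (DihedralGroup.r (1 : ZMod p))).comap φ with hM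
    haveI : M.Normal := hRn.comap φ
    obtain ⟨P, hP⟩ := Comp.exists_sylIn p M
    have h1 := hP.map φ
    rw [hM, map_comap_eq_self_of_surjective hφ] at h1
    have h2 := h1.eq_of_le (Comp.sylIn_self hRp) h1.1
    have h3 := hP.frattini (M := ⊤) le_top (Comp.le_normalizer_normal M ⊤)
    obtain ⟨s, hs⟩ := hφ (DihedralGroup.sr 0)
    obtain ⟨m, hm, n, hn, rfl⟩ := (Comp.mem_sup_of_le_normalizer' (Comp.le_normalizer_normal M _)).1
      (h3.ge (mem_top s))
    obtain ⟨i, hi⟩ := hR _ hm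
    have hn' : φ n = DihedralGroup.sr i := by
      rw [map_mul, hi] at hs
      rw [← inv_mul_cancel_left (DihedralGroup.r i) (φ n), hs]; simp
    obtain ⟨a, ha, b, hb, hab, ⟨k, hk⟩, hbo⟩ := Transfer.exists_pPart 2 n
    have hb1 : φ b = 1 := by
      have e1 : orderOf (φ b) ∣ orderOf b := orderOf_map_dvd φ b
      have e2 : orderOf (φ b) ∣ 2 := by
        obtain ⟨j, rfl⟩ := hb
        apply orderOf_dvd_of_pow_eq_one
        simp only [map_zpow]
        rw [← zpow_natCast, ← zpow_mul, mul_comm, zpow_mul, zpow_natCast, hn', pow_two]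
        simp
      exact orderOf_eq_one_iff.1 (Nat.eq_one_of_dvd_coprimes hbo e1 e2)
    have ha' : φ a = DihedralGroup.sr i := by rw [← hn', hab, map_mul, hb1, mul_one]
    have hnc : a ∉ centralizer (P : Set K) := by
      intro hc
      obtain ⟨u, hu, hu'⟩ : DihedralGroup.r (1 : ZMod p) ∈ P.map φ := h2 ▸ mem_zpowers _
      have := congrArg φ (mem_centralizer_iff.1 hc u hu)
      rw [map_mul, map_mul, hu', ha'] at this
      simp only [DihedralGroup.r_mul_sr, DihedralGroup.sr_mul_r, DihedralGroup.sr.injEq] at this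
      have h2' : ((2 : ℕ) : ZMod p) = 0 := by push_cast; linear_combination -this
      exact hp ((Nat.prime_dvd_prime_iff_eq hpp Nat.prime_two).1 ((ZMod.natCast_eq_zero_iff 2 p).1 h2'))
    obtain ⟨x, y, h4, h5, h6, h7⟩ := bc P hP.2 k a hk (zpowers_le.2 hn.2 ha) hnc
    refine ⟨x, y, by simpa using h4, by simpa using h5, fun h => h6 (Subtype.ext h), ?_⟩
    exact congrArg Subtype.val h7
  have ca : (∃ x y : G, (∃ k : ℕ, orderOf x = 2 ^ k) ∧ (∃ k : ℕ, orderOf y = p ^ k) ∧ y ≠ 1 ∧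
      x * y * x⁻¹ = y⁻¹) → Involves (DihedralGroup p) G := by
    rintro ⟨x, y0, ⟨k, hk⟩, ⟨m, hm⟩, hy1, hxy⟩
    have hd : p ∣ orderOf y0 := by
      rcases m with _ | m
      · exact absurd (orderOf_eq_one_iff.1 (by simpa using hm)) hy1
      · rw [hm]; exact dvd_pow_self p (Nat.succ_ne_zero m)
    have ho := orderOf_pow_orderOf_div (orderOf_pos y0).ne' hd
    have hxy' : x * y0 ^ (orderOf y0 / p) * x⁻¹ = (y0 ^ (orderOf y0 / p))⁻¹ := by
      rw [← conj_pow, hxy, inv_pow]
    generalize y0 ^ (orderOf y0 / p) = y at ho hxy'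
    have hx : x ∈ centralizer ({x ^ 2} : Set G) := by
      rw [mem_centralizer_singleton_iff]; group
    have hy : y ∈ centralizer ({x ^ 2} : Set G) := by
      rw [mem_centralizer_singleton_iff]
      have : x * y⁻¹ * x⁻¹ = y := by rw [← conj_inv, hxy', inv_inv]
      calc y * x ^ 2 = (x * y⁻¹ * x⁻¹) * x ^ 2 := by rw [this]
        _ = x * (x * y * x⁻¹) * x⁻¹ * x ^ 2 := by rw [hxy']
        _ = _ := by rw [pow_two]; group
    set K := centralizer ({x ^ 2} : Set G) with hK
    set a : K := ⟨x, hx⟩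
    set b : K := ⟨y, hy⟩
    haveI : (zpowers (a ^ 2)).Normal := by
      refine ⟨?_⟩
      rintro _ ⟨n, rfl⟩ g
      have : Commute g (a ^ 2) := Subtype.ext (mem_centralizer_singleton_iff.1 g.2)
      rw [(this.zpow_right n).eq, mul_inv_cancel_right]
      exact ⟨n, rfl⟩
    let f := QuotientGroup.mk' (zpowers (a ^ 2))
    have hab : a * b * a⁻¹ = b⁻¹ := Subtype.ext hxy'
    have h1 : f a * f b * (f a)⁻¹ = (f b)⁻¹ := by rw [← map_inv, ← map_mul, ← map_mul, hab, map_inv]
    have h2 : f a ^ 2 = 1 := by rw [← map_pow]; exact (QuotientGroup.eq_one_iff _).2 (mem_zpowers _)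
    have hob : orderOf b = p := by rw [← orderOf_coe]; exact ho
    have hoa : orderOf a = 2 ^ k := by rw [← orderOf_coe]; exact hk
    have h3 : orderOf (f b) = p := by
      refine orderOf_eq_prime (by rw [← map_pow, ← hob, pow_orderOf_eq_one, map_one]) fun h => ?_
      have h4 : b ∈ zpowers a := zpowers_le.2 (pow_mem (mem_zpowers a) 2) ((QuotientGroup.eq_one_iff _).1 h)
      have := orderOf_dvd_of_mem_zpowers h4
      rw [hob, hoa] at this
      exact hp ((Nat.prime_dvd_prime_iff_eq hpp Nat.prime_two).1 (hpp.dvd_of_dvd_pow this))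
    have h4 : f a ∉ zpowers (f b) := by
      rintro ⟨n, hn⟩
      have hc : Commute (f a) (f b) := hn ▸ (Commute.refl (f b)).zpow_left n
      rw [hc.eq, mul_inv_cancel_right] at h1
      have : f b ^ 2 = 1 := (pow_two (f b)).trans (mul_eq_one_iff_eq_inv.2 h1)
      have := orderOf_dvd_of_pow_eq_one this
      rw [h3] at this
      exact hp ((Nat.prime_dvd_prime_iff_eq hpp Nat.prime_two).1 this)
    obtain ⟨e⟩ := Transfer.nonempty_dihedral_closure h1 h2 h4
    rw [h3] at e
    exact Fusion.Involves.of_injective (Fusion.Involves.of_surjective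
      (Fusion.involves_iff.2 ⟨_, e.toMonoidHom, e.surjective⟩) f (QuotientGroup.mk'_surjective _))
      K.subtype K.subtype_injective
  refine ⟨⟨fun h => ?_, ?_⟩, ac, ca⟩
  · obtain ⟨x, y, h1, ⟨m, hm⟩, h3, h4⟩ := ac h
    refine ⟨x, zpowers y, h1, Comp.isPGroup_zpowers_of_orderOf hm, ?_, fun hc => ?_⟩
    · refine Comp.mem_normalizer_of_conj_mem ?_
      rintro _ ⟨n, rfl⟩
      rw [← conj_zpow, h4]
      exact zpow_mem (inv_mem (mem_zpowers y)) n
    · have := mem_centralizer_iff.1 hc y (mem_zpowers y)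
      rw [← this, mul_inv_cancel_right] at h4
      have h5 : y ^ 2 = 1 := by rw [pow_two]; nth_rewrite 1 [h4]; simp
      have h6 := orderOf_dvd_of_pow_eq_one h5
      rcases m with _ | m
      · exact h3 (orderOf_eq_one_iff.1 (by simpa using hm))
      · rw [hm] at h6
        exact hp ((Nat.prime_dvd_prime_iff_eq hpp Nat.prime_two).1 ((dvd_pow_self p (Nat.succ_ne_zero m)).trans h6))
  · rintro ⟨x, P, ⟨k, hk⟩, h2, h3, h4⟩
    exact ca (bc P h2 k x (hk ▸ pow_orderOf_eq_one x) h3 h4)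

end Cfsg.Agent.S2758
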