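import Cfsg.Statements.S2759
import Cfsg.Agent.Lib.Block.Syl1
import Cfsg.Agent.Lib.Comp.SylIn
import Cfsg.Agent.Lib.Comp.Res
import Cfsg.Agent.Lib.Perm.Small
import Cfsg.Agent.Lib.Solv.Coprime
import Cfsg.Agent.Lib.Solv.Cores
import Cfsg.Agent.S2758

set_option autoImplicit false
open Cfsg

namespace Cfsg.Agent.S2759

open Cfsg.Agent.Blk
open Cfsg.Agent.Char hiding cj cj_mul cj_inv_cj cj_cj_inv
open Subgroup Cfsg.Agent.Comp
theorem core {Q : Type*} [Group Q] [Finite Q] (T P : Subgroup Q) [hTn : T.Normal] (x y : Q)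
    (hT : IsPGroup 2 T) (hP : IsPGroup 3 P) (hx : ∃ k, x ^ 2 ^ k = 1) (hxP : x ∈ normalizer (P : Set Q))
    (hy : y ∈ P) (h1 : ∀ g ∈ P, ∃ i : ℕ, g * (y ^ i)⁻¹ ∈ centralizer (T : Set Q))
    (h2 : y ^ 3 ∈ centralizer (T : Set Q)) (h3 : x * y * x⁻¹ * y ∈ centralizer (T : Set Q))
    (h4 : y ∉ centralizer (T : Set Q)) (hmin : ∀ K : Subgroup Q, K.Normal → K ≠ ⊥ → T ≤ K)
    (hgen : T ⊔ P ⊔ zpowers x = ⊤) : Nonempty (Q ≃* Equiv.Perm (Fin 4)) := by
  classical
  haveI : Fact (Nat.Prime 2) := ⟨Nat.prime_two⟩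
  haveI : Fact (Nat.Prime 3) := ⟨Nat.prime_three⟩
  obtain ⟨k, hk⟩ := hx
  set C := centralizer (T : Set Q) with hC
  have hT0 : T ≠ ⊥ := by
    rintro rfl
    exact h4 (mem_centralizer_iff.2 fun t ht => by rw [mem_bot.1 ht]; simp)
  have hnorm : ∀ K : Subgroup Q, T ≤ normalizer (K : Set Q) → P ≤ normalizer (K : Set Q) →
      x ∈ normalizer (K : Set Q) → K.Normal := fun K a b c =>
    normal_iff_top_le_normalizer.2 (hgen ▸ sup_le (sup_le a b) (zpowers_le.2 c))
  have hTC : T ≤ C := (hmin (T ⊓ C) inferInstance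
    (Solv.inf_centralizer_ne_bot_of_nilpotent hT.isNilpotent le_rfl le_normalizer hT0)).trans inf_le_right
  have hcm : ∀ c ∈ C, ∀ t ∈ T, c * t * c⁻¹ = t := fun c hc t ht => by
    rw [← mem_centralizer_iff.1 hc t ht, mul_inv_cancel_right]
  have hinv : ∀ U : Subgroup Q, U ≤ T → (∀ u ∈ U, x * u * x⁻¹ ∈ U) → (∀ u ∈ U, y * u * y⁻¹ ∈ U) →
      U ≠ ⊥ → T ≤ U := by
    intro U hU a b h0
    have hCU : C ≤ normalizer (U : Set Q) := (centralizer_mono hU).trans (centralizer_le_normalizer _)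
    refine hmin U (hnorm U (hTC.trans hCU) (fun g hg => ?_) (mem_normalizer_of_conj_mem a)) h0
    obtain ⟨i, hi⟩ := h1 g hg
    simpa using mul_mem (hCU hi) (pow_mem (mem_normalizer_of_conj_mem b) i)
  have hxy : ∀ t ∈ T, x * (y * t * y⁻¹) * x⁻¹ = y⁻¹ * (x * t * x⁻¹) * y := fun t ht => by
    have := hcm _ h3 _ (hTn.conj_mem _ (hTn.conj_mem t ht x) y⁻¹)
    calc _ = x * y * x⁻¹ * y * (y⁻¹ * (x * t * x⁻¹) * y⁻¹⁻¹) * (x * y * x⁻¹ * y)⁻¹ := by group
      _ = _ := by rw [this]; group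
  have hyyy : ∀ t ∈ T, y * (y * (y * t * y⁻¹) * y⁻¹) * y⁻¹ = t := fun t ht => by
    have := hcm _ h2 t ht
    calc _ = y ^ 3 * t * (y ^ 3)⁻¹ := by rw [pow_three]; group
      _ = t := this
  have hfix : ∀ t ∈ T, y * t * y⁻¹ = t → t = 1 := by
    intro t ht he
    by_contra h0
    have := hinv (T ⊓ centralizer {y}) inf_le_left (fun u hu => mem_inf.2 ⟨hTn.conj_mem u hu.1 x, by
        have e1 : y * u * y⁻¹ = u := by
          rw [← mem_centralizer_singleton_iff.1 hu.2, mul_inv_cancel_right]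
        have e2 := hxy u hu.1
        rw [e1] at e2
        rw [mem_centralizer_singleton_iff]
        calc _ = y * (y⁻¹ * (x * u * x⁻¹) * y) := by group
          _ = _ := by rw [← e2]⟩)
      (fun u hu => by
        rw [← mem_centralizer_singleton_iff.1 hu.2, mul_inv_cancel_right]; exact hu)
      (fun h => h0 (mem_bot.1 (h.le (mem_inf.2 ⟨ht, mem_centralizer_singleton_iff.2 (by
        calc t * y = y * t * y⁻¹ * y := by rw [he]
          _ = _ := by group)⟩))))
    exact h4 (mem_centralizer_iff.2 fun t ht => mem_centralizer_singleton_iff.1 (this ht).2)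
  obtain ⟨v, hvT, hv, hvx⟩ : ∃ v ∈ T, orderOf v = 2 ∧ x * v * x⁻¹ = v := by
    have hS : IsPGroup 2 (zpowers x ⊔ T : Subgroup Q) := (isPGroup_zpowers hk).to_sup_of_normal_right hT
    have := Solv.inf_centralizer_ne_bot_of_nilpotent hS.isNilpotent le_sup_right (le_normalizer_normal _ _) hT0
    obtain ⟨v, hv, ho⟩ := exists_mem_orderOf_eq (dvd_card_of_isPGroup hT.to_inf_left this)
    exact ⟨v, hv.1, ho, by rw [mem_centralizer_iff.1 hv.2 x (mem_sup_left (mem_zpowers x)), mul_inv_cancel_right]⟩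
  have v1 : v ≠ 1 := fun h => by rw [h, orderOf_one] at hv; omega
  have vv : v * v = 1 := by rw [← pow_two, ← hv, pow_orderOf_eq_one]
  obtain ⟨w, hw⟩ : ∃ w, w = y * v * y⁻¹ := ⟨_, rfl⟩
  have hwT : w ∈ T := hw ▸ hTn.conj_mem v hvT y
  have ww : w * w = 1 := by rw [hw, show y * v * y⁻¹ * (y * v * y⁻¹) = y * (v * v) * y⁻¹ by group, vv]; simp
  have w1 : w ≠ 1 := fun h => v1 (by rw [hw] at h; simpa using h)
  have vw : v ≠ w := fun h => v1 (hfix v hvT (hw ▸ h.symm))
  have cm : ∀ s ∈ T, ∀ t ∈ T, s * t = t * s := fun s hs t ht => mem_centralizer_iff.1 (hTC ht) s hs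
  have wv : w * v = v * w := cm w hwT v hvT
  have hz : y * w * y⁻¹ = v * w := by
    have hzT := hTn.conj_mem w hwT y
    have e1 : y * (y * w * y⁻¹) * y⁻¹ = v := by rw [hw]; exact hyyy v hvT
    have := hfix (v * w * (y * w * y⁻¹)) (mul_mem (mul_mem hvT hwT) hzT) (by
      calc _ = (y * v * y⁻¹) * (y * w * y⁻¹) * (y * (y * w * y⁻¹) * y⁻¹) := by group
        _ = w * (y * w * y⁻¹) * v := by rw [e1, ← hw]
        _ = _ := by rw [cm _ (mul_mem hwT hzT) v hvT, mul_assoc v])
    calc y * w * y⁻¹ = (w * (v * v) * w) * (y * w * y⁻¹) := by rw [vv, mul_one, ww, one_mul]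
      _ = w * v * (v * w * (y * w * y⁻¹)) := by group
      _ = _ := by rw [this, mul_one, wv]
  have hxw : x * w * x⁻¹ = v * w := by
    rw [← hz, hw, hxy v hvT, hvx]
    calc y⁻¹ * v * y = y⁻¹ * (y * (y * (y * v * y⁻¹) * y⁻¹) * y⁻¹) * y := by rw [hyyy v hvT]
      _ = _ := by group
  have a1 : v * (v * w) = w := by rw [← mul_assoc, vv, one_mul]
  have a2 : w * (v * w) = v := by rw [← mul_assoc, wv, mul_assoc, ww, mul_one]
  have a3 : v * w * v = w := by rw [mul_assoc, wv, a1]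
  have a4 : v * w * w = v := by rw [mul_assoc, ww, mul_one]
  have a5 : v * w * (v * w) = 1 := by rw [mul_assoc, a2, vv]
  let U : Subgroup Q :=
    { carrier := {t | t = 1 ∨ t = v ∨ t = w ∨ t = v * w}
      one_mem' := Or.inl rfl
      mul_mem' := by
        rintro _ _ (rfl | rfl | rfl | rfl) (h | h | h | h) <;> rw [h] <;>
          simp only [Set.mem_setOf_eq, one_mul, mul_one, vv, ww, wv, a1, a2, a3, a4, a5, true_or, or_true]
      inv_mem' := by
        rintro _ (h | h | h | h) <;> rw [h]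
        · simp
        · rw [inv_eq_of_mul_eq_one_right vv]; simp
        · rw [inv_eq_of_mul_eq_one_right ww]; simp
        · rw [inv_eq_of_mul_eq_one_right a5]; simp }
  have hU : ∀ t, t ∈ U ↔ t = 1 ∨ t = v ∨ t = w ∨ t = v * w := fun t => Iff.rfl
  have hUT : U ≤ T := by
    rintro _ (h | h | h | h) <;> rw [h]
    exacts [one_mem _, hvT, hwT, mul_mem hvT hwT]
  have hxvw : x * (v * w) * x⁻¹ = w := by
    rw [show x * (v * w) * x⁻¹ = x * v * x⁻¹ * (x * w * x⁻¹) by group, hvx, hxw, a1]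
  have hTU : T ≤ U := hinv U hUT (by
      rintro _ (h | h | h | h) <;> rw [h, hU]
      · simp
      · simp [hvx]
      · simp [hxw]
      · simp [hxvw])
    (by
      rintro _ (h | h | h | h) <;> rw [h, hU]
      · simp
      · simp [← hw]
      · simp [hz]
      · rw [show y * (v * w) * y⁻¹ = y * v * y⁻¹ * (y * w * y⁻¹) by group, ← hw, hz, a2]; simp)
    (fun h => v1 (mem_bot.1 (h.le ((hU v).2 (by simp)))))
  have hT4 : Nat.card T = 4 := by
    rw [le_antisymm hTU hUT]
    have : (U : Set Q) = ({1, v, w, v * w} : Finset Q) := by ext t; simp [hU]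
    have e1 : (1 : Q) ≠ v * w := fun h => vw (by rw [← a4, ← h, one_mul])
    have e2 : v ≠ v * w := fun h => w1 (by simpa using h)
    have e3 : w ≠ v * w := fun h => v1 (by simpa using h)
    change Nat.card (U : Set Q) = 4
    rw [this, Nat.card_coe_set_eq, Set.ncard_coe_finset, Finset.card_insert_of_notMem (by simp [v1.symm, w1.symm, e1]),
      Finset.card_insert_of_notMem (by simp [vw, e2, w1]), Finset.card_pair e3]
  have hx2 : x ^ 2 ∈ C := by
    refine mem_centralizer_iff.2 fun t ht => ?_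
    have : x * (x * t * x⁻¹) * x⁻¹ = t := by
      rcases hTU ht with h | h | h | h <;> rw [h]
      · simp
      · rw [hvx, hvx]
      · rw [hxw, hxvw]
      · rw [hxvw, hxw]
    calc t * x ^ 2 = x * (x * t * x⁻¹) * x⁻¹ * x ^ 2 := by rw [this]
      _ = _ := by rw [pow_two]; group
  haveI hCn : C.Normal := inferInstance
  have hxP0 : x ∈ normalizer ((P ⊓ C : Subgroup Q) : Set Q) :=
    le_normalizer_inf (zpowers_le.2 hxP) (le_normalizer_normal _ _) (mem_zpowers x)
  have hK : zpowers (x ^ 2) ⊔ P ⊓ C = ⊥ := by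
    by_contra h0
    have hZ : zpowers (x ^ 2) ≤ normalizer ((P ⊓ C : Subgroup Q) : Set Q) := zpowers_le.2 (pow_mem hxP0 2)
    have hKC : zpowers (x ^ 2) ⊔ P ⊓ C ≤ C := sup_le (zpowers_le.2 hx2) inf_le_right
    have hxZ : zpowers x ≤ normalizer (zpowers (x ^ 2) : Set Q) := le_normalizer_of_le_centralizer (by
      rw [centralizer_zpowers, zpowers_le, mem_centralizer_singleton_iff]; group)
    have hn := hnorm (zpowers (x ^ 2) ⊔ P ⊓ C) (le_normalizer_of_le_centralizer (le_centralizer_iff.1 hKC))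
      (le_normalizer_of_cj_le fun g hg => by
        rw [cj_sup, cj_zpowers]
        refine sup_le (zpowers_le.2 ?_) ((cj_eq_self_iff.2
          (le_normalizer_inf le_normalizer (le_normalizer_normal _ _) hg)).le.trans le_sup_right)
        have e : g * x ^ 2 * g⁻¹ = (g * (x ^ 2 * g⁻¹ * (x ^ 2)⁻¹)) * x ^ 2 := by group
        rw [e]
        refine mul_mem (mem_sup_right (mem_inf.2 ⟨mul_mem hg
          (conj_mem_of_mem_normalizer (pow_mem hxP 2) (inv_mem hg)), ?_⟩)) (mem_sup_left (mem_zpowers _))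
        rw [show g * (x ^ 2 * g⁻¹ * (x ^ 2)⁻¹) = g * x ^ 2 * g⁻¹ * (x ^ 2)⁻¹ by group]
        exact mul_mem (hCn.conj_mem _ hx2 g) (inv_mem hx2))
      (le_normalizer_sup hxZ (zpowers_le.2 hxP0) (mem_zpowers x))
    have hZp : IsPGroup 2 (zpowers (x ^ 2)) := isPGroup_zpowers (n := k) (by rw [← pow_mul, mul_comm, pow_mul, hk, one_pow])
    have hS : SylIn 2 (zpowers (x ^ 2)) (zpowers (x ^ 2) ⊔ P ⊓ C) := sylIn_of_not_dvd le_sup_left hZp fun h =>
      coprime_iff_not_dvd.1 (coprime_of_isPGroup_of_ne (by decide) hP.to_inf_left)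
        (h.trans (relIndex_sup_dvd_card hZ))
    obtain ⟨i, hi⟩ := hS.le_of_normalizer' hT (hmin _ hn h0) (le_normalizer_normal _ _) hwT
    have : x * w * x⁻¹ = w := by rw [← hi]; simp only; group
    rw [hxw] at this
    exact v1 (by simpa using this)
  have x2 : x ^ 2 = 1 := mem_bot.1 (hK.le (mem_sup_left (mem_zpowers _)))
  have hP0 : ∀ g ∈ P, g ∈ C → g = 1 := fun g a b => mem_bot.1 (hK.le (mem_sup_right (mem_inf.2 ⟨a, b⟩)))
  have y1 : y ≠ 1 := fun h => h4 (h ▸ one_mem _)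
  have y3 := hP0 _ (pow_mem hy 3) h2
  have xy : x * y * x⁻¹ = y⁻¹ :=
    eq_inv_of_mul_eq_one_left (hP0 _ (mul_mem (conj_mem_of_mem_normalizer hxP hy) hy) h3)
  have hxn : x ∉ zpowers y := by
    rintro ⟨i, hi⟩
    have : x * y * x⁻¹ = y := by rw [← hi]; simp only; group
    rw [this] at xy
    apply y1
    calc y = y * (y * y⁻¹) := by group
      _ = y ^ 3 := by rw [← xy, pow_three]
      _ = 1 := y3
  obtain ⟨e⟩ := Transfer.nonempty_dihedral_closure xy x2 hxn
  have hH : Nat.card (closure ({y, x} : Set Q)) = 6 := by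
    rw [Nat.card_congr e.toEquiv, DihedralGroup.nat_card, orderOf_eq_prime y3 y1]
  set H := closure ({y, x} : Set Q) with hHd
  have hyH : y ∈ H := subset_closure (by simp)
  have hxH : x ∈ H := subset_closure (by simp)
  have hPH : P ≤ H := fun g hg => by
    obtain ⟨i, hi⟩ := h1 g hg
    rw [mul_inv_eq_one.1 (hP0 _ (mul_mem hg (inv_mem (pow_mem hy i))) hi)]
    exact pow_mem hyH i
  have hTH : ¬ T ≤ H := fun h => by
    have := card_dvd_of_le h
    rw [hT4, hH] at this
    omega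
  have hi : H ⊓ T = ⊥ := by
    by_contra h0
    have hHn : H ≤ normalizer ((H ⊓ T : Subgroup Q) : Set Q) := le_normalizer_inf le_normalizer (le_normalizer_normal _ _)
    exact hTH ((hmin _ (hnorm _ (le_normalizer_of_le_centralizer (hTC.trans (centralizer_mono inf_le_right)))
      (hPH.trans hHn) (hHn hxH)) h0).trans inf_le_left)
  have hs : H ⊔ T = ⊤ := eq_top_iff.2 (hgen ▸ sup_le (sup_le le_sup_right (hPH.trans le_sup_left))
    (zpowers_le.2 (mem_sup_left hxH)))
  have hc := card_sup_mul_card_inf (H := H) (N := T) (le_normalizer_normal _ _)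
  rw [hi, hs, card_bot, card_top, hH, hT4] at hc
  have hidx := H.card_mul_index
  rw [hH] at hidx
  refine Perm.Small.iso_perm_of_faithful (α := Q ⧸ H) (by rw [← index]; omega) (fun g hg => ?_)
    (by rw [show (4 : ℕ).factorial = 24 from rfl]; omega)
  by_contra g1
  refine hTH ((hmin _ inferInstance fun h0 => g1 (mem_bot.1 (h0.le ?_))).trans (normalCore_le H))
  rw [normalCore_eq_ker, MonoidHom.mem_ker]
  exact Equiv.ext hg
theorem mid {G : Type*} [Group G] [Finite G] (T P : Subgroup G) [hTn : T.Normal] (x y : G)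
    (hT : IsPGroup 2 T) (hP : IsPGroup 3 P) (hx : ∃ k, x ^ 2 ^ k = 1) (hxP : x ∈ normalizer (P : Set G))
    (hy : y ∈ P) (h1 : ∀ g ∈ P, ∃ i : ℕ, g * (y ^ i)⁻¹ ∈ centralizer (T : Set G))
    (h2 : y ^ 3 ∈ centralizer (T : Set G)) (h3 : x * y * x⁻¹ * y ∈ centralizer (T : Set G))
    (h4 : y ∉ centralizer (T : Set G)) : Involves (Equiv.Perm (Fin 4)) G := by
  classical
  haveI : Fact (Nat.Prime 2) := ⟨Nat.prime_two⟩
  haveI : Fact (Nat.Prime 3) := ⟨Nat.prime_three⟩
  obtain ⟨U, hUT, ⟨u1, u2, u3⟩, hU⟩ := exists_minimal_subgroup (P := fun U : Subgroup G =>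
    P ≤ normalizer (U : Set G) ∧ x ∈ normalizer (U : Set G) ∧ y ∉ centralizer (U : Set G)) (A := T)
    ⟨le_normalizer_normal _ _, le_normalizer_normal _ ⊤ (mem_top x), h4⟩
  have hUp : IsPGroup 2 U := hT.to_le hUT
  set L := U ⊔ P ⊔ zpowers x with hL
  have hUL : U ≤ L := le_sup_left.trans le_sup_left
  have hPL : P ≤ L := le_sup_right.trans le_sup_left
  have hxL : x ∈ L := mem_sup_right (mem_zpowers x)
  have hLU : L ≤ normalizer (U : Set G) := sup_le (sup_le le_normalizer u1) (zpowers_le.2 u2)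
  obtain ⟨K, -, ⟨k1, k2, k3⟩, hK⟩ := exists_maximal_subgroup (P := fun K : Subgroup G =>
    K ≤ L ∧ L ≤ normalizer (K : Set G) ∧ ¬ ⁅zpowers y, U⁆ ≤ K) (A := ⊥)
    ⟨bot_le, le_normalizer_normal _ _, fun h => u3 (commutator_eq_bot_iff_le_centralizer.1 (le_bot_iff.1 h)
      (mem_zpowers y))⟩
  haveI : (K.subgroupOf L).Normal := normal_subgroupOf_of_le_normalizer k2
  haveI : (U.subgroupOf L).Normal := normal_subgroupOf_of_le_normalizer hLU
  set π := QuotientGroup.mk' (K.subgroupOf L) with hπ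
  have hπs : Function.Surjective π := QuotientGroup.mk'_surjective _
  haveI : ((U.subgroupOf L).map π).Normal := Normal.map inferInstance _ hπs
  have hcen : ∀ c : L, (c : G) ∈ centralizer (T : Set G) →
      π c ∈ centralizer (((U.subgroupOf L).map π : Subgroup _) : Set _) := by
    intro c hc
    rw [mem_centralizer_iff]
    rintro _ ⟨t, ht, rfl⟩
    rw [← map_mul, ← map_mul]
    congr 1
    exact Subtype.ext (mem_centralizer_iff.1 hc t (hUT ht))
  obtain ⟨k, hk⟩ := hx
  obtain ⟨e⟩ := core ((U.subgroupOf L).map π) ((P.subgroupOf L).map π) (π ⟨x, hxL⟩) (π ⟨y, hPL hy⟩)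
    ((hUp.comap_subtype).map π) ((hP.comap_subtype).map π)
    ⟨k, by rw [← map_pow, show (⟨x, hxL⟩ : L) ^ 2 ^ k = 1 from Subtype.ext hk, map_one]⟩
    (mem_normalizer_of_conj_mem (by
      rintro _ ⟨g, hg, rfl⟩
      exact ⟨⟨x, hxL⟩ * g * ⟨x, hxL⟩⁻¹, conj_mem_of_mem_normalizer hxP hg, by simp⟩))
    ⟨_, hy, rfl⟩
    (by
      rintro _ ⟨g, hg, rfl⟩
      obtain ⟨i, hi⟩ := h1 g hg
      exact ⟨i, by
        rw [← map_pow π, ← map_inv π, ← map_mul π]; exact hcen _ hi⟩)
    (by rw [← map_pow π]; exact hcen _ h2)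
    (by simpa only [map_mul, map_inv, map_pow] using hcen (⟨x, hxL⟩ * ⟨y, hPL hy⟩ * ⟨x, hxL⟩⁻¹ * ⟨y, hPL hy⟩) h3)
    (fun h => k3 (commutator_zpowers_left_le (k2 (hPL hy)) fun t ht => by
      have := mem_centralizer_iff.1 h (π ⟨t, hUL ht⟩) ⟨_, ht, rfl⟩
      have h5 : π ((⟨y, hPL hy⟩ : L) * ⟨t, hUL ht⟩ * ⟨y, hPL hy⟩⁻¹ * ⟨t, hUL ht⟩⁻¹) = 1 := by
        simp only [map_mul, map_inv]
        rw [← this]; group
      exact mem_subgroupOf.1 ((QuotientGroup.eq_one_iff _).1 h5)))
    (fun J hJ h0 => by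
      have hn : L ≤ normalizer (((J.comap π).map L.subtype : Subgroup G) : Set G) :=
        (normal_iff_map_subtype _).1 (hJ.comap π)
      have hKJ : K ≤ (J.comap π).map L.subtype := fun c hc => ⟨⟨c, k1 hc⟩, by
        have : π ⟨c, k1 hc⟩ = 1 := (QuotientGroup.eq_one_iff _).2 hc
        change π _ ∈ J
        rw [this]; exact one_mem _, rfl⟩
      have h5 : ⁅zpowers y, U⁆ ≤ (J.comap π).map L.subtype := by
        by_contra h5
        have := hK _ ⟨map_subtype_le _, hn, h5⟩ hKJ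
        apply h0
        rw [eq_bot_iff]
        intro j hj
        obtain ⟨c, rfl⟩ := hπs j
        have : (c : G) ∈ K := this ▸ ⟨c, hj, rfl⟩
        exact mem_bot.2 ((QuotientGroup.eq_one_iff _).2 this)
      have h6 := hU (U ⊓ (J.comap π).map L.subtype) ⟨le_normalizer_inf u1 (hPL.trans hn),
        le_normalizer_inf (zpowers_le.2 u2) (zpowers_le.2 (hn hxL)) (mem_zpowers x), fun h => u3
          (Solv.coprime_le_centralizer_of_commutator_le (A := zpowers y) (K := U)
            (N := U ⊓ (J.comap π).map L.subtype)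
            (coprime_of_isPGroup (hP.to_le (zpowers_le.2 hy))
              (coprime_of_isPGroup_of_ne (by decide) hUp.to_inf_left))
            (le_inf (commutator_le_left_of_le_normalizer ((zpowers_le.2 hy).trans u1))
              (by rw [Subgroup.commutator_comm]; exact h5)) (zpowers_le.2 h) (mem_zpowers y))⟩ inf_le_left
      rintro _ ⟨t, ht, rfl⟩
      obtain ⟨c, hc, hc'⟩ := (h6.ge ht).2
      rwa [← show c = t from Subtype.ext hc'])
    (by
      rw [← MonoidHom.map_zpowers, ← Subgroup.map_sup, ← Subgroup.map_sup, eq_comm, ← map_top_of_surjective π hπs]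
      congr 1
      apply map_injective L.subtype_injective
      rw [Subgroup.map_sup, Subgroup.map_sup, map_subgroupOf_eq_of_le hUL, map_subgroupOf_eq_of_le hPL,
        MonoidHom.map_zpowers, map_subtype_top]
      rfl)
  exact Fusion.involves_iff.2 ⟨L, e.toMonoidHom.comp π, e.surjective.comp hπs⟩
def V4 : Subgroup (Equiv.Perm (Fin 4)) where
  carrier := {σ | σ * σ = 1 ∧ Equiv.Perm.sign σ = 1}
  one_mem' := by simp
  mul_mem' := fun {a b} => (by decide +kernel : ∀ a b : Equiv.Perm (Fin 4), a * a = 1 ∧ Equiv.Perm.sign a = 1 →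
    b * b = 1 ∧ Equiv.Perm.sign b = 1 → a * b * (a * b) = 1 ∧ Equiv.Perm.sign (a * b) = 1) a b
  inv_mem' := fun {a} h => ⟨by rw [← mul_inv_rev, h.1, inv_one], by simpa using h.2⟩
theorem V4_normal : V4.Normal := ⟨fun a h g => ⟨by
  rw [show g * a * g⁻¹ * (g * a * g⁻¹) = g * (a * a) * g⁻¹ by group, h.1]; simp, by
  rw [map_mul, map_mul, h.2]; simp⟩⟩
theorem V4_self : ∀ σ : Equiv.Perm (Fin 4), (∀ τ : Equiv.Perm (Fin 4), τ * τ = 1 ∧ Equiv.Perm.sign τ = 1 →
    τ * σ = σ * τ) → σ * σ = 1 ∧ Equiv.Perm.sign σ = 1 := by decide +kernel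
theorem S3_inv : ∀ σ : Equiv.Perm (Fin 3), σ * σ = 1 → Equiv.Perm.sign σ = 1 → σ = 1 := by decide +kernel
theorem D3_S3 : Involves (DihedralGroup 3) (Equiv.Perm (Fin 3)) :=
  haveI : Fact (Nat.Prime 3) := ⟨Nat.prime_three⟩
  haveI : Fact (Nat.Prime 2) := ⟨Nat.prime_two⟩
  (S2758.result (p := 3) (by decide)).2.2 ⟨Equiv.swap 0 1, Equiv.swap 0 1 * Equiv.swap 1 2,
    ⟨1, orderOf_eq_prime (by decide) (by decide)⟩, ⟨1, orderOf_eq_prime (by decide) (by decide)⟩,
    by decide, by decide⟩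

/-- For a finite group G, the symmetric group of degree 4 is involved in G if and only if there is a 2-subgroup T of G such that the symmetric group of degree 3 is involved in N(T)/C(T). -/
theorem result {G : Type*} [Group G] [Finite G] : Cfsg.Involves (Equiv.Perm (Fin 4)) G ↔ ∃ T : Subgroup G, IsPGroup 2 ↥T ∧ Cfsg.Involves (Equiv.Perm (Fin 3)) (↥(Subgroup.normalizer (T : Set G)) ⧸ (Subgroup.centralizer (T : Set G)).subgroupOf (Subgroup.normalizer (T : Set G))) := by
  classical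
  haveI : Fact (Nat.Prime 2) := ⟨Nat.prime_two⟩
  haveI : Fact (Nat.Prime 3) := ⟨Nat.prime_three⟩
  constructor
  · intro h
    obtain ⟨K, φ, hφ⟩ := Fusion.involves_iff.1 h
    haveI := V4_normal
    have hV : IsPGroup 2 V4 := fun g => ⟨1, Subtype.ext (by simpa [pow_two] using g.2.1)⟩
    obtain ⟨T, hT⟩ := exists_sylIn 2 (V4.comap φ)
    have h1 := hT.map φ
    rw [map_comap_eq_self_of_surjective hφ] at h1
    have h2 : T.map φ = V4 := h1.eq_of_le (sylIn_self hV) h1.1
    have h3 := hT.frattini (M := ⊤) le_top (le_normalizer_normal _ _)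
    rw [top_inf_eq] at h3
    refine ⟨T.map K.subtype, hT.2.map _, ?_⟩
    set T' := T.map K.subtype with hT'
    let j : normalizer (T : Set K) →* normalizer (T' : Set G) :=
      (K.subtype.comp (normalizer (T : Set K)).subtype).codRestrict _ fun n =>
        map_le_normalizer_map K.subtype le_rfl ⟨n, n.2, rfl⟩
    let f := (QuotientGroup.mk' ((centralizer (T' : Set G)).subgroupOf (normalizer (T' : Set G)))).comp j
    let g := ((QuotientGroup.mk' V4).comp φ).comp (normalizer (T : Set K)).subtype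
    have hg : Function.Surjective g := by
      intro q
      obtain ⟨s, rfl⟩ := QuotientGroup.mk'_surjective V4 q
      obtain ⟨s, rfl⟩ := hφ s
      obtain ⟨m, hm, n, hn, rfl⟩ := (mem_sup_of_le_normalizer' (le_normalizer_normal _ _)).1 (h3.ge (mem_top s))
      refine ⟨⟨n, hn⟩, ?_⟩
      have : QuotientGroup.mk' V4 (φ m) = 1 := (QuotientGroup.eq_one_iff _).2 hm
      rw [map_mul, map_mul, this, one_mul]; rfl
    have hfg : f.rangeRestrict.ker ≤ g.ker := by
      intro n hn
      rw [MonoidHom.ker_rangeRestrict] at hn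
      have h4 : ((n : K) : G) ∈ centralizer (T' : Set G) :=
        mem_subgroupOf.1 ((QuotientGroup.eq_one_iff (j n)).1 (MonoidHom.mem_ker.1 hn))
      refine (QuotientGroup.eq_one_iff _).2 (V4_self _ fun τ hτ => ?_)
      obtain ⟨t, ht, rfl⟩ : τ ∈ T.map φ := h2 ▸ hτ
      change φ t * φ n = φ n * φ t
      rw [← map_mul, ← map_mul]
      congr 1
      exact Subtype.ext (mem_centralizer_iff.1 h4 t ⟨t, ht, rfl⟩)
    have i1 : Involves (Equiv.Perm (Fin 4) ⧸ V4) (normalizer (T' : Set G) ⧸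
        (centralizer (T' : Set G)).subgroupOf (normalizer (T' : Set G))) := by
      refine Fusion.involves_iff.2 ⟨f.range, f.rangeRestrict.liftOfSurjective f.rangeRestrict_surjective ⟨g, hfg⟩,
        fun q => ?_⟩
      obtain ⟨n, rfl⟩ := hg q
      exact ⟨f.rangeRestrict n, MonoidHom.liftOfRightInverse_comp_apply _ _ _ _ _⟩
    refine Fusion.Involves.trans ?_ i1
    let ι := Equiv.Perm.extendDomainHom (finSuccAboveEquiv (Fin.last 3))
    refine Fusion.Involves.of_injective Fusion.involves_refl ((QuotientGroup.mk' V4).comp ι)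
      ((injective_iff_map_eq_one _).2 fun σ hσ => ?_)
    have h5 : ι σ ∈ V4 := (QuotientGroup.eq_one_iff _).1 hσ
    refine S3_inv σ (Equiv.Perm.extendDomainHom_injective _ (by rw [map_mul, map_one]; exact h5.1)) ?_
    rw [← Equiv.Perm.sign_extendDomain σ (finSuccAboveEquiv (Fin.last 3))]
    exact h5.2
  · rintro ⟨T, hT, h⟩
    set N := normalizer (T : Set G) with hN
    obtain ⟨xb, y0, -, ⟨m, hm⟩, hy1, hxy⟩ :=
      (S2758.result (p := 3) (by decide)).2.1 (Fusion.Involves.trans D3_S3 h)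
    have hd : 3 ∣ orderOf y0 := by
      rcases m with _ | m
      · exact absurd (orderOf_eq_one_iff.1 (by simpa using hm)) hy1
      · rw [hm]; exact dvd_pow_self 3 (Nat.succ_ne_zero m)
    have ho := orderOf_pow_orderOf_div (orderOf_pos y0).ne' hd
    have hxy' : xb * y0 ^ (orderOf y0 / 3) * xb⁻¹ = (y0 ^ (orderOf y0 / 3))⁻¹ := by
      rw [← conj_pow, hxy, inv_pow]
    generalize y0 ^ (orderOf y0 / 3) = yb at ho hxy'
    set f := QuotientGroup.mk' ((centralizer (T : Set G)).subgroupOf N) with hf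
    have hfs : Function.Surjective f := QuotientGroup.mk'_surjective _
    haveI : (T.subgroupOf N).Normal := normal_subgroupOf_of_le_normalizer le_rfl
    have hker : ∀ c : N, c ∈ centralizer ((T.subgroupOf N : Subgroup N) : Set N) ↔ f c = 1 := by
      intro c
      refine Iff.trans ?_ (QuotientGroup.eq_one_iff c).symm
      rw [mem_subgroupOf, mem_centralizer_iff, mem_centralizer_iff]
      exact ⟨fun h t ht => congrArg Subtype.val (h ⟨t, le_normalizer ht⟩ ht), fun h t ht => Subtype.ext (h t ht)⟩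
    obtain ⟨P, hP⟩ := exists_sylIn 3 ((zpowers yb).comap f)
    have h1 := hP.map f
    rw [map_comap_eq_self_of_surjective hfs] at h1
    have h2 : P.map f = zpowers yb := h1.eq_of_le (sylIn_self (isPGroup_zpowers_of_orderOf_eq ho)) h1.1
    have h3 := hP.frattini le_normalizer le_rfl
    obtain ⟨x0, rfl⟩ := hfs xb
    have hx0 : x0 ∈ normalizer (((zpowers yb).comap f : Subgroup N) : Set N) :=
      mem_normalizer_of_conj_mem fun c hc => by
        obtain ⟨i, hi⟩ := hc
        rw [mem_comap, map_mul, map_mul, map_inv, ← hi]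
        beta_reduce
        rw [← conj_zpow, hxy']
        exact zpow_mem (inv_mem (mem_zpowers yb)) i
    obtain ⟨c, ⟨i, hi⟩, n, hn, rfl⟩ := (mem_sup_of_le_normalizer' inf_le_left).1 (h3.ge hx0)
    have hn' : f n * yb * (f n)⁻¹ = yb⁻¹ := by
      rw [map_mul, ← hi] at hxy'
      calc _ = (yb ^ i)⁻¹ * (yb ^ i * f n * yb * (yb ^ i * f n)⁻¹) * yb ^ i := by group
        _ = _ := by rw [hxy']; group
    obtain ⟨a, ha, b, ⟨j, hj⟩, hab, hk, hbo⟩ := Transfer.exists_pPart 2 n
    have hb : Commute (f b) yb := by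
      have e1 : Commute (f n ^ 2) yb := by
        have : f n * yb⁻¹ * (f n)⁻¹ = yb := by rw [← conj_inv, hn', inv_inv]
        calc f n ^ 2 * yb = f n * (f n * yb * (f n)⁻¹) * (f n)⁻¹ * f n ^ 2 := by rw [pow_two]; group
          _ = _ := by rw [hn', this]
      obtain ⟨l, hl⟩ : b ∈ zpowers (b ^ 2) := mem_zpowers_pow_iff.2 hbo.symm
      rw [← hl, ← hj]
      simp only [map_zpow, map_pow]
      refine Commute.zpow_left ?_ l
      rw [← zpow_natCast, ← zpow_mul, mul_comm, zpow_mul, zpow_natCast]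
      exact e1.zpow_left j
    have ha' : f a * yb * (f a)⁻¹ = yb⁻¹ := by
      rw [hab, map_mul] at hn'
      rw [← hn', mul_assoc (f a) (f b), hb.eq]; group
    obtain ⟨y, hy, rfl⟩ : yb ∈ P.map f := h2 ▸ mem_zpowers yb
    refine Fusion.Involves.of_injective (mid (T.subgroupOf N) P a y hT.comap_subtype hP.2 hk
      (zpowers_le.2 hn.2 ha) hy (fun g hg => ?_) ?_ ?_ ?_) N.subtype N.subtype_injective
    · obtain ⟨i, hi⟩ := mem_powers_iff_mem_zpowers.2 (h2.le ⟨g, hg, rfl⟩)
      exact ⟨i, (hker _).2 (by rw [map_mul, map_inv, map_pow, ← hi]; simp)⟩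
    · exact (hker _).2 (by rw [map_pow, ← ho, pow_orderOf_eq_one])
    · exact (hker _).2 (by rw [map_mul, map_mul, map_mul, map_inv, ha', inv_mul_cancel])
    · intro h
      rw [(hker _).1 h, orderOf_one] at ho
      omega

end Cfsg.Agent.S2759
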