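import Cfsg.Statements.S2762
import Cfsg.Agent.Lib.Fusion.Qd2

set_option autoImplicit false
open Cfsg

namespace Cfsg.Agent.S2762

open Subgroup Qd Transfer Matrix

/-- Structure of Qd over a finite field F of characteristic p (the affine subgroup of SL₃(F)): its largest normal p-subgroup is the group of translations (matrices with upper-left block the identity), the block-diagonal matrices form a complement isomorphic to SL₂(F), and the translation subgroup is a natural SL₂(F)-module for that complement. -/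
theorem result {F : Type*} [Field F] [Fintype F] {p : ℕ} [Fact p.Prime] [CharP F p] : (∀ M : ↥(Cfsg.qdOver F), M ∈ Cfsg.pCore p ↥(Cfsg.qdOver F) ↔ ((M : Matrix.SpecialLinearGroup (Fin 3) F) : Matrix (Fin 3) (Fin 3) F) 0 0 = 1 ∧ ((M : Matrix.SpecialLinearGroup (Fin 3) F) : Matrix (Fin 3) (Fin 3) F) 0 1 = 0 ∧ ((M : Matrix.SpecialLinearGroup (Fin 3) F) : Matrix (Fin 3) (Fin 3) F) 1 0 = 0 ∧ ((M : Matrix.SpecialLinearGroup (Fin 3) F) : Matrix (Fin 3) (Fin 3) F) 1 1 = 1) ∧ ∃ K : Subgroup ↥(Cfsg.qdOver F), (∀ M : ↥(Cfsg.qdOver F), M ∈ K ↔ ((M : Matrix.SpecialLinearGroup (Fin 3) F) : Matrix (Fin 3) (Fin 3) F) 0 2 = 0 ∧ ((M : Matrix.SpecialLinearGroup (Fin 3) F) : Matrix (Fin 3) (Fin 3) F) 1 2 = 0) ∧ K ⊓ Cfsg.pCore p ↥(Cfsg.qdOver F) = ⊥ ∧ K ⊔ Cfsg.pCore p ↥(Cfsg.qdOver F) = ⊤ ∧ Nonempty (↥K ≃* Matrix.SpecialLinearGroup (Fin 2) F) ∧ Cfsg.IsNaturalSL2Module F (Cfsg.pCore p ↥(Cfsg.qdOver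 F)) K := by
  rw [pCore_qd]
  have h0 : ∀ A B : SL2 F, mkQ (A * B) 0 = mkQ A 0 * mkQ B 0 := fun A B => by
    rw [mkQ_mul, mulVec_zero, add_zero]
  let K : Subgroup (qdOver F) := (MonoidHom.mk' (fun A : SL2 F => mkQ A 0) h0).range
  have hK : ∀ A v, mkQ A v ∈ K ↔ v = 0 := fun A v =>
    ⟨fun ⟨_, e⟩ => (mkQ_inj.1 e).2.symm, fun e => ⟨A, mkQ_inj.2 ⟨rfl, e.symm⟩⟩⟩
  have hV : ∀ A v, mkQ A v ∈ (lin (F := F)).ker ↔ A = 1 := fun A v => by
    rw [MonoidHom.mem_ker, lin_mkQ]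
  have hb : K ⊓ lin.ker = ⊥ := eq_bot_iff.2 fun M hM => by
    obtain ⟨A, v, rfl⟩ := mkQ_surj M
    rw [(hK A v).1 hM.1, (hV A v).1 hM.2, mkQ_one]; exact one_mem _
  have hi : Function.Injective (lin.comp K.subtype) := (injective_iff_map_eq_one _).2 fun a ha =>
    Subtype.ext (hb.le ⟨a.2, ha⟩)
  have hs : Function.Surjective (lin.comp K.subtype) := fun A => ⟨⟨mkQ A 0, A, rfl⟩, lin_mkQ⟩
  let ψ : (Fin 2 → F) →+ Additive (lin (F := F)).ker := AddMonoidHom.mk' (fun v =>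
    Additive.ofMul ⟨mkQ 1 v, (hV _ _).2 rfl⟩) fun v w =>
      congrArg Additive.ofMul (Subtype.ext tr_mul.symm)
  have hψ : Function.Bijective ψ := ⟨fun v w e => (mkQ_inj.1 (congrArg Subtype.val e)).2,
    fun ⟨M, hM⟩ => by
      obtain ⟨A, v, rfl⟩ := mkQ_surj M
      obtain rfl := (hV _ _).1 hM
      exact ⟨v, rfl⟩⟩
  refine ⟨fun M => ?_, K, fun M => ?_, hb, eq_top_iff.2 fun M _ => ?_,
    ⟨MulEquiv.ofBijective _ ⟨hi, hs⟩⟩, le_normalizer_of_normal, lin.comp K.subtype,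
    (AddEquiv.ofBijective ψ hψ).symm, hs, ?_, ?_⟩
  · obtain ⟨A, v, rfl⟩ := mkQ_surj M
    rw [hV, coe_mkQ]
    exact ⟨fun h => by simp [h], fun h => sl2_ext h.1 h.2.1 h.2.2.1 h.2.2.2⟩
  · obtain ⟨A, v, rfl⟩ := mkQ_surj M
    rw [hK, coe_mkQ]
    exact ⟨fun h => by simp [h], fun h => by ext i; fin_cases i; exacts [h.1, h.2]⟩
  · obtain ⟨A, v, rfl⟩ := mkQ_surj M
    rw [show mkQ A v = mkQ 1 v * mkQ A 0 by rw [mkQ_mul, mulVec_zero, add_zero, one_mul]]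
    exact mul_mem (mem_sup_right ((hV _ _).2 rfl)) (mem_sup_left ((hK _ _).2 rfl))
  · ext x
    refine ⟨fun h => ?_, fun h => cc_ker_le h⟩
    rw [(injective_iff_map_eq_one _).1 hi x h]; exact one_mem _
  · rintro ⟨_, A, rfl⟩ ⟨M, hM⟩
    obtain ⟨B, v, rfl⟩ := mkQ_surj M
    obtain rfl := (hV _ _).1 hM
    refine ⟨⟨_, (hV _ _).2 rfl⟩, mkQ_conj.symm, ?_⟩
    exact ((AddEquiv.ofBijective ψ hψ).symm_apply_apply _).trans
      (congrArg₂ (fun (A : SL2 F) v => A.1 *ᵥ v) (lin_mkQ (v := 0)).symm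
        ((AddEquiv.ofBijective ψ hψ).symm_apply_apply v).symm)

end Cfsg.Agent.S2762
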