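import Cfsg.Statements.S2772
import Cfsg.Agent.Lib.Fusion.Sims
import Cfsg.Agent.S0144

set_option autoImplicit false
open Cfsg

namespace Cfsg.Agent.S2772

open Subgroup Cfsg.Agent.Transfer Cfsg.Agent.MS Cfsg.Agent.NG Cfsg.Agent.Sims

/-- Sims' Theorem in local form: let H be a finite non-abelian simple group and G a maximal subgroup of H with C_G(O₂(G)) ≤ O₂(G), such that N_H(S) is not contained in G for a Sylow 2-subgroup S of G and G/O₂(G) is dihedral of order 2q for a prime q. Then G is isomorphic to the symmetric group of degree 4 or to its direct product with a group of order 2. -/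
theorem result {H : Type*} [Group H] [Finite H] [IsSimpleGroup H] (hna : ¬ IsMulCommutative H) (G : Subgroup H) (hG : IsCoatom G) (hchar : Subgroup.centralizer (Cfsg.pCore 2 ↥G : Set ↥G) ≤ Cfsg.pCore 2 ↥G) (S : Sylow 2 ↥G) (hN : ¬ Subgroup.normalizer (((S : Subgroup ↥G).map G.subtype : Subgroup H) : Set H) ≤ G) (q : ℕ) (hq : q.Prime) (hD : Nonempty (↥G ⧸ Cfsg.pCore 2 ↥G ≃* DihedralGroup q)) : Nonempty (↥G ≃* Equiv.Perm (Fin 4)) ∨ Nonempty (↥G ≃* Equiv.Perm (Fin 4) × Multiplicative (ZMod 2)) := by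
  have hs := isSyl_map_subtype S
  generalize (S : Subgroup G).map G.subtype = D at *
  obtain ⟨g, g1, g2⟩ := SetLike.not_le_iff_exists.1 hN
  have i1 : (Q2 G).relIndex G = 2 * q := by
    rw [← map_pCore, relIndex, subgroupOf, comap_map_eq_self_of_injective G.subtype_injective, index,
      Nat.card_congr hD.some.toEquiv, DihedralGroup.nat_card]
  have hc : G ⊓ CC (Q2 G) ≤ Q2 G := fun x hx => by
    rw [← map_pCore] at hx ⊢
    exact ⟨⟨x, hx.1⟩, hchar (mem_cc_map_subtype.1 hx.2), rfl⟩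
  have i2 : D.relIndex G = q := by
    have a1 : D.relIndex G ∣ 2 * q := i1 ▸ relIndex_dvd_of_le_left G (O_le_syl hs)
    refine ((Nat.dvd_prime hq).1 (((Nat.prime_two.coprime_iff_not_dvd).2 hs.not_dvd).symm.dvd_of_dvd_mul_left
      a1)).resolve_left fun e => ?_
    rw [relIndex_eq_one.2 (le_Q2 le_rfl (le_nn G) (hs.pgroup.to_le (relIndex_eq_one.1 e)))] at i1
    omega
  have g0 : G ≠ ⊥ := fun e => by
    rw [e, relIndex_bot_right] at i2; exact hq.ne_one i2.symm
  have hcore : G.normalCore = ⊥ := (IsSimpleGroup.eq_bot_or_eq_top_of_normal _ inferInstance).resolve_right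
    fun e => hG.1 (top_le_iff.1 (e.ge.trans G.normalCore_le))
  have hp := TW.pair_of hG hcore g fun e => g2 (TW.max_nm hG hcore G le_rfl g0 (le_nn G)
    (mem_normalizer_iff_cj.2 e.symm))
  have t : TP G D g := ⟨hs, cj_nn g1, fun K a b c => hp.bot (a.trans hs.le) b c⟩
  have d0 : D ≠ ⊥ := fun e => g0 (by
    rw [le_bot_iff.1 ((O_le_syl hs).trans e.le), cc_bot, inf_top_eq, le_bot_iff] at hc; exact hc)
  have z1 := Zs_le_OZ hc
  have z2 : G ⊓ CC (Zs G) ≤ Q2 G := by
    refine le_Q2 inf_le_left (nn_inf (le_nn _) (nn_cc (nn_Zs G))) (hs.pgroup.to_le (by_contra fun e => t.nz d0 ?_))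
    exact (sup_eq_of_prime hs.le (i2 ▸ hq) inf_le_left e).ge.trans
      (sup_le (inf_le_right.trans (cc_anti (OZ_le_Zs hs))) (cc_symm (OZ_cc D)))
  obtain ⟨k, hk⟩ := hs.pgroup.exists_card_eq
  have c1 := card_mul_relIndex hs.le
  rw [hk, i2] at c1
  have tf : TF 2 (Zs G) G := ⟨elem_mono (OZ_elem _) z1, (z1.trans (NG.OZ_le _)).trans (O_le _ _), nn_Zs G,
    Comp.pSol_of_isSolvable (S0144.result 2 q k 1 Nat.prime_two hq (by rw [pow_one, c1])), fun E e1 e2 e3 =>
      (le_Q2 e1 e2 (isPGroup_of_forall_mem fun x hx => by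
        obtain ⟨i, hi⟩ := e3 x hx
        obtain ⟨j, hj⟩ := O_pg (p := 2) G ⟨_, z2 ⟨pow_mem (e1 hx) _, hi⟩⟩
        exact ⟨i + j, by rw [pow_add, pow_mul]; exact congrArg Subtype.val hj⟩)).trans
        (cc_symm (z1.trans (OZ_cc _)))⟩
  obtain ⟨-, W, E, -, e1, -, -, f, hf, -⟩ := tf.exists_WD (X := ⊥) bot_le bot_le (by simp) inferInstance fun e => by
    have a1 : JJ D = JJ G := J_eq_of_le (((le_inf (J_le G) e).trans z2).trans (O_le_syl hs)) hs.le
    exact J_ne_bot (Or.inl rfl) hs.pgroup d0 (t.inv (J_le D) (a1 ▸ (le_nn G).trans (normalizer_le_normalizer_J G))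
      (by rw [cj_J, t.nd]))
  have a3 : 3 ∣ 2 ^ k * q := by
    have := card_dvd_of_surjective f hf
    rw [card_sl2_zmod] at this
    exact c1 ▸ ((by decide : 3 ∣ 2 * (2 + 1) * (2 - 1)).trans this).trans (card_dvd (e1.trans inf_le_left))
  have a4 : 3 = q := (Nat.prime_dvd_prime_iff_eq Nat.prime_three hq).1
    ((Nat.Coprime.pow_right k (by norm_num)).dvd_of_dvd_mul_left a3)
  exact t.s4 (by rw [i1, ← a4]) hc

end Cfsg.Agent.S2772
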