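import Cfsg.Statements.S2787
import Cfsg.Agent.Lib.Transfer.Quad
import Cfsg.Agent.Lib.Comp.CharL
import Cfsg.Agent.Lib.Solv.Cores
import Cfsg.Agent.S0016
import Cfsg.Agent.S1157

set_option autoImplicit false
open Cfsg

namespace Cfsg.Agent.S2787
section
open Pointwise commutatorElement Subgroup Cfsg.Agent.Solv
open Cfsg.Agent.Transfer in
theorem main {G Y : Type*} [Group G] [Finite G] [Group Y] [Finite Y] {p : ℕ} [Fact p.Prime] (hp : p ≠ 2) (V H : Subgroup G)
    (hV : IsPGroup p V) (hHV : H ≤ normalizer (V : Set G))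
    (hirr : ∀ U : Subgroup G, U ≤ V → H ≤ normalizer (U : Set G) → U = ⊥ ∨ U = V)
    (θ : H →* Y) (hθ : Function.Surjective θ) (hk : ∀ h : H, θ h = 1 ↔ (h : G) ∈ centralizer (V : Set G))
    (hY : ∀ T : Subgroup Y, IsPGroup 2 T → ∀ x ∈ T, ∀ y ∈ T, x * y = y * x ∨ x * x = 1 ∨ y * y = 1)
    (a : G) (ha : a ∈ H) (hq : ⁅⁅V, zpowers a⁆, zpowers a⁆ = ⊥) : a ∈ centralizer (V : Set G) := by
  haveI : Fact (Nat.Prime 2) := ⟨Nat.prime_two⟩
  have h0 : θ ⟨a, ha⟩ ∈ pCore p Y := by
    refine mem_pCore_of_pairs fun y => ?_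
    obtain ⟨g, rfl⟩ := hθ y
    have hb : (g : G) * a * (g : G)⁻¹ ∈ H := mul_mem (mul_mem g.2 ha) (inv_mem g.2)
    have h1 : closure {a, g * a * (g : G)⁻¹} ≤ H := (closure_le _).2 (by
      rintro _ (rfl | rfl)
      exacts [ha, hb])
    have m1 : a ∈ closure {a, g * a * (g : G)⁻¹} := subset_closure (by simp)
    have m2 : g * a * (g : G)⁻¹ ∈ closure {a, g * a * (g : G)⁻¹} := subset_closure (by simp)
    have htop := closure_pair_subgroupOf m1 m2 rfl
    have h2 : res p (closure {a, g * a * (g : G)⁻¹}) ≤ centralizer (V : Set G) := by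
      by_contra hn
      obtain ⟨K, _, _, _, μ, φ, hμ, e1, e2, e3⟩ := exists_sl2_of_quadratic hV (h1.trans hHV) m1 m2 rfl hq
        (quad_cj (hHV g.2) hq) hn
      let T : Sylow 2 (closure {a, g * a * (g : G)⁻¹} : Subgroup G) := default
      refine sl2_not_abelian_sylow hp φ.range.subtype (a := φ.rangeRestrict ⟨_, m1⟩) (b := φ.rangeRestrict ⟨_, m2⟩)
        (by rw [← Set.image_pair, ← MonoidHom.map_closure, htop, map_top_of_surjective _ φ.rangeRestrict_surjective])
        hμ e1 e2 (T.mapSurjective φ.rangeRestrict_surjective) ⟨⟨?_⟩⟩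
      rintro ⟨_, s, hs, rfl⟩ ⟨_, t, ht, rfl⟩
      refine Subtype.ext (Subtype.ext ?_)
      change φ s * φ t = φ t * φ s
      have h2 := two_ne_zero_of_char (K := K) hp
      rcases hY _ (T.2.map (θ.comp (inclusion h1))) _ ⟨s, hs, rfl⟩ _ ⟨t, ht, rfl⟩ with h | h | h
      · have := e3 (s * t * s⁻¹ * t⁻¹) ((hk (inclusion h1 (s * t * s⁻¹ * t⁻¹))).1 (by
          change (θ.comp (inclusion h1)) _ = 1
          rw [map_mul, map_mul, map_mul, h, map_inv, map_inv]; group))
        rw [map_mul, map_mul, map_mul, map_inv, map_inv] at this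
        exact commutatorElement_eq_one_iff_mul_comm.1 this
      · have := e3 (s * s) ((hk (inclusion h1 (s * s))).1 (by rw [← h, ← map_mul]; rfl))
        rw [map_mul] at this
        exact (mem_center_iff.1 (sl2_mem_center_of_mul_self h2 this) _).symm
      · have := e3 (t * t) ((hk (inclusion h1 (t * t))).1 (by rw [← h, ← map_mul]; rfl))
        rw [map_mul] at this
        exact mem_center_iff.1 (sl2_mem_center_of_mul_self h2 this) _
    have h3 : IsPGroup p ((⊤ : Subgroup (closure {a, g * a * (g : G)⁻¹} : Subgroup G)).map (θ.comp (inclusion h1))) :=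
      (isPGroup_map_iff_res_le _).2 (res_le_iff.2 fun x _ hx => (hk (inclusion h1 x)).2
        (res_le_iff.1 h2 x x.2 (by rwa [orderOf_coe])))
    refine h3.to_le ((closure_le _).2 ?_)
    rintro _ (rfl | rfl)
    · exact ⟨⟨_, m1⟩, mem_top _, rfl⟩
    · exact ⟨⟨_, m2⟩, mem_top _, by rw [← map_inv, ← map_mul, ← map_mul]; rfl⟩
  by_cases hV0 : V = ⊥
  · rw [hV0, mem_centralizer_iff]; intro v hv; rw [mem_bot.1 hv, one_mul, mul_one]
  let Q : Subgroup G := ((pCore p Y).comap θ).map H.subtype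
  let P : Sylow p H := default
  have hQn : H ≤ normalizer (Q : Set G) := by
    have := le_normalizer_map (H := (pCore p Y).comap θ) H.subtype
    rwa [normalizer_eq_top, ← MonoidHom.range_eq_map, range_subtype] at this
  have hD : V ⊓ centralizer (((P : Subgroup H).map H.subtype : Subgroup G) : Set G) ≤ V ⊓ centralizer (Q : Set G) := by
    refine fun v hv => ⟨hv.1, mem_centralizer_iff.2 ?_⟩
    rintro _ ⟨q, hq, rfl⟩
    obtain ⟨x, hx, e⟩ := Solv.pCore_le_sylow (P.mapSurjective hθ) hq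
    have c1 : Commute (x : G) v := mem_centralizer_iff.1 hv.2 _ ⟨x, hx, rfl⟩
    have c2 : Commute ((x : G)⁻¹ * q) v := (mem_centralizer_iff.1 ((hk (x⁻¹ * q)).1 (by
      rw [map_mul, map_inv, e, inv_mul_cancel])) v hv.1).symm
    have := c1.mul_left c2
    rwa [mul_inv_cancel_left] at this
  rcases hirr (V ⊓ centralizer (Q : Set G)) inf_le_left
    ((le_inf hHV (hQn.trans (Solv.normalizer_le_normalizer_centralizer Q))).trans inf_normalizer_le_normalizer_inf) with h | h
  · exact absurd (le_bot_iff.1 (h ▸ hD)) (Comp.inf_centralizer_ne_bot (P.2.map _) hV ((map_subtype_le _).trans hHV) hV0)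
  · exact le_centralizer_iff.1 (h.ge.trans inf_le_right) ⟨⟨a, ha⟩, h0, rfl⟩

open Cfsg.Agent.Transfer in
theorem psl {F : Type} [Field F] [Fintype F] (h2 : (2 : F) ≠ 0) (T : Subgroup (Matrix.ProjectiveSpecialLinearGroup (Fin 2) F))
    (hT : IsPGroup 2 T) : ∀ x ∈ T, ∀ y ∈ T, x * y = y * x ∨ x * x = 1 ∨ y * y = 1 := by
  haveI : Fact (Nat.Prime 2) := ⟨Nat.prime_two⟩
  intro x hx y hy
  obtain ⟨x, rfl⟩ := QuotientGroup.mk'_surjective _ x
  obtain ⟨y, rfl⟩ := QuotientGroup.mk'_surjective _ y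
  let R := T.comap (QuotientGroup.mk' (center (SL2 F)))
  have hR : IsPGroup 2 R := hT.comap_of_ker_isPGroup _ (by
    rw [QuotientGroup.ker_mk']
    intro z
    refine ⟨1, Subtype.ext (Subtype.ext ?_)⟩
    obtain ⟨r, hr, e⟩ := Matrix.SpecialLinearGroup.mem_center_iff.1 z.2
    change z.1.1 ^ 2 ^ 1 = 1
    rw [← e, ← map_pow, pow_one]
    simp only [Fintype.card_fin] at hr
    rw [hr, map_one])
  have key : ∀ A : Subgroup R, Nat.card A = 2 → ∃ u : R, u ≠ 1 ∧ u * u = 1 ∧ A = zpowers u := fun A hA => by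
    obtain ⟨u, hu⟩ := exists_prime_orderOf_dvd_card' (G := A) 2 hA.symm.dvd
    have hu' : orderOf (u : R) = 2 := by rw [orderOf_coe, hu]
    refine ⟨u, fun h => by rw [h, orderOf_one] at hu'; omega, by have := pow_orderOf_eq_one (u : R); rwa [hu', sq] at this, ?_⟩
    exact (eq_of_le_of_card_ge (zpowers_le.2 u.2) (by rw [Nat.card_zpowers, hu', hA])).symm
  have sq4 : ∀ w : R, w ^ 4 = 1 → QuotientGroup.mk' (center (SL2 F)) w * QuotientGroup.mk' (center (SL2 F)) w = 1 := fun w hw => by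
    rw [← map_mul, QuotientGroup.mk'_apply, QuotientGroup.eq_one_iff]
    refine sl2_mem_center_of_mul_self h2 ?_
    have := congrArg Subtype.val hw
    rw [← (show (w : SL2 F) ^ 4 = 1 from this)]
    simp only [pow_succ, pow_zero, one_mul, mul_assoc]
  have cm : (⟨x, hx⟩ : R) * ⟨y, hy⟩ = ⟨y, hy⟩ * ⟨x, hx⟩ → QuotientGroup.mk' (center (SL2 F)) x * QuotientGroup.mk' _ y
      = QuotientGroup.mk' _ y * QuotientGroup.mk' _ x := fun h => by
    rw [← map_mul, ← map_mul, show x * y = y * x from congrArg Subtype.val h]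
  rcases S0016.result 2 hR (fun A B hA hB => by
    obtain ⟨u, u1, u2, rfl⟩ := key A hA
    obtain ⟨v, v1, v2, rfl⟩ := key B hB
    rw [show u = v from Subtype.ext (sl2_invol_unique h2 (congrArg Subtype.val u2) (congrArg Subtype.val v2)
      (fun h => u1 (Subtype.ext h)) (fun h => v1 (Subtype.ext h)))]) with h | ⟨-, n, ⟨e⟩⟩
  · letI := h.commGroup
    exact Or.inl (cm (mul_comm _ _))
  · rcases hex : e ⟨x, hx⟩ with i | i
    · rcases hey : e ⟨y, hy⟩ with j | j
      · exact Or.inl (cm (e.injective (by rw [map_mul, map_mul, hex, hey, QuaternionGroup.a_mul_a, QuaternionGroup.a_mul_a, add_comm])))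
      · exact Or.inr (Or.inr (sq4 ⟨y, hy⟩ (e.injective (by rw [map_pow, hey, map_one, QuaternionGroup.xa_pow_four]))))
    · exact Or.inr (Or.inl (sq4 ⟨x, hx⟩ (e.injective (by rw [map_pow, hex, map_one, QuaternionGroup.xa_pow_four]))))
end

/-- Let p be a prime and let H act by conjugation on the elementary abelian p-subgroup V of a finite group, irreducibly (no H-invariant subgroups of V other than 1 and V) and nontrivially, and suppose H/C_H(V) is isomorphic to PSL₂(F) for a field F with p^n elements, p^n odd, or p = 3 and H/C_H(V) is isomorphic to a Ree group ²G₂(3^(2m+1)), m ≥ 1. Then no subgroup A of H acting nontrivially on V acts quadratically: [V, A, A] = 1 forces [V, A] = 1. -/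
theorem result {G : Type*} [Group G] [Finite G] {p : ℕ} [Fact p.Prime] (V H : Subgroup G) (hV : Cfsg.IsElementaryAbelian p V) (hHV : H ≤ Subgroup.normalizer (V : Set G)) (hirr : ∀ U : Subgroup G, U ≤ V → H ≤ Subgroup.normalizer (U : Set G) → U = ⊥ ∨ U = V) (hnt : ¬ H ≤ Subgroup.centralizer (V : Set G)) [hn : ((Subgroup.centralizer (V : Set G)).subgroupOf H).Normal] (hq : (∃ (F : Type) (_ : Field F) (_ : Fintype F) (n : ℕ), Fintype.card F = p ^ n ∧ Odd (Fintype.card F) ∧ Nonempty (↥H ⧸ (Subgroup.centralizer (V : Set G)).subgroupOf H ≃* Matrix.ProjectiveSpecialLinearGroup (Fin 2) F)) ∨ (p = 3 ∧ Cfsg.Lie.IsoRee (↥H ⧸ (Subgroup.centralizer (V : Set G)).subgroupOf H))) (A : Subgroup G) (hA : A ≤ H) (hquad : ⁅⁅V, A⁆, A⁆ = ⊥) : ⁅V, A⁆ = ⊥ := by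
  open Pointwise commutatorElement Subgroup Cfsg.Agent.Solv in
  haveI : Fact (Nat.Prime 2) := ⟨Nat.prime_two⟩
  rw [commutator_comm, commutator_eq_bot_iff_le_centralizer]
  intro a ha
  have hqa := Transfer.quad_mono le_rfl (zpowers_le.2 ha) hquad
  rcases hq with ⟨F, _, _, n, hF, hodd, ⟨e⟩⟩ | ⟨hp3, K, _, _, m, hm, hK, ⟨e⟩⟩
  · have h2 : (2 : F) ≠ 0 := Ring.two_ne_zero
      ((FiniteField.even_card_iff_char_two (F := F)).not.2 (by have := Nat.odd_iff.1 hodd; omega))
    have hp : p ≠ 2 := by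
      rintro rfl
      have := Fintype.one_lt_card (α := F)
      rcases n with _ | n
      · omega
      · rw [hF, pow_succ] at hodd; have := Nat.odd_iff.1 hodd; omega
    exact main hp V H (Transfer.elem_isPGroup hV) hHV hirr (e.toMonoidHom.comp (QuotientGroup.mk' _))
      (e.surjective.comp (QuotientGroup.mk'_surjective _))
      (fun h => (map_eq_one_iff e e.injective).trans (QuotientGroup.eq_one_iff h)) (psl h2) a (hA ha) hqa
  · haveI : Finite ↥(Cfsg.Lie.twistedG2 K (3 ^ m)) := Finite.of_equiv _ e.toEquiv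
    refine main (by omega) V H (Transfer.elem_isPGroup hV) hHV hirr (e.toMonoidHom.comp (QuotientGroup.mk' _))
      (e.surjective.comp (QuotientGroup.mk'_surjective _))
      (fun h => (map_eq_one_iff e e.injective).trans (QuotientGroup.eq_one_iff h)) (fun T hT x hx y hy => ?_) a (hA ha) hqa
    obtain ⟨S, hS⟩ := hT.exists_le_sylow
    exact Or.inl (mem_centralizer_iff.1 ((S1157.result hm hK S).1.ge (hS hy)) x (hS hx))

end Cfsg.Agent.S2787
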