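import Cfsg.Statements.S2807
import Cfsg.Agent.Lib.Fusion.Yosh

set_option autoImplicit false
open Cfsg

namespace Cfsg.Agent.S2807

open Fusion Cfsg.FusionSystem

/-- Let S be a Sylow p-subgroup of the finite group G. If S ∩ G' ≠ S ∩ (N_G(S))' (derived subgroups), then the wreath product Z_p ≀ Z_p — realised as a Sylow p-subgroup of the symmetric group of degree p² — is a homomorphic image of S. -/
theorem result {G : Type*} [Group G] [Finite G] {p : ℕ} [Fact p.Prime] (S : Sylow p G) (h : (S : Subgroup G) ⊓ commutator G ≠ (S : Subgroup G) ⊓ ⁅Subgroup.normalizer ((S : Subgroup G) : Set G), Subgroup.normalizer ((S : Subgroup G) : Set G)⁆) : ∃ (P : Sylow p (Equiv.Perm (Fin (p ^ 2)))) (f : ↥(S : Subgroup G) →* ↥(P : Subgroup (Equiv.Perm (Fin (p ^ 2))))), Function.Surjective f := by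
  have h1 := (sylowIn_top S).of_le Subgroup.le_normalizer le_top
  refine yoshida S.isPGroup' (group_saturated S) (sub_saturated h1) (sub_sub_group h1.le)
    (fun f hf => ?_) (by rw [foc_group, (foc_sub h1).1]; exact h.symm)
  obtain ⟨a, b, g, e⟩ := mor_group_iff.1 hf
  exact mor_subgroup_iff.2 ⟨a, b, g, mem_normalizer_of_finite fun x hx => e x hx ▸ b x hx, e⟩

end Cfsg.Agent.S2807
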