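import Cfsg.Statements.S2810
import Cfsg.Agent.Lib.Comp.PRed

set_option autoImplicit false
open Cfsg

namespace Cfsg.Agent.S2810

open Cfsg.Agent.Comp Subgroup

/-- Let H be a finite group of characteristic p and L a subgroup of H centralizing every factor of some H-invariant chain 1 = A₀ ≤ A₁ ≤ … ≤ Aₙ = O_p(H) of normal subgroups (that is, [A_{i+1}, L] ≤ Aᵢ for each i). Then L ≤ O_p(H). -/
theorem result {H : Type*} [Group H] [Finite H] {p : ℕ} [Fact p.Prime] (hchar : Subgroup.centralizer (Cfsg.pCore p H : Set H) ≤ Cfsg.pCore p H) (L : Subgroup H) (n : ℕ) (A : Fin (n + 1) → Subgroup H) (h0 : A 0 = ⊥) (hn : A (Fin.last n) = Cfsg.pCore p H) (hmono : Monotone A) (hnorm : ∀ i, (A i).Normal) (hcent : ∀ i : Fin n, ⁅A i.succ, L⁆ ≤ A i.castSucc) : L ≤ Cfsg.pCore p H := by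
  have h1 : ∀ i : Fin n, ⁅A i.succ, normalClosure (L : Set H)⁆ ≤ A i.castSucc := fun i => by
    have := hnorm i.castSucc
    have := hnorm i.succ
    rw [normalClosure_eq_sup, sup_commutator_eq_iSup, commutator_comm]
    refine commutator_iSup_left_le (fun _ => le_normalizer_normal _ _) fun g => ?_
    rw [commutator_comm, ← cj_eq_self_of_normal (A i.succ) g, ← cj_commutator]
    exact cj_le_of_mem (hcent i) (le_normalizer_normal _ ⊤ (mem_top _))
  refine le_normalClosure.trans (le_pCore (isPGroup_of_forall_coprime fun Y a b => ?_))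
  refine (charP_top_iff.2 hchar).eq_bot le_top ?_ b
  rw [Op_top, ← hn]
  have : ∀ i, Y ≤ centralizer (A i : Set H) := by
    intro i
    induction i using Fin.induction with
    | zero => rw [h0]; exact le_centralizer_iff.1 bot_le
    | succ i ih =>
      exact Solv.coprime_le_centralizer_of_commutator_le (coprime_of_isPGroup
        ((isPGroup_pCore p).to_le (hn ▸ hmono (Fin.le_last _))) b).symm
        ((commutator_mono le_rfl a).trans (h1 i)) ih
  exact this _

end Cfsg.Agent.S2810
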