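import Cfsg.Statements.S2814
import Cfsg.Agent.Lib.Comp.PMin

set_option autoImplicit false
open Cfsg

namespace Cfsg.Agent.S2814

open Cfsg.Agent.Comp Subgroup

/-- Let A be a subgroup of the finite group H and K the subnormal closure of A (intersection of the subnormal subgroups containing A). Then K is the normal closure of A inside K and N_H(A) ≤ N_H(K); K = A·O^p(K), O^p(K) being generated by the elements of K of order prime to p; and if A is a p-group, O^p(K) = [O^p(K), A]. -/
theorem result {H : Type*} [Group H] [Finite H] {p : ℕ} [Fact p.Prime] (A : Subgroup H) (K : Subgroup H) (hK : K = Cfsg.subnormalClosure A) : (Subgroup.normalClosure ((A.subgroupOf K : Subgroup ↥K) : Set ↥K)).map K.subtype = K ∧ Subgroup.normalizer (A : Set H) ≤ Subgroup.normalizer (K : Set H) ∧ A ⊔ (Cfsg.pResidual p ↥K).map K.subtype = K ∧ (IsPGroup p ↥A → ⁅(Cfsg.pResidual p ↥K).map K.subtype, A⁆ = (Cfsg.pResidual p ↥K).map K.subtype) := by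
  have h1 : A ≤ K := hK ▸ le_sInf fun X hX => hX.1
  have h2 : ∀ X, A ≤ X → SubnIn X ⊤ → K ≤ X := fun X a b => hK ▸ sInf_le ⟨a, b.isSubnormal⟩
  have h3 : SubnIn K ⊤ := by
    obtain ⟨B, -, ⟨b1, b2⟩, b3⟩ := exists_minimal_subgroup (P := fun X => A ≤ X ∧ SubnIn X ⊤)
      (A := ⊤) ⟨le_top, .refl _⟩
    have : K = B := le_antisymm (h2 B b1 b2) (hK ▸ le_sInf fun X hX =>
      (b3 _ ⟨le_inf b1 hX.1, b2.inf (.of_isSubnormal hX.2)⟩ inf_le_left).ge.trans inf_le_right)
    exact this ▸ b2
  have h4 : ∀ X, A ≤ X → SubnIn X K → X = K := fun X a b => le_antisymm b.le (h2 X a (b.trans h3))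
  have h5 : A ⊔ Res p K = K := h4 _ le_sup_left
    (subnIn_of_Res_le le_sup_right (sup_le h1 (ResPi_le _ _)))
  rw [map_normalClosure_subgroupOf h1, map_pResidual]
  refine ⟨h4 _ le_sup_left (.of_normalizer (sup_commutator_le' h1) (le_normalizer_sup_commutator _ _)),
    le_normalizer_of_cj_le fun g hg => cj_le_iff.2 (h2 _ ?_ (h3.cj (le_normalizer (mem_top _)))), h5, fun hA => ?_⟩
  · exact cj_le_iff.1 ((cj_eq_self_iff.2 hg).le.trans h1)
  · have hn : A ≤ normalizer (Res p K : Set H) := le_normalizer_ResPi (h1.trans le_normalizer)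
    have a := commutator_le_left_of_le_normalizer hn
    refine le_antisymm a (Res_le_of_le_sup (h4 (⁅Res p K, A⁆ ⊔ A) le_sup_right (.of_normalizer
      (sup_le (a.trans (ResPi_le _ _)) h1) (h5.ge.trans (sup_le (le_sup_right.trans le_normalizer)
      ?_)))).ge (le_sup_right.trans (sup_le_normalizer_commutator _ _)) hA)
    rw [sup_comm, commutator_comm]; exact le_normalizer_sup_commutator _ _

end Cfsg.Agent.S2814
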