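import Cfsg.Statements.S2815
import Cfsg.Agent.Lib.Comp.PMin

set_option autoImplicit false
open Cfsg

namespace Cfsg.Agent.S2815

open Cfsg.Agent.Comp Subgroup

/-- Let H be a finite group and p a prime dividing its order with O_p(H) = 1, and suppose K = O^p(H) (generated by the elements of order prime to p) is quasisimple. Then K = F*(H); for every nontrivial p-subgroup Y of H, K = [K, Y] and K lies in the subgroup generated by the K-conjugates of Y; every normal subgroup of H not containing K has order prime to p; and H is p-irreducible. -/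
theorem result {H : Type*} [Group H] [Finite H] {p : ℕ} [Fact p.Prime] (hp : p ∣ Nat.card H) (hO : Cfsg.pCore p H = ⊥) (hq : Cfsg.IsQuasisimple ↥(Cfsg.pResidual p H)) : Cfsg.pResidual p H = Cfsg.generalizedFittingSubgroup H ∧ (∀ Y : Subgroup H, IsPGroup p ↥Y → Y ≠ ⊥ → ⁅Cfsg.pResidual p H, Y⁆ = Cfsg.pResidual p H ∧ Cfsg.pResidual p H ≤ ⨆ k : ↥(Cfsg.pResidual p H), Y.map (MulAut.conj (k : H)).toMonoidHom) ∧ (∀ C : Subgroup H, C.Normal → ¬ Cfsg.pResidual p H ≤ C → (Nat.card ↥C).Coprime p) ∧ Cfsg.IsPIrreducible p H := by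
  have hO' : Op p (⊤ : Subgroup H) = ⊥ := (Op_top p).trans hO
  rw [← Res_top] at hq ⊢
  have hK : CompIn (Res p (⊤ : Subgroup H)) ⊤ := ⟨ResPi_subnIn _ _, qs_iff.2 hq⟩
  have e : Res p (⊤ : Subgroup H) = Fstar ⊤ :=
    le_antisymm (hK.le_Lay.trans (Lay_le_Fstar _)) (Fstar_le_Res hO')
  have h3 : ∀ C : Subgroup H, C.Normal → ¬ Res p ⊤ ≤ C → (Nat.card ↥C).Coprime p := fun C a b =>
    (coprime_Fit hO').coprime_dvd_left (card_dvd_of_le (le_Fit_of_le_centralizer_Fstar le_top
      (e ▸ (hK.le_or_le_centralizer (.of_normal C)).resolve_left b)))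
  refine ⟨e.trans Fstar_top, fun Y a b => ?_, h3, pIrr_top_iff.1 ⟨fun a => ?_, fun N _ a b => ?_⟩⟩
  · have c := (hK.qs.commutator_eq_or (le_normalizer_normal _ Y)).resolve_right fun c =>
      b (eq_bot_of_le_centralizer_Fstar hO' a le_top (e ▸ commutator_eq_bot_iff'.1 c))
    refine ⟨c, c.ge.trans ?_⟩
    rw [← sup_commutator_eq_iSup, commutator_comm]; exact le_sup_right
  · exact coprime_iff_not_dvd.1 (a.coprime hO') (by simpa using hp)
  · exact by_contra fun c => b (pClosed_of_coprime (h3 N (normal_iff_top_le_normalizer.2 a) c))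

end Cfsg.Agent.S2815
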