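import Cfsg.Statements.S2816
import Cfsg.Agent.Lib.Comp.PMin

set_option autoImplicit false
open Cfsg

namespace Cfsg.Agent.S2816

open Cfsg.Agent.Comp Subgroup

/-- Let H be a finite group and p a prime with O_p(H) = 1, and Y a p-subgroup of H. Then for every subnormal subgroup K of H containing Y, [F*(H), Y] = [F*(K), Y] = [F*(K), Y, Y]; and if Y₀ ≤ Y with [F*(H), Y, Y₀] = 1 then Y₀ = 1 (in particular [F*(H), Y] = 1 forces Y = 1). -/
theorem result {H : Type*} [Group H] [Finite H] {p : ℕ} [Fact p.Prime] (hO : Cfsg.pCore p H = ⊥) (Y : Subgroup H) (hY : IsPGroup p ↥Y) : (∀ K : Subgroup H, K.IsSubnormal → Y ≤ K → ⁅Cfsg.generalizedFittingSubgroup H, Y⁆ = ⁅(Cfsg.generalizedFittingSubgroup ↥K).map K.subtype, Y⁆ ∧ ⁅(Cfsg.generalizedFittingSubgroup ↥K).map K.subtype, Y⁆ = ⁅⁅(Cfsg.generalizedFittingSubgroup ↥K).map K.subtype, Y⁆, Y⁆) ∧ (∀ Y₀ : Subgroup H, Y₀ ≤ Y → ⁅⁅Cfsg.generalizedFittingSubgroup H, Y⁆, Y₀⁆ =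 ⊥ → Y₀ = ⊥) := by
  have hO' : Op p (⊤ : Subgroup H) = ⊥ := (Op_top p).trans hO
  have hF := (Fstar_subnIn (⊤ : Subgroup H)).Op_eq_bot hO'
  have key : ∀ Y : Subgroup H, IsPGroup p Y → ⁅⁅Fstar ⊤, Y⁆, Y⁆ = ⁅Fstar ⊤, Y⁆ := fun Y hY =>
    commutator_commutator_of_Fstar (Fstar_Fstar ⊤) hF hY (le_top.trans (le_normalizer_Fstar_self ⊤))
  rw [← Fstar_top]
  refine ⟨fun K a b => ?_, fun Y₀ a b => ?_⟩
  · have s := SubnIn.of_isSubnormal a
    rw [map_fstar]
    refine ⟨le_antisymm ((key Y hY).ge.trans (commutator_mono ?_ le_rfl))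
      (commutator_mono (Fstar_mono_subnIn s) le_rfl), (commutator_commutator_of_Fstar
      (Fstar_Fstar K) ((Fstar_subnIn K).Op_eq_bot (s.Op_eq_bot hO')) hY
      (b.trans (le_normalizer_Fstar_self K))).symm⟩
    rw [Fstar_eq_inf_of_subnIn s]
    exact le_inf (commutator_le_left_of_le_normalizer (le_top.trans (le_normalizer_Fstar_self ⊤)))
      (s.le_of_commutator_eq le_top b (key Y hY))
  · refine eq_bot_of_le_centralizer_Fstar hO' (hY.to_le a) le_top (commutator_eq_bot_iff'.1 ?_)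
    exact le_bot_iff.1 ((key Y₀ (hY.to_le a)).ge.trans
      ((commutator_mono (commutator_mono le_rfl a) le_rfl).trans b.le))

end Cfsg.Agent.S2816
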