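import Cfsg.Statements.S2817
import Cfsg.Agent.Lib.Comp.PMin

set_option autoImplicit false
open Cfsg

namespace Cfsg.Agent.S2817

open Cfsg.Agent.Comp Subgroup

/-- Let H be a finite group and p a prime with O_p(H) = 1, Q a p-subgroup of H, L = [F*(H), Q], and F the largest normal subgroup of F*(H) centralized by Q (a normal subgroup of F*(H) centralized by Q and containing every such). Then F = C_{F*(H)}(LQ); L = [L, Q]; L ∩ F ≤ Φ(L); every p-subgroup B of N_H(Q) with [L, B] ≤ F satisfies [L, B] = 1; and C_H(FL) has order prime to p. -/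
theorem result {H : Type*} [Group H] [Finite H] {p : ℕ} [Fact p.Prime] (hO : Cfsg.pCore p H = ⊥) (Q : Subgroup H) (hQ : IsPGroup p ↥Q) (L : Subgroup H) (hL : L = ⁅Cfsg.generalizedFittingSubgroup H, Q⁆) (F : Subgroup H) (hF : F ≤ Cfsg.generalizedFittingSubgroup H ∧ Cfsg.generalizedFittingSubgroup H ≤ Subgroup.normalizer (F : Set H) ∧ Q ≤ Subgroup.centralizer (F : Set H) ∧ ∀ N : Subgroup H, N ≤ Cfsg.generalizedFittingSubgroup H → Cfsg.generalizedFittingSubgroup H ≤ Subgroup.normalizer (N : Set H) → Q ≤ Subgroup.centralizer (N : Set H) → N ≤ F) : F = Cfsg.generalizedFittingSubgroup H ⊓ Subgroup.centralizer ((L ⊔ Q : Subgroup H) : Set H) ∧ ⁅L, Q⁆ = L ∧ L ⊓ F ≤ (frattini ↥L).map L.subtype ∧ (∀ B : Subgroup H, IsPGroup p ↥B → B ≤ Subgroup.normalizer (Q : Set H) → ⁅L, B⁆ ≤ F → ⁅L, B⁆ = ⊥) ∧ (Nat.card ↥(Subgroup.centralizer ((F ⊔ L : Subgroup H) : Set H))).Coprime p := by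
  have hO' : Op p (⊤ : Subgroup H) = ⊥ := (Op_top p).trans hO
  rw [← Fstar_top] at hL hF ⊢
  obtain ⟨f1, f2, f3, f4⟩ := hF
  set E := Fstar (⊤ : Subgroup H) with hE
  have nE : ∀ X : Subgroup H, X ≤ normalizer (E : Set H) := fun X =>
    le_top.trans (le_normalizer_Fstar_self ⊤)
  have key : ∀ X Y : Subgroup H, X ≤ E → E ≤ normalizer (X : Set H) → IsPGroup p Y →
      Y ≤ normalizer (X : Set H) → ⁅X, Y⁆ ⊔ (X ⊓ centralizer (Y : Set H)) = X ∧
      ⁅⁅X, Y⁆, Y⁆ = ⁅X, Y⁆ := fun X Y a b c d => by
    have s : SubnIn X ⊤ := (SubnIn.of_normalizer a b).trans (Fstar_subnIn ⊤)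
    exact ⟨commutator_sup_centralizer_of_Fstar (s.Fstar_eq_self a) (s.Op_eq_bot hO') c d,
      commutator_commutator_of_Fstar (s.Fstar_eq_self a) (s.Op_eq_bot hO') c d⟩
  have l1 : L ≤ E := hL ▸ commutator_le_left_of_le_normalizer (nE Q)
  have l2 : E ≤ normalizer (L : Set H) :=
    hL ▸ le_sup_left.trans (sup_le_normalizer_commutator _ _)
  have l3 : Q ≤ normalizer (L : Set H) :=
    hL ▸ le_sup_right.trans (sup_le_normalizer_commutator _ _)
  have l4 : ⁅L, Q⁆ = L := hL ▸ (key E Q le_rfl le_normalizer hQ (nE Q)).2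
  have l5 : E ≤ normalizer ((L ⊔ Q : Subgroup H) : Set H) := by
    rw [hL, sup_comm, commutator_comm]; exact le_normalizer_sup_commutator _ _
  have hFL : F ≤ centralizer (L : Set H) := by
    rw [← commutator_eq_bot_iff', hL, commutator_comm E, ← le_bot_iff]
    refine three_subgroups_le (le_normalizer_normal _ _) (le_normalizer_normal _ _)
      (le_normalizer_normal _ _) ((commutator_mono (commutator_le_right_of_le_normalizer f2)
      le_rfl).trans (commutator_eq_bot_iff'.2 f3).le) ?_
    rw [commutator_eq_bot_iff'.2 f3, commutator_bot_left]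
  have e1 : F = E ⊓ centralizer ((L ⊔ Q : Subgroup H) : Set H) := by
    refine le_antisymm (le_inf f1 ?_) (f4 _ inf_le_left (le_normalizer_inf le_normalizer
      (le_normalizer_centralizer l5)) (le_centralizer_iff.1
      (inf_le_right.trans (centralizer_mono le_sup_right))))
    rw [centralizer_sup]; exact le_inf hFL (le_centralizer_iff.1 f3)
  have e2 : L ⊓ F ≤ (frattini ↥L).map L.subtype := by
    refine inf_le_map_frattini (inf_le_right.trans hFL) ?_
    have s : SubnIn L ⊤ := (SubnIn.of_normalizer l1 l2).trans (Fstar_subnIn ⊤)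
    refine le_trans (le_inf (inf_le_left.trans (l4.ge.trans le_sup_left))
      (inf_le_right.trans (le_centralizer_iff.1 f3)))
      (inf_centralizer_le_of_coprime_section l3 (le_normalizer_commutator l3 l3)
      (commutator_le_left_of_le_normalizer le_normalizer) le_rfl
      (coprime_card_of_isPGroup hQ ((coprime_Fit (s.Op_eq_bot hO')).coprime_dvd_left ?_)))
    have : Fit L ⊔ ⁅L, L⁆ = L := le_antisymm
      (sup_le (Fit_le L) (commutator_le_left_of_le_normalizer le_normalizer))
      ((s.Fstar_eq_self l1).ge.trans (sup_le ((Lay_perfect L).ge.trans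
      ((commutator_mono (Lay_le L) (Lay_le L)).trans le_sup_right)) le_sup_left))
    have a := relIndex_sup_of_le_normalizer (H := Fit L) (N := ⁅L, L⁆) (le_normalizer_commutator
      ((Fit_le L).trans le_normalizer) ((Fit_le L).trans le_normalizer))
    rw [this] at a
    exact a ▸ relIndex_dvd_card' _ _
  refine ⟨e1, l4, e2, fun B a b c => ?_, coprime_of_forall_isPGroup fun Y a b => ?_⟩
  · have d : B ≤ normalizer (L : Set H) := hL ▸ le_normalizer_commutator (nE B) b
    have := Solv.eq_of_sup_map_frattini (inf_le_left : L ⊓ centralizer (B : Set H) ≤ L)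
      ((key L B l1 l2 a d).1.ge.trans (sup_le ((le_inf (commutator_le_left_of_le_normalizer d) c).trans
      (e2.trans le_sup_right)) le_sup_left))
    exact commutator_eq_bot_iff_le_centralizer.2 (this.ge.trans inf_le_right)
  · have d1 : E ⊓ centralizer (L : Set H) ≤ F ⊔ L := by
      refine (key _ Q inf_le_left (le_normalizer_inf le_normalizer (le_normalizer_centralizer l2)) hQ
        (le_normalizer_inf (nE Q) (le_normalizer_centralizer l3))).1.ge.trans (sup_le
        ((commutator_mono inf_le_left le_rfl).trans (hL.ge.trans le_sup_right))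
        (le_sup_left.trans' ?_))
      rw [e1, centralizer_sup, inf_assoc]
    have d2 : ⁅F ⊔ L, Y⁆ = ⊥ := commutator_eq_bot_iff'.2 a
    have d3 : ⁅⁅Y, E⁆, F ⊔ L⁆ ≤ ⊥ := by
      refine three_subgroups_le (le_normalizer_normal _ _) (le_normalizer_normal _ _)
        (le_normalizer_normal _ _) ((commutator_mono (commutator_le_right_of_le_normalizer
        (le_normalizer_sup f2 l2)) le_rfl).trans d2.le) ?_
      rw [d2, commutator_bot_left]
    have d4 : ⁅E, Y⁆ ≤ F ⊔ L := by
      refine (le_inf (commutator_le_left_of_le_normalizer (nE Y)) ?_).trans d1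
      rw [commutator_comm]
      exact (commutator_eq_bot_iff_le_centralizer.1 (le_bot_iff.1 d3)).trans
        (centralizer_mono le_sup_right)
    refine eq_bot_of_le_centralizer_Fstar hO' b le_top (commutator_eq_bot_iff'.1 ?_)
    exact le_bot_iff.1 ((key E Y le_rfl le_normalizer b (nE Y)).2.ge.trans
      ((commutator_mono d4 le_rfl).trans d2.le))

end Cfsg.Agent.S2817
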