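import Cfsg.Statements.S2818
import Cfsg.Agent.Lib.Comp.PMin

set_option autoImplicit false
open Cfsg

namespace Cfsg.Agent.S2818

open Cfsg.Agent.Comp Subgroup
open scoped commutatorElement

/-- Let P be a finite p-subgroup of a group G and H a subgroup of N_G(P) with [P, H] ≤ Ω₁(Z(P)) (the elements of order dividing p in the centre of P). Then H centralizes the Frattini subgroup of P. -/
theorem result {G : Type*} [Group G] [Finite G] {p : ℕ} [Fact p.Prime] (P : Subgroup G) (hP : IsPGroup p ↥P) (H : Subgroup G) (hH : H ≤ Subgroup.normalizer (P : Set G)) (h : ⁅P, H⁆ ≤ Cfsg.omegaOne p (P ⊓ Subgroup.centralizer (P : Set G))) : ⁅(frattini ↥P).map P.subtype, H⁆ = ⊥ := by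
  have c : ⁅⁅P, H⁆, P⁆ = ⊥ := commutator_eq_bot_iff_le_centralizer.2 (h.trans (OmZ_le_centralizer p P))
  refine commutator_eq_bot_iff_le_centralizer.2
    (Solv.map_frattini_le_of_commutator_le_of_pow_mem (p := p) ?_ fun x hx => ?_)
  · rw [← commutator_eq_bot_iff_le_centralizer, ← le_bot_iff]
    exact three_subgroups_le (le_normalizer_normal _ _) (le_normalizer_normal _ _)
      (le_normalizer_normal _ _) c.le (by rw [commutator_comm H, c])
  · intro y hy
    have a : ⁅y, x⁆ ∈ OmZ p P := h (by rw [commutator_comm]; exact commutator_mem_commutator hy hx)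
    obtain ⟨-, a2, a3⟩ := mem_OmZ.1 a
    have b : (⁅y, x⁆ * x) ^ p = x ^ p := by
      rw [Commute.mul_pow (show Commute ⁅y, x⁆ x from (a2 x hx).symm), a3, one_mul]
    rw [commutatorElement_def, inv_mul_cancel_right, conj_pow] at b
    conv_rhs => rw [← b]
    rw [inv_mul_cancel_right]

end Cfsg.Agent.S2818
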