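import Cfsg.Statements.S2819
import Cfsg.Agent.Lib.Comp.PMin

set_option autoImplicit false
open Cfsg

namespace Cfsg.Agent.S2819

open Cfsg.Agent.Comp Subgroup
open scoped commutatorElement

/-- Let P be a finite p-subgroup of a group G, H a subgroup of N_G(P), and Y a subgroup of H centralizing the derived subgroup P' such that [P, Y] is elementary abelian. Then O^p(⟨Y^H⟩), the subgroup of the normal closure of Y in H generated by its elements of order prime to p, centralizes the Frattini subgroup of P. -/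
theorem result {G : Type*} [Group G] [Finite G] {p : ℕ} [Fact p.Prime] (P : Subgroup G) (hP : IsPGroup p ↥P) (H : Subgroup G) (hH : H ≤ Subgroup.normalizer (P : Set G)) (Y : Subgroup G) (hYH : Y ≤ H) (hYc : Y ≤ Subgroup.centralizer ((⁅P, P⁆ : Subgroup G) : Set G)) (hel : Cfsg.IsElementaryAbelian p ⁅P, Y⁆) (NY : Subgroup G) (hNY : NY = (Subgroup.normalClosure ((Y.subgroupOf H : Subgroup ↥H) : Set ↥H)).map H.subtype) : (Cfsg.pResidual p ↥NY).map NY.subtype ≤ Subgroup.centralizer (((frattini ↥P).map P.subtype : Subgroup G) : Set G) := by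
  rw [map_normalClosure_subgroupOf hYH] at hNY
  rw [map_pResidual]
  have n1 : H ≤ normalizer ((⁅P, P⁆ : Subgroup G) : Set G) := le_normalizer_commutator hH hH
  have n2 : H ≤ normalizer (((frattini ↥P).map P.subtype : Subgroup G) : Set G) :=
    le_normalizer_Phi hH
  have hN : NY ≤ H := hNY.le.trans (sup_commutator_le' hYH)
  have a : (frattini ↥P).map P.subtype ≤ actKer ⁅P, P⁆ Y := by
    refine Solv.map_frattini_le_of_commutator_le_of_pow_mem (p := p) (le_actKer_iff.2
      ⟨le_normalizer, (commutator_eq_bot_iff'.2 hYc).le.trans bot_le⟩) fun x hx => mem_actKer.2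
      ⟨le_normalizer_commutator le_normalizer le_normalizer (pow_mem hx p), fun y hy => ?_⟩
    have z1 : ⁅y, x⁆ ∈ ⁅P, Y⁆ := by rw [commutator_comm]; exact commutator_mem_commutator hy hx
    have z2 := mul_pow_mul_inv_mem_commutator
      (commutator_le_left_of_le_normalizer (hYH.trans hH) z1) hx p
    rw [hel.2 _ z1, one_mul, commutatorElement_def, inv_mul_cancel_right, conj_pow] at z2
    rw [← commutatorElement_inv, inv_mem_iff, commutatorElement_def]
    exact z2
  have b : NY ≤ actKer ⁅P, P⁆ ((frattini ↥P).map P.subtype) := by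
    refine hNY.le.trans
      (sup_commutator_le (le_actKer_iff.2 ⟨hYH.trans n1, ?_⟩) (le_normalizer_actKer n1 n2))
    rw [commutator_comm]; exact (le_actKer_iff.1 a).2
  have c : ⁅⁅P, P⁆, NY⁆ = ⊥ :=
    commutator_eq_bot_iff'.2 (hNY.le.trans (sup_commutator_le_centralizer hYc n1))
  have d : ⁅Phi P, NY⁆ ≤ ⁅P, P⁆ := by rw [commutator_comm]; exact (le_actKer_iff.1 b).2
  exact Res_le_centralizer_of_quad (V := Phi P) (hP.to_le (Phi_le P)) (hN.trans n2)
    (le_bot_iff.1 ((commutator_mono d le_rfl).trans c.le))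

end Cfsg.Agent.S2819
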