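import Cfsg.Statements.S2823
import Cfsg.Agent.Lib.Comp.PRed

set_option autoImplicit false
open Cfsg

namespace Cfsg.Agent.S2823

open Cfsg.Agent.Comp Subgroup

/-- Let H be a finite group, p a prime, T a Sylow p-subgroup and L a subgroup of characteristic p containing T; let Z_L be the subgroup generated by the Ω₁(Z(S)) over the Sylow p-subgroups S of L and O^p(L) the subgroup generated by the elements of L of order prime to p. Then Z_L = Ω₁(Z(L))·[Z_L, O^p(L)] and [Z_L, L] = [Z_L, O^p(L)]. -/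
theorem result {H : Type*} [Group H] [Finite H] {p : ℕ} [Fact p.Prime] (T : Sylow p H) (L : Subgroup H) (hTL : (T : Subgroup H) ≤ L) (hL : Subgroup.centralizer (Cfsg.pCore p ↥L : Set ↥L) ≤ Cfsg.pCore p ↥L) : Cfsg.sylowCenterClosure p L = (Cfsg.omegaOne p (L ⊓ Subgroup.centralizer ((L : Subgroup H) : Set H))) ⊔ ⁅Cfsg.sylowCenterClosure p L, (Cfsg.pResidual p ↥L).map L.subtype⁆ ∧ ⁅Cfsg.sylowCenterClosure p L, L⁆ = ⁅Cfsg.sylowCenterClosure p L, (Cfsg.pResidual p ↥L).map L.subtype⁆ := by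
  have hZ := pRed_ZL (charP_iff_subtype.2 hL)
  have hT := sylIn_of_sylow_le T hTL
  rw [map_pResidual]
  have h0 : ⁅ZL p L, Res p L⁆ ≤ ZL p L :=
    commutator_le_left_of_le_normalizer ((ResPi_le _ _).trans hZ.norm)
  have h1 : ZL p L = OmZ p L ⊔ ⁅ZL p L, Res p L⁆ := by
    refine le_antisymm (ZL_le_iff.2 fun S hS => (le_inf hS.OmZ_le_ZL (OmZ_le_centralizer p S)).trans
      ((hS.inf_centralizer_le_sup (IsElementaryAbelian.le_centralizer hZ.elem) hZ.isPGroup
      hZ.norm).trans (sup_le_sup (le_OmZ (fun x hx => hZ.elem.2 x (mem_inf.1 hx).1)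
      (inf_le_left.trans hZ.le) inf_le_right) inf_le_left))) (sup_le (le_trans (OmZ_le_OmZ hTL
      (hT.le_of_normalizer (isPGroup_OmZ p L) (OmZ_le p L) (le_normalizer_of_le_centralizer
      ((OmZ_le_centralizer p L).trans (centralizer_mono hTL))))) hT.OmZ_le_ZL) h0)
  refine ⟨h1, le_antisymm ?_ (commutator_mono le_rfl (ResPi_le _ _))⟩
  have h2 : L ≤ normalizer ((⁅ZL p L, Res p L⁆ : Subgroup H) : Set H) :=
    le_normalizer_commutator hZ.norm (le_normalizer_ResPi le_normalizer)
  nth_rw 1 [show sylowCenterClosure p L = _ from h1]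
  exact commutator_sup_left_le ((OmZ_le p L).trans h2) le_normalizer
    ((commutator_eq_bot_iff'.2 (le_centralizer_OmZ p L)).le.trans bot_le)
    (commutator_le_left_of_le_normalizer h2)

end Cfsg.Agent.S2823
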