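import Cfsg.Statements.S2824
import Cfsg.Agent.Lib.Comp.PRed

set_option autoImplicit false
open Cfsg

namespace Cfsg.Agent.S2824

open Cfsg.Agent.Comp Subgroup

/-- Let H be a finite group, p a prime, T a Sylow p-subgroup, L and M subgroups of characteristic p containing T, Y_L the largest p-reduced normal subgroup of L and T₀ = C_T(Y_L). If M·C_H(Y_L) = L·C_H(Y_L), then L* := N_M(T₀) has Y_{L*} = Y_L and L·C_H(Y_L) = L*·C_H(Y_L). -/
theorem result {H : Type*} [Group H] [Finite H] {p : ℕ} [Fact p.Prime] (T : Sylow p H) (L M : Subgroup H) (hTL : (T : Subgroup H) ≤ L) (hTM : (T : Subgroup H) ≤ M) (hL : Subgroup.centralizer (Cfsg.pCore p ↥L : Set ↥L) ≤ Cfsg.pCore p ↥L) (hM : Subgroup.centralizer (Cfsg.pCore p ↥M : Set ↥M) ≤ Cfsg.pCore p ↥M) (T₀ : Subgroup H) (hT₀ : T₀ = (T : Subgroup H) ⊓ Subgroup.centralizer (((Cfsg.largestPReducedOf p L) : Subgroup H) : Set H)) (hfac : M ⊔ Subgroup.centralizer (((Cfsg.largestPReducedOf p L) : Subgroup H) : Set H) = L ⊔ Subgroup.centralizer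 (((Cfsg.largestPReducedOf p L) : Subgroup H) : Set H)) (Ls : Subgroup H) (hLs : Ls = M ⊓ Subgroup.normalizer ((T₀ : Subgroup H) : Set H)) : (Cfsg.largestPReducedOf p Ls) = (Cfsg.largestPReducedOf p L) ∧ L ⊔ Subgroup.centralizer (((Cfsg.largestPReducedOf p L) : Subgroup H) : Set H) = Ls ⊔ Subgroup.centralizer (((Cfsg.largestPReducedOf p L) : Subgroup H) : Set H) := by
  have hY := pRed_YL p L
  have hT := sylIn_of_sylow_le T hTL
  have hT' := sylIn_of_sylow_le T hTM
  have hMY : M ≤ normalizer (YL p L : Set H) :=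
    (le_sup_left.trans hfac.le).trans (sup_le hY.norm (centralizer_le_normalizer _))
  subst hT₀ hLs
  have e := (hT'.normalizer_sup_centralizer hMY).trans hfac
  have h1 : (T : Subgroup H) ≤ M ⊓ normalizer (((T : Subgroup H) ⊓ centralizer (YL p L : Set H) :
    Subgroup H) : Set H) := le_inf hTM (le_normalizer_inf le_normalizer
      (le_normalizer_centralizer (hTL.trans hY.norm)))
  have h2 := PRed.le_YL ⟨(hY.le_Op.trans hT.Op_le).trans h1, inf_le_left.trans hMY, hY.elem,
    hY.red.of_sup_eq hY.norm e⟩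
  refine ⟨le_antisymm ?_ h2, e.symm⟩
  have hY' := pRed_YL p (M ⊓ normalizer (((T : Subgroup H) ⊓ centralizer (YL p L : Set H) :
    Subgroup H) : Set H))
  refine le_trans (le_OmZ hY'.elem.2 (le_inf (hY'.le_Op.trans (sylIn_of_sylow_le T h1).Op_le)
    ((YL_le_centralizer _).trans (centralizer_mono h2))) (le_centralizer_iff.1 (le_trans ?_
    hY'.red.Op_le))) (YL_eq_OmZ (charP_iff_subtype.2 hL) hT).ge
  exact le_Op (inf_le_left.trans h1) inf_le_right (hT.isP.to_le inf_le_left)

end Cfsg.Agent.S2824
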