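import Cfsg.Statements.S2825
import Cfsg.Agent.Lib.Comp.PRed

set_option autoImplicit false
open Cfsg

namespace Cfsg.Agent.S2825

open Cfsg.Agent.Comp Subgroup

/-- Let L be a subnormal subgroup of the finite group H, p a prime, Y_H and Y_L the largest p-reduced normal subgroups. Then Y_H ∩ L = Y_H ∩ Y_L and this subgroup is a p-reduced normal subgroup of L; C_L(Y_L) = C_L(Y_H) = C_L(Y_H ∩ L); and if O^p(H) ≤ L, then [Y_L, L] = 1 if and only if [Y_H, H] = 1. -/
theorem result {H : Type*} [Group H] [Finite H] {p : ℕ} [Fact p.Prime] (L : Subgroup H) (hL : L.IsSubnormal) : Cfsg.largestPReduced p H ⊓ L = Cfsg.largestPReduced p H ⊓ (Cfsg.largestPReducedOf p L) ∧ Cfsg.IsPReducedNormal p ((Cfsg.largestPReduced p H ⊓ L).subgroupOf L) ∧ L ⊓ Subgroup.centralizer ((Cfsg.largestPReducedOf p L : Subgroup H) : Set H) = L ⊓ Subgroup.centralizer (Cfsg.largestPReduced p H : Set H) ∧ L ⊓ Subgroup.centralizer (Cfsg.largestPReduced p H : Set H) = L ⊓ Subgroup.centralizer ((Cfsg.largestPReduced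 p H ⊓ L : Subgroup H) : Set H) ∧ (Cfsg.pResidual p H ≤ L → (⁅(Cfsg.largestPReducedOf p L), L⁆ = ⊥ ↔ ⁅Cfsg.largestPReduced p H, (⊤ : Subgroup H)⁆ = ⊥)) := by
  have h := subnIn_top_iff.2 hL
  have hY := pRed_YL p (⊤ : Subgroup H)
  have h1 := hY.inf_subnIn h
  have h2 := h.inf_centralizer_YL (p := p)
  rw [← YL_top, ← Res_top]
  refine ⟨le_antisymm (le_inf inf_le_left h1.le_YL) (inf_le_inf_left _ (YL_le L)), h1.subgroupOf, h2,
    le_antisymm (inf_le_inf_left _ (centralizer_mono inf_le_left)) (le_inf inf_le_left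
    (hY.inf_centralizer_inf_le h (.of_normalizer inf_le_left (le_normalizer_inf le_normalizer
    (le_normalizer_centralizer h1.norm))) ((ResPi_le _ _).trans inf_le_right))), fun h3 => ?_⟩
  rw [commutator_eq_bot_iff', commutator_eq_bot_iff']
  exact ⟨fun a => hY.red _ (.refl _) (h3.trans ((le_inf le_rfl a).trans (h2.le.trans inf_le_right))),
    fun a => (le_inf le_rfl (le_top.trans a)).trans (h2.ge.trans inf_le_right)⟩

end Cfsg.Agent.S2825
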