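import Cfsg.Statements.S2826
import Cfsg.Agent.Lib.Comp.PRed

set_option autoImplicit false
open Cfsg

namespace Cfsg.Agent.S2826

open Cfsg.Agent.Comp Subgroup

/-- Let H be a finite group of characteristic p, T a Sylow p-subgroup, and V a normal elementary abelian p-subgroup of H containing Ω₁(Z(T)). Then C_H(Ω₁(Z(T))) = C_H([V, O^p(H)] ∩ Ω₁(Z(T))), O^p(H) being generated by the elements of order prime to p. -/
theorem result {H : Type*} [Group H] [Finite H] {p : ℕ} [Fact p.Prime] (hH : Subgroup.centralizer (Cfsg.pCore p H : Set H) ≤ Cfsg.pCore p H) (T : Sylow p H) (V : Subgroup H) [V.Normal] (hV : Cfsg.IsElementaryAbelian p V) (hZV : (Cfsg.omegaOne p ((T : Subgroup H) ⊓ Subgroup.centralizer (((T : Subgroup H) : Subgroup H) : Set H))) ≤ V) : Subgroup.centralizer ((Cfsg.omegaOne p ((T : Subgroup H) ⊓ Subgroup.centralizer (((T : Subgroup H) : Subgroup H) : Set H))) : Set H) = Subgroup.centralizer (((⁅V, Cfsg.pResidual p H⁆ ⊓ (Cfsg.omegaOne p ((T : Subgroup H) ⊓ Subgroup.centralizer (((T : Subgroup H) :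 Subgroup H) : Set H)))) : Subgroup H) : Set H) := by
  refine le_antisymm (centralizer_mono inf_le_right) (le_centralizer_iff.1 ?_)
  have hp := IsElementaryAbelian.isPGroup hV
  rw [← Res_top]
  refine (le_inf hZV (OmZ_le_centralizer p _)).trans (((sylIn_top T).inf_centralizer_le_sup
    (IsElementaryAbelian.le_centralizer hV) hp (le_normalizer_normal _ _)).trans (sup_le
    (inf_le_right.trans (centralizer_mono le_top)) (le_trans ?_ (le_centralizer_iff.1 le_rfl))))
  have h1 : ⁅V, Res p (⊤ : Subgroup H)⁆ ≤ V := commutator_le_left _ _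
  exact le_inf inf_le_left (le_OmZ (fun x hx => hV.2 x (h1 (mem_inf.1 hx).1)) ((inf_le_left.trans
    h1).trans ((sylIn_top T).le_of_normalizer' hp le_top (le_normalizer_normal _ _))) inf_le_right)

end Cfsg.Agent.S2826
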