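import Cfsg.Statements.S2832
import Cfsg.Agent.Lib.Comp.PMin

set_option autoImplicit false
open Cfsg

namespace Cfsg.Agent.S2832

open Cfsg.Agent.Comp Subgroup

/-- Let H be a finite group with Sylow p-subgroup T such that H is T-minimal (generated by the conjugates of T, with T in exactly one maximal subgroup), and let N be a normal subgroup of H. Then either H/N is a p-group or H/N is minimal over the image of T in the same sense. -/
theorem result {H : Type*} [Group H] [Finite H] {p : ℕ} [Fact p.Prime] (T : Sylow p H) (hmin : Cfsg.IsMinimalOver (T : Subgroup H)) (N : Subgroup H) [N.Normal] : IsPGroup p (H ⧸ N) ∨ Cfsg.IsMinimalOver ((T : Subgroup H).map (QuotientGroup.mk' N)) := by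
  obtain ⟨M, h⟩ := isMinimalOver_iff.1 hmin
  rcases h.Res_le_or T.isPGroup' (le_top : N ≤ ⊤) (le_normalizer_normal _ _) with a | a
  · left
    have : IsPGroup p ((⊤ : Subgroup H).map (QuotientGroup.mk' N)) :=
      isPGroup_map_iff.2 (by rwa [QuotientGroup.ker_mk'])
    rw [Solv.map_top_mk] at this
    exact this.of_equiv topEquiv
  · right
    have := h.map (QuotientGroup.mk' N) (by rwa [top_inf_eq, QuotientGroup.ker_mk'])
    rw [Solv.map_top_mk] at this
    exact this.isMinimalOver

end Cfsg.Agent.S2832
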