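import Cfsg.Statements.S2834
import Cfsg.Agent.Lib.Comp.PMin

set_option autoImplicit false
open Cfsg

namespace Cfsg.Agent.S2834

open Cfsg.Agent.Comp Subgroup

/-- The L-Lemma: let H be a finite group with Sylow p-subgroup T such that H is T-minimal (generated by the conjugates of T, T in exactly one maximal subgroup M), and let A ≤ T with A not contained in O_p(H). Then there is a subgroup L of H containing A·O_p(H) such that (a) A·O_p(L) lies in exactly one maximal subgroup L₀ of L, and L₀ = L ∩ gMg⁻¹ for some g ∈ H; (b) L = ⟨A, xAx⁻¹⟩·O_p(L) for every x ∈ L outside L₀. -/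
theorem result {H : Type*} [Group H] [Finite H] {p : ℕ} [Fact p.Prime] (T : Sylow p H) (hmin : Cfsg.IsMinimalOver (T : Subgroup H)) (M : Subgroup H) (hM : IsCoatom M ∧ (T : Subgroup H) ≤ M) (A : Subgroup H) (hAT : A ≤ (T : Subgroup H)) (hA : ¬ A ≤ Cfsg.pCore p H) : ∃ L : Subgroup H, A ⊔ Cfsg.pCore p H ≤ L ∧ ∃ L₀ : Subgroup H, A ⊔ (Cfsg.pCoreOf p L) ≤ L₀ ∧ L₀ < L ∧ (∀ X : Subgroup H, A ⊔ (Cfsg.pCoreOf p L) ≤ X → X < L → X ≤ L₀) ∧ (∃ g : H, L₀ = L ⊓ ((M : Subgroup H).map (MulAut.conj (g : H)).toMonoidHom)) ∧ ∀ x ∈ L, x ∉ L₀ → (A ⊔ ((A : Subgroup H).map (MulAut.conj (x : H)).toMonoidHom)) ⊔ (Cfsg.pCoreOf p L) = L := by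
  have hm := IsMinimalOver.minOver hmin hM.1 hM.2
  let st : Subgroup H → Subgroup H := fun U => sSup {B | (∃ g, B = cj(g, A)) ∧ B ≤ U}
  have s1 : ∀ U, st U ≤ U := fun U => sSup_le fun B hB => hB.2
  have s2 : ∀ U g, cj(g, A) ≤ U → cj(g, A) ≤ st U := fun U g h => le_sSup ⟨⟨g, rfl⟩, h⟩
  have s3 : ∀ U V, st U ≤ V → st U ≤ st V := fun U V h => sSup_le fun B hB => by
    obtain ⟨⟨g, rfl⟩, b⟩ := hB
    exact s2 _ _ ((s2 _ _ b).trans h)
  have s4 : ∀ U : Subgroup H, normalizer (U : Set H) ≤ normalizer (st U : Set H) := fun U =>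
    le_normalizer_sSup fun x hx B hB => by
      obtain ⟨⟨g, rfl⟩, b⟩ := hB
      exact ⟨⟨x * g, (cj_mul _ _ _).symm⟩, cj_le_of_mem b hx⟩
  obtain ⟨Z, -, ⟨z1, z2, z3, z4⟩, z5⟩ := exists_maximal_subgroup
    (P := fun Z => Z ≤ M ∧ IsPGroup p Z ∧ Z ≤ st Z ∧ ¬ normalizer (Z : Set H) ≤ M) (A := ⊥)
    ⟨bot_le, IsPGroup.of_bot, bot_le, fun a => hm.not_le (by rwa [normalizer_eq_top] at a)⟩
  have k1 : ∀ S, Z ≤ S → S ≤ M → IsPGroup p S → ¬ st S ≤ Z → normalizer (S : Set H) ≤ M :=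
    fun S a b c d => (s4 S).trans (by_contra fun e => d (z5 (st S) ⟨(s1 S).trans b, c.to_le (s1 S),
      s3 _ _ le_rfl, e⟩ (z3.trans (s3 _ _ ((s1 Z).trans a)))).le)
  have hO : pCore p H ≤ M := ((Op_top p).ge.trans (sylIn_top T).Op_le).trans hM.2
  have hZO : IsPGroup p (Z ⊔ pCore p H : Subgroup H) :=
    isPGroup_sup (le_normalizer_normal _ _) z2 (isPGroup_pCore p)
  have hON : pCore p H ≤ normalizer (Z : Set H) := by
    by_contra hn
    have a := k1 _ le_sup_left (sup_le z1 hO) hZO fun b => hn ((le_sup_right.trans le_normalizer).trans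
      ((s4 _).trans (by rw [le_antisymm b (z3.trans (s3 _ _ ((s1 Z).trans le_sup_left)))])))
    exact z4 ((le_normalizer_sup le_rfl (le_normalizer_normal _ _)).trans a)
  obtain ⟨S, a1, a2⟩ := exists_sylIn_ge hZO (le_inf (sup_le le_normalizer hON) (sup_le z1 hO))
  have a3 : ¬ st S ≤ Z := fun b => by
    have e : st S = Z := le_antisymm b (z3.trans (s3 _ _ ((s1 Z).trans (le_sup_left.trans a1))))
    obtain ⟨T', b1, b2⟩ := exists_sylIn_ge a2.isP (a2.le.trans inf_le_right)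
    have e2 : S = T' := by_contra fun c => (lt_inf_normalizer_of_isPGroup b2.isP
      (lt_of_le_of_ne b1 c)).not_ge (a2.le_of_normalizer (b2.isP.to_le inf_le_left)
      (le_inf (inf_le_right.trans ((s4 S).trans (by rw [e]))) (inf_le_left.trans b2.le)) inf_le_right)
    obtain ⟨m, hm1, hm2⟩ := (sylIn_of_sylow_le T hM.2).exists_cj_eq b2
    have c1 : cj(m, (T : Subgroup H)) ≤ normalizer (Z : Set H) := by
      rw [hm2, ← e2]; exact a2.le.trans inf_le_left
    rcases (hm.cj m).eq_or_le c1 (by rw [cj_top]; exact le_top) with c | c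
    · rw [cj_top] at c
      have : Z.Normal := normal_iff_top_le_normalizer.2 c.ge
      have d : cj(m, A) ≤ pCore p H := ((s2 S m (by rw [e2, ← hm2]; exact cj_mono m hAT)).trans b).trans
        (le_pCore z2)
      exact hA (by rwa [cj_le_iff, cj_eq_self_of_normal] at d)
    · exact z4 (by rwa [cj_eq_self_of_mem hm1] at c)
  obtain ⟨g, a4, a5⟩ : ∃ g, cj(g, A) ≤ S ∧ ¬ cj(g, A) ≤ Z := by
    by_contra hn
    push Not at hn
    exact a3 (sSup_le fun B hB => by obtain ⟨⟨g, rfl⟩, b⟩ := hB; exact hn g b)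
  obtain ⟨L, l0, ⟨l1, l2⟩, l3⟩ := exists_minimal_subgroup
    (P := fun L => cj(g, A) ⊔ (Z ⊔ pCore p H) ≤ L ∧ ¬ L ≤ M) (A := normalizer (Z : Set H))
    ⟨(sup_le a4 a1).trans (a2.le.trans inf_le_left), z4⟩
  have u : UMax (cj(g, A) ⊔ (Z ⊔ pCore p H)) L (L ⊓ M) :=
    ⟨le_inf l1 ((sup_le a4 a1).trans (a2.le.trans inf_le_right)),
      lt_of_le_of_ne inf_le_left fun e => l2 (e.ge.trans inf_le_right),
      fun X b c => le_inf c.le (by_contra fun d => c.ne (l3 X ⟨b, d⟩ c.le))⟩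
  have k2 : ¬ L ≤ normalizer ((L ⊓ M : Subgroup H) : Set H) := fun b => by
    obtain ⟨S', c1, c2⟩ := exists_sylIn_ge (a2.isP.to_le (sup_le a4 a1)) u.le
    exact l2 ((c2.frattini inf_le_left b).ge.trans (sup_le inf_le_right (inf_le_right.trans
      (k1 S' (le_sup_left.trans (le_sup_right.trans c1)) (c2.le.trans inf_le_right) c2.isP
      fun d => a5 ((s2 _ _ (le_sup_left.trans c1)).trans d)))))
  have k3 : Z ⊔ pCore p H ≤ Op p L := Comp.le_Op (le_sup_right.trans l1)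
    (le_normalizer_sup l0 (le_normalizer_normal _ _)) hZO
  have k4 : cj(g, A) ⊔ Op p L ≤ L ⊓ M := by
    refine u.max _ (sup_le_sup_left k3 _) (lt_of_le_of_ne (sup_le (le_sup_left.trans l1) (Op_le p L))
      fun e => ?_)
    have : IsPGroup p L := e ▸ isPGroup_sup (le_normalizer_Op_of_le (le_sup_left.trans l1))
      (a2.isP.to_le a4) (isPGroup_Op p L)
    have b := lt_inf_normalizer_of_isPGroup this u.lt
    exact k2 ((u.eq_of_not_le (u.le.trans b.le) inf_le_left b.not_ge).ge.trans inf_le_right)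
  have u' := u.mono (sup_le_sup_left k3 _) k4
  have k5 : ∀ x ∈ L, x ∉ L ⊓ M → cj(g, A) ⊔ cj(x, cj(g, A)) ⊔ Op p L = L := fun x b c => by
    refine u'.eq_of_not_le (sup_le_sup_right le_sup_left _) (sup_le (sup_le (le_sup_left.trans l1)
      (cj_le_of_mem (le_sup_left.trans l1) (le_normalizer b))) (Op_le p L)) fun d => k2 ?_
    have := u'.mem_normalizer_of_cj_le b (by
      rw [cj_sup, cj_eq_self_iff.2 (le_normalizer_Op_of_le le_rfl b)]
      exact (sup_le_sup_right le_sup_right _).trans d)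
    exact (u.eq_of_not_le (u.le.trans (le_inf inf_le_left le_normalizer)) inf_le_left
      fun e => c (e (mem_inf.2 ⟨b, this⟩))).ge.trans inf_le_right
  have v := u'.cj g⁻¹
  rw [cj_sup, cj_inv_cj, cj_Op] at v
  refine ⟨cj(g⁻¹, L), ?_, cj(g⁻¹, L ⊓ M), v.le, v.lt, v.max, ⟨g⁻¹, cj_inf _ _ _⟩, fun x b c => ?_⟩
  · have := cj_mono g⁻¹ ((sup_le_sup_left le_sup_right _).trans l1)
    rwa [cj_sup, cj_inv_cj, cj_eq_self_of_normal (pCore p H)] at this
  · rw [mem_cj, inv_inv] at b c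
    have := congrArg (fun X => cj(g⁻¹, X)) (k5 _ b c)
    have e : cj(g⁻¹, cj(g * x * g⁻¹, cj(g, A))) = cj(x, A) := by
      rw [← cj_mul, ← cj_mul, show g⁻¹ * (g * x * g⁻¹) * g = x by group]
    simp only [cj_sup, cj_inv_cj, cj_Op] at this
    rwa [e] at this

end Cfsg.Agent.S2834
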