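import Cfsg.Statements.S2836
import Cfsg.Agent.Lib.Comp.PMin

set_option autoImplicit false
open Cfsg

namespace Cfsg.Agent.S2836

open Cfsg.Agent.Comp Subgroup

/-- Let L be a finite group, L₀ a maximal subgroup, T a Sylow p-subgroup of L₀, Y ≤ T, and suppose L is Y-minimal. Let D be the intersection of the conjugates of L₀ (the core of L₀). Then D contains O_p(L) and D/O_p(L) is the Frattini subgroup of L/O_p(L), so D is p-closed; and every normal subgroup N of L contained in L₀ is p-closed with N/O_p(N) a nilpotent group of order prime to p. -/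
theorem result {L : Type*} [Group L] [Finite L] {p : ℕ} [Fact p.Prime] (L₀ : Subgroup L) (hL₀ : IsCoatom L₀) (T : Sylow p ↥L₀) (Y : Subgroup L) (hYT : Y ≤ (T : Subgroup ↥L₀).map L₀.subtype) (hmin : Cfsg.IsMinimalOver Y) : (Cfsg.pCore p L ≤ L₀.normalCore ∧ (L₀.normalCore).map (QuotientGroup.mk' (Cfsg.pCore p L)) = frattini (L ⧸ Cfsg.pCore p L) ∧ Cfsg.IsPClosed p ↥(L₀.normalCore)) ∧ ∀ (N : Subgroup L) [N.Normal], N ≤ L₀ → Cfsg.IsPClosed p ↥N ∧ Group.IsNilpotent (↥N ⧸ Cfsg.pCore p ↥N) ∧ (Nat.card (↥N ⧸ Cfsg.pCore p ↥N)).Coprime p := by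
  have hT := sylIn_sylow T
  have h := IsMinimalOver.minOver hmin hL₀ (hYT.trans hT.le)
  have hT' := h.sylIn hT hYT
  have h' := h.mono hYT hT.le
  have hO : pCore p L ≤ L₀ := ((Op_top p).ge.trans hT'.Op_le).trans hT.le
  let f := QuotientGroup.mk' (pCore p L)
  have hk : f.ker = pCore p L := QuotientGroup.ker_mk' _
  have hf : Function.Surjective f := QuotientGroup.mk'_surjective _
  have m := h'.map f (inf_le_right.trans (hk.le.trans hO))
  have s := hT'.map f
  rw [Solv.map_top_mk] at m s
  have k1 : ∀ N : Subgroup L, N.Normal → N ≤ L₀ → PClosed p N := fun N a b =>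
    h'.pClosed hT' b (le_normalizer_normal _ _)
  have k2 : ∀ N : Subgroup L, N.Normal → N ≤ L₀ → (Nat.card (N.map f)).Coprime p := fun N a b =>
    (k1 N a b).coprime_map f (((SubnIn.of_normal N).Op_le p).trans ((Op_top p).trans hk.symm).le)
  have k3 : ∀ N : Subgroup L, N.Normal → N ≤ L₀ → N.map f ≤ frattini _ := fun N a b => by
    have := a.map f hf
    exact m.le_frattini s (map_mono b) (k2 N a b)
  refine ⟨⟨normal_le_normalCore.2 hO, le_antisymm (k3 _ inferInstance (normalCore_le _)) ?_,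
    pClosed_iff.1 (k1 _ inferInstance (normalCore_le _))⟩, fun N a b => ⟨pClosed_iff.1 (k1 N a b), ?_⟩⟩
  · rw [← map_comap_eq_self_of_surjective hf (frattini _)]
    refine map_mono (normal_le_normalCore.2 ?_)
    refine (comap_mono (frattini_le_coatom m.isCoatom)).trans ?_
    rw [comap_map_eq, hk, sup_eq_left.2 hO]
  · have e : pCore p N = (pCore p L).subgroupOf N := by
      rw [← subgroupOf_Op, (SubnIn.of_normal N).Op_eq, Op_top, inf_subgroupOf_right]
    have i := (QuotientGroup.quotientMulEquivOfEq e).trans (Solv.quotientSubgroupOfEquivMap N _)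
    have := isNilpotent_of_le (k3 N a b) frattini_nilpotent
    exact ⟨Group.nilpotent_of_mulEquiv i.symm, Nat.card_congr i.toEquiv ▸ k2 N a b⟩

end Cfsg.Agent.S2836
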