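import Cfsg.Statements.S2837
import Cfsg.Agent.Lib.Comp.PMin

set_option autoImplicit false
open Cfsg

namespace Cfsg.Agent.S2837

open Cfsg.Agent.Comp Subgroup

/-- Let L be a finite group of characteristic p, L₀ a maximal subgroup, Y an elementary abelian p-subgroup of L₀ with L Y-minimal and O_p(L) ≤ N_L(Y). Put A = the normal closure of O_p(L) ∩ Y in L. Then for every g ∈ L outside L₀: Φ(A) = A' = [A ∩ Y, A] = [A ∩ Y, A ∩ gYg⁻¹] ≤ C_Y(L), and Y ∩ gYg⁻¹ = (A ∩ Y) ∩ (A ∩ gYg⁻¹) = C_Y(L) = C_A(L). -/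
theorem result {L : Type*} [Group L] [Finite L] {p : ℕ} [Fact p.Prime] (hchar : Subgroup.centralizer (Cfsg.pCore p L : Set L) ≤ Cfsg.pCore p L) (L₀ : Subgroup L) (hL₀ : IsCoatom L₀) (Y : Subgroup L) (hYL₀ : Y ≤ L₀) (hYel : Cfsg.IsElementaryAbelian p Y) (hmin : Cfsg.IsMinimalOver Y) (hOY : Cfsg.pCore p L ≤ Subgroup.normalizer (Y : Set L)) (A : Subgroup L) (hA : A = Subgroup.normalClosure (((Cfsg.pCore p L ⊓ Y : Subgroup L)) : Set L)) (g : L) (hg : g ∉ L₀) : (frattini ↥A).map A.subtype = ⁅A, A⁆ ∧ ⁅A, A⁆ = ⁅A ⊓ Y, A⁆ ∧ ⁅A ⊓ Y, A⁆ = ⁅A ⊓ Y, A ⊓ Y.map (MulAut.conj g).toMonoidHom⁆ ∧ ⁅A ⊓ Y, A⁆ ≤ Y ⊓ Subgroup.center L ∧ Y ⊓ Y.map (MulAut.conj g).toMonoidHom = Y ⊓ Subgroup.center L ∧ (A ⊓ Y) ⊓ (A ⊓ Y.map (MulAut.conj g).toMonoidHom) = Y ⊓ Subgroup.center L ∧ A ⊓ Subgroup.center L = Y ⊓ Subgroup.center L := by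
  have h := IsMinimalOver.minOver hmin hL₀ hYL₀
  have hY := IsElementaryAbelian.le_centralizer hYel
  have gen := h.sup_cj (mem_top g) hg
  have e0 := h.inf_cj hY (mem_top g) hg
  rw [inf_centralizer_top] at e0
  set Q := pCore p L with hQ
  have hQg : cj(g, Q) = Q := cj_eq_self_of_normal _ _
  set B := Q ⊓ Y with hB
  have eC : cj(g, B) = Q ⊓ cj(g, Y) := by rw [hB, cj_inf, hQg]
  set C := Q ⊓ cj(g, Y) with hC
  have hY' : cj(g, Y) ≤ centralizer (cj(g, Y) : Set L) := by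
    rw [← cj_centralizer]; exact cj_mono g hY
  have hOY' : Q ≤ normalizer (cj(g, Y) : Set L) := by
    rw [← cj_normalizer, ← hQg]; exact cj_mono g hOY
  have q1 : ⁅Y, Q⁆ ≤ B := le_inf (commutator_le_right _ _) (commutator_le_left_of_le_normalizer hOY)
  have q2 : ⁅cj(g, Y), Q⁆ ≤ C :=
    le_inf (commutator_le_right _ _) (commutator_le_left_of_le_normalizer hOY')
  have nB : Q ≤ normalizer (B : Set L) := le_normalizer_inf le_normalizer hOY
  have nC : Q ≤ normalizer (C : Set L) := le_normalizer_inf le_normalizer hOY'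
  have hBC : B ⊔ C ≤ Q := sup_le inf_le_left inf_le_left
  have eA : A = B ⊔ C := by
    rw [hA, normalClosure_eq_sup]
    refine le_antisymm (sup_commutator_le le_sup_left (gen.ge.trans (sup_le
      (le_normalizer_of_commutator_le hBC (q1.trans le_sup_left))
      (le_normalizer_of_commutator_le hBC (q2.trans le_sup_right))))) (sup_le le_sup_left ?_)
    rw [← eC]; exact cj_le_sup_commutator (mem_top g)
  have eB : A ⊓ Y = B := le_antisymm (inf_le_inf_right _ (eA.le.trans hBC))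
    (le_inf (le_sup_left.trans eA.ge) inf_le_right)
  have eC' : A ⊓ cj(g, Y) = C := le_antisymm (inf_le_inf_right _ (eA.le.trans hBC))
    (le_inf (le_sup_right.trans eA.ge) inf_le_right)
  have cB : ⁅B, B⁆ = ⊥ := commutator_eq_bot_iff_le_centralizer.2
    (inf_le_right.trans (hY.trans (centralizer_mono inf_le_right)))
  have cC : ⁅C, C⁆ = ⊥ := commutator_eq_bot_iff_le_centralizer.2
    (inf_le_right.trans (hY'.trans (centralizer_mono inf_le_right)))
  have n1 : B ≤ normalizer ((⁅B, C⁆ : Subgroup L) : Set L) :=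
    le_sup_left.trans (sup_le_normalizer_commutator _ _)
  have n2 : C ≤ normalizer ((⁅B, C⁆ : Subgroup L) : Set L) :=
    le_sup_right.trans (sup_le_normalizer_commutator _ _)
  have c1 : ⁅B, B ⊔ C⁆ = ⁅B, C⁆ := le_antisymm
    (commutator_sup_right_le n1 n2 (cB.le.trans bot_le) le_rfl) (commutator_mono le_rfl le_sup_right)
  have c2 : ⁅B ⊔ C, B ⊔ C⁆ = ⁅B, C⁆ := le_antisymm (commutator_sup_left_le n1 n2 c1.le
    (commutator_sup_right_le n1 n2 (commutator_comm _ _).le (cC.le.trans bot_le)))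
    (commutator_mono le_sup_left le_sup_right)
  have z1 : Y ⊓ center L ≤ Q := inf_le_right.trans ((Subgroup.center_le_centralizer _).trans hchar)
  have e1 : B ⊓ C = Y ⊓ center L := le_antisymm ((inf_le_inf inf_le_right inf_le_right).trans e0.le)
    (le_inf (le_inf z1 inf_le_left) (le_inf z1 (e0.ge.trans inf_le_right)))
  rw [eB, eC', eA, c1, c2]
  refine ⟨le_antisymm (Solv.map_frattini_le_of_commutator_le_of_pow_mem (p := p) c2.le fun x hx => ?_)
    (c2.ge.trans (Solv.commutator_le_map_frattini ((isPGroup_pCore p).to_le hBC).isNilpotent)),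
    rfl, rfl, (le_inf (commutator_le_left_of_le_normalizer (inf_le_left.trans nB))
    (commutator_le_right_of_le_normalizer (inf_le_left.trans nC))).trans e1.le, e0, e1,
    le_antisymm (le_inf ?_ inf_le_right) (le_inf (e1.ge.trans (inf_le_left.trans le_sup_left))
    inf_le_right)⟩
  · obtain ⟨b, hb, c, hc, rfl⟩ := (mem_sup_of_le_normalizer (inf_le_left.trans nC)).1 hx
    have := mul_pow_mul_inv_mem_commutator (mem_sup_left hb : b ∈ B ⊔ C) (mem_sup_right hc) p
    rwa [hYel.2 b (mem_inf.1 hb).2, (IsElementaryAbelian.map hYel _).2 c (mem_inf.1 hc).2, one_mul,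
      inv_one, mul_one, c2] at this
  · refine (inf_le_inf_left _ (Subgroup.center_le_centralizer (Y : Set L))).trans ?_
    rw [sup_inf_of_le_normalizer (inf_le_left.trans nC) (inf_le_right.trans hY)]
    refine sup_le inf_le_right fun x hx => ?_
    obtain ⟨x1, x2⟩ := mem_inf.1 hx
    have hc : x ∈ centralizer ((⊤ : Subgroup L) : Set L) := by
      rw [← gen, centralizer_sup]; exact mem_inf.2 ⟨x2, hY' (mem_inf.1 x1).2⟩
    have := (mem_inf.1 x1).2
    rwa [mem_cj, mul_assoc, ← (mem_centralizer_iff.1 hc) g (mem_top g), inv_mul_cancel_left] at this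

end Cfsg.Agent.S2837
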