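import Cfsg.Statements.S2840
import Cfsg.Agent.Lib.Comp.Large

set_option autoImplicit false
open Cfsg

namespace Cfsg.Agent.S2840

open Cfsg.Agent.Comp Subgroup

/-- Let Q be a nontrivial p-subgroup of the finite group H that is a weakly closed subgroup and K a subgroup containing Q; let K° be the weak closure of Q in K (generated by the H-conjugates of Q inside K). Then K° is generated by the K-conjugates of Q, and K° is the subnormal closure of Q in K. -/
theorem result {H : Type*} [Group H] [Finite H] {p : ℕ} [Fact p.Prime] (Q : Subgroup H) (hQp : IsPGroup p ↥Q) (hQ1 : Q ≠ ⊥) (hwc : Cfsg.IsWeaklyClosedSubgroup p Q) (K : Subgroup H) (hQK : Q ≤ K) (Kc : Subgroup H) (hKc : Kc = Cfsg.weakClosure Q K) : Kc = ⨆ k : ↥K, ((Q : Subgroup H).map (MulAut.conj ((k : H) : H)).toMonoidHom) ∧ Kc = (Cfsg.subnormalClosure (Q.subgroupOf K)).map K.subtype := by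
  have h := wc_iff.2 hwc
  rw [hKc, h.weakClosure_eq hQK]
  refine ⟨sup_commutator_eq_iSup _ _, le_antisymm (le_map_subtype_iff.2 ⟨sup_commutator_le' hQK,
    le_sInf fun X hX => ?_⟩) (map_subtype_le_iff.2 (subnormalClosure_le (comap_mono le_sup_left) ?_))⟩
  · have := h.closure_le_of_subnIn (subnIn_map_subtype_iff.2 hX.2) (le_map_subtype_iff.2 ⟨hQK, hX.1⟩)
    exact (le_map_subtype_iff.1 this).2
  · exact .of_isSubnormal (subnIn_iff.1 (.of_normalizer (sup_commutator_le' hQK)
      (le_normalizer_sup_commutator _ _))).2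

end Cfsg.Agent.S2840
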