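import Cfsg.Statements.S2841
import Cfsg.Agent.Lib.Comp.Large

set_option autoImplicit false
open Cfsg

namespace Cfsg.Agent.S2841

open Cfsg.Agent.Comp Subgroup

/-- Let Q be a nontrivial p-subgroup of the finite group H that is a weakly closed subgroup and N a normal subgroup of H. Then N = N_N(Q)·[N, Q] and [N, Q] = (Q ∩ [N, Q])·[N, Q, Q]. -/
theorem result {H : Type*} [Group H] [Finite H] {p : ℕ} [Fact p.Prime] (Q : Subgroup H) (hQp : IsPGroup p ↥Q) (hQ1 : Q ≠ ⊥) (hwc : Cfsg.IsWeaklyClosedSubgroup p Q) (N' : Subgroup H) [N'.Normal] : (∀ n : H, n ∈ N' → ∃ a ∈ N' ⊓ Subgroup.normalizer ((Q : Subgroup H) : Set H), ∃ b ∈ ⁅N', Q⁆, n = a * b) ∧ (∀ c : H, c ∈ ⁅N', Q⁆ → ∃ a ∈ Q ⊓ ⁅N', Q⁆, ∃ b ∈ ⁅⁅N', Q⁆, Q⁆, c = a * b) := by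
  have h := wc_iff.2 hwc
  refine ⟨fun n hn => ?_, fun c hc => ?_⟩
  · obtain ⟨a, b, c, d, e⟩ := (mem_sup_of_le_normalizer (le_normalizer_commutator
      (le_normalizer_normal _ _) inf_le_right)).1
      ((h.inf_normalizer_sup_commutator (le_normalizer_normal N' Q)).ge hn)
    exact ⟨a, b, c, d, e.symm⟩
  · have e := h.sup_commutator_commutator N'
    rw [commutator_comm Q, commutator_comm Q] at e
    obtain ⟨a, b, x, d, rfl⟩ := (mem_sup_of_le_normalizer (le_sup_right.trans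
      (sup_le_normalizer_commutator _ _))).1 (e.ge (mem_sup_right hc))
    refine ⟨a, mem_inf.2 ⟨b, (mul_mem_cancel_right ?_).1 hc⟩, x, d, rfl⟩
    exact commutator_le_left_of_le_normalizer (le_sup_right.trans (sup_le_normalizer_commutator _ _)) d

end Cfsg.Agent.S2841
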