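import Cfsg.Statements.S2844
import Cfsg.Agent.Lib.Comp.Large

set_option autoImplicit false
open Cfsg

namespace Cfsg.Agent.S2844

open Cfsg.Agent.Comp Subgroup

/-- Let Q be a nontrivial large p-subgroup of the finite group H and Q• = O_p(N_H(Q)). Then for every g ∈ H outside N_H(Q): C_H(Q) ∩ C_H(gQg⁻¹) = 1, C_H(Q•) ∩ C_H(gQ•g⁻¹) = 1, Z(Q) ∩ Z(gQg⁻¹) = 1 and Z(Q•) ∩ Z(gQ•g⁻¹) = 1; moreover N_H(Q) = N_H(Q•) and Q• is large in H. -/
theorem result {H : Type*} [Group H] [Finite H] {p : ℕ} [Fact p.Prime] (Q : Subgroup H) (hQp : IsPGroup p ↥Q) (hQ1 : Q ≠ ⊥) (hL : Cfsg.IsLarge Q) (Qb : Subgroup H) (hQb : Qb = Cfsg.largeBullet p Q) : (∀ g : H, g ∉ Subgroup.normalizer ((Q : Subgroup H) : Set H) → Subgroup.centralizer ((Q : Subgroup H) : Set H) ⊓ Subgroup.centralizer ((((Q : Subgroup H).map (MulAut.conj (g : H)).toMonoidHom) : Subgroup H) : Set H) = ⊥ ∧ Subgroup.centralizer ((Qb : Subgroup H) : Set H) ⊓ Subgroup.centralizer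 ((((Qb : Subgroup H).map (MulAut.conj (g : H)).toMonoidHom) : Subgroup H) : Set H) = ⊥ ∧ (Q ⊓ Subgroup.centralizer ((Q : Subgroup H) : Set H)) ⊓ (((Q : Subgroup H).map (MulAut.conj (g : H)).toMonoidHom) ⊓ Subgroup.centralizer ((((Q : Subgroup H).map (MulAut.conj (g : H)).toMonoidHom) : Subgroup H) : Set H)) = ⊥ ∧ (Qb ⊓ Subgroup.centralizer ((Qb : Subgroup H) : Set H)) ⊓ (((Qb : Subgroup H).map (MulAut.conj (g : H)).toMonoidHom) ⊓ Subgroup.centralizer ((((Qb : Subgroup H).map (MulAut.conj (g : H)).toMonoidHom) : Subgroup H) : Set H)) = ⊥) ∧ Subgroup.normalizer ((Q : Subgroup H) : Set H) = Subgroup.normalizer ((Qb : Subgroup H) : Set H) ∧ Cfsg.IsLarge Qb := by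
  have h : Large p Q := ⟨hQp, hQ1, hL⟩
  have e : Qb = Op p (normalizer (Q : Set H)) := hQb
  have a : Q ≤ Qb := e ▸ Comp.le_Op le_normalizer le_rfl hQp
  have b : normalizer (Q : Set H) = normalizer (Qb : Set H) := le_antisymm
    (e ▸ le_normalizer_Op_of_le le_rfl) (h.wc.normalizer_le (e ▸ isPGroup_Op p _) a)
  refine ⟨fun g hg => ?_, b, (centralizer_mono a).trans (hL.1.trans a), fun U c d =>
    b ▸ hL.2 U (c.trans (centralizer_mono a)) d⟩
  have c := h.inf_centralizer_cj hg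
  have d := inf_le_inf (centralizer_mono a) (centralizer_mono (cj_mono g a))
  exact ⟨c, le_bot_iff.1 (d.trans c.le), le_bot_iff.1 ((inf_le_inf inf_le_right inf_le_right).trans c.le),
    le_bot_iff.1 ((inf_le_inf inf_le_right inf_le_right).trans (d.trans c.le))⟩

end Cfsg.Agent.S2844
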