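import Cfsg.Statements.S2845
import Cfsg.Agent.Lib.Comp.Large

set_option autoImplicit false
open Cfsg

namespace Cfsg.Agent.S2845

open Cfsg.Agent.Comp Subgroup

/-- Let Q be a nontrivial large p-subgroup of the finite group H. Then for every subgroup L ≥ Q with O_p(L) ≠ 1, C_H(O_p(L)) is a p-group and L has characteristic p, and either the weak closure L° of Q in L equals Q or C_H(L°) = 1; for every subgroup R of H containing a Sylow p-subgroup of H with O_p(R) ≠ 1, C_H(O_p(R)) ≤ O_p(R); and H has parabolic characteristic p. -/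
theorem result {H : Type*} [Group H] [Finite H] {p : ℕ} [Fact p.Prime] (Q : Subgroup H) (hQp : IsPGroup p ↥Q) (hQ1 : Q ≠ ⊥) (hL : Cfsg.IsLarge Q) : (∀ L : Subgroup H, Q ≤ L → Cfsg.pCore p ↥L ≠ ⊥ → IsPGroup p ↥(Subgroup.centralizer (((Cfsg.pCoreOf p L) : Subgroup H) : Set H)) ∧ Subgroup.centralizer (Cfsg.pCore p ↥L : Set ↥L) ≤ Cfsg.pCore p ↥L ∧ (Cfsg.weakClosure Q L = Q ∨ Subgroup.centralizer (((Cfsg.weakClosure Q L) : Subgroup H) : Set H) = ⊥)) ∧ (∀ R : Subgroup H, Cfsg.IsParabolic p R → Cfsg.pCore p ↥R ≠ ⊥ → Subgroup.centralizer (((Cfsg.pCoreOf p R) : Subgroup H) : Set H) ≤ (Cfsg.pCoreOf p R)) ∧ Cfsg.IsOfParabolicCharacteristic p H := by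
  have h : Large p Q := ⟨hQp, hQ1, hL⟩
  refine ⟨fun L a b => ?_, fun R ⟨T, a⟩ b => h.centralizer_Op_le (sylIn_top T) a
    fun c => b (Op_eq_bot_iff.1 c), h.parabolicChar⟩
  have := h.charP_aux a fun c => b (Op_eq_bot_iff.1 c)
  refine ⟨this.2.1, charP_iff_subtype.1 this.2.2, ?_⟩
  rw [h.wc.weakClosure_eq a]
  by_cases c : L ≤ normalizer (Q : Set H)
  · exact Or.inl (sup_eq_left.2 (commutator_le_left_of_le_normalizer c))
  · obtain ⟨g, c, d⟩ := SetLike.not_le_iff_exists.1 c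
    exact Or.inr (le_bot_iff.1 ((le_inf (centralizer_mono le_sup_left)
      (centralizer_mono (cj_le_sup_commutator c))).trans (h.inf_centralizer_cj d).le))

end Cfsg.Agent.S2845
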