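import Cfsg.Statements.S2850
import Cfsg.Agent.Lib.Comp.Large

set_option autoImplicit false
open Cfsg

namespace Cfsg.Agent.S2850

open Cfsg.Agent.Comp Subgroup

/-- Standing hypotheses: G a finite group, S a Sylow p-subgroup, Q a nontrivial large p-subgroup of G contained in S (C_G(Q) ≤ Q and N_G(U) ≤ N_G(Q) for all nontrivial U ≤ C_G(Q)), and M a subgroup containing S with the basic property (M ∈ 𝔐_G(S)); Y_M denotes the largest p-reduced normal subgroup of M and M† = M·C_G(Y_M). Suppose Y_M is asymmetric in G. Then N_G(L) ≤ N_G(O_p(M)) ≤ M† for every p-subgroup L containing O_p(M); O_p(M) is a weakly closed subgroup of G; for every subgroup L containing O_p(M), L ∩ M† contains a Sylow p-subgroup of L; and two elements of Y_M conjugate in G are conjugate in M. -/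
theorem result {G : Type*} [Group G] [Finite G] {p : ℕ} [Fact p.Prime] (S : Sylow p G) (Q : Subgroup G) (hQp : IsPGroup p ↥Q) (hQ1 : Q ≠ ⊥) (hQS : Q ≤ (S : Subgroup G)) (hQ : Cfsg.IsLarge Q) (M : Subgroup G) (hSM : (S : Subgroup G) ≤ M) (hM : Cfsg.IsInFrakM p M) (hasym : ¬ Cfsg.IsSymmetricIn (Cfsg.largestPReducedOf p M)) : (∀ L : Subgroup G, IsPGroup p ↥L → (Cfsg.pCoreOf p M) ≤ L → Subgroup.normalizer ((L : Subgroup G) : Set G) ≤ Subgroup.normalizer (((Cfsg.pCoreOf p M) : Subgroup G) : Set G) ∧ Subgroup.normalizer (((Cfsg.pCoreOf p M) : Subgroup G) : Set G) ≤ (M ⊔ Subgroup.centralizer (((Cfsg.largestPReducedOf p M) : Subgroup G) : Set G))) ∧ Cfsg.IsWeaklyClosedSubgroup p (Cfsg.pCoreOf p M) ∧ (∀ L : Subgroup G, (Cfsg.pCoreOf p M) ≤ L → Cfsg.IsParabolic p ((L ⊓ (M ⊔ Subgroup.centralizer (((Cfsg.largestPReducedOf p M) : Subgroup G) : Set G))).subgroupOf L)) ∧ (∀ x ∈ (Cfsg.largestPReducedOf p M), ∀ g : G, g * x * g⁻¹ ∈ (Cfsg.largestPReducedOf p M) →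 ∃ m ∈ M, m * x * m⁻¹ = g * x * g⁻¹) := by
  have h : FM p S M := ⟨(Large.mk hQp hQ1 hQ).parabolicChar, sylIn_top S, hSM, hM⟩
  have w := h.wc hasym
  have n := h.normalizer_Op_le.trans h.normalizer_Y.le
  refine ⟨fun L a b => ⟨w.normalizer_le a b, n⟩, wc_iff.1 w, fun L a => ?_, fun x a g b => ?_⟩
  · obtain ⟨T, b, c⟩ := exists_sylIn_ge w.isP a
    exact isParabolic_subgroupOf c (le_inf c.le ((w.le_normalizer c.isP b).trans n))
  · have k : ∀ y ∈ YL p M, Op p M ≤ centralizer ({y} : Set G) := fun y hy =>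
      (Op_le_centralizer_YL M).trans (centralizer_le_centralizer_singleton hy)
    obtain ⟨c, c1, c2⟩ := w.mem_mul (k _ b) (g := g)
      (by rw [← cj_centralizer_singleton]; exact cj_mono g (k x a))
    obtain ⟨m, m1, d, d1, e⟩ := (mem_sup_of_le_normalizer
      (le_normalizer_centralizer (pRed_YL p M).norm)).1 (n c2)
    refine ⟨m, m1, ?_⟩
    have e1 : d * x * d⁻¹ = x := by rw [← d1 x a, mul_inv_cancel_right]
    have e2 := mem_centralizer_singleton_iff.1 c1
    calc m * x * m⁻¹ = (m * d) * x * (m * d)⁻¹ := by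
          conv_lhs => rw [← e1]
          group
      _ = c⁻¹ * (g * x * g⁻¹ * c) := by rw [e]; group
      _ = _ := by rw [← e2, inv_mul_cancel_left]

end Cfsg.Agent.S2850
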