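import Cfsg.Statements.S2851
import Cfsg.Agent.Lib.Comp.Large

set_option autoImplicit false
open Cfsg

namespace Cfsg.Agent.S2851

open Cfsg.Agent.Comp Subgroup

theorem aux {G : Type*} [Group G] [Finite G] {p : ℕ} [Fact p.Prime] {N C R : Subgroup G}
    [(C.subgroupOf N).Normal] (hC : N ≤ normalizer (C : Set G)) (h : OpMod p N C ≤ C) (hR : R ≤ N)
    (hF : ((generalizedFittingSubgroup (N ⧸ C.subgroupOf N)).comap
      (QuotientGroup.mk' (C.subgroupOf N))).map N.subtype ≤ R) : OpMod p R C ≤ C := by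
  let f := QuotientGroup.mk' (C.subgroupOf N)
  have hf : Function.Surjective f := QuotientGroup.mk'_surjective _
  have hk : f.ker = C.subgroupOf N := QuotientGroup.ker_mk' _
  have d : OpMod p R C ≤ N := (OpMod_le R C).trans hR
  have a : ((OpMod p R C).subgroupOf N).map f = ⊥ := by
    refine eq_bot_of_Fstar_le_normalizer (p := p) (M := ⊤)
      ((Op_top p).trans (pCore_quotient_subgroupOf_eq_bot_iff.2 h)) (isPGroup_map_iff.2 ?_) le_top ?_
    · rw [hk, Res_subgroupOf d]; exact comap_mono (Res_OpMod_le (hR.trans hC))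
    · rw [Fstar_top, ← map_comap_eq_self_of_surjective hf (generalizedFittingSubgroup _)]
      refine map_le_normalizer_map f ((map_le_normalizer_map_iff N.subtype_injective).1 ?_)
      rw [map_subgroupOf_eq_of_le d]
      exact hF.trans (le_normalizer_OpMod le_normalizer (hR.trans hC))
  rw [Subgroup.map_eq_bot_iff, hk] at a
  exact fun x hx => a (show (⟨x, d hx⟩ : N) ∈ _ from hx)

/-- Standing hypotheses: G a finite group, S a Sylow p-subgroup, Q a nontrivial large p-subgroup of G contained in S, M a subgroup containing S with the basic property (M ∈ 𝔐_G(S)); Y_M the largest p-reduced normal subgroup of M and M† = M·C_G(Y_M). Let F be the preimage in M† of the generalized Fitting subgroup of M†/C_{M†}(Y_M). If Y_M is asymmetric in G and H is a subgroup of characteristic p containing F, then Y_M ≤ Y_H. -/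
theorem result {G : Type*} [Group G] [Finite G] {p : ℕ} [Fact p.Prime] (S : Sylow p G) (Q : Subgroup G) (hQp : IsPGroup p ↥Q) (hQ1 : Q ≠ ⊥) (hQS : Q ≤ (S : Subgroup G)) (hQ : Cfsg.IsLarge Q) (M : Subgroup G) (hSM : (S : Subgroup G) ≤ M) (hM : Cfsg.IsInFrakM p M) (hasym : ¬ Cfsg.IsSymmetricIn (Cfsg.largestPReducedOf p M)) [hn : ((Subgroup.centralizer (((Cfsg.largestPReducedOf p M) : Subgroup G) : Set G)).subgroupOf (M ⊔ Subgroup.centralizer (((Cfsg.largestPReducedOf p M) : Subgroup G) : Set G))).Normal] (F : Subgroup G) (hF : F = ((Cfsg.generalizedFittingSubgroup (↥(M ⊔ Subgroup.centralizer (((Cfsg.largestPReducedOf p M) : Subgroup G) : Set G)) ⧸ (Subgroup.centralizer (((Cfsg.largestPReducedOf p M) : Subgroup G) : Set G)).subgroupOf (M ⊔ Subgroup.centralizer (((Cfsg.largestPReducedOf p M) : Subgroup G) : Set G)))).comap (QuotientGroup.mk' ((Subgroup.centralizer (((Cfsg.largestPReducedOf p M) : Subgroup G) : Set G)).subgroupOf (M ⊔ Subgroup.centralizer (((Cfsg.largestPReducedOf p M) : Subgroup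 G) : Set G))))).map ((M ⊔ Subgroup.centralizer (((Cfsg.largestPReducedOf p M) : Subgroup G) : Set G))).subtype) (H : Subgroup G) (hFH : F ≤ H) (hH : Subgroup.centralizer (Cfsg.pCore p ↥H : Set ↥H) ≤ Cfsg.pCore p ↥H) : (Cfsg.largestPReducedOf p M) ≤ Cfsg.largestPReducedOf p H := by
  have h : FM p S M := ⟨(Large.mk hQp hQ1 hQ).parabolicChar, sylIn_top S, hSM, hM⟩
  have w := h.wc hasym
  have n := h.normalizer_Y.ge
  have y := pRed_YL p M
  have c : centralizer (YL p M : Set G) ≤ F := hF ▸ le_map_subtype_iff.2 ⟨le_sup_right,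
    (QuotientGroup.ker_mk' _).ge.trans (ker_le_comap _ _)⟩
  have o : Op p M ≤ H := (Op_le_centralizer_YL M).trans (c.trans hFH)
  obtain ⟨T, a, b⟩ := exists_sylIn_ge w.isP o
  have t : T ≤ H ⊓ (M ⊔ centralizer (YL p M : Set G)) := le_inf b.le ((w.le_normalizer b.isP a).trans
    (h.normalizer_Op_le.trans h.normalizer_Y.le))
  refine PRed.le_YL_of_sylIn ⟨(YL_le_Op M).trans (a.trans t), inf_le_right.trans n, y.elem,
    (red_iff (inf_le_right.trans n)).2 (aux (le_normalizer_centralizer n) ((red_iff n).1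
    ((red_sup_centralizer_iff y.norm).2 y.red)) inf_le_right ?_)⟩ (charP_iff_subtype.2 hH) b t inf_le_left
  exact le_inf (hF.ge.trans hFH) (map_subtype_le _)

end Cfsg.Agent.S2851
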