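import Cfsg.Statements.S2852
import Cfsg.Agent.Lib.Comp.Large

set_option autoImplicit false
open Cfsg

namespace Cfsg.Agent.S2852

open Cfsg.Agent.Comp Subgroup

/-- Standing hypotheses: G a finite group, S a Sylow p-subgroup, Q a nontrivial large p-subgroup of G contained in S, M a subgroup containing S with the basic property (M ∈ 𝔐_G(S)); Y_M the largest p-reduced normal subgroup of M. If Y_M is char-p-tall and asymmetric in G, then some subgroup H of G lies in ℌ_G(O_p(M)): H has characteristic p, O_p(M) ≤ H, Y_M ≰ O_p(H), and Y_M ≤ O_p(P) for every proper subgroup P of H containing O_p(M). -/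
theorem result {G : Type*} [Group G] [Finite G] {p : ℕ} [Fact p.Prime] (S : Sylow p G) (Q : Subgroup G) (hQp : IsPGroup p ↥Q) (hQ1 : Q ≠ ⊥) (hQS : Q ≤ (S : Subgroup G)) (hQ : Cfsg.IsLarge Q) (M : Subgroup G) (hSM : (S : Subgroup G) ≤ M) (hM : Cfsg.IsInFrakM p M) (htall : Cfsg.IsCharPTall p (Cfsg.largestPReducedOf p M)) (hasym : ¬ Cfsg.IsSymmetricIn (Cfsg.largestPReducedOf p M)) : ∃ H : Subgroup G, Cfsg.IsInFrakH p M H := by
  have h : FM p S M := ⟨(Large.mk hQp hQ1 hQ).parabolicChar, sylIn_top S, hSM, hM⟩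
  obtain ⟨T, L, a, b, c⟩ := htall
  obtain ⟨g, d, e⟩ := (sylIn_sylow T).exists_cj_eq h.sylIn_centralizer
  obtain ⟨H, x, ⟨y1, y2⟩, z⟩ := exists_minimal_subgroup (P := fun H => Op p M ≤ H ∧ ¬ YL p M ≤ Op p H)
    (A := cj(g, L)) ⟨e ▸ cj_mono g a, fun f => c (by
      have e : cj(g, YL p M) = YL p M := cj_eq_self_iff.2 (centralizer_le_normalizer _ d)
      rwa [← cj_Op, ← e, cj_le_cj_iff] at f)⟩
  exact ⟨H, charP_iff_subtype.1 ((h.wc hasym).charP h.centralizer_Op_le
    ((charP_iff_subtype.2 b).cj g) y1 x), y1, y2, fun P u v => by_contra fun w =>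
    v.ne (z P ⟨u, w⟩ v.le)⟩

end Cfsg.Agent.S2852
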