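import Cfsg.Statements.S2855
import Cfsg.Agent.Lib.Comp.PMin

set_option autoImplicit false
open Cfsg

namespace Cfsg.Agent.S2855

open Cfsg.Agent.Comp Subgroup

theorem aux {H : Type*} [Group H] [Finite H] {p : ℕ} [Fact p.Prime] {J X D Q : Subgroup H}
    [Q.Normal] (hQ : Op p J ≤ Q) (hQ' : IsPGroup p Q) (hX : X ≤ J) (hD : D ≤ J) (hQD : Q ≤ D)
    (nX : J ≤ normalizer (X : Set H)) (nD : J ≤ normalizer (D : Set H))
    (hR : Res p D ≤ ⁅D, D⁆) (h : ⁅⁅X, D⁆, D⁆ ≤ Q) : ⁅X, D⁆ ≤ Q := by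
  have nQ : ∀ Y : Subgroup H, Y ≤ normalizer (Q : Set H) := fun Y => le_normalizer_normal _ _
  have h1 : ⁅X, Res p D⁆ ≤ Q := by
    rw [commutator_comm]
    refine (commutator_mono hR le_rfl).trans (three_subgroups_le (nQ _) (nQ _) (nQ _) ?_ h)
    rwa [commutator_comm D X]
  obtain ⟨S, hS⟩ := exists_sylIn p D
  have hQS : Q ≤ S := hS.le_of_normalizer' hQ' hQD (nQ _)
  have a : ⁅X, D⁆ ≤ D := commutator_le_right_of_le_normalizer (hX.trans nD)
  have h2 : X ≤ normalizer (S : Set H) := le_normalizer_of_cj_le fun x hx => by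
    have b : SylIn p S (S ⊔ ⁅X, D⁆) := hS.of_le le_sup_left (sup_le hS.le a)
    refine (b.pClosed (sup_le le_normalizer (le_normalizer_iff_commutator_le_right.2
      ((commutator_mono le_rfl hS.le).trans (h.trans hQS))))).le_Op ?_ (isPGroup_cj_iff.2 hS.isP)
      |>.trans b.Op_le
    exact (cj_le_sup_commutator hx).trans (sup_le_sup_left
      ((commutator_comm _ _).le.trans (commutator_mono le_rfl hS.le)) _)
  have h3 : ⁅X, D⁆ ≤ S ⊓ (⁅X, D⁆ ⊔ Q) := by
    have n : D ≤ normalizer ((S ⊓ (⁅X, D⁆ ⊔ Q) : Subgroup H) : Set H) := by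
      refine le_normalizer_iff_commutator_le_left.2 ((commutator_mono inf_le_right le_rfl).trans
        (le_trans ?_ (le_inf hQS le_sup_right)))
      exact commutator_sup_left_le (nQ _) (nQ _) h (commutator_le_left _ _)
    refine (commutator_mono le_rfl hS.Res_sup.ge).trans (commutator_sup_right_le
      ((ResPi_le _ _).trans n) (hS.le.trans n) (h1.trans (le_inf hQS le_sup_right))
      (le_inf (commutator_le_right_of_le_normalizer h2)
      ((commutator_mono le_rfl hS.le).trans le_sup_left)))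
  exact (Comp.le_Op (a.trans hD) (le_normalizer_commutator nX nD)
    (hS.isP.to_le (h3.trans inf_le_left))).trans hQ

/-- Let H be a finite group, p a prime, and 𝒦 a nonempty set of subgroups of H permuted transitively by conjugation, with R the subgroup generated by the members of 𝒦. Suppose O^p(H) ≤ R, each E ∈ 𝒦 has E·O_p(H) normal in R·O_p(H), and each E ∈ 𝒦 is p-minimal (generated by the conjugates of a Sylow p-subgroup T_E of E, with T_E in exactly one maximal subgroup of E). Then H is p-minimal in the same sense. If instead each E ∈ 𝒦 is strongly p-irreducible, then H is p-irreducible and, for E, K ∈ 𝒦, either O^p(E·O_p(H)) = O^p(K·O_p(H)) or [E, K] ≤ O_p(H). -/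
theorem result {H : Type*} [Group H] [Finite H] {p : ℕ} [Fact p.Prime] (𝒦 : Set (Subgroup H)) (hne : 𝒦.Nonempty) (hinv : ∀ h : H, ∀ E ∈ 𝒦, E.map (MulAut.conj h).toMonoidHom ∈ 𝒦) (htr : ∀ E ∈ 𝒦, ∀ K ∈ 𝒦, ∃ h : H, K = E.map (MulAut.conj h).toMonoidHom) (hres : Cfsg.pResidual p H ≤ sSup 𝒦) (hnorm : ∀ E ∈ 𝒦, sSup 𝒦 ⊔ Cfsg.pCore p H ≤ Subgroup.normalizer ((E ⊔ Cfsg.pCore p H : Subgroup H) : Set H)) : ((∀ E ∈ 𝒦, ∀ T : Sylow p ↥E, Cfsg.IsMinimalOver (T : Subgroup ↥E)) → ∀ T : Sylow p H, Cfsg.IsMinimalOver (T : Subgroup H)) ∧ ((∀ E ∈ 𝒦, Cfsg.IsStronglyPIrreducible p ↥E) → Cfsg.IsPIrreducible p H ∧ ∀ E ∈ 𝒦, ∀ K ∈ 𝒦, (Cfsg.pResidual p ↥(E ⊔ Cfsg.pCore p H)).map (E ⊔ Cfsg.pCore p H).subtype = (Cfsg.pResidual p ↥(K ⊔ Cfsg.pCore p H)).map (K ⊔ Cfsg.pCore p H).subtype ∨ ⁅E, K⁆ ≤ Cfsg.pCore p H) := by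
  set Q := pCore p H with hQ
  have hQp : IsPGroup p Q := isPGroup_pCore p
  have nQ : ∀ Y : Subgroup H, Y ≤ normalizer (Q : Set H) := fun Y => le_normalizer_normal _ _
  have : (sSup 𝒦).Normal := normal_iff_top_le_normalizer.2
    (le_normalizer_sSup fun g _ K hK => hinv g K hK)
  set J := sSup 𝒦 ⊔ Q with hJ
  have hR : Res p (⊤ : Subgroup H) ≤ J := (Res_top.le.trans hres).trans le_sup_left
  have hDJ : ∀ E ∈ 𝒦, E ⊔ Q ≤ J := fun E hE => sup_le_sup_right (le_sSup hE) _
  have sD : ∀ E ∈ 𝒦, SubnIn (E ⊔ Q) ⊤ := fun E hE =>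
    (SubnIn.of_normalizer (hDJ E hE) (hnorm E hE)).trans (.of_normal J)
  have cD : ∀ (g : H) (E : Subgroup H), cj(g, E ⊔ Q) = cj(g, E) ⊔ Q := fun g E => by
    rw [cj_sup, cj_eq_self_of_normal Q]
  have oJ : Op p J ≤ Q := ((SubnIn.of_normal J).Op_le p).trans (Op_top p).le
  refine ⟨fun h T => ?_, fun h => ?_⟩
  · have hT := sylIn_top T
    have hQT : Q ≤ T := (Op_top p).ge.trans hT.Op_le
    have hJT : (T : Subgroup H) ⊔ J = ⊤ := top_le_iff.1 (le_of_Res_le_of_sylIn hT
      (hR.trans le_sup_right) le_sup_left)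
    have hm : ∀ E ∈ 𝒦, ∃ M, MinOver ((T : Subgroup H) ⊓ (E ⊔ Q)) (E ⊔ Q) M := fun E hE => by
      obtain ⟨S⟩ := (inferInstance : Nonempty (Sylow p E))
      obtain ⟨M, a⟩ := isMinimalOver_iff.1 (h E hE S)
      exact (PMin.sup_isPGroup ⟨_, _, sylIn_sylow S, a.map_subtype⟩ hQp (nQ _)).minOver
        (hT.inf_subnIn (sD E hE))
    choose! m hm using hm
    let N := J ⊓ ⨅ E : 𝒦, normalizer (m E : Set H)
    have nN : (T : Subgroup H) ≤ normalizer (N : Set H) := by
      refine le_normalizer_inf (le_normalizer_normal _ _) (le_normalizer_of_cj_le fun t ht =>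
        le_iInf fun E => cj_le_iff.2 ((iInf_le _ ⟨_, hinv t⁻¹ E E.2⟩).trans ?_))
      have a := (hm E E.2).cj t⁻¹
      rw [cj_inf, cj_eq_self_of_mem (inv_mem ht), cD] at a
      rw [cj_normalizer, a.toUMax.unique (hm _ (hinv t⁻¹ E E.2)).toUMax]
    have hTJ : ∀ E ∈ 𝒦, (T : Subgroup H) ⊓ J ≤ normalizer (m E : Set H) := fun E hE =>
      (hm E hE).le_normalizer (le_normalizer_inf (inf_le_left.trans le_normalizer)
        (inf_le_right.trans (hnorm E hE))) (inf_le_right.trans (hnorm E hE))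
    have k : ∀ X, (T : Subgroup H) ≤ X → (∃ E ∈ 𝒦, E ⊔ Q ≤ X) → X = ⊤ := fun X a ⟨E, b, c⟩ => by
      refine top_le_iff.1 (hJT.ge.trans (sup_le a (sup_le (sSup_le fun K hK => ?_) (hQT.trans a))))
      obtain ⟨g, rfl⟩ := htr E b K hK
      obtain ⟨t, ht, j, hj, rfl⟩ := (mem_sup_of_le_normalizer (le_normalizer_normal _ _)).1
        (hJT.ge (mem_top g))
      refine (cj_mono _ (le_sup_left : E ≤ E ⊔ Q)).trans ?_
      rw [cj_mul, cj_eq_self_iff.2 (hnorm E b hj)]
      exact cj_le_of_mem c (le_normalizer (a ht))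
    obtain ⟨E, hE⟩ := hne
    refine (MinOver.mk (L₀ := N ⊔ T) ⟨le_sup_right, lt_top_iff_ne_top.2 fun e => ?_, fun X a b => ?_⟩
      (k _ le_sup_left ⟨E, hE, ?_⟩)).isMinimalOver
    · have := sup_inf_of_le_normalizer' nN (inf_le_left : N ≤ J)
      rw [e, top_inf_eq] at this
      exact (hm E hE).not_le_normalizer (hm E hE).le le_rfl ((hDJ E hE).trans (this.le.trans
        (sup_le (inf_le_right.trans (iInf_le _ (⟨E, hE⟩ : 𝒦))) (hTJ E hE))))
    · have := sup_inf_of_le_normalizer (le_normalizer_normal J T) a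
      rw [hJT, top_inf_eq] at this
      refine this.le.trans (sup_le le_sup_right (le_sup_left.trans' (le_inf inf_le_left
        (le_iInf fun K => ?_))))
      have c : X ⊓ (K ⊔ Q) ≤ m K := ((hm K K.2).eq_or_le (inf_le_inf_right _ a)
        inf_le_right).resolve_left fun e => b.ne (k X a ⟨K, K.2, e.ge.trans inf_le_left⟩)
      have d := ((hT.inf_subnIn (sD K K.2)).of_le (inf_le_inf_right _ a) inf_le_right).frattini
        (M := J ⊓ X) (le_inf (inf_le_right.trans (hDJ K K.2)) inf_le_left)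
        (le_normalizer_inf (inf_le_right.trans le_normalizer) (inf_le_left.trans (hnorm K K.2)))
      exact d.ge.trans (sup_le (c.trans le_normalizer) ((hm K K.2).le_normalizer inf_le_right
        (inf_le_left.trans (inf_le_left.trans (hnorm K K.2)))))
    · exact (hm E hE).gen.ge.trans (sup_le_sup inf_le_left (commutator_mono inf_le_left le_top))
  · have hD : ∀ E ∈ 𝒦, SPIrr p (E ⊔ Q) := fun E hE => by
      let f := QuotientGroup.mk' Q
      have hk : f.ker = Q := QuotientGroup.ker_mk' _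
      have a : ∀ X : Subgroup H, IsPGroup p (X ⊓ f.ker : Subgroup H) := fun X =>
        hQp.to_le (inf_le_right.trans hk.le)
      rw [← sPIrr_map_iff f (a _), Subgroup.map_sup, (Subgroup.map_eq_bot_iff Q).2 hk.ge, sup_bot_eq,
        sPIrr_map_iff f (a _)]
      exact sPIrr_iff.2 (h E hE)
    have oD : ∀ E ∈ 𝒦, Op p (E ⊔ Q) ≤ Q := fun E hE => ((sD E hE).Op_le p).trans (Op_top p).le
    have k : ∀ E ∈ 𝒦, ∀ X, X ≤ J → J ≤ normalizer (X : Set H) →
        Res p (E ⊔ Q) ≤ X ∨ ⁅X, E ⊔ Q⁆ ≤ Q := fun E hE X a b => by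
      by_cases c : ⁅X ⊓ (E ⊔ Q), E ⊔ Q⁆ ≤ Op p (E ⊔ Q)
      · exact Or.inr (aux oJ hQp a (hDJ E hE) le_sup_right b (hnorm E hE)
          (hD E hE).pIrr.Res_le_commutator ((commutator_mono (le_inf
          (commutator_le_left_of_le_normalizer ((hDJ E hE).trans b))
          (commutator_le_right_of_le_normalizer (a.trans (hnorm E hE)))) le_rfl).trans
          (c.trans (oD E hE))))
      · exact Or.inl (((hD E hE).res_le _ inf_le_right (le_normalizer_inf ((hDJ E hE).trans b)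
          le_normalizer) c).trans inf_le_left)
    have kR : ∀ C : Subgroup H, C.Normal → (∀ E ∈ 𝒦, Res p (E ⊔ Q) ≤ C) → Res p ⊤ ≤ C := by
      intro C a b
      have c : SubnIn (sSup ((· ⊔ Q) '' 𝒦)) ⊤ ∧ Res p (sSup ((· ⊔ Q) '' 𝒦)) ≤ C :=
        sSup_induction_finite (P := fun X => SubnIn X ⊤ ∧ Res p X ≤ C)
          ⟨.bot _, (ResPi_le _ _).trans bot_le⟩ (by rintro _ ⟨E, hE, rfl⟩; exact ⟨sD E hE, b E hE⟩)
          fun A B x y => ⟨x.1.sup y.1, Res_sup_le_of_subnIn x.1 y.1 (le_normalizer_normal _ _) x.2 y.2⟩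
      refine (ResPi_le_ResPi ((Res_top.le.trans hres).trans (sSup_le fun E hE => ?_))).trans c.2
      exact le_sup_left.trans (le_sSup ⟨E, hE, rfl⟩)
    refine ⟨pIrr_top_iff.1 ⟨fun a => ?_, fun N _ a b => ?_⟩, fun E hE K hK => ?_⟩
    · obtain ⟨E, hE⟩ := hne
      exact (hD E hE).not_closed (a.of_le le_top)
    · have := normal_iff_top_le_normalizer.2 a
      by_cases c : ∃ E ∈ 𝒦, Res p (E ⊔ Q) ≤ N
      · obtain ⟨E, hE, c⟩ := c
        refine kR N this fun K hK => ?_
        obtain ⟨g, rfl⟩ := htr E hE K hK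
        rw [← cD, ← cj_Res]
        exact cj_le_of_mem c (a (mem_top g))
      · push Not at c
        have d : ⁅N ⊓ J, J⁆ ≤ Q := by
          rw [commutator_comm]
          refine commutator_sup_left_le (nQ _) (nQ _) (commutator_sSup_left_le (fun _ _ => nQ _)
            fun E hE => ?_) (commutator_le_left _ _)
          rw [commutator_comm]
          exact (commutator_mono le_rfl le_sup_left).trans ((k E hE _ inf_le_right
            (le_normalizer_normal _ _)).resolve_left fun e => c E hE (e.trans inf_le_left))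
        have d2 : ⁅⁅N, J⁆, J⁆ ≤ Q := (commutator_mono (commutator_le_inf _ _) le_rfl).trans d
        have d3 : ⁅⁅J, J⁆, N⁆ ≤ Q :=
          three_subgroups_le (nQ _) (nQ _) (nQ _) (by rwa [commutator_comm J N]) d2
        have d4 : Res p (⊤ : Subgroup H) ≤ ⁅J, J⁆ := kR _ inferInstance fun E hE =>
          (hD E hE).pIrr.Res_le_commutator.trans (commutator_mono (hDJ E hE) (hDJ E hE))
        obtain ⟨S, hS⟩ := exists_sylIn p N
        refine absurd (hS.pClosed (hS.Res_sup.ge.trans (sup_le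
          (le_normalizer_iff_commutator_le_right.2 ?_) le_normalizer))) b
        refine (le_inf ((commutator_mono ((ResPi_mono le_top).trans d4) hS.le).trans d3)
          ((commutator_mono le_top hS.le).trans (commutator_le_right _ _))).trans ?_
        exact hS.le_of_normalizer' (hQp.to_le inf_le_left) inf_le_right (le_normalizer_normal _ _)
    · rw [map_pResidual, map_pResidual]
      refine (k E hE _ (hDJ K hK) (hnorm K hK)).imp (fun a => ?_) fun a => ?_
      · obtain ⟨g, rfl⟩ := htr E hE K hK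
        refine eq_of_le_of_card_ge (ResPi_le_ResPi a) ?_
        rw [← cD, ← cj_Res, card_cj]
      · rw [commutator_comm]
        exact (commutator_mono le_sup_left le_sup_left).trans a

end Cfsg.Agent.S2855
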