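import Cfsg.Statements.S2857
import Cfsg.Agent.Lib.Comp.Amal

set_option autoImplicit false
open Cfsg

namespace Cfsg.Agent.S2857

open Cfsg.Agent.Comp Subgroup

/-- Let (M₁, M₂) be an amalgam pair in X satisfying the rank-two standing hypothesis (characteristic p, the normalizers in M₁ and in M₂ of a Sylow p-subgroup of M₁ ∩ M₂ equal and contained in M₁ ∩ M₂, and strongly p-embedded residues), λ a vertex of the coset graph, L_λ the subgroup of its stabilizer generated by the p-elements, Q_λ = O_p of the stabilizer, O^p(L_λ) the subgroup of L_λ generated by its elements of order prime to p, and V_λ^{(k)} the subgroup generated by the Z_μ over the vertices μ at distance at most k from λ (Z_μ being generated by the Ω₁(Z(S)), S a Sylow p-subgroup of the stabilizer of μ). If n ≥ 2 and V_λ^{(n)} ≤ Q_λ, then O^p(L_λ) does not centralize V_λ^{(n)}/V_λ^{(n-2)}, that is, [V_λ^{(n)}, O^p(L_λ)] is not contained in V_λ^{(n-2)}. -/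
theorem result {X : Type*} [Group X] {p : ℕ} [Fact p.Prime] (M₁ M₂ : Subgroup X) (h : Cfsg.IsSpeAmalgamPair p M₁ M₂) (lam : Cfsg.CosetVertex M₁ M₂) (n : ℕ) (hn : 2 ≤ n) (hVQ : Cfsg.vertexVIter p M₁ M₂ n lam ≤ Cfsg.vertexQ p lam) : ¬ ⁅Cfsg.vertexVIter p M₁ M₂ n lam, ((Cfsg.pResidual p ↥(Cfsg.pElementClosure p (MulAction.stabilizer X lam))).map (Cfsg.pElementClosure p (MulAction.stabilizer X lam)).subtype)⁆ ≤ Cfsg.vertexVIter p M₁ M₂ (n - 2) lam := by
  intro a
  have k := IsCharPAmalgamPair.cAmal h.1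
  have c := connected_cosetGraph k.sup
  obtain ⟨m, rfl⟩ : ∃ m, n = m + 2 := ⟨n - 2, by omega⟩
  obtain ⟨μ, hμ⟩ := exists_adj lam
  have e := k.adj hμ
  have := e.finA
  obtain ⟨T, t⟩ := exists_sylIn p (MulAction.stabilizer X lam ⊓ MulAction.stabilizer X μ)
  have s := e.sylA T t
  have u1 := vertexVIter_le_succ (p := p) c hμ (m + 1)
  have u2 := le_normalizer_vertexVIter (p := p) c μ (m + 1)
  have := finite_of_le (pElementClosure_le p (MulAction.stabilizer X lam))
  have n1 := ((IsSpeAmalgamPair.normLe h).adj hμ T t).1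
  refine e.symm.Z_ne_bot (le_bot_iff.1 ((vertexZ_le_vertexVIter (by simp)).trans (e.eq_bot
    (u1.trans (hVQ.trans (le_inf (pCoreOf_le _ _) e.pCoreOf_le))) (s.pElementClosure_sup.ge.trans
    (sup_le ((s.of_le (le_pElementClosure s.le s.isP) (pElementClosure_le _ _)).pResidual_sup.ge.trans
    (sup_le ?_ (t.le.trans (inf_le_right.trans u2)))) (n1.trans u2))) u2).le))
  exact le_normalizer_iff_commutator_le_left.2 ((commutator_mono u1 le_rfl).trans
    (a.trans (vertexVIter_le_succ c hμ.symm m)))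

end Cfsg.Agent.S2857
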