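import Cfsg.Statements.S2859
import Cfsg.Agent.Lib.Comp.Large

set_option autoImplicit false
open Cfsg

namespace Cfsg.Agent.S2859

open Cfsg.Agent.Comp Subgroup

theorem aux {G : Type*} [Group G] [Finite G] {p : ℕ} [Fact p.Prime] {Q Hc H₁ H₂ : Subgroup G}
    (h : WC p Q) (hQ : Q ≤ Hc) (hc : Q ⊔ ⁅Q, Hc⁆ = Hc) (a₁ : H₁ ≤ Hc)
    (n₁ : Hc ≤ normalizer (H₁ : Set G)) (a₂ : H₂ ≤ Hc) (n₂ : Hc ≤ normalizer (H₂ : Set G))
    (hprod : H₁ ⊔ H₂ = Hc) (hcomm : ⁅H₁, H₂⁆ ≤ normalizer (Q : Set G)) {K : Subgroup G}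
    (hK : K = Res p (Q ⊔ ⁅Q, H₁⁆)) : (⁅K, Q⁆ = K ∧ ⁅K, H₁⁆ = K ∧ K ≤ ⁅H₁, H₁⁆ ∧
      Hc ≤ normalizer (K : Set G)) ∧ ⁅K, H₂⁆ ≤ Op p Hc ∧ K ≤ H₁ ∧ K ⊔ Q = Q ⊔ ⁅Q, H₁⁆ := by
  have e0 : Q ⊔ ⁅Q, Q ⊔ ⁅Q, H₁⁆⁆ = Q ⊔ ⁅Q, H₁⁆ := by
    rw [sup_commutator_sup_self, h.sup_commutator_commutator]
  have e1 : ⁅K, Q⁆ = K := hK ▸ commutator_Res_of_closure h.isP e0
  have e2 : K ≤ H₁ := hK ▸ (Res_le_of_le_sup (sup_comm _ _).le (le_sup_left.trans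
    (sup_le_normalizer_commutator _ _)) h.isP).trans
    (commutator_le_right_of_le_normalizer (hQ.trans n₁))
  have rK : Res p K = K := hK ▸ Res_Res _
  have nO : Hc ≤ normalizer (Op p Hc : Set G) := le_normalizer_Op_of_le le_rfl
  have nD := le_normalizer_commutator n₁ n₂
  have d1 : ⁅H₁, H₂⁆ ≤ H₁ := commutator_le_left_of_le_normalizer (a₂.trans n₁)
  have d2 : ⁅⁅H₁, H₂⁆, Hc⁆ ≤ Op p Hc := by
    have := commutator_closure_le_of_normalizes h.isP hQ nD hcomm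
    rw [hc, commutator_comm] at this
    exact (this.trans inf_le_left).trans ((SubnIn.of_normalizer (d1.trans a₁) nD).Op_le p)
  have n11 := le_normalizer_commutator n₁ n₁
  have e3 : K ≤ ⁅H₁, H₁⁆ ⊔ ⁅H₁, H₂⁆ := by
    have n := le_normalizer_sup n11 nD
    exact e1.ge.trans ((commutator_mono e2 (hQ.trans hprod.ge)).trans
      (commutator_sup_right_le (a₁.trans n) (a₂.trans n) le_sup_left le_sup_right))
  have e4 : ⁅K, H₂⁆ ≤ Op p Hc := by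
    refine (commutator_mono e3 le_rfl).trans (commutator_sup_left_le
      (((commutator_le_left_of_le_normalizer le_normalizer).trans a₁).trans nO) ((d1.trans a₁).trans nO)
      (three_subgroups_le (a₁.trans nO) (a₂.trans nO) (a₁.trans nO) ?_ ?_)
      ((commutator_mono le_rfl a₂).trans d2))
    · exact (commutator_mono le_rfl a₁).trans d2
    · rw [commutator_comm H₂]; exact (commutator_mono le_rfl a₁).trans d2
  have k1 : H₁ ≤ normalizer (K : Set G) := hK ▸ le_normalizer_ResPi (le_normalizer_sup_commutator _ _)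
  have k2 : Op p Hc ≤ normalizer (K : Set G) := by
    have := h.Op_le_normalizer hQ
    exact hK ▸ le_normalizer_ResPi (le_normalizer_sup this
      (le_normalizer_commutator this ((Op_le p Hc).trans n₁)))
  have k3 : Hc ≤ normalizer (K : Set G) := by
    have a : Res p (K ⊔ Op p Hc) = K := le_antisymm (Res_sup_le' k2 (isPGroup_Op p Hc))
      (rK.ge.trans (ResPi_mono le_sup_left))
    refine hprod.ge.trans (sup_le k1 (a ▸ le_normalizer_ResPi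
      (le_normalizer_iff_commutator_le_left.2 ?_)))
    exact (commutator_sup_left_le ((e2.trans a₁).trans nO) le_normalizer e4
      (commutator_le_left_of_le_normalizer (a₂.trans nO))).trans le_sup_right
  have e5 : K ≤ ⁅K, H₁⁆ := by
    have n := le_normalizer_commutator k3 n₁
    have n' := le_normalizer_sup n nO
    refine rK.ge.trans (Res_le_of_le_sup (e1.ge.trans ((commutator_mono le_rfl
      (hQ.trans hprod.ge)).trans (commutator_sup_right_le (a₁.trans n') (a₂.trans n') le_sup_left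
      (e4.trans le_sup_right)))) ((Op_le p Hc).trans n) (isPGroup_Op p Hc))
  exact ⟨⟨e1, le_antisymm (commutator_le_left_of_le_normalizer k1) e5,
    e5.trans (commutator_mono e2 le_rfl), k3⟩, e4, e2,
    by rw [sup_comm, hK, sup_Res_eq_of_closure e0]⟩

/-- Let Q be a nontrivial p-subgroup of the finite group H that is a weakly closed subgroup, H° the weak closure of Q in H (generated by the conjugates of Q) and H_∘ = O^p(H°). Suppose H₁, H₂ are normal subgroups of H° with H° = H₁H₂ and [H₁, H₂] ≤ N_H(Q), and put Kᵢ = O^p of the weak closure of Q in HᵢQ. Then for i = 1, 2: Kᵢ = [Kᵢ, Q] = [Kᵢ, Hᵢ] ≤ Hᵢ′ and Kᵢ is normal in H°; H_∘ = K₁K₂; and [K₁, K₂] ≤ O_p(H°). -/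
theorem result {G : Type*} [Group G] [Finite G] {p : ℕ} [Fact p.Prime] (Q : Subgroup G) (hQp : IsPGroup p ↥Q) (hQ1 : Q ≠ ⊥) (hwc : Cfsg.IsWeaklyClosedSubgroup p Q) (Hc : Subgroup G) (hHc : Hc = Cfsg.weakClosure Q ⊤) (H₁ H₂ : Subgroup G) (hn₁ : H₁ ≤ Hc ∧ Hc ≤ Subgroup.normalizer ((H₁ : Subgroup G) : Set G)) (hn₂ : H₂ ≤ Hc ∧ Hc ≤ Subgroup.normalizer ((H₂ : Subgroup G) : Set G)) (hprod : H₁ ⊔ H₂ = Hc) (hcomm : ⁅H₁, H₂⁆ ≤ Subgroup.normalizer ((Q : Subgroup G) : Set G)) (K₁ K₂ : Subgroup G) (hK₁ : K₁ = ((Cfsg.pResidual p ↥(Cfsg.weakClosure Q (H₁ ⊔ Q))).map ((Cfsg.weakClosure Q (H₁ ⊔ Q))).subtype)) (hK₂ : K₂ = ((Cfsg.pResidual p ↥(Cfsg.weakClosure Q (H₂ ⊔ Q))).map ((Cfsg.weakClosure Q (H₂ ⊔ Q))).subtype)) : (⁅K₁, Q⁆ = K₁ ∧ ⁅K₁, H₁⁆ = K₁ ∧ K₁ ≤ ⁅H₁, H₁⁆ ∧ Hc ≤ Subgroup.normalizer ((K₁ : Subgroup G) : Set G)) ∧ (⁅K₂, Q⁆ = K₂ ∧ ⁅K₂, H₂⁆ = K₂ ∧ K₂ ≤ ⁅H₂, H₂⁆ ∧ Hc ≤ Subgroup.normalizer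 ((K₂ : Subgroup G) : Set G)) ∧ K₁ ⊔ K₂ = ((Cfsg.pResidual p ↥Hc).map (Hc).subtype) ∧ ⁅K₁, K₂⁆ ≤ (Cfsg.pCoreOf p Hc) := by
  have h := wc_iff.2 hwc
  rw [h.weakClosure_eq le_top] at hHc
  have hQ : Q ≤ Hc := hHc ▸ le_sup_left
  have hc : Q ⊔ ⁅Q, Hc⁆ = Hc := hHc ▸ h.closure_closure le_top
  rw [map_pResidual, h.weakClosure_eq le_sup_right, sup_comm _ Q, sup_commutator_sup_self] at hK₁ hK₂
  obtain ⟨a1, a2, a3, a4⟩ := aux h hQ hc hn₁.1 hn₁.2 hn₂.1 hn₂.2 hprod hcomm hK₁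
  obtain ⟨b1, b2, b3, b4⟩ := aux h hQ hc hn₂.1 hn₂.2 hn₁.1 hn₁.2 ((sup_comm _ _).trans hprod)
    (by rwa [commutator_comm]) hK₂
  rw [map_pResidual]
  refine ⟨a1, b1, le_antisymm (sup_le (hK₁.le.trans (ResPi_mono (a4.ge.trans
    (sup_le (a3.trans hn₁.1) hQ)))) (hK₂.le.trans (ResPi_mono (b4.ge.trans
    (sup_le (b3.trans hn₂.1) hQ))))) (Res_le_of_le_sup (hc.ge.trans
    (sup_commutator_le le_sup_right (hprod.ge.trans (sup_le ?_ ?_))))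
    (hQ.trans (le_normalizer_sup a1.2.2.2 b1.2.2.2)) hQp), (commutator_mono le_rfl b3).trans a2⟩
  · rw [sup_comm K₁, sup_assoc, a4]
    exact le_normalizer_sup (hn₁.1.trans b1.2.2.2) (le_normalizer_sup_commutator _ _)
  · rw [sup_assoc, b4]
    exact le_normalizer_sup (hn₂.1.trans a1.2.2.2) (le_normalizer_sup_commutator _ _)

end Cfsg.Agent.S2859
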