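import Cfsg.Statements.S2860
import Cfsg.Agent.Lib.Comp.Large

set_option autoImplicit false
open Cfsg

namespace Cfsg.Agent.S2860

open Cfsg.Agent.Comp Subgroup

theorem aux {G : Type*} [Group G] [Finite G] {p : ℕ} [Fact p.Prime] {Q C : Subgroup G} [C.Normal]
    (hQ : IsPGroup p Q) (h1 : ¬ Q ≤ C) (h0 : Q ⊔ ⁅Q, Q ⊔ ⁅Q, ⊤⁆⁆ = Q ⊔ ⁅Q, ⊤⁆)
    (h2 : ⁅Q ⊔ ⁅Q, ⊤⁆, C⁆ ≤ Op p (Q ⊔ ⁅Q, ⊤⁆)) (h3 : pCore p (G ⧸ C) = ⊥)
    (h4 : QS ((Res p ⊤ ⊔ C).map (QuotientGroup.mk' C))) {R : Subgroup G}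
    (hR : R = Res p (Q ⊔ ⁅Q, ⊤⁆)) : Res p ⊤ ⊔ C = R ⊔ C ∧ ⁅R, R⁆ = R ∧
      QS (R.map (QuotientGroup.mk' C)) ∧ Op p R ≤ C ∧ ⁅R ⊓ C, R⁆ ≤ Op p R ∧
      ∀ Y : Subgroup G, IsPGroup p Y → ¬ Y ≤ C → ⁅R, Y⁆ = R := by
  set f := QuotientGroup.mk' C with hf
  have hs : Function.Surjective f := QuotientGroup.mk'_surjective _
  have hk : f.ker = C := QuotientGroup.ker_mk' _
  have hO : Op p (⊤ : Subgroup (G ⧸ C)) = ⊥ := (Op_top p).trans h3
  rw [Subgroup.map_sup, (Subgroup.map_eq_bot_iff C).2 hk.ge, sup_bot_eq, map_Res,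
    map_top_of_surjective f hs] at h4
  have hK : CompIn (Res p (⊤ : Subgroup (G ⧸ C))) ⊤ := ⟨ResPi_subnIn _ _, h4⟩
  have k : ∀ Y : Subgroup G, IsPGroup p Y → ¬ Y ≤ C → ⁅Res p ⊤, Y.map f⁆ = Res p ⊤ := fun Y a b =>
    (h4.commutator_eq_or (le_normalizer_normal _ _)).resolve_right fun c => b (hk ▸
      (Subgroup.map_eq_bot_iff _).1 (eq_bot_of_le_centralizer_Fstar hO (a.map f) le_top
      ((commutator_eq_bot_iff'.1 c).trans (centralizer_mono (Fstar_le_Res hO)))))
  set A := Q ⊔ ⁅Q, ⊤⁆ with hA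
  have nA : A.Normal := normal_iff_top_le_normalizer.2 (le_normalizer_sup_commutator _ _)
  have nR : R.Normal := by rw [hR]; infer_instance
  have rR : Res p R = R := by rw [hR, Res_Res]
  have e1 : R.map f = Res p ⊤ := by
    rw [hR, map_Res]
    refine le_antisymm (ResPi_mono le_top) (le_Res_of_perfect h4.perfect ((k Q hQ h1).ge.trans ?_))
    rw [hA, Subgroup.map_sup, map_commutator, map_top_of_surjective f hs, commutator_comm]
    exact (commutator_mono le_rfl le_top).trans le_sup_right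
  have rA : R ≤ A := hR.le.trans (ResPi_le _ _)
  have e2 : ⁅R ⊓ C, A⁆ ≤ Op p R := by
    rw [((SubnIn.of_normal R).of_le rA le_top).Op_eq]
    refine le_inf ?_ ((commutator_mono inf_le_left le_rfl).trans (commutator_le_left _ _))
    rw [commutator_comm]
    exact (commutator_mono le_rfl inf_le_right).trans h2
  have e3 : ∀ X : Subgroup G, X ≤ R → R ≤ normalizer (X : Set G) → Res p ⊤ ≤ X.map f →
      ∀ Z, Z ≤ A → Z ≤ normalizer (X : Set G) → ⁅R, Z⁆ = R → X = R := fun X a b c Z d d' e => by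
    have g := eq_sup_inf_ker f a (e1 ▸ c)
    rw [hk] at g
    have n : ∀ W : Subgroup G, W ≤ normalizer (X : Set G) →
        W ≤ normalizer ((X ⊔ Op p R : Subgroup G) : Set G) := fun W w =>
      le_normalizer_sup w (le_normalizer_normal _ _)
    refine le_antisymm a (rR.ge.trans (Res_le_of_le_sup (e.ge.trans ((commutator_mono g.le
      le_rfl).trans (commutator_sup_left_le (n _ le_normalizer) (n _ (inf_le_left.trans b))
      ((commutator_le_left_of_le_normalizer d').trans le_sup_left)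
      ((commutator_mono le_rfl d).trans (e2.trans le_sup_right))))) ((Op_le p R).trans b)
      (isPGroup_Op p R)))
  have e4 : ⁅R, R⁆ = R := e3 _ (commutator_le_left _ _) (le_normalizer_normal _ _)
    (by rw [map_commutator, e1, h4.perfect]) Q le_sup_left (le_normalizer_normal _ _)
    (by rw [hR]; exact commutator_Res_of_closure hQ h0)
  refine ⟨?_, e4, e1 ▸ h4, ?_, (commutator_mono le_rfl rA).trans e2, fun Y a b => ?_⟩
  · rw [← hk, ← comap_map_eq, ← comap_map_eq, e1, map_Res, map_top_of_surjective f hs]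
  · rw [← hk, ← Subgroup.map_eq_bot_iff]
    exact le_bot_iff.1 ((map_Op_le f R).trans (e1 ▸ (hK.subn.Op_eq_bot hO).le))
  · have n : R ≤ normalizer ((⁅R, Y⁆ : Subgroup G) : Set G) :=
      le_sup_left.trans (sup_le_normalizer_commutator _ _)
    exact e3 _ (commutator_le_left _ _) n (by rw [map_commutator, e1, k Y a b]) R rA n e4

/-- Let Q be a nontrivial large p-subgroup of the finite group H, U a nontrivial elementary abelian p-subgroup of H, and Q ≤ E ≤ N_H(U) with Q not normal in E. Suppose O_p(E/C_E(U)) = 1 and O^p(E)·C_E(U)/C_E(U) is quasisimple. Let E° be the weak closure of Q in E (generated by the conjugates of Q inside E) and E_∘ = O^p(E°). Then O^p(E)·C_E(U) = E_∘·C_E(U); E_∘ is perfect and equals O^p(E_∘); E_∘/C_{E_∘}(U) and E_∘/O_p(E_∘) are quasisimple; and E_∘ = [E_∘, Y] for every p-subgroup Y of E not centralizing U. -/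
theorem result {G : Type*} [Group G] [Finite G] {p : ℕ} [Fact p.Prime] (Q : Subgroup G) (hQp : IsPGroup p ↥Q) (hQ1 : Q ≠ ⊥) (hQ : Cfsg.IsLarge Q) (U : Subgroup G) (hU : Cfsg.IsElementaryAbelian p U) (hU1 : U ≠ ⊥) (E : Subgroup G) (hQE : Q ≤ E) (hEU : E ≤ Subgroup.normalizer ((U : Subgroup G) : Set G)) (hQn : ¬ E ≤ Subgroup.normalizer ((Q : Subgroup G) : Set G)) [hn : ((Subgroup.centralizer ((U : Subgroup G) : Set G)).subgroupOf E).Normal] (hred : Cfsg.pCore p (↥E ⧸ (Subgroup.centralizer ((U : Subgroup G) : Set G)).subgroupOf E) = ⊥) (hqs : Cfsg.IsQuasisimple ↥(((Cfsg.pResidual p ↥E) ⊔ (Subgroup.centralizer ((U : Subgroup G) : Set G)).subgroupOf E).map (QuotientGroup.mk' ((Subgroup.centralizer ((U : Subgroup G) : Set G)).subgroupOf E)))) (Er : Subgroup G) (hEr : Er = ((Cfsg.pResidual p ↥(Cfsg.weakClosure Q E)).map ((Cfsg.weakClosure Q E)).subtype)) [hn2 : ((Subgroup.centralizer ((U : Subgroup G) : Set G)).subgroupOf Er).Normal] : ((Cfsg.pResidual p ↥E).map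 (E).subtype) ⊔ (E ⊓ Subgroup.centralizer ((U : Subgroup G) : Set G)) = Er ⊔ (E ⊓ Subgroup.centralizer ((U : Subgroup G) : Set G)) ∧ ⁅Er, Er⁆ = Er ∧ ((Cfsg.pResidual p ↥Er).map (Er).subtype) = Er ∧ Cfsg.IsQuasisimple (↥Er ⧸ (Subgroup.centralizer ((U : Subgroup G) : Set G)).subgroupOf Er) ∧ Cfsg.IsQuasisimple (↥Er ⧸ Cfsg.pCore p ↥Er) ∧ ∀ Y : Subgroup G, Y ≤ E → IsPGroup p ↥Y → ¬ Y ≤ Subgroup.centralizer ((U : Subgroup G) : Set G) → ⁅Er, Y⁆ = Er := by
  have h : Large p Q := ⟨hQp, hQ1, hQ⟩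
  have hUp := IsElementaryAbelian.isPGroup hU
  rw [map_pResidual, h.wc.weakClosure_eq hQE] at hEr
  set C := (centralizer (U : Set G)).subgroupOf E with hC
  have i := E.subtype_injective
  have mC : C.map E.subtype = E ⊓ centralizer (U : Set G) := by
    rw [hC, subgroupOf_map_subtype, inf_comm]
  have mA : (Q.subgroupOf E ⊔ ⁅Q.subgroupOf E, ⊤⁆).map E.subtype = Q ⊔ ⁅Q, E⁆ := by
    rw [Subgroup.map_sup, map_commutator, map_subgroupOf_eq_of_le hQE, map_subtype_top]
  have rE : Er ≤ E := hEr.le.trans ((ResPi_le _ _).trans (sup_commutator_le' hQE))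
  have mR := map_subgroupOf_eq_of_le rE
  obtain ⟨a1, a2, a3, a4, a5, a6⟩ := aux (p := p) (Q := Q.subgroupOf E) (C := C) hQp.comap_subtype
    (fun a => hQn (hEU.trans (hQ.2 U (le_centralizer_iff.1 fun x hx =>
      a (show (⟨x, hQE hx⟩ : E) ∈ _ from hx)) hU1)))
    (map_injective i (by
      rw [Subgroup.map_sup, map_commutator, mA, map_subgroupOf_eq_of_le hQE, h.wc.closure_closure hQE]))
    ((map_le_map_iff_of_injective i).1 (by
      rw [map_commutator, map_subtype_Op, mA, mC]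
      exact (commutator_mono le_rfl inf_le_right).trans (h.commutator_closure_le hQE hUp hU1 hEU)))
    hred (by rw [Res_top]; exact qs_iff.2 hqs) (R := Er.subgroupOf E)
    (map_injective i (by rw [mR, map_Res, mA, hEr]))
  have b2 : ⁅Er, Er⁆ = Er := by rw [← mR, ← map_commutator, a2]
  let g : Er →* E ⧸ C := (QuotientGroup.mk' C).comp (inclusion rE)
  have g1 : g.range = (Er.subgroupOf E).map (QuotientGroup.mk' C) := by
    rw [MonoidHom.range_comp, inclusion_range]
  have g2 : g.ker = (centralizer (U : Set G)).subgroupOf Er := by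
    rw [← MonoidHom.comap_ker, QuotientGroup.ker_mk']; rfl
  have b4 : Op p Er ≤ centralizer (U : Set G) := by
    have := map_mono (f := E.subtype) a4
    rw [map_subtype_Op, mR, mC] at this
    exact this.trans inf_le_right
  have b5 : ⁅Er ⊓ centralizer (U : Set G), Er⁆ ≤ Op p Er := by
    have := map_mono (f := E.subtype) a5
    rw [map_subtype_Op, map_commutator, map_inf _ _ _ i, mR, mC, ← inf_assoc, inf_eq_left.2 rE] at this
    exact this
  rw [map_pResidual, map_pResidual]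
  refine ⟨?_, b2, Res_eq_self_of_perfect b2, isQuasisimple_quotient_of_ker g _ g2 (g1 ▸ a3), ?_,
    fun Y c d e => ?_⟩
  · have := congrArg (Subgroup.map E.subtype) a1
    rwa [Subgroup.map_sup, Subgroup.map_sup, mC, mR, map_Res, map_subtype_top] at this
  · have k : pCore p Er ≤ g.ker := by rw [g2, ← subgroupOf_Op]; exact comap_mono b4
    let π := QuotientGroup.mk' (pCore p Er)
    have hπ : Function.Surjective π := QuotientGroup.mk'_surjective _
    have e : (QuotientGroup.lift _ g k).comp π = g := rfl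
    refine qs_top_iff.1 (QS.of_map_central_of_perfect (QuotientGroup.lift _ g k) ?_ ?_ ?_)
    · rw [← map_top_of_surjective π hπ, ← map_commutator]
      congr 1
      exact map_injective Er.subtype_injective (by rw [map_commutator, map_subtype_top, b2])
    · rw [top_inf_eq, QuotientGroup.ker_lift, ← commutator_eq_bot_iff_le_centralizer,
        ← map_top_of_surjective π hπ, map_eq_bot_iff_le_ker', QuotientGroup.ker_mk', g2,
        ← subgroupOf_Op, ← map_subtype_le_iff, map_commutator, map_subtype_top,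
        subgroupOf_map_subtype, inf_comm]
      exact b5
    · have : (⊤ : Subgroup (Er ⧸ pCore p Er)).map (QuotientGroup.lift _ g k) = g.range := by
        rw [← map_top_of_surjective π hπ, map_map, e, ← MonoidHom.range_eq_map]
      rw [this, g1]
      exact a3
  · have := congrArg (Subgroup.map E.subtype) (a6 (Y.subgroupOf E) d.comap_subtype fun z =>
      e fun x hx => z (show (⟨x, c hx⟩ : E) ∈ _ from hx))
    rwa [map_commutator, mR, map_subgroupOf_eq_of_le c] at this

end Cfsg.Agent.S2860
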