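import Cfsg.Statements.S2864
import Cfsg.Agent.Lib.Comp.Large

set_option autoImplicit false
open Cfsg

namespace Cfsg.Agent.S2864

open Cfsg.Agent.Comp Subgroup

/-- Standing hypotheses: G a finite group, S a Sylow p-subgroup, Q a nontrivial large p-subgroup of G contained in S, M a subgroup containing S with the basic property (M ∈ 𝔐_G(S)); Y_M the largest p-reduced normal subgroup of M and M† = M·C_G(Y_M). Let I be a nontrivial normal p-subgroup of M and Y ≤ O_p(M†); let L be a subgroup of G containing Y and A a normal p-subgroup of L with I ≤ A ≤ M. If [Y, A] ≤ [I, A], then Y ≤ O_p(L). -/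
theorem result {G : Type*} [Group G] [Finite G] {p : ℕ} [Fact p.Prime] (S : Sylow p G) (Q : Subgroup G) (hQp : IsPGroup p ↥Q) (hQ1 : Q ≠ ⊥) (hQS : Q ≤ (S : Subgroup G)) (hQ : Cfsg.IsLarge Q) (M : Subgroup G) (hSM : (S : Subgroup G) ≤ M) (hM : Cfsg.IsInFrakM p M) (I : Subgroup G) (hI1 : I ≠ ⊥) (hIp : IsPGroup p ↥I) (hIM : I ≤ M ∧ M ≤ Subgroup.normalizer ((I : Subgroup G) : Set G)) (Y : Subgroup G) (hY : Y ≤ (Cfsg.pCoreOf p (M ⊔ Subgroup.centralizer (((Cfsg.largestPReducedOf p M) : Subgroup G) : Set G)))) (L : Subgroup G) (hYL : Y ≤ L) (A : Subgroup G) (hAp : IsPGroup p ↥A) (hAL : A ≤ L ∧ L ≤ Subgroup.normalizer ((A : Subgroup G) : Set G)) (hIA : I ≤ A) (hAM : A ≤ M) (hc : ⁅Y, A⁆ ≤ ⁅I, A⁆) : Y ≤ (Cfsg.pCoreOf p L) := by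
  have h : FM p S M := ⟨(Large.mk hQp hQ1 hQ).parabolicChar, sylIn_top S, hSM, hM⟩
  have nP := le_normalizer_Phi hAL.2
  have a : ⁅Y ⊔ ⁅Y, L⁆, A⁆ ≤ Phi A := (le_actKer_iff.1 (sup_commutator_le (le_actKer_iff.2
    ⟨hYL.trans nP, hc.trans ((commutator_mono hIA le_rfl).trans
    (Solv.commutator_le_map_frattini hAp.isNilpotent))⟩) (le_normalizer_actKer nP hAL.2))).2
  have l := sup_commutator_le' hYL
  have b := Res_le_centralizer_of_commutator_le_Phi hAp (l.trans hAL.2) (by rwa [commutator_comm])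
  have c : Y ⊔ Res p (Y ⊔ ⁅Y, L⁆) ≤ M ⊔ centralizer (YL p M : Set G) := sup_le (hY.trans (Op_le _ _))
    ((b.trans ((centralizer_mono hIA).trans (centralizer_le_normalizer _))).trans
    (h.normalizer_le_dagger hIp hI1 hIM.2))
  have s : SubnIn (Y ⊔ Res p (Y ⊔ ⁅Y, L⁆)) L := (subnIn_of_Res_le le_sup_right
    (sup_le le_sup_left (ResPi_le _ _))).trans (.of_normalizer l (le_normalizer_sup_commutator _ _))
  exact ((le_inf hY le_sup_left).trans (Op_inf_le c)).trans (s.Op_le p)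

end Cfsg.Agent.S2864
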