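import Cfsg.Statements.S2872
import Cfsg.Agent.Lib.Transfer.Ext

set_option autoImplicit false
open Cfsg

namespace Cfsg.Agent.S2872

set_option linter.unusedSectionVars false
set_option linter.unusedVariables false
set_option linter.style.haveILetI false
set_option linter.unusedSimpArgs false

open Subgroup Transfer MS

/-- Let S be a Sylow 2-subgroup of the finite group G. Then G has a proper normal subgroup of 2-power index (O²(G) ≠ G), or Ω₁(Z(S)) is contained in the Frattini subgroup of S, or N_G(S) acts nontrivially on Ω₁(Z(S)) by conjugation. -/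
theorem result {G : Type*} [Group G] [Finite G] (S : Sylow 2 G) : Cfsg.pResidual 2 G ≠ ⊤ ∨ Cfsg.omegaOne 2 ((S : Subgroup G) ⊓ Subgroup.centralizer ((S : Subgroup G) : Set G)) ≤ (frattini ↥(S : Subgroup G)).map (S : Subgroup G).subtype ∨ ∃ g ∈ Subgroup.normalizer ((S : Subgroup G) : Set G), ∃ z ∈ Cfsg.omegaOne 2 ((S : Subgroup G) ⊓ Subgroup.centralizer ((S : Subgroup G) : Set G)), g * z * g⁻¹ ≠ z := by
  by_contra hc
  push Not at hc
  obtain ⟨h1, h2, h3⟩ := hc
  refine h2 (omega_le_iff.2 fun z hz z2 => ?_)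
  refine ⟨⟨z, hz.1⟩, Solv.mem_frattini_iff.2 fun M hM => ?_, rfl⟩
  by_contra hzM
  have z1 : z ≠ 1 := by rintro rfl; exact hzM M.one_mem
  have i2 := (ix2_of_coatom S.2 hM).map (subtype_injective _)
  rw [Comp.map_subtype_top] at i2
  obtain ⟨g, g1, g2⟩ := thompson_center S (h1 ▸ le_top) i2 hz (orderOf_eq_prime z2 z1)
  rw [h3 g g1 z (mem_omega hz z2)] at g2
  obtain ⟨y, hy, rfl⟩ := g2
  exact hzM hy

end Cfsg.Agent.S2872
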