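import Cfsg.Statements.S2873
import Cfsg.Agent.Lib.Block.Syl1
import Cfsg.Agent.Lib.Comp.SylIn
import Cfsg.Agent.Lib.Transfer.Residual

set_option autoImplicit false
open Cfsg

namespace Cfsg.Agent.S2873

open Cfsg.Agent.Blk
open Cfsg.Agent.Char hiding cj cj_mul cj_inv_cj cj_cj_inv
open Subgroup Cfsg.Agent.Comp

/-- Let G be a finite group and r an odd prime such that G ⧸ O₂(G) is dihedral of order 2r, and let R be a Sylow r-subgroup of G with C_{O₂(G)}(R) = 1. Then N_G(R) is dihedral of order 2r; for any involution a of N_G(R), every involution of G outside O₂(G) is conjugate to a; and |C_{O₂(G)}(a)|² = |O₂(G)|. -/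
theorem result {G : Type*} [Group G] [Finite G] {r : ℕ} [Fact r.Prime] (hr : r ≠ 2) [hN : (Cfsg.pCore 2 G).Normal] (hquot : Nonempty (G ⧸ Cfsg.pCore 2 G ≃* DihedralGroup r)) (R : Sylow r G) (hC : Cfsg.pCore 2 G ⊓ Subgroup.centralizer ((R : Subgroup G) : Set G) = ⊥) : Nonempty (↥(Subgroup.normalizer ((R : Subgroup G) : Set G)) ≃* DihedralGroup r) ∧ ∀ a : G, a ∈ Subgroup.normalizer ((R : Subgroup G) : Set G) → orderOf a = 2 → (∀ b : G, orderOf b = 2 → b ∉ Cfsg.pCore 2 G → ∃ g : G, g * a * g⁻¹ = b) ∧ Nat.card ↥(Cfsg.pCore 2 G ⊓ Subgroup.centralizer ({a} : Set G)) ^ 2 = Nat.card ↥(Cfsg.pCore 2 G) := by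
  classical
  have hrp : r.Prime := Fact.out
  haveI : Fact (Nat.Prime 2) := ⟨Nat.prime_two⟩
  have hQp : IsPGroup 2 (pCore 2 G) := isPGroup_pCore 2
  obtain ⟨e⟩ := hquot
  obtain ⟨f, hfs, hfk⟩ : ∃ f : G →* DihedralGroup r, Function.Surjective f ∧ f.ker = pCore 2 G :=
    ⟨e.toMonoidHom.comp (QuotientGroup.mk' _), e.surjective.comp (QuotientGroup.mk'_surjective _), by
      ext x; simp⟩
  clear e
  generalize pCore 2 G = Q at *
  have h2 : (2 : ZMod r) ≠ 0 := fun h =>
    hr ((Nat.prime_dvd_prime_iff_eq hrp Nat.prime_two).1 ((ZMod.natCast_eq_zero_iff 2 r).1 (by exact_mod_cast h)))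
  have hQ : ∀ x, x ∈ Q ↔ f x = 1 := fun x => by rw [← hfk, MonoidHom.mem_ker]
  have hR : ∀ g, g ∈ zpowers (DihedralGroup.r (1 : ZMod r)) ↔ ∃ i, g = DihedralGroup.r i := by
    intro g
    constructor
    · rintro ⟨n, rfl⟩
      exact ⟨_, DihedralGroup.r_one_zpow n⟩
    · rintro ⟨i, rfl⟩
      exact ⟨i.val, by simp⟩
  have hRn : (zpowers (DihedralGroup.r (1 : ZMod r))).Normal := by
    refine ⟨fun g hg a => ?_⟩
    obtain ⟨i, rfl⟩ := (hR g).1 hg
    rcases a with j | j <;> exact (hR _).2 ⟨_, by simp; rfl⟩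
  have hRc : Nat.card (zpowers (DihedralGroup.r (1 : ZMod r))) = r := by
    rw [Nat.card_zpowers, DihedralGroup.orderOf_r_one]
  have hRp : IsPGroup r (zpowers (DihedralGroup.r (1 : ZMod r))) :=
    IsPGroup.of_card (n := 1) (by rw [hRc, pow_one])
  have hinv : ∀ g : DihedralGroup r, g ≠ 1 → g * g = 1 → ∃ i, g = DihedralGroup.sr i := by
    rintro (i | i) h1 h3
    · exfalso
      apply h1
      rw [DihedralGroup.r_mul_r, DihedralGroup.one_def, DihedralGroup.r.injEq, ← two_mul] at h3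
      rw [(mul_eq_zero.1 h3).resolve_left h2]; rfl
    · exact ⟨i, rfl⟩
  have hRm : (R : Subgroup G).map f = zpowers (DihedralGroup.r (1 : ZMod r)) := by
    have h1 := (sylIn_top R).map f
    rw [map_top_of_surjective f hfs] at h1
    have h3 : SylIn r (zpowers (DihedralGroup.r (1 : ZMod r))) ⊤ := by
      refine sylIn_of_not_dvd le_top hRp ?_
      rw [relIndex_top_right]
      have := (zpowers (DihedralGroup.r (1 : ZMod r))).card_mul_index
      rw [hRc, DihedralGroup.nat_card, mul_comm] at this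
      rw [Nat.eq_of_mul_eq_mul_right hrp.pos this]
      exact fun h => hr ((Nat.prime_dvd_prime_iff_eq hrp Nat.prime_two).1 h)
    exact (h3.eq_of_le h1 (h1.le_of_normalizer' hRp le_top (le_normalizer_normal _ _))).symm
  set N := normalizer ((R : Subgroup G) : Set G) with hNd
  have hNQ : Q ⊓ N = ⊥ := by
    have h1 : ⁅Q ⊓ N, (R : Subgroup G)⁆ = ⊥ := commutator_eq_bot_of_inf_eq_bot inf_le_right
      (le_normalizer_inf (le_normalizer_normal _ _) (le_normalizer.trans le_normalizer))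
      (inf_eq_bot_of_isPGroup hQp.to_inf_left (coprime_of_isPGroup_of_ne hr R.2))
    exact eq_bot_iff.2 ((le_inf inf_le_left (commutator_eq_bot_iff_le_centralizer.1 h1)).trans hC.le)
  have hinj : ∀ x ∈ N, ∀ y ∈ N, f x = f y → x = y := by
    intro x hx y hy h
    have : x * y⁻¹ ∈ Q ⊓ N := mem_inf.2 ⟨(hQ _).2 (by rw [map_mul, map_inv, h, mul_inv_cancel]), mul_mem hx (inv_mem hy)⟩
    rw [hNQ, mem_bot] at this
    exact mul_inv_eq_one.1 this
  have hsurj : N.map f = ⊤ := by
    have hM : (zpowers (DihedralGroup.r (1 : ZMod r))).comap f = (R : Subgroup G) ⊔ Q := by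
      rw [← hRm, comap_map_eq, hfk]
    haveI : ((R : Subgroup G) ⊔ Q).Normal := hM ▸ hRn.comap f
    have h1 := (sylIn_of_sylow_le R (M := (R : Subgroup G) ⊔ Q) le_sup_left).frattini (M := ⊤) le_top
      (le_normalizer_normal _ _)
    rw [eq_top_iff, ← map_top_of_surjective f hfs, ← h1, Subgroup.map_sup, Subgroup.map_sup, top_inf_eq]
    refine sup_le (sup_le (map_mono le_normalizer) ?_) le_rfl
    rw [← hfk, (Subgroup.map_eq_bot_iff _).2 le_rfl]; exact bot_le
  have hlift : ∀ g, ∃ n ∈ N, f n = g := fun g => (hsurj.ge (mem_top g))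
  have hcR : Nat.card (R : Subgroup G) = r := by
    refine Eq.trans ?_ hRc
    rw [← hRm]
    refine Nat.card_congr (Equiv.ofBijective (f.subgroupMap R) ⟨fun x y h => Subtype.ext ?_,
      f.subgroupMap_surjective _⟩)
    exact hinj _ (le_normalizer x.2) _ (le_normalizer y.2) (congrArg Subtype.val h)
  have hA : ∀ u j, f u = DihedralGroup.r j → j ≠ 0 → ∃ g, ∃ a ∈ zpowers u, ∀ x, x ∈ (R : Subgroup G) ↔
      g⁻¹ * x * g ∈ zpowers a := by
    intro u j hu hj
    obtain ⟨a, ha, b, hb, hab, ⟨k, hk⟩, hbo⟩ := Transfer.exists_pPart r u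
    have hb1 : f b = 1 := by
      have e1 : orderOf (f b) ∣ orderOf b := orderOf_map_dvd f b
      have e2 : orderOf (f b) ∣ r := by
        refine Dvd.dvd.trans (orderOf_dvd_natCard _ ?_) hRc.dvd
        obtain ⟨n, rfl⟩ := hb
        rw [map_zpow]
        exact zpow_mem ((hR _).2 ⟨j, hu⟩) n
      exact orderOf_eq_one_iff.1 (Nat.eq_one_of_dvd_coprimes hbo e1 e2)
    have ha1 : a ≠ 1 := by
      rintro rfl
      rw [hab, one_mul, hb1, DihedralGroup.one_def, DihedralGroup.r.injEq] at hu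
      exact hj hu.symm
    obtain ⟨g, -, hg⟩ := (sylIn_top R).exists_cj_le (isPGroup_zpowers hk) le_top
    refine ⟨g, a, ha, fun x => ?_⟩
    rw [← mem_cj]
    have h3 := card_dvd_of_le hg
    rw [hcR] at h3
    rcases (Nat.dvd_prime hrp).1 h3 with h4 | h4
    · rw [card_cj, Nat.card_zpowers, orderOf_eq_one_iff] at h4
      exact absurd h4 ha1
    · rw [eq_of_le_of_card_ge hg (by rw [h4, hcR])]
  have hA1 : ∀ u j, f u = DihedralGroup.r j → j ≠ 0 → ∀ q ∈ Q, q * u = u * q → q = 1 := by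
    intro u j hu hj q hq hc
    obtain ⟨g, a, ⟨n, rfl⟩, h⟩ := hA u j hu hj
    have : g * q * g⁻¹ ∈ Q ⊓ centralizer ((R : Subgroup G) : Set G) := by
      refine ⟨hN.conj_mem q hq g, mem_centralizer_iff.2 fun x hx => ?_⟩
      obtain ⟨m, hm⟩ := (h x).1 hx
      have h3 : Commute q (g⁻¹ * x * g) := hm ▸ ((show Commute q u from hc).zpow_right n).zpow_right m
      calc x * (g * q * g⁻¹) = g * ((g⁻¹ * x * g) * q) * g⁻¹ := by group
        _ = _ := by rw [← h3.eq]; group
    rw [hC, mem_bot] at this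
    simpa using this
  obtain ⟨ρ, hρ, hρ1⟩ : DihedralGroup.r (1 : ZMod r) ∈ (R : Subgroup G).map f := hRm ▸ mem_zpowers _
  refine ⟨⟨MulEquiv.ofBijective (f.comp N.subtype) ⟨fun x y h => Subtype.ext (hinj _ x.2 _ y.2 h), fun g => ?_⟩⟩,
    fun a ha ho => ?_⟩
  · obtain ⟨n, hn, h⟩ := hlift g
    exact ⟨⟨n, hn⟩, h⟩
  have haa : a * a = 1 := by rw [← pow_two, ← ho, pow_orderOf_eq_one]
  obtain ⟨i, hi⟩ := hinv (f a) (fun h => by
    rw [hinj a ha 1 (one_mem _) (by rw [h, map_one]), orderOf_one] at ho; omega) (by rw [← map_mul, haa, map_one])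
  refine ⟨fun b hb hbQ => ?_, ?_⟩
  · have hbb : b * b = 1 := by rw [← pow_two, ← hb, pow_orderOf_eq_one]
    obtain ⟨k, hk⟩ := hinv (f b) (fun h => hbQ ((hQ b).2 h)) (by rw [← map_mul, hbb, map_one])
    have hb' : b⁻¹ = b := inv_eq_of_mul_eq_one_right hbb
    obtain ⟨g, c, ⟨n, rfl⟩, h⟩ := hA (b * (ρ * b * ρ⁻¹)) (-2) (by
      simp only [map_mul, map_inv, hk, hρ1]; simp; ring) (neg_ne_zero.2 h2)
    have h3 : b * (b * (ρ * b * ρ⁻¹)) * b⁻¹ = (b * (ρ * b * ρ⁻¹))⁻¹ := by
      rw [← mul_assoc, hbb]; simp [hb', mul_assoc]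
    have h4 : g * b * g⁻¹ ∈ N := by
      refine mem_normalizer_of_conj_mem fun x hx => (h _).2 ?_
      obtain ⟨m, hm⟩ := (h x).1 hx
      have : g⁻¹ * (g * b * g⁻¹ * x * (g * b * g⁻¹)⁻¹) * g = b * (g⁻¹ * x * g) * b⁻¹ := by group
      rw [this, ← hm]
      beta_reduce
      rw [← conj_zpow, ← conj_zpow, h3, inv_zpow]
      exact zpow_mem (inv_mem (mem_zpowers _)) m
    obtain ⟨k', hk'⟩ := hinv (f (g * b * g⁻¹)) (fun h => hbQ (by
      have := hN.conj_mem _ ((hQ _).2 h) g⁻¹
      simpa [mul_assoc] using this)) (by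
        rw [← map_mul, show g * b * g⁻¹ * (g * b * g⁻¹) = g * (b * b) * g⁻¹ by group, hbb]; simp)
    obtain ⟨n', hn', hfn⟩ := hlift (DihedralGroup.r ((i - k') / 2))
    have h5 := hinj (n' * a * n'⁻¹) (mul_mem (mul_mem hn' ha) (inv_mem hn')) _ h4 (by
      rw [hk', map_mul, map_mul, map_inv, hfn, hi]
      simp
      field_simp
      ring)
    exact ⟨g⁻¹ * n', by rw [show g⁻¹ * n' * a * (g⁻¹ * n')⁻¹ = g⁻¹ * (n' * a * n'⁻¹) * g by group, h5]; group⟩
  · set a' := ρ * a * ρ⁻¹ with ha'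
    have haa' : a' * a' = 1 := by
      rw [ha', show ρ * a * ρ⁻¹ * (ρ * a * ρ⁻¹) = ρ * (a * a) * ρ⁻¹ by group, haa]; simp
    have hu : f (a * a') = DihedralGroup.r (-2) := by
      simp only [ha', map_mul, map_inv, hi, hρ1]; simp; ring
    have hcc : Nat.card (Q ⊓ centralizer ({a'} : Set G) : Subgroup G) =
        Nat.card (Q ⊓ centralizer ({a} : Set G) : Subgroup G) := by
      rw [← card_cj ρ (Q ⊓ centralizer ({a} : Set G)), cj_inf, cj_eq_self_of_normal, cj_centralizer_singleton]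
    have k1 : Nat.card (Q ⊓ centralizer ({a} : Set G) : Subgroup G) *
        Nat.card (Q ⊓ centralizer ({a'} : Set G) : Subgroup G) ≤ Nat.card Q := by
      rw [← Nat.card_prod]
      refine Nat.card_le_card_of_injective (fun x => ⟨x.1.1 * x.2.1, mul_mem x.1.2.1 x.2.2.1⟩) ?_
      rintro ⟨⟨x, hx⟩, ⟨y, hy⟩⟩ ⟨⟨x', hx'⟩, ⟨y', hy'⟩⟩ h
      have h3 : x * y = x' * y' := congrArg Subtype.val h
      have h4 : x'⁻¹ * x = y' * y⁻¹ := by
        calc _ = x'⁻¹ * (x * y) * y⁻¹ := by group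
          _ = _ := by rw [h3]; group
      have h5 := mul_mem (inv_mem hx') hx
      have h6 := h4 ▸ mul_mem hy' (inv_mem hy)
      have h7 := hA1 _ _ hu (neg_ne_zero.2 h2) _ h5.1
        (Commute.mul_right (mem_centralizer_singleton_iff.1 h5.2) (mem_centralizer_singleton_iff.1 h6.2)).eq
      have h8 : x = x' := (inv_mul_eq_one.1 h7).symm
      subst h8
      have h9 : y = y' := mul_left_cancel h3
      subst h9
      rfl
    have k2 : (centralizer ({a} : Set G)).relIndex Q * (centralizer ({a'} : Set G)).relIndex Q ≤ Nat.card Q := by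
      rw [relIndex, relIndex, index, index, ← Nat.card_prod]
      have hf1 : ∀ (x : Q) (c : G), f (x * c * (x : G)⁻¹) = f c := fun x c => by
        rw [map_mul, map_mul, map_inv, (hQ _).1 x.2]; simp
      refine Nat.card_le_card_of_injective (fun x => ⟨(x.1.out : Q) * a * ((x.1.out : Q) : G)⁻¹ *
        ((x.2.out : Q) * a' * ((x.2.out : Q) : G)⁻¹) * (a * a')⁻¹, (hQ _).2 (by
          rw [map_mul, map_mul, hf1, hf1, ← map_mul, map_inv, mul_inv_cancel])⟩) ?_
      rintro ⟨x, y⟩ ⟨x', y'⟩ h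
      have h3 := mul_right_cancel (congrArg Subtype.val h)
      simp only at h3
      have sq : ∀ (x c : G), c * c = 1 → x * c * x⁻¹ * (x * c * x⁻¹) = 1 := fun x c h => by
        rw [show x * c * x⁻¹ * (x * c * x⁻¹) = x * (c * c) * x⁻¹ by group, h]; simp
      have fin : ∀ (c : G) (x x' : Q ⧸ (centralizer ({c} : Set G)).subgroupOf Q),
          (x.out : Q) * c * ((x.out : Q) : G)⁻¹ = (x'.out : Q) * c * ((x'.out : Q) : G)⁻¹ → x = x' := by
        intro c x x' h
        rw [← QuotientGroup.out_eq' x, ← QuotientGroup.out_eq' x', QuotientGroup.eq, mem_subgroupOf,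
          mem_centralizer_singleton_iff]
        push_cast
        calc _ = ((x.out : Q) : G)⁻¹ * ((x'.out : Q) * c * ((x'.out : Q) : G)⁻¹) * (x'.out : Q) := by group
          _ = _ := by rw [← h]; group
      have s1 := sq (x.out : Q) a haa
      have s2 := sq (x'.out : Q) a haa
      have s3 := sq (y.out : Q) a' haa'
      have s4 := sq (y'.out : Q) a' haa'
      have t1 := hf1 x.out a
      have t2 := hf1 x'.out a
      have t3 := hf1 y.out a'
      have key : (x.out : Q) * a * ((x.out : Q) : G)⁻¹ = (x'.out : Q) * a * ((x'.out : Q) : G)⁻¹ := by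
        generalize (x.out : Q) * a * ((x.out : Q) : G)⁻¹ = a1 at *
        generalize (x'.out : Q) * a * ((x'.out : Q) : G)⁻¹ = b1 at *
        generalize (y.out : Q) * a' * ((y.out : Q) : G)⁻¹ = a2 at *
        generalize (y'.out : Q) * a' * ((y'.out : Q) : G)⁻¹ = b2 at *
        have i1 : a1⁻¹ = a1 := inv_eq_of_mul_eq_one_right s1
        have i2 : b1⁻¹ = b1 := inv_eq_of_mul_eq_one_right s2
        have i3 : a2⁻¹ = a2 := inv_eq_of_mul_eq_one_right s3
        have i4 : b2⁻¹ = b2 := inv_eq_of_mul_eq_one_right s4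
        have h4 : a2 * a1 = b2 * b1 := by
          have := congrArg (·⁻¹) h3
          simpa [i1, i2, i3, i4] using this
        have h5 := hA1 (a1 * a2) (-2) (by rw [map_mul, t1, t3, ← map_mul, hu]) (neg_ne_zero.2 h2) (a1 * b1)
          ((hQ _).2 (by rw [map_mul, t1, t2, ← map_mul, haa, map_one])) (by
            calc a1 * b1 * (a1 * a2) = a1 * (b1 * (b1 * b2)) := by rw [h3]; group
              _ = a1 * b2 := by rw [← mul_assoc b1, s2, one_mul]
              _ = a1 * (b2 * b1) * b1 := by rw [mul_assoc, mul_assoc, s2, mul_one]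
              _ = _ := by rw [← h4]; group)
        rw [← i1]; exact inv_eq_of_mul_eq_one_right h5
      have h5 := fin a x x' key
      rw [key] at h3
      rw [h5, fin a' y y' (mul_left_cancel h3)]
    have k3 := relIndex_mul_card_inf (centralizer ({a} : Set G)) Q
    have k4 := relIndex_mul_card_inf (centralizer ({a'} : Set G)) Q
    rw [inf_comm] at k3 k4
    rw [hcc] at k1 k4
    have hpos : 0 < Nat.card (Q ⊓ centralizer ({a} : Set G) : Subgroup G) := Nat.card_pos
    have hposQ : 0 < Nat.card Q := Nat.card_pos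
    have k5 := Nat.eq_of_mul_eq_mul_right hpos (k4.trans k3.symm)
    rw [k5] at k2
    generalize Nat.card (Q ⊓ centralizer ({a} : Set G) : Subgroup G) = c at *
    generalize (centralizer ({a} : Set G)).relIndex Q = j at *
    rw [← k3] at k1 k2 hposQ ⊢
    have hj : 0 < j := Nat.pos_of_mul_pos_right hposQ
    have l1 := Nat.le_of_mul_le_mul_right k1 hpos
    have l2 := Nat.le_of_mul_le_mul_left k2 hj
    rw [le_antisymm l1 l2, pow_two]

end Cfsg.Agent.S2873
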