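import Cfsg.Statements.S2879
import Cfsg.Agent.Lib.Transfer.Tet

set_option autoImplicit false
open Cfsg

namespace Cfsg.Agent.S2879

set_option linter.unusedSectionVars false
set_option linter.unusedVariables false
set_option linter.style.haveILetI false
set_option linter.unusedSimpArgs false

open Subgroup Transfer MS

/-- Let G be a finite solvable group with O(G) = 1 whose Sylow 2-subgroup T is dihedral of order at least 8 or semidihedral, with G ≠ T and Z(T) normal in G. Then G has a normal subgroup isomorphic to SL₂(3). -/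
theorem result {G : Type*} [Group G] [Finite G] (hsol : IsSolvable G) (hO : Cfsg.oddCore G = ⊥) (T : Sylow 2 G) (hT : (∃ n : ℕ, 4 ≤ n ∧ Nonempty (↥(T : Subgroup G) ≃* DihedralGroup n)) ∨ Cfsg.IsQuasiDihedral ↥(T : Subgroup G)) (hne : (T : Subgroup G) ≠ ⊤) (hZ : ((T : Subgroup G) ⊓ Subgroup.centralizer ((T : Subgroup G) : Set G)).Normal) : ∃ U : Subgroup G, U.Normal ∧ Nonempty (↥U ≃* Matrix.SpecialLinearGroup (Fin 2) (ZMod 3)) := by
  haveI : Group.IsSolvable G := hsol
  obtain ⟨a, b, n, h, hn⟩ : ∃ a b n, MC (T : Subgroup G) a b n ∧ 1 ≤ n := by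
    obtain ⟨m, hm, ⟨e⟩⟩ | hT := hT
    · obtain ⟨a, b, n, h, -, -, rfl⟩ := mc_of_dihedral T.isPGroup' (by omega) e
      exact ⟨a, b, n, h, by rcases n with _ | n <;> simp at hm ⊢⟩
    · obtain ⟨a, b, n, h⟩ := qd_of hT
      exact ⟨a, b, n, h.toMC, h.one⟩
  have he := ess_pCore hO fun e => hne (T.is_maximal' (e.to_subgroup ⊤) le_top).symm
  have hC := Solv.centralizer_pCore_le (p := 2) hO
  have hB : pCore 2 G ≤ T := (Solv.isPGroup_pCore _ _).le_sylow_of_normal T
  rw [h.center hn] at hZ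
  obtain e | e := h.ess hB he
  · obtain ⟨g, h1, h2, h3⟩ := he
    obtain ⟨s, hs, hs', h4, e1⟩ := h.klein hB e
    obtain ⟨c, -, h5⟩ := klein_conj_of_odd e h1 h2 h3 (e1 ▸ (h.out hs hs').z_mem_X le_rfl) (ne_one_of_orderOf h.ord_z)
      (e1 ▸ (h.out hs hs').b_mem_X n) fun e : s = 1 => hs' (e ▸ one_mem _)
    exact absurd (zpowers_le.2 h.z_mem (h5 ▸ hZ.conj_mem _ (mem_zpowers _) c)) hs'
  obtain ⟨g, h1, h2, h3⟩ := he
  have h4 : #G ∣ 48 := by
    have h5 := e.card_center
    have h6 := e.relIndex_dvd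
    rw [inf_eq_right.2 hC] at h5
    rw [normalizer_eq_top, relIndex_top_right] at h6
    rw [← (CC (pCore 2 G)).card_mul_index, h5]
    exact Nat.mul_dvd_mul_left 2 h6
  obtain ⟨i, j, h5, e1⟩ := e.tet h2 h1 h3
  have h6 : orderOf g = 3 := Nat.dvd_antisymm ((Nat.Coprime.pow_right 4 (Nat.coprime_two_right.2 h2)).dvd_of_dvd_mul_left
    ((orderOf_dvd_natCard g).trans h4)) h5.three
  refine ⟨_, ?_, e.iso_SL23 h6 h1 h3⟩
  have h7 := h5.card
  rw [e1, h6] at h7
  rw [← (pCore 2 G ⊔ zpowers g).card_mul_index, h7] at h4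
  obtain h8 | h8 := (Nat.dvd_prime Nat.prime_two).1 (Nat.dvd_of_mul_dvd_mul_left (by decide : 0 < 8 * 3) h4)
  · rw [index_eq_one.1 h8]; infer_instance
  · exact normal_of_index_eq_two h8

end Cfsg.Agent.S2879
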