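import Cfsg.Statements.S2881
import Cfsg.Agent.Lib.Block.Es1

set_option autoImplicit false
open Cfsg

namespace Cfsg.Agent.S2881

open Cfsg.Agent.Blk
open Cfsg.Agent.Char hiding cj cj_mul cj_inv_cj cj_cj_inv

/-- Let E be an extraspecial 2-group of order 2^(2m+1) of plus type (containing an elementary abelian subgroup of order 2^(m+1)), and let ω be an automorphism of E of order 5 whose fixed points are exactly the centre of E. Then m is divisible by 4. -/
theorem result {E : Type*} [Group E] [Finite E] (m : ℕ) (hm : 1 ≤ m) (hE : Cfsg.IsExtraspecial 2 E) (hcard : Nat.card E = 2 ^ (2 * m + 1)) (hplus : ∃ A : Subgroup E, Cfsg.IsElementaryAbelian 2 A ∧ Nat.card A = 2 ^ (m + 1)) (ω : E ≃* E) (hω : orderOf ω = 5) (hfix : ∀ x : E, ω x = x ↔ x ∈ Subgroup.center E) : 4 ∣ m := by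
  classical
  obtain ⟨z, h⟩ := Transfer.ES.of_extraspecial hE
  obtain ⟨A, h1, h2⟩ := hplus
  have h3 := Es.plus h hcard h1 h2
  haveI := Fintype.ofFinite E
  haveI := Fact.mk Nat.prime_five
  have h4 : 5 ∣ Fintype.card {x : E // orderOf x = 4} := by
    by_contra k
    obtain ⟨⟨a, ha⟩, e⟩ := Equiv.Perm.exists_fixed_point_of_prime (n := 1) k
      (σ := (MulAut.toPerm E ω).subtypePerm (p := fun x => orderOf x = 4) fun x => by
        rw [← ω.orderOf_eq x]; rfl) (by
      rw [pow_one, Equiv.Perm.subtypePerm_pow]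
      ext x
      simp only [Equiv.Perm.subtypePerm_apply, ← map_pow, ← hω, pow_orderOf_eq_one, map_one]
      rfl)
    have := Subgroup.orderOf_dvd_natCard _ ((hfix a).1 (congrArg Subtype.val e))
    rw [ha, hE.2] at this
    omega
  rw [← Nat.card_eq_fintype_card, h3, two_mul, pow_add, ← Nat.mul_sub_one] at h4
  have h5 := (Nat.Coprime.pow_right m (by norm_num : Nat.Coprime 5 2)).dvd_of_dvd_mul_left h4
  have h6 : 2 ^ m % 5 = 2 ^ (m % 4) % 5 := by
    conv_lhs => rw [← Nat.div_add_mod m 4, pow_add, pow_mul, Nat.mul_mod, Nat.pow_mod]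
    simp
  have h7 := Nat.one_le_two_pow (n := m)
  have h8 := Nat.mod_lt m (by norm_num : 0 < 4)
  refine Nat.dvd_of_mod_eq_zero ?_
  interval_cases m % 4 <;> omega

end Cfsg.Agent.S2881
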