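import Cfsg.Statements.S2898
import Cfsg.Agent.Lib.Transfer.Ext
import Cfsg.Agent.Lib.Transfer.ZStar
import Cfsg.Agent.Lib.Transfer.ElemC

set_option autoImplicit false
open Cfsg

namespace Cfsg.Agent.S2898

set_option linter.unusedSectionVars false
set_option linter.unusedVariables false
set_option linter.style.haveILetI false
set_option linter.unusedSimpArgs false

open Subgroup Transfer MS

/-- Let G be a finite group of even order with parabolic characteristic 2. If the centre of G ⧸ O(G) is trivial, then O(G) = 1. -/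
theorem result {G : Type*} [Group G] [Finite G] (h2 : 2 ∣ Nat.card G) (hG : Cfsg.IsOfParabolicCharacteristic 2 G) [hN : (Cfsg.oddCore G).Normal] (hZ : Subgroup.center (G ⧸ Cfsg.oddCore G) = ⊥) : Cfsg.oddCore G = ⊥ := by
  obtain ⟨S⟩ : Nonempty (Sylow 2 G) := inferInstance
  have h1 : ∀ w, orderOf w = 2 → (S : Subgroup G) ≤ C1 w → oddCore G ⊓ C1 w = ⊥ := fun w w2 hw => by
    have e : NN (zpowers w) = C1 w := le_antisymm (fun g hg => by
      have := conj_mem_of_mem_normalizer hg (mem_zpowers w)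
      rcases (mem_zpowers_iff_of_sq (by rw [← pow_two, ← w2, pow_orderOf_eq_one])).1 this with h | h
      · exact absurd (by simpa using h) (ne_one_of_orderOf w2)
      · exact mem_C1_of_conj h) (by rw [← cc_zpowers]; exact cc_le_nn _)
    have := hG (zpowers w) (isPGroup_zpowers_of_orderOf (k := 1) w2) (by simpa using ne_one_of_orderOf w2)
      ⟨S, e ▸ hw⟩
    have h3 := (Comp.charP_iff_subtype.2 this).Opp_eq_bot
    rw [e, ← O1c_eq] at h3
    refine le_bot_iff.1 (le_trans (le_O inf_le_right (nn_inf nn_normal (le_nn _)) ?_) h3.le)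
    exact (pi_compl_iff.2 (Odd.not_two_dvd_nat odd_card_oddCore)).mono inf_le_left
  haveI : (CC (oddCore G)).Normal := normalizer_eq_top_iff.1 (eq_top_iff.2 (nn_cc nn_normal))
  by_cases hC : 2 ∣ #(CC (oddCore G))
  · have h3 := nil_meet (nil_of_pg S.2) (inf_le_left : (S : Subgroup G) ⊓ CC (oddCore G) ≤ S)
      (nn_inf (le_nn _) nn_normal) (syl_ne_bot (isSyl_inf_normal S _) hC)
    obtain ⟨w, hw, w2⟩ := exists_invol_mem_of_isPGroup (S.2.to_le (inf_le_left.trans inf_le_left)) h3
    rw [← h1 w w2 (le_C1_iff.2 hw.2), inf_eq_left.2 (le_C1_iff.2 hw.1.2)]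
  obtain ⟨z, z1, z2, z3⟩ := exists_central_invol S.2 (syl_ne_bot (isSyl_top S) (by rwa [card_top]))
  have zz : z * z = 1 := by rw [← pow_two, ← z2, pow_orderOf_eq_one]
  have inv : ∀ k ∈ oddCore G, z * k * z⁻¹ = k⁻¹ := fun k hk =>
    Solv.inverts_of_fpf (nn_normal (mem_top z)) (h1 z z2 z3) zz hk
  have iso : IsIsolatedInvolution z := ⟨z2, fun g hg => by
    by_contra hne
    have m : z * (g * z * g⁻¹) ∈ CC (oddCore G) := mem_CC.2 fun k hk => by
      have a := inv _ (hN.conj_mem _ hk g⁻¹)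
      have b := inv _ (inv_mem hk)
      calc k * (z * (g * z * g⁻¹)) = (z * k⁻¹ * z⁻¹)⁻¹⁻¹⁻¹⁻¹ * (z * (g * z * g⁻¹)) := by rw [b]; group
        _ = z * (g * (g⁻¹ * k * g⁻¹⁻¹)⁻¹ * z * g⁻¹) := by group
        _ = _ := by rw [← a]; group
    refine hC (dvd_trans (dvd_of_eq (orderOf_eq_prime ?_ ?_).symm) (orderOf_dvd m))
    · rw [hg.mul_pow, pow_two, pow_two, zz, conj_mul_self zz, mul_one]
    · exact fun h => hne (mul_left_cancel (h.trans zz.symm))⟩
  have := hZ.le (mem_center_quot_iff.2 fun g => (zstar_elt (x := z) iso.2 (isPGroup_zpowers_of_orderOf (k := 1) z2) g))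
  exact absurd ((QuotientGroup.eq_one_iff z).1 (mem_bot.1 this)) (invol_notMem_oddCore z2)

end Cfsg.Agent.S2898
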