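import Cfsg.Statements.S2905
import Cfsg.Agent.Lib.Comp.PMin

set_option autoImplicit false
open Cfsg

namespace Cfsg.Agent.S2905

open Cfsg.Agent.Comp Subgroup

/-- Let P be a finite p-minimal group (a Sylow p-subgroup S is not normal and lies in a unique maximal subgroup M of P) and let F be the normal core of M. Then: every subnormal subgroup N of P contained in M satisfies N ∩ S ≤ O_p(P); if O^p(P) has a normal Sylow p-subgroup then the order of P has at most two prime divisors; every normal subgroup N of P either contains O^p(P) or is contained in F; and O^p(P)F ⧸ F is a minimal normal subgroup of P ⧸ F. -/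
theorem result {P : Type*} [Group P] [Finite P] {p : ℕ} [Fact p.Prime] (hP : Cfsg.IsPMinimal p P) (S : Sylow p P) (M : Subgroup P) (hM : IsCoatom M) (hSM : (S : Subgroup P) ≤ M) [hF : M.normalCore.Normal] : (∀ N : Subgroup P, N.IsSubnormal → N ≤ M → N ⊓ (S : Subgroup P) ≤ Cfsg.pCore p P) ∧ ((∀ T : Sylow p ↥(Cfsg.pResidual p P), (T : Subgroup ↥(Cfsg.pResidual p P)).Normal) → (Nat.card P).primeFactors.card ≤ 2) ∧ (∀ N : Subgroup P, N.Normal → Cfsg.pResidual p P ≤ N ∨ N ≤ M.normalCore) ∧ (∀ N : Subgroup P, N.Normal → M.normalCore ≤ N → N ≤ Cfsg.pResidual p P ⊔ M.normalCore → N = M.normalCore ∨ N = Cfsg.pResidual p P ⊔ M.normalCore) ∧ M.normalCore < Cfsg.pResidual p P ⊔ M.normalCore := by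
  have hS := sylIn_top S
  have h := (pMin_top_iff.2 hP).minOver_top hS hM hSM
  rw [← Res_top]
  have k : ∀ N : Subgroup P, N.Normal → Res p ⊤ ≤ N ∨ N ≤ M.normalCore := fun N a =>
    (h.Res_le_or hS.isP le_top (le_normalizer_normal _ _)).imp_right normal_le_normalCore.2
  refine ⟨fun N a b => (h.inf_le_Op hS b (.of_isSubnormal a)).trans (Op_top p).le, fun a => ?_, k,
    fun N a b c => ((k N a).imp (fun d => le_antisymm c (sup_le d b)) (le_antisymm · b)).symm,
    lt_of_le_of_ne le_sup_right fun e =>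
      h.not_Res_le hS (le_sup_left.trans (e.ge.trans (normalCore_le _)))⟩
  have a' := pClosed_iff.2 a
  let f := QuotientGroup.mk' (pCore p P)
  have hk : f.ker = pCore p P := QuotientGroup.ker_mk' _
  have m := h.map f (inf_le_right.trans (hk.le.trans (((Op_top p).ge.trans hS.Op_le).trans hSM)))
  have s := hS.map f
  obtain ⟨t, ht, b⟩ := m.exists_isPGroup_Res s (map_Res (p := p) f ⊤ ▸ a'.coprime_map f
    (((ResPi_subnIn _ _).Op_le p).trans ((Op_top p).trans hk.symm).le))
  have := Fact.mk ht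
  have c : (Nat.card P).primeFactors ⊆ {p, t} := fun q hq => by
    obtain ⟨q1, q2, -⟩ := Nat.mem_primeFactors.1 hq
    obtain ⟨i, hi⟩ := IsPGroup.iff_card.1 b
    obtain ⟨j, hj⟩ := relIndex_Res (p := p) ((⊤ : Subgroup P).map f)
    obtain ⟨l, hl⟩ := IsPGroup.iff_card.1 (isPGroup_pCore (G := P) p)
    have e := relIndex_mul_card (ResPi_le {p} ((⊤ : Subgroup P).map f))
    rw [hi, hj, Solv.map_top_mk, card_top] at e
    rw [card_eq_card_quotient_mul_card_subgroup (pCore p P), ← e, hl] at q2
    have hp : p.Prime := Fact.out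
    rcases (q1.dvd_mul.1 q2).imp_left q1.dvd_mul.1 with (d | d) | d
    · simp [(Nat.prime_dvd_prime_iff_eq q1 hp).1 (q1.dvd_of_dvd_pow d)]
    · simp [(Nat.prime_dvd_prime_iff_eq q1 ht).1 (q1.dvd_of_dvd_pow d)]
    · simp [(Nat.prime_dvd_prime_iff_eq q1 hp).1 (q1.dvd_of_dvd_pow d)]
  exact (Finset.card_le_card c).trans Finset.card_le_two

end Cfsg.Agent.S2905
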