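import Cfsg.Statements.S2906
import Cfsg.Agent.Lib.Comp.PMin

set_option autoImplicit false
open Cfsg

namespace Cfsg.Agent.S2906

open Cfsg.Agent.Comp Subgroup

/-- Let P be a finite p-minimal group with O_p(P) = 1, S a Sylow p-subgroup of P and K a component of P. Then O^p(P) = F*(P) = E(P) is generated by the S-conjugates of K, and the subgroup K·N_S(K) is again p-minimal. -/
theorem result {P : Type*} [Group P] [Finite P] {p : ℕ} [Fact p.Prime] (hP : Cfsg.IsPMinimal p P) (hOp : Cfsg.pCore p P = ⊥) (S : Sylow p P) (K : Subgroup P) (hK : Cfsg.IsComponent K) : Cfsg.pResidual p P = Cfsg.generalizedFittingSubgroup P ∧ Cfsg.generalizedFittingSubgroup P = Cfsg.layer P ∧ Cfsg.layer P = ⨆ s : ↥(S : Subgroup P), K.map (MulAut.conj (s : P)).toMonoidHom ∧ Cfsg.IsPMinimal p ↥(K ⊔ ((S : Subgroup P) ⊓ Subgroup.normalizer (K : Set P))) := by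
  have hS := sylIn_top S
  have hO : Op p (⊤ : Subgroup P) = ⊥ := (Op_top p).trans hOp
  obtain ⟨M, h⟩ := (pMin_top_iff.2 hP).minOver hS
  have hK' := compIn_top_iff.2 hK
  have k1 : ¬ K ≤ M := fun a => by
    obtain ⟨N, b, c, d⟩ := h.exists_normal_of_subnIn hK'.subn a
    have := normal_iff_top_le_normalizer.2 d
    have e := h.le_frattini hS c ((h.pClosed hS c d).coprime ((SubnIn.of_normal N).Op_eq_bot hO))
    have : Group.IsNilpotent (frattini P) := frattini_nilpotent
    exact hK'.qs.not_le_of_isSolvable inferInstance (b.trans e)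
  have k2 : ∀ U : Subgroup P, (S : Subgroup P) ≤ normalizer ((⨆ s : (S : Subgroup P), cj((s : P), U) :
      Subgroup P) : Set P) := fun U => by
    rw [← sup_commutator_eq_iSup]; exact le_normalizer_sup_commutator _ _
  have k3 : ∀ U : Subgroup P, U ≤ ⨆ s : (S : Subgroup P), cj((s : P), U) := fun U => by
    rw [← sup_commutator_eq_iSup]; exact le_sup_left
  have e1 : (⨆ s : (S : Subgroup P), cj((s : P), K)) ≤ Lay ⊤ :=
    iSup_le fun s => (hK'.cj_of_mem (le_normalizer (mem_top _))).le_Lay
  have e2 : Res p ⊤ ≤ ⨆ s : (S : Subgroup P), cj((s : P), K) := by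
    have a := h.eq_of_not_le le_sup_right le_top fun a => k1 ((k3 K).trans (le_sup_left.trans a))
    exact Res_le_of_le_sup a.ge (k2 K) hS.isP
  have e3 := Fstar_le_Res hO
  have e4 := Lay_le_Fstar (⊤ : Subgroup P)
  rw [← Res_top, ← Fstar_top, ← Lay_top]
  refine ⟨le_antisymm (e2.trans (e1.trans e4)) e3, le_antisymm (e3.trans (e2.trans e1)) e4,
    le_antisymm (e4.trans (e3.trans e2)) e1, pMin_iff.1 ?_⟩
  set S₀ := (S : Subgroup P) ⊓ normalizer (K : Set P) with hS₀
  have s1 := hS.inf_subnIn hK'.subn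
  have s2 : SylIn p S₀ (K ⊔ S₀) := by
    refine sylIn_of_not_dvd le_sup_right (hS.isP.to_le inf_le_left) fun a => ?_
    have b := card_sup_mul_card_inf (H := S₀) (N := K) inf_le_right
    have c := relIndex_mul_card (le_sup_right : S₀ ≤ K ⊔ S₀)
    have d := relIndex_mul_card s1.le
    have e : S₀ ⊓ K = (S : Subgroup P) ⊓ K := by
      rw [hS₀, inf_assoc, inf_eq_right.2 (le_normalizer (H := K))]
    rw [sup_comm, e, ← c, ← d, mul_comm (Nat.card S₀), mul_right_comm] at b
    exact s1.not_dvd_relIndex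
      (Nat.eq_of_mul_eq_mul_right Nat.card_pos (Nat.eq_of_mul_eq_mul_right Nat.card_pos b) ▸ a)
  refine ⟨S₀, M ⊓ (K ⊔ S₀), s2, UMax.minOver ⟨le_inf (inf_le_left.trans h.le) le_sup_right,
    lt_of_le_of_ne inf_le_right fun e => k1 (le_sup_left.trans (e.ge.trans inf_le_left)),
    fun X a b => le_inf ?_ b.le⟩ s2 fun a => ?_⟩
  · have c := sup_inf_of_le_normalizer (inf_le_right : S₀ ≤ normalizer (K : Set P)) a
    rw [sup_comm, inf_eq_right.2 b.le] at c
    refine c.le.trans (sup_le (inf_le_left.trans h.le) ((k3 _).trans ((h.Res_le_or hS.isP le_top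
      (k2 (K ⊓ X))).resolve_left fun d => b.not_ge (sup_le ?_ a))))
    have e : K ≤ (K ⊓ X) ⊔ centralizer (K : Set P) := by
      refine (hK'.le_Lay.trans (e4.trans (e3.trans d))).trans (iSup_le fun s => ?_)
      by_cases hs : (s : P) ∈ normalizer (K : Set P)
      · exact (cj_le_of_mem le_rfl (le_normalizer_inf inf_le_right (a.trans le_normalizer)
          (mem_inf.2 ⟨s.2, hs⟩))).trans le_sup_left
      · exact ((cj_mono _ inf_le_left).trans (by_contra fun c => hs (hK'.mem_normalizer_of_not_le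
          (le_normalizer (mem_top _)) c))).trans le_sup_right
    have e' := sup_inf_of_le_normalizer' (le_normalizer_of_le_centralizer (centralizer_mono
      (inf_le_left : K ⊓ X ≤ K))) (inf_le_left : K ⊓ X ≤ K)
    rw [inf_eq_right.2 e] at e'
    have := commutator_sup_central (A := K ⊓ X) (Z := centralizer (K : Set P) ⊓ K)
      (inf_le_left.trans (centralizer_mono inf_le_left))
      (inf_le_left.trans (centralizer_mono inf_le_right))
    rw [← e', hK'.qs.perfect] at this
    exact this.le.trans ((commutator_le_left_of_le_normalizer le_normalizer).trans inf_le_right)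
  · have e : S₀ ⊓ K = (S : Subgroup P) ⊓ K := by
      rw [hS₀, inf_assoc, inf_eq_right.2 (le_normalizer (H := K))]
    have b : (S : Subgroup P) ⊓ K = ⊥ := le_bot_iff.1 ((Comp.le_Op s1.le (e ▸ le_normalizer_inf
      (le_sup_left.trans a) le_normalizer) s1.isP).trans (hK'.subn.Op_eq_bot hO).le)
    have c : (Nat.card K).Coprime p := coprime_iff_not_dvd.2 (s1.eq_bot_iff.1 b)
    have d : Res p (⊤ : Subgroup P) ≤ Opp p ⊤ := e2.trans (iSup_le fun s =>
      (hK'.cj_of_mem (le_normalizer (mem_top _))).subn.le_Opp (by rwa [card_cj]))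
    obtain ⟨t, ht, e⟩ := h.exists_isPGroup_Res hS
      ((coprime_Opp p ⊤).coprime_dvd_left (card_dvd_of_le d))
    have := Fact.mk ht
    exact hK'.qs.not_le_of_isSolvable (isSolvable_of_isPGroup e) (hK'.le_Lay.trans (e4.trans e3))

end Cfsg.Agent.S2906
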