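import Cfsg.Statements.S2907
import Cfsg.Agent.Lib.Block.Syl1

set_option autoImplicit false
open Cfsg

namespace Cfsg.Agent.S2907

open Cfsg.Agent.Blk
open Cfsg.Agent.Char hiding cj cj_mul cj_inv_cj cj_cj_inv
open Subgroup

/-- Let X be a finite semi-extraspecial p-group and x an element of X outside the centre. Then the index of C_X(x) in X equals the order of Z(X), and the commutators [x, y], y ∈ X, form exactly the centre Z(X). -/
theorem result {X : Type*} [Group X] [Finite X] {p : ℕ} [Fact p.Prime] (hX : Cfsg.IsSemiExtraspecial p X) (x : X) (hx : x ∉ Subgroup.center X) : (Subgroup.centralizer ({x} : Set X)).index = Nat.card ↥(Subgroup.center X) ∧ {z : X | ∃ y : X, z = x * y * x⁻¹ * y⁻¹} = (Subgroup.center X : Set X) := by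
  classical
  obtain ⟨⟨hp, -, hc⟩, hY⟩ := hX
  have hz : ∀ y : X, x * y * x⁻¹ * y⁻¹ ∈ center X := fun y => by
    rw [← hc]
    exact commutator_mem_commutator (mem_top x) (mem_top y)
  let φ : X →* center X :=
    MonoidHom.mk' (fun y => ⟨_, hz y⟩) (fun a b => Subtype.ext (by
      have h := mem_center_iff.1 (hz b) a
      change x * (a * b) * x⁻¹ * (a * b)⁻¹ = x * a * x⁻¹ * a⁻¹ * (x * b * x⁻¹ * b⁻¹)
      calc _ = x * a * x⁻¹ * a⁻¹ * (a * (x * b * x⁻¹ * b⁻¹)) * a⁻¹ := by group
        _ = _ := by rw [h]; group))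
  have hker : φ.ker = centralizer ({x} : Set X) := by
    ext y
    rw [MonoidHom.mem_ker, mem_centralizer_singleton_iff, Subtype.ext_iff]
    change x * y * x⁻¹ * y⁻¹ = 1 ↔ _
    constructor
    · intro h
      calc y * x = (x * y * x⁻¹ * y⁻¹) * (y * x) := by rw [h, one_mul]
        _ = _ := by group
    · intro h
      rw [← h]; group
  have hr : φ.range = ⊤ := by
    by_contra h
    obtain ⟨M, hM, hle⟩ := (eq_top_or_exists_le_coatom φ.range).resolve_left h
    have hsub : (M.map (center X).subtype).subgroupOf (center X) = M :=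
      comap_map_eq_self_of_injective (center X).subtype_injective M
    obtain ⟨hN, ⟨-, hcard⟩⟩ := hY (M.map (center X).subtype) (map_subtype_le M) (by rw [hsub]; exact hM)
    set Y := M.map (center X).subtype with hYd
    have hxc : (x : X ⧸ Y) ∈ center (X ⧸ Y) := by
      rw [mem_center_iff]
      intro g
      obtain ⟨y, rfl⟩ := QuotientGroup.mk_surjective g
      have : ((x * y * x⁻¹ * y⁻¹ : X) : X ⧸ Y) = 1 :=
        (QuotientGroup.eq_one_iff _).2 ⟨φ y, hle ⟨y, rfl⟩, rfl⟩
      simp only [QuotientGroup.mk_mul, QuotientGroup.mk_inv] at this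
      calc (y : X ⧸ Y) * x = ((x : X ⧸ Y) * y * (x : X ⧸ Y)⁻¹ * (y : X ⧸ Y)⁻¹) * (y * x) := by rw [this, one_mul]
        _ = _ := by group
    have hle2 : (center X).map (QuotientGroup.mk' Y) ≤ center (X ⧸ Y) := by
      rintro _ ⟨z, hz', rfl⟩
      rw [mem_center_iff]
      intro g
      obtain ⟨y, rfl⟩ := QuotientGroup.mk_surjective g
      change ((y * z : X) : X ⧸ Y) = ((z * y : X) : X ⧸ Y)
      rw [mem_center_iff.1 hz' y]
    have hne : (center X).map (QuotientGroup.mk' Y) ≠ ⊥ := by
      intro h0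
      rw [Subgroup.map_eq_bot_iff, QuotientGroup.ker_mk'] at h0
      apply hM.1
      rw [← hsub, subgroupOf_eq_top]
      exact h0
    have hd := card_dvd_of_le hle2
    rw [hcard] at hd
    have heq : (center X).map (QuotientGroup.mk' Y) = center (X ⧸ Y) := by
      refine eq_of_le_of_card_ge hle2 ?_
      rcases (Nat.dvd_prime Fact.out).1 hd with h1 | h1
      · exact absurd (card_eq_one.1 h1) hne
      · rw [hcard, h1]
    rw [← heq] at hxc
    obtain ⟨z, hz', he⟩ := hxc
    have : z⁻¹ * x ∈ Y := QuotientGroup.eq.1 he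
    have h2 : z⁻¹ * x ∈ center X := map_subtype_le M this
    exact hx (by simpa using mul_mem hz' h2)
  refine ⟨?_, ?_⟩
  · rw [← hker, index_ker, hr, card_top]
  · ext z
    constructor
    · rintro ⟨y, rfl⟩; exact hz y
    · intro h
      obtain ⟨y, hy⟩ : (⟨z, h⟩ : center X) ∈ φ.range := hr ▸ mem_top _
      exact ⟨y, (congrArg Subtype.val hy).symm⟩

end Cfsg.Agent.S2907
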