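import Cfsg.Statements.S2909
import Cfsg.Agent.Lib.Transfer.Ext

set_option autoImplicit false
open Cfsg

namespace Cfsg.Agent.S2909

set_option linter.unusedSectionVars false
set_option linter.unusedVariables false
set_option linter.style.haveILetI false
set_option linter.unusedSimpArgs false

open Subgroup Transfer MS

/-- Let p be a prime, E a normal p-subgroup of the finite group G, and U a non-cyclic elementary abelian p-subgroup of G such that either C_E(U) = C_E(u) for every nontrivial u ∈ U, or [E, U] = [E, ⟨u⟩] for every nontrivial u ∈ U. If R is a subgroup of order prime to p normalized by U, then [R, U] centralizes E. -/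
theorem result {G : Type*} [Group G] [Finite G] {p : ℕ} [Fact p.Prime] (E : Subgroup G) [E.Normal] (hE : IsPGroup p ↥E) (U : Subgroup G) (hU : Cfsg.IsElementaryAbelian p U) (hnc : ¬ IsCyclic ↥U) (hcond : (∀ u ∈ U, u ≠ 1 → E ⊓ Subgroup.centralizer (U : Set G) = E ⊓ Subgroup.centralizer ({u} : Set G)) ∨ (∀ u ∈ U, u ≠ 1 → ⁅E, U⁆ = ⁅E, Subgroup.zpowers u⁆)) (R : Subgroup G) (hR : ¬ p ∣ Nat.card ↥R) (hRU : U ≤ Subgroup.normalizer (R : Set G)) : ⁅R, U⁆ ≤ Subgroup.centralizer (E : Set G) := by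
  have hUp : IsPGroup p U := isPGroup_of_forall_mem fun x hx => ⟨1, by rw [pow_one]; exact hU.2 x hx⟩
  haveI : (CC E).Normal := normalizer_eq_top_iff.1 (eq_top_iff.2 (nn_cc nn_normal))
  refine comm_le_iff_comap.2 (cop_gen hU.1 hnc hRU
    ((pi1_of_pg hUp).coprime (pi_compl_iff.2 hR)) fun u hu u1 => comm_le_iff_comap.1 ?_)
  have c1 : U ≤ C1 u := le_C1_iff.2 (ab_cc hU.1 hu)
  have b1 : ⁅R ⊓ C1 u, U⁆ ≤ R ⊓ C1 u := comm_le_left (nn_inf hRU (nn_C1 c1))
  have b2 : ¬ p ∣ #(⁅R ⊓ C1 u, U⁆ : Subgroup G) := fun h => hR (h.trans (card_dvd (b1.trans inf_le_left)))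
  have b3 : IsPGroup p (zpowers u) := hUp.to_le (zpowers_le.2 hu)
  have b4 : zpowers u ≤ CC ⁅R ⊓ C1 u, U⁆ := cc_symm (by rw [cc_zpowers]; exact b1.trans inf_le_right)
  rcases hcond with h | h
  · refine Solv.thompson_pxq b3 (pi_compl_iff_coprime.1 (pi_compl_iff.2 b2)) hE b4 nn_normal nn_normal ?_
    rw [cc_zpowers]
    refine cc_symm (commutator_le_centralizer_of_normalizer ?_ (nn_inf nn_normal (nn_C1 inf_le_right)))
    rw [← h u hu u1]; exact cc_symm inf_le_right
  · refine comm_eq_bot'.1 (comm_eq_bot_of_le hE b3 b2 nn_normal nn_normal (comm_eq_bot.2 b4) ?_)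
    have n1 : R ⊓ C1 u ≤ NN ⁅E, zpowers u⁆ := nn_comm nn_normal (nn_of_cc (by rw [cc_zpowers]; exact inf_le_right))
    rw [Subgroup.commutator_comm E ⁅_, _⁆, Subgroup.commutator_comm (R ⊓ C1 u)]
    refine three_sub n1 (left_nn_comm _ _) (by rw [← h u hu u1]; exact right_nn_comm _ _) ?_ ?_
    · rw [← h u hu u1]; exact commutator_mono (comm_le_right nn_normal) le_rfl
    · rw [h u hu u1]; exact comm_le_left n1

end Cfsg.Agent.S2909
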