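import Cfsg.Statements.S2910
import Cfsg.Agent.Lib.Transfer.Ext
import Cfsg.Agent.Lib.Transfer.ZJ

set_option autoImplicit false
open Cfsg

namespace Cfsg.Agent.S2910

set_option linter.unusedSectionVars false
set_option linter.unusedVariables false
set_option linter.style.haveILetI false
set_option linter.unusedSimpArgs false

open Subgroup Transfer MS

/-- Let p be an odd prime dividing the order of the finite group G and P a Sylow p-subgroup of G. If Ω₁(P) (generated by the elements of order dividing p) is contained in the centre of G, then G has a normal p-complement. In particular, if G is quasisimple then Ω₁(P) is not central in G. -/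
theorem result {G : Type*} [Group G] [Finite G] {p : ℕ} [Fact p.Prime] (hp : p ≠ 2) (hdiv : p ∣ Nat.card G) (P : Sylow p G) (hZ : Cfsg.omegaOne p (P : Subgroup G) ≤ Subgroup.center G) : Cfsg.HasNormalPComplement p G ∧ ¬ Cfsg.IsQuasisimple G := by
  have h : HasNormalPComplement p G := hasNPC_of_res_normalizer_le P fun B hB _ => res_le_iff.2 fun g hg hc =>
    mem_centralizer_of_omega hp hc B (P.2.to_le hB) hg fun x hx h1 =>
      (mem_center_iff.1 (hZ (mem_omega (hB hx) h1)) g).symm
  refine ⟨h, fun hq => hasNPC_iff_not_dvd.1 h ?_⟩
  have : pResidual p G = ⊤ := by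
    rw [← Comp.Res_top]; exact Comp.Res_eq_self_of_perfect hq.1.commutator_eq_top
  rwa [this, card_top]

end Cfsg.Agent.S2910
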