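import Cfsg.Statements.S2911
import Cfsg.Agent.Lib.Transfer.Ext

set_option autoImplicit false
open Cfsg

namespace Cfsg.Agent.S2911

set_option linter.unusedSectionVars false
set_option linter.unusedVariables false
set_option linter.style.haveILetI false
set_option linter.unusedSimpArgs false

open Subgroup Transfer MS

/-- A finite group whose Sylow 2-subgroups are isomorphic to the direct product of a group of order 2 and a dihedral group of order 8 has a subgroup of index two. -/
theorem result {G : Type*} [Group G] [Finite G] (S : Sylow 2 G) (hS : Nonempty (↥(S : Subgroup G) ≃* Multiplicative (ZMod 2) × DihedralGroup 4)) : ∃ H : Subgroup G, H.index = 2 := by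
  by_contra hc
  push Not at hc
  obtain ⟨e⟩ := hS
  have f1 : ∀ x : Multiplicative (ZMod 2) × DihedralGroup 4, (∀ y, y * x = x * y) →
      x = 1 ∨ x = (1, .r 2) ∨ x = (.ofAdd 1, 1) ∨ x = (.ofAdd 1, 1) * (1, .r 2) := by decide
  have f2 : ∀ x : Multiplicative (ZMod 2) × DihedralGroup 4, x * x = 1 ∨ x * x = (1, .r 2) := by decide
  have f3 : ∀ y : Multiplicative (ZMod 2) × DihedralGroup 4, y * (.ofAdd 1, 1) = (.ofAdd 1, 1) * y := by decide
  set c : S := e.symm (.ofAdd 1, 1) with hc0
  set w : S := e.symm (1, .r 1) with hw0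
  have z0 : e (w * w) = (1, .r 2) := by rw [map_mul, hw0, e.apply_symm_apply]; decide
  have c0 : e c = (.ofAdd 1, 1) := e.apply_symm_apply _
  have cc : (c : G) ∈ CC (S : Subgroup G) := mem_CC.2 fun y hy =>
    congrArg Subtype.val (e.injective (a₁ := ⟨y, hy⟩ * c) (a₂ := c * ⟨y, hy⟩) (by rw [map_mul, map_mul, c0, f3]))
  set φ : S →* Multiplicative (ZMod 2) := (MonoidHom.fst _ _).comp e.toMonoidHom with hφ
  have i2 : Ix2 S (φ.ker.map (S : Subgroup G).subtype) := by
    have : Ix2 ⊤ φ.ker := ⟨le_top, by
      rw [relIndex_top_right, index_ker, MonoidHom.range_eq_top.2 (Prod.fst_surjective.comp e.surjective)]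
      simp⟩
    have := this.map (subtype_injective _)
    rwa [Comp.map_subtype_top] at this
  have c2 : orderOf (c : G) = 2 := by
    rw [Subgroup.orderOf_coe, ← e.orderOf_eq, c0]; exact orderOf_eq_prime (by decide) (by decide)
  obtain ⟨g, g1, g2⟩ := thompson_center S (pResidual_two_eq_top_iff.2 hc ▸ le_top) i2 ⟨c.2, cc⟩ c2
  have key : ∀ b ∈ NN (S : Subgroup G), b * (b * c * b⁻¹) * b⁻¹ = c := by
    intro b hb
    set α := (S : Subgroup G).normalizerMonoidHom ⟨b, hb⟩ with hα
    have a1 : ∀ s : S, ((α s : S) : G) = b * s * b⁻¹ := fun s => rfl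
    have a2 : α (w * w) = w * w := by
      rcases f2 (e (α w)) with h | h
      · rw [← map_mul, ← map_mul, map_eq_one_iff _ e.injective, map_eq_one_iff _ α.injective] at h
        rw [h, map_one] at z0; exact absurd z0 (by decide)
      · rw [← map_mul, ← map_mul, ← z0] at h; exact e.injective h
    have a3 : α (α c) = c := by
      rcases f1 (e (α c)) (fun y => by
        obtain ⟨y, rfl⟩ := (e.surjective.comp α.surjective) y
        simp only [Function.comp, ← map_mul]
        congr 2
        exact Subtype.ext (mem_CC.1 cc y y.2)) with h | h | h | h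
      · rw [map_eq_one_iff _ e.injective, map_eq_one_iff _ α.injective] at h
        rw [h, map_one] at c0; exact absurd c0 (by decide)
      · rw [← z0, ← a2] at h
        rw [α.injective (e.injective h), z0] at c0; exact absurd c0 (by decide)
      · rw [← c0] at h; rw [e.injective h, e.injective h]
      · rw [← c0, ← z0, ← map_mul] at h
        rw [e.injective h, map_mul, a2, e.injective h]
        apply e.injective
        rw [map_mul, map_mul e c, z0, c0]; decide
    rw [← a1, ← a1, a3]
  obtain ⟨a, ha, b, hb, rfl, ⟨k, hk⟩, ho⟩ := exists_pPart 2 g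
  have a1 : a ∈ (S : Subgroup G) := (isSyl_top S).le_of_le_normalizer (isPGroup_zpowers hk) le_top
    (zpowers_le.2 (zpowers_le.2 g1 ha)) (mem_zpowers a)
  have b1 : Commute b c := commute_of_commute_sq_of_odd (odd_iff_coprime_two.2 ho) (by
    have := key b (zpowers_le.2 g1 hb)
    show b * b * c = c * (b * b)
    conv_rhs => rw [← this]
    group)
  have : a * b * c * (a * b)⁻¹ = c := by
    rw [mul_assoc a, b1.eq, ← mul_assoc, mem_CC.1 cc a a1]; group
  rw [this] at g2
  obtain ⟨y, hy, e1⟩ := g2
  rw [show y = c from Subtype.ext e1, SetLike.mem_coe, MonoidHom.mem_ker] at hy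
  have : (e c).1 = 1 := hy
  rw [c0] at this
  exact absurd this (by decide)

end Cfsg.Agent.S2911
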