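import Cfsg.Statements.S2916
import Cfsg.Agent.Lib.Block.GL23d
import Cfsg.Agent.Lib.Block.L33c
import Cfsg.Agent.Lib.Block.M11f
import Cfsg.Agent.Lib.Spor.M12
import Cfsg.Agent.S0243
import Cfsg.Agent.S0249

set_option autoImplicit false
open Cfsg

namespace Cfsg.Agent.S2916

open Cfsg.Agent.Blk
open Cfsg.Agent.Char hiding cj cj_mul cj_inv_cj cj_cj_inv

/-- Let G be a finite group with O²(G) = G (no proper normal subgroup of 2-power index), and let t be an involution of G whose centralizer C_G(t) is isomorphic to GL₂(3). Then G is isomorphic to PSL₃(3) or to the Mathieu group M₁₁. -/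
theorem result {G : Type*} [Group G] [Finite G] (hO : Cfsg.pResidual 2 G = ⊤) (t : G) (ht : orderOf t = 2) (hC : Nonempty (↥(Subgroup.centralizer ({t} : Set G)) ≃* GL (Fin 2) (ZMod 3))) : (∃ (F : Type) (_ : Field F) (_ : Fintype F), Fintype.card F = 3 ∧ Nonempty (G ≃* Matrix.ProjectiveSpecialLinearGroup (Fin 3) F)) ∨ Cfsg.Spor.IsoM11 G := by
  obtain ⟨e⟩ := hC
  obtain ⟨ι, h, -⟩ := GL23.exists_GC ht e
  have := h.simple fun H k => by
    have : pResidual 2 G ≤ H := (Subgroup.closure_le _).2 fun g hg => by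
      have k1 := Subgroup.sq_mem_of_index_two k g
      obtain ⟨m, hm⟩ := exists_pow_eq_self_of_coprime (x := g) (n := 2) (Nat.Coprime.symm hg)
      exact hm ▸ H.pow_mem k1 m
    rw [hO, top_le_iff] at this
    simp [this] at k
  rcases h.card with k | k
  · have := S0249.result (F := ZMod 3) 3 le_rfl
    have h1 := S0243.result (F := ZMod 3) (q := 3) (by simp) 3 (by norm_num)
    rw [show (∏ i : Fin 3, (3 ^ 3 - 3 ^ (i : ℕ))) = 11232 by decide, show Nat.gcd 3 (3 - 1) = 1 by
      decide] at h1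
    exact .inl ⟨ZMod 3, inferInstance, inferInstance, rfl, L33.unique k (by omega)⟩
  · exact .inr (M11.unique ⟨this, k⟩ ⟨have := Spor.simple11; Spor.M11Equiv.symm.isSimpleGroup,
      (Nat.card_congr Spor.M11Equiv.toEquiv).symm.trans Spor.card11⟩)

end Cfsg.Agent.S2916
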