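import Cfsg.Statements.S2924
import Cfsg.Agent.Lib.SSF.App

set_option autoImplicit false
open Cfsg

namespace Cfsg.Agent.S2924

open Cfsg.Agent.Sg Cfsg.Agent.MS Cfsg.Agent.Transfer Subgroup

/-- Let X be a finite group and Y an elementary abelian 2-subgroup of X of order at least 8 such that C_X(x) has no components (E(C_X(x)) = 1) for every nontrivial x ∈ Y, and F*(C_X(z)) = O₂(C_X(z)) for some nontrivial z ∈ Y. Then the subgroup generated by the cores O(C_X(y)), y ∈ Y nontrivial, has odd order and is normalized by N_X(Y). -/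
theorem result {X : Type*} [Group X] [Finite X] (Y : Subgroup X) (hY : Cfsg.IsElementaryAbelian 2 Y) (h8 : 8 ≤ Nat.card ↥Y) (hE : ∀ x ∈ Y, x ≠ 1 → Cfsg.layer ↥(Subgroup.centralizer ({x} : Set X)) = ⊥) (hz : ∃ z ∈ Y, z ≠ 1 ∧ Cfsg.generalizedFittingSubgroup ↥(Subgroup.centralizer ({z} : Set X)) = Cfsg.pCore 2 ↥(Subgroup.centralizer ({z} : Set X))) : Odd (Nat.card ↥(⨆ y : {y : X // y ∈ Y ∧ y ≠ 1}, (Cfsg.oddCore ↥(Subgroup.centralizer ({(y : X)} : Set X))).map (Subgroup.centralizer ({(y : X)} : Set X)).subtype)) ∧ Subgroup.normalizer (Y : Set X) ≤ Subgroup.normalizer ((⨆ y : {y : X // y ∈ Y ∧ y ≠ 1}, (Cfsg.oddCore ↥(Subgroup.centralizer ({(y : X)} : Set X))).map (Subgroup.centralizer ({(y : X)} : Set X)).subtype : Subgroup X) : Set X) := by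
  obtain ⟨z, hz, h0, h1⟩ := hz
  have pg : ∀ x ∈ Y, IsPGroup 2 (zpowers x) := fun x hx =>
    (Comp.IsElementaryAbelian.isPGroup hY).to_le (zpowers_le.2 hx)
  have h2 : Comp.SSF 2 Y fun a => O {2}ᶜ (C1 a) := ssf_OC hY (fun a _ _ => sol_O2 _)
    fun a ha _ b hb h3 => bal_inv (Comp.charP_iff_fstar_subtype.2 h1) (by rw [← sq]; exact hY.2 z hz)
      (by rw [← Comp.map_layer, hE b hb h3, Subgroup.map_bot]) (pg a ha) (pg b hb)
      (Comp.IsElementaryAbelian.le_centralizer_singleton hY hb ha)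
      (Comp.IsElementaryAbelian.le_centralizer_singleton hY hz ha)
      (Comp.IsElementaryAbelian.le_centralizer_singleton hY hz hb)
  simp only [oddCore, map_pPrimeCore]
  exact ⟨Nat.coprime_two_right.1 (ssft_two h2 h8).cop,
    nn_clo (θ := fun a => O {2}ᶜ (C1 a)) fun a _ _ g => (cj_OC _ g a).le⟩

end Cfsg.Agent.S2924
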