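import Cfsg.Statements.S2925
import Cfsg.Agent.Lib.BG.MinNA

set_option autoImplicit false
open Cfsg

namespace Cfsg.Agent.S2925

/-- Let K be a component of the finite group X and T a Sylow 2-subgroup of X. If some abelian normal subgroup Y of T does not normalize K, then K ⧸ Z(K) has abelian Sylow 2-subgroups. -/
theorem result {X : Type*} [Group X] [Finite X] (K : Subgroup X) (hK : Cfsg.IsComponent K) (T : Sylow 2 X) (Y : Subgroup X) (hYT : Y ≤ (T : Subgroup X)) (hYn : (Y.subgroupOf (T : Subgroup X)).Normal) (hYab : IsMulCommutative ↥Y) (hnot : ¬ Y ≤ Subgroup.normalizer (K : Set X)) (P : Sylow 2 (↥K ⧸ Subgroup.center ↥K)) : IsMulCommutative ↥(P : Subgroup (↥K ⧸ Subgroup.center ↥K)) := by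
  open Pointwise commutatorElement Subgroup in
  open Cfsg.Agent.Comp Cfsg.Agent.BG Subgroup commutatorElement in
  have hK' : CompIn K ⊤ := compIn_top_iff.2 hK
  obtain ⟨y, hy, hyK⟩ := SetLike.not_le_iff_exists.1 hnot
  have hc : cj(y, K) ≤ Ct(K) := by
    by_contra h
    exact hyK (hK'.mem_normalizer_of_not_le (le_normalizer (mem_top y)) h)
  have hR : SylIn 2 ((T : Subgroup X) ⊓ K) K := (sylIn_top T).inf_subnIn hK'.subn
  have hTY : (T : Subgroup X) ≤ Nm(Y) := (normal_subgroupOf_iff_le_normalizer hYT).1 hYn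
  have key : ∀ r ∈ (T : Subgroup X) ⊓ K, ∀ s ∈ (T : Subgroup X) ⊓ K, ⁅r, s⁆ ∈ Ct(K) := by
    intro r hr s hs
    have hm : ∀ r ∈ (T : Subgroup X) ⊓ K, r * (y * r⁻¹ * y⁻¹) ∈ Y := by
      intro r hr
      have : r * (y * r⁻¹ * y⁻¹) = (r * y * r⁻¹) * y⁻¹ := by group
      rw [this]
      exact Y.mul_mem ((mem_normalizer_iff.1 (hTY hr.1) y).1 hy) (Y.inv_mem hy)
    have hcc : ∀ r ∈ (T : Subgroup X) ⊓ K, y * r⁻¹ * y⁻¹ ∈ Ct(K) := by
      intro r hr
      exact hc (mem_cj.2 (by simpa [mul_assoc] using hr.2))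
    have h1 := setLike_mul_comm (s := Y) (hm r hr) (hm s hs)
    have a1 := hcc r hr
    have a2 := hcc s hs
    generalize y * r⁻¹ * y⁻¹ = r' at h1 a1
    generalize y * s⁻¹ * y⁻¹ = s' at h1 a2
    have e1 : r' * s = s * r' := (mem_centralizer_iff.1 a1 s hs.2).symm
    have e2 : s' * r = r * s' := (mem_centralizer_iff.1 a2 r hr.2).symm
    have h2 : r * s * (r' * s') = s * r * (s' * r') := by
      calc r * s * (r' * s') = r * (s * r') * s' := by group
        _ = r * r' * (s * s') := by rw [← e1]; group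
        _ = s * s' * (r * r') := h1
        _ = s * (s' * r) * r' := by group
        _ = _ := by rw [e2]; group
    have h3 : (s * r)⁻¹ * (r * s) = (s' * r') * (r' * s')⁻¹ := by
      rw [inv_mul_eq_iff_eq_mul, ← mul_assoc, eq_mul_inv_iff_mul_eq, h2]
    have h4 : (s * r)⁻¹ * (r * s) ∈ Ct(K) := by
      rw [h3]
      exact mul_mem (mul_mem a2 a1) (inv_mem (mul_mem a1 a2))
    have h5 : ⁅r, s⁆ = (s * r) * ((s * r)⁻¹ * (r * s)) * (s * r)⁻¹ := by
      rw [commutatorElement_def]; group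
    rw [h5, mem_centralizer_iff.1 h4 _ (K.mul_mem hs.2 hr.2), mul_inv_cancel_right]
    exact h4
  have h1 := (hR.subgroupOf (le_refl K)).map (QuotientGroup.mk' (center K))
  rw [subgroupOf_self, map_top_of_surjective _ (QuotientGroup.mk'_surjective _)] at h1
  obtain ⟨g, -, hg⟩ := h1.exists_cj_eq (sylIn_top P)
  rw [← hg, ← Subgroup.commutator_self_eq_bot_iff, ← cj_commutator, cj_eq_bot_iff, ← Subgroup.map_commutator,
    Subgroup.map_eq_bot_iff, QuotientGroup.ker_mk', commutator_le]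
  intro r hr s hs
  rw [mem_center_iff]
  intro k
  exact Subtype.ext (mem_centralizer_iff.1 (key r hr s hs) k k.2)

end Cfsg.Agent.S2925
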