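import Cfsg.Statements.S2931
import Mathlib
import Cfsg.Agent.Lib.Perm.U42
import Cfsg.Agent.S0288

set_option autoImplicit false
open Cfsg

namespace Cfsg.Agent.S2931

set_option maxRecDepth 100000
open Cfsg.Agent.PC Cfsg.Agent.Fi Cfsg.Agent.Ct Cfsg.Agent.Perm MulAction Matrix

def W (k c : ℕ) : List ℕ := (List.range k).filter c.testBit
theorem Wlt (k c : ℕ) : ∀ j ∈ W k c, j < k := fun _ h => List.mem_range.1 (List.mem_filter.1 h).1

def Ok (B : List ℕ) (T R : ℕ → ℕ → ℕ) (k : ℕ) : Prop :=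
  (∀ j < k, ∀ c < 2 ^ k, R j c < 2 ^ k ∧ agF B (fun x => T j (tr T (W k c) x)) (tr T (W k (R j c))) = 0) ∧
    ∀ c < 2 ^ k, ∀ d < c, agF B (tr T (W k c)) (tr T (W k d)) ≠ 0

theorem reg {G X : Type*} [Group G] [MulAction G X] {pt : ℕ → X} {N k : ℕ} {B : List ℕ} {g : ℕ → G} {T R : ℕ → ℕ → ℕ}
    (M : Md pt N B g T k) (h : Ok B T R k) : Reps (fun c => ev g (W k c)) (2 ^ k) g R k ∧ Inj (fun c => ev g (W k c)) (2 ^ k) ∧
      (∀ a ∈ gen g k, (∀ c < 2 ^ k, a • ev g (W k c) = ev g (W k c)) → a = 1) ∧ Nat.card (gen g k) = 2 ^ k := by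
  have r := fun c => M.reps.ev (Wlt k c)
  have a : Reps (fun c => ev g (W k c)) (2 ^ k) g R k := fun j hj c hc =>
    ⟨(h.1 j hj c hc).1, (M.eqF ((M.reps j hj).mul (r c)) (r _)).1 (h.1 j hj c hc).2⟩
  have b : Inj (fun c => ev g (W k c)) (2 ^ k) := fun c hc d hd e => by
    rcases lt_trichotomy c d with l | l | l
    · exact absurd ((M.eqF (r d) (r c)).2 e.symm) (h.2 d hd c l)
    · exact l
    · exact absurd ((M.eqF (r c) (r d)).2 e) (h.2 c hc d l)
  have c : ∀ a ∈ gen g k, (∀ c < 2 ^ k, a • ev g (W k c) = ev g (W k c)) → a = 1 := fun a _ f =>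
    mul_right_cancel ((f 0 (by positivity)).trans (one_mul _).symm)
  refine ⟨a, b, c, ?_⟩
  obtain ⟨φ, -, -, -, e⟩ := hom_of_tables a a b b c
  rw [← b.ncard_Iio, ← Nat.card_coe_set_eq]
  refine Nat.card_congr (Equiv.setCongr (Set.ext fun x => ⟨fun hx => ?_, ?_⟩))
  · obtain ⟨d, hd, e', -⟩ := e ⟨x, hx⟩ 0 (by positivity)
    refine ⟨d, hd, e'.symm.trans ?_⟩
    rw [show W k 0 = [] by simp [W]]
    exact mul_one x
  · rintro ⟨d, -, rfl⟩
    exact ev_mem_gen g (Wlt k d)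

theorem syl {G : Type*} [Group G] [Finite G] {H : Subgroup G} {k n : ℕ} (h : Nat.card H = 2 ^ k) (hG : Nat.card G = 2 ^ k * n)
    (hn : ¬ 2 ∣ n) (P : Sylow 2 G) : Nonempty (H ≃* P) := by
  have e : (Nat.card G).factorization 2 = k := by
    rw [hG, Nat.factorization_mul (by positivity) (by rintro rfl; simp at hn), Finsupp.add_apply,
      Nat.factorization_eq_zero_of_not_dvd hn, Nat.prime_two.factorization_pow]
    simp
  exact ⟨Sylow.equiv (Sylow.ofCard H (e ▸ h)) P⟩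

def s (j : ℕ) : Equiv.Perm (Fin 8) := Equiv.swap (Fin.ofNat 8 j) (Fin.ofNat 8 (j + 1))
def Ts (j c : ℕ) : ℕ := if c = j then j + 1 else if c = j + 1 then j else c
def V8 (j : ℕ) : List ℕ := [[3, 2, 1, 0, 4, 3, 2, 1, 5, 4, 3, 2, 6, 5, 4, 3], [0, 3, 2, 1, 0, 4, 3, 2, 1, 0, 5, 4, 3, 2, 6, 5, 4, 3], [2, 3, 2, 1, 0, 4, 3, 2, 1, 5, 4, 3, 2, 6, 5, 4, 3, 2], [0, 1, 0, 2, 1, 3, 2, 1, 0, 4, 3, 2, 1, 0, 5, 4, 3, 2, 1, 0, 6, 5, 4, 3, 2, 1], [0, 6], [0, 1, 0, 2, 1, 3, 2, 1, 0, 4, 3, 2, 1, 0, 5, 4, 3, 2, 6, 5, 4, 3], [0]].getD j []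
def VP (j : ℕ) : List ℕ := [[3, 5, 6, 3, 4, 1, 5, 1, 4, 6, 5], [5, 6, 4, 1, 5, 1, 4, 6, 5], [0, 3, 6, 2, 0], [1, 2, 5, 6, 4, 0, 3, 6, 5], [0, 2, 5, 1, 4, 1, 5, 1, 6, 3], [0, 3, 6, 1, 2, 4, 5, 1]].getD j []
def R7 (j c : ℕ) : ℕ := get1 (nat_lit 0x7ef9ebc76e9cb86ed9ab466c98b05eb96ac56a94a84e992a446890a03e78e9c3668c982e58a9426488901e3868c16284880e182840608080fffbefcf7ebcf8efdbaf4e7cb8f0dfbb6ecd7ab4e8cf9b2e4c78b0e0bf7aedcb76acd8af5aad4a74a8d09f3a6cc972a4c88f1a2c4870a0c0ad5ea55a54e851b166d5bb976f5f810614389163479d3e64d952e449f5efc79fdffe7de9d7b77e1c7973d5af469ddbf66dc997367c1871630c1c205040c001102450b183470f20449132854b173c7ce1d346cc197ef9ebc76e9cb86ed9ab466c98b05eb96ac56a94a84e992a446890a0f5efc79fdffe7de9d7b77e1c7973d5af469ddbf66dc997367c1871639f3a6cc972a4c88f1a2c4870a0c0bf7aedcb76acd8af5aad4a74a8d074edc397cfde3d68d5b3760c593354ad4295cbd62d489532740851231e3868c16284880e1828406080803e78e9c3668c982e58a942648890dbb37eed3a35e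ac78b0e0cf9b2e4f7ebcf8fffbefcebd3bf6e3c39f283021c28b123c69f3a6cc972a4c8a3429d2ab52bd6bf7aedcb76acd850a552b58b572f408512348953277cfde3d74edc396cdda3564cd83122409922a50b963e78e9c3668c9802001820a103861e3868c1628488e9d7b77e1c7973f9f7f7ff1e7d7bc997367c187163d9b776fd1a756bbd7ee5db56ec59ad5ea55a54e851912654b993674f81061438916347448d0214c9d22554ad4295cbd62d64cd8316cdda3574edc397cfde3d3668c983e78e9c2a50b9622409921a3078e122058a06080800e18284e5cf871eddfa75f5efc79fdffe7dc58f061cd9f265d5af469ddbf66db166d5bb976f5fa146953a956b579d3e64d952e4498d1e245850e0414895327408512358b572f50a552b68d5b3760c593378f5f3f70e5d3b3a70f9e3260d9a26488902e58a9416284881e3868c0a103860200182c997367c187163d9b776fd1a756be9d7b77e1c7973f9f7f7ff1e7d7bbb72fdeb362ddaa74a8d0af5aad4972a4c89f3a6cc8b123c683021c264cd8316cdda3574edc397cfde3d448d0214c9d22554ad4295cbd62d3064d1b3874f1f20449132854b171c3c60d142c4090c1c205040c001) 7 127 (j * 128 + c)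
def R6 (j c : ℕ) : ℕ := get1 (nat_lit 0xc1c205040c001102450b183470f20449132854b173c7ce1d346cc197ef9ebc76e9cb86ed9ab466c98b05eb96ac56a94a84e992a446890a0000000000000000000000000000000000000000000000000000000000000000000000000000000000000000000000000000000000000000074edc397cfde3d68d5b3760c593354ad4295cbd62d489532740851231e3868c16284880e1828406080803e78e9c3668c982e58a942648890000000000000000000000000000000000000000000000000000000000000000000000000000000000000000000000000000000000000000050a552b58b572f408512348953277cfde3d74edc396cdda3564cd83122409922a50b963e78e9c3668c9802001820a103861e3868c16284880000000000000000000000000000000000000000000000000000000000000000000000000000000000000000000000000000000000000000448d0214c9d22554ad4295cbd62d64cd8316cdda3574edc397cfde3d3668c983e78e9c2a50b9622409921a3078e122058a06080800e1828400000000000000000000000000000000000000000000000000000000000000000000000000000000000000000000000000000000000000004895327408512358b572f50a552b68d5b3760c593378f5f3f70e5d3b3a70f9e3260d9a26488902e58a9416284881e3868c0a103860200182000000000000000000000000000000000000000000000000000000000000000000000000000000000000000000000000000000000000000064cd8316cdda3574edc397cfde3d448d0214c9d22554ad4295cbd62d3064d1b3874f1f20449132854b171c3c60d142c4090c1c205040c001)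 7 127 (j * 128 + c)
def TO (j c : ℕ) : ℕ := get1 (nat_lit 0x85b1bcec1726336ad15acc4bbd5232d4f4a80b895f622fc591e0f9f84663273b944e9d0ea90377c0a5ed1fd81a767e8059730defa86079f105cf2a681c675caabc313ce5548a3e39beed740836199e6f7c28b411fbf9254d2248db7b2d6da040597f7cefa41130d9e686028bbee105083a68d7479f619cf29253ce2488a3fbf5544d2e3975cdb7c316da1c6b2daab04038f554efa821964fbf4112caf3d9e62484935d630d8a3e78db7b6c0c261975c187a29cf21057dec70aabbeed3569b04038f30defae78187105cf2c707de75caaba295d65548a3821beeb6c69b6199e6964493411fbff3d2ca248db7d350c2040d35df6efae39f7cfbfcb3c709259e6aeaa29b6cbaf8a38605155d66da61975c79f4934501051c62ca20934c38f083040ffedf6efacf2f7cd74e78c707de5d66da4d275c554658450bee9e6aea8e2b6c964a688603ce1c62ca0c234c14424804085b1bcec1726336ad15acc4bbd5232d4f4a80b895f622fc591e0f9f84663273b944e9d0ea90377c0a5ed1fd81a767e8038f554efa82118775ccf2a297de105aabc705d630d8a3e78db7b6c0c2619fbf9642ca4119e6f3d493248beed3569b040597f7ce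fa41130d9e686028bbee105083a68d7479f619cf29253ce2488a3fbf5544d2e3975cdb7c316da1c6b2daab040d35bafefa86079f1054502ca1c675c209493b6cdf68a3e3934c5d60836199e6f7ca29cb3fbf925c70aea51538f6da04038f30defae78187105cf2c707de75caaba295d65548a3821beeb6c69b6199e6964493411fbff3d2ca248db7d350c2040d35df6efae39f7cfbfcb3c709259e6aeaa29b6cbaf8a38605155d66da61975c79f4934501051c62ca20934c38f083040ffedf6efacf2f7cd74e78c707de5d66da4d275c554658450bee9e6aea8e2b6c964a688603ce1c62ca0c234c144248040) 6 63 (j * 64 + c)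

theorem m8 (k : ℕ) (hk : k ≤ 7) : Md (Fin.ofNat 8) 8 (List.range 8) (fun j => ev s (V8 j)) (fun j => tr Ts (V8 j)) k :=
  ⟨by unfold Inj; decide, by decide, fun a h => Equiv.ext fun i => by simpa using h i (List.mem_range.2 i.2), fun j hj =>
    Reps.ev (m := 7) (by unfold Reps PC.Rep; decide +kernel) ((by decide : ∀ j < 7, ∀ i ∈ V8 j, i < 7) j (by omega))⟩

theorem mP : Md U42.pt 40 U42.B0 (fun j => ev U42.al (VP j)) (fun j => tr U42.T (VP j)) 6 :=
  ⟨U42.md0.inj, U42.md0.lt, U42.md0.base, fun j hj => U42.rp.ev ((by decide : ∀ j < 6, ∀ i ∈ VP j, i < 7) j hj)⟩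

theorem sg : ∀ w : List ℕ, (∀ j ∈ w, j < 7) → Equiv.Perm.sign (ev s w) = (-1) ^ w.length
  | [], _ => by simp [ev]
  | j :: w, h => by
    rw [ev_cons, map_mul, sg w fun i hi => h i (List.mem_cons_of_mem _ hi), s, Equiv.Perm.sign_swap
      ((by decide : ∀ j < 7, Fin.ofNat 8 j ≠ Fin.ofNat 8 (j + 1)) j (h j List.mem_cons_self)), List.length_cons, pow_succ]

abbrev ι : Type := (Fin 2 ⊕ Fin 2) ⊕ Fin 2
def ix : ι → ℕ := Sum.elim (Sum.elim (·.val) (2 + ·.val)) (4 + ·.val)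
def p2 (c : ℕ) : ι → ZMod 2 := fun i => if c.testBit (ix i) then 1 else 0
def M2 (j : ℕ) : Matrix ι ι (ZMod 2) := of fun i i' => p2 (TO (j % 14) (2 ^ ix i')) i
theorem f1 : ∀ j < 7, M2 j * M2 (j + 7) = 1 ∧ M2 (j + 7) * M2 j = 1 := by decide +kernel
theorem f2 : ∀ j < 7, ∀ c < 64, TO j c < 64 ∧ M2 j *ᵥ p2 c = p2 (TO j c) ∧
    quadFormMinus 2 (ZMod 2) 1 1 (p2 (TO j c)) = quadFormMinus 2 (ZMod 2) 1 1 (p2 c) := by
  unfold quadFormMinus; decide +kernel
theorem f3 : (∀ v : ι → ZMod 2, ∃ c < 64, p2 c = v) ∧ ∀ c < 64, ∀ d < 64, p2 c = p2 d → c = d := by decide +kernel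
theorem o8 : Ok (List.range 8) (fun j => tr Ts (V8 j)) R7 7 ∧ Ok (List.range 8) (fun j => tr Ts (V8 j)) R6 6 := by
  unfold Ok; decide +kernel
theorem oP : Ok U42.B0 (fun j => tr U42.T (VP j)) R6 6 := by unfold Ok; decide +kernel
theorem oO : Ok [1, 2, 4, 8, 16, 32] TO R7 7 := by unfold Ok; decide +kernel

/-- The Sylow 2-subgroups of the alternating group of degree 8 and of PSp₄(3) are isomorphic, and so are the Sylow 2-subgroups of the symmetric group of degree 8 and of the full isometry group of a non-degenerate quadratic form of minus type in dimension 6 over the field with 2 elements. -/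
theorem result (F : Type) [Field F] [Fintype F] (hF : Fintype.card F = 3) (K : Type) [Field K] [Fintype K] (hK : Fintype.card K = 2) (a b : K) (hab : ∀ z₁ z₂ : K, z₁ ^ 2 + a * z₁ * z₂ + b * z₂ ^ 2 = 0 → z₁ = 0 ∧ z₂ = 0) (P : Sylow 2 ↥(alternatingGroup (Fin 8))) (Q : Sylow 2 (Cfsg.PSp 2 F)) (P' : Sylow 2 (Equiv.Perm (Fin 8))) (Q' : Sylow 2 ↥(Cfsg.isometryGroup K (Cfsg.quadFormMinus 2 K a b))) : Nonempty (↥(P : Subgroup ↥(alternatingGroup (Fin 8))) ≃* ↥(Q : Subgroup (Cfsg.PSp 2 F))) ∧ Nonempty (↥(P' : Subgroup (Equiv.Perm (Fin 8))) ≃* ↥(Q' : Subgroup ↥(Cfsg.isometryGroup K (Cfsg.quadFormMinus 2 K a b)))) := by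
  constructor
  · obtain ⟨a1, a2, a3, a4⟩ := reg (m8 6 (by decide)) o8.2
    obtain ⟨b1, b2, b3, b4⟩ := reg mP oP
    obtain ⟨e⟩ := equiv_of_tables a1 b1 a2 b2 a3 b3 rfl rfl
    obtain ⟨i⟩ := U42.isoS hF
    have l : gen (fun j => ev s (V8 j)) 6 ≤ alternatingGroup (Fin 8) := gen_le fun j hj => by
      obtain ⟨h1, h2⟩ := (by decide : ∀ j < 6, (∀ i ∈ V8 j, i < 7) ∧ Even (V8 j).length) j hj
      rw [Equiv.Perm.mem_alternatingGroup, sg _ h1, h2.neg_one_pow]
    have e1 := Subgroup.subgroupOfEquivOfLe l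
    have e2 := i.subgroupMap (gen (fun j => ev U42.al (VP j)) 6)
    haveI : Finite (PSp 2 F) := Finite.of_equiv _ i.toEquiv
    obtain ⟨x⟩ := syl (n := 315) ((Nat.card_congr e1.toEquiv).trans a4) (by
      have := two_mul_nat_card_alternatingGroup (α := Fin 8)
      rw [Nat.card_perm, Nat.card_fin, show Nat.factorial 8 = 40320 from rfl] at this
      omega) (by decide) P
    obtain ⟨y⟩ := syl (n := 405) ((Nat.card_congr e2.toEquiv).symm.trans b4) ((Nat.card_congr i.toEquiv).symm.trans U42.card)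
      (by decide) Q
    exact ⟨x.symm.trans (e1.trans (e.trans (e2.trans y)))⟩
  have cd := S0288.result hK 3 (by decide) a b hab
  norm_num [Finset.prod_range_succ] at cd
  change Nat.card (isometryGroup K (quadFormMinus 2 K a b)) = _ at cd
  let f : ZMod 2 ≃+* K := ZMod.ringEquivOfPrime K Nat.prime_two hK
  have z : ∀ x : K, x = 0 ∨ x = 1 := fun x => by
    obtain ⟨y, rfl⟩ := f.surjective x
    rcases (by decide : ∀ y : ZMod 2, y = 0 ∨ y = 1) y with rfl | rfl <;> simp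
  have t : (1 : K) + 1 = 0 := by rw [← map_one f, ← map_add]; exact map_zero f
  obtain rfl : b = 1 := (z b).resolve_left fun e => one_ne_zero (hab 0 1 (by simp [e])).2
  obtain rfl : a = 1 := (z a).resolve_left fun e => one_ne_zero (hab 1 1 (by simpa [e] using t)).2
  have mv : ∀ (A : Matrix ι ι (ZMod 2)) v, A.map f *ᵥ (f ∘ v) = f ∘ (A *ᵥ v) := fun A v =>
    funext fun i => ((f : ZMod 2 →+* K).map_mulVec A v i).symm
  have q : ∀ v, quadFormMinus 2 K 1 1 (f ∘ v) = f (quadFormMinus 2 (ZMod 2) 1 1 v) := fun v => by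
    simp only [quadFormMinus, map_add, map_mul, map_pow, map_sum, map_one, Function.comp]
  have su : ∀ v : ι → K, ∃ c < 64, f ∘ p2 c = v := fun v => by
    obtain ⟨c, h, e⟩ := f3.1 (f.symm ∘ v)
    exact ⟨c, h, funext fun i => by simp [e]⟩
  have mm : ∀ A B : Matrix ι ι (ZMod 2), A * B = 1 → A.map f * B.map f = 1 := fun A B h => by
    rw [← Matrix.map_mul (f := f), h]; simp
  let h : ℕ → isometryGroup K (quadFormMinus 2 K 1 1) := fun j => if hj : j < 7 then
    ⟨⟨(M2 j).map f, (M2 (j + 7)).map f, mm _ _ (f1 j hj).1, mm _ _ (f1 j hj).2⟩, fun u _ => by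
      obtain ⟨c, hc, rfl⟩ := su u
      show quadFormMinus 2 K 1 1 ((M2 j).map f *ᵥ _) = quadFormMinus 2 K 1 1 (f ∘ p2 c)
      rw [mv, q, q, (f2 j hj c hc).2.1, (f2 j hj c hc).2.2]⟩ else 1
  letI : MulAction (isometryGroup K (quadFormMinus 2 K 1 1)) (ι → K) :=
    { smul := fun g v => g.1.1 *ᵥ v, one_smul := fun v => one_mulVec v, mul_smul := fun g g' v => (mulVec_mulVec v _ _).symm }
  have M : Md (fun c => f ∘ p2 c) 64 [1, 2, 4, 8, 16, 32] h TO 7 := ⟨fun c hc d hd e => f3.2 c hc d hd (f.injective.comp_left e),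
    by decide, fun g hg => Subtype.ext (Units.ext (Matrix.ext fun i j => ?_)), fun j hj c hc => ⟨(f2 j hj c hc).1, ?_⟩⟩
  · obtain ⟨a1, a2, a3, a4⟩ := reg (m8 7 le_rfl) o8.1
    obtain ⟨b1, b2, b3, b4⟩ := reg M oO
    obtain ⟨e⟩ := equiv_of_tables a1 b1 a2 b2 a3 b3 rfl rfl
    haveI : Finite (isometryGroup K (quadFormMinus 2 K 1 1)) := Nat.finite_of_card_ne_zero (by rw [cd]; decide)
    obtain ⟨x⟩ := syl (n := 315) a4 (by rw [Nat.card_perm, Nat.card_fin]; rfl) (by decide) P'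
    obtain ⟨y⟩ := syl (n := 405) b4 cd (by decide) Q'
    exact ⟨x.symm.trans (e.trans y)⟩
  · obtain ⟨h1, h2⟩ := (by decide : ∀ j : ι, 2 ^ ix j ∈ [1, 2, 4, 8, 16, 32] ∧ p2 (2 ^ ix j) = Pi.single j 1) j
    have e : f ∘ p2 (2 ^ ix j) = Pi.single j 1 := by
      rw [h2]; funext k; by_cases c : k = j <;> simp [c, Pi.single_apply]
    have := congrFun (show g.1.1 *ᵥ (f ∘ p2 (2 ^ ix j)) = f ∘ p2 (2 ^ ix j) from hg _ h1) i
    rw [e, mulVec_single_one] at this
    simpa [Matrix.one_apply, Pi.single_apply] using this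
  · show (h j).1.1 *ᵥ _ = _
    simp only [h, dif_pos hj]
    rw [mv, (f2 j hj c hc).2.1]

end Cfsg.Agent.S2931
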