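import Cfsg.Statements.S2947
import Cfsg.Agent.Lib.Comp.SPE
import Cfsg.Agent.Lib.Transfer.Thom

set_option autoImplicit false
open Cfsg

namespace Cfsg.Agent.S2947

open Cfsg.Agent.Comp Subgroup

/-- Let G be a finite group of characteristic 2 type in which every 2-local subgroup is solvable and the centralizer of Ω₁(Z(S)) lies in N_G(S) for every Sylow 2-subgroup S; suppose O₂(G) = 1, fix a Sylow 2-subgroup S and a 2-local subgroup M containing N_G(J(S)) (J the Thompson subgroup generated by the elementary abelian 2-subgroups of largest order). Then M is strongly embedded in G (a proper subgroup of even order whose intersection with each conjugate by an element outside M has odd order) if and only if no nontrivial 2-subgroup of M lies in a 2-local subgroup of G not contained in M. -/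
theorem result {G : Type*} [Group G] [Finite G] (hL : Cfsg.IsCharacteristicTwoType G) (hN : ∀ N : Subgroup G, Cfsg.IsTwoLocal N → Group.IsSolvable ↥N)
    (hZ : ∀ S : Sylow 2 G, Subgroup.centralizer (Cfsg.omegaCenterOf (S : Subgroup G) : Set G) ≤ Subgroup.normalizer ((S : Subgroup G) : Set G)) (hO : Cfsg.pCore 2 G = ⊥) (S : Sylow 2 G) (M : Subgroup G) (hM : Cfsg.IsTwoLocal M)
    (hMJ : Subgroup.normalizer (Cfsg.thompsonSubgroupOf 2 (S : Subgroup G) : Set G) ≤ M) :
    Cfsg.IsStronglyEmbedded M ↔ Cfsg.straddlingTwoSubgroups M = ∅ := by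
  rw [← spe_two_iff, Set.eq_empty_iff_forall_notMem]
  constructor
  · rintro h T ⟨h1, h2, h3, _, ⟨R, a, b, rfl⟩, c, d⟩
    have := h.le_of_isPGroup (isPGroup_sup c h1 a) le_top fun e => h2 (le_bot_iff.1
      (e ▸ le_inf le_sup_left h3))
    exact d (h.le_of_le_normalizer (le_sup_right.trans this) (dvd_card_of_isPGroup a b) le_top le_rfl)
  · intro h
    obtain ⟨T, a, b, e⟩ := hM
    refine spe_of_normalizers le_top (fun e' => b (le_bot_iff.1 ?_)) (sylIn_top S)
      (fun e' => (sylIn_top S).eq_bot_iff.1 e' ((dvd_card_of_isPGroup a b).trans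
      (card_dvd_of_le le_top))) fun Q c d => inf_le_right.trans ?_
    · rw [← hO, ← Op_top]; exact le_Op le_top (e ▸ e'.ge) a
    · by_contra hn
      exact h Q ⟨S.isPGroup'.to_le c, d, c.trans (le_normalizer.trans
        ((Transfer.normalizer_le_normalizer_J _).trans hMJ)), _, ⟨Q, S.isPGroup'.to_le c, d, rfl⟩,
        le_normalizer, hn⟩

end Cfsg.Agent.S2947
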