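import Cfsg.Statements.S2962
import Cfsg.Agent.Lib.Transfer.ZStar
import Cfsg.Agent.Lib.FT.Final
import Cfsg.Agent.Lib.Solv.Cores

set_option autoImplicit false
open Cfsg

namespace Cfsg.Agent.S2962

open Subgroup Cfsg.Agent.Transfer Cfsg.Agent.Blk
open scoped commutatorElement

theorem comm_aux {G : Type*} [Group G] {x y a b : G} (h1 : Commute a x) (h2 : Commute a y) (h3 : Commute b x)
    (h4 : Commute b y) (h5 : Commute a b) : ⁅x * a, y * b⁆ = ⁅x, y⁆ := by
  have e1 : x * a * (y * b) = x * y * (a * b) := by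
    rw [mul_assoc x a, ← mul_assoc a y, h2.eq]; group
  have e2 : y * b * (x * a) = y * x * (a * b) := by
    rw [mul_assoc y b, ← mul_assoc b x, h3.eq, h5.eq]; group
  calc ⁅x * a, y * b⁆ = (x * a * (y * b)) * (y * b * (x * a))⁻¹ := by rw [commutatorElement_def]; group
    _ = _ := by rw [e1, e2, commutatorElement_def]; group

theorem isol {G : Type*} [Group G] (N Q : Subgroup G) [hN : N.Normal] (hG : Q ⊔ N = ⊤) (t : G)
    (htZ : t ∈ Q ⊓ Subgroup.centralizer (Q : Set G)) (htQ : t ∈ ⁅Q, Q⁆)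
    (hC : ∀ u ∈ N, Commute t u → ∀ x ∈ Q, Commute x u) : IsIsolated t := by
  have hZ : ∀ x ∈ Q, Commute x t := fun x hx => htZ.2 x hx
  have k1 : ∀ n ∈ N, Commute t (n * t * n⁻¹) → ∀ x ∈ Q, Commute x (n * t * n⁻¹) := by
    intro n hn h x hx
    have h1 : t⁻¹ * (n * t * n⁻¹) ∈ N := by
      have : t⁻¹ * (n * t * n⁻¹) = (t⁻¹ * n * t⁻¹⁻¹) * n⁻¹ := by group
      rw [this]; exact N.mul_mem (hN.conj_mem _ hn _) (N.inv_mem hn)
    have := (hZ x hx).mul_right (hC _ h1 ((Commute.refl t).inv_right.mul_right h) x hx)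
    rwa [mul_inv_cancel_left] at this
  have cj : ∀ n a b : G, Commute a b → Commute (n * a * n⁻¹) (n * b * n⁻¹) := fun n a b h =>
    h.map (MulAut.conj n)
  have k2 : ∀ n ∈ N, Commute t (n * t * n⁻¹) → n * t * n⁻¹ = t := by
    intro n hn h
    have a1 := k1 n hn h
    have a2 : ∀ x ∈ Q, Commute (n * x * n⁻¹) t := fun x hx => by
      have := cj n _ _ (k1 n⁻¹ (N.inv_mem hn) (by simpa [mul_assoc] using (cj n⁻¹ _ _ h).symm) x hx)
      simpa [mul_assoc] using this
    have hφ : ∀ x ∈ Q, x⁻¹ * (n * x * n⁻¹) ∈ N := fun x hx => by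
      have : x⁻¹ * (n * x * n⁻¹) = (x⁻¹ * n * x⁻¹⁻¹) * n⁻¹ := by group
      rw [this]; exact N.mul_mem (hN.conj_mem _ hn _) (N.inv_mem hn)
    have a3 : ∀ x ∈ Q, ∀ y ∈ Q, Commute y (x⁻¹ * (n * x * n⁻¹)) := fun x hx =>
      hC _ (hφ x hx) ((hZ x hx).symm.inv_right.mul_right (a2 x hx).symm)
    have a4 : ∀ x ∈ Q, ∀ y ∈ Q, Commute (n * y * n⁻¹) (x⁻¹ * (n * x * n⁻¹)) := fun x hx y hy => by
      have b1 : Commute (n * t * n⁻¹) (x⁻¹ * (n * x * n⁻¹)) :=
        (a1 x hx).symm.inv_right.mul_right (cj n _ _ (hZ x hx).symm)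
      have b2 := hC (n⁻¹ * (x⁻¹ * (n * x * n⁻¹)) * n⁻¹⁻¹) (hN.conj_mem _ (hφ x hx) _)
        (by simpa [mul_assoc] using cj n⁻¹ _ _ b1) y hy
      simpa [mul_assoc] using cj n _ _ b2
    have : ⁅Q, Q⁆ ≤ centralizer {n} := by
      rw [commutator_le]
      intro x hx y hy
      rw [mem_centralizer_singleton_iff]
      have e := comm_aux (a3 x hx x hx).symm (a3 x hx y hy).symm (a3 y hy x hx).symm (a3 y hy y hy).symm
        ((a3 x hx y hy).inv_left.mul_left (a4 x hx y hy)).symm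
      rw [mul_inv_cancel_left, mul_inv_cancel_left] at e
      calc ⁅x, y⁆ * n = ⁅n * x * n⁻¹, n * y * n⁻¹⁆ * n := by rw [e]
        _ = _ := by rw [commutatorElement_def, commutatorElement_def]; group
    have := mem_centralizer_singleton_iff.1 (this htQ)
    rw [← this]; group
  intro g hg
  have hg' : g ∈ N ⊔ Q := by rw [sup_comm, hG]; trivial
  obtain ⟨n, hn, q, hq, rfl⟩ := mem_sup_of_normal_left.1 hg'
  have e : n * q * t * (n * q)⁻¹ = n * t * n⁻¹ := by
    rw [mul_assoc n q, (hZ q hq).eq]; group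
  rw [e] at hg ⊢
  exact k2 n hn hg

/-- Let G be a finite group with G = QN, where N is a normal subgroup of G and Q is a non-abelian 2-subgroup with Q ∩ N = 1. Suppose that some nontrivial element t of Z(Q) ∩ [Q, Q] satisfies C_N(Q) = C_N(t). Then [N, Q] is solvable of odd order. -/
theorem result {G : Type*} [Group G] [Finite G] (N Q : Subgroup G) [N.Normal] (hG : Q ⊔ N = ⊤) (hQ : IsPGroup 2 ↥Q) (hQna : ¬ IsMulCommutative ↥Q) (hdisj : Q ⊓ N = ⊥) (t : G) (ht1 : t ≠ 1) (htZ : t ∈ Q ⊓ Subgroup.centralizer (Q : Set G)) (htQ : t ∈ ⁅Q, Q⁆) (hC : N ⊓ Subgroup.centralizer (Q : Set G) = N ⊓ Subgroup.centralizer ({t} : Set G)) : Group.IsSolvable ↥⁅N, Q⁆ ∧ Odd (Nat.card ↥⁅N, Q⁆) := by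
  have hC' : ∀ u ∈ N, Commute t u → ∀ x ∈ Q, Commute x u := fun u hu h x hx => by
    have : u ∈ N ⊓ Subgroup.centralizer (Q : Set G) := by
      rw [hC]; exact ⟨hu, mem_centralizer_singleton_iff.2 h.symm.eq⟩
    exact this.2 x hx
  have hi := isol N Q hG t htZ htQ hC'
  have hp : IsPGroup 2 (zpowers t) := hQ.to_le (zpowers_le.2 htZ.1)
  have hz := zstar_elt hi hp
  set O := pPrimeCore 2 G
  have hOc : (Nat.card O).Coprime 2 := Solv.coprime_card_pPrimeCore 2
  have hON : O ≤ N := by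
    have h1 : IsPGroup 2 (G ⧸ N) := by
      refine (hQ.map (QuotientGroup.mk' N)).of_surjective (Subgroup.subtype _) fun y => ?_
      have : y ∈ (Q ⊔ N).map (QuotientGroup.mk' N) := by
        rw [hG]; obtain ⟨g, rfl⟩ := QuotientGroup.mk'_surjective N y; exact ⟨g, trivial, rfl⟩
      rw [Subgroup.map_sup, (QuotientGroup.map_mk'_self N), sup_bot_eq] at this
      exact ⟨⟨y, this⟩, rfl⟩
    intro o ho
    obtain ⟨k, hk⟩ := h1 (o : G ⧸ N)
    have h2 : (o : G ⧸ N) ^ Nat.card O = 1 := by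
      have : (⟨o, ho⟩ : O) ^ Nat.card O = 1 := pow_card_eq_one'
      have h3 : o ^ Nat.card O = 1 := congrArg Subtype.val this
      rw [← QuotientGroup.mk_pow, h3]; rfl
    rw [← QuotientGroup.eq_one_iff]
    exact (pow_eq_one_iff_of_coprime (hOc.pow_right k)).1 ⟨h2, hk⟩
  have hle : ⁅N, Q⁆ ≤ O := by
    rw [commutator_le]
    intro g hg x hx
    have hn : (O ⊔ zpowers t).Normal := by
      refine ⟨fun m hm g => ?_⟩
      have : O ⊔ zpowers t ≤ (O ⊔ zpowers t).comap (MulAut.conj g).toMonoidHom := by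
        refine sup_le (fun o ho => mem_sup_left ((inferInstance : O.Normal).conj_mem o ho g)) (zpowers_le.2 ?_)
        have := mul_mem_sup (hz g) (mem_zpowers t)
        simpa using this
      exact this hm
    obtain ⟨m, hm, c, hc, rfl⟩ := isol_frattini hi hp (N := O ⊔ zpowers t) (mem_sup_right (mem_zpowers t)) (g := g)
      (by rw [normalizer_eq_top]; trivial)
    obtain ⟨o, ho, w, ⟨k, rfl⟩, rfl⟩ := mem_sup_of_normal_left.1 hm
    have h1 : t ^ k * c ∈ N := by
      have := N.mul_mem (N.inv_mem (hON ho)) hg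
      simpa [mul_assoc] using this
    have h2 : Commute t c := (mem_Ce1.1 hc).symm
    have h3 := hC' _ h1 (((Commute.refl t).zpow_right k).mul_right h2) x hx
    have : ⁅o * t ^ k * c, x⁆ = o * (x * o⁻¹ * x⁻¹) := by
      rw [commutatorElement_def, mul_assoc o, mul_assoc o, ← h3.eq]; group
    rw [this]
    exact O.mul_mem ho ((inferInstance : O.Normal).conj_mem _ (O.inv_mem ho) x)
  have hodd : Odd (Nat.card ↥⁅N, Q⁆) :=
    Nat.coprime_two_right.1 (hOc.coprime_dvd_left (card_dvd_of_le hle))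
  exact ⟨PF.odd_solvable hodd, hodd⟩

end Cfsg.Agent.S2962
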