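import Cfsg.Statements.S2963
import Cfsg.Agent.Lib.Block.Syl1

set_option autoImplicit false
open Cfsg

namespace Cfsg.Agent.S2963

open Cfsg.Agent.Blk
open Cfsg.Agent.Char hiding cj cj_mul cj_inv_cj cj_cj_inv
open Subgroup MulAction Pointwise
theorem odd_choose : ∀ a n : ℕ, 2 ^ a ≤ n → n < 2 ^ (a + 1) → ¬ 2 ∣ n.choose (2 ^ a) := by
  haveI : Fact (Nat.Prime 2) := ⟨Nat.prime_two⟩
  intro a
  induction a with
  | zero => intro n h1 h2; have : n = 1 := by omega
            subst this; decide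
  | succ a ih =>
    intro n h1 h2 h
    have h3 := Choose.choose_modEq_choose_mod_mul_choose_div_nat (p := 2) (n := n) (k := 2 ^ (a + 1))
    rw [show 2 ^ (a + 1) % 2 = 0 by rw [pow_succ]; omega, show 2 ^ (a + 1) / 2 = 2 ^ a by rw [pow_succ]; omega,
      Nat.choose_zero_right, one_mul] at h3
    refine ih (n / 2) ?_ ?_ ((h3.dvd_iff dvd_rfl).1 h)
    · rw [pow_succ] at h1; omega
    · rw [pow_succ] at h2; omega

/-- Let n be odd. If the symmetric group of degree n is a minimal parabolic group for the prime 2, that is, a Sylow 2-subgroup is not normal and lies in exactly one maximal subgroup, then n = 2^m + 1 for some natural number m. -/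
theorem result (n : ℕ) (hn : Odd n) (h : Cfsg.IsPMinimal 2 (Equiv.Perm (Fin n))) : ∃ m : ℕ, n = 2 ^ m + 1 := by
  classical
  haveI : Fact (Nat.Prime 2) := ⟨Nat.prime_two⟩
  obtain ⟨S⟩ := (inferInstance : Nonempty (Sylow 2 (Equiv.Perm (Fin n))))
  obtain ⟨h1, M, -, hu⟩ := h S
  by_contra hne
  push Not at hne
  obtain ⟨j, hj⟩ := hn
  have hn1 : n ≠ 1 := by
    rintro rfl
    exact h1 ⟨fun x hx g => by rw [Subsingleton.elim (g * x * g⁻¹) x]; exact hx⟩
  have ha1 : 2 ^ Nat.log 2 n ≤ n := Nat.pow_log_le_self 2 (by omega)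
  have ha2 : n < 2 ^ (Nat.log 2 n + 1) := Nat.lt_pow_succ_log_self (by norm_num) n
  generalize Nat.log 2 n = a at ha1 ha2
  have ha3 : 2 ≤ 2 ^ a ∧ 2 ^ a + 2 ≤ n := by
    have := hne a
    rcases a with _ | a
    · omega
    · rw [pow_succ] at ha1 this ⊢
      have : 0 < 2 ^ a := by positivity
      omega
  have fix : ∀ k, 1 ≤ k → k < n → ¬ 2 ∣ n.choose k → ∃ s : Set (Fin n), s.ncard = k ∧
      stabilizer (Equiv.Perm (Fin n)) s = M := by
    intro k hk1 hk2 hk
    obtain ⟨s, hs⟩ := S.2.nonempty_fixed_point_of_prime_not_dvd_card (Set.powersetCard (Fin n) k)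
      (by rw [Set.powersetCard.card]; simpa using hk)
    have hc : ((s : Finset (Fin n)) : Set (Fin n)).ncard = k := by
      rw [Set.ncard_coe_finset]; exact s.2
    refine ⟨((s : Finset (Fin n)) : Set (Fin n)), hc, hu _ ⟨?_, fun g hg => ?_⟩⟩
    · have := Set.ncard_add_ncard_compl ((s : Finset (Fin n)) : Set (Fin n))
      simp only [Nat.card_eq_fintype_card, Fintype.card_fin] at this
      rw [hc] at this
      refine Equiv.Perm.isCoatom_stabilizer (Set.nonempty_of_ncard_ne_zero (by rw [hc]; omega))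
        (Set.nonempty_of_ncard_ne_zero (fun h0 => by rw [h0] at this; omega)) ?_
      rw [hc, Nat.card_eq_fintype_card, Fintype.card_fin]
      omega
    · have h5 : g • s = s := hs ⟨g, hg⟩
      have h6 := congrArg (fun t : Set.powersetCard (Fin n) k => ((t : Finset (Fin n)) : Set (Fin n))) h5
      rw [mem_stabilizer_iff]
      simpa using h6
  obtain ⟨s1, c1, e1⟩ := fix 1 le_rfl (by omega) (by rw [Nat.choose_one_right]; omega)
  obtain ⟨s2, c2, e2⟩ := fix (2 ^ a) (by omega) (by omega) (odd_choose a n ha1 ha2)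
  obtain ⟨x, rfl⟩ := Set.ncard_eq_one.1 c1
  have c3 := Set.ncard_add_ncard_compl s2
  simp only [Nat.card_eq_fintype_card, Fintype.card_fin] at c3
  obtain ⟨y, hy, hyx⟩ := Set.exists_ne_of_one_lt_ncard (s := s2) (by omega) x
  obtain ⟨z, hz, hzx⟩ := Set.exists_ne_of_one_lt_ncard (s := s2ᶜ) (by omega) x
  have h2 : Equiv.swap y z ∈ stabilizer (Equiv.Perm (Fin n)) ({x} : Set (Fin n)) := by
    rw [stabilizer_singleton, mem_stabilizer_iff]
    exact Equiv.swap_apply_of_ne_of_ne hyx.symm hzx.symm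
  rw [e1, ← e2, mem_stabilizer_iff] at h2
  apply hz
  rw [← h2]
  exact ⟨y, hy, by simp⟩

end Cfsg.Agent.S2963
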