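import Cfsg.Statements.S2968
import Cfsg.Agent.Lib.Transfer.Wr3

set_option autoImplicit false
open Cfsg

namespace Cfsg.Agent.S2968

set_option linter.unusedSectionVars false
set_option linter.unusedVariables false
set_option linter.style.haveILetI false
set_option linter.unusedSimpArgs false

open Subgroup Transfer MS

/-- Let G be a finite group, p a prime, P a Sylow p-subgroup of G and x ∈ P an element of p-power order which is isolated in G (the only conjugate of x commuting with x is x itself). Then x lies in the centre of P, and the subgroup generated by x is both strongly closed and weakly closed in P with respect to G. -/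
theorem result {G : Type*} [Group G] [Finite G] {p : ℕ} [Fact p.Prime] (P : Sylow p G) (x : G) (hxP : x ∈ (P : Subgroup G)) (hx : ∃ k : ℕ, orderOf x = p ^ k) (hiso : Cfsg.IsIsolated x) : x ∈ (P : Subgroup G) ⊓ Subgroup.centralizer ((P : Subgroup G) : Set G) ∧ Cfsg.IsStronglyClosed (Subgroup.zpowers x) (P : Subgroup G) ∧ Cfsg.IsWeaklyClosed (Subgroup.zpowers x) (P : Subgroup G) := by
  have h := P.isPGroup'.to_le (zpowers_le.2 hxP)
  have h1 : ∀ u ∈ zpowers x, ∀ g, g * u * g⁻¹ ∈ (P : Subgroup G) → g * u * g⁻¹ = u := fun u hu g hg => by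
    obtain ⟨k, rfl⟩ := exists_pow_eq hu
    exact isol_eq_of_mem (isol_pow hiso h k) P.isPGroup' (pow_mem hxP k) hg
  exact ⟨⟨hxP, le_C1_iff.1 (isol_le_Ce1 hiso P.isPGroup' hxP)⟩, ⟨zpowers_le.2 hxP, fun u hu g hg => (h1 u hu g hg).symm ▸ hu⟩,
    wc_of_fixed (zpowers_le.2 hxP) h1⟩

end Cfsg.Agent.S2968
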