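import Cfsg.Statements.S2969
import Cfsg.Agent.Lib.Transfer.Tet

set_option autoImplicit false
open Cfsg

namespace Cfsg.Agent.S2969

set_option linter.unusedSectionVars false
set_option linter.unusedVariables false
set_option linter.style.haveILetI false
set_option linter.unusedSimpArgs false

open Subgroup Transfer MS

/-- Let G be a finite group, p a prime and x ∈ G an element of p-power order which is isolated in G. If R is a p-subgroup of G containing x, then N_G(R) ≤ C_G(x); in particular x lies in the centre of R. Moreover, if x lies in a normal subgroup N of a subgroup H of G, then H = N·C_H(x). -/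
theorem result {G : Type*} [Group G] [Finite G] {p : ℕ} [Fact p.Prime] (x : G) (hx : ∃ k : ℕ, orderOf x = p ^ k) (hiso : Cfsg.IsIsolated x) : (∀ R : Subgroup G, IsPGroup p ↥R → x ∈ R → Subgroup.normalizer (R : Set G) ≤ Subgroup.centralizer ({x} : Set G)) ∧ (∀ H N : Subgroup G, N ≤ H → H ≤ Subgroup.normalizer (N : Set G) → x ∈ N → N ⊔ (H ⊓ Subgroup.centralizer ({x} : Set G)) = H) := by
  obtain ⟨k, hk⟩ := hx
  have h : IsPGroup p (zpowers x) := IsPGroup.of_card ((Nat.card_zpowers x).trans hk)
  refine ⟨fun R hR hxR => isol_normalizer_le hiso hR hxR, fun H N h1 h2 h3 => le_antisymm (sup_le h1 inf_le_left)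
    fun g hg => ?_⟩
  obtain ⟨n, hn, c, hc, rfl⟩ := isol_frattini hiso h h3 (h2 hg)
  exact mul_mem (mem_sup_left hn) (mem_sup_right ⟨(Subgroup.mul_mem_cancel_left _ (h1 hn)).1 hg, hc⟩)

end Cfsg.Agent.S2969
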