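import Cfsg.Statements.S2970
import Cfsg.Agent.Lib.Transfer.Tet

set_option autoImplicit false
open Cfsg

namespace Cfsg.Agent.S2970

set_option linter.unusedSectionVars false
set_option linter.unusedVariables false
set_option linter.style.haveILetI false
set_option linter.unusedSimpArgs false

open Subgroup Transfer MS

/-- Let G be a finite group, p a prime and x ∈ G an element of p-power order which is isolated in G. Then the image of x in any quotient G ⧸ N is isolated in G ⧸ N; and if x ≠ 1 and the Sylow p-subgroups of G are cyclic, then G has a normal p-complement. -/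
theorem result {G : Type*} [Group G] [Finite G] {p : ℕ} [Fact p.Prime] (x : G) (hx : ∃ k : ℕ, orderOf x = p ^ k) (hiso : Cfsg.IsIsolated x) : (∀ (N : Subgroup G) [N.Normal], Cfsg.IsIsolated (QuotientGroup.mk x : G ⧸ N)) ∧ (x ≠ 1 → (∀ P : Sylow p G, IsCyclic ↥(P : Subgroup G)) → Cfsg.HasNormalPComplement p G) := by
  obtain ⟨k, hk⟩ := hx
  have h : IsPGroup p (zpowers x) := IsPGroup.of_card ((Nat.card_zpowers x).trans hk)
  refine ⟨fun N _ => isol_map (QuotientGroup.mk'_surjective N) hiso h, fun h1 h2 => ?_⟩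
  obtain ⟨P, hP⟩ := h.exists_le_sylow
  refine hasNPC_of_abelian_sylow P (ab_of_cyc (h2 P)) (res_le_iff.2 fun g hg ho => ?_)
  refine zpowers_le.1 (cop_cyc P.isPGroup' (h2 P) (zpowers_le.2 hg) (pi_compl_iff_coprime.2 (by rwa [Nat.card_zpowers]))
    (ne_bot_of_mem ⟨hP (mem_zpowers x), ?_⟩ h1))
  rw [cc_zpowers]; exact mem_C1_comm.1 (isol_normalizer_le hiso P.isPGroup' (hP (mem_zpowers x)) hg)

end Cfsg.Agent.S2970
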