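import Cfsg.Statements.S2971
import Cfsg.Agent.Lib.Transfer.Ext
import Cfsg.Agent.Lib.Transfer.ZStar

set_option autoImplicit false
open Cfsg

namespace Cfsg.Agent.S2971

set_option linter.unusedSectionVars false
set_option linter.unusedVariables false
set_option linter.style.haveILetI false
set_option linter.unusedSimpArgs false

open Subgroup Transfer MS

/-- Let G be a finite group and p an odd prime such that G has p-rank at most 1 (no elementary abelian subgroup of order p²). If x ∈ G is an isolated element of order p, then x is central modulo the largest normal subgroup of G of order prime to p. -/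
theorem result {G : Type*} [Group G] [Finite G] {p : ℕ} [Fact p.Prime] (hp : p ≠ 2) (hrk : Cfsg.PRankLE p 1 G) (x : G) (hx : orderOf x = p) (hiso : Cfsg.IsIsolated x) : Cfsg.InZStar p x := by
  have hx' : IsPGroup p (zpowers x) := isPGroup_zpowers_of_orderOf (k := 1) (by rwa [pow_one])
  obtain ⟨P, hP⟩ := hx'.exists_le_sylow
  have hc : IsCyclic P := cyc_of_not_rk2 hp P.2 fun h => prankLE_top.1 hrk (h.mono le_top)
  have x1 : x ≠ 1 := by rintro rfl; exact (Fact.out : p.Prime).one_lt.ne (by simpa using hx)
  have h : HasNormalPComplement p G := hasNPC_of_abelian_sylow P (ab_of_cyc hc) (res_le_iff.2 fun g hg ho =>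
    cop_cyc P.2 hc (zpowers_le.2 hg) (pi_compl_iff_coprime.2 (by rwa [Nat.card_zpowers]))
      (ne_bot_of_mem ⟨hP (mem_zpowers x), by
        rw [cc_zpowers]; exact mem_C1_comm.1 (isol_normalizer_le hiso P.2 (hP (mem_zpowers x)) hg)⟩ x1)
      (mem_zpowers g))
  have h2 := npc_not_dvd_der (npc_iff.2 (hasNPC_top.2 h)) (isSyl_top P) (ab_of_cyc hc)
  intro g
  exact Solv.le_pPrimeCore (N := ⁅⊤, ⊤⁆) (pi_compl_iff_coprime.1 (pi_compl_iff.2 h2))
    (commutator_mem_commutator (mem_top g) (mem_top x))

end Cfsg.Agent.S2971
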