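import Cfsg.Statements.S2975
import Cfsg.Agent.Lib.BG.Isol

set_option autoImplicit false
open Cfsg

namespace Cfsg.Agent.S2975

/-- Let G be a finite group, p a prime and x ∈ G an isolated element of order p (the only conjugate of x commuting with x is x) which is not central modulo the largest normal subgroup of order prime to p, while x is central modulo the largest normal subgroup of order prime to p in every proper subgroup containing x, and the image of x is so in every quotient of G by a nontrivial normal subgroup (a minimal counterexample to the Z*_p statement). Then for every prime q, every q-subgroup of G that is normalized by x and maximal among the q-subgroups normalized by x is either trivial or a Sylow q-subgroup of G; and C_G(x) permutes the x-invariant Sylow q-subgroups of G transitively by conjugation. -/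
theorem result {G : Type*} [Group G] [Finite G] {p : ℕ} [Fact p.Prime] (x : G) (hx : orderOf x = p) (hiso : Cfsg.IsIsolated x) (hnz : ¬ Cfsg.InZStar p x) (hmin : ∀ (H : Subgroup G) (hxH : x ∈ H), H ≠ ⊤ → Cfsg.InZStar p (⟨x, hxH⟩ : ↥H)) (hquot : ∀ (N : Subgroup G) [N.Normal], N ≠ ⊥ → Cfsg.InZStar p (QuotientGroup.mk x : G ⧸ N)) (q : ℕ) [Fact q.Prime] : (∀ Q : Subgroup G, IsPGroup q ↥Q → x ∈ Subgroup.normalizer (Q : Set G) → (∀ R : Subgroup G, IsPGroup q ↥R → x ∈ Subgroup.normalizer (R : Set G) → Q ≤ R → R = Q) → Q = ⊥ ∨ ∃ S : Sylow q G, (S : Subgroup G) = Q) ∧ (∀ S₁ S₂ : Sylow q G, x ∈ Subgroup.normalizer ((S₁ : Subgroup G) : Set G) → x ∈ Subgroup.normalizer ((S₂ : Subgroup G) : Set G) → ∃ c ∈ Subgroup.centralizer ({x} : Set G), (S₁ : Subgroup G).map (MulAut.conj c).toMonoidHom = (S₂ : Subgroup G)) := by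
  open Pointwise commutatorElement Subgroup in
  open Cfsg.Agent.Comp Cfsg.Agent.BG Subgroup commutatorElement in
  have hF := (Isol.core hx hiso hnz hmin hquot).1
  have hxp := isPGroup_zpowers_of_orderOf_eq hx
  constructor
  · intro Q hQ hxQ hmax
    by_cases hQ1 : Q = ⊥
    · exact Or.inl hQ1
    right
    suffices h : SylIn q Q ⊤ from ⟨h.toSylowTop, rfl⟩
    by_cases hq : q = p
    · subst hq
      obtain ⟨P, h1, hP⟩ := exists_sylIn_ge (isPGroup_sup' (zpowers_le.2 hxQ) hQ hxp)
        (le_top : Q ⊔ zpowers x ≤ ⊤)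
      rwa [← hmax P hP.isP (le_normalizer (h1 (mem_sup_right (mem_zpowers x)))) (le_sup_left.trans h1)]
    have hN : Nm(Q) ≠ ⊤ := by
      intro h
      exact hQ1 (le_bot_iff.1 (hF ▸ le_Fit le_top h.ge hQ.isNilpotent))
    refine SylIn.of_normalizer le_top ?_
    rw [top_inf_eq]
    have hxK : zpowers x ≤ Nm(Opp p Nm(Q)) := le_normalizer_Opp_of_le (zpowers_le.2 hxQ)
    have hcop : (Nat.card (zpowers x)).Coprime (Nat.card (Opp p Nm(Q))) :=
      coprime_of_isPGroup hxp (coprime_Opp p _)
    have hs : Group.IsSolvable (zpowers x) := isSolvable_of_isPGroup hxp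
    have hsup := Solv.coprime_sup_centralizer_of_commutator_le (Opp_le p Nm(Q)) (le_normalizer_Opp_of_le le_rfl) hxK hcop
      (Or.inl hs) (by
        rw [Subgroup.commutator_comm]
        refine commutator_zpowers_left_le (hxK (mem_zpowers x)) fun c hc => ?_
        rw [← inv_mem_iff, commutatorElement_inv]
        exact Isol.zs_sub (hmin _ hxQ hN) hc)
    have hQK : Q ≤ Opp p Nm(Q) := le_Opp le_normalizer le_rfl (coprime_of_isPGroup_of_ne hq hQ)
    obtain ⟨R, hR, hQR, hxR⟩ := exists_invariant_sylIn_ge hxK hcop (Or.inl hs) hQK hQ (zpowers_le.2 hxQ)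
    rw [hmax R hR.isP (hxR (mem_zpowers x)) hQR] at hR
    obtain ⟨U, hU⟩ := exists_sylIn q (Nm(Q) ⊓ Ct(zpowers x))
    have hUQ : U ≤ Q := by
      have h1 := hmax (Q ⊔ U) (isPGroup_sup' (hU.le.trans inf_le_left) hQ hU.isP) ?_ le_sup_left
      · exact le_sup_right.trans h1.le
      · have h2 : x ∈ Nm(U) := centralizer_le_normalizer _
          (le_centralizer_iff.1 (hU.le.trans inf_le_right) (mem_zpowers x))
        rw [← cj_eq_self_iff, cj_sup, cj_eq_self_iff.2 hxQ, cj_eq_self_iff.2 h2]
    refine sylIn_of_not_dvd le_normalizer hQ ?_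
    rw [← relIndex_mul_relIndex _ _ _ hQK (Opp_le p _), (Fact.out : q.Prime).dvd_mul, not_or]
    refine ⟨hR.not_dvd_relIndex, ?_⟩
    intro h
    have h2 := Comp.relIndex_sup_of_le_normalizer (H := Nm(Q) ⊓ Ct(zpowers x)) (N := Opp p Nm(Q))
      (le_normalizer_Opp_of_le inf_le_left)
    rw [sup_comm, hsup] at h2
    rw [h2] at h
    exact hU.not_dvd_relIndex (h.trans (relIndex_dvd_of_le_left _ (hUQ.trans hQK)))
  · intro S₁ S₂ h1 h2
    by_cases hb : (S₂ : Subgroup G) = ⊥
    · refine ⟨1, one_mem _, ?_⟩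
      have : (S₁ : Subgroup G) = ⊥ := by
        rw [← card_eq_one, (sylIn_top S₁).card_eq_card (sylIn_top S₂), hb, card_bot]
      rw [this, hb, Subgroup.map_bot]
    obtain ⟨g, -, hg⟩ := (sylIn_top S₁).exists_cj_eq (sylIn_top S₂)
    have h3 : g * x * g⁻¹ ∈ Nm((S₂ : Subgroup G)) := by
      rw [← hg, ← cj_normalizer, mem_cj]
      simpa [mul_assoc] using h1
    obtain ⟨P, h4, hP⟩ := exists_sylIn_ge hxp (zpowers_le.2 h2)
    obtain ⟨n, hn, h5⟩ := hP.exists_cj_le (isPGroup_zpowers_of_orderOf_eq (x := g * x * g⁻¹)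
      (by rw [← hx]; exact (MulAut.conj g).orderOf_eq x)) (zpowers_le.2 h3)
    have h6 : n * g * x * (n * g)⁻¹ ∈ P := by
      have := cj_le_iff'.1 h5 _ (mem_zpowers _)
      simpa [mul_assoc] using this
    have h7 := Transfer.isol_eq_of_mem hiso hP.isP (h4 (mem_zpowers x)) h6
    refine ⟨n * g, mem_centralizer_singleton_iff.2 (mul_inv_eq_iff_eq_mul.1 h7), ?_⟩
    rw [cj_mul, hg, cj_eq_self_iff.2 hn]

end Cfsg.Agent.S2975
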