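import Cfsg.Statements.S2998
import Cfsg.Agent.Lib.Transfer.Tet
import Cfsg.Agent.Lib.MS.Pre1

set_option autoImplicit false
open Cfsg

namespace Cfsg.Agent.S2998

set_option linter.unusedSectionVars false
set_option linter.unusedVariables false
set_option linter.style.haveILetI false
set_option linter.unusedSimpArgs false

open Subgroup Transfer MS

/-- Let G be a finite group, p a prime, P a Sylow p-subgroup of G and x ∈ P an element such that N_G(R) ≤ C_G(x) for every nontrivial subgroup R of P. Then P ≤ C_G(x); every G-conjugate of x lying in P equals x (so g ∈ C_G(x) whenever g x g⁻¹ ∈ P); and for every normal subgroup N of G, the image of x in G ⧸ N has the same property with respect to the image of P: the normalizer of every nontrivial subgroup of the image of P centralizes the image of x. -/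
theorem result {G : Type*} [Group G] [Finite G] {p : ℕ} [Fact p.Prime] (P : Sylow p G) (x : G) (hxP : x ∈ (P : Subgroup G)) (hlc : ∀ R : Subgroup G, R ≤ (P : Subgroup G) → R ≠ ⊥ → Subgroup.normalizer (R : Set G) ≤ Subgroup.centralizer ({x} : Set G)) : (P : Subgroup G) ≤ Subgroup.centralizer ({x} : Set G) ∧ (∀ g : G, g * x * g⁻¹ ∈ (P : Subgroup G) → g * x * g⁻¹ = x) ∧ ∀ (N : Subgroup G) [N.Normal], ∀ R : Subgroup (G ⧸ N), R ≤ (P : Subgroup G).map (QuotientGroup.mk' N) → R ≠ ⊥ → Subgroup.normalizer (R : Set (G ⧸ N)) ≤ Subgroup.centralizer ({(QuotientGroup.mk x : G ⧸ N)} : Set (G ⧸ N)) := by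
  by_cases h0 : (P : Subgroup G) = ⊥
  · obtain rfl : x = 1 := mem_bot.1 (h0.le hxP)
    refine ⟨by rw [C1_one]; exact le_top, fun g _ => by group, fun N _ R _ _ => ?_⟩
    rw [QuotientGroup.mk_one, C1_one]; exact le_top
  have h1 : (P : Subgroup G) ≤ C1 x := (le_nn _).trans (hlc _ le_rfl h0)
  refine ⟨h1, fun g hg => ?_, fun N _ R hR R0 => ?_⟩
  · by_cases x1 : x = 1
    · rw [x1]; group
    have h2 : C1 (g * x * g⁻¹) ≤ C1 x := by
      rw [← cc_zpowers]
      exact (cc_le_nn _).trans (hlc _ (zpowers_le.2 hg) (by simpa using x1))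
    have h3 : C1 x = C1 (g * x * g⁻¹) :=
      (eq_of_card_le h2 (by rw [← cj_centralizer_singleton, card_cj])).symm
    obtain ⟨n, hn, e⟩ := burnside_fus (isSyl_top P) (le_C1_iff.1 h1) (mem_top g) (le_C1_iff.1 (h1.trans h3.le))
    rw [← e]; exact conj_eq_of_C1 (hlc _ le_rfl h0 hn.2)
  · intro g hg
    obtain ⟨g, rfl⟩ := QuotientGroup.mk'_surjective N g
    set K := R.comap (QuotientGroup.mk' N) with hK
    have k1 : N ≤ K := fun n hn => by
      rw [mem_comap, show QuotientGroup.mk' N n = 1 from (QuotientGroup.eq_one_iff n).2 hn]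
      exact R.one_mem
    have k2 : K ≤ N ⊔ P := by
      refine (comap_mono hR).trans ?_
      rw [comap_map_eq, QuotientGroup.ker_mk', sup_comm]
    have k3 : N ⊔ (P ⊓ K) = K := by rw [← dedekind k1 nn_normal, inf_eq_right.2 k2]
    have s1 : IsSyl p ((P : Subgroup G) ⊓ K) K := by
      refine ⟨inf_le_right, P.2.to_le inf_le_left, fun h => (isSyl_inf_normal P N).not_dvd ?_⟩
      have e1 := card_sup_mul_card_inf (nn_normal : (P : Subgroup G) ⊓ K ≤ NN N)
      rw [sup_comm, k3, inf_right_comm, inf_eq_left.2 (inf_le_right.trans k1),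
        ← card_mul_relIndex (inf_le_right : (P : Subgroup G) ⊓ K ≤ K),
        ← card_mul_relIndex (inf_le_right : (P : Subgroup G) ⊓ N ≤ N), mul_assoc] at e1
      have e2 := Nat.eq_of_mul_eq_mul_left (card_pos' _) e1
      rw [mul_comm] at e2
      rwa [← Nat.eq_of_mul_eq_mul_left (card_pos' _) e2]
    have g1 : g ∈ NN K := mem_normalizer_of_conj_mem fun y hy => by
      rw [mem_comap, map_mul, map_mul, map_inv]; exact conj_mem_of_mem_normalizer hg hy
    have P0 : (P : Subgroup G) ⊓ K ≠ ⊥ := fun h => R0 (by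
      rw [h, sup_bot_eq] at k3
      rw [← map_comap_eq_self_of_surjective (QuotientGroup.mk'_surjective N) R, ← hK, ← k3]
      simp)
    obtain ⟨k, hk, n, hn, rfl⟩ := s1.frattini g1
    obtain ⟨a, ha, b, hb, rfl⟩ := (mem_sup_l nn_normal).1 (k3.ge hk)
    have c1 : b * n ∈ C1 x := mul_mem (h1 hb.1) (hlc _ inf_le_left P0 hn)
    rw [mul_assoc, map_mul, show QuotientGroup.mk' N a = 1 from (QuotientGroup.eq_one_iff a).2 ha, one_mul]
    refine mem_C1.2 ?_
    have := congrArg (QuotientGroup.mk' N) (mem_C1.1 c1)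
    rwa [map_mul, map_mul _ x] at this

end Cfsg.Agent.S2998
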