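import Cfsg.Statements.S3003
import Cfsg.Agent.Lib.Comp.Large

set_option autoImplicit false
open Cfsg

namespace Cfsg.Agent.S3003

open Cfsg.Agent.Comp Subgroup

/-- Let G be a finite group, p a prime and Q a large p-subgroup of G: C_G(Q) ≤ Q and N_G(U) ≤ N_G(Q) for every nontrivial subgroup U of C_G(Q). Let Q ≤ G₁ ≤ G, let R be a subgroup of order prime to p normalized by G₁, and let U ≤ G₁ be a p-subgroup. If U contains a nontrivial element which is G₁-conjugate to an element of Z(Q), then C_R(U) = 1. In particular, if U is elementary abelian of order at least p² and every maximal subgroup of U contains a nontrivial element G₁-conjugate into Z(Q), then R = 1. -/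
theorem result {G : Type*} [Group G] [Finite G] {p : ℕ} [Fact p.Prime] (Q : Subgroup G) (hQp : IsPGroup p ↥Q) (hlarge : Cfsg.IsLarge Q) (G₁ : Subgroup G) (hQG : Q ≤ G₁) (R : Subgroup G) (hR : (Nat.card ↥R).Coprime p) (hGR : G₁ ≤ Subgroup.normalizer (R : Set G)) (U : Subgroup G) (hUG : U ≤ G₁) (hUp : IsPGroup p ↥U) : ((∃ x ∈ U, x ≠ 1 ∧ ∃ g ∈ G₁, g * x * g⁻¹ ∈ Q ⊓ Subgroup.centralizer (Q : Set G)) → R ⊓ Subgroup.centralizer (U : Set G) = ⊥) ∧ (Cfsg.IsElementaryAbelian p U → p ^ 2 ≤ Nat.card ↥U → (∀ U₀ : Subgroup G, U₀ ≤ U → IsCoatom (U₀.subgroupOf U) → ∃ x ∈ U₀, x ≠ 1 ∧ ∃ g ∈ G₁, g * x * g⁻¹ ∈ Q ⊓ Subgroup.centralizer (Q : Set G)) → R = ⊥) := by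
  have k : ∀ V : Subgroup G, (∃ x ∈ V, x ≠ 1 ∧ ∃ g ∈ G₁, g * x * g⁻¹ ∈ Q ⊓ centralizer (Q : Set G)) →
      R ⊓ centralizer (V : Set G) = ⊥ := by
    rintro V ⟨x, a, b, g, c, d⟩
    have d2 := (mem_inf.1 d).2
    have n := IsLarge.centralizer_singleton_le hlarge (fun e => b (by simpa using e)) d2
    have e : R ⊓ centralizer ({g * x * g⁻¹} : Set G) ≤ Q := by
      refine le_trans (commutator_eq_bot_iff'.1 (commutator_eq_bot_of_inf_eq_bot
        (le_normalizer_inf (hQG.trans hGR) (le_normalizer_centralizer_singleton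
        (le_centralizer_singleton_iff.2 d2))) (inf_le_right.trans n) ?_)) hlarge.1
      exact le_bot_iff.1 ((inf_le_inf_left _ inf_le_left).trans (inf_eq_bot_of_isPGroup hQp hR).le)
    have f : cj(g, R ⊓ centralizer (V : Set G)) = ⊥ := le_bot_iff.1 (le_trans ?_
      (inf_eq_bot_of_isPGroup hQp hR).le)
    · exact cj_eq_bot_iff.1 f
    · have : cj(g, R ⊓ centralizer (V : Set G)) ≤ R ⊓ centralizer ({g * x * g⁻¹} : Set G) := by
        rw [← cj_centralizer_singleton, cj_inf, cj_eq_self_iff.2 (hGR c)]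
        exact inf_le_inf_left _ (cj_mono g (centralizer_le_centralizer_singleton a))
      exact le_inf (this.trans e) (this.trans inf_le_left)
  refine ⟨k U, fun a b c => le_bot_iff.1 (le_of_forall_hyperplane a
    (ne_bot_of_pow_le_card (k := 1) b) (hUG.trans hGR) hR fun B d e => (k B (c B d ?_)).le)⟩
  exact Solv.isCoatom_of_index_prime (by rw [← relIndex, e]; exact Fact.out)

end Cfsg.Agent.S3003
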