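import Cfsg.Statements.S3006
import Cfsg.Agent.Lib.Transfer.CD

set_option autoImplicit false
open scoped Pointwise
open Cfsg

namespace Cfsg.Agent.S3006

set_option linter.unusedSectionVars false
set_option linter.unusedVariables false
set_option linter.style.haveILetI false
set_option linter.unusedSimpArgs false

open Subgroup Transfer MS CD

/-- Let P be a finite p-group, Q a centrally large subgroup of P (|Q|·|Z(Q)| maximal among subgroups of P) and A an abelian subgroup of P of largest order. Then QA = AQ is a centrally large subgroup of P, C_{QA}(Q ∩ A) = Z(Q)·A, and the subgroup generated by all centrally large subgroups of P contains C_P(Z(J(P))), where J(P) is generated by the abelian subgroups of largest order. -/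
theorem result {p : ℕ} [Fact p.Prime] (P : Type*) [Group P] [Finite P] (hP : IsPGroup p P) (Q A : Subgroup P) (hQ : Cfsg.IsCentrallyLarge Q) (hA : A ∈ Cfsg.maxAbelianSubgroups P) : ((Q ⊔ A : Subgroup P) : Set P) = (Q : Set P) * (A : Set P) ∧ Cfsg.IsCentrallyLarge (Q ⊔ A) ∧ (Q ⊔ A) ⊓ Subgroup.centralizer ((Q ⊓ A : Subgroup P) : Set P) = (Q ⊓ Subgroup.centralizer (Q : Set P)) ⊔ A ∧ (((Q ⊓ Subgroup.centralizer (Q : Set P)) ⊔ A : Subgroup P) : Set P) = ((Q ⊓ Subgroup.centralizer (Q : Set P)) : Set P) * (A : Set P) ∧ Subgroup.centralizer ((Cfsg.thompsonSubgroupA P ⊓ Subgroup.centralizer (Cfsg.thompsonSubgroupA P : Set P) : Subgroup P) : Set P) ≤ Cfsg.centrallyLargeJoin P := by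
  obtain ⟨h1, h2, h3⟩ := cl_maxAb hQ hA
  have e : Q ⊓ CC Q = CC Q := inf_eq_right.2 (cl_iff.1 hQ).2
  have e' : (Q : Set P) ⊓ (CC Q : Set P) = (CC Q : Set P) := congrArg SetLike.coe e
  refine ⟨coe_sup_of_card h1, h2, ?_, ?_, ?_⟩
  · rw [e]
    refine le_antisymm (fun x hx => ?_) (cc_le_cc hQ hA)
    obtain ⟨a, ha, b, hb, rfl⟩ := mem_of_cc hQ hA hx.1 hx.2
    exact mul_mem (mem_sup_left ha) (mem_sup_right hb)
  · rw [e, e']
    refine Set.Subset.antisymm (fun x hx => ?_) ?_
    · have hx' := cc_le_cc hQ hA hx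
      obtain ⟨a, ha, b, hb, rfl⟩ := mem_of_cc hQ hA hx'.1 hx'.2
      exact ⟨a, ha, b, hb, rfl⟩
    · rintro _ ⟨a, ha, b, hb, rfl⟩
      exact mul_mem (mem_sup_left ha) (mem_sup_right hb)
  · exact (tilde_le cl_join).trans (le_sSup (cl_J cl_join))

end Cfsg.Agent.S3006
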