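import Cfsg.Statements.S3008
import Cfsg.Agent.Lib.Transfer.CD

set_option autoImplicit false
open Cfsg

namespace Cfsg.Agent.S3008

set_option linter.unusedSectionVars false
set_option linter.unusedVariables false
set_option linter.style.haveILetI false
set_option linter.unusedSimpArgs false

open Subgroup Transfer MS CD

/-- Let P be a finite p-group, with J(P) generated by its abelian subgroups of largest order and J̃(P) = C_P(Z(J(P))); call R ≤ P centrally large if |R|·|Z(R)| is as large as possible, and let P_MCL be generated by the minimal centrally large subgroups. Then: for every centrally large Q, Q·J(P) ⊇ J̃(P); some minimal centrally large subgroup of P is normalized by both J(P) and P_MCL; if P = J(P) and d(P)² = |P|·|Z(P)|, where d(P) is the largest order of an abelian subgroup, then every minimal centrally large subgroup of P is abelian; and if every minimal centrally large subgroup is abelian then J̃(P) = J(P). -/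
theorem result {p : ℕ} [Fact p.Prime] (P : Type*) [Group P] [Finite P] (hP : IsPGroup p P) : (∀ Q : Subgroup P, Cfsg.IsCentrallyLarge Q → Subgroup.centralizer ((Cfsg.thompsonSubgroupA P ⊓ Subgroup.centralizer (Cfsg.thompsonSubgroupA P : Set P) : Subgroup P) : Set P) ≤ Q ⊔ Cfsg.thompsonSubgroupA P) ∧ (∃ Q : Subgroup P, Cfsg.IsMinimalCentrallyLarge Q ∧ Cfsg.thompsonSubgroupA P ≤ Subgroup.normalizer (Q : Set P) ∧ Cfsg.minimalCentrallyLargeJoin P ≤ Subgroup.normalizer (Q : Set P)) ∧ (Cfsg.thompsonSubgroupA P = ⊤ → (∀ A ∈ Cfsg.maxAbelianSubgroups P, Nat.card ↥A ^ 2 = Nat.card P * Nat.card ↥(Subgroup.center P)) → ∀ Q : Subgroup P, Cfsg.IsMinimalCentrallyLarge Q → IsMulCommutative ↥Q) ∧ ((∀ Q : Subgroup P, Cfsg.IsMinimalCentrallyLarge Q → IsMulCommutative ↥Q) → Subgroup.centralizer ((Cfsg.thompsonSubgroupA P ⊓ Subgroup.centralizer (Cfsg.thompsonSubgroupA P : Set P) : Subgroup P) : Set P) = Cfsg.thompsonSubgroupA P) := by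
  have hnil := hP.isNilpotent
  refine ⟨fun Q hQ => tilde_le hQ, ?_, fun hJ hd Q hQ => ?_, fun h => ?_⟩
  · obtain ⟨Q, hQ, h⟩ := exists_mcl_nn (G := P)
    refine ⟨Q, hQ, sSup_le fun B hB => h B hB.1 fun x hx => ?_, sSup_le fun R hR => ?_⟩
    · have hx' := cc_le_cc hQ.1 hB hx
      exact mem_of_cc hQ.1 hB hx'.1 hx'.2
    · rw [← mcl_eq hR hQ.1]
      exact sup_le (nn_of_le inf_le_right) (h _ (ab_cc_cl hR.1) fun x hx =>
        large_mem (large_cc (cl_iff.1 hQ.1).1).1 (large_cc (cl_iff.1 hR.1).1).1 hx)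
  · obtain ⟨A, hA⟩ := exists_maxAb (G := P)
    have h1 := cl_J hQ.1
    rw [hJ, sup_top_eq] at h1
    have h2 : #(⊤ : Subgroup P) * #(CC (⊤ : Subgroup P)) = _ := (cl_iff.1 h1).1
    rw [card_top, coe_top, centralizer_univ, ← hd A hA, pow_two] at h2
    exact ((mcl_iff (mcl_of_sq hA h2.ge) hA.1).1 hQ).1
  · obtain ⟨R, hR⟩ := exists_cl (G := P)
    obtain ⟨Q, -, hQ⟩ := exists_mcl_le hR
    refine le_antisymm ((tilde_le hQ.1).trans (sup_le (le_sSup (cl_ab_max hQ.1 (h Q hQ))) le_rfl)) ?_
    exact cc_symm inf_le_right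

end Cfsg.Agent.S3008
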