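import Cfsg.Statements.S3011
import Cfsg.Agent.Lib.Transfer.Tet

set_option autoImplicit false
open Cfsg

namespace Cfsg.Agent.S3011

set_option linter.unusedSectionVars false
set_option linter.unusedVariables false
set_option linter.style.haveILetI false
set_option linter.unusedSimpArgs false

open Subgroup Transfer MS

/-- Let G be a finite group and V a nontrivial elementary abelian 2-subgroup of G of order at most 4 such that, whenever an element of V inverts an element h of G of odd order, some nontrivial element of V commutes with h. Then V meets O₂(G) nontrivially. (The case of order at most 4 has a short argument from the Baer–Suzuki theorem.) -/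
theorem result {G : Type*} [Group G] [Finite G] (V : Subgroup G) (hV : Cfsg.IsElementaryAbelian 2 V) (hV1 : V ≠ ⊥) (hS : Cfsg.IsSidkiPair V) (h4 : Nat.card V ≤ 4) : V ⊓ Cfsg.pCore 2 G ≠ ⊥ := by
  intro h0
  have sq : ∀ v ∈ V, v * v = 1 := fun v hv => by rw [← pow_two]; exact hV.2 v hv
  have cm : ∀ v ∈ V, ∀ w ∈ V, v * w = w * v := fun v hv w hw => mem_CC.1 (ab_cc hV.1 hw) v hv
  have ex : ∀ v ∈ V, v ≠ 1 → ∃ a : G, a ≠ 1 ∧ Odd (orderOf a) ∧ v * a * v⁻¹ = a⁻¹ := fun v hv h1 =>
    exists_inverts_odd_of_not_isPGroup (sq v hv) fun h =>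
      h1 (eq_one_of_inf h0 hv (Solv.le_pCore h (subset_normalClosure rfl)))
  have ne : ∀ a v : G, a ≠ 1 → Odd (orderOf a) → v * a * v⁻¹ = a⁻¹ → v * a = a * v → False :=
    fun a v h1 h2 h3 h4 => h1 (eq_one_of_odd_of_mul_self h2 (by
      rw [h4, mul_inv_cancel_right] at h3; exact mul_eq_one_iff_eq_inv.2 h3))
  have main : ∀ t ∈ V, ∀ u ∈ V, (∀ w ∈ V, w = 1 ∨ w = t ∨ w = u ∨ w = t * u) → ∀ a b : G, a ≠ 1 → b ≠ 1 →
      Odd (orderOf a) → Odd (orderOf b) → t * a * t⁻¹ = a⁻¹ → u * a = a * u → u * b * u⁻¹ = b⁻¹ →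
      t * b = b * t → False := by
    intro t ht u hu hall a b a1 b1 ao bo ta ua ub tb
    have ua' : u * a * u⁻¹ = a := by rw [ua]; group
    have tb' : t * b * t⁻¹ = b := by rw [tb]; group
    have cab : Commute b a := by
      obtain ⟨w, hw, w1, wc⟩ := hS (b * a * b⁻¹) t ht (by rwa [orderOf_conj]) (by
        calc t * (b * a * b⁻¹) * t⁻¹ = (t * b * t⁻¹) * (t * a * t⁻¹) * (t * b * t⁻¹)⁻¹ := by group
          _ = _ := by rw [tb', ta]; group)
      rcases hall w hw with rfl | rfl | rfl | rfl
      · exact absurd rfl w1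
      · exfalso
        refine ne (b * a * b⁻¹) w (by simpa using a1) (by rwa [orderOf_conj]) ?_ wc
        calc w * (b * a * b⁻¹) * w⁻¹ = (w * b * w⁻¹) * (w * a * w⁻¹) * (w * b * w⁻¹)⁻¹ := by group
          _ = _ := by rw [tb', ta]; group
      · refine commute_of_commute_sq_of_odd bo ?_
        have : b⁻¹ * a * b = b * a * b⁻¹ := by
          calc b⁻¹ * a * b = (w * b * w⁻¹) * (w * a * w⁻¹) * (w * b * w⁻¹)⁻¹ := by rw [ub, ua']; group
            _ = w * (b * a * b⁻¹) * w⁻¹ := by group
            _ = _ := by rw [wc]; group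
        show b * b * a = a * (b * b)
        calc b * b * a = b * (b * a * b⁻¹) * b := by group
          _ = _ := by rw [← this]; group
      · exfalso
        have : b⁻¹ * a⁻¹ * b = b * a * b⁻¹ := by
          calc b⁻¹ * a⁻¹ * b = (t * b * t⁻¹)⁻¹ * (t * a * t⁻¹) * (t * b * t⁻¹) := by rw [tb', ta]
            _ = t * (b⁻¹ * a * b⁻¹⁻¹) * t⁻¹ := by group
            _ = t * ((u * b * u⁻¹) * (u * a * u⁻¹) * (u * b * u⁻¹)⁻¹) * t⁻¹ := by rw [ub, ua']
            _ = t * u * (b * a * b⁻¹) * (t * u)⁻¹ := by group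
            _ = _ := by rw [wc]; group
        have h2 : (b * b) * a * (b * b)⁻¹ = a⁻¹ := by
          calc (b * b) * a * (b * b)⁻¹ = b * (b * a * b⁻¹) * b⁻¹ := by group
            _ = _ := by rw [← this]; group
        refine ne a _ a1 ao h2 (commute_of_commute_sq_of_odd (odd_orderOf_of_mem_zpowers bo
          (mul_mem (mem_zpowers b) (mem_zpowers b))) ?_)
        show b * b * (b * b) * a = a * (b * b * (b * b))
        generalize b * b = c at h2
        calc c * c * a = c * (c * a * c⁻¹) * c⁻¹ * (c * c) := by simp only [mul_assoc, inv_mul_cancel_left, inv_mul_cancel, mul_one]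
          _ = (c * a * c⁻¹)⁻¹ * (c * c) := by
            conv_lhs => rw [h2]
            simp only [mul_assoc, mul_inv_rev, inv_inv]
          _ = _ := by rw [h2, inv_inv]
    have oab : Odd (orderOf (b * a)) := Odd.of_dvd_nat (bo.mul ao) cab.orderOf_mul_dvd_mul_orderOf
    have inv : t * u * (b * a) * (t * u)⁻¹ = (b * a)⁻¹ := by
      calc t * u * (b * a) * (t * u)⁻¹ = t * ((u * b * u⁻¹) * (u * a * u⁻¹)) * t⁻¹ := by group
        _ = (t * b * t⁻¹)⁻¹ * (t * a * t⁻¹) := by rw [ub, ua']; group
        _ = _ := by rw [tb', ta, cab.eq]; group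
    obtain ⟨w, hw, w1, wc⟩ := hS (b * a) (t * u) (V.mul_mem ht hu) oab inv
    rcases hall w hw with rfl | rfl | rfl | rfl
    · exact w1 rfl
    · refine ne a w a1 ao ta (mul_left_cancel (a := b) ?_)
      rw [← mul_assoc, ← tb, mul_assoc, wc, mul_assoc]
    · refine ne b w b1 bo ub (mul_right_cancel (b := a) ?_)
      rw [mul_assoc, wc, mul_assoc, mul_assoc, ua]
    · by_cases h : b * a = 1
      · refine ne a t a1 ao ta ?_
        rw [eq_inv_of_mul_eq_one_right h]
        exact (Commute.inv_right (a := t) tb).eq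
      · exact ne _ _ h oab inv wc
  obtain ⟨t, ht, t1⟩ := exists_ne_one hV1
  obtain ⟨a, a1, ao, ta⟩ := ex t ht t1
  obtain ⟨u, hu, u1, ua⟩ := hS a t ht ao ta
  have tu : t ≠ u := fun h => ne a t a1 ao ta (h ▸ ua)
  have hall : ∀ w ∈ V, w = 1 ∨ w = t ∨ w = u ∨ w = t * u := by
    classical
    intro w hw
    by_contra hc
    push Not at hc
    have k1 : t * u ≠ 1 := fun h => tu (mul_left_cancel ((sq t ht).trans h.symm))
    have k2 : t * u ≠ t := by simpa using u1
    have k3 : t * u ≠ u := by simpa using t1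
    have : ({w, 1, t, u, t * u} : Finset G).card ≤ #V := by
      rw [← Set.ncard_coe_finset]
      refine Set.ncard_le_ncard (t := (V : Set G)) ?_ (Set.toFinite _)
      intro x hx
      simp only [Finset.coe_insert, Finset.coe_singleton, Set.mem_insert_iff, Set.mem_singleton_iff] at hx
      rcases hx with rfl | rfl | rfl | rfl | rfl
      exacts [hw, V.one_mem, ht, hu, V.mul_mem ht hu]
    rw [Finset.card_insert_of_notMem (by simp [hc]), Finset.card_insert_of_notMem (by simp [t1.symm, u1.symm, k1.symm]),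
      Finset.card_insert_of_notMem (by simp [tu, k2.symm]), Finset.card_pair k3.symm] at this
    omega
  obtain ⟨b, b1, bo, ub⟩ := ex u hu u1
  obtain ⟨w, hw, w1, wb⟩ := hS b u hu bo ub
  rcases hall w hw with rfl | rfl | rfl | rfl
  · exact w1 rfl
  · exact main w ht u hu hall a b a1 b1 ao bo ta ua ub wb
  · exact ne b w b1 bo ub wb
  · refine main (t * u) hw u hu (fun x hx => ?_) a b a1 b1 ao bo ?_ ua ub wb
    · rw [mul_assoc, sq u hu, mul_one]
      rcases hall x hx with h | h | h | h <;> simp [h]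
    · rw [mul_assoc t, ua, ← ta]; group

end Cfsg.Agent.S3011
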