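import Cfsg.Statements.S3012
import Cfsg.Agent.Lib.Transfer.Tet

set_option autoImplicit false
open Cfsg

namespace Cfsg.Agent.S3012

set_option linter.unusedSectionVars false
set_option linter.unusedVariables false
set_option linter.style.haveILetI false
set_option linter.unusedSimpArgs false

open Subgroup Transfer MS

/-- Let G be a finite group, V a nontrivial elementary abelian 2-subgroup of G satisfying the Sidki pair condition (every odd-order element inverted by an element of V commutes with a nontrivial element of V), and K a normal subgroup of G with V ∩ K = 1. Then the image of V in G/K satisfies the Sidki pair condition in G/K. -/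
theorem result {G : Type*} [Group G] [Finite G] (V K : Subgroup G) [K.Normal] (hV : Cfsg.IsElementaryAbelian 2 V) (hV1 : V ≠ ⊥) (hS : Cfsg.IsSidkiPair V) (hVK : V ⊓ K = ⊥) : Cfsg.IsSidkiPair (V.map (QuotientGroup.mk' K)) := by
  rintro h _ ⟨v, hv, rfl⟩ ho hi
  obtain ⟨h, rfl⟩ := QuotientGroup.mk'_surjective K h
  have sq : v * v = 1 := by rw [← pow_two]; exact hV.2 v hv
  have vi : v⁻¹ = v := inv_eq_of_mul_eq_one_right sq
  obtain ⟨k, hk⟩ := exists_pow_coprime (p := 2) (v * h * v⁻¹ * h⁻¹)
  obtain ⟨w, hw, w1, wc⟩ := hS _ v hv (odd_iff_coprime_two.2 hk) (by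
    rw [← conj_pow, ← inv_pow]; congr 1
    calc v * (v * h * v⁻¹ * h⁻¹) * v⁻¹ = (v * v) * (h * v⁻¹ * h⁻¹ * v⁻¹) := by group
      _ = _ := by rw [sq, vi]; nth_rw 1 [← vi]; nth_rw 3 [← vi]; group)
  refine ⟨_, mem_map_of_mem _ hw, fun h => w1 (eq_one_of_inf hVK hw ((QuotientGroup.eq_one_iff _).1 h)), ?_⟩
  have h1 := congrArg (QuotientGroup.mk' K) wc
  simp only [map_mul, map_pow, map_inv] at h1
  rw [hi, ← pow_two, ← pow_mul, inv_pow] at h1
  have h2 : (QuotientGroup.mk' K h) ^ (2 * 2 ^ k) ∈ C1 (QuotientGroup.mk' K w) :=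
    inv_mem_iff.1 (mem_C1.2 h1.symm)
  refine (mem_C1.1 (mem_of_pow_mem_coprime ?_ h2)).symm
  rw [← pow_succ']
  exact (odd_iff_coprime_two.1 ho).pow_right _

end Cfsg.Agent.S3012
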