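import Cfsg.Statements.S3013
import Cfsg.Agent.Lib.Transfer.Tet

set_option autoImplicit false
open Cfsg

namespace Cfsg.Agent.S3013

set_option linter.unusedSectionVars false
set_option linter.unusedVariables false
set_option linter.style.haveILetI false
set_option linter.unusedSimpArgs false

open Subgroup Transfer MS

/-- Let G be a finite group and V a nontrivial elementary abelian 2-subgroup of G satisfying the Sidki pair condition. Let v ∈ V and let x be an element of odd order inverted by v, and put C = C_G(v) ∩ C_G(x), the centralizer of the dihedral subgroup generated by v and x. Then C ∩ V is nontrivial and satisfies the Sidki pair condition inside C: every odd-order element of C inverted by an element of C ∩ V commutes with a nontrivial element of C ∩ V. -/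
theorem result {G : Type*} [Group G] [Finite G] (V : Subgroup G) (hV : Cfsg.IsElementaryAbelian 2 V) (hV1 : V ≠ ⊥) (hS : Cfsg.IsSidkiPair V) (v x : G) (hv : v ∈ V) (hx : Odd (orderOf x)) (hinv : v * x * v⁻¹ = x⁻¹) (C : Subgroup G) (hC : C = Subgroup.centralizer ({v} : Set G) ⊓ Subgroup.centralizer ({x} : Set G)) : C ⊓ V ≠ ⊥ ∧ Cfsg.IsSidkiPair ((C ⊓ V).subgroupOf C) := by
  have cm : ∀ v ∈ V, ∀ w ∈ V, v * w = w * v := fun v hv w hw => mem_CC.1 (ab_cc hV.1 hw) v hv
  constructor
  · obtain ⟨w, hw, w1, wc⟩ := hS x v hv hx hinv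
    exact ne_bot_of_mem (x := w) ⟨hC.ge ⟨mem_C1.2 (cm w hw v hv), mem_C1.2 wc⟩, hw⟩ w1
  · rintro ⟨h, hh⟩ ⟨u, hu⟩ huV ho hi
    have h1 : u * h * u⁻¹ = h⁻¹ := congrArg Subtype.val hi
    have hu' : u ∈ V := (mem_subgroupOf.1 huV).2
    rw [Subgroup.orderOf_mk] at ho
    have hv' := conj_eq_of_C1 (mem_C1_comm.1 (hC.le hh).1)
    have hx' : Commute h x := mem_C1.1 (hC.le hh).2
    have ux := conj_eq_of_C1 (hC.le hu).2
    obtain ⟨w, hw, w1, wc⟩ := hS (h * x) (u * v) (V.mul_mem hu' hv)
      (Odd.of_dvd_nat (ho.mul hx) hx'.orderOf_mul_dvd_mul_orderOf) (by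
        calc u * v * (h * x) * (u * v)⁻¹ = u * ((v * h * v⁻¹) * (v * x * v⁻¹)) * u⁻¹ := by group
          _ = (u * h * u⁻¹) * (u * x * u⁻¹)⁻¹ := by rw [hv', hinv]; group
          _ = _ := by rw [h1, ux, hx'.eq]; group)
    have k1 : h * x ∈ C1 w := mem_C1.2 wc.symm
    have k2 : v ∈ C1 w := mem_C1.2 (cm v hv w hw)
    have k3 : h * h ∈ C1 w := by
      have : h * h = (v * (h * x) * v⁻¹) * (x * h) := by
        calc h * h = (v * h * v⁻¹) * (v * x * v⁻¹) * (x * h) := by rw [hv', hinv]; group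
          _ = _ := by group
      rw [this, ← hx'.eq]
      exact mul_mem (mul_mem (mul_mem k2 k1) (inv_mem k2)) k1
    have k4 : h ∈ C1 w := mem_of_pow_mem_coprime (odd_iff_coprime_two.1 ho) (by rwa [pow_two])
    have k5 : x ∈ C1 w := (Subgroup.mul_mem_cancel_left _ k4).1 k1
    have k6 : w ∈ C := hC.ge ⟨mem_C1_comm.1 k2, mem_C1_comm.1 k5⟩
    exact ⟨⟨w, k6⟩, ⟨k6, hw⟩, fun h => w1 (congrArg Subtype.val h), Subtype.ext (mem_C1.1 k4).symm⟩

end Cfsg.Agent.S3013
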