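import Cfsg.Statements.S3014
import Cfsg.Agent.Lib.Transfer.Ext
import Cfsg.Agent.Lib.Char.Frob

set_option autoImplicit false
open Cfsg

namespace Cfsg.Agent.S3014

set_option linter.unusedSectionVars false
set_option linter.unusedVariables false
set_option linter.style.haveILetI false
set_option linter.unusedSimpArgs false

open Subgroup Transfer MS

/-- Let G be a finite group and H ≤ M ≤ G subgroups such that for every g ∈ G the subgroup generated by H and g H g⁻¹ meets M exactly in H. If H is a maximal subgroup of M and M is a maximal subgroup of G, then the normal closure of H in G meets M exactly in H. -/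
theorem result {G : Type*} [Group G] [Finite G] (H M : Subgroup G) (hHM : H ≤ M) (hcl : ∀ g : G, (H ⊔ H.map (MulAut.conj g).toMonoidHom) ⊓ M = H) (hmaxH : IsCoatom (H.subgroupOf M)) (hmaxM : IsCoatom M) : Subgroup.normalClosure (H : Set G) ⊓ M = H := by
  have n1 : M ≤ NN H := fun g hg => mem_normalizer_of_cj_le
    ((le_inf le_sup_right (cj_le' hHM hg)).trans (hcl g).le)
  refine le_antisymm ?_ (le_inf le_normalClosure hHM)
  by_cases hTI : ∀ g : G, g ∉ M → ∀ x ∈ M, g * x * g⁻¹ ∈ M → x ∈ H
  · obtain ⟨K, k1, -, k2, -⟩ := Char.wielandt_normal_complement hHM n1 hTI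
    exact (inf_le_inf_right _ (normalClosure_le_normal (k2.ge.trans inf_le_left))).trans k2.le
  push Not at hTI
  obtain ⟨g, g1, x, x1, x2, x3⟩ := hTI
  have m1 : M ≤ H ⊔ zpowers x := by
    have := hmaxH.2 ((H ⊔ zpowers x).subgroupOf M) (lt_of_le_of_ne (subgroupOf_mono _ le_sup_left) fun h =>
      x3 (h.ge (show (⟨x, x1⟩ : M) ∈ (H ⊔ zpowers x).subgroupOf M from mem_sup_right (mem_zpowers x))))
    exact subgroupOf_eq_top.1 this
  have m2 : M ≤ NN (H ⊔ cj g⁻¹ H : Subgroup G) := by
    refine m1.trans (sup_le (nn_of_le le_sup_left) (zpowers_le.2 (mem_normalizer_sup (n1 x1) ?_)))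
    rw [← cj_normalizer, mem_cj, inv_inv]; exact n1 x2
  by_cases h : NN (H ⊔ cj g⁻¹ H : Subgroup G) = ⊤
  · haveI := normalizer_eq_top_iff.1 h
    exact (inf_le_inf_right _ (normalClosure_le_normal (N := H ⊔ cj g⁻¹ H) fun _ h => mem_sup_left h)).trans (hcl _).le
  · have e := (hmaxM.le_iff.1 m2).resolve_left h
    have h2 : g⁻¹ ∈ NN H := mem_normalizer_of_cj_le
      ((le_inf le_sup_right (le_sup_right.trans ((le_nn _).trans e.le))).trans (hcl _).le)
    have h3 : NN H = ⊤ := hmaxM.2 _ (lt_of_le_of_ne n1 fun h => g1 (inv_mem_iff.1 (h.ge h2)))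
    haveI := normalizer_eq_top_iff.1 h3
    exact inf_le_left.trans (normalClosure_le_normal le_rfl)

end Cfsg.Agent.S3014
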