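import Cfsg.Statements.S3015
import Cfsg.Agent.Lib.Transfer.Ext
import Cfsg.Agent.Lib.Char.Frob
import Cfsg.Agent.S3014

set_option autoImplicit false
open Cfsg

namespace Cfsg.Agent.S3015

set_option linter.unusedSectionVars false
set_option linter.unusedVariables false
set_option linter.style.haveILetI false
set_option linter.unusedSimpArgs false

open Subgroup Transfer MS

/-- Let G be a finite non-abelian simple group, M a maximal subgroup of G and H a normal subgroup of M of prime index in M. Then G is generated by H together with one of its conjugates. -/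
theorem result {G : Type*} [Group G] [Finite G] [IsSimpleGroup G] (hG : ¬ IsMulCommutative G) (M H : Subgroup G) (hmaxM : IsCoatom M) (hHM : H ≤ M) (hHn : (H.subgroupOf M).Normal) (hidx : (H.relIndex M).Prime) : ∃ g : G, H ⊔ H.map (MulAut.conj g).toMonoidHom = ⊤ := by
  haveI := Fact.mk hidx
  have n1 : M ≤ NN H := (normal_subgroupOf_iff_le_normalizer hHM).1 hHn
  have nn : ∀ K : Subgroup G, K ≠ ⊥ → K ≤ M → M ≤ NN K → NN K = M := fun K k0 k1 k2 =>
    (hmaxM.le_iff.1 k2).resolve_left fun h => by
      rcases (normalizer_eq_top_iff.1 h).eq_bot_or_eq_top with h | h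
      · exact k0 h
      · exact hmaxM.1 (eq_top_iff.2 (h.ge.trans k1))
  have lt : H ≠ M := fun h => hidx.one_lt.ne' (by rw [h, relIndex_self])
  have M0 : M ≠ ⊥ := fun h => lt (le_antisymm hHM (h.le.trans bot_le))
  have nM := nn M M0 le_rfl (le_nn _)
  have mx : ∀ K ≤ M, #K = #H → ∀ L, K ≤ L → L ≤ M → L = K ∨ L = M := fun K k1 k2 L l1 l2 => by
    have e : K.relIndex M = H.relIndex M := Nat.eq_of_mul_eq_mul_left (card_pos' H) (by
      rw [card_mul_relIndex hHM, ← k2, card_mul_relIndex k1])
    rcases (Nat.dvd_prime hidx).1 (e ▸ relIndex_dvd_of_le_left M l1) with h | h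
    · exact Or.inr (le_antisymm l2 (relIndex_eq_one.1 h))
    · refine Or.inl (eq_of_card_le l1 (Nat.le_of_mul_le_mul_right (le_of_eq ?_) hidx.pos)).symm
      rw [k2, card_mul_relIndex hHM, ← h, card_mul_relIndex l2]
  by_cases H0 : H = ⊥
  · exfalso
    have pM : (#M).Prime := by rwa [H0, relIndex_bot_left] at hidx
    obtain ⟨K, k1, -, k2, k3⟩ := Char.wielandt_normal_complement (H := M) (N := ⊥) bot_le nn_bot
      fun g hg x h1 h2 => by
        by_contra x1
        refine hg (nM.le (mem_normalizer_of_cj_le ?_))
        rw [← prime_eq_zpowers pM h1 x1, cj_zpowers, prime_eq_zpowers pM h1 x1]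
        exact zpowers_le.2 h2
    rcases k1.eq_bot_or_eq_top with h | h
    · rw [h, bot_sup_eq] at k3; exact hmaxM.1 k3
    · rw [h, top_inf_eq] at k2; exact M0 k2
  have nH := nn H H0 hHM n1
  have key : ∀ g, cj g H ≤ M → cj g H = H := fun g hg => by
    refine cj_nn (n1 ?_)
    have r1 : res (H.relIndex M) H = res (H.relIndex M) M :=
      res_eq_of_le_of_le (res_le_of_relIndex n1 (pow_one _).symm) hHM
    by_cases r0 : res (H.relIndex M) M = ⊥
    · have pM : IsPGroup (H.relIndex M) M := by
        obtain ⟨n, hn⟩ := relIndex_res (p := H.relIndex M) M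
        rw [r0, relIndex_bot_left] at hn
        exact IsPGroup.of_card hn
      have l1 : cj g H < M := lt_of_le_of_ne hg fun h => lt (eq_of_card_le hHM (by rw [← h, card_cj]))
      have l2 := lt_inf_normalizer pM l1
      have l3 := (mx _ hg (card_cj _ _) _ l2.le inf_le_left).resolve_left l2.ne'
      have l4 := l3.ge.trans inf_le_right
      rw [← cj_normalizer, nH] at l4
      exact nM.le (mem_normalizer_iff_cj.2 (eq_of_card_le l4 (card_cj _ _).le).symm)
    · refine (nn _ r0 (res_le _) (le_normalizer_res _)).le (mem_normalizer_of_cj_le ?_)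
      conv_lhs => rw [← r1, cj_res]
      exact res_mono hg
  by_contra hc
  push Not at hc
  have h := S3014.result H M hHM (fun g => ?_) ⟨fun h => lt (le_antisymm hHM (subgroupOf_eq_top.1 h)), fun L hL => ?_⟩ hmaxM
  · rcases (inferInstance : (normalClosure (H : Set G)).Normal).eq_bot_or_eq_top with k | k
    · exact H0 (le_bot_iff.1 (le_normalClosure.trans k.le))
    · rw [k, top_inf_eq] at h; exact lt h.symm
  · rcases mx H hHM rfl _ (le_inf le_sup_left hHM) inf_le_right with k | k
    · exact k
    · have := (hmaxM.le_iff.1 (k.ge.trans inf_le_left)).resolve_left (hc g)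
      rw [show H.map (MulAut.conj g).toMonoidHom = H from key g (le_sup_right.trans this.le), sup_idem] at this
      exact absurd this lt
  · rcases mx H hHM rfl (L.map M.subtype) (fun x hx => ⟨⟨x, hHM hx⟩, hL.le hx, rfl⟩) (map_subtype_le _) with k | k
    · exact absurd (by rw [← k, Comp.subgroupOf_map_subtype_self]) hL.ne
    · rw [← Comp.subgroupOf_map_subtype_self (K := L), k, subgroupOf_self]

end Cfsg.Agent.S3015
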