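import Cfsg.Statements.S3020
import Cfsg.Agent.Lib.Transfer.Tet
import Cfsg.Agent.Lib.MS.Pre1

set_option autoImplicit false
open Cfsg

namespace Cfsg.Agent.S3020

set_option linter.unusedSectionVars false
set_option linter.unusedVariables false
set_option linter.style.haveILetI false
set_option linter.unusedSimpArgs false

open Subgroup Transfer MS

/-- Let G be a finite group, p a prime and H an abelian p-subgroup of G that is extremely closed (for every g, the subgroup generated by H and g H g⁻¹ meets N_G(H) exactly in H). Then for every g ∈ G, the subgroup T generated by H and g H g⁻¹ is the product of H with O_{p'}(T), and H meets O_{p'}(T) trivially; that is, O_{p'}(T) is a normal p-complement of H in T. -/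
theorem result {G : Type*} [Group G] [Finite G] {p : ℕ} [Fact p.Prime] (H : Subgroup G) (hHp : IsPGroup p H) (hHab : IsMulCommutative H) (hcl : Cfsg.IsExtremelyClosed H) (g : G) (T : Subgroup G) (hT : T = H ⊔ H.map (MulAut.conj g).toMonoidHom) : H ⊔ (Cfsg.pPrimeCore p ↥T).map T.subtype = T ∧ H ⊓ (Cfsg.pPrimeCore p ↥T).map T.subtype = ⊥ := by
  have h1 : T ⊓ NN H = H := hT ▸ hcl g
  have h2 : H ≤ T := hT ▸ le_sup_left
  have hs : IsSyl p H T := syl_of_nn h2 (by rw [h1]; exact ⟨le_rfl, hHp, by
    rw [relIndex_self]; exact (Fact.out : p.Prime).not_dvd_one⟩)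
  have hn : Hall {p}ᶜ (O {p}ᶜ T) T := burnside hs (h1.le.trans (ab_cc hHab))
  rw [map_pPrimeCore]
  exact ⟨(hall_of_syl hs).sup hn, (pi1_of_pg hHp).inf hn.pi⟩

end Cfsg.Agent.S3020
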