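import Cfsg.Statements.S3025
import Cfsg.Agent.Lib.Transfer.Ext
import Cfsg.Agent.Lib.Comp.SPE
import Cfsg.Agent.Lib.BG.Rank

set_option autoImplicit false
open Cfsg

namespace Cfsg.Agent.S3025

set_option linter.unusedSectionVars false
set_option linter.unusedVariables false
set_option linter.style.haveILetI false
set_option linter.unusedSimpArgs false

section
open Subgroup Transfer MS

/-- Let G be a finite group and H a nontrivial subgroup of G that is contained in every nontrivial subgroup of G which H normalizes. Then G has a nontrivial normal subgroup N contained in every nontrivial normal subgroup of G (a unique minimal normal subgroup), N is simple, and one of the following holds: C_F(N) = 1; or H = N has prime order p, C_F(N) is cyclic of order a power of p, and G/C_F(N) is cyclic of order dividing p − 1; or H = N has order 2, N is central in G, and G is a generalized quaternion group. -/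
theorem aux {G : Type*} [Group G] [Finite G] (H : Subgroup G) (hH : H ≠ ⊥)
    (hmin : ∀ R : Subgroup G, R ≠ ⊥ → H ≤ Subgroup.normalizer (R : Set G) → H ≤ R) :
    ∃ N : Subgroup G, N.Normal ∧ N ≠ ⊥ ∧ (∀ M : Subgroup G, M.Normal → M ≠ ⊥ → N ≤ M) ∧ IsSimpleGroup ↥N ∧
      (Subgroup.centralizer (N : Set G) = ⊥ ∨
       (H = N ∧ (Nat.card N).Prime ∧ IsCyclic ↥(Subgroup.centralizer (N : Set G)) ∧
          (∃ k : ℕ, 1 ≤ k ∧ Nat.card ↥(Subgroup.centralizer (N : Set G)) = Nat.card N ^ k) ∧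
          (∃ g : G, Subgroup.centralizer (N : Set G) ⊔ Subgroup.zpowers g = ⊤) ∧
          (Subgroup.centralizer (N : Set G)).index ∣ Nat.card N - 1) ∨
       (H = N ∧ Nat.card N = 2 ∧ Subgroup.centralizer (N : Set G) = ⊤ ∧
          ∃ k : ℕ, 1 ≤ k ∧ Nonempty (G ≃* QuaternionGroup (2 ^ k)))) := by
  set N := normalClosure (H : Set G) with hN
  have n1 : H ≤ N := le_normalClosure
  have N0 : N ≠ ⊥ := fun h => hH (le_bot_iff.1 (n1.trans h.le))
  have n2 : ∀ M : Subgroup G, M.Normal → M ≠ ⊥ → N ≤ M := fun M h1 h2 =>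
    normalClosure_le_normal (hmin M h2 nn_normal)
  have n3 : ∀ L ≤ N, N ≤ NN L → L ≠ ⊥ → N ≤ L := fun L l1 l2 l3 => by
    refine (closure_le _).2 fun x hx => ?_
    obtain ⟨h, hh, hc⟩ := Group.mem_conjugatesOfSet_iff.1 hx
    obtain ⟨g, rfl⟩ := isConj_iff.1 hc
    have := hmin (cj g⁻¹ L) (fun h => l3 (cj_eq_bot_iff.1 h))
      (n1.trans (nn_cj_of l2 (nn_normal (mem_top _)))) hh
    rwa [mem_cj, inv_inv] at this
  have hs : IsSimpleGroup N := by
    haveI := (nontrivial_iff_ne_bot N).2 N0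
    refine ⟨fun L hL => or_iff_not_imp_left.2 fun h => ?_⟩
    have := n3 (L.map N.subtype) (map_subtype_le _) ?_ (by rwa [Ne, map_eq_bot_iff_of_injective _ (subtype_injective _)])
    · exact eq_top_iff.2 fun x _ => by
        obtain ⟨y, hy, e⟩ := this x.2
        rwa [← show y = x from Subtype.ext e]
    · have := le_normalizer_map (H := L) N.subtype
      rwa [normalizer_eq_top, Comp.map_subtype_top] at this
  refine ⟨N, inferInstance, N0, n2, hs, ?_⟩
  by_cases hC : CC N = ⊥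
  · exact Or.inl hC
  right
  haveI : (CC N).Normal := normalizer_eq_top_iff.1 (eq_top_iff.2 (nn_cc nn_normal))
  have ab : IsMulCommutative N := ab_iff.2 (n2 _ this hC)
  have pN : (#N).Prime := by
    obtain ⟨X, x1, x2⟩ := exists_prime_sub N0
    rwa [← le_antisymm x1 (n3 X x1 (ab_nn ab le_rfl x1) (prime_ne_bot x2))]
  have e : H = N := prime_eq_of_le pN n1 hH
  haveI := Fact.mk pN
  have sub : ∀ R ≤ CC N, R ≠ ⊥ → N ≤ R := fun R r1 r2 => e ▸ hmin R r2 (nn_of_cc (n1.trans (cc_symm r1)))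
  have pC : IsPGroup #N (CC N) := pg_of_pi fun q hq h => by
    obtain ⟨X, x1, x2⟩ := exists_card_eq hq h
    have hX : (#X).Prime := x2 ▸ hq
    rw [← x2, ← prime_eq_of_le hX (sub X x1 (prime_ne_bot hX)) N0]; rfl
  have idx : (CC N).index ∣ #N - 1 := by
    rw [← relIndex_top_right]
    exact BG.relIndex_Ct_dvd_of_el_one (el_one le_rfl rfl).bg nn_normal
  rcases Comp.rankOne_or_exists_elementary pC with (h | ⟨h, n, ⟨f⟩⟩) | ⟨E, e1, e2, e3⟩
  · refine Or.inl ⟨e, pN, h, ?_, ?_, idx⟩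
    · obtain ⟨k, hk⟩ := pC.exists_card_eq
      refine ⟨k, Nat.one_le_iff_ne_zero.2 fun h => hC ?_, hk⟩
      rwa [h, pow_zero, card_eq_one] at hk
    · haveI := prime_cyc pN
      haveI := ZMod.isCyclic_units_prime pN
      haveI : IsCyclic (MulAut N) := isCyclic_of_surjective _ (IsCyclic.mulAutMulEquiv N).symm.surjective
      obtain ⟨⟨_, g, rfl⟩, hg⟩ := IsCyclic.exists_generator (α := (MulAut.conjNormal : G →* MulAut N).range)
      refine ⟨g, eq_top_iff.2 fun x _ => ?_⟩
      obtain ⟨k, hk⟩ := hg ⟨_, x, rfl⟩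
      have h1 : MulAut.conjNormal (x * (g ^ k)⁻¹) = (1 : MulAut N) := by
        rw [map_mul, map_inv, map_zpow, mul_inv_eq_one]; exact (congrArg Subtype.val hk).symm
      rw [← inv_mul_cancel_right x (g ^ k)]
      refine mul_mem (mem_sup_left (mem_CC.2 fun y hy => (mem_C1.1 (mem_C1_of_conj ?_)).symm))
        (mem_sup_right (zpow_mem_zpowers g k))
      exact congrArg (fun φ : MulAut N => (φ ⟨y, hy⟩ : G)) h1
  · rw [h, Nat.dvd_one, index_eq_one] at idx
    rw [idx] at f
    rcases Nat.eq_zero_or_pos n with rfl | hn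
    · haveI : IsCyclic (QuaternionGroup (2 ^ 0)) := QuaternionGroup.quaternionGroup_one_isCyclic
      haveI : IsCyclic (⊤ : Subgroup G) := isCyclic_of_surjective f.symm f.symm.surjective
      refine Or.inl ⟨e, pN, idx ▸ this, ⟨2, by norm_num, ?_⟩, ⟨1, by rw [idx, top_sup_eq]⟩, by rw [idx]; simp⟩
      rw [idx, h, Nat.card_congr f.toEquiv]; simp [QuaternionGroup.card]
    · exact Or.inr ⟨e, h, idx, n, hn, ⟨topEquiv.symm.trans f⟩⟩
  · exfalso
    obtain ⟨X, x1, x2, x3⟩ := (⟨le_rfl, e2, e3⟩ : El #N 2 E E).exists_line (B := N) rfl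
    have hX : (#X).Prime := x2 ▸ pN
    exact x3 (prime_eq_of_le hX (sub X (x1.trans e1) (prime_ne_bot hX)) N0).symm

end

theorem result {F : Type*} [Group F] [Finite F] (H : Subgroup F) (hH : H ≠ ⊥)
    (hmin : ∀ R : Subgroup F, R ≠ ⊥ → H ≤ Subgroup.normalizer (R : Set F) → H ≤ R) :
    ∃ N : Subgroup F, N.Normal ∧ N ≠ ⊥ ∧ (∀ M : Subgroup F, M.Normal → M ≠ ⊥ → N ≤ M) ∧ IsSimpleGroup ↥N ∧
      (Subgroup.centralizer (N : Set F) = ⊥ ∨
       (H = N ∧ (Nat.card N).Prime ∧ IsCyclic ↥(Subgroup.centralizer (N : Set F)) ∧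
          (∃ k : ℕ, 1 ≤ k ∧ Nat.card ↥(Subgroup.centralizer (N : Set F)) = Nat.card N ^ k) ∧
          (∃ g : F, Subgroup.centralizer (N : Set F) ⊔ Subgroup.zpowers g = ⊤) ∧
          (Subgroup.centralizer (N : Set F)).index ∣ Nat.card N - 1) ∨
       (H = N ∧ Nat.card N = 2 ∧ Subgroup.centralizer (N : Set F) = ⊤ ∧
          ∃ k : ℕ, 1 ≤ k ∧ Nonempty (F ≃* QuaternionGroup (2 ^ k)))) := aux H hH hmin

end Cfsg.Agent.S3025
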