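import Cfsg.Statements.S3027
import Cfsg.Agent.Lib.Transfer.Ext

set_option autoImplicit false
open Cfsg

namespace Cfsg.Agent.S3027

set_option linter.unusedSectionVars false
set_option linter.unusedVariables false
set_option linter.style.haveILetI false
set_option linter.unusedSimpArgs false

open Subgroup Transfer MS

/-- Let G be a finite group and D a normal subgroup of G such that G/D is perfect (that is, G = G′D). Then among the subnormal subgroups B of G with BD = G there is a least one, and it is normal in G. -/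
theorem result {G : Type*} [Group G] [Finite G] (D : Subgroup G) [D.Normal] (hperf : ⁅(⊤ : Subgroup G), (⊤ : Subgroup G)⁆ ⊔ D = ⊤) :
    ∃ B : Subgroup G, B.Normal ∧ B ⊔ D = ⊤ ∧ ∀ B' : Subgroup G, B'.IsSubnormal → B' ⊔ D = ⊤ → B ≤ B' := by
  have e : ∀ {X : Subgroup G}, X ⊔ D = ⊤ ↔ X.map (QuotientGroup.mk' D) = ⊤ := fun {X} => by
    constructor
    · intro h
      have := congrArg (Subgroup.map (QuotientGroup.mk' D)) h
      rwa [Subgroup.map_sup, (Subgroup.map_eq_bot_iff D).2 (QuotientGroup.ker_mk' D).ge, sup_bot_eq,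
        map_top_of_surjective _ (QuotientGroup.mk'_surjective D)] at this
    · intro h
      have := congrArg (Subgroup.comap (QuotientGroup.mk' D)) h
      rwa [comap_map_eq, QuotientGroup.ker_mk', comap_top] at this
  have cm : ∀ {X Y : Subgroup G}, X ⊔ D = ⊤ → Y ⊔ D = ⊤ → ⁅X, Y⁆ ⊔ D = ⊤ := fun hX hY => by
    have := e.1 hperf
    rw [map_commutator, map_top_of_surjective _ (QuotientGroup.mk'_surjective D)] at this
    rw [e, map_commutator, e.1 hX, e.1 hY, this]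
  have uniq : ∀ {H L₀ L : Subgroup G}, L₀ ≤ H → L ≤ H → (H ≤ NN L₀ ∧ L₀ ⊔ D = ⊤) → H ≤ NN L → L ⊔ D = ⊤ →
      (∀ C, (H ≤ NN C ∧ C ⊔ D = ⊤) → C ≤ L₀ → C = L₀) → L₀ ≤ L := fun h1 h2 h3 h4 h5 h6 => by
    rw [← h6 _ ⟨nn_comm h3.1 h4, cm h3.2 h5⟩ (comm_le_left (h2.trans h3.1))]
    exact comm_le_right (h1.trans h4)
  obtain ⟨B, -, b1, b2⟩ := Comp.exists_minimal_subgroup (P := fun C : Subgroup G => ⊤ ≤ NN C ∧ C ⊔ D = ⊤)
    (A := ⊤) ⟨le_nn _, top_sup_eq _⟩
  have key : ∀ H M : Subgroup G, Comp.SubnIn H M → (∀ L ≤ M, M ≤ NN L → L ⊔ D = ⊤ → B ≤ L) → H ⊔ D = ⊤ →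
      ∀ L ≤ H, H ≤ NN L → L ⊔ D = ⊤ → B ≤ L := by
    intro H M h
    induction h with
    | refl M => exact fun h _ => h
    | step H K M h1 h2 h3 ih =>
      intro h4 h5 L l1 l2 l3
      obtain ⟨L₀, a1, a2, a3⟩ := Comp.exists_minimal_subgroup (P := fun C : Subgroup G => H ≤ NN C ∧ C ⊔ D = ⊤)
        (A := L) ⟨l2, l3⟩
      refine (ih h4 (eq_top_iff.2 (h5.ge.trans (sup_le_sup_right h1 _))) L₀ (a1.trans (l1.trans h1))
        (fun k hk => ?_) a2.2).trans a1
      refine mem_normalizer_iff_cj.2 (eq_of_card_le (uniq (a1.trans l1) (cj_le (a1.trans l1) (h2 hk)) a2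
        (nn_cj_of a2.1 (h2 hk)) ?_ a3) (card_cj _ _).le).symm
      rw [← cj_eq_of_normal k D, ← cj_sup, a2.2, cj_top]
  refine ⟨B, normalizer_eq_top_iff.1 (eq_top_iff.2 b1.1), b1.2, fun B' h1 h2 => ?_⟩
  exact key B' ⊤ (Comp.SubnIn.of_isSubnormal h1) (fun L _ l2 l3 => uniq le_top le_top b1 l2 l3 b2) h2 B' le_rfl
    (le_nn _) h2

end Cfsg.Agent.S3027
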