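import Cfsg.Statements.S3035
import Cfsg.Agent.Lib.Ez.A4
import Cfsg.Agent.S0495
import Cfsg.Agent.S0497
import Cfsg.Agent.S0242
import Cfsg.Agent.Lib.Classical.Small1

set_option autoImplicit false
open Cfsg

namespace Cfsg.Agent.S3035

/-- Let G be a finite group with an involution z whose centralizer is dihedral of order 8. Then G = C_G(z) O(G) with O(G) the largest normal subgroup of odd order, or G is isomorphic to the symmetric group of degree 4, the symmetric group of degree 5, the group SL₃(2), or the alternating group of degree 6. -/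
theorem result {G : Type*} [Group G] [Finite G] (z : G) (hz : orderOf z = 2)
    (hC : Nonempty (↥(Subgroup.centralizer ({z} : Set G)) ≃* DihedralGroup 4)) :
    Subgroup.centralizer ({z} : Set G) ⊔ Cfsg.oddCore G = ⊤ ∨ Nonempty (G ≃* Equiv.Perm (Fin 4)) ∨ Nonempty (G ≃* Equiv.Perm (Fin 5)) ∨
      Nonempty (G ≃* Matrix.SpecialLinearGroup (Fin 3) (ZMod 2)) ∨ Nonempty (G ≃* ↥(alternatingGroup (Fin 6))) := by
  obtain ⟨φ, h, rfl⟩ := Ez.exists_d8c hz hC.some
  rcases h.classify with a | a | a | ⟨a, b | b⟩
  · exact .inl (h.cen ▸ a)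
  · exact .inr (.inl a)
  · exact .inr (.inr (.inl a))
  · have : Fact (Nat.Prime 7) := ⟨by norm_num⟩
    have := Classical.Pres.simple_SL_two (ι := Fin 3) (ZMod.card 2) (by simp)
    have h4 := S0242.result (F := ZMod 2) (q := 2) (ZMod.card 2) 3 (by norm_num)
    simp only [Fin.prod_univ_three] at h4
    obtain ⟨e⟩ := S0495.result b (ZMod.card 7)
    obtain ⟨e'⟩ := S0495.result (G := Matrix.SpecialLinearGroup (Fin 3) (ZMod 2)) (by simpa using h4) (ZMod.card 7)
    exact .inr (.inr (.inr (.inl ⟨e.trans e'.symm⟩)))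
  · exact .inr (.inr (.inr (.inr (S0497.result b))))

end Cfsg.Agent.S3035
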