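import Cfsg.Statements.S3036
import Cfsg.Agent.Lib.Transfer.CD

set_option autoImplicit false
open Cfsg

namespace Cfsg.Agent.S3036

set_option linter.unusedSectionVars false
set_option linter.unusedVariables false
set_option linter.style.haveILetI false
set_option linter.unusedSimpArgs false

open Subgroup Transfer MS CD

/-- Let G be a finite non-abelian simple group and A a proper nontrivial subgroup of G. Then |G| > |A| · |C_G(A)|. In particular |G| > |A|² for every nontrivial abelian subgroup A of G. -/
theorem result {G : Type*} [Group G] [Finite G] [IsSimpleGroup G] (hG : ¬ IsMulCommutative G) (A : Subgroup G) (hA1 : A ≠ ⊥) (hA2 : A ≠ ⊤) : Nat.card A * Nat.card ↥(Subgroup.centralizer (A : Set G)) < Nat.card G := by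
  by_contra h
  obtain ⟨R, hR⟩ := exists_large (G := G)
  have h1 : #R * #(CC R) = _ := hR
  have hc : center G = ⊥ := by
    rcases (inferInstance : (center G).Normal).eq_bot_or_eq_top with h | h
    · exact h
    · exact absurd ⟨⟨fun a b => (mem_center_iff.1 (h.ge (mem_top b)) a)⟩⟩ hG
  have h2 : maxCentralizerProduct G = #G := by
    rw [← h1]
    rcases large_trivial hR with rfl | rfl
    · rw [cc_bot]; simp
    · rw [coe_top, centralizer_univ, hc]; simp
  rcases large_trivial (large_of_le (Q := A) (h2.le.trans (not_lt.1 h))) with h | h
  · exact hA1 h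
  · exact hA2 h

end Cfsg.Agent.S3036
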