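import Cfsg.Statements.S3037
import Cfsg.Agent.Lib.Transfer.CD

set_option autoImplicit false
open Cfsg

namespace Cfsg.Agent.S3037

set_option linter.unusedSectionVars false
set_option linter.unusedVariables false
set_option linter.style.haveILetI false
set_option linter.unusedSimpArgs false

open Subgroup Transfer MS

/-- Let V and G be subgroups of a finite group with V an elementary abelian p-group (p prime) on which G acts faithfully and irreducibly by conjugation: G normalizes V, G ∩ C(V) = 1, and the only subgroups of V normalized by G are 1 and V. If for some nontrivial subgroup A of G and some real α > 0 one has |V| ≤ |A|^α · |C_V(A)|, then |V| ≤ |G|^α. -/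
theorem result {X : Type*} [Group X] [Finite X] {p : ℕ} [Fact p.Prime] (V G : Subgroup X) (hV : Cfsg.IsElementaryAbelian p V)
    (hGV : G ≤ Subgroup.normalizer (V : Set X)) (hfaith : G ⊓ Subgroup.centralizer (V : Set X) = ⊥)
    (hirr : ∀ W : Subgroup X, W ≤ V → G ≤ Subgroup.normalizer (W : Set X) → W = ⊥ ∨ W = V)
    (A : Subgroup X) (hA : A ≤ G) (hA1 : A ≠ ⊥) (α : ℝ) (hα : 0 < α)
    (hbig : (Nat.card V : ℝ) ≤ (Nat.card A : ℝ) ^ α * (Nat.card ↥(V ⊓ Subgroup.centralizer (A : Set X)) : ℝ)) :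
    (Nat.card V : ℝ) ≤ (Nat.card G : ℝ) ^ α := by
  set m : Subgroup X → ℝ := fun B => (#B : ℝ) ^ α * (#(V ⊓ CC B : Subgroup X) : ℝ) with hm
  have mpos : ∀ B, 0 < m B := fun B =>
    mul_pos (Real.rpow_pos_of_pos (by exact_mod_cast card_pos' B) _) (by exact_mod_cast card_pos' _)
  obtain ⟨B, hB, hmax⟩ := (Set.toFinite {B : Subgroup X | B ≤ G}).exists_maximalFor m _ ⟨A, hA⟩
  have hmax' : ∀ C ≤ G, m C ≤ m B := fun C hC => le_of_not_gt fun h => absurd (hmax hC h.le) (not_le.2 h)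
  have m0 : m ⊥ = #V := by simp only [hm]; rw [cc_bot, inf_top_eq]; simp
  obtain ⟨A₀, h1, h2, h3⟩ : ∃ A₀ ≤ G, A₀ ≠ ⊥ ∧ m B ≤ m A₀ := by
    by_cases h : B = ⊥
    · exact ⟨A, hA, hA1, by rw [h, m0]; exact hbig⟩
    · exact ⟨B, hB, h, le_rfl⟩
  obtain ⟨M, k1, k2⟩ := (Set.toFinite {C : Subgroup X | C ≤ G ∧ m B ≤ m C}).exists_le_maximal (a := A₀) ⟨h1, h3⟩
  have sup : ∀ C D : Subgroup X, m C * m D ≤ m (C ⊔ D) * m (C ⊓ D) := fun C D => by
    have e1 := Comp.card_mul_card_le (le_sup_left : C ≤ C ⊔ D) le_sup_right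
    have e2 := Comp.card_mul_card_le (K := V ⊓ CC (C ⊓ D)) (inf_le_inf_left V (cc_anti inf_le_left))
      (inf_le_inf_left V (cc_anti inf_le_right))
    rw [← inf_inf_distrib_left, ← cc_sup] at e2
    have e3 : ((#C : ℝ) * #D) ^ α ≤ ((#(C ⊔ D : Subgroup X) : ℝ) * #(C ⊓ D : Subgroup X)) ^ α :=
      Real.rpow_le_rpow (by positivity) (by exact_mod_cast e1) hα.le
    rw [Real.mul_rpow (by positivity) (by positivity), Real.mul_rpow (by positivity) (by positivity)] at e3
    have e4 : (#(V ⊓ CC C : Subgroup X) : ℝ) * #(V ⊓ CC D : Subgroup X) ≤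
      (#(V ⊓ CC (C ⊓ D) : Subgroup X) : ℝ) * #(V ⊓ CC (C ⊔ D) : Subgroup X) := by exact_mod_cast e2
    have := mul_le_mul e3 e4 (by positivity) (by positivity)
    simp only [hm]
    linarith
  have hn : G ≤ NN M := fun g hg => by
    refine mem_normalizer_of_cj_le (le_sup_right.trans (k2.2 (y := M ⊔ cj g M)
      ⟨sup_le k2.1.1 (cj_le' k2.1.1 hg), ?_⟩ le_sup_left))
    have e : m (cj g M) = m M := by
      simp only [hm]
      rw [card_cj, ← cj_centralizer, ← card_cj g (V ⊓ CC M), cj_inf, cj_nn (hGV hg)]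
    have s := sup M (cj g M)
    rw [e] at s
    have s2 := hmax' (M ⊓ cj g M) (inf_le_left.trans k2.1.1)
    refine le_of_mul_le_mul_right ?_ (mpos B)
    exact (mul_le_mul k2.1.2 k2.1.2 (mpos B).le (mpos M).le).trans (s.trans
      (mul_le_mul_of_nonneg_left s2 (mpos _).le))
  rcases hirr (V ⊓ CC M) inf_le_left (nn_inf hGV (nn_cc hn)) with h | h
  · have e : m M = (#M : ℝ) ^ α := by simp only [hm]; rw [h]; simp
    calc (#V : ℝ) = m ⊥ := m0.symm
      _ ≤ m M := (hmax' _ bot_le).trans k2.1.2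
      _ ≤ _ := e ▸ Real.rpow_le_rpow (by positivity) (by exact_mod_cast card_le_of_le k2.1.1) hα.le
  · exact absurd (eq_bot_of_le hfaith h1 (k1.trans (cc_symm (h.ge.trans inf_le_right)))) h2

end Cfsg.Agent.S3037
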