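import Cfsg.Statements.S3049
import Cfsg.Agent.Lib.BG.Isol

set_option autoImplicit false
open Cfsg

namespace Cfsg.Agent.S3049
section
open Pointwise commutatorElement Subgroup
open Cfsg.Agent.Comp Cfsg.Agent.BG Subgroup commutatorElement in
theorem aux {G : Type*} [Group G] [Finite G] {p : ℕ} [Fact p.Prime] (hp : p ≠ 2) (hrank : Cfsg.PRankLE p 2 G)
    {x z g : G} (hx : orderOf x = p) (hiso : IsIsolated x) (hz : orderOf z = p) (hxz : x ∉ zpowers z)
    (hc : Commute x z) {B : Subgroup G} (hB : IsPGroup p B) (hBx : B ≤ C1(x)) (hBz : B ≤ C1(z)) (hgz : Commute g z)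
    (hgB : g ∈ Nm(B)) (hg : (orderOf g).Coprime p) : g ∈ Ct(B) := by
  have hz1 := el_one_zpowers hz
  have mem : ∀ {u : G}, Commute u z → u ∈ Ct(zpowers z) := fun {u} h =>
    le_centralizer_iff.1 (zpowers_le.2 (le_centralizer_iff.1 (zpowers_le.2 (by
      rw [mem_centralizer_iff]; rintro _ ⟨k, rfl⟩; exact (h.symm.zpow_left k)) ) (mem_zpowers z))) (mem_zpowers u)
  have hE := hz1.sup_zpowers (mem hc) hxz (hx ▸ pow_orderOf_eq_one x)
  have hin : ∀ u ∈ B, u ^ p = 1 → u ∈ zpowers z ⊔ zpowers x := by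
    intro u hu hup
    by_contra h
    have h1 : u ∈ Ct(zpowers z ⊔ zpowers x) := by
      refine le_centralizer_iff.1 (sup_le (zpowers_le.2 ?_) (zpowers_le.2 ?_)) (mem_zpowers u) <;>
        rw [mem_centralizer_iff] <;> rintro _ ⟨k, rfl⟩
      · exact (Commute.zpow_left (mem_centralizer_singleton_iff.1 (hBz hu)) k)
      · exact (Commute.zpow_left (mem_centralizer_singleton_iff.1 (hBx hu)) k)
    have h2 := hE.sup_zpowers h1 h hup
    have h3 := hrank _ h2.comm fun a ha => h2.pow ha
    rw [h2.card] at h3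
    exact absurd ((Nat.pow_le_pow_iff_right (Fact.out : p.Prime).one_lt).1 h3) (by norm_num)
  refine Transfer.mem_centralizer_of_omega hp hg B hB hgB fun u hu hup => ?_
  by_cases h : ∀ u ∈ B, u ^ p = 1 → u ∈ zpowers z
  · obtain ⟨k, rfl⟩ := h u hu hup
    exact hgz.symm.zpow_left k
  push Not at h
  obtain ⟨v, hv, hvp, hvz⟩ := h
  have hE' := hz1.sup_zpowers (mem (mem_centralizer_singleton_iff.1 (hBz hv))) hvz hvp
  have he := hE'.eq_of_le hE (sup_le le_sup_left (zpowers_le.2 (hin v hv hvp)))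
  have h1 : cj(g, zpowers z ⊔ zpowers v) ≤ zpowers z ⊔ zpowers x := by
    rw [cj_sup, cj_zpowers, cj_zpowers, hgz.eq, mul_inv_cancel_right]
    refine sup_le le_sup_left (zpowers_le.2 (hin _ ((mem_normalizer_iff.1 hgB v).1 hv) ?_))
    rw [conj_pow, hvp]; simp
  rw [he] at h1
  have h2 := cj_le_iff'.1 h1 x (mem_sup_right (mem_zpowers x))
  have h3 : Commute g x := mul_inv_eq_iff_eq_mul.1
    (hiso g (mem_centralizer_iff.1 (hE.le_Ct h2) x (mem_sup_right (mem_zpowers x))))
  have h4 : zpowers z ⊔ zpowers x ≤ C1(g) :=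
    sup_le (zpowers_le.2 (mem_centralizer_singleton_iff.2 hgz.symm)) (zpowers_le.2 (mem_centralizer_singleton_iff.2 h3.symm))
  exact mem_centralizer_singleton_iff.1 (h4 (hin u hu hup))
end

/-- Let G be a finite group and p an odd prime with O_{p'}(G) = 1. Suppose that G has p-rank at most 2 (no elementary abelian subgroup of order p³) and that some element x of order p is isolated in G (no G-conjugate of x other than x commutes with x) and not central. Then the generalized Fitting subgroup F*(G) is a non-abelian simple group. Since O_{p'}(G) = 1, such an x is not central modulo O_{p'}(G): the hypotheses describe a counterexample to the Z*_p statement in p-rank at most 2. -/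
theorem result {G : Type*} [Group G] [Finite G] {p : ℕ} [Fact p.Prime] (hp : p ≠ 2) (hcore : Cfsg.pPrimeCore p G = ⊥)
    (hrank : Cfsg.PRankLE p 2 G) (x : G) (hx : orderOf x = p) (hiso : Cfsg.IsIsolated x) (hnc : x ∉ Subgroup.center G) :
    IsSimpleGroup ↥(Cfsg.generalizedFittingSubgroup G) ∧ ¬ IsMulCommutative ↥(Cfsg.generalizedFittingSubgroup G) := by
  open Pointwise commutatorElement Subgroup in
  open Cfsg.Agent.Comp Cfsg.Agent.BG Subgroup commutatorElement in
  have h0 : Opp p (⊤ : Subgroup G) = ⊥ := by rwa [Opp_top]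
  have hxp := isPGroup_zpowers_of_orderOf_eq hx
  obtain ⟨L, hL, hxL⟩ : ∃ L : Subgroup G, CompIn L ⊤ ∧ x ∉ Ct(L) := by
    by_contra h
    push Not at h
    obtain ⟨P, h1, hP⟩ := exists_sylIn_ge hxp (le_top : zpowers x ≤ ⊤)
    have h2 : Fstar (⊤ : Subgroup G) ≤ C1(x) := by
      refine sup_le (Lay_le_iff.2 fun K hK k hk => ?_) ?_
      · exact mem_centralizer_singleton_iff.2 (mem_centralizer_iff.1 (h K hK) k hk)
      · rw [Fit_eq_Op h0]
        exact hP.Op_le.trans (Transfer.isol_le_Ce1 hiso hP.isP (h1 (mem_zpowers x)))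
    have h3 : x ∈ Ct(Fstar (⊤ : Subgroup G)) :=
      mem_centralizer_iff.2 fun k hk => mem_centralizer_singleton_iff.1 (h2 hk)
    haveI : (Fstar (⊤ : Subgroup G)).Normal := by rw [Fstar_top]; infer_instance
    exact hnc (Isol.center_of_normal hiso (inf_centralizer_Fstar_le ⊤ ⟨mem_top x, h3⟩) h3)
  have hC : (Nat.card Ct(L)).Coprime p := by
    rw [coprime_iff_not_dvd]
    intro hd
    obtain ⟨P, h1, hP⟩ := exists_sylIn_ge hxp (zpowers_le.2 (Isol.norm_comp h0 hxp hiso hL))
    have hPx := Transfer.isol_le_Ce1 hiso hP.isP (h1 (mem_zpowers x))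
    have h2 := hP.inf_normal (centralizer_le_normalizer (L : Set G)) (Comp.le_normalizer_centralizer hP.le)
    have hR := hP.inf_normal (le_normalizer (H := L)) hP.le
    obtain ⟨z, ⟨hz1, hz2⟩, hz⟩ := exists_mem_orderOf_eq (dvd_card_of_isPGroup h2.isP fun h => h2.eq_bot_iff.1 h hd)
    have hN : HasNormalPComplement p L := by
      refine Transfer.hasNPC_sub_of_forall fun B hBL hB _ g hg hgB hgc => ?_
      obtain ⟨l, hl, hBl⟩ := hR.exists_le_cj hB hBL
      have hlz : l * z * l⁻¹ = z := by rw [mem_centralizer_iff.1 hz2 l hl, mul_inv_cancel_right]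
      refine aux hp hrank (x := l * x * l⁻¹) (z := z) (by rw [← hx]; exact (MulAut.conj l).orderOf_eq x)
        (Transfer.isol_conj hiso l) hz ?_ ?_ hB ?_ ?_ (mem_centralizer_iff.1 hz2 g hg) hgB hgc
      · intro h
        apply hxL
        have h3 : l * x * l⁻¹ ∈ cj(l, Ct(L)) := by
          rw [cj_centralizer, cj_eq_self_of_mem hl]
          exact zpowers_le.2 hz2 h
        simpa [mem_cj, mul_assoc] using h3
      · rw [← hlz]
        exact (Commute.symm (mem_centralizer_singleton_iff.1 (hPx hz1))).conj l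
      · rw [← cj_centralizer_singleton]
        exact hBl.trans (Comp.cj_mono l (inf_le_left.trans hPx))
      · exact fun b hb => mem_centralizer_singleton_iff.2 (mem_centralizer_iff.1 hz2 b (hBL hb))
    rw [hasNPC_iff_sup hR, Isol.Opp_bot hL.subn h0, bot_sup_eq] at hN
    exact hL.qs.not_isSolvable (hN ▸ isSolvable_of_isPGroup hR.isP)
  have hF : Fit (⊤ : Subgroup G) = ⊥ := by
    rw [eq_bot_iff, ← h0]
    exact (SubnIn.of_normalizer le_top (le_normalizer_Fit_of_le le_rfl)).le_Opp (coprime_of_le hC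
      ((Fit_le_centralizer_Lay ⊤).trans (centralizer_le (show L ≤ _ from hL.le_Lay))))
  have hE : Lay (⊤ : Subgroup G) = L := by
    refine le_antisymm (Lay_le_iff.2 fun K hK => ?_) hL.le_Lay
    by_contra h
    exact hK.qs.ne_bot (le_bot_iff.1 (h0 ▸ hK.subn.le_Opp
      (coprime_of_le hC (hK.le_centralizer_of_ne hL fun h' => h h'.le))))
  rw [← Fstar_top, Fstar, hE, hF, sup_bot_eq]
  refine ⟨hL.qs.isSimpleGroup ?_, fun h => hL.qs.not_le_centralizer (le_centralizer_iff_isMulCommutative.2 h)⟩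
  rw [eq_bot_iff, ← hF, ← hE]
  exact center_Lay_le_Fit ⊤

end Cfsg.Agent.S3049
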