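import Cfsg.Statements.S3053
import Cfsg.Agent.Lib.Transfer.Ext
import Cfsg.Agent.Lib.BG.Pgp
import Cfsg.Agent.Lib.Transfer.ZJ

set_option autoImplicit false
open Cfsg

namespace Cfsg.Agent.S3053

set_option linter.unusedSectionVars false
set_option linter.unusedVariables false
set_option linter.style.haveILetI false
set_option linter.unusedSimpArgs false

open Subgroup Transfer MS
open scoped commutatorElement

/-- Let p be an odd prime and G a finite group with a Sylow p-subgroup P that is extraspecial of order p³ and exponent p². Then the centre of P is strongly closed in P with respect to G: a G-conjugate of an element of Z(P) that lies in P already lies in Z(P). In particular a nontrivial central element of P is conjugate in G to no noncentral element of P. -/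
theorem result {G : Type*} [Group G] [Finite G]
    {p : ℕ} [Fact p.Prime] (hp : p ≠ 2) (P : Sylow p G) (hE : Cfsg.IsExtraspecial p ↥P)
    (hcard : Nat.card P = p ^ 3) (hexp : Monoid.exponent ↥P = p ^ 2) :
    Cfsg.IsStronglyClosed ((Subgroup.center ↥P).map (P : Subgroup G).subtype) (P : Subgroup G) := by
  obtain ⟨z', h'⟩ := ES.of_extraspecial hE
  have hp' : p.Prime := Fact.out
  have esm : ∀ {z' : P}, ES p z' ⊤ → ES p (z' : G) P := fun {z'} h' => by
    refine ⟨by rw [Subgroup.orderOf_coe, h'.ord], ?_, ?_, fun h hh => ?_⟩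
    · rw [← Comp.map_center_subtype, ← centralizer_univ, ← coe_top, ← top_inf_eq (CC (⊤ : Subgroup P)), h'.cen,
        MonoidHom.map_zpowers]; rfl
    · have := map_mono (f := (P : Subgroup G).subtype) h'.der
      rwa [map_commutator, Comp.map_subtype_top, MonoidHom.map_zpowers] at this
    · have := mem_map_of_mem (P : Subgroup G).subtype (h'.pw ⟨h, hh⟩ (mem_top _))
      rwa [MonoidHom.map_zpowers] at this
  have h0 := esm h'
  have inv_conj_pow : ∀ (a b : G) (n : ℕ), (a⁻¹ * b * a) ^ n = a⁻¹ * b ^ n * a := fun a b n => by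
    simpa using conj_pow (a := a⁻¹) (b := b) (i := n)
  erw [Comp.map_center_subtype]
  refine ⟨inf_le_left, fun z hz g hg => ?_⟩
  by_contra hx
  have z1 : z ≠ 1 := by rintro rfl; exact hx (by simp)
  have ez : zpowers z = zpowers (z' : G) := prime_eq_zpowers (by rwa [h0.card_z]) (h0.cen.le hz) z1
  have h : ES p z P := ⟨by rw [← Nat.card_zpowers, ez, h0.card_z], ez ▸ h0.cen, ez ▸ h0.der, ez ▸ h0.pw⟩
  have cjES : ∀ c : G, ES p (c * z * c⁻¹) (cj c P) := fun c =>
    ⟨by rw [orderOf_conj, h.ord], by rw [← cj_centralizer, ← cj_inf, h.cen, cj_zpowers],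
      by rw [← cj_commutator, ← cj_zpowers]; exact cj_mono _ h.der, fun y hy => by
        rw [← cj_zpowers, mem_cj, ← inv_conj_pow]; exact h.pw _ (mem_cj.1 hy)⟩
  set x := g * z * g⁻¹ with hx0
  have xz : x ∉ zpowers z := h.cen ▸ hx
  have xo : orderOf x = p := by rw [orderOf_conj, h.ord]
  have cxz : z ∈ C1 x := cc_le_C1 hg hz.2
  set A := zpowers x ⊔ zpowers z with hA
  have AP : A ≤ P := sup_le (zpowers_le.2 hg) (zpowers_le.2 hz.1)
  have Ax : A ≤ C1 x := sup_le (zpowers_le.2 (self_mem_C1 x)) (zpowers_le.2 cxz)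
  have Az : A ≤ C1 z := AP.trans (le_C1_iff.2 hz.2)
  have dis : zpowers x ⊓ zpowers z = ⊥ := prime_inf (by rwa [Nat.card_zpowers, xo]) (by rwa [zpowers_le])
  have Ac : #A = p * p := by
    rw [card_sup_l (nn_of_cc (by rw [cc_zpowers]; exact zpowers_le.2 cxz)) dis, h.card_z, Nat.card_zpowers, xo]
  have CA : (P : Subgroup G) ⊓ CC A = A := by
    refine (eq_of_card_le (le_inf AP (by rw [cc_sup, cc_zpowers, cc_zpowers]; exact le_inf Ax Az)) ?_).symm
    have e := card_inf_mul_relIndex (C1 x) (P : Subgroup G)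
    rw [relIndex_C1_eq h.card_z (h.cen.ge.trans inf_le_right) (fun y hy => h.der (commutator_mem_commutator hy hg))
      (fun k => hx ⟨hg, le_C1_iff.1 k⟩), hcard, pow_succ] at e
    rw [Ac, ← pow_two, ← Nat.eq_of_mul_eq_mul_right hp'.pos e, inf_comm]
    exact card_le_of_le (inf_le_inf_right _ (cc_le_C1 (mem_sup_left (mem_zpowers x))))
  obtain ⟨c, hc, hc2⟩ := (((isSyl_top P).cj g).mono (le_C1_iff.2 (cjES g).mem.2) (by simp)).exists_cj_le
    (P.2.to_le AP) Ax
  have h1 := cjES (c⁻¹ * g)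
  rw [show c⁻¹ * g * z * (c⁻¹ * g)⁻¹ = x by
    refine Eq.trans ?_ (conj_eq_of_C1 (inv_mem hc)); rw [hx0]; group, ← cj_cj] at h1
  rw [cj_le_iff_le_cj_inv] at hc2
  obtain ⟨y, hy, ey⟩ := h.exists_pair hg xz
  obtain ⟨v, hv, ev⟩ := h1.exists_pair (hc2 (mem_sup_right (mem_zpowers z)))
    fun k => z1 (eq_one_of_inf dis k (mem_zpowers z))
  have a1 : y * z * y⁻¹ = z := conj_eq_of_C1 (le_C1_iff.2 hz.2 hy)
  have a2 : y * x * y⁻¹ = z⁻¹ * x := by rw [← ey, commutatorElement_def]; group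
  have a3 : v⁻¹ * x * v = x := by
    have := conj_eq_of_C1 (inv_mem (le_C1_iff.2 h1.mem.2 hv)); rwa [inv_inv] at this
  have a4 : v⁻¹ * z * v = x * z := by
    have : z = x * (v * z * v⁻¹) := by rw [← ev, commutatorElement_def]; group
    calc v⁻¹ * z * v = v⁻¹ * (x * (v * z * v⁻¹)) * v := by rw [← this]
      _ = (v⁻¹ * x * v) * z := by group
      _ = _ := by rw [a3]
  have cm : z * x = x * z := mem_C1.1 cxz
  set w := y * v⁻¹ * y with hw
  have w1 : w * x * w⁻¹ = z⁻¹ := by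
    calc w * x * w⁻¹ = y * (v⁻¹ * (y * x * y⁻¹) * v) * y⁻¹ := by rw [hw]; group
      _ = y * ((v⁻¹ * z * v)⁻¹ * (v⁻¹ * x * v)) * y⁻¹ := by rw [a2]; group
      _ = (y * z * y⁻¹)⁻¹ := by rw [a3, a4]; group
      _ = _ := by rw [a1]
  have w2 : w * z * w⁻¹ = x := by
    calc w * z * w⁻¹ = y * (v⁻¹ * (y * z * y⁻¹) * v) * y⁻¹ := by rw [hw]; group
      _ = y * (x * z) * y⁻¹ := by rw [a1, a4]
      _ = (y * x * y⁻¹) * (y * z * y⁻¹) := by simp only [mul_assoc, inv_mul_cancel_left]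
      _ = _ := by rw [a1, a2, mul_assoc, ← cm]; group
  have t1 : w * w * x * (w * w)⁻¹ = x⁻¹ := by
    calc w * w * x * (w * w)⁻¹ = w * (w * x * w⁻¹) * w⁻¹ := by group
      _ = (w * z * w⁻¹)⁻¹ := by rw [w1]; group
      _ = _ := by rw [w2]
  have t2 : w * w * z * (w * w)⁻¹ = z⁻¹ := by
    calc w * w * z * (w * w)⁻¹ = w * (w * z * w⁻¹) * w⁻¹ := by group
      _ = _ := by rw [w2, w1]
  generalize w * w = t at t1 t2
  have abA : IsMulCommutative A := ab_iff.2 (CA.ge.trans inf_le_right)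
  have nA : (P : Subgroup G) ≤ NN A := nn_of_der_le (h.der.trans le_sup_right) AP
  have inv : ∀ a ∈ A, t * a * t⁻¹ = a⁻¹ := by
    intro a ha
    obtain ⟨a, ⟨i, rfl⟩, b, ⟨j, rfl⟩, rfl⟩ := (mem_sup_l (ab_nn abA le_sup_right le_sup_left)).1 ha
    simp only
    calc t * (x ^ i * z ^ j) * t⁻¹ = (t * x * t⁻¹) ^ i * (t * z * t⁻¹) ^ j := by
          rw [conj_zpow (a := t) (b := x), conj_zpow (a := t) (b := z)]; simp only [mul_assoc, inv_mul_cancel_left]
      _ = _ := by rw [t1, t2, ← (Commute.zpow_zpow cm j i).eq]; group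
  have comm : ∀ s : G, (∀ a ∈ A, s * a * s⁻¹ = a⁻¹) → ∀ u ∈ (P : Subgroup G), s * u * s⁻¹ * u⁻¹ ∈ CC A := by
    intro s hs u hu
    refine mem_CC.2 fun a ha => (mem_C1.1 (mem_C1_of_conj ?_)).symm
    have k4 : s⁻¹ * (u⁻¹ * a * u) * s = (u⁻¹ * a * u)⁻¹ := by
      conv_lhs => rw [← inv_inv (u⁻¹ * a * u), ← hs _ (inv_conj_mem_of_mem_normalizer (nA hu) ha)]
      group
    calc s * u * s⁻¹ * u⁻¹ * a * (s * u * s⁻¹ * u⁻¹)⁻¹ = s * u * (s⁻¹ * (u⁻¹ * a * u) * s) * u⁻¹ * s⁻¹ := by group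
      _ = (s * a * s⁻¹)⁻¹ := by rw [k4]; group
      _ = _ := by rw [hs a ha, inv_inv]
  have tA : t ∈ NN A := mem_normalizer_of_conj_mem fun a ha => by rw [inv a ha]; exact inv_mem ha
  have tn : t ∈ NN (CC A ⊔ P : Subgroup G) := mem_normalizer_of_cj_le (by
    rw [cj_sup, cj_nn (mem_normalizer_centralizer tA)]
    refine sup_le le_sup_left (cj_le_iff.2 fun u hu => ?_)
    rw [show t * u * t⁻¹ = t * u * t⁻¹ * u⁻¹ * u by group]
    exact mul_mem (mem_sup_left (comm t inv u hu)) (mem_sup_right hu))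
  obtain ⟨k, hk, n, hn, rfl⟩ := ((isSyl_top P).mono le_sup_right le_top).frattini tn
  obtain ⟨d, hd, s, hs, rfl⟩ := (mem_sup_l (nn_cc nA)).1 hk
  have sn : s * n ∈ NN (P : Subgroup G) := mul_mem (le_nn _ hs) hn
  have inv' : ∀ a ∈ A, s * n * a * (s * n)⁻¹ = a⁻¹ := fun a ha => by
    calc s * n * a * (s * n)⁻¹ = d⁻¹ * (d * s * n * a * (d * s * n)⁻¹) * d⁻¹⁻¹ := by group
      _ = _ := by rw [inv a ha, conj_eq_of_cc (inv_mem hd) (inv_mem ha)]
  generalize s * n = r at sn inv'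
  have Ap : ∀ a ∈ A, a ^ p = 1 := by
    intro a ha
    obtain ⟨a, ⟨i, rfl⟩, b, ⟨j, rfl⟩, rfl⟩ := (mem_sup_l (ab_nn abA le_sup_right le_sup_left)).1 ha
    simp only
    rw [(Commute.zpow_zpow cm j i).symm.mul_pow, ← zpow_natCast, ← zpow_natCast, ← zpow_mul, ← zpow_mul,
      mul_comm i, mul_comm j, zpow_mul, zpow_mul, zpow_natCast, zpow_natCast, ← xo, pow_orderOf_eq_one, xo, ← h.ord,
      pow_orderOf_eq_one]
    simp
  have : Monoid.exponent P ∣ p := Monoid.exponent_dvd_of_forall_pow_eq_one fun u => Subtype.ext (by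
    obtain ⟨u, hu'⟩ := u
    have hu : u ∈ (P : Subgroup G) := hu'
    show u ^ p = 1
    have m1 : r * u * r⁻¹ * u⁻¹ ∈ A :=
      CA.le ⟨(P : Subgroup G).mul_mem (conj_mem_of_mem_normalizer sn hu) ((P : Subgroup G).inv_mem hu), comm r inv' u hu⟩
    have m2 := h.der (commutator_mem_commutator ((P : Subgroup G).inv_mem hu) (inv_mem (AP m1)))
    have m3 := (h.cen.ge m2).2
    have m4 := BG.mul_pow_of_class2 hp (mem_CC.1 m3 _ (AP m1)).symm (mem_CC.1 m3 _ hu).symm
      (Ap _ (mem_sup_right m2))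
    rw [Ap _ m1, one_mul, inv_mul_cancel_right, conj_pow, inv' _ (mem_sup_right (h.pw u hu))] at m4
    exact eq_one_of_sq_of_isPGroup hp P.2 (pow_mem hu p) (by rw [pow_two]; exact mul_eq_one_iff_inv_eq.2 m4))
  erw [hexp, pow_two] at this
  exact absurd (Nat.le_of_dvd hp'.pos this) (by nlinarith [hp'.two_le])

end Cfsg.Agent.S3053
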