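import Cfsg.Statements.S3057
import Cfsg.Agent.Lib.Comp.SPE

set_option autoImplicit false
open Cfsg

namespace Cfsg.Agent.S3057

open Cfsg.Agent.Comp Subgroup

/-- Let p be a prime and G a finite p-solvable group of order divisible by p, with Sylow p-subgroup P. Then the Sylow p-subgroups of G fail to be chain-connected through nontrivial intersections (equivalently, G has a strongly p-embedded subgroup) if and only if O_p(G) = 1 and P is cyclic or, for p = 2, generalized quaternion. -/
theorem result {G : Type*} [Group G] [Finite G]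
    (p : ℕ) [Fact p.Prime] (hdiv : p ∣ Nat.card G) (hsol : Cfsg.IsPSolvable p G) (P : Sylow p G) :
    ¬ Cfsg.IsSylowChainConnected p G ↔
      Cfsg.pCore p G = ⊥ ∧ (IsCyclic ↥P ∨ (p = 2 ∧ ∃ n : ℕ, Nonempty (↥P ≃* QuaternionGroup (2 ^ n)))) := by
  rw [not_isSylowChainConnected_iff, ← Op_top]
  have hP1 : (P : Subgroup G) ≠ ⊥ := fun e => (sylIn_top P).eq_bot_iff.1 e (by rwa [card_top])
  constructor
  · rintro ⟨H, h⟩
    refine ⟨h.Op_eq_bot, (rankOne_or_exists_elementary P.isPGroup').resolve_right ?_⟩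
    rintro ⟨E, a, b, c⟩
    obtain ⟨Q, a', b', -⟩ := h.exists_sylIn
    obtain ⟨g, -, e⟩ := a'.exists_cj_eq (sylIn_top P)
    have h' := h.cj g
    rw [cj_top] at h'
    have hO := h'.le_of_elementary b c.ge (a.trans (e.ge.trans (cj_mono g b'))) le_top
      (coprime_pPrimeCore p) (le_normalizer_normal _ _)
    have h2 := h'.map (QuotientGroup.mk' (pPrimeCore p G)) (by simpa using hO)
      (by simpa using coprime_pPrimeCore p)
    have h3 := ((pSol_top_of_isPSolvable hsol).map (QuotientGroup.mk' (pPrimeCore p G))).charP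
      (Opp_map_eq_bot _ top_inf_ker_mk_pPrimeCore)
    exact h3.Op_ne_bot (fun e => h2.not_le (e ▸ bot_le)) h2.Op_eq_bot
  · rintro ⟨h1, h2⟩
    have h : RankOne p (P : Subgroup G) := h2.elim rankOne_of_isCyclic
      fun ⟨_, _, ⟨e⟩⟩ => (rankOne_of_quaternion P.isPGroup' e).2
    exact ⟨_, h.spe (sylIn_top P) hP1 h1⟩

end Cfsg.Agent.S3057
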