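import Cfsg.Statements.S3058
import Cfsg.Agent.Lib.Comp.SPE

set_option autoImplicit false
open Cfsg

namespace Cfsg.Agent.S3058

open Cfsg.Agent.Comp Subgroup

/-- Let p be a prime and G a finite group whose Sylow p-subgroups are not chain-connected through nontrivial intersections (so G has a strongly p-embedded subgroup). If N and M are normal subgroups of G whose orders are both divisible by p, then the order of N ∩ M is divisible by p. Consequently, among the normal subgroups of G whose order is divisible by p there is a smallest one (the intersection of all of them). -/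
theorem result {G : Type*} [Group G] [Finite G]
    (p : ℕ) [Fact p.Prime] (hG : ¬ Cfsg.IsSylowChainConnected p G)
    (N M : Subgroup G) [N.Normal] [M.Normal] (hN : p ∣ Nat.card N) (hM : p ∣ Nat.card M) :
    p ∣ Nat.card ↥(N ⊓ M) := by
  obtain ⟨H, h⟩ := not_isSylowChainConnected_iff.1 hG
  obtain ⟨P, a, b, -⟩ := h.exists_sylIn
  have key : ∀ (K : Subgroup G) [K.Normal], p ∣ Nat.card K →
      ∃ z ∈ P ⊓ K, orderOf z = p ∧ P ≤ centralizer ({z} : Set G) := fun K _ hK => by
    have := a.inf_normal (le_top : K ≤ ⊤) (le_normalizer_normal _ _)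
    exact exists_fixed_orderOf a.isP this.isP (le_normalizer_inf le_normalizer
      (le_normalizer_normal _ _)) fun e => this.eq_bot_iff.1 e hK
  obtain ⟨x, hx, hx1, hx2⟩ := key N hN
  obtain ⟨y, hy, hy1, -⟩ := key M hM
  by_contra hn
  have hc := coprime_iff_not_dvd.2 hn
  have hxy := zpowers_le_centralizer_iff.2 ((zpowers_le.2 hy.1).trans hx2)
  have h0 : zpowers x ⊓ zpowers y = ⊥ := eq_bot_of_isPGroup_of_coprime
    ((isPGroup_zpowers_of_orderOf_eq hx1).to_le inf_le_left)
    (coprime_of_le hc (inf_le_inf (zpowers_le.2 hx.2) (zpowers_le.2 hy.2)))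
  have h1 := card_sup_mul_card_inf (le_normalizer_of_le_centralizer hxy)
  rw [h0, Nat.card_zpowers, Nat.card_zpowers, hx1, hy1, card_bot, mul_one, ← sq] at h1
  have h2 := h.le_of_elementary (IsElementaryAbelian.sup
    (isElementaryAbelian_zpowers (hx1 ▸ pow_orderOf_eq_one x))
    (isElementaryAbelian_zpowers (hy1 ▸ pow_orderOf_eq_one y)) hxy) h1.ge
    (sup_le (zpowers_le.2 (b hx.1)) (zpowers_le.2 (b hy.1))) le_top hc (le_normalizer_normal _ _)
  refine h.not_dvd_of_normal (fun n hn => h.mem y (b hy.1) hy1 n (mem_top n) ?_)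
    (le_normalizer_normal _ _) hN
  have : n * y * n⁻¹ * y⁻¹ ∈ N ⊓ M := mem_inf.2 ⟨by
    simpa [mul_assoc] using mul_mem hn (‹N.Normal›.conj_mem _ (inv_mem hn) y),
    mul_mem (‹M.Normal›.conj_mem _ hy.2 n) (inv_mem hy.2)⟩
  simpa using mul_mem (h2 this) (b hy.1)

end Cfsg.Agent.S3058
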