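import Cfsg.Statements.S3060
import Cfsg.Agent.Lib.Transfer.CD2
import Cfsg.Agent.Lib.Transfer.Stab

set_option autoImplicit false
open Cfsg

namespace Cfsg.Agent.S3060

open Subgroup Transfer Transfer.CD
open scoped commutatorElement

/-- The D*-Theorem. For a finite p-group S let D*(S) be the subgroup generated by the abelian subgroups A of S such that every x ∈ S with ⟨A, x⟩ of nilpotency class at most two centralizes A. Let p be an odd prime and H a finite p-stable group with Sylow p-subgroup S. Here H is p-stable in the following sense: the largest normal p-subgroup O_p(H) contains its centralizer in H, and for every normal p-subgroup P of H, every element acting quadratically on P has image in O_p(H/C_H(P)). Then D*(S) is a normal subgroup of H. -/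
theorem result {G : Type*} [Group G] [Finite G] {p : ℕ} [Fact p.Prime] (hp : p ≠ 2)
    (hc : Subgroup.centralizer (Cfsg.pCore p G : Set G) ≤ Cfsg.pCore p G)
    (hst : ∀ (P : Subgroup G) [P.Normal], IsPGroup p P → Cfsg.IsPStableOn p P) (S : Sylow p G) :
    (Cfsg.dStarOf (S : Subgroup G)).Normal := by
  have := S.2.isNilpotent
  have hD := dstar_mem (G := S.1)
  have hn : S.1 ≤ normalizer (dStarOf S.1 : Set G) := fun x hx =>
    le_normalizer_map _ ⟨⟨x, hx⟩, (normalizer_eq_top_iff.2 dstar_normal).ge trivial, rfl⟩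
  have hab : IsMulCommutative (dStarOf S.1) := by have := hD.1; unfold dStarOf; infer_instance
  have hQ := Solv.pCore_le_sylow S
  have hO := Solv.isPGroup_pCore p G
  have h1 : dStarOf S.1 ≤ pCore p G := fun a ha => by
    have h2 := (IsPStableOn.res_le (hst _ hO) (quad_mono le_rfl (zpowers_le.2 ha)
      (commutator_eq_bot_iff_le_centralizer.2 ((Comp.commutator_le_right_of_le_normalizer
        (hQ.trans hn)).trans (comm_iff_le_centralizer.1 hab))))).trans hc
    rw [mem_pCore_iff_normalClosure, isPGroup_iff_res_eq_bot, ← res_res]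
    exact res_eq_bot_of_isPGroup (hO.to_le h2)
  have h2 : ∀ g, cj g (dStarOf S.1) ≤ pCore p G := fun g =>
    (cj_mono g h1).trans (cj_eq_of_normal g _).le
  have key : ∀ x, (∀ g, g⁻¹ * x * g ∈ centralizer (dStarOf S.1 : Set G)) →
      x ∈ centralizer (normalClosure (dStarOf S.1 : Set G) : Set G) := fun x h =>
    Solv.zpowers_le_centralizer_iff.1 (le_centralizer_iff.1 ((closure_le _).2 fun y hy => by
      obtain ⟨a, ha, c⟩ := Group.mem_conjugatesOfSet_iff.1 hy
      obtain ⟨g, rfl⟩ := isConj_iff.1 c
      refine le_centralizer_iff.1 (Solv.zpowers_le_centralizer_iff.2 ?_) (conj_mem_cj ha)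
      rw [← cj_centralizer]; exact mem_cj.2 (h g)))
  have hW : IsMulCommutative (normalClosure (dStarOf S.1 : Set G)) := by
    refine comm_iff_le_centralizer.2 (normalClosure_le_normal fun x hx => key x fun g y hy => ?_)
    have h3 := dfam_cc (B := (cj g⁻¹ (dStarOf S.1)).subgroupOf S) hD
      (elem_subgroupOf (elem_cj (elem_zero.2 hab) g⁻¹) _).1 fun z hz =>
        mem_normalizer_of_conj_mem fun w hw => Transfer.conj_mem_of_mem_normalizer
          (H := cj g⁻¹ (dStarOf S.1)) (by
            rw [← cj_normalizer]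
            exact (cj_eq_of_normal g⁻¹ _).ge.trans (cj_mono _ (hQ.trans hn)) (h1 ⟨z, hz, rfl⟩)) hw
    obtain ⟨y, hy, rfl⟩ := hy
    have h4 : g⁻¹ * x * g ∈ cj g⁻¹ (dStarOf S.1) := by simpa using conj_mem_cj (g := g⁻¹) hx
    exact (congrArg Subtype.val (h3 hy ⟨_, hQ (h2 _ h4)⟩ h4)).symm
  have hWO : normalClosure (dStarOf S.1 : Set G) ≤ pCore p G := normalClosure_le_normal h1
  rw [le_antisymm le_normalClosure (fun x hx => ⟨⟨x, hQ (hWO hx)⟩, le_sSup (s := dStarFamily S.1)
    (a := (normalClosure (dStarOf S.1 : Set G)).subgroupOf S)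
    ⟨(elem_subgroupOf (elem_zero.2 hW) _).1, fun x hx a ha => Subtype.ext (key x (fun g => ?_) a ha)⟩
    hx, rfl⟩ : normalClosure (dStarOf S.1 : Set G) ≤ dStarOf S.1)]
  · infer_instance
  have h3 := congrArg (map S.1.subtype) hx
  rw [map_commutator, map_commutator, Subgroup.map_sup, map_subgroupOf_eq_of_le (hWO.trans hQ),
    MonoidHom.map_zpowers, Subgroup.map_bot] at h3
  obtain ⟨c, hc, s, hs, e, h4⟩ := quad_conj_split (hst _ (hO.to_le hWO)) S (a := x) (eq_bot_iff.2
    (le_trans (commutator_mono (commutator_mono le_sup_left le_sup_right) le_sup_right) h3.le)) g⁻¹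
  rw [inv_inv] at e
  rw [e]
  refine mul_mem (centralizer_le le_normalClosure hc) ?_
  rintro _ ⟨a, ha, rfl⟩
  refine congrArg Subtype.val (hD.2 ⟨s, hs⟩ ((map_eq_bot_iff_of_injective _
    S.1.subtype_injective).1 ?_) a ha)
  rw [map_commutator, map_commutator, Subgroup.map_sup, MonoidHom.map_zpowers]
  refine class2_of (C := ⁅normalClosure (dStarOf S.1 : Set G), zpowers s⁆) hab
    (le_normalClosure.trans ((comm_iff_le_centralizer.1 hW).trans (centralizer_le
      (commutator_le_left _ _)))) (Solv.zpowers_le_centralizer_iff.1 (le_centralizer_iff.1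
        (commutator_eq_bot_iff_le_centralizer.1 h4))) fun a ha => ?_
  rw [commutator_comm]
  exact commutator_mem_commutator (mem_zpowers s) (le_normalClosure ha)

end Cfsg.Agent.S3060
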