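import Cfsg.Statements.S3062
import Cfsg.Agent.Lib.Transfer.CD2

set_option autoImplicit false
open Cfsg

namespace Cfsg.Agent.S3062

set_option linter.unusedSectionVars false
set_option linter.unusedVariables false
set_option linter.style.haveILetI false
set_option linter.unusedSimpArgs false

open Subgroup Transfer MS CD

/-- Let S be a finite p-group, J(S) the subgroup generated by the abelian subgroups of S of largest order and Z(J(S)) its centre. Then Z(S) ≤ D*(S) ≤ Z(J(S)), and every maximal normal abelian subgroup of S contains D*(S). -/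
theorem result {S : Type*} [Group S] [Finite S] {p : ℕ} [Fact p.Prime]
    (hS : IsPGroup p S) :
    Subgroup.center S ≤ Cfsg.dStar S ∧
    Cfsg.dStar S ≤ Cfsg.thompsonSubgroupA S ⊓ Subgroup.centralizer (Cfsg.thompsonSubgroupA S : Set S) ∧
    ∀ A : Subgroup S, A.Normal → IsMulCommutative A →
      (∀ B : Subgroup S, B.Normal → IsMulCommutative B → A ≤ B → B = A) → Cfsg.dStar S ≤ A := by
  have := hS.isNilpotent
  have hn := dstar_normal (G := S)
  obtain ⟨A, hA⟩ := exists_maxAb (G := S)
  refine ⟨le_sSup ⟨inferInstance, fun x _ a ha => (mem_center_iff.1 ha x).symm⟩,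
    le_inf ((dfam_maxAb dstar_mem hA nn_normal).trans (le_sSup hA)) (cc_symm (sSup_le fun B hB => ?_)),
    fun B h1 h2 h3 => ?_⟩
  · exact ab_le_cc hB.1 le_rfl (dfam_maxAb dstar_mem hB nn_normal)
  · obtain ⟨C, h4, h5⟩ := BG.exists_scn_ge (P := (⊤ : Subgroup S)) (B := B) inferInstance le_top h2 nn_normal
    rw [← h3 C (normalizer_eq_top_iff.1 (eq_top_iff.2 h5.norm)) h5.comm h4]
    exact dstar_le h5

end Cfsg.Agent.S3062
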