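import Cfsg.Statements.S3063
import Cfsg.Agent.Lib.Transfer.CD2

set_option autoImplicit false
open Cfsg

namespace Cfsg.Agent.S3063

set_option linter.unusedSectionVars false
set_option linter.unusedVariables false
set_option linter.style.haveILetI false
set_option linter.unusedSimpArgs false

open Subgroup Transfer MS CD

/-- A weak replacement Theorem for metabelian p-groups: let S be a finite p-group whose derived subgroup is abelian and A an abelian subgroup of S of largest possible order. Then the normal closure of A in S contains an abelian subgroup B of the same order as A that is normal in S. -/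
theorem result {S : Type*} [Group S] [Finite S] {p : ℕ} [Fact p.Prime]
    (hS : IsPGroup p S) (hmeta : IsMulCommutative ↥(commutator S))
    (A : Subgroup S) (hA : A ∈ Cfsg.maxAbelianSubgroups S) :
    ∃ B ∈ Cfsg.maxAbelianSubgroups S, B.Normal ∧ B ≤ Subgroup.normalClosure (A : Set S) := by
  have := hS.isNilpotent
  obtain ⟨B, hB, h⟩ := pot_nn {B : Subgroup S | B ∈ maxAbelianSubgroups S ∧ B ≤ normalClosure (A : Set S)}
    ⟨A, hA, le_normalClosure⟩
  refine ⟨B, hB.1, normalizer_eq_top_iff.1 (eq_top_iff.2 fun b _ => ?_), hB.2⟩
  obtain ⟨Y, h1, h2, h3, h4⟩ := ab_repl hB.1 hmeta nn_normal (b := b)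
    fun a _ => commutator_mem_commutator (mem_top a) (mem_top b)
  exact h b Y ⟨h1, h4.trans (sup_le hB.2 (cj_le hB.2 (nn_normal (mem_top b))))⟩ h2 h3

end Cfsg.Agent.S3063
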