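import Cfsg.Statements.S3064
import Cfsg.Agent.Lib.Transfer.Ext
import Cfsg.Agent.Lib.Transfer.ZStar
import Cfsg.Agent.Lib.Char.Frob

set_option autoImplicit false
open Cfsg

namespace Cfsg.Agent.S3064

set_option linter.unusedSectionVars false
set_option linter.unusedVariables false
set_option linter.style.haveILetI false
set_option linter.unusedSimpArgs false

open Subgroup Transfer MS
theorem aux.{u} {p : ℕ} [Fact p.Prime] (n : ℕ) : ∀ (G : Type u) [Group G] [Finite G], #G = n → ∀ x : G,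
    IsPGroup p (zpowers x) → IsIsolated x →
    (∀ H : Subgroup G, (#H).Coprime p → x ∈ NN H → x ∈ CC H) → x ∈ center G := by
  induction n using Nat.strong_induction_on with
  | h n ih =>
  intro G _ _ hn x hx hi hb
  subst hn
  have sub : ∀ H : Subgroup G, H ≠ ⊤ → x ∈ H → H ≤ C1 x := fun H h1 h2 => by
    have := ih _ (by rw [← card_top (G := G)]; exact card_lt_of_lt (lt_top_iff_ne_top.2 h1)) H rfl ⟨x, h2⟩
      (by have := hx.comap_of_injective H.subtype (subtype_injective _)
          exact this.to_le (zpowers_le.2 (mem_zpowers x))) (isol_sub hi) fun K k1 k2 => by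
        have := hb (K.map H.subtype) (by rwa [card_subtype]) (le_normalizer_map _ (mem_map_of_mem _ k2))
        exact mem_CC.2 fun y hy => Subtype.ext (mem_CC.1 this _ (mem_map_of_mem _ hy))
    exact fun y hy => mem_C1.2 (congrArg Subtype.val (mem_center_iff.1 this ⟨y, hy⟩))
  by_cases hZ : center G = ⊥
  · obtain ⟨M, m1, m2, -, m3⟩ := Char.wielandt_normal_complement (H := C1 x) (N := ⊥) bot_le nn_bot
      fun g hg y h1 h2 => by
        by_contra y1
        have c : C1 y ≠ ⊤ := fun h => y1 (hZ.le (mem_center_iff.2 fun a => mem_C1.1 (h.ge (mem_top a))))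
        have h3 : g⁻¹ * x * g⁻¹⁻¹ ∈ C1 y := by
          rw [← conj_mem_cj_iff (g := g), cj_centralizer_singleton]
          simpa [mul_assoc] using mem_C1_comm.1 h2
        exact hg (inv_mem_iff.1 (mem_C1_of_conj (hi _ (mem_C1.1 (sub _ c (mem_C1_comm.1 h1) h3)).symm)))
    have m4 : (#M).Coprime p := pi_compl_iff_coprime.1 (pi_compl_iff.2 fun h => by
      obtain ⟨X, x1, x2⟩ := exists_card_eq Fact.out h
      obtain ⟨S, hS⟩ := hx.exists_le_sylow
      obtain ⟨g, hg⟩ := exists_cj_le_sylow S (pg_of_card x2)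
      obtain ⟨y, hy, y1⟩ := exists_ne_one (prime_ne_bot (K := X) (by rw [x2]; exact Fact.out))
      have := (m2 y).1 (x1 hy) g (isol_le_Ce1 hi S.2 (hS (mem_zpowers x)) (hg (conj_mem_cj hy)))
      exact y1 (by simpa using this))
    have := le_C1_iff.2 (hb M m4 (nn_normal (mem_top x)))
    rw [sup_eq_right.2 this] at m3
    exact mem_center_iff.2 fun a => mem_C1.1 (m3.ge (mem_top a))
  obtain ⟨Y, y1, y2⟩ := exists_prime_sub hZ
  have yc : ∀ {A : Subgroup G}, A ≤ CC Y := fun {_} a _ => mem_CC.2 fun y hy => (mem_center_iff.1 (y1 hy) a).symm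
  haveI : Y.Normal := normalizer_eq_top_iff.1 (eq_top_iff.2 (nn_of_cc yc))
  have := ih _ (by
      rw [← Y.index_eq_card, ← Y.card_mul_index]
      exact lt_mul_left (Nat.pos_of_ne_zero Y.index_ne_zero_of_finite) y2.one_lt) (G ⧸ Y) rfl
    (QuotientGroup.mk' Y x) (by rw [← MonoidHom.map_zpowers]; exact hx.map _)
    (isol_map (QuotientGroup.mk'_surjective Y) hi hx) fun K k1 k2 => by
      obtain ⟨T, hT⟩ := exists_isSyl p (K.comap (QuotientGroup.mk' Y))
      have t1 : T ≤ Y := by
        rw [← QuotientGroup.ker_mk' Y, ← Subgroup.map_eq_bot_iff]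
        exact eq_bot_of_le ((pi1_of_pg (hT.pgroup.map _)).inf (pi_compl_iff_coprime.2 k1)) le_rfl
          (map_le_iff_le_comap.2 hT.le)
      have t2 := (burnside hT (yc.trans (cc_anti t1))).sup hT
      have t3 : x ∈ NN (K.comap (QuotientGroup.mk' Y)) := mem_normalizer_of_conj_mem fun y hy => by
        rw [mem_comap, map_mul, map_mul, map_inv]; exact conj_mem_of_mem_normalizer k2 hy
      have t4 : x ∈ CC (K.comap (QuotientGroup.mk' Y)) := by
        rw [← t2, cc_sup]
        exact ⟨hb _ (pi_compl_iff_coprime.1 (O_pi _ _)) (nn_O (zpowers_le.2 t3) (mem_zpowers x)),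
          cc_anti t1 (yc (mem_top x))⟩
      refine mem_CC.2 fun y hy => ?_
      obtain ⟨y, rfl⟩ := QuotientGroup.mk'_surjective Y y
      rw [← map_mul, ← map_mul, mem_CC.1 t4 y hy]
  refine mem_center_iff.2 fun g => mem_C1.1 (mem_C1_of_conj (hi g ?_))
  have h := mem_center_iff.1 (y1 (mem_center_quot_iff.1 this g)) x
  show x * (g * x * g⁻¹) = g * x * g⁻¹ * x
  calc x * (g * x * g⁻¹) = x * (g * x * g⁻¹ * x⁻¹) * x := by group
    _ = _ := by rw [h]; group

theorem result {G : Type*} [Group G] [Finite G] {p : ℕ} [Fact p.Prime]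
    (S : Sylow p G) (x : G) (hx : x ∈ S)
    (hU : ∀ g : G, g⁻¹ * x * g ∈ S → g⁻¹ * x * g = x)
    (hb : ∀ H : Subgroup G, (Nat.card H).Coprime p → (∀ h ∈ H, x * h * x⁻¹ ∈ H) → ∀ h ∈ H, x * h = h * x) :
    x ∈ Subgroup.center G := by
  refine aux (p := p) _ G rfl x (S.2.to_le (zpowers_le.2 hx)) (isol_of_sylow S hx fun g hg => ?_)
    fun H h1 h2 => mem_CC.2 fun h hh => (hb H h1 (fun h hh => conj_mem_of_mem_normalizer h2 hh) h hh).symm
  simpa using hU g⁻¹ (by simpa using hg)

end Cfsg.Agent.S3064
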