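import Cfsg.Statements.S3071
import Cfsg.Agent.Lib.Fusion.QdB

set_option autoImplicit false
open Cfsg

namespace Cfsg.Agent.S3071

open Subgroup Fusion Cfsg.FusionSystem

/-- Let p be an odd prime and S a Sylow p-subgroup of the finite group G such that, for every subgroup P with Z(S) ≤ P ≤ S, the normalizer N_G(P) has no section isomorphic to SL₂(p). Let J(S) be the subgroup generated by the abelian subgroups of S of largest order. Then two elements of S are conjugate in G if and only if they are conjugate in N_G(Z(J(S))). -/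
theorem result {G : Type*} [Group G] [Finite G] {p : ℕ} [Fact p.Prime]
    (hp : p ≠ 2) (S : Sylow p G)
    (hfree : ∀ P : Subgroup G, (S : Subgroup G) ⊓ Subgroup.centralizer ((S : Subgroup G) : Set G) ≤ P → P ≤ S →
      ¬ ∃ (H K : Subgroup G) (hK : (K.subgroupOf H).Normal), H ≤ Subgroup.normalizer (P : Set G) ∧
        Nonempty ((H ⧸ K.subgroupOf H) ≃* Matrix.SpecialLinearGroup (Fin 2) (ZMod p))) :
    ∀ x ∈ S, ∀ y ∈ S, (∃ g : G, g * x * g⁻¹ = y) ↔
      ∃ n ∈ Subgroup.normalizer (Cfsg.centerThompsonAOf (S : Subgroup G) : Set G), n * x * n⁻¹ = y := by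
  have h := normal_of_sc_free hp S.2 (group_saturated S) (fun Q h1 h2 N hN L _ ι hL hi => by
    obtain ⟨K, φ, hφ⟩ := involves_iff.1 (Involves.trans (Involves.trans Qd.involves_sl2 hi)
      (model_involves (sylowIn_top S) h1 h2 hN hL))
    let j := (normalizer (Q : Set G)).subtype
    let ψ := φ.comp (K.equivMapOfInjective j (subtype_injective _)).symm.toMonoidHom
    have e : (ψ.ker.map (K.map j).subtype).subgroupOf (K.map j) = ψ.ker :=
      comap_map_eq_self_of_injective (subtype_injective _) _
    have : ((ψ.ker.map (K.map j).subtype).subgroupOf (K.map j)).Normal := e.symm ▸ inferInstance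
    exact hfree Q ((centralizerIn_anti h1.1).trans (IsCentric.cent_le h2)) h1.1
      ⟨K.map j, ψ.ker.map (K.map j).subtype, this, map_subtype_le _,
        ⟨(QuotientGroup.quotientMulEquivOfEq e).trans (QuotientGroup.quotientKerEquivOfSurjective ψ
          (hφ.comp (MulEquiv.surjective _)))⟩⟩) (stronglyClosed_top _) (Or.inl rfl)
  refine fun x hx y hy => ⟨fun ⟨g, e⟩ => ?_, fun ⟨n, _, e⟩ => ⟨n, e⟩⟩
  obtain ⟨n, h1, h2⟩ := Qd.control_of_normal h (zpowers_le.2 hx) (g := g) (by
    rintro _ ⟨k, rfl⟩
    rw [← conj_zpow, e]; exact S.1.zpow_mem hy k)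
  exact ⟨n, h1, (h2 x (mem_zpowers x)).trans e⟩

end Cfsg.Agent.S3071
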