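import Cfsg.Statements.S3072
import Cfsg.Agent.Lib.Fusion.AlpG
import Cfsg.Agent.Lib.Comp.SPE

set_option autoImplicit false
open Cfsg

namespace Cfsg.Agent.S3072

open Subgroup Transfer

theorem dvd_inf {Γ : Type*} [Group Γ] [Finite Γ] {p : ℕ} [hp : Fact p.Prime] {M Y Z : Subgroup Γ}
    (h : Comp.SPE p M ⊤) [Y.Normal] [Z.Normal] (hY : p ∣ Nat.card Y) (hZ : p ∣ Nat.card Z) :
    p ∣ Nat.card (Y ⊓ Z : Subgroup Γ) := by
  by_contra hK
  obtain ⟨S, hS, hM, -⟩ := h.exists_sylIn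
  have k : ∀ (Y : Subgroup Γ) [Y.Normal], p ∣ Nat.card Y → ∃ y ∈ S ⊓ Y, orderOf y = p := fun Y _ hY => by
    have h1 := hS.inf_normal (N := Y) le_top le_normalizer_of_normal
    obtain ⟨y, hy⟩ := exists_prime_orderOf_dvd_card' (G := (S ⊓ Y : Subgroup Γ)) p (by
      rw [h1.card_eq]; exact dvd_pow_self _ (hp.out.factorization_pos_of_dvd Nat.card_pos.ne' hY).ne')
    exact ⟨y, y.2, (orderOf_coe y).trans hy⟩
  obtain ⟨y, hy, y1⟩ := k Y hY
  obtain ⟨z, hz, z1⟩ := k Z hZ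
  have hc := (hp.out.coprime_iff_not_dvd.2 hK).symm
  have h0 := inf_eq_bot_of_coprime' hS.isP hc
  have c : ∀ g ∈ Y, g * z * g⁻¹ * z⁻¹ ∈ Y ⊓ Z := fun g hg => ⟨by
    simpa [mul_assoc] using Y.mul_mem hg (Normal.conj_mem ‹_› _ (Y.inv_mem hg) z),
    Z.mul_mem (Normal.conj_mem ‹_› _ hz.2 g) (Z.inv_mem hz.2)⟩
  have h1 : z ∈ centralizer (zpowers y : Set Γ) := by
    have : y * z * y⁻¹ * z⁻¹ ∈ S ⊓ (Y ⊓ Z) := ⟨S.mul_mem (S.mul_mem (S.mul_mem hy.1 hz.1) (S.inv_mem hy.1))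
      (S.inv_mem hz.1), c y hy.2⟩
    rw [h0, mem_bot, mul_inv_eq_one, mul_inv_eq_iff_eq_mul] at this
    rintro _ ⟨k, rfl⟩
    exact (show Commute y z from this).zpow_left k
  have h2 := card_sup_mul_card_inf (H := zpowers z) (N := zpowers y)
    (zpowers_le.2 (centralizer_le_normalizer _ h1))
  rw [show zpowers z ⊓ zpowers y = ⊥ from eq_bot_iff.2 (h0.le.trans' (le_inf (inf_le_left.trans (zpowers_le.2 hz.1)) (le_inf (inf_le_right.trans
    (zpowers_le.2 hy.2)) (inf_le_left.trans (zpowers_le.2 hz.2))))), card_bot, mul_one, Nat.card_zpowers,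
    Nat.card_zpowers, y1, z1, sup_comm, ← sq] at h2
  have h3 := h.le_of_elementary (elem_sup_zpowers (elem_zpowers (y1 ▸ pow_orderOf_eq_one y)) h1
    (z1 ▸ pow_orderOf_eq_one z)) h2.ge (sup_le (zpowers_le.2 (hM hy.1)) (zpowers_le.2 (hM hz.1))) le_top hc
    le_normalizer_of_normal
  exact h.not_dvd_of_normal (X := Y) (fun g hg => h.mem z (hM hz.1) z1 g trivial (by
    simpa using mul_mem (h3 (c g hg)) (hM hz.1))) le_normalizer_of_normal hY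

/-- normalizer -/
abbrev N {G : Type*} [Group G] (B : Subgroup G) : Subgroup G := normalizer (B : Set G)

/-- the smallest normal subgroup over `H` with index divisible by `p` -/
def IsMin {G : Type*} [Group G] (p : ℕ) (H X : Subgroup G) : Prop :=
  H ≤ X ∧ X ≤ normalizer (H : Set G) ∧ normalizer (H : Set G) ≤ normalizer (X : Set G) ∧ p ∣ H.relIndex X ∧
    ∀ Y : Subgroup G, H ≤ Y → Y ≤ normalizer (H : Set G) → normalizer (H : Set G) ≤ normalizer (Y : Set G) →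
      p ∣ H.relIndex Y → X ≤ Y

theorem exists_min {G : Type*} [Group G] [Finite G] {p : ℕ} [hp : Fact p.Prime] {H : Subgroup G}
    {M : Subgroup (normalizer (H : Set G) ⧸ H.subgroupOf (normalizer (H : Set G)))} (h : Comp.SPE p M ⊤) :
    ∃ X, IsMin p H X := by
  set N := normalizer (H : Set G) with hN
  have c : ∀ Y : Subgroup G, H ≤ Y → Y ≤ N →
      Nat.card ((Y.subgroupOf N).map (QuotientGroup.mk' (H.subgroupOf N))) = H.relIndex Y := fun Y h1 h2 => by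
    rw [← relIndex_subgroupOf h2, ← relIndex_ker, QuotientGroup.ker_mk']
  obtain ⟨X, ⟨h1, h2, h3, h4⟩, h5⟩ := exists_minimal_of_wellFoundedLT (fun X : Subgroup G => H ≤ X ∧ X ≤ N ∧
    N ≤ normalizer (X : Set G) ∧ p ∣ H.relIndex X) ⟨N, le_normalizer, le_rfl, le_normalizer, by
      rw [← c N le_normalizer le_rfl, subgroupOf_self, map_top_of_surjective _ (QuotientGroup.mk'_surjective _)]
      exact h.dvd.trans (card_dvd_of_le le_top)⟩
  refine ⟨X, h1, h2, h3, h4, fun Y k1 k2 k3 k4 => (h5 ⟨le_inf h1 k1, inf_le_left.trans h2,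
    fun g hg => mem_normalizer_inf (h3 hg) (k3 hg), ?_⟩ inf_le_left).trans inf_le_right⟩
  have := ((normal_subgroupOf_iff_le_normalizer h2).2 h3).map _ (QuotientGroup.mk'_surjective (H.subgroupOf N))
  have := ((normal_subgroupOf_iff_le_normalizer k2).2 k3).map _ (QuotientGroup.mk'_surjective (H.subgroupOf N))
  have e := dvd_inf h (c X h1 h2 ▸ h4) (c Y k1 k2 ▸ k4)
  rw [← c _ (le_inf h1 k1) (inf_le_left.trans h2)]
  refine e.trans (card_dvd_of_le ?_)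
  rintro _ ⟨⟨x, hx, rfl⟩, y, hy, e⟩
  exact ⟨x, ⟨hx, (mul_mem_cancel_left (Y.inv_mem hy)).1 (k1 (QuotientGroup.eq (s := H.subgroupOf N).1 e))⟩, rfl⟩

/-- A strong form of the Alperin–Goldschmidt fusion Theorem. Let P be a Sylow p-subgroup of the finite group G, A a subset of P containing a nonidentity element, and g an element with g⁻¹Ag ⊆ P. Then g = c·x₁⋯xₙ·y with c ∈ C_G(A), y ∈ N_G(P) and, for each i, an element xᵢ and a subgroup Hᵢ ≤ P such that: N_P(Hᵢ) is a Sylow p-subgroup of N_G(Hᵢ); C_P(Hᵢ) ≤ Hᵢ; O_{p',p}(N_G(Hᵢ)) = Hᵢ·C_G(Hᵢ); the Sylow p-subgroups of N_G(Hᵢ)/Hᵢ are not chain-connected through nontrivial intersections (the quotient has a strongly p-embedded subgroup); xᵢ lies in O^p(Xᵢ), where Xᵢ/Hᵢ is the smallest normal subgroup of N_G(Hᵢ)/Hᵢ of order divisible by p; and (x₁⋯xᵢ₋₁)⁻¹A(x₁⋯xᵢ₋₁) ⊆ Hᵢ. -/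
theorem result {G : Type*} [Group G] [Finite G] {p : ℕ} [Fact p.Prime]
    (P : Sylow p G) (A : Set G) (hA : A ⊆ (P : Set G)) (hA1 : ∃ a ∈ A, a ≠ 1)
    (g : G) (hAg : (fun a => g⁻¹ * a * g) '' A ⊆ (P : Set G)) :
    ∃ (n : ℕ) (H X : Fin n → Subgroup G) (x : Fin n → G) (c y : G),
      c ∈ Subgroup.centralizer A ∧ y ∈ Subgroup.normalizer ((P : Subgroup G) : Set G) ∧
      g = c * (List.ofFn x).prod * y ∧
      ∀ i : Fin n,
        H i ≤ (P : Subgroup G) ∧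
        ¬ p ∣ ((P : Subgroup G) ⊓ Subgroup.normalizer (H i : Set G)).relIndex (Subgroup.normalizer (H i : Set G)) ∧
        (P : Subgroup G) ⊓ Subgroup.centralizer (H i : Set G) ≤ H i ∧
        (Cfsg.pPrimePCore p ↥(Subgroup.normalizer (H i : Set G))).map (Subgroup.normalizer (H i : Set G)).subtype =
          H i ⊔ Subgroup.centralizer (H i : Set G) ∧
        ¬ Cfsg.IsSylowChainConnected p
            (↥(Subgroup.normalizer (H i : Set G)) ⧸ (H i).subgroupOf (Subgroup.normalizer (H i : Set G))) ∧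
        (H i ≤ X i ∧ X i ≤ Subgroup.normalizer (H i : Set G) ∧
          ((X i).subgroupOf (Subgroup.normalizer (H i : Set G))).Normal ∧ p ∣ (H i).relIndex (X i) ∧
          ∀ Y : Subgroup G, H i ≤ Y → Y ≤ Subgroup.normalizer (H i : Set G) →
            (Y.subgroupOf (Subgroup.normalizer (H i : Set G))).Normal → p ∣ (H i).relIndex Y → X i ≤ Y) ∧
        x i ∈ (Cfsg.pResidual p ↥(X i)).map (X i).subtype ∧
        (fun a => (((List.ofFn x).take i.val).prod)⁻¹ * a * ((List.ofFn x).take i.val).prod) '' A ⊆ (H i : Set G) := by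
  let 𝒢 : Subgroup G → G → Prop := fun B x => B < P ∧ IsSyl p (P.1 ⊓ N B) (N B) ∧
    P.1 ⊓ centralizer (B : Set G) ≤ B ∧ (∀ D : Subgroup G, B < D → D ≤ P.1 ⊓ N B →
      ¬ N B ≤ N (D ⊔ centralizer (B : Set G))) ∧ (¬ N B ≤ Fusion.tiGenUp (N B) (P.1 ⊓ N B) B) ∧
      ∃ X, IsMin p B X ∧ x ∈ res p X
  have hi : ∀ T n, 𝒢 T n → 𝒢 T n⁻¹ ∧ n ∈ N T := fun T n ⟨a, b, c, d, e, X, f, g⟩ =>
    ⟨⟨a, b, c, d, e, X, f, inv_mem g⟩, f.2.1 (res_le _ g)⟩
  have cN : ∀ (y : G) B, cj y (N B) = N (cj y B) := fun y B => cj_normalizer y B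
  have hc : ∀ y ∈ N P.1, ∀ T n, 𝒢 T n → 𝒢 (cj y T) (y * n * y⁻¹) := fun y hy T n ⟨a, b, c, d, e, X, f, g⟩ => by
    have e1 := cj_eq_of_mem_normalizer hy
    refine ⟨e1 ▸ cj_lt_cj_iff.2 a, by simpa only [cj_inf, e1, cN] using b.cj y,
      by simpa only [cj_inf, e1, cj_centralizer] using cj_mono y c, fun D h1 h2 h3 => ?_, fun h => e ?_,
      cj y X, ⟨cj_mono y f.1, (cj_mono y f.2.1).trans (cN y T).le, ?_, relIndex_cj y T X ▸ f.2.2.2.1, fun Y h1 h2 h3 h4 => ?_⟩,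
      cj_res y X ▸ conj_mem_cj g⟩
    · obtain ⟨D, rfl⟩ : ∃ D', D = cj y D' := ⟨_, (cj_cj_inv y D).symm⟩
      rw [← e1, ← cN, ← cj_inf, cj_le_cj_iff] at h2
      rw [← cj_centralizer, ← cj_sup, ← cN, ← cN, cj_le_cj_iff] at h3
      exact d D (cj_lt_cj_iff.1 h1) h2 h3
    · rw [← cN] at h
      refine cj_le_cj_iff.1 (h.trans ((closure_le _).2 fun α ⟨h1, σ, h2, h3, h4⟩ => mem_cj.2 (subset_closure
        ⟨mem_cj.1 h1, y⁻¹ * σ * y, ?_, mt mem_cj.2 h3, ?_⟩)))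
      · rwa [← e1, ← cj_inf, mem_cj] at h2
      · rw [← e1, ← cj_inf, mem_cj] at h4
        convert h4 using 1; group
    · exact (cN y T).ge.trans ((cj_mono y f.2.2.1).trans (cN y X).le)
    · obtain ⟨Y, rfl⟩ : ∃ D', Y = cj y D' := ⟨_, (cj_cj_inv y Y).symm⟩
      exact cj_mono y (f.2.2.2.2 Y (cj_le_cj_iff.1 h1) (cj_le_cj_iff.1 ((h2.trans (cN y T).ge)))
        (cj_le_cj_iff.1 ((cN y T).le.trans (h3.trans (cN y Y).ge))) (relIndex_cj y T Y ▸ h4))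
  have sp : ∀ {B : Subgroup G}, B < P → IsSyl p (P.1 ⊓ N B) (N B) → ¬ N B ≤ Fusion.tiGenUp (N B) (P.1 ⊓ N B) B →
      ∃ M : Subgroup (N B ⧸ B.subgroupOf (N B)), Comp.SPE p M ⊤ := fun {B} h1 h2 h3 =>
    ⟨_, Comp.spe_top_iff.2 ((Fusion.tiGenUp_dichotomy (Fusion.sylowIn_of_not_dvd_relIndex h2.le h2.pgroup
      h2.not_dvd) (lt_inf_normalizer P.2 h1)).resolve_left fun h => h3 h.2.ge)⟩
  have hA' : closure A ≤ P := (closure_le _).2 hA
  have hg : cj g⁻¹ (closure A) ≤ P := by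
    rw [cj, MonoidHom.map_closure, closure_le]
    rintro _ ⟨a, ha, rfl⟩
    simpa using hAg ⟨a, ha, rfl⟩
  let R : Subgroup G → G → Prop := fun B c => ∃ d, CG 𝒢 B d ∧ ∃ y ∈ N P.1, ∀ a ∈ B,
    y * (d * a * d⁻¹) * y⁻¹ = c * a * c⁻¹
  have m1 : ∀ (A B : Subgroup G) (g : G), A ≤ B → R B g → R A g := fun A B g h ⟨d, h1, y, hy, h2⟩ =>
    ⟨d, h1.mono h, y, hy, fun a ha => h2 a (h ha)⟩
  have m2 : ∀ (A : Subgroup G) (g h : G), R A g → R (cj g A) h → R A (h * g) :=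
    fun A g h ⟨d, h1, y, hy, h2⟩ ⟨d', h3, y', hy', h4⟩ => ⟨y⁻¹ * d' * y⁻¹⁻¹ * d, h1.trans
      (h3.conj (hc _ (inv_mem hy))) fun a ha => ⟨_, conj_mem_cj ha, by rw [← h2 a ha]; group⟩, y' * y,
      mul_mem hy' hy, fun a ha => by
        calc _ = y' * (d' * (y * (d * a * d⁻¹) * y⁻¹) * d'⁻¹) * y'⁻¹ := by group
          _ = _ := by rw [h2 a ha, h4 _ (conj_mem_cj ha)]; group⟩
  have m3 : ∀ (A : Subgroup G) (g : G), R A g → R (cj g A) g⁻¹ := fun A g ⟨d, h1, y, hy, h2⟩ =>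
    ⟨y * d⁻¹ * y⁻¹, ((h1.symm hi).conj (hc y hy)).mono (by
      rintro _ ⟨a, ha, rfl⟩; exact ⟨_, ⟨a, ha, rfl⟩, h2 a ha⟩), y⁻¹, inv_mem hy, by
      rintro _ ⟨a, ha, rfl⟩
      simp only [MulEquiv.coe_toMonoidHom, MulAut.conj_apply]
      nth_rw 1 [← h2 a ha]
      group⟩
  have h0 := alperin_centric P R (fun A B g h _ _ => m1 A B g h) (fun A g h _ _ _ => m2 A g h)
    (fun A g _ _ => m3 A g) (fun A _ c hc => ⟨1, .one, 1, one_mem _, fun a ha => by rw [← hc a ha]; group⟩)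
    (fun k hk => ⟨1, .one, k, hk, fun _ _ => by group⟩) (fun B h1 h2 h3 _ h4 ih k hk => ?_) _ _ hA' hg
  · obtain ⟨d, h, y, hy, hd⟩ := h0
    obtain ⟨n, T, x, h1, h2, h4⟩ := (h.mono subset_closure).list
    choose a1 a2 a3 a4 a5 X a6 a7 using h2
    refine ⟨n, T, X, x, g * y * d, y⁻¹, fun a ha => ?_, inv_mem hy, by simp [h1], fun i => ⟨(a1 i).le,
      (a2 i).not_dvd, a3 i, (centric_radical (a2 i) (le_inf (a1 i).le le_normalizer) ((inf_le_inf_right _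
      inf_le_left).trans (a3 i)) (a4 i)).2.2, Comp.not_isSylowChainConnected_iff.2 (sp (a1 i) (a2 i) (a5 i)),
      ⟨(a6 i).1, (a6 i).2.1, (normal_subgroupOf_iff_le_normalizer (a6 i).2.1).2 (a6 i).2.2.1, (a6 i).2.2.2.1,
      fun Y k1 k2 k3 => (a6 i).2.2.2.2 Y k1 k2 ((normal_subgroupOf_iff_le_normalizer k2).1 k3)⟩,
      inv_mem_iff.1 (a7 i), h4 i⟩⟩
    calc _ = g * (g⁻¹ * a * g⁻¹⁻¹) * y * d := by group
      _ = _ := by rw [← hd a (subset_closure ha)]; group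
  let M : Subgroup G :=
    { carrier := {k | k ∈ N B ∧ R B k}
      one_mem' := ⟨one_mem _, 1, .one, 1, one_mem _, fun _ _ => by group⟩
      mul_mem' := fun h1 h2 => ⟨mul_mem h1.1 h2.1, m2 _ _ _ h2.2 ((cj_eq_of_mem_normalizer h2.1).symm ▸ h1.2)⟩
      inv_mem' := fun h => ⟨inv_mem h.1, cj_eq_of_mem_normalizer h.1 ▸ m3 _ _ h.2⟩ }
  by_cases h5 : N B ≤ Fusion.tiGenUp (N B) (P.1 ⊓ N B) B
  · refine ((closure_le M).2 ?_ (h5 hk)).2
    rintro α ⟨k1, σ, k2, k3, k4⟩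
    refine ⟨k1, m1 _ _ _ le_sup_left (ih (B ⊔ zpowers σ) α
      (left_lt_sup.2 (mt zpowers_le.1 k3)) (sup_le h1.le (zpowers_le.2 k2.1)) ?_)⟩
    rw [cj_sup, cj_zpowers, cj_eq_of_mem_normalizer k1]
    exact sup_le h1.le (zpowers_le.2 k4.1)
  obtain ⟨X, hX⟩ := exists_min (sp h1 h2 h5).choose_spec
  have hS := h2.inf_of_le_normalizer hX.2.1 hX.2.2.1
  have h6 : B < P.1 ⊓ N B ⊓ X := (le_inf (le_inf h1.le le_normalizer) hX.1).lt_of_ne fun e =>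
    hS.not_dvd (e ▸ hX.2.2.2.1)
  have h7 : ∀ n ∈ N B, n ∈ N (P.1 ⊓ N B ⊓ X) → n ∈ M := fun n k1 k2 => ⟨k1, m1 _ _ _ h6.le (ih _ n h6
    (inf_le_left.trans inf_le_left) ((cj_eq_of_mem_normalizer k2).le.trans (inf_le_left.trans inf_le_left)))⟩
  obtain ⟨x, hx, n, hn, rfl⟩ := hS.frattini (hX.2.2.1 hk)
  obtain ⟨o, ho, s, hs, rfl⟩ := hS.exists_res_mul hx
  exact (M.mul_mem (M.mul_mem ⟨hX.2.1 (res_le _ ho), o, .single ⟨h1, h2, h3, h4, h5, X, hX, ho⟩ le_rfl, 1,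
    one_mem _, fun _ _ => by group⟩ (h7 s hs.1.2 (le_normalizer hs)))
    (h7 n ((mul_mem_cancel_left (hX.2.1 hx)).1 hk) hn)).2

end Cfsg.Agent.S3072
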