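import Cfsg.Statements.S3073
import Cfsg.Agent.Lib.Fusion.WC
import Cfsg.Agent.S1988

set_option autoImplicit false
universe u
open Cfsg

namespace Cfsg.Agent.S3073

open Fusion

/-- For an odd prime p, every finite p-group S has a characteristic subgroup K with C_S(K) ≤ K such that, whenever S is (isomorphic to) a Sylow p-subgroup of a finite group G, G has a normal p-complement if and only if N_G(K)/C_G(K) is a p-group, i.e. every element of N_G(K) of order prime to p centralizes K (K transported into G along the isomorphism). -/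
theorem result (p : ℕ) [Fact p.Prime] (hp : p ≠ 2)
    (S : Type u) [Group S] [Finite S] (hS : IsPGroup p S) :
    ∃ K : Subgroup S, K.Characteristic ∧ Subgroup.centralizer (K : Set S) ≤ K ∧
      ∀ (G : Type u) [Group G] [Finite G] (P : Sylow p G) (e : ↥(P : Subgroup G) ≃* S),
        Cfsg.HasNormalPComplement p G ↔
          ∀ g ∈ Subgroup.normalizer (((K.comap (e : ↥(P : Subgroup G) →* S)).map (P : Subgroup G).subtype : Subgroup G) : Set G),
            (orderOf g).Coprime p →
              g ∈ Subgroup.centralizer (((K.comap (e : ↥(P : Subgroup G) →* S)).map (P : Subgroup G).subtype : Subgroup G) : Set G) := by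
  refine ⟨kInfLower S, Subgroup.characteristic_iff_map_eq.2 (KInf.lower_char.2 S S hS),
    KInf.center_le_lower hS, fun G _ _ P e => ?_⟩
  have : (kInfLower S).comap (e : P.1 →* S) = kInfLower P.1 := by
    rw [← KInf.lower_char.2 _ _ P.2 e]
    exact Subgroup.comap_map_eq_self_of_injective e.injective _
  rw [this]
  refine ⟨fun h g hg hc x hx => ?_, fun h => S1988.result hp P (Or.inr h)⟩
  have h1 : (inducedFunctor kInfLower P.1) ≤ P := ind_le _ _
  have h2 := (Transfer.hasNPC_iff_inf_eq_bot P).1 h
  have h3 : g ∈ pResidual p G := Subgroup.subset_closure hc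
  have h4 : x * (g * x⁻¹ * g⁻¹) ∈ P.1 ⊓ pResidual p G := ⟨h1 (Subgroup.mul_mem _ hx
    (conj_mem_of_mem_normalizer hg (Subgroup.inv_mem _ hx))), by
      rw [← mul_assoc, ← mul_assoc]
      exact Subgroup.mul_mem _ (Subgroup.Normal.conj_mem inferInstance _ h3 x) (Subgroup.inv_mem _ h3)⟩
  rw [h2, Subgroup.mem_bot] at h4
  calc x * g = x * (g * x⁻¹ * g⁻¹) * (g * x) := by group
    _ = _ := by rw [h4, one_mul]

end Cfsg.Agent.S3073
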