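import Cfsg.Statements.S3074
import Cfsg.Agent.Lib.Fusion.Qd2

set_option autoImplicit false
open Cfsg

namespace Cfsg.Agent.S3074

open Subgroup Qd
open scoped commutatorElement

/-- Let p be an odd prime. A Sylow p-subgroup of Qd(p), the split extension of an elementary abelian group of order p² by SL₂(p) acting naturally, is extraspecial of order p³ and exponent p. -/
theorem result (p : ℕ) [Fact p.Prime] (hp : p ≠ 2) (P : Sylow p ↥(Cfsg.qd p)) :
    Cfsg.IsExtraspecial p ↥P ∧ Nat.card P = p ^ 3 ∧ Monoid.exponent ↥P = p := by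
  have hp' : p.Prime := Fact.out
  obtain ⟨e', he⟩ := exists_equiv_uni (L := qd p) (F := ZMod p) (MulEquiv.refl _) P
  have e0 := (e'.subgroupMap P.1).trans (MulEquiv.subgroupCongr he)
  suffices ∀ (P : Type) [Group P], IsPGroup p P → (P ≃* uni (ZMod p)) →
    IsExtraspecial p P ∧ Nat.card P = p ^ 3 ∧ Monoid.exponent P = p from this P.1 P.2 e0
  intro P _ hP e
  have := Finite.of_equiv _ e.symm.toEquiv
  let u : ZMod p → ZMod p → ZMod p → P := fun t x y => e.symm ⟨ut t x y, _, _, _, rfl⟩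
  have hs : ∀ g, ∃ t x y, g = u t x y := fun g => by
    obtain ⟨t, x, y, h⟩ := (e g).2
    exact ⟨t, x, y, e.eq_symm_apply.2 (Subtype.ext h)⟩
  have hi : ∀ {t x y t' x' y'}, u t x y = u t' x' y' ↔ t = t' ∧ x = x' ∧ y = y' := by
    intros; exact e.symm.injective.eq_iff.trans (Subtype.ext_iff.trans ut_inj)
  have hm : ∀ t x y t' x' y', u t x y * u t' x' y' = u (t + t') (x + x' + t * y') (y + y') := by
    intros; simp only [u, ← map_mul]; congr 1; exact Subtype.ext (ut_mul ..)
  have h1 : u 0 0 0 = 1 := e.symm_apply_eq.2 (Subtype.ext (by simp [ut_zero]))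
  have hpw : ∀ t x y (n : ℕ), u t x y ^ n = u (n * t) (n * x + n.choose 2 * t * y) (n * y) := by
    intros; simp only [u, ← map_pow]; congr 1; exact Subtype.ext (ut_pow ..)
  have hx : ∀ g : P, g ^ p = 1 := fun g => by
    obtain ⟨t, x, y, rfl⟩ := hs g
    rw [hpw, (ZMod.natCast_eq_zero_iff _ _).2 (hp'.dvd_choose_self two_ne_zero
      (lt_of_le_of_ne hp'.two_le (Ne.symm hp))), ← h1]
    simp
  have hc : ∀ t x y t' x' y', ⁅u t x y, u t' x' y'⁆ = u 0 (t * y' - t' * y) 0 := by
    intros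
    rw [commutatorElement_def, mul_inv_eq_iff_eq_mul, mul_inv_eq_iff_eq_mul, hm, hm, hm, hi]
    exact ⟨by ring, by ring, by ring⟩
  have hz : ∀ x, u 0 x 0 ∈ center P := fun x => mem_center_iff.2 fun g => by
    obtain ⟨t, x, y, rfl⟩ := hs g
    rw [hm, hm, hi]; exact ⟨by ring, by ring, by ring⟩
  have a : center P = zpowers (u 0 1 0) := le_antisymm (fun g hg => by
    obtain ⟨t, x, y, rfl⟩ := hs g
    have h2 := mem_center_iff.1 hg (u 1 0 0)
    have h3 := mem_center_iff.1 hg (u 0 0 1)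
    rw [hm, hm, hi] at h2 h3
    obtain rfl : y = 0 := by simpa using h2.2.1
    obtain rfl : t = 0 := by simpa using h3.2.1.symm
    exact mem_powers_iff_mem_zpowers.1 ⟨x.val, by simp [hpw]⟩) (zpowers_le.2 (hz 1))
  have b : _root_.commutator P ≤ center P := commutator_le.2 fun g _ k _ => by
    obtain ⟨t, x, y, rfl⟩ := hs g
    obtain ⟨t, x, y, rfl⟩ := hs k
    exact hc .. ▸ hz _
  have c : center P ≤ _root_.commutator P := a ▸ zpowers_le.2 (by
    simpa [hc, _root_.commutator] using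
      commutator_mem_commutator (mem_top (u 1 0 0)) (mem_top (u 0 0 1)))
  have d : u 0 1 0 ≠ 1 := by simp [← h1, hi]
  have : Nontrivial P := ⟨_, _, d⟩
  refine ⟨⟨⟨hP, le_antisymm (Solv.frattini_le_of_commutator_le_of_pow_mem (p := p) b fun y => by
    simp [hx]) (c.trans (Solv.commutator_le_frattini_of_isPGroup hP)), le_antisymm b c⟩, ?_⟩, ?_,
    (Monoid.exponent_eq_prime_iff hp').2 fun g hg => orderOf_eq_prime (hx g) hg⟩
  · rw [a, Nat.card_zpowers, orderOf_eq_prime (hx _) d]
  · rw [Nat.card_congr e.toEquiv, ← Nat.card_congr uniEquiv]; simp [pow_succ, mul_assoc]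

end Cfsg.Agent.S3074
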