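import Cfsg.Statements.S3075
import Cfsg.Agent.Lib.Transfer.Ext
import Cfsg.Agent.Lib.Transfer.SL2

set_option autoImplicit false
open Cfsg

namespace Cfsg.Agent.S3075

set_option linter.unusedSectionVars false
set_option linter.unusedVariables false
set_option linter.style.haveILetI false
set_option linter.unusedSimpArgs false

section
open Subgroup Transfer MS
open scoped commutatorElement
theorem aux {N : Type*} [Group N] [Finite N] {p : ℕ} [Fact p.Prime] (hp : p ≠ 2)
    (A : Subgroup N) [A.Normal] (hAcomm : IsMulCommutative A) (hAcard : Nat.card A = p ^ 2) (hAexp : Monoid.exponent ↥A = p)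
    (hAself : Subgroup.centralizer (A : Set N) = A)
    {K : Type*} [Field K] (f : N →* SL2 K) (hf : Function.Surjective f) (hk : f.ker = A) (h2 : (2 : K) ≠ 0) :
    ∃ U : Subgroup N, A ⊓ U = ⊥ ∧ A ⊔ U = ⊤ := by
  haveI : Finite (SL2 K) := Finite.of_surjective f hf
  have pA : IsPGroup p A := IsPGroup.of_card hAcard
  have oA : IsPi {2}ᶜ A := pi_of_pg pA hp
  obtain ⟨s, hs⟩ := hf (-1)
  obtain ⟨t, ht, b, hb, rfl, ⟨k, hk'⟩, ho⟩ := exists_pPart 2 s
  have ss : f (t * b) * f (t * b) = 1 := by rw [hs]; simp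
  have b1 : f b = 1 := by
    have := mem_map_of_mem f hb
    rw [MonoidHom.map_zpowers, mem_zpowers_iff_of_sq ss] at this
    refine eq_one_of_odd_of_mul_self (Odd.of_dvd_nat (odd_iff_coprime_two.2 ho) (orderOf_map_dvd f b)) ?_
    rcases this with h | h
    · rw [h, mul_one]
    · rw [h, ss]
  rw [map_mul, b1, mul_one] at hs
  have c : (#(zpowers t)).Coprime #A := (pi1_of_pg (isPGroup_zpowers hk')).coprime oA
  have t1 : ⁅(⊤ : Subgroup N), zpowers t⁆ ≤ A := by
    rw [Subgroup.commutator_comm]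
    refine Comp.commutator_zpowers_left_le (nn_normal (mem_top t)) fun c _ => hk.le ?_
    rw [MonoidHom.mem_ker, map_commutatorElement, hs, commutatorElement_eq_one_iff_mul_comm]; simp
  have t2 := cop_sup_cc le_top nn_normal nn_normal c (sol_of_ab hAcomm) t1
  rw [top_inf_eq] at t2
  refine ⟨_, ?_, t2⟩
  by_contra h0
  have t3 := cop_comm_sup nn_normal c (sol_of_ab hAcomm)
  have t4 := cop_ab_inf hAcomm nn_normal c
  have t5 : ⁅A, zpowers t⁆ ≠ ⊥ := fun h => by
    have := hk.ge (hAself.le (comm_eq_bot'.1 h (mem_zpowers t)))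
    rw [MonoidHom.mem_ker, hs] at this
    have := congrArg (fun x : SL2 K => x.1 0 0) this
    simp only [Matrix.SpecialLinearGroup.coe_neg, Matrix.neg_apply, sl2_one_00] at this
    exact h2 (by linear_combination -this)
  have el : El p 2 A A := ⟨le_rfl, ⟨hAcomm, fun a ha => by
    rw [← hAexp]; exact congrArg Subtype.val (Monoid.pow_exponent_eq_one (⟨a, ha⟩ : A))⟩, hAcard⟩
  have cy : ∀ B ≤ A, ∀ C ≤ A, C ≠ ⊥ → B ⊓ C = ⊥ → IsCyclic B := fun B h1 C h3 h4 h5 => by
    rcases el.line_or h1 with h | h | h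
    · rw [h]; exact cyc_bot
    · exact prime_cyc (h ▸ Fact.out)
    · rw [h, inf_eq_right.2 h3] at h5; exact absurd h5 h4
  have d1 : ⁅A, zpowers t⁆ ≤ A := comm_le_left nn_normal
  have d2 : ⁅(⊤ : Subgroup N), ⊤⁆ ≤ A := by
    rw [← hAself, ← t3]
    refine le_cc_sup (der_cc_of_cyc (cy _ d1 _ inf_le_left h0 (by rwa [inf_comm])) ?_)
      (der_cc_of_cyc (cy _ inf_le_left _ d1 t5 t4) ?_)
    · rw [← t2]; exact sup_le (left_nn_comm _ _) (nn_comm nn_normal (cc_le_nn _))
    · rw [← t2]; exact sup_le (ab_nn hAcomm le_rfl inf_le_left) (nn_inf nn_normal (le_nn _))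
  obtain ⟨x, hx⟩ := hf (upU 1)
  obtain ⟨y, hy⟩ := hf (loU 1)
  have := hk.ge (d2 (commutator_mem_commutator (mem_top x) (mem_top y)))
  rw [MonoidHom.mem_ker, map_commutatorElement, hx, hy, commutatorElement_eq_one_iff_mul_comm] at this
  have := congrArg (fun x : SL2 K => x.1 0 0) this
  simp [sl2_mul] at this
end

/-- Let p be an odd prime and N a finite group with a normal elementary abelian subgroup A of order p² that is its own centralizer in N, such that N/A is isomorphic to SL₂(p) (over any field F with p elements). Then N splits over A: some subgroup U of N satisfies A ∩ U = 1 and AU = N. -/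
theorem result {N : Type*} [Group N] [Finite N] {p : ℕ} [Fact p.Prime] (hp : p ≠ 2)
    (A : Subgroup N) [A.Normal] (hAcomm : IsMulCommutative A) (hAcard : Nat.card A = p ^ 2) (hAexp : Monoid.exponent ↥A = p)
    (hAself : Subgroup.centralizer (A : Set N) = A)
    {F : Type*} [Field F] [Fintype F] (hF : Fintype.card F = p) (e : N ⧸ A ≃* Matrix.SpecialLinearGroup (Fin 2) F) :
    ∃ U : Subgroup N, A ⊓ U = ⊥ ∧ A ⊔ U = ⊤ := by
  haveI : CharP F p := by
    obtain ⟨q, hq⟩ := CharP.exists F
    obtain ⟨n, h1, h2⟩ := FiniteField.card F q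
    have : q ∣ p := by rw [← hF, h2]; exact dvd_pow_self q n.ne_zero
    rwa [← (Nat.prime_dvd_prime_iff_eq h1 Fact.out).1 this]
  refine aux hp A hAcomm hAcard hAexp hAself (e.toMonoidHom.comp (QuotientGroup.mk' A))
    (e.surjective.comp (QuotientGroup.mk'_surjective A)) ?_ (Transfer.two_ne_zero_of_char hp)
  ext x; simp

end Cfsg.Agent.S3075
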