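import Cfsg.Statements.S3076
import Cfsg.Agent.Lib.Block.Syl1
import Cfsg.Agent.Lib.Comp.Loc
import Cfsg.Agent.Lib.Transfer.Hall

set_option autoImplicit false
open Cfsg

namespace Cfsg.Agent.S3076

open Cfsg.Agent.Blk
open Cfsg.Agent.Char hiding cj cj_mul cj_inv_cj cj_cj_inv
open Subgroup Cfsg.Agent.Comp

/-- Let P be a Sylow p-subgroup of the finite group G and H ≤ P a subgroup with N_P(H) a Sylow p-subgroup of N_G(H). Let N be the preimage in N_G(H) of O_p(N_G(H)/C_G(H)). Then H is a Sylow p-subgroup of N if and only if C_P(H) ≤ H and O_{p',p}(N_G(H)) = H·C_G(H). -/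
theorem result {G : Type*} [Group G] [Finite G] {p : ℕ} [Fact p.Prime]
    (P : Sylow p G) (H : Subgroup G) (hHP : H ≤ (P : Subgroup G))
    (hSyl : ¬ p ∣ ((P : Subgroup G) ⊓ Subgroup.normalizer (H : Set G)).relIndex (Subgroup.normalizer (H : Set G)))
    [hC : ((Subgroup.centralizer (H : Set G)).subgroupOf (Subgroup.normalizer (H : Set G))).Normal] :
    (H ≤ ((Cfsg.pCore p (↥(Subgroup.normalizer (H : Set G)) ⧸
              (Subgroup.centralizer (H : Set G)).subgroupOf (Subgroup.normalizer (H : Set G)))).comap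
            (QuotientGroup.mk' _)).map (Subgroup.normalizer (H : Set G)).subtype ∧
      ¬ p ∣ H.relIndex (((Cfsg.pCore p (↥(Subgroup.normalizer (H : Set G)) ⧸
              (Subgroup.centralizer (H : Set G)).subgroupOf (Subgroup.normalizer (H : Set G)))).comap
            (QuotientGroup.mk' _)).map (Subgroup.normalizer (H : Set G)).subtype)) ↔
    ((P : Subgroup G) ⊓ Subgroup.centralizer (H : Set G) ≤ H ∧
      (Cfsg.pPrimePCore p ↥(Subgroup.normalizer (H : Set G))).map (Subgroup.normalizer (H : Set G)).subtype =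
        H ⊔ Subgroup.centralizer (H : Set G)) := by
  classical
  have hHp : IsPGroup p H := P.2.to_le hHP
  set N := normalizer (H : Set G) with hN
  set C := centralizer (H : Set G) with hCd
  have hCN : C ≤ N := centralizer_le_normalizer _
  have hHN : H ≤ N := le_normalizer
  have hNC : N ≤ normalizer (C : Set G) := normalizer_le_normalizer_centralizer H
  set f := QuotientGroup.mk' (C.subgroupOf N) with hf
  set D0 := (pCore p (N ⧸ C.subgroupOf N)).comap f with hD0
  set D := D0.map N.subtype with hD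
  change _ ↔ (_ ∧ Oppp p N = _)
  have hDN : D ≤ N := map_subtype_le _
  have hND : N ≤ normalizer (D : Set G) := (normal_iff_map_subtype D0).1 inferInstance
  have d2 : Res p D ≤ C := by
    rw [hD, ← map_Res, map_subtype_le_iff]
    have h1 : IsPGroup p (D0.map f) := (isPGroup_pCore p).to_le (map_comap_le _ _)
    rw [← Res_eq_bot_iff, ← map_Res, Subgroup.map_eq_bot_iff, hf, QuotientGroup.ker_mk'] at h1
    exact h1
  have d3 : ∀ X, X ≤ N → N ≤ normalizer (X : Set G) → Res p X ≤ C → X ≤ D := by
    intro X h1 h2 h3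
    haveI : (X.subgroupOf N).Normal := normal_subgroupOf_of_le_normalizer h2
    haveI : ((X.subgroupOf N).map f).Normal := Normal.map inferInstance _ (QuotientGroup.mk'_surjective _)
    refine le_map_subtype_iff.2 ⟨h1, map_le_iff_le_comap.1 (le_pCore ?_)⟩
    rw [← Res_eq_bot_iff, ← map_Res, Subgroup.map_eq_bot_iff, hf, QuotientGroup.ker_mk', ← map_subtype_le_iff,
      map_Res, map_subgroupOf_eq_of_le h1]
    exact h3
  have hCD : C ≤ D := d3 C hCN hNC (ResPi_le _ _)
  have hS : SylIn p ((P : Subgroup G) ⊓ N) N := sylIn_of_not_dvd inf_le_right P.2.to_inf_left hSyl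
  have hO : Opp p N ≤ C := le_centralizer_iff.1 ((le_Op hHN le_rfl hHp).trans (Op_le_centralizer_Opp p N))
  have key : (P : Subgroup G) ⊓ C ≤ H → Res p C ≤ Opp p N := by
    intro h
    have h1 := hS.inf_normal hCN (inf_le_right.trans hNC)
    have h2 : HasNormalPComplement p C := by
      refine Transfer.hasNPC_of_normalizer_le_centralizer h1.toSylow fun c _ => ?_
      rw [mem_centralizer_iff]
      intro t ht
      have ht' : (t : G) ∈ H := h ⟨ht.1.1, t.2⟩
      exact Subtype.ext (mem_centralizer_iff.1 c.2 t ht')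
    rw [Transfer.hasNPC_iff_not_dvd, ← card_map_subtype, map_pResidual] at h2
    exact le_Opp ((ResPi_le _ _).trans hCN) (le_normalizer_ResPi hNC) (coprime_iff_not_dvd.2 h2)
  constructor
  · rintro ⟨h1, h2⟩
    have h3 := sylIn_of_not_dvd h1 hHp h2
    have h4 : (P : Subgroup G) ⊓ C ≤ H :=
      h3.le_of_normalizer P.2.to_inf_left (inf_le_right.trans hCD) (inf_le_right.trans hCN)
    refine ⟨h4, le_antisymm ?_ ?_⟩
    · refine (d3 _ (Oppp_le N) (le_normalizer_Oppp_self N) ((Res_Oppp_le N).trans hO)).trans ?_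
      rw [← h3.Res_sup, sup_comm]
      exact sup_le_sup_left d2 _
    · refine le_Oppp (sup_le hHN hCN) (le_normalizer_sup le_rfl hNC) ?_
      rw [sup_comm]
      exact (ResPi_le_ResPi (Res_sup_le' (hHN.trans hNC) hHp)).trans (key h4)
  · rintro ⟨h1, h2⟩
    have h3 : H ≤ D := d3 H hHN le_rfl ((Res_eq_bot_iff.2 hHp).le.trans bot_le)
    have h4 : D ≤ H ⊔ C := h2 ▸ le_Oppp hDN hND ((ResPi_le_ResPi d2).trans (key h1))
    refine ⟨h3, (hS.inf_normal hDN (inf_le_right.trans hND)).not_dvd_relIndex_of_le ?_ h3⟩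
    have h5 := sup_inf_of_le_normalizer (A := H) (B := C) (C := (P : Subgroup G)) (hHN.trans hNC) hHP
    refine le_trans (le_inf (inf_le_right.trans h4) (inf_le_left.trans inf_le_left)) ?_
    rw [h5, inf_comm]
    exact sup_le le_rfl h1

end Cfsg.Agent.S3076
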