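import Cfsg.Statements.S3078
import Cfsg.Agent.Lib.Transfer.CD2

set_option autoImplicit false
open Cfsg

namespace Cfsg.Agent.S3078

set_option linter.unusedSectionVars false
set_option linter.unusedVariables false
set_option linter.style.haveILetI false
set_option linter.unusedSimpArgs false

open Subgroup Transfer MS CD
open scoped commutatorElement

/-- A replacement Theorem for abelian subgroups of p-groups, p odd. Let G be a finite p-group with p odd, A an abelian subgroup of G, and B a subgroup of nilpotency class at most 2 with [B, B] ≤ A, such that A normalizes B but B does not normalize A. Then there is an abelian subgroup A* of G of the same order as A with A ∩ B strictly contained in A* ∩ B, A* contained in N_G(A) and in the normal closure of A, the exponent of A* dividing the exponent of A, and with the subgroup generated by the elements of order dividing p in A of order at most that of the corresponding subgroup of A* (the rank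 of A is at most the rank of A*). -/
theorem result {G : Type*} [Group G] [Finite G] {p : ℕ} [Fact p.Prime] (hp : p ≠ 2) (hG : IsPGroup p G) (A B : Subgroup G) (hA : IsMulCommutative A) (hB2 : ⁅⁅B, B⁆, B⁆ = ⊥) (hBA : ⁅B, B⁆ ≤ A) (hAB : A ≤ Subgroup.normalizer (B : Set G)) (hBnA : ¬ B ≤ Subgroup.normalizer (A : Set G)) : ∃ Astar : Subgroup G, IsMulCommutative Astar ∧ Nat.card Astar = Nat.card A ∧ A ⊓ B < Astar ⊓ B ∧ Astar ≤ Subgroup.normalizer (A : Set G) ∧ Astar ≤ Subgroup.normalClosure (A : Set G) ∧ Monoid.exponent Astar ∣ Monoid.exponent A ∧ Nat.card (Cfsg.omegaOne p A) ≤ Nat.card (Cfsg.omegaOne p Astar) := by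
  have hS : IsPGroup p (A ⊔ B : Subgroup G) := hG.to_subgroup _
  have hn : A ⊔ B ≤ NN B := sup_le hAB (le_nn _)
  obtain ⟨b, hb, h1, h2⟩ := exists_replacement_elt hS le_sup_right hn hBnA
  obtain ⟨k1, k2, -, k3, k4, k5, -, -, k6⟩ := glauberman_replacement hS le_sup_right hn
    (fun h => absurd h hp) le_sup_left hA hBA hb h1 h2 rfl
  have hm : ∀ a ∈ A, ⁅a, b⁻¹⁆ ∈ (A ⊓ cj b⁻¹ A) ⊔ closure {g | ∃ a ∈ A, g = a * b⁻¹ * a⁻¹ * b} :=
    fun a ha => mem_sup_right (subset_closure ⟨a, ha, by rw [commutatorElement_def, inv_inv]⟩)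
  have hD : A ⊓ cj b⁻¹ A ≤ (A ⊓ cj b⁻¹ A) ⊔ closure {g | ∃ a ∈ A, g = a * b⁻¹ * a⁻¹ * b} := le_sup_left
  generalize (A ⊓ cj b⁻¹ A) ⊔ closure {g | ∃ a ∈ A, g = a * b⁻¹ * a⁻¹ * b} = Y at *
  refine ⟨Y, k2, k1, k3, k5, k4.trans (sup_le le_normalClosure
    (cj_le le_normalClosure (nn_normal (mem_top _)))), ?_, ?_⟩
  · refine Monoid.exponent_dvd_of_forall_pow_eq_one fun y => Subtype.ext (k6 _ ?_ ?_ y y.2)
    · obtain ⟨n, hn⟩ := (hG.to_subgroup A).exists_card_eq
      refine Odd.of_dvd_nat ?_ (Group.exponent_dvd_nat_card)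
      rw [hn]; exact ((Fact.out : p.Prime).odd_of_ne_two hp).pow
    · intro a ha
      exact congrArg Subtype.val (Monoid.pow_exponent_eq_one (⟨a, ha⟩ : A))
  · have oA : ∀ {X : Subgroup G}, IsMulCommutative X → ∀ x, x ∈ omegaOne p X ↔ x ∈ X ∧ x ^ p = 1 :=
      fun {X} hX x => ⟨fun h => ⟨(closure_le _).2 (fun _ h => h.1) h,
        pow_eq_one_of_mem_omegaOne hp ((der_le X).trans (ab_cc hX)) h⟩, fun h => subset_closure h⟩
    have n1 : cj b⁻¹ A ≤ NN A := (cj_le le_rfl (inv_mem h1)).trans' (cj_mono _ (le_inf le_sup_left (le_nn _))) |>.trans inf_le_right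
    have n2 : A ≤ NN (cj b⁻¹ A) := by
      rw [← cj_normalizer, le_cj_iff_cj_inv_le, inv_inv]
      exact (cj_le (le_inf le_sup_left (le_nn _)) h1).trans inf_le_right
    have hc := repl_count (U := omegaOne p A) (V := omegaOne p Y) hD hm fun a ha => by
      obtain ⟨a1, a2⟩ := (oA hA a).1 ha
      refine (oA k2 _).2 ⟨hm a a1, ?_⟩
      have e : ⁅a, b⁻¹⁆ = a * (b⁻¹ * a⁻¹ * b⁻¹⁻¹) := by rw [commutatorElement_def]; group
      have m1 : b⁻¹ * a⁻¹ * b⁻¹⁻¹ ∈ cj b⁻¹ A := conj_mem_cj (A.inv_mem a1)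
      have m2 : ⁅(b⁻¹ * a⁻¹ * b⁻¹⁻¹)⁻¹, a⁻¹⁆ ∈ ⁅cj b⁻¹ A, A⁆ :=
        commutator_mem_commutator (inv_mem m1) (inv_mem a1)
      rw [e, mul_pow_of_class_two hp (mem_CC.1 (ab_cc hA (comm_le_right n1 m2)) _ a1)
        (mem_CC.1 (ab_cc (ab_cj hA _) (comm_le_left n2 m2)) _ m1) (by rw [a2]; exact Commute.one_left _),
        a2, conj_pow, inv_pow, a2]
      group
    have e1 : A ⊓ omegaOne p A = omegaOne p A := inf_eq_right.2 fun x h => ((oA hA x).1 h).1
    have e2 : Y ⊓ omegaOne p Y = omegaOne p Y := inf_eq_right.2 fun x h => ((oA k2 x).1 h).1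
    have e3 : A ⊓ cj b⁻¹ A ⊓ omegaOne p A ≤ A ⊓ cj b⁻¹ A ⊓ omegaOne p Y := fun x h =>
      ⟨h.1, (oA k2 x).2 ⟨hD h.1, ((oA hA x).1 h.2).2⟩⟩
    rw [e1, e2] at hc
    exact Nat.le_of_mul_le_mul_right (hc.trans (Nat.mul_le_mul_left _ (card_le_of_le e3))) (card_pos' _)

end Cfsg.Agent.S3078
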