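import Cfsg.Statements.S3084
import Cfsg.Agent.Lib.Ez.J9

set_option autoImplicit false
open Cfsg

namespace Cfsg.Agent.S3084

/-- Let K be a group acting faithfully and linearly on a finite-dimensional vector space U of dimension 2n ≥ 2 over the field with two elements, preserving a quadratic form q whose polar bilinear form is non-degenerate and which vanishes on some n-dimensional subspace (a non-singular form of plus type). Then there is a finite group R with a normal extraspecial 2-subgroup Q of order 2^(2n+1), an isomorphism of R/Q with K, and a surjective homomorphism χ from Q onto (the additive group of) U with kernel the centre of Q, such that χ carries conjugation by any r in R to the action of the image of r in K, and an element a of Q squares to the identity exactly when q vanishes at χ(a). -/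
theorem result {K : Type*} [Group K] {U : Type*} [AddCommGroup U] [Module (ZMod 2) U] [Module.Finite (ZMod 2) U] (n : ℕ) (hn1 : 1 ≤ n) (hn : Module.finrank (ZMod 2) U = 2 * n) (ρ : Representation (ZMod 2) K U) (hρ : Function.Injective ρ) (q : QuadraticForm (ZMod 2) U) (hq : ∀ (k : K) (u : U), q (ρ k u) = q u) (hnd : (QuadraticMap.polarBilin q).Nondegenerate) (hplus : ∃ W : Submodule (ZMod 2) U, Module.finrank (ZMod 2) ↥W = n ∧ ∀ w ∈ W, q w = 0) : ∃ (R : Type) (_ : Group R) (_ : Finite R) (Q : Subgroup R) (hN : Q.Normal) (e : R ⧸ Q ≃* K) (χ : ↥Q →* Multiplicative U), Cfsg.IsExtraspecial 2 ↥Q ∧ Nat.card ↥Q = 2 ^ (2 * n + 1) ∧ Function.Surjective χ ∧ χ.ker = Subgroup.center ↥Q ∧ (∀ (r : R) (a : ↥Q), χ ⟨r * a * r⁻¹, hN.conj_mem (a : R) a.2 r⟩ = Multiplicative.ofAdd (ρ (e (r : R ⧸ Q)) (Multiplicative.toAdd (χ a)))) ∧ ∀ a : ↥Q, a * a = 1 ↔ q (Multiplicative.toAdd (χ a)) = 0 := by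
  open Cfsg.Agent.Classical Module in
  let t : U ≃ₗ[ZMod 2] (Fin (2 * n) → ZMod 2) := (Module.finBasisOfFinrankEq (ZMod 2) U hn).equivFun
  let Φ := Classical.F2.mkF (fun v => q (t.symm v)) ((QuadraticMap.polarBilin q).compl₁₂ t.symm.toLinearMap t.symm.toLinearMap)
    fun u v => by simp [QuadraticMap.polar]
  have hΦ : Φ.Nondeg := fun v hv => by
    have := hnd.2 (t.symm v) fun u => by
      have := hv (t u)
      change QuadraticMap.polarBilin q (t.symm (t u)) (t.symm v) = 0 at this
      rwa [t.symm_apply_apply] at this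
    simpa using this
  have hV : Module.finrank (ZMod 2) (Fin (2 * n) → ZMod 2) = 2 * n := by simp
  obtain ⟨W, hW, hW0⟩ := hplus
  obtain ⟨β, b1, b2, b3, b4, -, -⟩ := Ez.Xo.model (m := n) hΦ hn1 hV
    ⟨W.map t.toLinearMap, Classical.Form.TS_orth (by
      rintro _ ⟨w, hw, rfl⟩
      change q (t.symm (t w)) = 0
      rw [t.symm_apply_apply, hW0 w hw]), by rw [LinearEquiv.finrank_map_eq, hW]⟩ fun W hW => by
      have := hW.two_finrank_le hΦ; omega
  replace b1 : ∀ v, β v v = q (t.symm v) := b1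
  let ρ0 : K →* ((Fin (2 * n) → ZMod 2) →ₗ[ZMod 2] (Fin (2 * n) → ZMod 2)) :=
    { toFun := fun k => t.toLinearMap ∘ₗ ρ k ∘ₗ t.symm.toLinearMap
      map_one' := LinearMap.ext fun v => by simp
      map_mul' := fun a b => LinearMap.ext fun v => by simp }
  have hρ0 : ∀ k v, ρ0 k v = t (ρ k (t.symm v)) := fun _ _ => rfl
  obtain ⟨R, _, _, J, π, hJ, hπ, hk, hc⟩ := Ez.Xo.griess b3 b2 ρ0 (fun a b e => hρ (LinearMap.ext fun u => by
    have := LinearMap.congr_fun e (t u)
    simpa [hρ0] using this)) fun k v => by simp [b1, hρ0, hq]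
  haveI : Finite (S5396.ExG β) := Finite.of_equiv _ S5396.eqv.symm
  let ε : S5396.ExG β ≃* π.ker := (MonoidHom.ofInjective hJ).trans (MulEquiv.subgroupCongr hk.symm)
  have hε : ∀ x, (ε x : R) = J x := fun _ => rfl
  let χ : π.ker →* Multiplicative U := (AddMonoidHom.toMultiplicative t.symm.toLinearMap.toAddMonoidHom).comp
    (S5396.pr.comp ε.symm.toMonoidHom)
  have hχ : ∀ x, χ (ε x) = Multiplicative.ofAdd (t.symm x.v) := fun x => by
    show Multiplicative.ofAdd (t.symm (ε.symm (ε x)).v) = _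
    rw [ε.symm_apply_apply]
  have hz : ∀ x : S5396.ExG β, x ∈ Subgroup.center (S5396.ExG β) ↔ x.v = 0 := fun x => by rw [b2]; rfl
  refine ⟨R, inferInstance, inferInstance, π.ker, inferInstance, QuotientGroup.quotientKerEquivOfSurjective π hπ, χ,
    ?_, (Nat.card_congr ε.toEquiv).symm.trans b4, fun u => ⟨ε ⟨t u.toAdd, 0⟩, by simp [hχ]⟩, ?_, fun r a => ?_,
    fun a => ?_⟩
  · obtain ⟨z, hz'⟩ := Transfer.ES.of_extraspecial b3
    have h1 := PU.es_map J hz' (by rw [top_inf_eq, MonoidHom.ker_eq_bot_iff]; exact hJ)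
    rw [← MonoidHom.range_eq_map, ← hk] at h1
    refine PU.es_extra h1 fun h2 => ?_
    have h3 := Subgroup.card_le_of_le h2
    rw [h1.card_z, (Nat.card_congr ε.toEquiv).symm.trans b4] at h3
    have h4 : 2 ^ 2 ≤ 2 ^ (2 * n + 1) := Nat.pow_le_pow_right two_pos (by omega)
    omega
  · ext a
    obtain ⟨x, rfl⟩ := ε.surjective a
    rw [MonoidHom.mem_ker, hχ, ofAdd_eq_one, LinearEquiv.map_eq_zero_iff, ← hz, Subgroup.mem_center_iff,
      Subgroup.mem_center_iff, ε.surjective.forall]
    refine forall_congr' fun y => ?_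
    rw [← map_mul, ← map_mul, ε.injective.eq_iff]
  · obtain ⟨x, rfl⟩ := ε.surjective a
    obtain ⟨y, hy, hy'⟩ := hc r x
    rw [show (⟨r * ε x * r⁻¹, _⟩ : π.ker) = ε y from Subtype.ext hy, hχ, hχ, hy', hρ0, t.symm_apply_apply]
    rfl
  · obtain ⟨x, rfl⟩ := ε.surjective a
    rw [hχ, ← map_mul, map_eq_one_iff ε ε.injective, toAdd_ofAdd, ← b1, S5396.ExG.ext_iff]
    have v2 : x.v + x.v = 0 := funext fun i => CharTwo.add_self_eq_zero _
    simp [CharTwo.add_self_eq_zero, v2]

end Cfsg.Agent.S3084
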