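import Cfsg.Statements.S3085

set_option autoImplicit false
open Cfsg

namespace Cfsg.Agent.S3085

open Subgroup

structure ES {Q : Type*} [Group Q] (z : Q) : Prop where
  cz : ∀ x, z * x = x * z
  zz : z * z = 1
  z1 : z ≠ 1
  alt : ∀ x y : Q, Commute x y ∨ x * y = z * (y * x)
  cen : ∀ w : Q, (∀ u, Commute w u) → w = 1 ∨ w = z

section
variable {Q : Type*} [Group Q] [Finite Q] {z a b x y w : Q}

theorem ES.anti (h : ES z) (n : ¬ Commute x y) : x * y = z * (y * x) := (h.alt x y).resolve_left n

theorem ES.mul_mul (h : ES z) (n1 : ¬ Commute x y) (n2 : ¬ Commute x w) : Commute x (y * w) := by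
  change x * (y * w) = y * w * x
  rw [← mul_assoc, h.anti n1, mul_assoc, mul_assoc, h.anti n2, ← mul_assoc y, ← h.cz, mul_assoc, ← mul_assoc z, h.zz,
    one_mul, mul_assoc]

theorem not_mul_left (n1 : ¬ Commute x y) (c : Commute x w) : ¬ Commute x (y * w) := fun h =>
  n1 (by simpa using h.mul_right c.inv_right)

theorem not_mul_right (n1 : ¬ Commute x y) (c : Commute x w) : ¬ Commute x (w * y) := fun h =>
  n1 (by simpa using c.inv_right.mul_right h)

open Classical in
noncomputable def sf (a x : Q) : Q := if Commute a x then x else a * x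

theorem sf_pos (c : Commute a x) : sf a x = x := if_pos c
theorem sf_neg (c : ¬ Commute a x) : sf a x = a * x := if_neg c

noncomputable def sg (h : ES z) (ha : a * a = z) : MulAut Q :=
  MulEquiv.ofBijective (MonoidHom.mk' (sf a) fun x y => by
    by_cases cx : Commute a x <;> by_cases cy : Commute a y
    · rw [sf_pos cx, sf_pos cy, sf_pos (cx.mul_right cy)]
    · rw [sf_pos cx, sf_neg cy, sf_neg (not_mul_right cy cx), ← mul_assoc, cx.eq, mul_assoc]
    · rw [sf_neg cx, sf_pos cy, sf_neg (not_mul_left cx cy), mul_assoc]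
    · rw [sf_neg cx, sf_neg cy, sf_pos (h.mul_mul cx cy), mul_assoc, ← mul_assoc x a, h.anti fun c => cx c.symm]
      calc _ = z * z * (x * y) := by rw [h.zz, one_mul]
        _ = z * (a * a) * (x * y) := by rw [ha]
        _ = _ := by rw [← mul_assoc z a, h.cz a]; simp only [mul_assoc])
    (Finite.injective_iff_bijective.1 ((injective_iff_map_eq_one _).2 fun x hx => by
      by_cases cx : Commute a x
      · exact (sf_pos cx).symm.trans hx
      · have : a * x = 1 := (sf_neg cx).symm.trans hx
        exact absurd (eq_inv_of_mul_eq_one_right this ▸ (Commute.refl a).inv_right) cx))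

theorem sg_apply (h : ES z) (ha : a * a = z) (x : Q) : sg h ha x = sf a x := rfl

theorem sg_sq (h : ES z) (ha : a * a = z) : sg h ha * sg h ha = MulAut.conj a := by
  ext x
  rw [MulAut.mul_apply, sg_apply, sg_apply, MulAut.conj_apply]
  by_cases cx : Commute a x
  · rw [sf_pos cx, sf_pos cx, cx.eq, mul_inv_cancel_right]
  · rw [sf_neg cx, sf_neg (not_mul_right cx (Commute.refl a)), ← mul_assoc, ha, h.anti cx]; group

theorem sg_comm (h : ES z) (ha : a * a = z) (hb : b * b = z) (c : Commute a b) :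
    sg h ha * sg h hb = sg h hb * sg h ha := by
  ext x
  rw [MulAut.mul_apply, MulAut.mul_apply, sg_apply, sg_apply, sg_apply, sg_apply]
  by_cases cx : Commute a x <;> by_cases cy : Commute b x
  · rw [sf_pos cx, sf_pos cy, sf_pos cx]
  · rw [sf_pos cx, sf_neg cy, sf_pos (c.mul_right cx)]
  · rw [sf_pos cy, sf_neg cx, sf_pos (c.symm.mul_right cy)]
  · rw [sf_neg cy, sf_neg cx, sf_neg (not_mul_right cx c), sf_neg (not_mul_right cy c.symm), ← mul_assoc, c.eq,
      mul_assoc]

theorem conj_mul_conj (φ ψ : MulAut Q) (e f : Q) :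
    MulAut.conj e * φ * (MulAut.conj f * ψ) = MulAut.conj (e * φ f) * (φ * ψ) := by
  ext x; simp [mul_assoc]

theorem ES.step (h : ES z) {C : Subgroup Q} (hC : ∀ w ∈ C, (∀ u ∈ C, Commute w u) → w = 1 ∨ w = z)
    (hc : 2 < Nat.card C) : ∃ x ∈ C, ∃ y ∈ C, x * x = z ∧ ¬ Commute x y ∧ ∃ D : Subgroup Q, D ≤ C ∧
      (∀ u ∈ D, Commute x u ∧ Commute y u) ∧ Nat.card C ≤ 4 * Nat.card D ∧
      ∀ w ∈ D, (∀ u ∈ D, Commute w u) → w = 1 ∨ w = z := by
  have sq : ∀ x : Q, x * x = 1 ∨ x * x = z := fun x => h.cen _ fun u => by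
    by_cases c : Commute u x
    · exact (c.mul_right c).symm
    · exact (h.mul_mul c c).symm
  obtain ⟨x, hx, y, hy, h1, h2⟩ : ∃ x ∈ C, ∃ y ∈ C, x * x = z ∧ ¬ Commute x y := by
    obtain ⟨x, hx, y, hy, n⟩ : ∃ x ∈ C, ∃ y ∈ C, ¬ Commute x y := by
      by_contra hn
      push Not at hn
      have : (C : Set Q) ⊆ {1, z} := fun w hw => hC w hw (hn w hw)
      have := Set.ncard_le_ncard this
      have h2 := Set.ncard_insert_le (1 : Q) {z}
      rw [Set.ncard_singleton] at h2
      exact absurd hc (not_lt.2 (this.trans h2))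
    rcases sq x with e | e
    · rcases sq y with e' | e'
      · refine ⟨x * y, C.mul_mem hx hy, y, hy, ?_, fun c => not_mul_left (fun c => n c.symm) (Commute.refl y) c.symm⟩
        rw [mul_assoc, ← mul_assoc y, h.anti fun c => n c.symm, ← mul_assoc, ← mul_assoc, ← h.cz, mul_assoc z,
          mul_assoc z, ← mul_assoc x, e, one_mul, e', mul_one]
      · exact ⟨y, hy, x, hx, e', fun c => n c.symm⟩
    · exact ⟨x, hx, y, hy, e, n⟩
  have key : ∀ u ∈ C, ∃ i : Bool × Bool, (fun v => Commute x v ∧ Commute y v)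
      (u * (if i.1 then x else 1) * (if i.2 then y else 1)) := fun u _ => by
    have h3 : ¬ Commute y x := fun c => h2 c.symm
    by_cases cx : Commute x u <;> by_cases cy : Commute y u
    · exact ⟨(false, false), by simpa using ⟨cx, cy⟩⟩
    · exact ⟨(true, false), by simpa using ⟨cx.mul_right (Commute.refl x), h.mul_mul cy h3⟩⟩
    · exact ⟨(false, true), by simpa using ⟨h.mul_mul cx h2, cy.mul_right (Commute.refl y)⟩⟩
    · exact ⟨(true, true), by
        simpa using ⟨h.mul_mul (not_mul_left cx (Commute.refl x)) h2, (h.mul_mul cy h3).mul_right (Commute.refl y)⟩⟩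
  have hm : ∀ u ∈ C, ∀ i : Bool × Bool, u * (if i.1 then x else 1) * (if i.2 then y else 1) ∈ C := fun u hu i =>
    C.mul_mem (C.mul_mem hu (by split_ifs; exacts [hx, C.one_mem])) (by split_ifs; exacts [hy, C.one_mem])
  let D : Subgroup Q := C ⊓ (centralizer {x} ⊓ centralizer {y})
  have hD : ∀ v, v ∈ D ↔ v ∈ C ∧ Commute x v ∧ Commute y v := fun v => by
    simp only [D, mem_inf, mem_centralizer_singleton_iff, Commute, SemiconjBy, eq_comm]
  refine ⟨x, hx, y, hy, h1, h2, D, inf_le_left, fun u hu => ((hD u).1 hu).2, ?_, fun w hw hw' => ?_⟩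
  · choose i hi using key
    have := Nat.card_le_card_of_injective (fun u : C => ((i u u.2, ⟨_, (hD _).2 ⟨hm u u.2 _, hi u u.2⟩⟩) :
      (Bool × Bool) × D)) fun u v e => by
        have e1 : i u u.2 = i v v.2 := congrArg Prod.fst e
        have e2 := congrArg (fun t => (t.2 : Q)) e
        simp only [e1, mul_left_inj] at e2
        exact Subtype.ext e2
    simpa using this
  · refine hC w hw.1 fun u hu => ?_
    obtain ⟨i, hi⟩ := key u hu
    have h4 := hw' _ ((hD _).2 ⟨hm u hu i, hi⟩)
    obtain ⟨-, h5, h6⟩ := (hD w).1 hw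
    have h7 : Commute w (if i.1 then x else 1) := by split_ifs; exacts [h5.symm, Commute.one_right w]
    have h8 : Commute w (if i.2 then y else 1) := by split_ifs; exacts [h6.symm, Commute.one_right w]
    have := (h4.mul_right h8.inv_right).mul_right h7.inv_right
    rwa [mul_inv_cancel_right, mul_inv_cancel_right] at this

theorem ES.main (h : ES z) {L : Subgroup (MulAut Q)} (hL : (Inn Q).IsComplement' L) (ha : a * a = z) :
    ∃ e, ¬ Commute a e ∧ ∀ b, b * b = z → Commute a b → ∀ y, ¬ Commute y a → Commute y b → Commute b e := by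
  have ex : ∀ φ : MulAut Q, ∃ e, MulAut.conj e * φ ∈ L := fun φ => by
    obtain ⟨⟨⟨_, e, rfl⟩, l⟩, hl⟩ := hL.2 φ
    refine ⟨e⁻¹, ?_⟩
    rw [← hl, map_inv]; simp
  have un : ∀ u : Q, MulAut.conj u ∈ L → ∀ y, Commute u y := fun u hu y => by
    have : MulAut.conj u ∈ Inn Q ⊓ L := ⟨⟨u, rfl⟩, hu⟩
    rw [hL.disjoint.eq_bot, mem_bot] at this
    exact mul_inv_eq_iff_eq_mul.1 (MulEquiv.congr_fun this y)
  have nc : ∀ b, b * b = z → ¬ ∀ y, Commute b y := fun b hb hc => by
    rcases h.cen b hc with e | e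
    · exact h.z1 (by rw [← hb, e, one_mul])
    · exact h.z1 (by rw [← hb, e, h.zz])
  obtain ⟨e, he⟩ := ex (sg h ha)
  refine ⟨e, fun c => nc a ha fun y => ?_, fun b hb c y n1 c1 => ?_⟩
  · have := L.mul_mem he he
    rw [conj_mul_conj, sg_sq, ← map_mul, sg_apply, sf_pos c] at this
    have h1 : Commute y (e * e) := by
      by_cases c : Commute y e
      exacts [c.mul_right c, h.mul_mul c c]
    have := (h1.inv_right.mul_right (un _ this y).symm).symm
    rwa [inv_mul_cancel_left] at this
  · by_contra n2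
    obtain ⟨f, hf⟩ := ex (sg h hb)
    have := L.mul_mem (L.mul_mem he hf) (L.inv_mem (L.mul_mem hf he))
    rw [conj_mul_conj, conj_mul_conj, sg_comm h ha hb c, mul_inv_rev, mul_assoc, mul_inv_cancel_left, ← map_inv,
      ← map_mul, sg_apply, sg_apply, sf_neg n2] at this
    have h1 := fun y => (un _ this y).symm
    have cc : ∀ y u v : Q, Commute y (u * v) ↔ (Commute y u ↔ Commute y v) := fun y u v => by
      by_cases c1 : Commute y u <;> by_cases c2 : Commute y v
      · simp [c1, c2]
      · simp [c1, c2, not_mul_right c2 c1]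
      · simp [c1, c2, not_mul_left c1 c2]
      · simp [c1, c2, h.mul_mul c1 c2]
    by_cases c2 : Commute a f
    · refine nc b hb fun y => Commute.symm ?_
      have := h1 y
      simp only [sf_pos c2, cc, Commute.inv_right_iff] at this
      tauto
    · have := h1 y
      simp only [sf_neg c2, cc, Commute.inv_right_iff] at this
      tauto

end

/-- Let Q be an extraspecial 2-group of order 2^(2n+1) with n ≥ 3 that is of plus type (it contains an elementary abelian subgroup of order 2^(n+1)). Then the group of inner automorphisms of Q has no complement in the full automorphism group of Q: the extension of the inner automorphism group (elementary abelian of order 2^(2n)) by the outer automorphism group (the orthogonal group of plus type) does not split. -/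
theorem result {Q : Type*} [Group Q] [Finite Q] (n : ℕ) (hn : 3 ≤ n) (hQ : Cfsg.IsExtraspecial 2 Q) (hcard : Nat.card Q = 2 ^ (2 * n + 1)) (hplus : ∃ E : Subgroup Q, Cfsg.IsElementaryAbelian 2 E ∧ Nat.card ↥E = 2 ^ (n + 1)) (L : Subgroup (MulAut Q)) : ¬ (Cfsg.Inn Q).IsComplement' L := by
  intro hL
  obtain ⟨z, hz⟩ : ∃ z : Q, ES z := by
    obtain ⟨z, h1, h2⟩ := (Nat.card_eq_two_iff' (1 : center Q)).1 hQ.2
    have hc : ∀ w ∈ center Q, w = 1 ∨ w = z := fun w hw => by
      by_cases e : w = 1
      · exact Or.inl e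
      · exact Or.inr (congrArg Subtype.val (h2 ⟨w, hw⟩ fun h => e (congrArg Subtype.val h)))
    have h3 : (z : Q) ≠ 1 := fun h => h1 (Subtype.ext h)
    refine ⟨z, fun x => (mem_center_iff.1 z.2 x).symm, ?_, h3, fun x y => ?_,
      fun w hw => hc w (mem_center_iff.2 fun g => (hw g).symm.eq)⟩
    · exact (hc _ (z * z).2).resolve_right fun h => h3 (mul_left_cancel (h.trans (mul_one _).symm))
    · rcases hc _ (hQ.1.2.2.le (commutator_mem_commutator (mem_top x) (mem_top y))) with e | e
      · exact Or.inl (commutatorElement_eq_one_iff_commute.1 e)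
      · exact Or.inr (by rw [← e, commutatorElement_def]; group)
  have h7 : 2 ^ 7 ≤ Nat.card (⊤ : Subgroup Q) := by
    rw [card_top, hcard]; exact Nat.pow_le_pow_right two_pos (by omega)
  obtain ⟨b, -, y1, -, hb, n1, C, -, c1, k1, z1⟩ := hz.step (C := ⊤) (fun w _ hw => hz.cen w fun u => hw u trivial) (by omega)
  obtain ⟨c, hc1, y2, hy2, hc, n2, D, l2, c2, k2, z2⟩ := hz.step z1 (by omega)
  obtain ⟨d, hd1, -, -, hd, -⟩ := hz.step z2 (by omega)
  have bc := (c1 c hc1).1
  have bd := (c1 d (l2 hd1)).1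
  have cd := (c2 d hd1).1
  have ha : b * c * d * (b * c * d) = z := by
    rw [← sq, (bd.mul_left cd).mul_pow, bc.mul_pow, sq, sq, sq, hb, hc, hd, hz.zz, one_mul]
  obtain ⟨e, n, he⟩ := hz.main hL ha
  have m1 : ¬ Commute y1 (b * c * d) :=
    not_mul_left (not_mul_left (fun c => n1 c.symm) (c1 c hc1).2) (c1 d (l2 hd1)).2
  have m2 : ¬ Commute y2 (b * c * d) :=
    not_mul_left (not_mul_right (fun c => n2 c.symm) (c1 y2 hy2).1.symm) (c2 d hd1).2
  refine n (((he b hb ?_ y2 m2 (c1 y2 hy2).1.symm).mul_left (he c hc ?_ y1 m1 (c1 c hc1).2)).mul_left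
    (he d hd ?_ y1 m1 (c1 d (l2 hd1)).2))
  · exact ((Commute.refl b).mul_left bc.symm).mul_left bd.symm
  · exact (bc.mul_left (Commute.refl c)).mul_left cd.symm
  · exact (bd.mul_left cd).mul_left (Commute.refl d)

end Cfsg.Agent.S3085
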