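import Cfsg.Statements.S3086
import Cfsg.Agent.Lib.BG.PGV2
import Cfsg.Agent.Lib.BG.Act

set_option autoImplicit false
open Cfsg

namespace Cfsg.Agent.S3086

/-- The P(G,V)-theorem. Let p be a prime, G a finite group acting faithfully and linearly on a finite vector space V over the field with p elements, and A a nontrivial elementary abelian p-subgroup of G such that |A|·|C_V(A)| ≥ |B|·|C_V(B)| for every subgroup B of A. Then A normalizes every component (subnormal quasisimple subgroup) of G. -/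
theorem result {G V : Type*} [Group G] [Finite G] [AddCommGroup V] [Finite V] (p : ℕ) [Fact p.Prime] [Module (ZMod p) V]
    (ρ : Representation (ZMod p) G V) (hρ : Function.Injective ρ)
    (A : Subgroup G) (hA : A ≠ ⊥) (hAel : Cfsg.IsElementaryAbelian p A)
    (hP : ∀ B : Subgroup G, B ≤ A →
      Nat.card ↥B * Nat.card {v : V // ∀ b ∈ B, ρ b v = v} ≤ Nat.card ↥A * Nat.card {v : V // ∀ a ∈ A, ρ a v = v}) :
    ∀ K : Subgroup G, Cfsg.IsComponent K → A ≤ Subgroup.normalizer (K : Set G) := by
  open Pointwise commutatorElement Subgroup in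
  open Cfsg.Agent.Comp Cfsg.Agent.BG Subgroup commutatorElement in
  intro K hK
  let φ : G →* MulAut (Multiplicative V) := MonoidHom.mk' (fun g =>
    { toFun := fun v => Multiplicative.ofAdd (ρ g v.toAdd)
      invFun := fun v => Multiplicative.ofAdd (ρ g⁻¹ v.toAdd)
      left_inv := fun v => by simp
      right_inv := fun v => by simp
      map_mul' := fun v w => by simp }) fun g h => by ext v; simp
  have hφ : ∀ g v, φ g v = v ↔ ρ g v.toAdd = v.toAdd := fun g v => Iff.rfl
  obtain ⟨X, _, _, i, j, h⟩ := exists_act φ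
  have hV : IsElementaryAbelian p i.range := by
    rw [MonoidHom.range_eq_map]
    refine IsElementaryAbelian.map ⟨⟨⟨fun a b => Subtype.ext (mul_comm _ _)⟩⟩, fun a _ => ?_⟩ i
    apply Multiplicative.toAdd.injective
    rw [toAdd_pow, ← Nat.cast_smul_eq_nsmul (ZMod p), ZMod.natCast_self, zero_smul, toAdd_one]
  have hc : ∀ B : Subgroup G, Nat.card (i.range ⊓ centralizer (B.map j : Set X) : Subgroup X) =
      Nat.card {v : V // ∀ b ∈ B, ρ b v = v} := fun B => by
    refine (Nat.card_congr (Equiv.ofBijective (fun v => ⟨i (Multiplicative.ofAdd v.1), ⟨_, rfl⟩,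
      h.mem_Ct_map_iff.2 fun b hb => (hφ _ _).2 (v.2 b hb)⟩) ⟨fun v w e => Subtype.ext ?_, ?_⟩)).symm
    · exact Multiplicative.ofAdd.injective (h.inj (congrArg Subtype.val e))
    · rintro ⟨_, ⟨v, rfl⟩, hv⟩
      exact ⟨⟨v.toAdd, fun b hb => (hφ _ _).1 (h.mem_Ct_map_iff.1 hv b hb)⟩, rfl⟩
  have := h.normal
  have hK' := compIn_top_iff.2 hK
  have key := PGV.pgv (M := (⊤ : Subgroup G).map j) hV (le_normalizer_normal _ _) ((compIn_map_iff h.jnj).2 hK')
    (map_mono le_top) (IsElementaryAbelian.map hAel j) (fun e => hK'.qs.ne_bot (eq_bot_iff.2 fun k hk => hρ (by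
      rw [map_one]
      ext v
      exact (hφ k (Multiplicative.ofAdd v)).1 (h.comm_iff.1 (mem_centralizer_iff.1 (e ⟨k, hk, rfl⟩) _ ⟨_, rfl⟩).symm))))
    fun B hB => by
      obtain ⟨B, rfl⟩ : ∃ B' : Subgroup G, B'.map j = B := ⟨B.comap j, map_comap_eq_self (hB.trans (map_le_range _ _))⟩
      rw [hc, hc, h.card_map', h.card_map']
      exact hP B ((map_le_map_iff_of_injective h.jnj).1 hB)
  intro a ha
  rw [← cj_eq_self_iff]
  apply map_injective h.jnj
  rw [map_cj, cj_eq_self_iff.2 (key ⟨a, ha, rfl⟩)]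

end Cfsg.Agent.S3086
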