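import Cfsg.Statements.S3087
import Cfsg.Agent.Lib.Block.Syl1

set_option autoImplicit false
open Cfsg

namespace Cfsg.Agent.S3087

open Cfsg.Agent.Blk
open Cfsg.Agent.Char hiding cj cj_mul cj_inv_cj cj_cj_inv

/-- Let p be a prime, G a finite group acting linearly on a finite vector space V over the field with p elements, W a G-invariant subspace, and A a subgroup of G with |A|·|C_V(A)| ≥ |B|·|C_V(B)| for every subgroup B of A. Then |A|·|C_W(A)| ≥ |B|·|C_W(B)| for every subgroup B of A that contains C_A(W); that is, the image of A in the group induced on W satisfies the same maximality condition. -/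
theorem result {G V : Type*} [Group G] [Finite G] [AddCommGroup V] [Finite V] (p : ℕ) [Fact p.Prime] [Module (ZMod p) V]
    (ρ : Representation (ZMod p) G V) (W : Submodule (ZMod p) V) (hW : ∀ g : G, ∀ w ∈ W, ρ g w ∈ W)
    (A : Subgroup G)
    (hP : ∀ B : Subgroup G, B ≤ A →
      Nat.card ↥B * Nat.card {v : V // ∀ b ∈ B, ρ b v = v} ≤ Nat.card ↥A * Nat.card {v : V // ∀ a ∈ A, ρ a v = v})
    (B : Subgroup G) (hBA : B ≤ A) (hCB : ∀ a ∈ A, (∀ w ∈ W, ρ a w = w) → a ∈ B) :
    Nat.card ↥B * Nat.card {w : W // ∀ b ∈ B, ρ b w = w} ≤ Nat.card ↥A * Nat.card {w : W // ∀ a ∈ A, ρ a w = w} := by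
  classical
  let F : Subgroup G → AddSubgroup V := fun C =>
    { carrier := {v | ∀ b ∈ C, ρ b v = v}
      add_mem' := fun {x y} hx hy b hb => by rw [map_add, hx b hb, hy b hb]
      zero_mem' := fun b _ => map_zero _
      neg_mem' := fun {x} hx b hb => by rw [map_neg, hx b hb] }
  have e1 : ∀ C : Subgroup G, Nat.card {v : V // ∀ b ∈ C, ρ b v = v} = Nat.card (F C) := fun C => rfl
  have e2 : ∀ C : Subgroup G, Nat.card {w : W // ∀ b ∈ C, ρ b w = w} =
      Nat.card (F C ⊓ W.toAddSubgroup : AddSubgroup V) := fun C =>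
    Nat.card_congr
      { toFun := fun w => ⟨w.1.1, w.2, w.1.2⟩
        invFun := fun w => ⟨⟨w.1, w.2.2⟩, w.2.1⟩
        left_inv := fun _ => rfl
        right_inv := fun _ => rfl }
  have h1 := hP B hBA
  rw [e1, e1] at h1
  rw [e2, e2]
  have hAB : F A ≤ F B := fun v hv b hb => hv b (hBA hb)
  have key : ∀ X Y : AddSubgroup V, Nat.card (Y ⊓ X : AddSubgroup V) * Y.relIndex X = Nat.card X := by
    intro X Y
    rw [← AddSubgroup.card_mul_index (Y.addSubgroupOf X), AddSubgroup.relIndex]
    congr 1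
    rw [← AddSubgroup.inf_addSubgroupOf_right]
    exact (Nat.card_congr (AddSubgroup.addSubgroupOfEquivOfLe inf_le_right).toEquiv).symm
  have k1 := key (F B ⊓ W.toAddSubgroup) (F A)
  have k2 := key (F B) (F A)
  rw [← inf_assoc, inf_eq_left.2 hAB] at k1
  rw [inf_eq_left.2 hAB] at k2
  have k3 : (F A).relIndex (F B ⊓ W.toAddSubgroup) ≤ (F A).relIndex (F B) :=
    AddSubgroup.relIndex_le_of_le_right inf_le_left AddSubgroup.FiniteIndex.index_ne_zero
  have hpos : 0 < Nat.card (F A) := Nat.card_pos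
  have k4 : Nat.card B * (F A).relIndex (F B) ≤ Nat.card A := by
    rw [← k2] at h1
    refine Nat.le_of_mul_le_mul_right ?_ hpos
    calc _ = Nat.card B * (Nat.card (F A) * (F A).relIndex (F B)) := by ring
      _ ≤ _ := h1
  rw [← k1]
  calc _ = (Nat.card B * (F A).relIndex (F B ⊓ W.toAddSubgroup)) *
        Nat.card (F A ⊓ W.toAddSubgroup : AddSubgroup V) := by ring
    _ ≤ _ := Nat.mul_le_mul_right _ ((Nat.mul_le_mul_left _ k3).trans k4)

end Cfsg.Agent.S3087
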