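import Cfsg.Statements.S3110
import Cfsg.Agent.Lib.SSF.App

set_option autoImplicit false
open Cfsg

namespace Cfsg.Agent.S3110

open Cfsg.Agent.Sg Cfsg.Agent.MS Cfsg.Agent.Transfer Subgroup

/-- Let G be a finite group in which every 2-local subgroup is 2-constrained and some Sylow 2-subgroup has a self-centralizing abelian normal subgroup of 2-rank at least 3, and let S be any Sylow 2-subgroup of G. Then there is a subgroup W of G of odd order such that, for every subgroup B of S of 2-rank at least 2, W is generated by the largest normal odd-order subgroups O(C_G(b)) of the centralizers of the non-identity elements b of B, and W is normalized by the normalizer of every such B. -/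
theorem result {G : Type*} [Group G] [Finite G]
    (h2c : ∀ T : Subgroup G, IsPGroup 2 T → T ≠ ⊥ → Cfsg.IsPConstrained 2 ↥(Subgroup.normalizer (T : Set G)))
    (S : Sylow 2 G) (A : Subgroup ↥(S : Subgroup G)) (hAn : A.Normal) (hAab : IsMulCommutative ↥A)
    (hAC : Subgroup.centralizer (A : Set ↥(S : Subgroup G)) = A) (hA3 : ¬ Cfsg.PRankLE 2 2 ↥A) (S' : Sylow 2 G) :
    ∃ W : Subgroup G, Odd (Nat.card ↥W) ∧
      ∀ B : Subgroup G, B ≤ (S' : Subgroup G) → ¬ Cfsg.PRankLE 2 1 ↥B →
        W = (⨆ b : {b : G // b ∈ B ∧ b ≠ 1}, Cfsg.centralizerPPrimeCore 2 (b : G)) ∧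
        Subgroup.normalizer (B : Set G) ≤ Subgroup.normalizer (W : Set G) := by
  have e0 : ∀ b : G, centralizerPPrimeCore 2 b = O {2}ᶜ (C1 b) := fun b => map_pPrimeCore _
  simp only [e0]
  set θ : G → Subgroup G := fun a => O {2}ᶜ (C1 a) with hθ
  have h1 : ∀ t : G, t ≠ 1 → t * t = 1 → Comp.PLay 2 (C1 t) = ⊥ := fun t h0 h2 => by
    have h3 := Comp.isElementaryAbelian_zpowers (x := t) (p := 2) (by rw [sq, h2])
    have := Comp.isPConstrained_iff_subtype.1 (h2c _ (Comp.IsElementaryAbelian.isPGroup h3)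
      (by simpa using h0))
    rw [← cc_zpowers]
    exact le_bot_iff.1 (this ▸ Comp.PLay_mono_subnIn (Comp.SubnIn.of_normalizer (cc_le_nn _) (by nrm)))
  have h2 : ∀ D : Subgroup G, IsElementaryAbelian 2 D → Comp.SSF 2 D θ := fun D hD =>
    ssf_OC hD (fun a _ _ => sol_O2 _) fun a ha _ b hb h3 =>
      bal_of_PLay (h1 b h3 (by rw [← sq]; exact hD.2 b hb))
        (Comp.IsElementaryAbelian.le_centralizer_singleton hD hb ha)
        ((Comp.IsElementaryAbelian.isPGroup hD).to_le (zpowers_le.2 ha))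
  obtain ⟨g, hg⟩ := MulAction.exists_smul_eq G S S'
  have hS : cj g S = S' := by rw [← hg]; rfl
  set A' := cj g (A.map (S : Subgroup G).subtype) with hA'
  have a1 : (S' : Subgroup G) ≤ NN A' := hS ▸ nn_cj ((Comp.normal_iff_map_subtype A).1 hAn) g
  have a2 : IsMulCommutative A' := ab_cj inferInstance g
  have a3 : Rk 2 3 A' := by
    have : Rk 2 3 A := not_not.1 (mt prankLE_iff.2 hA3)
    obtain ⟨D, hD⟩ := this
    exact Rk.cj ⟨D.map (S : Subgroup G).subtype, map_mono hD.le,
      Comp.IsElementaryAbelian.map hD.elem _, by rw [card_map_of_injective (subtype_injective _), hD.card]⟩ g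
  have hE := omega_elem (p := 2) a2
  have h8 : 2 ^ 3 ≤ #(omegaOne 2 A') := by
    obtain ⟨D, hD⟩ := rk_omega a3
    exact hD.card ▸ card_le_of_le hD.le
  have a4 : (S' : Subgroup G) ≤ NN (omegaOne 2 A') := nn_omega a1
  have hW := ssft_two (h2 _ hE) h8
  have a5 : (S' : Subgroup G) ≤ NN (signalizerClosure (omegaOne 2 A') θ) :=
    a4.trans (nn_clo fun a _ _ g => (cj_OC _ g a).le)
  refine ⟨signalizerClosure (omegaOne 2 A') θ, Nat.coprime_two_right.1 hW.cop, fun B hB h3 => ?_⟩
  have e : signalizerClosure (omegaOne 2 A') θ = signalizerClosure B θ := by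
    refine le_antisymm ?_ (iSup_le fun b => ?_)
    · obtain ⟨U, hU⟩ : Rk 2 2 B := not_not.1 (mt prankLE_iff.2 h3)
      refine Comp.le_of_forall_centralizer hU.elem hU.card.ge ((hU.le.trans hB).trans a5) hW.cop
        fun u hu h0 => ?_
      obtain ⟨D, k1, k2, k3, k4⟩ := exists_el_clo hE h8 (a4 (hB (hU.le hu)))
        (by rw [← sq]; exact hU.elem.2 u hu) h2
      exact (k4 ▸ (ssft_two (h2 D k1) k2).le u k3 h0).trans (le_clo (hU.le hu) h0)
    · have hb : IsPGroup 2 (zpowers b.1) := S'.2.to_le (zpowers_le.2 (hB b.2.1))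
      obtain ⟨t, ht, ho⟩ := Comp.exists_mem_orderOf_eq (pg_dvd hb (by simpa using b.2.2))
      have t1 : t ≠ 1 := fun e => by simp [e] at ho
      have t2 : t * t = 1 := by rw [← sq, ← ho, pow_orderOf_eq_one]
      obtain ⟨D, k1, k2, k3, k4⟩ := exists_el_clo hE h8 (a4 (zpowers_le.2 (hB b.2.1) ht)) t2 h2
      refine le_trans ?_ (k4 ▸ le_clo k3 t1)
      exact (le_inf le_rfl ((O_le _ _).trans (C1_le_of_mem_zpowers ht))).trans
        (bal_of_PLay (h1 t t1 t2) (C1_le_of_mem_zpowers ht (self_mem_C1 _)) hb)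
  exact ⟨e, e ▸ nn_clo fun a _ _ g => (cj_OC _ g a).le⟩

end Cfsg.Agent.S3110
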