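import Cfsg.Statements.S3153
import Cfsg.Agent.Lib.Comp.PComp
import Cfsg.Agent.Lib.Solv.Cores

set_option autoImplicit false
open Cfsg

namespace Cfsg.Agent.S3153
section
open Pointwise commutatorElement Subgroup Cfsg.Agent.Solv
theorem sqrt_lem {X : Type*} [Group X] [Finite X] (O : Subgroup X) [hO : O.Normal] (hodd : (Nat.card O).Coprime 2) (t u : X)
    (ht : t * t = 1) (hu : u * u = 1) (h1 : ∀ x ∈ O, t * x = x * t ↔ u * x = x * u) (htu : t * u = u * t) :
    ∀ x ∈ O, t * u * x = x * (t * u) := by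
  have hb : Function.Bijective (fun x : O => x ^ 2) := (powCoprime hodd).bijective
  have inj : ∀ a ∈ O, ∀ b ∈ O, a * a = b * b → a = b := fun a ha b hb' h =>
    congrArg Subtype.val (hb.1 (a₁ := ⟨a, ha⟩) (a₂ := ⟨b, hb'⟩) (Subtype.ext (by simpa [sq] using h)))
  have sur : ∀ a ∈ O, ∃ b ∈ O, b * b = a := fun a ha => by
    obtain ⟨b, hb⟩ := hb.2 ⟨a, ha⟩
    exact ⟨b, b.2, by simpa [sq] using congrArg Subtype.val hb⟩
  have ti : t⁻¹ = t := inv_eq_of_mul_eq_one_right ht
  have ui : u⁻¹ = u := inv_eq_of_mul_eq_one_right hu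
  have key : ∀ y ∈ O, t * y * t⁻¹ = y⁻¹ → u * y * u⁻¹ = y⁻¹ := by
    intro y hy hty
    set w := u * y * u⁻¹ with hw
    have hwO : w ∈ O := hO.conj_mem y hy u
    have htw : t * w * t⁻¹ = w⁻¹ := by
      calc t * w * t⁻¹ = (t * u) * y * (t * u)⁻¹ := by rw [hw]; group
        _ = u * (t * y * t⁻¹) * u⁻¹ := by rw [htu]; group
        _ = _ := by rw [hty, hw]; group
    have huw : u * w * u⁻¹ = y := by
      calc u * w * u⁻¹ = (u * u) * y * (u * u)⁻¹ := by rw [hw]; group
        _ = y := by rw [hu]; group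
    have uniq : ∀ m ∈ O, ∀ m' ∈ O, m * y⁻¹ * m = w → m' * y⁻¹ * m' = w → m = m' := fun m hm m' hm' e e' =>
      mul_right_cancel (inj _ (O.mul_mem hm (O.inv_mem hy)) _ (O.mul_mem hm' (O.inv_mem hy))
        (by rw [← mul_assoc, ← mul_assoc, e, e']))
    obtain ⟨r, hr, hrr⟩ := sur _ (O.mul_mem hwO (O.inv_mem hy))
    have hm : r * y * y⁻¹ * (r * y) = w := by
      rw [mul_inv_cancel_right, ← mul_assoc, hrr, inv_mul_cancel_right]
    set m := r * y
    have hmO : m ∈ O := O.mul_mem hr hy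
    have e1 : (t * m * t⁻¹)⁻¹ = m := uniq _ (O.inv_mem (hO.conj_mem m hmO t)) _ hmO (by
      have : t * w * t⁻¹ = (t * m * t⁻¹) * (t * y * t⁻¹)⁻¹ * (t * m * t⁻¹) := by rw [← hm]; group
      rw [htw, hty] at this
      rw [← inv_inv w, this]; group) hm
    have e2 : u * m * u⁻¹ = m := uniq _ (hO.conj_mem m hmO u) _ hmO (by
      have h3 : m * w⁻¹ * m = y := by rw [← hm]; group
      calc u * m * u⁻¹ * y⁻¹ * (u * m * u⁻¹) = u * m * u⁻¹ * (u * w * u⁻¹)⁻¹ * (u * m * u⁻¹) := by rw [huw]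
        _ = u * (m * w⁻¹ * m) * u⁻¹ := by group
        _ = w := by rw [h3]) hm
    have e3 : t * m = m * t := (h1 m hmO).2 (by rw [← mul_inv_eq_iff_eq_mul, e2])
    have e4 : m = 1 := inj m hmO 1 O.one_mem (by
      rw [e3, mul_inv_cancel_right] at e1
      nth_rewrite 1 [← e1]; simp)
    rw [← hm, e4, one_mul, mul_one]
  intro x hx
  obtain ⟨s, hs, hss⟩ := sur _ (O.mul_mem (O.inv_mem hx) (hO.conj_mem x hx t))
  have hts : t * s * t⁻¹ = s⁻¹ := inj _ (hO.conj_mem s hs t) _ (O.inv_mem hs) (by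
    calc t * s * t⁻¹ * (t * s * t⁻¹) = t * (s * s) * t⁻¹ := by group
      _ = t * x⁻¹ * t⁻¹ * ((t * t) * x * (t * t)⁻¹) := by rw [hss]; group
      _ = (s * s)⁻¹ := by rw [hss, ht]; group
      _ = _ := by group)
  have hus := key s hs hts
  have hc : t * (x * s) = x * s * t := by
    rw [← mul_inv_eq_iff_eq_mul]
    calc t * (x * s) * t⁻¹ = x * (x⁻¹ * (t * x * t⁻¹)) * (t * s * t⁻¹) := by group
      _ = _ := by rw [← hss, hts]; group
  have hc' := (h1 _ (O.mul_mem hx hs)).1 hc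
  rw [← mul_inv_eq_iff_eq_mul]
  calc t * u * x * (t * u)⁻¹ = t * (u * (x * s) * u⁻¹ * (u * s * u⁻¹)⁻¹) * t⁻¹ := by group
    _ = (t * (x * s) * t⁻¹) * (t * s * t⁻¹) := by rw [hc', hus]; group
    _ = x := by rw [hc, hts]; group

theorem cent_lem {X : Type*} [Group X] (P : Subgroup X) (hP : ⁅P, P⁆ = P) (x : X)
    (h : ∀ a ∈ P, a⁻¹ * (x * a * x⁻¹) ∈ P ⊓ centralizer (P : Set X)) : x ∈ centralizer (P : Set X) := by
  have : P ≤ centralizer {x} := by
    rw [← hP, commutator_le]
    intro a ha b hb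
    obtain ⟨h1, h2⟩ := h a ha
    obtain ⟨h3, h4⟩ := h b hb
    set α := a⁻¹ * (x * a * x⁻¹) with hα
    set β := b⁻¹ * (x * b * x⁻¹) with hβ
    have c1 : Commute (b * β) α := mem_centralizer_iff.1 h2 _ (P.mul_mem hb h3)
    have c2 : Commute a⁻¹ β := mem_centralizer_iff.1 h4 _ (P.inv_mem ha)
    rw [mem_centralizer_singleton_iff, eq_comm, ← mul_inv_eq_iff_eq_mul, commutatorElement_def]
    calc x * (a * b * a⁻¹ * b⁻¹) * x⁻¹ = a * (α * (b * β)) * α⁻¹ * a⁻¹ * β⁻¹ * b⁻¹ := by rw [hα, hβ]; group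
      _ = a * b * (β * a⁻¹) * β⁻¹ * b⁻¹ := by rw [← c1.eq]; group
      _ = _ := by rw [← c2.eq]; group
  exact mem_centralizer_iff.2 fun a ha => mem_centralizer_singleton_iff.1 (this ha)
end

/-- Let X be a finite group and P a standard subgroup of X whose centralizer has 2-rank at most 1 and whose centre has odd order. Let S be a Sylow 2-subgroup of N_X(P) and t an involution of S centralizing P. Suppose some element g of X normalizes S, does not lie in S, has its square in S, and conjugates t into P·C_X(P). Then P commutes elementwise with the largest normal odd-order subgroup O(X) of X; consequently every t-invariant 2-component of X containing P is quasisimple. -/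
theorem result {X : Type*} [Group X] [Finite X] (P : Subgroup X) (hP : Cfsg.IsStandardSubgroup P)
    (hr : Cfsg.PRankLE 2 1 ↥(Subgroup.centralizer (P : Set X))) (hZ : Odd (Nat.card ↥(Subgroup.center ↥P)))
    (S : Sylow 2 ↥(Subgroup.normalizer (P : Set X))) (t : X) (ht : orderOf t = 2) (htS : t ∈ (S : Subgroup ↥(Subgroup.normalizer (P : Set X))).map (Subgroup.normalizer (P : Set X)).subtype)
    (htP : t ∈ Subgroup.centralizer (P : Set X))
    (g : X) (hgN : ∀ s ∈ (S : Subgroup ↥(Subgroup.normalizer (P : Set X))).map (Subgroup.normalizer (P : Set X)).subtype, g * s * g⁻¹ ∈ (S : Subgroup ↥(Subgroup.normalizer (P : Set X))).map (Subgroup.normalizer (P : Set X)).subtype)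
    (hgS : g ∉ (S : Subgroup ↥(Subgroup.normalizer (P : Set X))).map (Subgroup.normalizer (P : Set X)).subtype) (hg2 : g ^ 2 ∈ (S : Subgroup ↥(Subgroup.normalizer (P : Set X))).map (Subgroup.normalizer (P : Set X)).subtype)
    (hgt : g * t * g⁻¹ ∈ P ⊔ Subgroup.centralizer (P : Set X)) :
    ⁅P, Cfsg.oddCore X⁆ = ⊥ ∧
      ∀ L : Subgroup X, Cfsg.IsPComponent 2 L → P ≤ L → (∀ l ∈ L, t * l * t⁻¹ ∈ L) → Cfsg.IsQuasisimple ↥L := by
  open Pointwise commutatorElement Subgroup Cfsg.Agent.Solv in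
  classical
  haveI : Fact (Nat.Prime 2) := ⟨Nat.prime_two⟩
  obtain ⟨hq, ⟨-, hti⟩, -, hNN⟩ := hP
  have hQ := Comp.QS.of_isQuasisimple hq
  set K := centralizer (P : Set X) with hK
  have htt : t * t = 1 := by rw [← sq, ← ht, pow_orderOf_eq_one]
  have ht1 : t ≠ 1 := by rintro rfl; simp at ht
  have hCt : ∀ x, x * t = t * x → x ∈ normalizer (P : Set X) := fun x hx => by
    by_contra hn
    have ho := hti x (hNN ▸ hn)
    have hm : t ∈ K ⊓ K.map (MulAut.conj x).toMonoidHom := ⟨htP, t, htP, by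
      change x * t * x⁻¹ = t
      rw [hx, mul_inv_cancel_right]⟩
    have := orderOf_dvd_natCard (⟨t, hm⟩ : ↥(K ⊓ K.map (MulAut.conj x).toMonoidHom))
    rw [orderOf_mk, ht] at this
    exact (Nat.not_even_iff_odd.2 ho) (even_iff_two_dvd.2 this)
  have four : ∀ a ∈ K, ∀ b ∈ K, a * a = 1 → b * b = 1 → a * b = b * a → a ≠ 1 → b ≠ 1 → a = b := by
    intro a ha b hb aa bb ab a1 b1
    by_contra hne
    let a' : K := ⟨a, ha⟩
    let b' : K := ⟨b, hb⟩
    have hcomm : IsMulCommutative (closure ({a', b'} : Set K)) := isMulCommutative_closure (by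
      rintro x (rfl | rfl) y (rfl | rfl) <;> first | rfl | exact Subtype.ext ab | exact Subtype.ext ab.symm)
    have h2 := hr (closure {a', b'}) hcomm (fun x hx => by
      induction hx using closure_induction with
      | mem x hx => rcases hx with rfl | rfl <;> exact Subtype.ext (by simpa [sq])
      | one => simp
      | mul x y hx hy h1 h2 =>
        have : Commute x y := congrArg Subtype.val (hcomm.is_comm.comm ⟨x, hx⟩ ⟨y, hy⟩)
        rw [this.mul_pow, h1, h2, mul_one]
      | inv x hx h1 => rw [inv_pow, h1, inv_one])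
    haveI := Fintype.ofFinite (closure ({a', b'} : Set K))
    have h3 : 2 < Fintype.card (closure ({a', b'} : Set K)) := Fintype.two_lt_card_iff.2
      ⟨1, ⟨a', subset_closure (by simp)⟩, ⟨b', subset_closure (by simp)⟩,
        fun h => a1 (congrArg (fun z => (z.1 : X)) h).symm, fun h => b1 (congrArg (fun z => (z.1 : X)) h).symm,
        fun h => hne (congrArg (fun z => (z.1 : X)) h)⟩
    rw [← Nat.card_eq_fintype_card] at h3
    omega
  set u := g * t * g⁻¹ with hu
  have huu : u * u = 1 := by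
    calc u * u = g * (t * t) * g⁻¹ := by rw [hu]; group
      _ = 1 := by rw [htt]; group
  have hu1 : u ≠ 1 := fun h => ht1 (by rw [← mul_inv_cancel_left g⁻¹ t, inv_inv, ← inv_mul_cancel_right (g * t) g, ← hu, h]; group)
  have hut : u ≠ t := fun h => by
    have hg : g ∈ normalizer (P : Set X) := hCt g (by rw [← mul_inv_eq_iff_eq_mul]; exact h)
    obtain ⟨s, hs, hsg⟩ := hg2
    have hz : IsPGroup 2 (zpowers (⟨g, hg⟩ : normalizer (P : Set X))) := by
      obtain ⟨k, hk⟩ := S.2 ⟨s, hs⟩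
      have h5 : (⟨g, hg⟩ : normalizer (P : Set X)) ^ 2 ^ (k + 1) = 1 := by
        rw [pow_succ', pow_mul, show (⟨g, hg⟩ : normalizer (P : Set X)) ^ 2 = s from Subtype.ext hsg.symm]
        exact congrArg Subtype.val hk
      obtain ⟨j, -, hj⟩ := (Nat.dvd_prime_pow Nat.prime_two).1 (orderOf_dvd_of_pow_eq_one h5)
      exact IsPGroup.of_card (by rw [Nat.card_zpowers, hj])
    have hn : zpowers (⟨g, hg⟩ : normalizer (P : Set X)) ≤ normalizer (S : Subgroup (normalizer (P : Set X))) := by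
      rw [zpowers_le]
      refine mem_normalizer_fintype fun n hn => ?_
      obtain ⟨v, hv, e⟩ := hgN n ⟨n, hn, rfl⟩
      rwa [show v = ⟨g, hg⟩ * n * ⟨g, hg⟩⁻¹ from Subtype.ext e] at hv
    have := S.is_maximal' (IsPGroup.to_sup_of_normal_left' S.2 hz hn) le_sup_left
    exact hgS ⟨⟨g, hg⟩, this.le (le_sup_right (a := (S : Subgroup (normalizer (P : Set X)))) (mem_zpowers _)), rfl⟩
  have hZo : ∀ z ∈ P, z ∈ K → z ^ Nat.card (center P) = 1 := fun z h1 h2 => by
    have := pow_card_eq_one' (x := (⟨⟨z, h1⟩, mem_center_iff.2 fun a => Subtype.ext (mem_centralizer_iff.1 h2 a a.2)⟩ : center P))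
    exact congrArg (fun v : center P => (v.1 : X)) this
  obtain ⟨p, hp, k, hk, pp, hpk⟩ : ∃ p ∈ P, ∃ k ∈ K, p * p = 1 ∧ p * k = u := by
    have hm : u ∈ ((P ⊔ K : Subgroup X) : Set X) := hgt
    rw [coe_mul_of_right_le_normalizer_left P K (centralizer_le_normalizer _)] at hm
    obtain ⟨p, hp, k, hk, e⟩ := hm
    have e : p * k = u := e
    have c : Commute p k := mem_centralizer_iff.1 hk p hp
    have h1 : p ^ 2 = (k ^ 2)⁻¹ := by rw [eq_inv_iff_mul_eq_one, ← c.mul_pow, e, sq, huu]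
    obtain ⟨j, hj⟩ := hZ
    refine ⟨p ^ Nat.card (center P), P.pow_mem hp _, k ^ Nat.card (center P), K.pow_mem hk _, ?_, ?_⟩
    · rw [← sq, ← pow_mul, mul_comm, pow_mul]
      exact hZo _ (P.pow_mem hp _) (h1 ▸ K.inv_mem (K.pow_mem hk _))
    · rw [← c.mul_pow, e, hj, pow_succ, pow_mul, sq, huu, one_pow, one_mul]
  have cpk : Commute p k := mem_centralizer_iff.1 hk p hp
  have cpt : Commute p t := mem_centralizer_iff.1 htP p hp
  have kk : k * k = 1 := by
    have := cpk.mul_pow 2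
    rwa [hpk, sq, sq, sq, huu, pp, one_mul, eq_comm] at this
  have hk1 : k = 1 ∨ k = t := by
    by_contra hno
    rw [not_or] at hno
    obtain ⟨s, hs, e1⟩ := htS
    obtain ⟨s', hs', e2⟩ := hgN t ⟨s, hs, e1⟩
    obtain ⟨j, hj⟩ := S.2 ⟨s * s', mul_mem hs hs'⟩
    have h1 : (t * u) ^ 2 ^ j = 1 := by
      rw [hu, ← e2, ← e1]; exact congrArg (fun v : S => ((v.1 : normalizer (P : Set X)) : X)) hj
    have h2 : (t * k) ^ 2 ^ (j + 1) = 1 := by
      have h3 : t * k = p * (t * u) := by rw [← hpk, ← mul_assoc t, ← cpt.eq, ← mul_assoc, ← mul_assoc, pp, one_mul]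
      have c : Commute p (t * u) := cpt.mul_right (hpk ▸ (Commute.refl p).mul_right cpk)
      rw [h3, c.mul_pow, pow_succ 2, pow_mul (t * u), h1, one_pow, mul_one, mul_comm, pow_mul, sq, pp, one_pow]
    obtain ⟨i, -, hi⟩ := (Nat.dvd_prime_pow Nat.prime_two).1 (orderOf_dvd_of_pow_eq_one h2)
    have ti : t⁻¹ = t := inv_eq_of_mul_eq_one_right htt
    have ki : k⁻¹ = k := inv_eq_of_mul_eq_one_right kk
    rcases i with _ | i
    · rw [pow_zero, orderOf_eq_one_iff] at hi
      exact hno.2 (by rw [← ti]; exact (inv_eq_of_mul_eq_one_right hi).symm)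
    · have w1 : (t * k) ^ 2 ^ i ≠ 1 := fun h => by
        have := Nat.le_of_dvd (by positivity) (orderOf_dvd_of_pow_eq_one h)
        rw [hi, pow_succ] at this
        have : 0 < 2 ^ i := by positivity
        omega
      have w2 : (t * k) ^ 2 ^ i * (t * k) ^ 2 ^ i = 1 := by rw [← sq, ← pow_mul, ← pow_succ, ← hi, pow_orderOf_eq_one]
      have w3 : t * (t * k) ^ 2 ^ i * t⁻¹ = ((t * k) ^ 2 ^ i)⁻¹ := by
        rw [← conj_pow, ← inv_pow, mul_inv_rev, ki, ← mul_assoc, htt, one_mul]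
      rw [inv_eq_of_mul_eq_one_right w2, mul_inv_eq_iff_eq_mul] at w3
      have w4 := four _ (K.pow_mem (K.mul_mem htP hk) _) t htP w2 htt w3.symm w1 ht1
      have c : Commute (t * k) t := by nth_rewrite 2 [← w4]; exact (Commute.refl _).pow_right _
      have c' : k * t = t * k := mul_left_cancel (a := t) (by rw [← mul_assoc]; exact c.eq)
      exact hno.2 (four k hk t htP kk htt c' hno.1 ht1)
  have hp1 : p ≠ 1 := by
    rintro rfl
    rw [one_mul] at hpk
    rcases hk1 with h | h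
    · exact hu1 (hpk ▸ h)
    · exact hut (hpk ▸ h)
  have hpo : orderOf p = 2 := orderOf_eq_prime (by rw [sq, pp]) hp1
  have hpK : p ∉ K := fun h => (Nat.not_even_iff_odd.2 hZ) (even_iff_two_dvd.2 (hpo ▸ orderOf_dvd_of_pow_eq_one (hZo p hp h)))
  have hodd : ∀ R : Subgroup X, (Nat.card R).Coprime 2 → p ∉ R := fun R hR h => by
    have := orderOf_dvd_natCard (⟨p, h⟩ : R)
    rw [orderOf_mk, hpo] at this
    exact absurd (Nat.Coprime.eq_one_of_dvd hR.symm this) (by norm_num)
  have hOc : (Nat.card (oddCore X)).Coprime 2 := coprime_card_pPrimeCore 2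
  have hnrm : ∀ N : Subgroup X, N.Normal → P ≤ N ∨ P ⊓ N ≤ K := fun N hN =>
    (hQ.normal (P ⊓ N) inf_le_left ((le_inf le_normalizer (Comp.le_normalizer_normal N P)).trans inf_normalizer_le_normalizer_inf)).imp
      (fun h => h.ge.trans inf_le_right) id
  have hPO : P ⊓ oddCore X ≤ K := (hnrm _ inferInstance).resolve_left fun h => hodd _ hOc (h hp)
  have hY : ∀ x ∈ oddCore X, t * x = x * t → x ∈ K := fun x hx hxt => cent_lem P hQ.perfect x fun a ha => by
    have m1 : a⁻¹ * (x * a * x⁻¹) ∈ P := P.mul_mem (P.inv_mem ha) ((mem_normalizer_iff.1 (hCt x hxt.symm) a).1 ha)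
    refine ⟨m1, hPO ⟨m1, ?_⟩⟩
    rw [show a⁻¹ * (x * a * x⁻¹) = a⁻¹ * x * a⁻¹⁻¹ * x⁻¹ by group]
    exact (oddCore X).mul_mem ((inferInstance : (oddCore X).Normal).conj_mem x hx _) ((oddCore X).inv_mem hx)
  have hle : oddCore X ⊓ centralizer {t} ≤ oddCore X ⊓ centralizer {u} := fun x hx => ⟨hx.1, by
    have h1 := mem_centralizer_singleton_iff.1 hx.2
    have h2 : Commute x p := (mem_centralizer_iff.1 (hY x hx.1 h1.symm) p hp).symm
    refine mem_centralizer_singleton_iff.2 ?_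
    rw [← hpk]
    rcases hk1 with h | h <;> rw [h]
    · rw [mul_one]; exact h2
    · exact h2.mul_right h1⟩
  have heq := eq_of_le_of_card_ge hle (Nat.card_le_card_of_injective
    (fun x : ↥(oddCore X ⊓ centralizer {u}) => (⟨g⁻¹ * x * g⁻¹⁻¹, (inferInstance : (oddCore X).Normal).conj_mem x x.2.1 _, by
      have := mem_centralizer_singleton_iff.1 x.2.2
      refine mem_centralizer_singleton_iff.2 ?_
      have h5 : (x : X) * (g * t * g⁻¹) = g * t * g⁻¹ * x := this
      calc g⁻¹ * x * g⁻¹⁻¹ * t = g⁻¹ * (x * (g * t * g⁻¹)) * g := by group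
        _ = _ := by rw [h5]; group⟩ : ↥(oddCore X ⊓ centralizer {t})))
    fun a b h => Subtype.ext (mul_left_cancel (mul_right_cancel (congrArg Subtype.val h))))
  have htu : t * u = u * t := by
    rw [← hpk]
    rcases hk1 with h | h <;> rw [h]
    · rw [mul_one]; exact cpt.symm
    · exact (cpt.symm.mul_right (Commute.refl t))
  have hc : t * u ∈ centralizer (oddCore X : Set X) := mem_centralizer_iff.2 fun x hx =>
    (sqrt_lem (oddCore X) hOc t u htt huu (fun x hx =>
      ⟨fun h => (mem_centralizer_singleton_iff.1 (heq.le ⟨hx, mem_centralizer_singleton_iff.2 h.symm⟩).2).symm,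
       fun h => (mem_centralizer_singleton_iff.1 (heq.ge ⟨hx, mem_centralizer_singleton_iff.2 h.symm⟩).2).symm⟩) htu x hx).symm
  have hmain : P ≤ centralizer (oddCore X : Set X) := (hnrm _ inferInstance).resolve_right fun h => hpK (by
    rw [← hpk] at hc
    rcases hk1 with h1 | h1 <;> rw [h1] at hc
    · refine cent_lem P hQ.perfect p fun a ha => ?_
      have m1 : a⁻¹ * (p * a * p⁻¹) ∈ P := P.mul_mem (P.inv_mem ha) (P.mul_mem (P.mul_mem hp ha) (P.inv_mem hp))
      refine ⟨m1, h ⟨m1, ?_⟩⟩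
      have cat : a * t = t * a := mem_centralizer_iff.1 htP a ha
      have e : a⁻¹ * (p * a * p⁻¹) = a⁻¹ * (t * (p * 1)) * a⁻¹⁻¹ * (t * (p * 1))⁻¹ := by
        rw [mul_one, ← cpt.eq]
        calc _ = a⁻¹ * p * (a * t) * t⁻¹ * p⁻¹ := by group
          _ = _ := by rw [cat]; group
      rw [e]
      exact (centralizer (oddCore X : Set X)).mul_mem ((inferInstance : (centralizer (oddCore X : Set X)).Normal).conj_mem _ hc _) ((centralizer (oddCore X : Set X)).inv_mem hc)
    · rw [cpt.eq, ← mul_assoc, htt, one_mul] at hc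
      exact h ⟨hp, hc⟩)
  refine ⟨commutator_eq_bot_iff_le_centralizer.2 hmain, fun L hL hPL _ => ?_⟩
  have hL' := Comp.pCompIn_top_iff.2 hL
  refine Comp.qs_iff.1 (hL'.pqs.qs_iff.2 ?_)
  rcases hL'.pqs.normal (L ⊓ centralizer (oddCore X : Set X)) inf_le_left
    ((le_inf le_normalizer (Comp.le_normalizer_normal _ L)).trans inf_normalizer_le_normalizer_inf) with h | h
  · rw [hL'.Opp_eq, Comp.Opp_top]
    exact inf_le_left.trans (le_centralizer_iff.1 (h.ge.trans inf_le_right))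
  · exact absurd ((hQ.perfect.ge.trans ((commutator_mono (le_inf hPL hmain) hPL).trans h)) hp) (hodd _ (Comp.coprime_Opp 2 L))

end Cfsg.Agent.S3153
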