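import Cfsg.Statements.S3155
import Cfsg.Agent.Lib.Transfer.Rank
import Mathlib.LinearAlgebra.Determinant
import Mathlib.Algebra.Module.ZMod
import Mathlib.LinearAlgebra.Dimension.Constructions
import Mathlib.LinearAlgebra.FreeModule.StrongRankCondition

set_option autoImplicit false
open Cfsg

namespace Cfsg.Agent.S3155

set_option linter.unusedSectionVars false
set_option linter.unusedVariables false
set_option linter.style.haveILetI false
set_option linter.unusedSimpArgs false

/-- Let B be the direct product of three cyclic groups of order 4. Then the automorphism of B inverting every element is not the square of any automorphism of B. -/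
theorem result {B : Type*} [CommGroup B] [Finite B] (hB : Nonempty (B ≃* Multiplicative (ZMod 4 × ZMod 4 × ZMod 4)))
    (τ : B ≃* B) : τ.trans τ ≠ MulEquiv.inv B := by
  intro h
  obtain ⟨e⟩ := hB
  let σ : Multiplicative (ZMod 4 × ZMod 4 × ZMod 4) ≃* Multiplicative (ZMod 4 × ZMod 4 × ZMod 4) :=
    e.symm.trans (τ.trans e)
  let f : (ZMod 4 × ZMod 4 × ZMod 4) →ₗ[ZMod 4] (ZMod 4 × ZMod 4 × ZMod 4) :=
    AddMonoidHom.toZModLinearMap 4 (AddMonoidHom.toMultiplicative.symm σ.toMonoidHom)
  have h1 : f ∘ₗ f = (-1 : ZMod 4) • LinearMap.id := by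
    refine LinearMap.ext fun v => ?_
    have : τ (τ (e.symm (Multiplicative.ofAdd v))) = (e.symm (Multiplicative.ofAdd v))⁻¹ :=
      congrArg (fun φ : B ≃* B => φ (e.symm (Multiplicative.ofAdd v))) h
    change Multiplicative.toAdd (e (τ (e.symm (e (τ (e.symm (Multiplicative.ofAdd v))))))) = _
    rw [e.symm_apply_apply, this]
    simp
  have h2 := congrArg LinearMap.det h1
  rw [LinearMap.det_comp, LinearMap.det_smul, LinearMap.det_id] at h2
  haveI : Nontrivial (ZMod 4) := ⟨⟨0, 1, by decide⟩⟩
  rw [Module.finrank_prod, Module.finrank_prod, Module.finrank_self] at h2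
  revert h2
  generalize LinearMap.det f = d
  revert d
  decide

end Cfsg.Agent.S3155
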