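import Cfsg.Statements.S3156
import Cfsg.Agent.Lib.Ez.J6

set_option autoImplicit false
open Cfsg

namespace Cfsg.Agent.S3156

/-- If a finite group T is isomorphic to a Sylow 2-subgroup of the projective special unitary group of dimension 3 with parameter 4 (realised over the field with 16 elements), then no subgroup of the automorphism group of T is isomorphic to the symmetric group of degree 3. -/
theorem result {T : Type*} [Group T] [Finite T] (hT : (∃ (F : Type) (_ : Field F) (_ : Fintype F), Fintype.card F = 16 ∧ ∃ S : Sylow 2 (Cfsg.PSU 3 F 4), Nonempty (T ≃* ↥(S : Subgroup (Cfsg.PSU 3 F 4))))) (H : Subgroup (MulAut T)) : ¬ Nonempty (↥H ≃* Equiv.Perm (Fin 3)) := by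
  obtain ⟨F, _, _, hF, S, ⟨e⟩⟩ := hT
  rintro ⟨f⟩
  letI := Fintype.ofFinite T
  obtain ⟨h1, h2, h3⟩ : Nat.card (S : Subgroup (Cfsg.PSU 3 F 4)) = 64 ∧
      Nat.card (Subgroup.center (S : Subgroup (Cfsg.PSU 3 F 4))) = 4 ∧
      IsSuzukiTwoGroup (S : Subgroup (Cfsg.PSU 3 F 4)) :=
    RankOne.sylow_U (n := 2) le_rfl (by simpa using hF) S
  have h : Ez.Gs.SQ T 4 := Ez.Gs.of_suz (RankOne.suz_congr e.symm h3) ((Nat.card_congr e.toEquiv).trans h1)
    ((Nat.card_congr (Subgroup.centerCongr e).toEquiv).trans h2) (by norm_num)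
  let g : Equiv.Perm (Fin 3) →* MulAut T := H.subtype.comp f.symm.toMonoidHom
  have hg : Function.Injective g := Subtype.val_injective.comp f.symm.injective
  have key : ∀ s : Equiv.Perm (Fin 3), s * s = 1 → ∀ z ∈ Subgroup.center T, g s z = z := fun s hs z hz =>
    h.fix (g s) (fun x => by
      rw [← MulAut.mul_apply, ← map_mul, hs, map_one, MulAut.one_apply, mul_inv_cancel]; exact one_mem _) hz
  have h4 := h.three (g (Equiv.swap 0 1 * Equiv.swap 1 2)) (by
    rw [← map_pow, show (Equiv.swap 0 1 * Equiv.swap 1 2 : Equiv.Perm (Fin 3)) ^ 3 = 1 by decide, map_one])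
    fun z hz => by rw [map_mul, MulAut.mul_apply, key _ (by decide) z hz, key _ (by decide) z hz]
  rw [map_eq_one_iff g hg] at h4
  exact absurd h4 (by decide)

end Cfsg.Agent.S3156
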