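import Cfsg.Statements.S3158
import Cfsg.Agent.Lib.BG.MinNA

set_option autoImplicit false
open Cfsg

namespace Cfsg.Agent.S3158

/-- Let U be a group of order q² with q = 2^n ≥ 2, and y an automorphism of U of order q − 1 all of whose nontrivial powers fix only the identity. Let V be a proper normal y-invariant subgroup of U such that V and U/V are elementary abelian 2-groups and there is an isomorphism from V to U/V commuting with the actions of y. Then U is abelian. -/
theorem result {U : Type*} [Group U] [Finite U] (n : ℕ) (hn : 1 ≤ n) (hU : Nat.card U = (2 ^ n) ^ 2)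
    (y : MulAut U) (hy : orderOf y = 2 ^ n - 1) (hfp : ∀ k : ℕ, y ^ k ≠ 1 → ∀ u : U, (y ^ k) u = u → u = 1)
    (V : Subgroup U) [V.Normal] (hV : V ≠ ⊤) (hyV : ∀ v ∈ V, y v ∈ V)
    (hVe : ∀ v ∈ V, v ^ 2 = 1) (hQe : ∀ u : U, u ^ 2 ∈ V) (hQc : ∀ u w : U, u * w * u⁻¹ * w⁻¹ ∈ V)
    (φ : ↥V ≃* U ⧸ V) (hφ : ∀ (v : ↥V) (u : U), (QuotientGroup.mk u : U ⧸ V) = φ v → φ ⟨y v, hyV v v.2⟩ = QuotientGroup.mk (y u)) :
    IsMulCommutative U := by
  open Pointwise commutatorElement Subgroup in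
  open Cfsg.Agent.Comp Cfsg.Agent.BG Subgroup commutatorElement in
  have hq : 2 ≤ 2 ^ n := by
    calc 2 = 2 ^ 1 := rfl
      _ ≤ _ := Nat.pow_le_pow_right two_pos hn
  have hcV : Nat.card V = 2 ^ n := by
    have h1 := V.card_mul_index
    rw [index_eq_card, ← Nat.card_congr φ.toEquiv, hU, ← sq] at h1
    exact Nat.pow_left_injective two_ne_zero h1
  have hyk : ∀ k : ℕ, ∀ v ∈ V, (y ^ k) v ∈ V := by
    intro k
    induction k with
    | zero => simp
    | succ k ih => intro v hv; rw [pow_succ', MulAut.mul_apply]; exact hyV _ (ih v hv)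
  have htr : ∀ v ∈ V, v ≠ 1 → ∀ w ∈ V, w ≠ 1 → ∃ k : ℕ, (y ^ k) v = w := by
    intro v hv hv1 w hw hw1
    classical
    let f : Fin (2 ^ n - 1) → {x : V // x ≠ 1} := fun k => ⟨⟨(y ^ k.1) v, hyk _ v hv⟩, fun h => hv1 (by
      have := congrArg Subtype.val h
      simpa using this)⟩
    have hinj : Function.Injective f := by
      have aux : ∀ i j : Fin (2 ^ n - 1), i.1 ≤ j.1 → (y ^ i.1) v = (y ^ j.1) v → i = j := by
        intro i j hij h
        obtain ⟨d, hd⟩ := Nat.exists_eq_add_of_le hij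
        rw [hd, pow_add, MulAut.mul_apply, (y ^ i.1).apply_eq_iff_eq] at h
        by_cases h1 : y ^ d = 1
        · have h2 := orderOf_dvd_of_pow_eq_one h1
          rw [hy] at h2
          have h3 : d = 0 := Nat.eq_zero_of_dvd_of_lt h2 (by have := j.2; omega)
          exact Fin.ext (by omega)
        · exact absurd (hfp d h1 v h.symm) hv1
      intro i j h
      have h' : (y ^ i.1) v = (y ^ j.1) v := congrArg (fun x => (x.1 : U)) h
      rcases le_total i.1 j.1 with h1 | h1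
      · exact aux i j h1 h'
      · exact (aux j i h1 h'.symm).symm
    have hb : Function.Bijective f := by
      rw [Nat.bijective_iff_injective_and_card]
      refine ⟨hinj, ?_⟩
      haveI := Fintype.ofFinite V
      rw [Nat.card_eq_fintype_card, Fintype.card_fin, Nat.card_eq_fintype_card, Fintype.card_subtype_compl,
        Fintype.card_subtype_eq, ← Nat.card_eq_fintype_card, hcV]
    obtain ⟨k, hk⟩ := hb.2 ⟨⟨w, hw⟩, fun h => hw1 (congrArg Subtype.val h)⟩
    exact ⟨k, congrArg (fun x => (x.1 : U)) hk⟩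
  have hU2 : IsPGroup 2 U := IsPGroup.of_card (by rw [hU, ← pow_mul])
  have hV1 : V ≠ ⊥ := by
    rintro rfl
    simp at hcV
    omega
  have hZ : V ≤ center U := by
    haveI : Fact (Nat.Prime 2) := ⟨Nat.prime_two⟩
    obtain ⟨z, ⟨hz1, hz2⟩, hz⟩ : ∃ z ∈ V ⊓ center U, z ≠ 1 := by
      have := Comp.inf_centralizer_ne_bot (T := ⊤) (hU2.to_subgroup ⊤) (hU2.to_subgroup V)
        (by rw [normalizer_eq_top]) hV1
      rw [coe_top, centralizer_univ] at this
      obtain ⟨⟨z, hz⟩, h⟩ := ne_bot_iff_exists_ne_one.1 this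
      exact ⟨z, hz, fun h' => h (Subtype.ext h')⟩
    intro w hw
    by_cases hw1 : w = 1
    · rw [hw1]; exact one_mem _
    obtain ⟨k, rfl⟩ := htr z hz1 hz w hw hw1
    rw [mem_center_iff]
    intro g
    obtain ⟨g, rfl⟩ := (y ^ k).surjective g
    rw [← map_mul, ← map_mul, mem_center_iff.1 hz2 g]
  have hsq : ∀ u w : U, (u : U ⧸ V) = w → u ^ 2 = w ^ 2 := by
    intro u w h
    have h1 := QuotientGroup.eq.1 h
    have h2 : w = u * (u⁻¹ * w) := by group
    have h3 : Commute u (u⁻¹ * w) := mem_center_iff.1 (hZ h1) u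
    rw [h2, h3.mul_pow, hVe _ h1, mul_one]
  have hφk : ∀ (k : ℕ) (v : V) (u : U), (u : U ⧸ V) = φ v → φ ⟨(y ^ k) v, hyk k v v.2⟩ = ((y ^ k) u : U) := by
    intro k
    induction k with
    | zero => intro v u h; simpa using h.symm
    | succ k ih =>
      intro v u h
      have := hφ _ _ (ih v u h).symm
      simpa [pow_succ'] using this
  obtain ⟨m, hm⟩ : ∃ α : U →* U, ∀ (v : V) (u : U), (u : U ⧸ V) = φ v → u ^ 2 = α v := by
    obtain ⟨⟨v0, hv0⟩, h0⟩ := ne_bot_iff_exists_ne_one.1 hV1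
    have h0' : v0 ≠ 1 := fun h => h0 (Subtype.ext h)
    obtain ⟨u0, hu0⟩ := QuotientGroup.mk_surjective (φ ⟨v0, hv0⟩)
    have main : ∀ α : U →* U, (∀ k : ℕ, α ((y ^ k) v0) = (y ^ k) (u0 ^ 2)) →
        ∀ (v : V) (u : U), (u : U ⧸ V) = φ v → u ^ 2 = α v := by
      intro α hα v u h
      by_cases hv : v = 1
      · subst hv
        rw [map_one] at h
        rw [hsq u 1 h]
        simp
      · obtain ⟨k, hk⟩ := htr v0 hv0 h0' v v.2 (fun h => hv (Subtype.ext h))
        have h1 := hφk k ⟨v0, hv0⟩ u0 hu0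
        have h2 : (⟨(y ^ k) v0, hyk k v0 hv0⟩ : V) = v := Subtype.ext hk
        simp only at h1
        rw [h2, ← h] at h1
        rw [hsq _ _ h1, ← hk, hα, map_pow]
    by_cases h1 : u0 ^ 2 = 1
    · exact ⟨1, main 1 (by simp [h1])⟩
    · obtain ⟨j, hj⟩ := htr v0 hv0 h0' _ (hQe u0) h1
      refine ⟨(y ^ j).toMonoidHom, main _ fun k => ?_⟩
      rw [← hj]
      change (y ^ j * y ^ k) v0 = (y ^ k * y ^ j) v0
      rw [← pow_add, ← pow_add, add_comm]
  refine ⟨⟨fun u w => ?_⟩⟩
  have h1 := hm (φ.symm u) u (by simp)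
  have h2 := hm (φ.symm w) w (by simp)
  have h3 := hm (φ.symm u * φ.symm w) (u * w) (by simp)
  rw [coe_mul, map_mul, ← h1, ← h2] at h3
  have h4 : u * (w * u) * w = u * (u * w) * w := by
    calc _ = (u * w) ^ 2 := by rw [sq]; group
      _ = _ := by rw [h3, sq, sq]; group
  exact (mul_left_cancel (mul_right_cancel h4)).symm

end Cfsg.Agent.S3158
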