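import Cfsg.Statements.S3163
import Cfsg.Agent.Lib.Transfer.Rank

set_option autoImplicit false
open Cfsg

namespace Cfsg.Agent.S3163

set_option linter.unusedSectionVars false
set_option linter.unusedVariables false
set_option linter.style.haveILetI false
set_option linter.unusedSimpArgs false

open Subgroup Cfsg.Agent.Transfer

/-- Let S be a non-abelian finite 2-group which is the product S = AB of two elementary abelian subgroups A and B, and suppose that the centralizer in S of every element of A outside B is exactly A. Then the centralizer of every element of B outside A is exactly B; A and B are maximal elementary abelian subgroups of S and the only ones; the centre of S is A ∩ B; and every element of S outside A ∪ B has centralizer of order at most min(|A|, |B|). -/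
theorem result {S : Type*} [Group S] [Finite S] (hS : IsPGroup 2 S) (hna : ¬ IsMulCommutative S) (A B : Subgroup S)
    (hA : Cfsg.IsElementaryAbelian 2 A) (hB : Cfsg.IsElementaryAbelian 2 B) (hAB : ∀ s : S, ∃ a ∈ A, ∃ b ∈ B, s = a * b)
    (hC : ∀ a ∈ A, a ∉ B → Subgroup.centralizer ({a} : Set S) = A) :
    (∀ b ∈ B, b ∉ A → Subgroup.centralizer ({b} : Set S) = B) ∧
      (∀ E : Subgroup S, Cfsg.IsElementaryAbelian 2 E → (∀ E' : Subgroup S, Cfsg.IsElementaryAbelian 2 E' → E ≤ E' → E' = E) → E = A ∨ E = B) ∧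
      (∀ E' : Subgroup S, Cfsg.IsElementaryAbelian 2 E' → A ≤ E' → E' = A) ∧ (∀ E' : Subgroup S, Cfsg.IsElementaryAbelian 2 E' → B ≤ E' → E' = B) ∧
      Subgroup.center S = A ⊓ B ∧
      (∀ x : S, x ∉ A → x ∉ B → Nat.card ↥(Subgroup.centralizer ({x} : Set S)) ≤ min (Nat.card ↥A) (Nat.card ↥B)) := by
  have hA' : ∃ a ∈ A, a ∉ B := by
    by_contra hc
    push Not at hc
    refine hna ⟨⟨fun x y => ?_⟩⟩
    obtain ⟨a, ha, b, hb, rfl⟩ := hAB x
    obtain ⟨c, hc', d, hd, rfl⟩ := hAB y
    exact elem_commute hB (mul_mem (hc a ha) hb) (mul_mem (hc c hc') hd)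
  have hB' : ∃ b ∈ B, b ∉ A := by
    by_contra hc
    push Not at hc
    refine hna ⟨⟨fun x y => ?_⟩⟩
    obtain ⟨a, ha, b, hb, rfl⟩ := hAB x
    obtain ⟨c, hc', d, hd, rfl⟩ := hAB y
    exact elem_commute hA (mul_mem ha (hc b hb)) (mul_mem hc' (hc d hd))
  have hCa : ∀ a ∈ A, a ∉ B → ∀ x, Commute x a → x ∈ A := fun a ha ha' x hx =>
    hC a ha ha' ▸ mem_centralizer_singleton'.2 hx
  have hCb : ∀ b ∈ B, b ∉ A → ∀ x, Commute x b → x ∈ B := by
    intro b hb hb' x hx
    obtain ⟨c, hc, d, hd, rfl⟩ := hAB x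
    refine mul_mem ?_ hd
    by_contra hcB
    refine hb' (hCa c hc hcB b ?_)
    have := hx.mul_left (elem_commute hB (inv_mem hd) hb)
    rw [mul_inv_cancel_right] at this
    exact this.symm
  have hinv : ∀ x : S, x * x = 1 → x ∈ A ∨ x ∈ B := by
    intro x hx
    obtain ⟨a, ha, b, hb, rfl⟩ := hAB x
    by_cases haB : a ∈ B
    · exact Or.inr (mul_mem haB hb)
    · refine Or.inl (mul_mem ha (hCa a ha haB b ?_))
      have := inv_eq_of_mul_eq_one_right hx
      rw [mul_inv_rev, inv_eq_of_mul_eq_one_right (elem_mul_self hA ha),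
        inv_eq_of_mul_eq_one_right (elem_mul_self hB hb)] at this
      exact this
  obtain ⟨a₀, ha₀, ha₀'⟩ := hA'
  obtain ⟨b₀, hb₀, hb₀'⟩ := hB'
  refine ⟨fun b hb hb' => le_antisymm (fun x hx => hCb b hb hb' x (mem_centralizer_singleton'.1 hx))
    fun x hx => mem_centralizer_singleton'.2 (elem_commute hB hx hb), fun E hE hmax => ?_,
    fun E hE h => le_antisymm (fun x hx => hCa a₀ ha₀ ha₀' x (elem_commute hE hx (h ha₀))) h,
    fun E hE h => le_antisymm (fun x hx => hCb b₀ hb₀ hb₀' x (elem_commute hE hx (h hb₀))) h,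
    ?_, fun x hxA hxB => ?_⟩
  · by_cases h : E ≤ B
    · exact Or.inr (hmax B hB h).symm
    · obtain ⟨e, he, heB⟩ := SetLike.not_le_iff_exists.1 h
      have heA := (hinv e (elem_mul_self hE he)).resolve_right heB
      exact Or.inl (hmax A hA fun x hx => hCa e heA heB x (elem_commute hE hx he)).symm
  · ext z
    rw [mem_center_iff, mem_inf]
    refine ⟨fun h => ⟨hCa a₀ ha₀ ha₀' z (h a₀).symm, hCb b₀ hb₀ hb₀' z (h b₀).symm⟩, fun h g => ?_⟩
    obtain ⟨a, ha, b, hb, rfl⟩ := hAB g
    exact (elem_commute hA ha h.1).mul_left (elem_commute hB hb h.2)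
  · obtain ⟨a, ha, b, hb, rfl⟩ := hAB x
    have haB : a ∉ B := fun h => hxB (mul_mem h hb)
    have hbA : b ∉ A := fun h => hxA (mul_mem ha h)
    have h0 : 0 < Nat.card (A ⊓ B : Subgroup S) := Nat.card_pos
    have hm : ∀ c, c ∈ centralizer ({a * b} : Set S) ↔ Commute c (a * b) :=
      fun c => mem_centralizer_singleton'
    refine le_min (Nat.le_of_mul_le_mul_right ?_ h0) (Nat.le_of_mul_le_mul_right ?_ h0)
    · refine cnt_mul_le (p := fun c => c ∈ centralizer ({a * b} : Set S)) (q := fun a => a ∈ A)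
        (fun c a' => a'⁻¹ * c ∈ B) (fun c _ => ?_) fun a' _ => ?_
      · obtain ⟨u, hu, v, hv, rfl⟩ := hAB c
        refine cnt_le_of_injOn (p := fun z => z ∈ A ⊓ B) (fun z => u * z) (fun z hz =>
          ⟨mul_mem hu (mem_inf.1 hz).1, ?_⟩) fun _ _ _ _ h => by simpa using h
        simpa [mul_assoc] using mul_mem (inv_mem (mem_inf.1 hz).2) hv
      · by_cases hne : ∃ c₀, c₀ ∈ centralizer ({a * b} : Set S) ∧ a'⁻¹ * c₀ ∈ B
        · obtain ⟨c₀, h1, h2⟩ := hne
          refine cnt_le_of_injOn (q := fun z => z ∈ A ⊓ B) (fun c => c₀⁻¹ * c) (fun c hc => ?_)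
            fun _ _ _ _ h => by simpa using h
          have h3 : c₀⁻¹ * c ∈ B := by simpa [mul_assoc] using mul_mem (inv_mem h2) hc.2
          refine mem_inf.2 ⟨hCa a ha haB _ ?_, h3⟩
          have := ((hm _).1 (mul_mem (inv_mem h1) hc.1)).mul_right (elem_commute hB h3 (inv_mem hb))
          rwa [mul_inv_cancel_right] at this
        · rw [cnt_eq_zero fun c hc => hne ⟨c, hc⟩]; exact Nat.zero_le _
    · refine cnt_mul_le (p := fun c => c ∈ centralizer ({a * b} : Set S)) (q := fun b => b ∈ B)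
        (fun c b' => c * b'⁻¹ ∈ A) (fun c _ => ?_) fun b' _ => ?_
      · obtain ⟨u, hu, v, hv, rfl⟩ := hAB c
        refine cnt_le_of_injOn (p := fun z => z ∈ A ⊓ B) (fun z => z * v) (fun z hz =>
          ⟨mul_mem (mem_inf.1 hz).2 hv, ?_⟩) fun _ _ _ _ h => by simpa using h
        simpa [mul_assoc] using mul_mem hu (inv_mem (mem_inf.1 hz).1)
      · by_cases hne : ∃ c₀, c₀ ∈ centralizer ({a * b} : Set S) ∧ c₀ * b'⁻¹ ∈ A
        · obtain ⟨c₀, h1, h2⟩ := hne
          refine cnt_le_of_injOn (q := fun z => z ∈ A ⊓ B) (fun c => c * c₀⁻¹) (fun c hc => ?_)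
            fun _ _ _ _ h => by simpa using h
          have h3 : c * c₀⁻¹ ∈ A := by simpa [mul_assoc] using mul_mem hc.2 (inv_mem h2)
          refine mem_inf.2 ⟨h3, hCb b hb hbA _ ?_⟩
          have := (elem_commute hA h3 (inv_mem ha)).mul_right ((hm _).1 (mul_mem hc.1 (inv_mem h1)))
          rwa [inv_mul_cancel_left] at this
        · rw [cnt_eq_zero fun c hc => hne ⟨c, hc⟩]; exact Nat.zero_le _

end Cfsg.Agent.S3163
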