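import Cfsg.Statements.S3166
import Mathlib.Tactic.Linarith
import Mathlib.Tactic.Ring
import Mathlib.Tactic.LinearCombination
import Mathlib.Tactic.IntervalCases
import Mathlib.Algebra.Ring.GeomSum
import Mathlib.Tactic.NormNum.Prime
import Mathlib.RingTheory.Coprime.Lemmas

set_option autoImplicit false
open Cfsg

namespace Cfsg.Agent.S3166

set_option linter.unusedSectionVars false
set_option linter.unusedVariables false
set_option linter.style.haveILetI false
set_option linter.unusedSimpArgs false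

/-- Let q = 2^n with n ≥ 1. If q⁴ − q³ + q² − q + 1 is a power p^m of a prime p, then m = 1: the value is never a prime power with exponent greater than 1. -/
theorem result (n p m : ℕ) (hn : 1 ≤ n) (hp : p.Prime) (h : (2 ^ n) ^ 4 - (2 ^ n) ^ 3 + (2 ^ n) ^ 2 - 2 ^ n + 1 = p ^ m) : m = 1 := by
  obtain ⟨q, hq⟩ : ∃ q : ℕ, q = 2 ^ n := ⟨_, rfl⟩
  rw [← hq] at h
  have hq2 : 2 ≤ q := by
    rw [hq]; calc 2 = 2 ^ 1 := rfl
      _ ≤ 2 ^ n := Nat.pow_le_pow_right (by decide) hn
  have hZ : (q : ℤ) ^ 4 - q ^ 3 + q ^ 2 - q + 1 = (p : ℤ) ^ m := by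
    have h1 : q ^ 3 ≤ q ^ 4 := Nat.pow_le_pow_right (by omega) (by decide)
    have h2 : q ≤ q ^ 4 - q ^ 3 + q ^ 2 := le_trans (by nlinarith) (Nat.le_add_left _ _)
    have := congrArg (Nat.cast : ℕ → ℤ) h
    push_cast [Nat.cast_sub h2, Nat.cast_sub h1] at this
    exact this
  have hq' : (2 : ℤ) ≤ q := by exact_mod_cast hq2
  rcases Nat.even_or_odd' m with ⟨k, rfl | rfl⟩
  · exfalso
    have hy : (0 : ℤ) ≤ (p : ℤ) ^ k := by positivity
    rw [pow_mul', ] at hZ
    generalize (p : ℤ) ^ k = y at *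
    have h1 : (2 * q ^ 2 - q : ℤ) < 2 * y := by
      by_contra hc
      push Not at hc
      nlinarith
    have h2 : 2 * y < (2 * q ^ 2 - q + 1 : ℤ) := by
      by_contra hc
      push Not at hc
      nlinarith [mul_self_le_mul_self (by nlinarith) hc]
    omega
  · by_contra hm
    have hk : 1 ≤ k := by omega
    have hpo : Odd p := by
      rcases hp.eq_two_or_odd' with rfl | h2
      · exfalso
        have h3 : (2 : ℤ) ∣ q := by rw [hq]; exact_mod_cast dvd_pow_self 2 (by omega)
        obtain ⟨r, hr⟩ := h3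
        have : (2 : ℤ) ∣ 1 := ⟨2 ^ (2 * k) - (8 * r ^ 4 - 4 * r ^ 3 + 2 * r ^ 2 - r), by
          rw [hr] at hZ; push_cast at hZ; linear_combination hZ⟩
        omega
      · exact h2
    have h1 : (q : ℤ) ∣ (∑ i ∈ Finset.range (2 * k + 1), (p : ℤ) ^ i) * (p - 1) := by
      rw [geom_sum_mul]
      exact ⟨q ^ 3 - q ^ 2 + q - 1, by linear_combination -hZ⟩
    have h2 : Odd (∑ i ∈ Finset.range (2 * k + 1), (p : ℤ) ^ i) := by
      have hpz : Odd (p : ℤ) := by exact_mod_cast hpo
      have : ∀ j : ℕ, Odd (∑ i ∈ Finset.range (2 * j + 1), (p : ℤ) ^ i) := by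
        intro j
        induction j with
        | zero => simp
        | succ j ih =>
          rw [show 2 * (j + 1) + 1 = 2 * j + 1 + 1 + 1 by ring, Finset.sum_range_succ,
            Finset.sum_range_succ, add_assoc]
          exact ih.add_even (hpz.pow.add_odd hpz.pow)
      exact this k
    have h3 : (q : ℤ) ∣ (p : ℤ) - 1 := by
      refine IsCoprime.dvd_of_dvd_mul_left ?_ h1
      rw [hq]; push_cast
      refine IsCoprime.pow_left ?_
      obtain ⟨c, hc⟩ := h2
      exact ⟨-c, 1, by rw [hc]; ring⟩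
    obtain ⟨a, ha⟩ := h3
    have hp2 : (2 : ℤ) ≤ p := by exact_mod_cast hp.two_le
    have ha1 : 1 ≤ a := by
      by_contra hc
      push Not at hc
      nlinarith
    have hpe : (p : ℤ) = q * a + 1 := by linarith
    have hpq : (q : ℤ) < p := by nlinarith
    have hk1 : k = 1 := by
      by_contra hc
      have h5 : (p : ℤ) ^ 4 ≤ p ^ (2 * k + 1) := pow_le_pow_right₀ (by omega) (by omega)
      have h6 : (q : ℤ) ^ 4 < p ^ 4 := pow_lt_pow_left₀ hpq (by omega) (by decide)
      nlinarith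
    subst hk1
    rw [hpe] at hZ
    have h4 : (q : ℤ) ^ 3 - q ^ 2 + q - 1 = 3 * a + 3 * a ^ 2 * q + a ^ 3 * q ^ 2 := by
      apply mul_left_cancel₀ (show (q : ℤ) ≠ 0 by omega)
      linear_combination hZ
    have h5 : (q : ℤ) ∣ 3 * a + 1 := ⟨q ^ 2 - q + 1 - 3 * a ^ 2 - a ^ 3 * q, by linear_combination -h4⟩
    have h6 : (q : ℤ) ≤ 3 * a + 1 := Int.le_of_dvd (by omega) h5
    have h7 : a ^ 3 < q := by
      by_contra hc
      push Not at hc
      nlinarith [mul_le_mul_of_nonneg_right hc (sq_nonneg (q : ℤ))]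
    have h8 : a = 1 := by
      by_contra hc
      have : 2 ≤ a := by omega
      nlinarith
    subst h8
    have h9 : (q : ℤ) ≤ 4 := by omega
    generalize (q : ℤ) = r at *
    interval_cases r <;> omega

end Cfsg.Agent.S3166
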