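import Cfsg.Statements.S3178
import Cfsg.Agent.Lib.Transfer.Tet

set_option autoImplicit false
open Cfsg

namespace Cfsg.Agent.S3178

set_option linter.unusedSectionVars false
set_option linter.unusedVariables false
set_option linter.style.haveILetI false
set_option linter.unusedSimpArgs false

open Subgroup Transfer MS

/-- Groups with a modular Sylow 2-subgroup have a normal 2-complement. Let S, of order 2^(n+1) with n ≥ 3, be a Sylow 2-subgroup of a finite group G, and suppose S contains an element a of order 2^n and an involution b with b a b⁻¹ = a^(2^(n-1) + 1); so S is the non-abelian 2-group with a cyclic subgroup of index 2 that is neither dihedral, semidihedral nor generalized quaternion. Then G has a normal 2-complement. -/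
theorem result {G : Type*} [Group G] [Finite G]
    (S : Sylow 2 G) (n : ℕ) (hn : 3 ≤ n) (hS : Nat.card ↥(S : Subgroup G) = 2 ^ (n + 1))
    (a b : G) (ha : a ∈ (S : Subgroup G)) (hb : b ∈ (S : Subgroup G))
    (hao : orderOf a = 2 ^ n) (hbo : orderOf b = 2) (hrel : b * a * b⁻¹ = a ^ (2 ^ (n - 1) + 1)) :
    Cfsg.HasNormalPComplement 2 G := by
  obtain ⟨m, rfl⟩ := Nat.exists_eq_add_of_le' hn
  have h1 : b ∉ zpowers a := fun e => by
    rw [(Solv.commute_of_mem_zpowers e).eq, mul_inv_cancel_right, pow_succ, eq_comm, mul_eq_right] at hrel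
    have := orderOf_dvd_of_pow_eq_one hrel
    rw [hao, Nat.pow_dvd_pow_iff_le_right (by decide)] at this
    omega
  have h2 := ix2_sup (mem_normalizer_zpowers (hrel ▸ pow_mem (mem_zpowers a) _))
    (mul_self_of_orderOf hbo ▸ one_mem _) h1
  have h3 : zpowers a ⊔ zpowers b = S := eq_of_card_le (sup_le (zpowers_le.2 ha) (zpowers_le.2 hb))
    (by rw [h2.card, Nat.card_zpowers, hao, hS, pow_succ' 2 (m + 3)])
  have h4 : a * a ∈ CC (S : Subgroup G) := by
    rw [← h3, cc_sup, mem_inf, mem_centralizer_zpowers, mem_centralizer_zpowers]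
    refine ⟨(Commute.refl a).mul_left (Commute.refl a), (commute_iff_conj.2 ?_).symm⟩
    rw [← conj_mul, hrel, ← pow_add, show 2 ^ (m + 3 - 1) + 1 + (2 ^ (m + 3 - 1) + 1) = 2 ^ (m + 3) + 2 by
      simp only [show m + 3 - 1 = m + 2 from rfl]; ring, pow_add, ← hao, pow_orderOf_eq_one, one_mul, sq]
  have h5 : a * a * (a * a) ≠ 1 := fun e => by
    have := orderOf_dvd_of_pow_eq_one (show a ^ 2 ^ 2 = 1 by rw [← e]; norm_num [pow_succ, mul_assoc])
    rw [hao, Nat.pow_dvd_pow_iff_le_right (by decide)] at this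
    omega
  rw [h3] at h2
  refine npc_ess S fun B hB h6 he => h5 ?_
  have h7 := h6 ⟨mul_mem ha ha, cc_anti hB h4⟩
  have h8 := S.isPGroup'.to_le hB
  by_cases e : B ≤ zpowers a
  · exact absurd he (not_ess_of_cyc h8 (cyc_mono (cyc_zpowers a) e))
  obtain ⟨s, hs, hs'⟩ := SetLike.not_le_iff_exists.1 e
  obtain e | e := ess_cyc h8 (h2.inf hB hs hs') (cyc_mono (cyc_zpowers a) inf_le_right) he
  exacts [elem_mul_self (klein_elem e) h7, e.center_sq ⟨h7, cc_anti hB h4⟩]

end Cfsg.Agent.S3178
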