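import Cfsg.Statements.S3179
import Mathlib
import Cfsg.Agent.Lib.Perm.GL2b
import Cfsg.Agent.S0280
import Cfsg.Agent.S1163

set_option autoImplicit false
open Cfsg

namespace Cfsg.Agent.S3179

open Subgroup MulAction Matrix

theorem no_nine (g : GL (Fin 5) (ZMod 2)) : orderOf g ≠ 9 := by
  intro hg
  let K : AddSubgroup (Fin 5 → ZMod 2) :=
    { carrier := {v | g ^ 3 • v = v}
      add_mem' := fun {a b} ha hb => by
        simp only [Set.mem_setOf_eq] at ha hb ⊢; rw [smul_add, ha, hb]
      zero_mem' := smul_zero _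
      neg_mem' := fun {a} ha => by simp only [Set.mem_setOf_eq] at ha ⊢; rw [smul_neg, ha] }
  let X : SubMulAction (zpowers g) (Fin 5 → ZMod 2) :=
    { carrier := (K : Set _)ᶜ
      smul_mem' := by
        rintro ⟨_, k, rfl⟩ v hv h
        apply hv
        change g ^ 3 • (g ^ k • v) = g ^ k • v at h
        rw [← mul_smul, (((Commute.refl g).pow_left 3).zpow_right k).eq, mul_smul] at h
        exact MulAction.injective _ h }
  have hc : Nat.card (zpowers g) = 9 := by rw [Nat.card_zpowers, hg]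
  have h1 := Nat.card_congr (selfEquivOrbitsQuotientProd (G := zpowers g) (X := X) fun v => by
    by_contra hne
    have a := (stabilizer (zpowers g) v).card_mul_index
    have b : Nat.card (stabilizer (zpowers g) v) ≠ 1 := fun h => hne (card_eq_one.1 h)
    have c : (stabilizer (zpowers g) v).index ∣ 3 := by
      rw [hc] at a
      have : (stabilizer (zpowers g) v).index ≤ 9 := Nat.le_of_dvd (by norm_num) (Dvd.intro_left _ a)
      interval_cases (stabilizer (zpowers g) v).index <;> omega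
    obtain ⟨k, hk⟩ := c
    have d := pow_mem ((stabilizer (zpowers g) v).pow_index_mem ⟨g, mem_zpowers g⟩) k
    rw [← pow_mul, ← hk] at d
    exact v.2 (congrArg Subtype.val d))
  rw [Nat.card_prod, hc] at h1
  have hV : Nat.card (Fin 5 → ZMod 2) = 32 := by simp
  have h2 : Nat.card K ∣ 2 ^ 5 := by have := K.card_addSubgroup_dvd_card; rwa [hV] at this
  have h3 : Nat.card K + Nat.card X = 32 := by
    rw [← hV]; exact Set.ncard_add_ncard_compl (K : Set (Fin 5 → ZMod 2))
  have h4 : Nat.card K ≠ 32 := fun h => by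
    have h5 : K = ⊤ := AddSubgroup.eq_top_of_card_eq _ (h.trans hV.symm)
    have h6 : g ^ 3 = 1 := by
      apply Units.ext
      refine Matrix.ext_of_mulVec_single fun i => ?_
      have : Pi.single i 1 ∈ K := h5 ▸ AddSubgroup.mem_top _
      rw [Units.val_one, one_mulVec]
      exact this
    have := orderOf_dvd_of_pow_eq_one h6
    rw [hg] at this
    omega
  obtain ⟨i, hi, e⟩ := (Nat.dvd_prime_pow Nat.prime_two).1 h2
  interval_cases i <;> omega

theorem le_ten {n m : ℕ} (h : 2 ^ n * m ∣ 9999360) : n ≤ 10 := by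
  by_contra hn
  have := (pow_dvd_pow 2 (show 11 ≤ n by omega)).trans (dvd_of_mul_right_dvd h)
  norm_num at this

/-- Let X be a section of the general linear group GL(5, 2), that is, a quotient of a subgroup of it. If X is isomorphic to PSL(2, 2^n) for some n ≥ 2, to a Suzuki group over the field with 2^(2m+1) elements for some m ≥ 1, or to PSU(3, 2^n) for some n ≥ 2, then X is isomorphic to PSL(2, 4). -/
theorem result {H : Subgroup (GL (Fin 5) (ZMod 2))}
    {K : Subgroup ↥H} [K.Normal]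
    (hX : (∃ (n : ℕ) (F : Type) (_ : Field F) (_ : Fintype F), 2 ≤ n ∧ Fintype.card F = 2 ^ n ∧
        Nonempty (↥H ⧸ K ≃* Matrix.ProjectiveSpecialLinearGroup (Fin 2) F)) ∨
      (∃ (m : ℕ) (F : Type) (_ : Field F) (_ : Fintype F), 1 ≤ m ∧ Fintype.card F = 2 ^ (2 * m + 1) ∧
        Nonempty (↥H ⧸ K ≃* ↥(Cfsg.Lie.Sz F (2 ^ (m + 1))))) ∨
      (∃ (n : ℕ) (F : Type) (_ : Field F) (_ : Fintype F), 2 ≤ n ∧ Fintype.card F = 4 ^ n ∧
        Nonempty (↥H ⧸ K ≃* Cfsg.PSU 3 F (2 ^ n)))) :
    ∃ (F : Type) (_ : Field F) (_ : Fintype F), Fintype.card F = 4 ∧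
      Nonempty (↥H ⧸ K ≃* Matrix.ProjectiveSpecialLinearGroup (Fin 2) F) := by
  have hG : Nat.card (↥H ⧸ K) ∣ 9999360 := by
    have h1 : Nat.card (GL (Fin 5) (ZMod 2)) = 9999360 := by
      rw [Matrix.card_GL_field]; simp [Fin.prod_univ_five]
    exact (card_quotient_dvd_card K).trans (h1 ▸ card_subgroup_dvd_card H)
  rcases hX with ⟨n, F, _, _, hn, hF, ⟨e⟩⟩ | ⟨m, F, _, _, hm, hF, ⟨e⟩⟩ | ⟨n, F, _, _, hn, hF, ⟨e⟩⟩
  · have h1 := Perm.GL2.card_PSL2_mul (F := F)
    have h2 : Nat.gcd 2 (Fintype.card F - 1) = 1 := by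
      rw [hF]
      exact (Nat.coprime_two_left).2 (Nat.Even.sub_odd Nat.one_le_two_pow
        ((Nat.even_pow' (by omega)).2 even_two) odd_one)
    rw [h2, mul_one, ← Nat.card_congr e.toEquiv, hF] at h1
    rw [h1, mul_assoc] at hG
    have := le_ten hG
    have h3 : n = 2 ∨ n = 3 := by interval_cases n <;> simp_all
    rcases h3 with rfl | rfl
    · exact ⟨F, inferInstance, inferInstance, hF, ⟨e⟩⟩
    exfalso
    haveI : Fact (Nat.Prime 2) := ⟨by norm_num⟩
    haveI : CharP F 2 := charP_of_card_eq_prime_pow hF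
    have h4 : 9 ∈ Set.range (orderOf : Perm.GL2.PSL2 F → ℕ) := by
      rw [Perm.GL2.spec_PSL2 2, h2, hF]; norm_num
    obtain ⟨x, hx⟩ := h4
    obtain ⟨y, hy⟩ := QuotientGroup.mk'_surjective K (e.symm x)
    have h5 : 9 ∣ orderOf (y : GL (Fin 5) (ZMod 2)) := by
      rw [Subgroup.orderOf_coe, ← hx, ← e.symm.orderOf_eq, ← hy]
      exact orderOf_map_dvd _ _
    exact no_nine _ (orderOf_pow_orderOf_div (orderOf_pos _).ne' h5)
  · exfalso
    rw [Nat.card_congr e.toEquiv, (S1163.result hm hF).1, mul_assoc] at hG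
    have := le_ten (m := _) (pow_mul 2 _ _ ▸ hG)
    have h3 : m = 1 ∨ m = 2 := by omega
    rcases h3 with rfl | rfl <;> norm_num at hG
  · exfalso
    have h1 := S0280.result (q := 2 ^ n) (hF.trans (by rw [← pow_mul, mul_comm, pow_mul]; norm_num)) 3
      (by norm_num)
    rw [← Nat.card_congr e.toEquiv] at h1
    have h2 : (2 ^ n) ^ 3 ∣ Nat.card (↥H ⧸ K) := by
      have ho : Odd (2 ^ n + 1) := ((Nat.even_pow' (by omega)).2 even_two).add_one
      have h3 : (2 ^ n) ^ 3 ∣ (Nat.gcd 3 (2 ^ n + 1) * (2 ^ n + 1)) * Nat.card (↥H ⧸ K) := by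
        rw [mul_assoc, h1]; exact Dvd.intro _ rfl
      refine Nat.Coprime.dvd_of_dvd_mul_left ?_ h3
      refine Nat.Coprime.pow_left _ (Nat.Coprime.pow_left _ (Nat.coprime_two_left.2 ?_))
      exact (ho.of_dvd_nat (Nat.gcd_dvd_right _ _)).mul ho
    have := le_ten (n := n * 3) (m := 1) (by rw [mul_one, pow_mul]; exact h2.trans hG)
    have h3 : n = 2 ∨ n = 3 := by omega
    generalize Nat.card (↥H ⧸ K) = c at h1 hG
    rcases h3 with rfl | rfl
    · simp [Finset.prod_range_succ, Nat.even_iff] at h1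
      have : c = 62400 := by omega
      subst this
      norm_num at hG
    · simp [Finset.prod_range_succ, Nat.even_iff] at h1
      have : c = 5515776 := by omega
      subst this
      norm_num at hG

end Cfsg.Agent.S3179
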