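import Cfsg.Statements.S3180
import Cfsg.Agent.Lib.Transfer.Hall

set_option autoImplicit false
open Cfsg

namespace Cfsg.Agent.S3180

set_option linter.unusedSectionVars false
set_option linter.unusedVariables false
set_option linter.style.haveILetI false
set_option linter.unusedSimpArgs false

open Cfsg.Agent.Transfer Subgroup

/-- Let P be a Sylow p-subgroup of a finite group J and P₁ a subgroup of P that is weakly closed in P with respect to J. If J acts on a set and two points, each fixed by every element of P₁, lie in one J-orbit, then they lie in one orbit of the normalizer of P₁ in J. -/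
theorem result {J : Type*} [Group J] [Finite J]
    {p : ℕ} [Fact p.Prime] (P : Sylow p J) (P₁ : Subgroup J) (hW : Cfsg.IsWeaklyClosed P₁ (P : Subgroup J))
    {Ω : Type*} [MulAction J Ω] (x y : Ω) (hx : ∀ g ∈ P₁, g • x = x) (hy : ∀ g ∈ P₁, g • y = y)
    (hc : ∃ g : J, g • x = y) :
    ∃ g ∈ Subgroup.normalizer (P₁ : Set J), g • x = y := by
  obtain ⟨g, rfl⟩ := hc
  have hWp : IsPGroup p P₁ := P.2.to_le hW.1
  have h3 : P₁ ≤ MulAction.stabilizer J (g • x) := fun a ha => hy a ha
  have h4 : cj g P₁ ≤ MulAction.stabilizer J (g • x) := by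
    rw [cj_le_iff]
    intro a ha
    rw [MulAction.mem_stabilizer_iff, mul_smul, mul_smul, inv_smul_smul, hx a ha]
  obtain ⟨R, hR, hWR⟩ := exists_isSyl_ge hWp h3
  obtain ⟨c, hc, hcR⟩ := hR.exists_cj_le (hWp.map _) h4
  obtain ⟨h, hh⟩ := exists_cj_le_sylow P hR.pgroup
  have e1 : cj h P₁ = P₁ := hW.2 h ((cj_mono h hWR).trans hh)
  have e2 : cj (h * (c * g)) P₁ = P₁ := hW.2 _ (by
    have := (cj_mono h hcR).trans hh
    rwa [cj_cj, cj_cj, mul_assoc] at this)
  refine ⟨c * g, ?_, ?_⟩
  · rw [mem_normalizer_iff_cj, ← cj_inj (g := h), cj_cj, e1, e2]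
  · rw [mul_smul]; exact hc

end Cfsg.Agent.S3180
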