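import Cfsg.Statements.S3183
import Cfsg.Agent.Lib.Transfer.Rank

set_option autoImplicit false
open Cfsg

namespace Cfsg.Agent.S3183

set_option linter.unusedSectionVars false
set_option linter.unusedVariables false
set_option linter.style.haveILetI false
set_option linter.unusedSimpArgs false

open Subgroup Cfsg.Agent.Transfer

/-- Let G be a finite group in which the intersection of any two distinct Sylow 2-subgroups is contained in the centre of some Sylow 2-subgroup, and let S be a Sylow 2-subgroup. Then for every x in S the centralizer of x in S is a Sylow 2-subgroup of the centralizer of x in G (no 2-subgroup centralizing x is larger), and for every other Sylow 2-subgroup T the intersection S ∩ T lies in both the centre of S and the centre of T. -/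
theorem result {G : Type*} [Group G] [Finite G]
    (hCI : ∀ S T : Sylow 2 G, S ≠ T → ∃ U : Sylow 2 G,
      (S : Subgroup G) ⊓ (T : Subgroup G) ≤ (Subgroup.center ↥(U : Subgroup G)).map (U : Subgroup G).subtype)
    (S : Sylow 2 G) :
    (∀ x ∈ (S : Subgroup G), ∀ P : Subgroup G, IsPGroup 2 ↥P → P ≤ Subgroup.centralizer ({x} : Set G) →
        Nat.card ↥P ≤ Nat.card ↥((S : Subgroup G) ⊓ Subgroup.centralizer ({x} : Set G))) ∧
    (∀ T : Sylow 2 G, T ≠ S →
        (S : Subgroup G) ⊓ (T : Subgroup G) ≤
          (Subgroup.center ↥(S : Subgroup G)).map (S : Subgroup G).subtype ⊓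
            (Subgroup.center ↥(T : Subgroup G)).map (T : Subgroup G).subtype) := by
  have key : ∀ S : Sylow 2 G, ∀ x ∈ (S : Subgroup G), ∀ P : Subgroup G, IsPGroup 2 P →
      P ≤ centralizer ({x} : Set G) →
      Nat.card P ≤ Nat.card ((S : Subgroup G) ⊓ centralizer ({x} : Set G) : Subgroup G) := by
    intro S x hx P hP hPx
    set R := (S : Subgroup G) ⊓ centralizer ({x} : Set G) with hR
    obtain ⟨Q, hQ, hRQ⟩ := exists_isSyl_ge (Q := R) (S.2.to_le inf_le_left) inf_le_right
    obtain ⟨U, hU⟩ := hQ.pgroup.exists_le_sylow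
    by_cases hUS : S = U
    · subst hUS
      exact (hQ.card_le hP hPx).trans (card_le_of_le (le_inf hU hQ.le))
    obtain ⟨W, hW⟩ := hCI S U hUS
    rw [map_center_eq] at hW
    have h1 : (W : Subgroup G) ≤ centralizer (R : Set G) :=
      le_centralizer_iff.1 (((le_inf inf_le_left (hRQ.trans hU)).trans hW).trans inf_le_right)
    have h2 : IsSyl 2 (W : Subgroup G) (normalizer (R : Set G)) :=
      (isSyl_top W).mono (h1.trans (centralizer_le_normalizer _)) le_top
    have h3 : R = S := by
      by_contra hne
      obtain ⟨y, hy, hy1, hy2⟩ := exists_mem_normalizer_notMem S.2 (lt_of_le_of_ne inf_le_left hne)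
      obtain ⟨k, hk, hle⟩ := h2.exists_cj_le (S.2.to_le (zpowers_le.2 hy)) (zpowers_le.2 hy1)
      have h4 := inv_conj_mem_of_mem_normalizer (mem_normalizer_centralizer hk)
        (h1 (hle (conj_mem_cj (mem_zpowers y))))
      rw [show k⁻¹ * (k * y * k⁻¹) * k = y by group] at h4
      exact hy2 (mem_inf.2 ⟨hy, mem_centralizer_singleton_iff.2
        (h4 x (mem_inf.2 ⟨hx, mem_centralizer_singleton'.2 (Commute.refl x)⟩)).symm⟩)
    rw [h3]
    exact (isSyl_top S).card_le hP le_top
  have key2 : ∀ S T : Sylow 2 G, S ≠ T →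
      (S : Subgroup G) ⊓ T ≤ (center (S : Subgroup G)).map (S : Subgroup G).subtype := by
    intro S T hne x hx
    obtain ⟨U, hU⟩ := hCI S T hne
    have h1 := key S x (mem_inf.1 hx).1 U U.2 fun y hy =>
      mem_centralizer_singleton_iff.2 ((mem_map_center.1 (hU hx)).2 y hy)
    rw [(isSyl_top U).card_eq (isSyl_top S)] at h1
    have h2 := eq_of_le_of_card_ge inf_le_left h1
    exact mem_map_center.2 ⟨(mem_inf.1 hx).1, fun y hy =>
      mem_centralizer_singleton_iff.1 (mem_inf.1 (h2.symm ▸ hy)).2⟩
  exact ⟨key S, fun T hT => le_inf (key2 S T hT.symm) (by rw [inf_comm]; exact key2 T S hT)⟩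

end Cfsg.Agent.S3183
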