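import Cfsg.Statements.S3184
import Cfsg.Agent.Lib.Transfer.AutS2

set_option autoImplicit false
open Cfsg

namespace Cfsg.Agent.S3184

set_option linter.unusedSectionVars false
set_option linter.unusedVariables false
set_option linter.style.haveILetI false
set_option linter.unusedSimpArgs false

open Subgroup Transfer MS

/-- Let G be a finite group in which the intersection of any two distinct Sylow 2-subgroups is contained in the centre of some Sylow 2-subgroup, and let S be a Sylow 2-subgroup. If C is a nontrivial cyclic characteristic subgroup of S, then the involution of C is central modulo the largest normal subgroup of odd order of G: each of its conjugates has the same image in G/O(G). -/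
theorem result {G : Type*} [Group G] [Finite G]
    (hCI : ∀ S T : Sylow 2 G, S ≠ T → ∃ U : Sylow 2 G,
      (S : Subgroup G) ⊓ (T : Subgroup G) ≤ (Subgroup.center ↥(U : Subgroup G)).map (U : Subgroup G).subtype)
    (S : Sylow 2 G) (C : Subgroup ↥(S : Subgroup G)) (hC : C ≠ ⊥) (hCc : IsCyclic ↥C) (hCh : C.Characteristic)
    (c : ↥(S : Subgroup G)) (hc : c ∈ C) (hc2 : orderOf c = 2) :
    ∀ g : G, (QuotientGroup.mk (s := Cfsg.oddCore G) (g * (c : G) * g⁻¹)) =
      QuotientGroup.mk (s := Cfsg.oddCore G) (c : G) := by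
  intro g
  haveI := hCh
  have hC' : ∀ n ∈ NN (S : Subgroup G), n * (c : G) * n⁻¹ = c := by
    intro n hn
    have h1 := normalizer_le_normalizer_map_of_characteristic C hn
    have h2 : IsCyclic (C.map (S : Subgroup G).subtype) := BG.isCyclic_map _ hCc
    obtain ⟨a, -, ha⟩ := exists_zpowers h2
    have h3 := conj_mem_of_mem_normalizer h1 (mem_map_of_mem (S : Subgroup G).subtype hc)
    have h4 := mem_map_of_mem (S : Subgroup G).subtype hc
    rw [ha] at h3 h4
    have h5 : orderOf (c : G) = 2 := by rw [Subgroup.orderOf_coe]; exact hc2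
    exact invol_eq_of_mem_zpowers h3 h4 (by rw [orderOf_conj]; exact h5) h5
  have hS := isSyl_top S
  have hcS : (c : G) ∈ CC (S : Subgroup G) := le_C1_iff.1 fun s hs => mem_C1_of_conj (hC' s (le_nn _ hs))
  have key : ∀ (k : G) (U : Subgroup G), IsSyl 2 U ⊤ → k * c * k⁻¹ ∈ CC U → (c : G) ∈ CC U → k * c * k⁻¹ = c := by
    intro k U hU h1 h2
    obtain ⟨h, hh, e⟩ := (hS.mono (le_C1_iff.2 hcS) le_top).exists_cj_eq (hU.mono (le_C1_iff.2 h2) le_top)
    have h3 : h * k * c * (h * k)⁻¹ ∈ CC (S : Subgroup G) := by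
      have := conj_mem_cj (g := h) h1
      rw [cj_centralizer, e] at this
      convert this using 1; group
    obtain ⟨n, hn, e'⟩ := burnside_fus hS hcS (mem_top _) h3
    rw [hC' n hn.2] at e'
    have h4 := conj_eq_of_C1 ((C1 (c : G)).inv_mem hh)
    rw [← h4]
    conv_rhs => rw [e']
    rw [h4]; group
  have h1 := zstar_sub hS c.2 (fun k _ hk => ?_) (mem_top g)
  · rw [eq_comm, QuotientGroup.eq_iff_div_mem, ← Subgroup.inv_mem_iff]
    rw [O_top, ← Solv.pPrimeCore_eq_piCore] at h1
    simpa [div_eq_mul_inv, mul_assoc] using h1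
  obtain ⟨S1, hS1, h1⟩ := exists_isSyl_ge (H := C1 (k * c * k⁻¹)) (S.isPGroup'.to_le (inf_le_left (b := C1 (k * c * k⁻¹)))) inf_le_right
  have h2 : IsSyl 2 (cj k S) (C1 (k * c * k⁻¹)) := by
    have := (hS.mono (le_C1_iff.2 hcS) le_top).cj k
    rwa [cj_centralizer_singleton] at this
  have h3 : IsSyl 2 S1 ⊤ := hS.of_card_le hS1.pgroup le_top (by rw [hS1.card_eq h2, card_cj])
  obtain ⟨S1, rfl⟩ := h3.exists_sylow
  by_cases e : S = S1
  · subst e
    exact key k S hS (le_C1_iff.1 hS1.le) hcS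
  obtain ⟨U, hU⟩ := hCI S S1 e
  rw [map_center_eq] at hU
  have h4 : (c : G) ∈ C1 (k * c * k⁻¹) := mem_C1_comm.1 (le_C1_iff.2 hcS hk)
  exact key k U (isSyl_top U) (hU ⟨hk, h1 ⟨hk, self_mem_C1 _⟩⟩).2 (hU ⟨c.2, h1 ⟨c.2, h4⟩⟩).2

end Cfsg.Agent.S3184
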