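import Cfsg.Statements.S3190
import Cfsg.Agent.Lib.Transfer.Rank
import Cfsg.Agent.Lib.Solv.Coprime

set_option autoImplicit false
open Cfsg

namespace Cfsg.Agent.S3190

set_option linter.unusedSectionVars false
set_option linter.unusedVariables false
set_option linter.style.haveILetI false
set_option linter.unusedSimpArgs false

open Subgroup Cfsg.Agent.Transfer

/-- Let p be an odd prime and, inside a finite group, let P be a p-subgroup normalized by a Klein four-group T. Let R be a subgroup of P, normal in P and normalized by T, such that P is the product of R with the centralizer of T in P. If T centralizes the centre of P, then T centralizes the centre of R. -/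
theorem result {X : Type*} [Group X] [Finite X]
    {p : ℕ} (hp : p.Prime) (hodd : Odd p) (P T R : Subgroup X) (hP : IsPGroup p ↥P) (hT : IsKleinFour ↥T)
    (hTP : T ≤ Subgroup.normalizer (P : Set X)) (hRP : R ≤ P) (hRn : (R.subgroupOf P).Normal)
    (hTR : T ≤ Subgroup.normalizer (R : Set X)) (hfac : R ⊔ (P ⊓ Subgroup.centralizer (T : Set X)) = P)
    (hZ : T ≤ Subgroup.centralizer (((Subgroup.center ↥P).map P.subtype : Subgroup X) : Set X)) :
    T ≤ Subgroup.centralizer (((Subgroup.center ↥R).map R.subtype : Subgroup X) : Set X) := by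
  haveI := Fact.mk hp
  rw [map_center_eq] at hZ ⊢
  set V := R ⊓ centralizer (R : Set X) with hV
  have hPR : P ≤ normalizer (R : Set X) := (normal_subgroupOf_iff_le_normalizer hRP).1 hRn
  have hTV : T ≤ normalizer (V : Set X) := fun t ht =>
    mem_normalizer_inf (hTR ht) (mem_normalizer_centralizer (hTR ht))
  have hVc : IsMulCommutative V := comm_iff.2 fun a ha b hb => (mem_inf.1 hb).2 a (mem_inf.1 ha).1
  have hW : ⁅V, T⁆ ≤ V := Solv.commutator_le_left_of_le_normalizer hTV
  have hVP : V ≤ P := inf_le_left.trans hRP
  have hcop : (Nat.card T).Coprime (Nat.card V) := by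
    obtain ⟨k, hk⟩ := (hP.to_le hVP).exists_card_eq
    rw [hT.card_four, hk]
    exact Nat.Coprime.pow_right _ (Nat.Coprime.pow_left 2 (Nat.coprime_two_left.2 hodd))
  have hn : P ≤ normalizer ((⁅V, T⁆ : Subgroup X) : Set X) := by
    rw [← hfac]
    refine sup_le ((le_centralizer_iff.1 (hW.trans inf_le_right)).trans (centralizer_le_normalizer _))
      fun c hc => mem_normalizer_commutator (mem_normalizer_inf (hPR (mem_inf.1 hc).1)
        (mem_normalizer_centralizer (hPR (mem_inf.1 hc).1))) (centralizer_le_normalizer _ (mem_inf.1 hc).2)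
  rw [le_centralizer_iff, ← commutator_eq_bot_iff_le_centralizer]
  by_contra hne
  refine Solv.inf_centralizer_ne_bot_of_nilpotent hP.isNilpotent (hW.trans hVP) hn hne ?_
  rw [eq_bot_iff, ← Solv.coprime_abelian_inf_eq_bot hVc hTV hcop]
  exact le_inf (le_inf (inf_le_left.trans hW) (le_centralizer_iff.1 hZ |>.trans'
    (inf_le_inf_right _ (hW.trans hVP)))) inf_le_left

end Cfsg.Agent.S3190
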