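import Cfsg.Statements.S3192
import Cfsg.Agent.Lib.Ez.D3

set_option autoImplicit false
open Cfsg

namespace Cfsg.Agent.S3192

open Subgroup Cfsg.Agent.Ez
open scoped IsMulCommutative

/-- Simple groups of conjugate type rank three. For a finite group G consider the set of indices of the centralizers of the non-central elements of G. Then G is a non-abelian simple group for which this set has exactly three members if and only if G is isomorphic to PSL(2, 2^m) for some m ≥ 2. -/
theorem result (G : Type*) [Group G] [Finite G] :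
    (IsSimpleGroup G ∧ ¬ IsMulCommutative G ∧
        Set.ncard {m : ℕ | ∃ x : G, x ∉ Subgroup.center G ∧ m = (Subgroup.centralizer ({x} : Set G)).index} = 3) ↔
      ∃ (m : ℕ) (F : Type) (_ : Field F) (_ : Fintype F), 2 ≤ m ∧ Fintype.card F = 2 ^ m ∧
        Nonempty (G ≃* Matrix.ProjectiveSpecialLinearGroup (Fin 2) F) := by
  refine ⟨fun ⟨_, hna, h3⟩ => ?_, fun ⟨m, F, _, _, hm, hq, ⟨e⟩⟩ => ?_⟩
  · obtain ⟨n, hn, h⟩ := psl_of_ac hna (mx_ac (mx_of_three hna h3))
    have := Fintype.ofFinite (GaloisField 2 n)
    exact ⟨n, GaloisField 2 n, inferInstance, inferInstance, hn, by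
      rw [← Nat.card_eq_fintype_card, GaloisField.card 2 n (by omega)], h⟩
  have h4 : 4 ≤ Fintype.card F := hq ▸ Nat.pow_le_pow_right two_pos hm
  have := Matrix.ProjectiveSpecialLinearGroup.rank_two_simple (F := F)
    (by rwa [Nat.card_eq_fintype_card])
  have hs : IsSimpleGroup G := e.isSimpleGroup
  have h := l2_of_equiv e
  obtain ⟨f, hf, h2⟩ := h.pw
  have h3 : ringChar F = 2 := (Nat.prime_dvd_prime_iff_eq h.pp Nat.prime_two).1
    (h.pp.dvd_of_dvd_pow (hq ▸ h2 ▸ dvd_pow_self _ hf.ne'))
  rw [h3] at h
  have hna : ¬ IsMulCommutative G := fun hc => by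
    have h5 : (Nat.card G).Prime := IsSimpleGroup.prime_card
    have h6 := h.card
    rw [show Nat.gcd 2 (Fintype.card F - 1) = 1 from
      (Nat.Prime.coprime_iff_not_dvd Nat.prime_two).2 (by
        have : 2 ∣ Fintype.card F := hq ▸ dvd_pow_self 2 (by omega)
        omega), mul_one] at h6
    rw [h6, mul_assoc] at h5
    exact Nat.not_prime_mul (by omega) (by
      intro e; have := Nat.eq_one_of_mul_eq_one_right e; omega) h5
  exact ⟨hs, hna, h.three h4 ((inferInstance : (center G).Normal).eq_bot_or_eq_top.resolve_right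
    fun e => hna (center_eq_top_iff.1 e))⟩

end Cfsg.Agent.S3192
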