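import Cfsg.Statements.S3195
import Cfsg.Agent.Lib.Transfer.Tet

set_option autoImplicit false
open Cfsg

namespace Cfsg.Agent.S3195

set_option linter.unusedSectionVars false
set_option linter.unusedVariables false
set_option linter.style.haveILetI false
set_option linter.unusedSimpArgs false

open Subgroup Transfer MS

/-- Let A be a Klein four-subgroup of a finite group G. If every G-conjugate of every involution of A commutes with some involution of A (its centralizer meets A nontrivially), then A meets the largest normal 2-subgroup O₂(G) nontrivially. -/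
theorem result {G : Type*} [Group G] [Finite G]
    (A : Subgroup G) (hA : IsKleinFour ↥A)
    (h : ∀ a ∈ A, a ≠ 1 → ∀ g : G, A ⊓ Subgroup.centralizer ({g * a * g⁻¹} : Set G) ≠ ⊥) :
    A ⊓ Cfsg.pCore 2 G ≠ ⊥ := by
  intro h0
  have hA2 := fun a ha => elem_mul_self (klein_elem hA) (a := a) ha
  have hc : ∀ a ∈ A, ∀ b ∈ A, Commute a b := fun a ha b hb => ab_cc (klein_isMulCommutative hA) hb a ha
  have h1 : ∀ a ∈ A, a ≠ 1 → ∀ g x : G, Odd (orderOf x) → g * a * g⁻¹ * x * (g * a * g⁻¹)⁻¹ = x⁻¹ → ∀ c,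
      ∃ b ∈ A, b ≠ 1 ∧ Commute (c * b * c⁻¹) (x * (g * a * g⁻¹)) := fun a ha h1 g x ho hx c => by
    obtain ⟨d, -, e⟩ := exists_conj_of_inverts_odd hx ho
    obtain ⟨b, hb, h2⟩ := exists_ne_one (h a ha h1 (c⁻¹ * d * g))
    refine ⟨b, hb.1, h2, ?_⟩
    have := (show Commute b _ from mem_C1.1 hb.2).conj c
    rwa [show c * (c⁻¹ * d * g * a * (c⁻¹ * d * g)⁻¹) * c⁻¹ = d * (g * a * g⁻¹) * d⁻¹ by group, e] at this
  have h2 : ∀ x : G, Odd (orderOf x) → ∀ a : G, a * x * a⁻¹ = x⁻¹ → Commute a x → x = 1 := fun x ho a e1 e2 => by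
    rw [e2.eq, mul_inv_cancel_right, eq_inv_iff_mul_eq_one, ← sq] at e1
    exact orderOf_eq_one_iff.1 (Nat.Coprime.eq_one_of_dvd (Nat.coprime_two_right.2 ho) (orderOf_dvd_of_pow_eq_one e1))
  have h3 : ∀ a ∈ A, a ≠ 1 → ∃ x : G, x ≠ 1 ∧ Odd (orderOf x) ∧ a * x * a⁻¹ = x⁻¹ ∧ ∃ b ∈ A, b ≠ 1 ∧ b ≠ a ∧
      Commute b x := fun a ha h3 => by
    obtain ⟨x, h4, h5, h6⟩ := exists_inverts_odd_of_not_isPGroup (hA2 a ha) fun e =>
      h3 (eq_one_of_inf h0 ha (Solv.le_pCore e (subset_normalClosure rfl)))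
    obtain ⟨b, hb, h7, h8⟩ := h1 a ha h3 1 x h5 (by simpa using h6) 1
    simp only [one_mul, inv_one, mul_one] at h8
    have h9 : Commute b x := by simpa using h8.mul_right (hc b hb a ha).inv_right
    exact ⟨x, h4, h5, h6, b, hb, h7, fun e => h4 (h2 x h5 a h6 (e ▸ h9)), h9⟩
  obtain ⟨a, ha, a1⟩ := exists_ne_one (H := A) fun e => by simpa [e] using hA.card_four
  obtain ⟨x, x1, x2, x3, b, hb, b1, b2, b3⟩ := h3 a ha a1
  obtain ⟨y, y1, y2, y3, c, hc', c1, c2, c3⟩ := h3 b hb b1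
  have mem : ∀ a ∈ A, ∀ b ∈ A, a ≠ 1 → b ≠ 1 → a ≠ b → ∀ c ∈ A, c ≠ 1 → c = a ∨ c = b ∨ c = a * b :=
    fun a ha b hb h1 h2 h3 c hc h4 => by
      by_contra e
      push Not at e
      exact e.2.2 (congrArg Subtype.val (IsKleinFour.eq_mul_of_ne_all (x := (⟨a, ha⟩ : A)) (y := ⟨b, hb⟩) (z := ⟨c, hc⟩)
        (by simpa) (by simpa) (by simpa) (by simpa) (by simpa using e.1) (by simpa using e.2.1)))
  -- `c` inverts `x`, centralizes `y`; `b` centralizes `x`, inverts `y`
  have c4 : c * x * c⁻¹ = x⁻¹ := by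
    rcases mem a ha b hb a1 b1 b2.symm c hc' c1 with rfl | rfl | rfl
    exacts [x3, absurd rfl c2, by rw [mul_inv_rev, mul_assoc a, b3.eq, ← x3]; group]
  have d1 : c * b * x * (c * b)⁻¹ = x⁻¹ := by rw [mul_inv_rev, mul_assoc c, b3.eq, ← c4]; group
  have d2 : c * b * y * (c * b)⁻¹ = y⁻¹ := by
    rw [show c * b * y * (c * b)⁻¹ = c * (b * y * b⁻¹) * c⁻¹ by group, y3, c3.inv_right.eq]; group
  have d3 : Commute x y := by
    have key : ∀ u ∈ zpowers x, Commute u y ∨ Commute (u * (c * b)) (y * b) := fun u hu => by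
      have e1 := inverts_of_mem_zpowers c4 hu
      have e2 := odd_orderOf_of_mem_zpowers x2 hu
      have e3 : Commute b u := Solv.Commute.of_mem_zpowers b3 (mem_zpowers b) hu
      obtain ⟨d, hd, e4⟩ := exists_conj_of_inverts_odd e1 e2
      have e5 : d * b * d⁻¹ = b := by rw [← (Solv.Commute.of_mem_zpowers e3 (mem_zpowers b) hd).eq]; simp
      obtain ⟨w, hw, w1, w2⟩ := h1 b hb b1 1 y y2 (by simpa using y3) d
      simp only [one_mul, inv_one, mul_one] at w2
      rcases mem c hc' b hb c1 b1 c2 w hw w1 with rfl | rfl | rfl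
      · rw [e4] at w2
        have := w2.mul_left (c3.mul_right (hc w hw b hb)).inv_left
        rw [mul_inv_cancel_right] at this
        exact .inl (by simpa using this.mul_right e3.symm.inv_right)
      · rw [e5] at w2
        exact absurd (h2 y y2 w y3 (by simpa using w2.mul_right (Commute.refl w).inv_right)) y1
      · rw [← conj_mul, e4, e5, mul_assoc] at w2; exact .inr w2
    obtain e | e := key x (mem_zpowers x)
    · exact e
    obtain e' | e' := key (x * x) (mul_mem (mem_zpowers x) (mem_zpowers x))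
    · exact mem_C1.1 (mem_of_pow_mem_coprime (odd_iff_coprime_two.1 x2) (mem_C1.2 (sq x ▸ e'.eq) : x ^ 2 ∈ C1 y))
    · have := e'.mul_left e.inv_left
      rw [mul_assoc x x, mul_inv_cancel_right] at this
      simpa using this.mul_right b3.symm.inv_right
  have d4 : Odd (orderOf (x * y)) := (x2.mul y2).of_dvd_nat d3.orderOf_mul_dvd_mul_orderOf
  have d5 : c * b ≠ 1 := fun e => c2 (by rw [eq_inv_of_mul_eq_one_left e, inv_eq_of_mul_eq_one_left (hA2 b hb)])
  obtain ⟨w, hw, w1, w2⟩ := h1 _ (mul_mem hc' hb) d5 1 (x * y) d4 (by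
    rw [one_mul, inv_one, mul_one, ← conj_mul, d1, d2, d3.eq, mul_inv_rev]) 1
  simp only [one_mul, inv_one, mul_one] at w2
  have w3 : Commute w (x * y) := by
    simpa only [mul_inv_cancel_right] using w2.mul_right (hc w hw _ (mul_mem hc' hb)).inv_right
  rcases mem c hc' b hb c1 b1 c2 w hw w1 with rfl | rfl | rfl
  · exact x1 (h2 x x2 w c4 (by simpa using w3.mul_right c3.inv_right))
  · exact y1 (h2 y y2 w y3 (by simpa using b3.inv_right.mul_right w3))
  · have := h2 _ d4 _ (by rw [← conj_mul, d1, d2, d3.eq, mul_inv_rev]) w3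
    refine x1 (h2 x x2 c c4 ?_)
    rw [eq_inv_of_mul_eq_one_left this]; exact c3.inv_right

end Cfsg.Agent.S3195
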