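import Cfsg.Statements.S3200
import Cfsg.Agent.Lib.Block.Syl1
import Cfsg.Agent.Lib.Solv.Hall
import Cfsg.Agent.S0563

set_option autoImplicit false
open Cfsg

namespace Cfsg.Agent.S3200

open Cfsg.Agent.Blk
open Cfsg.Agent.Char hiding cj cj_mul cj_inv_cj cj_cj_inv
open Subgroup Pointwise

/-- Let H be a finite group in which a Sylow 2-subgroup has an abelian complement (an abelian subgroup meeting it trivially whose product with it is all of H). Then H is solvable, and every subgroup and every quotient group of H again has a Sylow 2-subgroup with an abelian complement. -/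
theorem result {H : Type*} [Group H] [Finite H]
    (S : Sylow 2 H) (C : Subgroup H) (hC : IsMulCommutative ↥C) (hSC : Subgroup.IsComplement' (S : Subgroup H) C) :
    Group.IsSolvable H ∧
    (∀ L : Subgroup H, ∃ (P : Sylow 2 ↥L) (D : Subgroup ↥L), IsMulCommutative ↥D ∧ Subgroup.IsComplement' (P : Subgroup ↥L) D) ∧
    (∀ (N : Subgroup H) [N.Normal], ∃ (P : Sylow 2 (H ⧸ N)) (D : Subgroup (H ⧸ N)),
      IsMulCommutative ↥D ∧ Subgroup.IsComplement' (P : Subgroup (H ⧸ N)) D) := by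
  have h1 : C.index = Nat.card (S : Subgroup H) := hSC.index_eq_card
  have h2 : ¬ 2 ∣ Nat.card C := hSC.symm.index_eq_card ▸ S.not_dvd_index
  obtain ⟨k, hk⟩ := IsPGroup.iff_card.1 S.isPGroup'
  have cp : ∀ {n j : ℕ}, ¬ 2 ∣ n → n.Coprime (2 ^ j) := fun h =>
    Nat.Coprime.pow_right _ ((Nat.Prime.coprime_iff_not_dvd Nat.prime_two).2 h).symm
  haveI hs : Group.IsSolvable H := (S0563.result (S : Subgroup H) C S.isPGroup'.isNilpotent
    (by open scoped IsMulCommutative in exact CommGroup.isNilpotent) (hk ▸ (cp h2).symm) fun g => by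
      obtain ⟨⟨a, b⟩, e⟩ := hSC.2 g
      exact ⟨a, a.2, b, b.2, e.symm⟩).1
  refine ⟨hs, fun L => ?_, fun N _ => ?_⟩
  · obtain ⟨P⟩ : Nonempty (Sylow 2 L) := inferInstance
    obtain ⟨D, hD, -⟩ := Solv.hall_exists_card_ge (P : Subgroup L).index_mul_card.symm
      P.card_coprime_index.symm (K := ⊥) (by simp)
    obtain ⟨g, hg⟩ := Solv.hall_le_conj (H := C) (K := D.map L.subtype) (by rw [h1, hk]; exact cp h2)
      (by rw [h1, hk, card_subtype, hD]; exact cp P.not_dvd_index)
    refine ⟨P, D, ⟨⟨fun a b => Subtype.ext (Subtype.ext ?_)⟩⟩, isComplement'_of_coprime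
      (by rw [hD, card_mul_index]) (hD ▸ P.card_coprime_index)⟩
    obtain ⟨x, hx, e1⟩ := hg ⟨a, a.2, rfl⟩
    obtain ⟨y, hy, e2⟩ := hg ⟨b, b.2, rfl⟩
    change L.subtype a * L.subtype b = L.subtype b * L.subtype a
    rw [← e1, ← e2]
    exact ((show Commute x y from congrArg Subtype.val (hC.is_comm.comm ⟨x, hx⟩ ⟨y, hy⟩)).map
      (MulAut.conj g)).eq
  · obtain ⟨P⟩ : Nonempty (Sylow 2 (H ⧸ N)) := inferInstance
    have h3 : ¬ 2 ∣ Nat.card (C.map (QuotientGroup.mk' N)) := fun e => h2 (e.trans (card_map_dvd _ _))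
    obtain ⟨j, -, hj⟩ := (Nat.dvd_prime_pow Nat.prime_two).1
      ((h1.trans hk) ▸ index_map_dvd C (QuotientGroup.mk'_surjective N))
    obtain ⟨i, hi⟩ := IsPGroup.iff_card.1 P.isPGroup'
    refine ⟨P, C.map (QuotientGroup.mk' N), inferInstance, isComplement'_of_coprime ?_ (hi ▸ (cp h3).symm)⟩
    rw [← (C.map (QuotientGroup.mk' N)).index_mul_card]
    congr 1
    refine Nat.dvd_antisymm (Nat.Coprime.dvd_of_dvd_mul_right (hi ▸ (cp h3).symm) (by
      rw [index_mul_card]; exact card_subgroup_dvd_card _)) ?_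
    rw [hj]; exact P.pow_dvd_card_of_pow_dvd_card (hj ▸ index_dvd_card _)

end Cfsg.Agent.S3200
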