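import Cfsg.Statements.S3203
import Cfsg.Agent.Lib.Transfer.Rank

set_option autoImplicit false
open Cfsg

namespace Cfsg.Agent.S3203

set_option linter.unusedSectionVars false
set_option linter.unusedVariables false
set_option linter.style.haveILetI false
set_option linter.unusedSimpArgs false

open Subgroup Cfsg.Agent.Transfer

theorem aux {G : Type*} [Group G] [Finite G] (S : Sylow 2 G) (A B : Subgroup G)
    (hAS : A ≤ S) (hBS : B ≤ S) (hAB : A ≠ B) (hA : IsElementaryAbelian 2 A) (hB : IsElementaryAbelian 2 B)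
    (hAm : ∀ C : Subgroup G, C ≤ S → IsElementaryAbelian 2 C → A ≤ C → C = A)
    (hBm : ∀ C : Subgroup G, C ≤ S → IsElementaryAbelian 2 C → B ≤ C → C = B)
    (honly : ∀ C : Subgroup G, C ≤ S → IsElementaryAbelian 2 C → C ≤ A ∨ C ≤ B)
    (hprod : (S : Subgroup G) ≤ A ⊔ B) :
    IsWeaklyClosed A (S : Subgroup G) ∧
      normalizer ((S : Subgroup G) : Set G) ≤ normalizer (A : Set G) := by
  have h0 : ∀ n ∈ normalizer ((S : Subgroup G) : Set G), ∀ C : Subgroup G, C ≤ S → cj n C ≤ S :=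
    fun n hn C hC => cj_eq_of_mem_normalizer hn ▸ cj_mono n hC
  have hperm : ∀ n ∈ normalizer ((S : Subgroup G) : Set G),
      (cj n A = A ∧ cj n B = B) ∨ (cj n A = B ∧ cj n B = A) := by
    intro n hn
    have h1 : ∀ C D : Subgroup G, D ≤ S → IsElementaryAbelian 2 D →
        (∀ E : Subgroup G, E ≤ S → IsElementaryAbelian 2 E → C ≤ E → E = C) → cj n C ≤ D →
        cj n C = D := fun C D hD hD' hm h => by
      rw [cj_eq_iff_eq_cj_inv]
      exact (hm _ (h0 _ (inv_mem hn) D hD) (elem_cj hD' _) (cj_le_iff_le_cj_inv.1 h)).symm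
    have h2 := (honly _ (h0 n hn A hAS) (elem_cj hA n)).imp (h1 A A hAS hA hAm) (h1 A B hBS hB hAm)
    have h3 := (honly _ (h0 n hn B hBS) (elem_cj hB n)).imp (h1 B A hAS hA hBm) (h1 B B hBS hB hBm)
    rcases h2 with h2 | h2 <;> rcases h3 with h3 | h3
    · exact absurd (cj_inj.1 (h2.trans h3.symm)) hAB
    · exact Or.inl ⟨h2, h3⟩
    · exact Or.inr ⟨h2, h3⟩
    · exact absurd (cj_inj.1 (h2.trans h3.symm)) hAB
  have hS : (S : Subgroup G) ≤ normalizer (A : Set G) ⊓ normalizer (B : Set G) := by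
    refine hprod.trans (sup_le (fun a ha => ?_) fun b hb => ?_)
    · rcases hperm a (le_normalizer (hAS ha)) with h | h
      · exact mem_inf.2 ⟨mem_normalizer_iff_cj.2 h.1, mem_normalizer_iff_cj.2 h.2⟩
      · exact absurd ((cj_eq_of_mem ha).symm.trans h.1) hAB
    · rcases hperm b (le_normalizer (hBS hb)) with h | h
      · exact mem_inf.2 ⟨mem_normalizer_iff_cj.2 h.1, mem_normalizer_iff_cj.2 h.2⟩
      · exact absurd (h.2.symm.trans (cj_eq_of_mem hb)) hAB
  have hN : normalizer ((S : Subgroup G) : Set G) ≤ normalizer (A : Set G) := by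
    rw [← ((isSyl_top S).mono le_normalizer le_top).res_sup]
    refine sup_le (res_le_iff.2 fun n hn ho => ?_) (hS.trans inf_le_left)
    obtain ⟨k, hk⟩ := exists_sq_eq_of_odd (odd_iff_coprime_two.2 ho)
    rw [← hk, mem_normalizer_iff_cj, ← cj_cj]
    rcases hperm _ (pow_mem hn k) with h | h
    · rw [h.1, h.1]
    · rw [h.1, h.2]
  refine ⟨⟨hAS, fun g hg => ?_⟩, hN⟩
  change cj g A = A
  rcases honly _ hg (elem_cj hA g) with h | h
  · exact eq_of_le_of_card_ge h (card_cj g A).ge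
  exfalso
  have h1 := IsSyl.inf_centralizer S (hS.trans inf_le_left)
  have h2 : A ≤ cj g⁻¹ B := cj_le_iff_le_cj_inv.1 h
  obtain ⟨c, hc, hle⟩ := h1.exists_cj_le (elem_isPGroup (elem_cj hB g⁻¹))
    fun x hx a ha => elem_commute (elem_cj hB g⁻¹) (h2 ha) hx
  have h3 := hAm _ (hle.trans inf_le_left) (elem_cj (elem_cj hB _) _) (by
    rw [← cj_eq_of_mem_normalizer (centralizer_le_normalizer _ hc)]; exact cj_mono c h2)
  have h4 : cj g A = B := eq_of_le_of_card_ge h (by rw [card_cj, ← h3, card_cj, card_cj])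
  obtain ⟨n, hn, h5⟩ := exists_normalizer_cj_eq S (g := g) (hS.trans inf_le_left)
    (by rw [h4]; exact hS.trans inf_le_right)
  exact hAB ((cj_eq_of_mem_normalizer (hN hn)).symm.trans (h5.trans h4))

/-- Let S be a Sylow 2-subgroup of a finite group G having exactly two subgroups A ≠ B that are maximal among its elementary abelian subgroups, with S = AB. Then A and B are each weakly closed in S with respect to G, and the normalizer of S normalizes both A and B. -/
theorem result {G : Type*} [Group G] [Finite G] (S : Sylow 2 G)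
    (A B : Subgroup ↥(S : Subgroup G)) (hAB : A ≠ B)
    (hA : Cfsg.IsElementaryAbelian 2 A ∧ ∀ C : Subgroup ↥(S : Subgroup G), Cfsg.IsElementaryAbelian 2 C → A ≤ C → C = A)
    (hB : Cfsg.IsElementaryAbelian 2 B ∧ ∀ C : Subgroup ↥(S : Subgroup G), Cfsg.IsElementaryAbelian 2 C → B ≤ C → C = B)
    (honly : ∀ C : Subgroup ↥(S : Subgroup G), Cfsg.IsElementaryAbelian 2 C →
      (∀ D : Subgroup ↥(S : Subgroup G), Cfsg.IsElementaryAbelian 2 D → C ≤ D → D = C) → C = A ∨ C = B)
    (hprod : ∀ s : ↥(S : Subgroup G), ∃ a ∈ A, ∃ b ∈ B, a * b = s)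
    (A' B' : Subgroup G) (hA' : A' = A.map (S : Subgroup G).subtype) (hB' : B' = B.map (S : Subgroup G).subtype) :
    Cfsg.IsWeaklyClosed A' (S : Subgroup G) ∧ Cfsg.IsWeaklyClosed B' (S : Subgroup G) ∧
      Subgroup.normalizer ((S : Subgroup G) : Set G) ≤ Subgroup.normalizer (A' : Set G) ⊓ Subgroup.normalizer (B' : Set G) := by
  have hm : ∀ A : Subgroup (S : Subgroup G),
      (∀ C : Subgroup (S : Subgroup G), IsElementaryAbelian 2 C → A ≤ C → C = A) →
      ∀ C : Subgroup G, C ≤ S → IsElementaryAbelian 2 C → A.map (S : Subgroup G).subtype ≤ C →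
        C = A.map (S : Subgroup G).subtype := fun A h C hC hC' hle => by
    rw [← h _ (elem_subgroupOf hC' _) (map_le_iff_le_comap.1 hle), map_subgroupOf_eq_of_le hC]
  have ho : ∀ C : Subgroup G, C ≤ S → IsElementaryAbelian 2 C → C ≤ A' ∨ C ≤ B' := by
    intro C hC hC'
    obtain ⟨M, h1, h2, h3⟩ := Solv.exists_maximal_ge (P := IsElementaryAbelian 2)
      (elem_subgroupOf hC' (S : Subgroup G))
    rw [hA', hB', ← map_subgroupOf_eq_of_le hC]
    rcases honly M h2 h3 with rfl | rfl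
    exacts [Or.inl (map_mono h1), Or.inr (map_mono h1)]
  have hp : (S : Subgroup G) ≤ A' ⊔ B' := fun s hs => by
    obtain ⟨a, ha, b, hb, h⟩ := hprod ⟨s, hs⟩
    have : (a : G) * b = s := congrArg Subtype.val h
    rw [hA', hB', ← this]
    exact mul_mem (mem_sup_left ⟨a, ha, rfl⟩) (mem_sup_right ⟨b, hb, rfl⟩)
  have hne : A' ≠ B' := by
    rw [hA', hB']; exact fun h => hAB (map_injective (subtype_injective _) h)
  subst hA' hB'
  have h1 := aux S _ _ (map_subtype_le _) (map_subtype_le _) hne (elem_map hA.1 _) (elem_map hB.1 _)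
    (hm A hA.2) (hm B hB.2) ho hp
  have h2 := aux S _ _ (map_subtype_le _) (map_subtype_le _) hne.symm (elem_map hB.1 _)
    (elem_map hA.1 _) (hm B hB.2) (hm A hA.2) (fun C h h' => (ho C h h').symm) (by rwa [sup_comm])
  exact ⟨h1.1, h2.1, le_inf h1.2 h2.2⟩

end Cfsg.Agent.S3203
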