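import Cfsg.Statements.S3208
import Cfsg.Agent.Lib.Transfer.Hall

set_option autoImplicit false
open Cfsg

namespace Cfsg.Agent.S3208

set_option linter.unusedSectionVars false
set_option linter.unusedVariables false
set_option linter.style.haveILetI false
set_option linter.unusedSimpArgs false

open Cfsg.Agent.Transfer Subgroup

/-- Let j be an involution of a finite group G, H a subgroup of G, and T a Sylow 2-subgroup of H ∩ C_G(j) containing j such that ⟨j⟩ is a characteristic subgroup of T. Then T is a Sylow 2-subgroup of H. -/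
theorem result {G : Type*} [Group G] [Finite G]
    (j : G) (hj : orderOf j = 2) (H T : Subgroup G) (hT : T ≤ H ⊓ Subgroup.centralizer ({j} : Set G)) (h2 : IsPGroup 2 ↥T)
    (hSyl : ¬ 2 ∣ T.relIndex (H ⊓ Subgroup.centralizer ({j} : Set G))) (hjT : j ∈ T)
    (hchar : ((Subgroup.zpowers j).subgroupOf T).Characteristic) :
    ¬ 2 ∣ T.relIndex H := by
  have hS : IsSyl 2 T (H ⊓ centralizer ({j} : Set G)) := ⟨hT, h2, hSyl⟩
  refine (isSyl_of_maximal h2 (hT.trans inf_le_left) fun R hR hRH hTR => ?_).not_dvd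
  by_contra hne
  obtain ⟨x, hxR, hxN, hxT⟩ := exists_mem_normalizer_notMem hR (lt_of_le_not_ge hTR hne)
  have h1 := normalizer_le_normalizer_map_of_characteristic ((zpowers j).subgroupOf T) hxN
  rw [map_subgroupOf_eq_of_le (zpowers_le.2 hjT)] at h1
  have h3 := conj_mem_of_mem_normalizer h1 (mem_zpowers j)
  have h4 : x ∈ centralizer ({j} : Set G) := by
    rw [mem_centralizer_singleton_iff]
    have hne1 : x * j * x⁻¹ ≠ 1 := by
      intro h
      have := orderOf_conj x j
      rw [h, orderOf_one, hj] at this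
      exact absurd this (by decide)
    obtain ⟨k, hk⟩ := mem_zpowers_iff.1 h3
    have hj2 : j ^ (2 : ℤ) = 1 := by
      rw [zpow_ofNat, ← hj, pow_orderOf_eq_one]
    rcases Int.even_or_odd' k with ⟨m, rfl | rfl⟩
    · rw [zpow_mul, hj2, one_zpow] at hk
      exact absurd hk.symm hne1
    · rw [zpow_add, zpow_mul, hj2, one_zpow, one_mul, zpow_one] at hk
      exact mul_inv_eq_iff_eq_mul.1 hk.symm
  have h5 : zpowers x ≤ T := hS.le_of_le_normalizer (hR.to_le (zpowers_le.2 hxR))
    (zpowers_le.2 (mem_inf.2 ⟨hRH hxR, h4⟩)) (zpowers_le.2 hxN)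
  exact hxT (h5 (mem_zpowers x))

end Cfsg.Agent.S3208
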