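import Cfsg.Statements.S3209
import Mathlib
import Cfsg.Agent.Lib.Perm.GL2h
import Cfsg.Agent.Lib.Transfer.Invol

set_option autoImplicit false
open Cfsg

namespace Cfsg.Agent.S3209

open Cfsg.Agent.Perm.GL2 Subgroup Cfsg.Agent.Transfer

theorem aux {G : Type*} [Group G] {F : Type*} [Field F] [Fintype F] (hF : Odd (Fintype.card F))
    {L : Subgroup G} (e : L ≃* SL2 F) {j : G} (hj : orderOf j = 2) (hL : j ∈ L) :
    (∃ a ∈ L, a * a = j) ∧ (∀ a ∈ L, a * a = 1 → a ∈ zpowers j) ∧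
      ∀ a ∈ L, ∀ b ∈ L, a * a = j → b * b = j → ∃ g ∈ L, g * a * g⁻¹ = b := by
  have h2 := two_ne_zero_of_odd hF
  have h1 : ∀ a : L, a * a = 1 → e a = 1 ∨ e a = -1 := fun a h =>
    isScal_SL_iff.1 (isScal_of_mul_self_eq_one h2 (by rw [← map_mul, h, map_one]))
  have h3 : e ⟨j, hL⟩ = -1 := (h1 _ (Subtype.ext (mul_self_of_orderOf hj))).resolve_left fun h =>
    ne_one_of_orderOf hj (congrArg Subtype.val ((map_eq_one_iff e e.injective).1 h))
  have h4 : ∀ a : L, (a : G) * a = j → ((e a : SL2 F) : M2 F).trace = 0 := fun a h => by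
    have h5 : e a * e a = -1 := by rw [← map_mul, ← h3]; congr 1; exact Subtype.ext h
    refine trace_of_mul_self (fun hs => neg_one_ne_one_SL h2 ?_) h5
    rw [← h5]
    rcases isScal_SL_iff.1 hs with h | h <;> simp [h]
  refine ⟨?_, fun a ha h => ?_, fun a ha b hb h5 h6 => ?_⟩
  · obtain ⟨g, hg⟩ := exists_trace_zero (F := F)
    refine ⟨e.symm g, (e.symm g).2, ?_⟩
    have : e.symm g * e.symm g = ⟨j, hL⟩ := by
      rw [← map_mul, mul_self_of_trace hg, ← h3, e.symm_apply_apply]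
    exact congrArg Subtype.val this
  · rcases h1 ⟨a, ha⟩ (Subtype.ext h) with h5 | h5
    · have : a = 1 := congrArg Subtype.val ((map_eq_one_iff e e.injective).1 h5)
      exact this ▸ one_mem _
    · have : a = j := congrArg Subtype.val (e.injective (h5.trans h3.symm))
      exact this ▸ mem_zpowers _
  · obtain ⟨g, hg⟩ := isConj_iff.1 ((isReg_of_trace h2 (h4 ⟨a, ha⟩ h5)).isConj_SL
      ((h4 ⟨a, ha⟩ h5).trans (h4 ⟨b, hb⟩ h6).symm))
    refine ⟨e.symm g, (e.symm g).2, ?_⟩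
    have : e.symm g * ⟨a, ha⟩ * (e.symm g)⁻¹ = ⟨b, hb⟩ := e.injective (by simpa using hg)
    exact congrArg Subtype.val this

/-- Let L₁ ≅ SL₂(q₁) and L₂ ≅ SL₂(q₂), q₁ and q₂ odd, be elementwise-commuting subgroups of a finite group meeting in ⟨j⟩ for an involution j. Then L₁L₂ has exactly two conjugacy classes of involutions: the central involution j, and one further class (there is an involution x ≠ j in L₁L₂, and every involution of L₁L₂ other than j is conjugate to x by an element of L₁L₂). -/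
theorem result {G : Type*} [Group G] [Finite G]
    {F₁ : Type*} [Field F₁] [Fintype F₁] {F₂ : Type*} [Field F₂] [Fintype F₂]
    (hF₁ : Odd (Fintype.card F₁)) (hF₂ : Odd (Fintype.card F₂)) (L₁ L₂ : Subgroup G)
    (e₁ : ↥L₁ ≃* Matrix.SpecialLinearGroup (Fin 2) F₁) (e₂ : ↥L₂ ≃* Matrix.SpecialLinearGroup (Fin 2) F₂)
    (hc : ∀ x ∈ L₁, ∀ y ∈ L₂, x * y = y * x) (j : G) (hj : orderOf j = 2) (hm : L₁ ⊓ L₂ = Subgroup.zpowers j) :
    ∃ x ∈ L₁ ⊔ L₂, orderOf x = 2 ∧ x ≠ j ∧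
      ∀ y ∈ L₁ ⊔ L₂, orderOf y = 2 → y = j ∨ ∃ g ∈ L₁ ⊔ L₂, g * x * g⁻¹ = y := by
  have hj1 : j ∈ L₁ ⊓ L₂ := hm ▸ mem_zpowers j
  obtain ⟨⟨a, ha, ha2⟩, h1, h2⟩ := aux hF₁ e₁ hj hj1.1
  obtain ⟨⟨b, hb, hb2⟩, h3, h4⟩ := aux hF₂ e₂ hj hj1.2
  have hz : ∀ x ∈ zpowers j, x = 1 ∨ x = j := fun x hx => by
    obtain ⟨k, rfl⟩ := mem_zpowers_iff.1 hx
    obtain ⟨k, rfl | rfl⟩ := Int.even_or_odd' k
    · left; rw [zpow_mul, zpow_two, mul_self_of_orderOf hj, one_zpow]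
    · right; rw [zpow_add, zpow_mul, zpow_two, mul_self_of_orderOf hj, one_zpow, one_mul, zpow_one]
  have hab : a * b ∉ zpowers j := fun h => by
    have h5 : a ∈ zpowers j := hm ▸ ⟨ha, (mul_mem_cancel_right hb).1 (hm.ge h).2⟩
    rcases hz a h5 with rfl | rfl
    · exact ne_one_of_orderOf hj (by rw [← ha2, one_mul])
    · exact ne_one_of_orderOf hj (ha2.symm.trans (mul_self_of_orderOf hj))
  have hsq : ∀ x ∈ L₁, ∀ y ∈ L₂, x * y * (x * y) = x * x * (y * y) := fun x hx y hy => by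
    rw [mul_assoc, ← mul_assoc y, ← hc x hx y hy]; group
  refine ⟨a * b, mul_mem_sup ha hb, orderOf_eq_two (by
    rw [hsq a ha b hb, ha2, hb2, mul_self_of_orderOf hj]) fun e => hab (e ▸ one_mem _),
    fun e => hab (e ▸ mem_zpowers _), fun y hy hy2 => ?_⟩
  obtain ⟨c, hc', d, hd, rfl⟩ : ∃ c ∈ L₁, ∃ d ∈ L₂, c * d = y := by
    have : y ∈ ((L₁ ⊔ L₂ : Subgroup G) : Set G) := hy
    rw [coe_mul_of_left_le_normalizer_right L₁ L₂ fun x hx =>
      centralizer_le_normalizer _ fun y hy => (hc x hx y hy).symm] at this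
    exact this
  have h5 := mul_self_of_orderOf hy2
  rw [hsq c hc' d hd] at h5
  have h6 : c * c ∈ zpowers j := hm ▸ ⟨mul_mem hc' hc', by
    rw [eq_inv_of_mul_eq_one_left h5]; exact L₂.inv_mem (mul_mem hd hd)⟩
  rcases hz _ h6 with h7 | h7
  · rw [h7, one_mul] at h5
    exact Or.inl ((hz _ (mul_mem (h1 c hc' h7) (h3 d hd h5))).resolve_left (ne_one_of_orderOf hy2))
  · have h8 : d * d = j := by
      rw [h7] at h5
      rw [← inv_eq_of_mul_eq_one_right h5, inv_eq_of_mul_eq_one_right (mul_self_of_orderOf hj)]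
    obtain ⟨g, hg, h9⟩ := h2 a ha c hc' ha2 h7
    obtain ⟨k, hk, h10⟩ := h4 b hb d hd hb2 h8
    refine Or.inr ⟨g * k, mul_mem_sup hg hk, ?_⟩
    rw [← h9, ← h10]
    calc _ = g * (k * a) * b * k⁻¹ * g⁻¹ := by group
      _ = g * a * ((k * b * k⁻¹) * g⁻¹) := by rw [← hc a ha k hk]; group
      _ = _ := by rw [← hc _ (inv_mem hg) _ (mul_mem (mul_mem hk hb) (inv_mem hk))]; group

end Cfsg.Agent.S3209
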