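import Cfsg.Statements.S3210
import Mathlib
import Cfsg.Agent.Lib.Perm.Dick7
import Cfsg.Agent.Lib.Transfer.Invol
import Cfsg.Agent.S3209

set_option autoImplicit false
open Cfsg

namespace Cfsg.Agent.S3210

open Cfsg.Agent.Perm.GL2 Subgroup Cfsg.Agent.Transfer

theorem aux0 {F : Type*} [Field F] [Fintype F] (hF : Odd (Fintype.card F)) {M N : Subgroup (SL2 F)}
    [hM : M.Normal] [hN : N.Normal] (h : ∀ m ∈ M, ∀ n ∈ N, IsScal ((n * m * n⁻¹ * m⁻¹ : SL2 F) : M2 F))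
    (hp : ringChar F ∣ Nat.card M) : ∀ n ∈ N, IsScal (n : M2 F) := by
  have h2 := two_ne_zero_of_odd hF
  haveI : Fact (ringChar F).Prime := ⟨CharP.char_is_prime F _⟩
  have hp2 := ringChar_ne_two h2
  have hodd : Odd (ringChar F) := (Fact.out : (ringChar F).Prime).odd_of_ne_two hp2
  obtain ⟨u, hu⟩ := exists_prime_orderOf_dvd_card' (G := M) _ hp
  rw [← orderOf_coe] at hu
  obtain ⟨-, h3, h4⟩ := not_dvd_qq (F := F) (p := ringChar F)
  rcases classify_reg (u : SL2 F) with h5 | h5 | ⟨v, h5, h6⟩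
  · exact (hp2 ((Nat.prime_dvd_prime_iff_eq Fact.out Nat.prime_two).1 (hu ▸ orderOf_dvd_of_scal h5))).elim
  · have h6 : orderOf (u : SL2 F) ∣ Nat.card (cent (u : SL2 F)) :=
      (cent (u : SL2 F)).orderOf_dvd_natCard (mem_cent.2 rfl)
    rw [hu] at h6
    rcases h5.card_cent with h7 | h7 <;> rw [h7] at h6 <;> contradiction
  · obtain ⟨c, rfl⟩ := isConj_iff.1 h5
    have hv := hM.conj_mem _ u.2 c
    have hv' : orderOf (c * u * c⁻¹ : SL2 F) = ringChar F := by rw [orderOf_conj, hu]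
    generalize (c * u * c⁻¹ : SL2 F) = v at *
    intro n hn
    by_contra h7
    obtain ⟨x, hx⟩ := exists_conj_ne10 h7
    refine hx (h6.mem_cent_SL.1 (mem_cent.2 ?_)).1
    rcases isScal_SL_iff.1 (h v hv _ (hN.conj_mem _ hn x)) with h8 | h8
    · rwa [mul_inv_eq_one, mul_inv_eq_iff_eq_mul] at h8
    · rw [mul_inv_eq_iff_eq_mul] at h8
      have h9 := congrArg (· ^ ringChar F) h8
      simp only [conj_pow, neg_mul, one_mul, hodd.neg_pow] at h9
      rw [← hv', pow_orderOf_eq_one] at h9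
      exact (neg_one_ne_one_SL h2 (by simpa using h9.symm)).elim

theorem aux1 {F : Type*} [Field F] [Fintype F] (hF : Odd (Fintype.card F)) {M N : Subgroup (SL2 F)}
    [hM : M.Normal] [hN : N.Normal] (h : ∀ m ∈ M, ∀ n ∈ N, IsScal ((n * m * n⁻¹ * m⁻¹ : SL2 F) : M2 F))
    (ht : M ⊔ N = ⊤) : (∀ n ∈ M, IsScal (n : M2 F)) ∨ ∀ n ∈ N, IsScal (n : M2 F) := by
  haveI : Fact (ringChar F).Prime := ⟨CharP.char_is_prime F _⟩
  have h1 : ringChar F ∣ Nat.card N * N.index := by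
    rw [card_mul_index, card_SL2, mul_assoc]
    exact (not_dvd_qq (F := F)).1.mul_right _
  rcases (Nat.Prime.dvd_mul Fact.out).1 h1 with h2 | h2
  · refine Or.inl (aux0 hF (fun n hn m hm => ?_) h2)
    have := isScal_iff_center_SL.1 (h m hm n hn)
    exact isScal_iff_center_SL.2 (by simpa [mul_assoc] using inv_mem this)
  · rw [← relIndex_top_right, ← ht, relIndex_sup_right] at h2
    exact Or.inr (aux0 hF h (h2.trans (relIndex_dvd_card _ _)))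

theorem dec {G : Type*} [Group G] {L₁ L₂ : Subgroup G} (hc : ∀ x ∈ L₁, ∀ y ∈ L₂, x * y = y * x) {y : G}
    (hy : y ∈ L₁ ⊔ L₂) : ∃ c ∈ L₁, ∃ d ∈ L₂, c * d = y := by
  have : y ∈ ((L₁ ⊔ L₂ : Subgroup G) : Set G) := hy
  rw [coe_mul_of_left_le_normalizer_right L₁ L₂ fun x hx =>
    centralizer_le_normalizer _ fun y hy => (hc x hx y hy).symm] at this
  exact this

theorem aux2 {G : Type*} [Group G] [Finite G] {F : Type*} [Field F] [Fintype F]
    (hF : Odd (Fintype.card F)) {L₁ L₂ A B : Subgroup G} (e : L₁ ≃* SL2 F)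
    (hc : ∀ x ∈ L₁, ∀ y ∈ L₂, x * y = y * x) {j : G} (hj : orderOf j = 2) (hm : L₁ ⊓ L₂ = zpowers j)
    (hc' : ∀ x ∈ A, ∀ y ∈ B, x * y = y * x) (hs : A ⊔ B = L₁ ⊔ L₂) : A ≤ L₂ ∨ B ≤ L₂ := by
  have hj1 : j ∈ L₁ ⊓ L₂ := hm ▸ mem_zpowers j
  let P : Subgroup G → Subgroup L₁ := fun A =>
    { carrier := {x | ∃ y ∈ L₂, (x : G) * y ∈ A}
      one_mem' := ⟨1, one_mem _, by simp⟩
      mul_mem' := by
        rintro a b ⟨y, hy, h1⟩ ⟨z, hz, h2⟩
        refine ⟨y * z, mul_mem hy hz, ?_⟩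
        have := mul_mem h1 h2
        rwa [mul_assoc, ← mul_assoc y, ← hc b b.2 y hy, mul_assoc, ← mul_assoc] at this
      inv_mem' := by
        rintro a ⟨y, hy, h1⟩
        refine ⟨y⁻¹, inv_mem hy, ?_⟩
        have := inv_mem h1
        rwa [hc a a.2 y hy, mul_inv_rev] at this }
  have hn : ∀ A B : Subgroup G, (∀ x ∈ A, ∀ y ∈ B, x * y = y * x) → A ⊔ B = L₁ ⊔ L₂ →
      ((P A).map e.toMonoidHom).Normal := by
    intro A B h1 h2
    refine Normal.map ⟨?_⟩ _ e.surjective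
    rintro a ⟨y, hy, h3⟩ g
    refine ⟨y, hy, ?_⟩
    obtain ⟨c, hc1, d, hd, h4⟩ := dec h1 (h2.ge (mem_sup_left g.2))
    have : ((g * a * g⁻¹ : L₁) : G) * y = c * (a * y) * c⁻¹ := by
      calc _ = (g : G) * a * ((g : G)⁻¹ * y) := by simp [mul_assoc]
        _ = (g : G) * (a * y) * (g : G)⁻¹ := by rw [hc _ (inv_mem g.2) y hy]; group
        _ = c * (d * (a * y)) * d⁻¹ * c⁻¹ := by rw [← h4]; group
        _ = _ := by rw [← h1 _ h3 d hd]; group
    rw [this]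
    exact mul_mem (mul_mem hc1 h3) (inv_mem hc1)
  have hsc : ∀ x : L₁, IsScal (e x : M2 F) ↔ (x : G) ∈ L₂ := fun x => by
    constructor
    · intro h
      refine (hm.ge ((S3209.aux hF e hj hj1.1).2.1 x x.2 ?_)).2
      have : x * x = 1 := e.injective (by rcases isScal_SL_iff.1 h with h | h <;> simp [h])
      exact congrArg Subtype.val this
    · intro h
      refine isScal_iff_center_SL.2 (mem_center_iff.2 fun g => ?_)
      obtain ⟨g, rfl⟩ := e.surjective g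
      rw [← map_mul, ← map_mul]; congr 1
      exact Subtype.ext (hc g g.2 x h)
  have hle : ∀ A : Subgroup G, A ≤ L₁ ⊔ L₂ → (∀ n ∈ (P A).map e.toMonoidHom, IsScal (n : M2 F)) →
      A ≤ L₂ := by
    intro A h1 h2 a ha
    obtain ⟨c, hc1, d, hd, rfl⟩ := dec hc (h1 ha)
    exact mul_mem ((hsc ⟨c, hc1⟩).1 (h2 _ ⟨⟨c, hc1⟩, ⟨d, hd, ha⟩, rfl⟩)) hd
  haveI := hn A B hc' hs
  haveI := hn B A (fun x hx y hy => (hc' y hy x hx).symm) (by rw [sup_comm, hs])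
  refine (aux1 hF (M := (P A).map e.toMonoidHom) (N := (P B).map e.toMonoidHom) ?_ ?_).imp
    (hle A (le_sup_left.trans hs.le)) (hle B (le_sup_right.trans hs.le))
  · rintro _ ⟨a, ⟨y, hy, h1⟩, rfl⟩ _ ⟨b, ⟨z, hz, h2⟩, rfl⟩
    simp only [MulEquiv.coe_toMonoidHom, ← map_inv, ← map_mul]
    rw [hsc]
    have h3 := hc' _ h1 _ h2
    have h4 : (a : G) * b * (y * z) = b * a * (z * y) := by
      calc _ = (a : G) * (b * y) * z := by group
        _ = (b : G) * (z * a) * y := by rw [hc b b.2 y hy, ← mul_assoc, mul_assoc _ _ z, h3]; group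
        _ = _ := by rw [← hc a a.2 z hz]; group
    have h5 : ((b * a * b⁻¹ * a⁻¹ : L₁) : G) = (a * b) * ((y * z) * (z * y)⁻¹) * ((a : G) * b)⁻¹ := by
      rw [← mul_assoc, h4]; simp [mul_assoc]
    have h6 := mul_mem (mul_mem hy hz) (inv_mem (mul_mem hz hy))
    rw [h5, hc _ (mul_mem a.2 b.2) _ h6, mul_inv_cancel_right]
    exact h6
  · rw [← Subgroup.map_sup, eq_top_iff]
    intro x _
    obtain ⟨x, rfl⟩ := e.surjective x
    refine mem_map_of_mem _ ?_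
    obtain ⟨a, ha, b, hb, h1⟩ := dec hc' (hs.ge (mem_sup_left x.2))
    obtain ⟨a₁, ha₁, a₂, ha₂, rfl⟩ := dec hc (hs.le (mem_sup_left ha))
    obtain ⟨b₁, hb₁, b₂, hb₂, rfl⟩ := dec hc (hs.le (mem_sup_right hb))
    have h2 : x = ⟨a₁, ha₁⟩ * (⟨a₁, ha₁⟩⁻¹ * x) := by group
    rw [h2]
    refine mul_mem_sup ⟨a₂, ha₂, ha⟩ ⟨a₂⁻¹, inv_mem ha₂, ?_⟩
    have : ((⟨a₁, ha₁⟩⁻¹ * x : L₁) : G) * a₂⁻¹ = b₁ * b₂ := by
      rw [hc _ (Subtype.prop _) _ (inv_mem ha₂)]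
      simp [← h1, mul_assoc]
    rwa [this]

/-- Let G be a finite group with subgroups L₁ ≅ SL₂(q₁) and L₂ ≅ SL₂(q₂), q₁ and q₂ odd prime powers, which commute elementwise and meet in ⟨j⟩ for an involution j, and suppose L₁L₂ has index 2 in C_G(j). Then every element n of C_G(j) outside L₁L₂ either normalizes both L₁ and L₂, or conjugates L₁ onto L₂; in the second case q₁ = q₂ and there is an element n′ of C_G(j) outside L₁L₂ conjugating L₁ onto L₂ with n′² ∈ ⟨j⟩. -/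
theorem result {G : Type*} [Group G] [Finite G]
    {F₁ : Type*} [Field F₁] [Fintype F₁] {F₂ : Type*} [Field F₂] [Fintype F₂]
    (hF₁ : Odd (Fintype.card F₁)) (hF₂ : Odd (Fintype.card F₂)) (L₁ L₂ : Subgroup G)
    (e₁ : ↥L₁ ≃* Matrix.SpecialLinearGroup (Fin 2) F₁) (e₂ : ↥L₂ ≃* Matrix.SpecialLinearGroup (Fin 2) F₂)
    (hc : ∀ x ∈ L₁, ∀ y ∈ L₂, x * y = y * x) (j : G) (hj : orderOf j = 2) (hm : L₁ ⊓ L₂ = Subgroup.zpowers j)
    (hle : L₁ ⊔ L₂ ≤ Subgroup.centralizer ({j} : Set G)) (hi : (L₁ ⊔ L₂).relIndex (Subgroup.centralizer ({j} : Set G)) = 2) (n : G) (hn : n ∈ Subgroup.centralizer ({j} : Set G)) (hn' : n ∉ L₁ ⊔ L₂) :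
    (L₁.map (MulAut.conj n).toMonoidHom = L₁ ∧ L₂.map (MulAut.conj n).toMonoidHom = L₂) ∨
      (L₁.map (MulAut.conj n).toMonoidHom = L₂ ∧ Fintype.card F₁ = Fintype.card F₂ ∧
        ∃ n' ∈ Subgroup.centralizer ({j} : Set G), n' ∉ L₁ ⊔ L₂ ∧ L₁.map (MulAut.conj n').toMonoidHom = L₂ ∧ n' ^ 2 ∈ Subgroup.zpowers j) := by
  change (cj n L₁ = L₁ ∧ cj n L₂ = L₂) ∨ (cj n L₁ = L₂ ∧ _ ∧ ∃ n' ∈ _, _ ∧ cj n' L₁ = L₂ ∧ _)
  have hj1 : j ∈ L₁ ⊓ L₂ := hm ▸ mem_zpowers j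
  have hnn : n ∈ normalizer ((L₁ ⊔ L₂ : Subgroup G) : Set G) :=
    (normal_subgroupOf_iff_le_normalizer hle).1 (normal_of_index_eq_two hi) hn
  have hs : cj n L₁ ⊔ cj n L₂ = L₁ ⊔ L₂ := by rw [← cj_sup, cj_eq_of_mem_normalizer hnn]
  have hc' : ∀ x ∈ cj n L₁, ∀ y ∈ cj n L₂, x * y = y * x := fun x hx y hy => by
    have := hc _ (mem_cj.1 hx) _ (mem_cj.1 hy)
    calc _ = n * (n⁻¹ * x * n * (n⁻¹ * y * n)) * n⁻¹ := by group
      _ = _ := by rw [this]; group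
  have h1 := aux2 hF₁ e₁ hc hj hm hc' hs
  have h2 := aux2 hF₂ e₂ (fun x hx y hy => (hc y hy x hx).symm) hj (inf_comm L₁ L₂ ▸ hm) hc'
    (hs.trans (sup_comm _ _))
  have hk : ∀ L : Subgroup G, Nat.card (cj n L) = Nat.card L := fun L =>
    (Nat.card_congr (cjEquiv n L).toEquiv).symm
  have h3 : ∀ {L : Subgroup G} {q : ℕ}, 1 < q → Nat.card L = q * (q + 1) * (q - 1) →
      cj n L ≤ L₁ → cj n L ≤ L₂ → False := by
    intro L q hq e h4 h5
    have h6 := card_le_of_le (hm ▸ le_inf h4 h5 : cj n L ≤ zpowers j)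
    rw [hk, Nat.card_zpowers, hj, e] at h6
    have := Nat.mul_le_mul (Nat.mul_le_mul (show 2 ≤ q by omega) (show 3 ≤ q + 1 by omega))
      (show 1 ≤ q - 1 by omega)
    omega
  rcases h1 with h1 | h1 <;> rcases h2 with h2 | h2
  · exact (h3 Fintype.one_lt_card ((Nat.card_congr e₁.toEquiv).trans card_SL2) h2 h1).elim
  · have h4 := card_le_of_le h1
    have h5 := card_le_of_le h2
    rw [hk] at h4 h5
    have h6 : cj n L₁ = L₂ := eq_of_le_of_card_ge h1 (by rw [hk]; exact h5)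
    refine Or.inr ⟨h6, ?_, ?_⟩
    · have h7 := le_antisymm h4 h5
      rw [Nat.card_congr e₁.toEquiv, Nat.card_congr e₂.toEquiv, card_SL2, card_SL2] at h7
      exact oP_eq_iff Fintype.one_lt_card h7
    · have h7 : n * n ∈ L₁ ⊔ L₂ := by
        have := (mul_mem_iff_of_index_two hi (a := ⟨n, hn⟩) (b := ⟨n, hn⟩)).2 Iff.rfl
        exact this
      obtain ⟨a, ha, b, hb, h8⟩ := dec hc h7
      have ha' : n * a * n⁻¹ ∈ L₂ := h1 (mem_cj.2 (by simpa [mul_assoc] using ha))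
      have hb' : n * b * n⁻¹ ∈ L₁ := h2 (mem_cj.2 (by simpa [mul_assoc] using hb))
      refine ⟨n * a⁻¹, mul_mem hn (inv_mem (hle (mem_sup_left ha))),
        fun h => hn' ((mul_mem_cancel_right (inv_mem (mem_sup_left ha))).1 h),
        by rw [← cj_cj, cj_eq_of_mem (inv_mem ha), h6], ?_⟩
      have h9 : (n * a⁻¹) ^ 2 = (n * a * n⁻¹)⁻¹ * b := by
        calc _ = (n * a * n⁻¹)⁻¹ * (n * n) * a⁻¹ := by rw [sq]; group
          _ = _ := by rw [← h8, hc a ha b hb]; group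
      have h10 : (n * a⁻¹) ^ 2 = (n * b * n⁻¹) * a⁻¹ := by
        calc _ = n * (a⁻¹ * (n * n)) * n⁻¹ * a⁻¹ := by rw [sq]; group
          _ = _ := by rw [← h8]; group
      rw [← hm]
      exact mem_inf.2 ⟨by rw [h10]; exact mul_mem hb' (inv_mem ha), by rw [h9]; exact mul_mem (inv_mem ha') hb⟩
  · exact Or.inl ⟨eq_of_le_of_card_ge h2 (hk _).ge, eq_of_le_of_card_ge h1 (hk _).ge⟩
  · exact (h3 Fintype.one_lt_card ((Nat.card_congr e₂.toEquiv).trans card_SL2) h2 h1).elim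

end Cfsg.Agent.S3210
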