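import Cfsg.Statements.S3211
import Cfsg.Agent.Lib.Ez.A5
import Cfsg.Agent.Lib.Transfer.BS

set_option autoImplicit false
open Cfsg

namespace Cfsg.Agent.S3211

open Subgroup Cfsg.Agent.Comp

/-- Let G be a finite group with subgroups L₁ ≅ SL₂(q₁) and L₂ ≅ SL₂(q₂), q₁ and q₂ odd prime powers, which commute elementwise and meet in ⟨j⟩ for an involution j, and suppose L₁L₂ has index 2 in C_G(j). If some n ∈ C_G(j) with n² = j interchanges L₁ and L₂ under conjugation (so that C_G(j) = L₁L₂⟨n⟩), then G = C_G(j)O(G). -/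
theorem result {G : Type*} [Group G] [Finite G]
    {F₁ : Type*} [Field F₁] [Fintype F₁] {F₂ : Type*} [Field F₂] [Fintype F₂]
    (hF₁ : Odd (Fintype.card F₁)) (hF₂ : Odd (Fintype.card F₂)) (L₁ L₂ : Subgroup G)
    (e₁ : ↥L₁ ≃* Matrix.SpecialLinearGroup (Fin 2) F₁) (e₂ : ↥L₂ ≃* Matrix.SpecialLinearGroup (Fin 2) F₂)
    (hc : ∀ x ∈ L₁, ∀ y ∈ L₂, x * y = y * x) (j : G) (hj : orderOf j = 2) (hm : L₁ ⊓ L₂ = Subgroup.zpowers j)
    (hle : L₁ ⊔ L₂ ≤ Subgroup.centralizer ({j} : Set G)) (hi : (L₁ ⊔ L₂).relIndex (Subgroup.centralizer ({j} : Set G)) = 2) (n : G) (hn : n ∈ Subgroup.centralizer ({j} : Set G))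
    (hn2 : n ^ 2 = j) (hswap : L₁.map (MulAut.conj n).toMonoidHom = L₂) :
    Subgroup.centralizer ({j} : Set G) ⊔ Cfsg.oddCore G = ⊤ := by
  have h2 : (2 : F₁) ≠ 0 := Ring.two_ne_zero fun e => by
    have := FiniteField.even_card_of_char_two e
    rw [Nat.odd_iff] at hF₁; omega
  have hjL : j ∈ L₁ ⊓ L₂ := hm ▸ mem_zpowers j
  have hs := Ez.slj_of_equiv h2 e₁ hj hjL.1
  have h1 : ∀ d ∈ L₁, MulAut.conj n d ∈ L₂ := fun d hd => hswap ▸ ⟨d, hd, rfl⟩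
  have hz : ∀ c ∈ L₁, c ∈ L₂ → c = 1 ∨ c = j := fun c a b =>
    (Transfer.mem_zpowers_iff_of_sq (Ez.mul_self_of_ord hj)).1 (hm ▸ mem_inf.2 ⟨a, b⟩)
  have hN : L₁ ≤ normalizer (L₂ : Set G) :=
    le_normalizer_of_le_centralizer fun x hx y hy => (hc x hx y hy).symm
  have hd : ∀ w ∈ L₁ ⊔ L₂, ∃ c ∈ L₁, ∃ d ∈ L₁, w = c * MulAut.conj n d := fun w hw => by
    obtain ⟨a, ha, b, hb, rfl⟩ := (mem_sup_of_le_normalizer hN).1 hw
    obtain ⟨d, hd, rfl⟩ := hswap.ge hb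
    exact ⟨a, ha, d, hd, rfl⟩
  have hnL : n ∉ L₁ ⊔ L₂ := fun h => by
    obtain ⟨x, hx, h3⟩ := hs.ex
    have h4 : L₁ ⊔ L₂ ≤ normalizer (L₁ : Set G) := sup_le le_normalizer
      (le_normalizer_of_le_centralizer fun y hy x hx => hc x hx y hy)
    rcases hz _ (conj_mem_of_mem_normalizer (h4 h) hx) (h1 x hx) with a | a
    · rw [conj_eq_one_iff.1 a, one_mul] at h3; exact Ez.ne_one_of_ord hj h3.symm
    · have h5 := congrArg (fun y => n * y * n⁻¹) h3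
      simp only [← conj_mul, a, Ez.mul_self_of_ord hj] at h5
      exact Ez.ne_one_of_ord hj (conj_eq_one_iff.1 h5.symm)
  refine Transfer.zstar_sup (Ez.SW.isolated (n := n) ⟨hs, hj, hjL.1, by rw [← pow_two, hn2],
    fun c a d b => hc c a _ (h1 d b), fun c a d b e => hz c a (e ▸ h1 d b), fun w hw => ?_⟩)
  by_cases h : w ∈ L₁ ⊔ L₂
  · obtain ⟨c, a, d, b, e⟩ := hd w h
    exact ⟨c, a, d, b, .inl e⟩
  · have h3 := (mul_mem_iff_of_index_two hi (a := ⟨w, Ez.mem_C1.2 hw⟩) (b := ⟨n⁻¹, inv_mem hn⟩)).2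
      (by simp [mem_subgroupOf, h, hnL])
    obtain ⟨c, a, d, b, e⟩ := hd _ h3
    exact ⟨c, a, d, b, .inr (by rw [← e]; simp)⟩

end Cfsg.Agent.S3211
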