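import Cfsg.Statements.S3213
import Mathlib
import Cfsg.Agent.Lib.Perm.PGr

set_option autoImplicit false
open Cfsg

namespace Cfsg.Agent.S3213

open Module Cfsg.Agent.Perm.PGr Matrix

theorem tt : ∀ x : SpecialLinearGroup (Fin 2) (ZMod 5), x * x * x = 1 → x ≠ 1 →
    ∃ h : SpecialLinearGroup (Fin 2) (ZMod 5), ((x * (h * x * h⁻¹)) ^ 2) ^ 5 = 1 ∧ (x * (h * x * h⁻¹)) ^ 2 ≠ 1 := by
  decide +kernel

theorem le_map {F V : Type*} [Field F] [AddCommGroup V] [Module F V] [FiniteDimensional F V] (N : End F V)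
    (U : Submodule F V) : finrank F U ≤ finrank F (U.map N) + finrank F (LinearMap.ker N) := by
  rw [← (N.domRestrict U).finrank_range_add_finrank_ker, LinearMap.range_domRestrict, LinearMap.ker_domRestrict,
    ← Submodule.finrank_map_subtype_eq, Submodule.map_comap_subtype]
  exact Nat.add_le_add_left (Submodule.finrank_mono inf_le_right) _

theorem dim2 {F V G : Type*} [Field F] [Fintype F] (hF : Fintype.card F = 3) [AddCommGroup V] [Module F V]
    [FiniteDimensional F V] (hV : finrank F V = 4) [Group G] (ρ : G →* End F V) (hρ : Function.Injective ρ) {x h : G}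
    (x1 : x ≠ 1) (n3 : (ρ x - 1) ^ 3 = 0) (h1 : ((x * (h * x * h⁻¹)) ^ 2) ^ 5 = 1) (h2 : (x * (h * x * h⁻¹)) ^ 2 ≠ 1) :
    finrank F (LinearMap.ker (ρ x - 1)) = 2 := by
  have a1 := le_map (ρ x - 1) ⊤
  have a2 := le_map (ρ x - 1) (Submodule.map (ρ x - 1) ⊤)
  have a3 := le_map (ρ x - 1) (Submodule.map (ρ x - 1) (Submodule.map (ρ x - 1) ⊤))
  have : Submodule.map (ρ x - 1) (Submodule.map (ρ x - 1) (Submodule.map (ρ x - 1) ⊤)) = ⊥ := by
    rw [← Submodule.map_comp, ← Submodule.map_comp, ← End.mul_eq_comp, ← End.mul_eq_comp, ← pow_three', n3,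
      Submodule.map_zero]
  rw [this, finrank_bot] at a3
  rw [finrank_top] at a1
  by_contra h3
  have b1 := le_map (ρ h) (LinearMap.ker (ρ x - 1))
  rw [LinearMap.ker_eq_bot.2 ((End.isUnit_iff _).1 ((Group.isUnit h).map ρ)).1, finrank_bot] at b1
  have b2 := Submodule.finrank_sup_add_finrank_inf_eq (LinearMap.ker (ρ x - 1)) ((LinearMap.ker (ρ x - 1)).map (ρ h))
  have b3 := (LinearMap.ker (ρ x - 1) ⊔ (LinearMap.ker (ρ x - 1)).map (ρ h)).finrank_le
  have b4 := Submodule.finrank_mono (show LinearMap.ker (ρ x - 1) ⊓ (LinearMap.ker (ρ x - 1)).map (ρ h) ≤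
      ⊤ ⊓ LinearMap.ker (ρ ((x * (h * x * h⁻¹)) ^ 2) - 1) by
    rintro _ ⟨a, v, b, rfl⟩
    have a : ρ x (ρ h v) = ρ h v := sub_eq_zero.1 (LinearMap.mem_ker.1 a)
    have b : ρ x v = v := sub_eq_zero.1 (LinearMap.mem_ker.1 b)
    have c : ρ (x * (h * x * h⁻¹)) (ρ h v) = ρ h v := by
      rw [← End.mul_apply, ← map_mul, show x * (h * x * h⁻¹) * h = x * (h * x) by group]
      simp only [map_mul, End.mul_apply, a, b]
    exact ⟨trivial, LinearMap.mem_ker.2 (sub_eq_zero.2 (by rw [pow_two, map_mul, End.mul_apply, c, c]; rfl))⟩)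
  have b5 := S2364.fix_dim Nat.prime_five (ρ ((x * (h * x * h⁻¹)) ^ 2)) (by rw [← map_pow, h1, map_one]) ⊤
    (fun _ _ => trivial) (by rw [hF]; decide)
  have b6 := Submodule.finrank_lt (s := ⊤ ⊓ LinearMap.ker (ρ ((x * (h * x * h⁻¹)) ^ 2) - 1)) fun e =>
    h2 (hρ (by rw [top_inf_eq, LinearMap.ker_eq_top, sub_eq_zero] at e; rw [e, map_one]))
  rw [hF, finrank_top, hV] at b5
  generalize finrank F ↥(⊤ ⊓ LinearMap.ker (ρ ((x * (h * x * h⁻¹)) ^ 2) - 1)) = j at *
  have : j = 2 ∨ j = 3 := by omega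
  rcases this with rfl | rfl <;> exact absurd b5 (by decide)

/-- Let F be the field with 3 elements and K the field with 5 elements. For every injective homomorphism φ from SL₂(K) into the symplectic group Sp₄(F) (4 × 4 matrices g with g J gᵀ = J for the standard alternating matrix J) and every element x of order 3 of SL₂(K), the vectors of F⁴ fixed by φ(x) form a 2-dimensional subspace that is totally isotropic for the alternating form defined by J. -/
theorem result {F : Type*} [Field F] [Fintype F] (hF : Fintype.card F = 3)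
    {K : Type*} [Field K] [Fintype K] (hK : Fintype.card K = 5)
    (φ : Matrix.SpecialLinearGroup (Fin 2) K →* ↥(Matrix.symplecticGroup (Fin 2) F)) (hφ : Function.Injective φ)
    (x : Matrix.SpecialLinearGroup (Fin 2) K) (hx : orderOf x = 3) :
    Module.finrank F ↥(LinearMap.ker (Matrix.toLin' ((φ x : Matrix (Fin 2 ⊕ Fin 2) (Fin 2 ⊕ Fin 2) F)) - LinearMap.id)) = 2 ∧
      ∀ v w : Fin 2 ⊕ Fin 2 → F, (φ x : Matrix (Fin 2 ⊕ Fin 2) (Fin 2 ⊕ Fin 2) F).mulVec v = v →
        (φ x : Matrix (Fin 2 ⊕ Fin 2) (Fin 2 ⊕ Fin 2) F).mulVec w = w →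
          dotProduct v ((Matrix.J (Fin 2) F).mulVec w) = 0 := by
  classical
  haveI := Fact.mk Nat.prime_five
  haveI := Fact.mk Nat.prime_three
  haveI : CharP F 3 := charP_of_card_eq_prime hF
  let e := FiniteField.ringEquivOfCardEq (K := ZMod 5) (K' := K) (by simp [hK])
  let ψ := SpecialLinearGroup.map (n := Fin 2) e.toRingHom
  have inj : Function.Injective ψ := fun a b h => Subtype.ext (by
    ext i j; exact e.injective (congrFun (congrFun (congrArg Subtype.val h) i) j))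
  obtain ⟨y, rfl⟩ : ∃ y, ψ y = x := ⟨SpecialLinearGroup.map e.symm.toRingHom x, Subtype.ext (by
    ext i j; exact e.apply_symm_apply _)⟩
  rw [orderOf_injective _ inj] at hx
  have y1 : y ≠ 1 := fun h => by rw [h, orderOf_one] at hx; omega
  have y3 := hx ▸ pow_orderOf_eq_one y
  obtain ⟨h, h1, h2⟩ := tt y (by rw [← pow_three', y3]) y1
  let ρ : _ →* End F (Fin 2 ⊕ Fin 2 → F) := (toLinAlgEquiv'.toMonoidHom.comp (Submonoid.subtype _)).comp (φ.comp ψ)
  have hρ : Function.Injective ρ := (toLinAlgEquiv'.injective.comp Subtype.val_injective).comp (hφ.comp inj)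
  haveI : CharP (End F (Fin 2 ⊕ Fin 2 → F)) 3 := charP_of_injective_algebraMap (algebraMap F _).injective 3
  have n3 : (ρ y - 1) ^ 3 = 0 := by
    rw [sub_pow_char_of_commute _ (Commute.one_right _), ← map_pow, y3, map_one, one_pow, sub_self]
  have d := dim2 hF (by simp) ρ hρ y1 n3 h1 h2
  refine ⟨d, fun v w hv hw => by_contra fun h0 => ?_⟩
  have D := pos_D ⟨3, n3⟩ fun h => y1 (hρ ((sub_eq_zero.1 h).trans (map_one _).symm))
  obtain ⟨⟨_, ⟨u, rfl⟩, d2⟩, d0⟩ := finrank_pos_iff_exists_ne_zero.1 D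
  set X := (φ (ψ y)).1
  have k : ∀ w, X *ᵥ w = w → (ρ y - 1) u ⬝ᵥ J (Fin 2) F *ᵥ w = 0 := fun w hw => by
    change (X *ᵥ u - u) ⬝ᵥ _ = 0
    conv_lhs => rw [sub_dotProduct, ← vecMul_transpose, ← dotProduct_mulVec]; enter [1]; rw [← hw]
    rw [mulVec_mulVec, mulVec_mulVec, SymplecticGroup.mem_iff'.1 (φ (ψ y)).2, sub_self]
  have alt : ∀ a b : Fin 2 ⊕ Fin 2 → F, a ⬝ᵥ J (Fin 2) F *ᵥ b = -(b ⬝ᵥ J (Fin 2) F *ᵥ a) := fun a b => by
    rw [dotProduct_mulVec, ← mulVec_transpose, J_transpose, neg_mulVec, neg_dotProduct, dotProduct_comm]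
  have alt0 : ∀ a : Fin 2 ⊕ Fin 2 → F, a ⬝ᵥ J (Fin 2) F *ᵥ a = 0 := fun a =>
    (mul_eq_zero.1 (show (2 : F) * _ = 0 by linear_combination alt a a)).resolve_left
      (fun h => absurd ((CharP.cast_eq_zero_iff F 3 2).1 (by exact_mod_cast h)) (by decide))
  have li : LinearIndependent F (![⟨_, d2⟩, ⟨v, LinearMap.mem_ker.2 (sub_eq_zero.2 hv)⟩,
      ⟨w, LinearMap.mem_ker.2 (sub_eq_zero.2 hw)⟩] : Fin 3 → LinearMap.ker (ρ y - 1)) := by
    refine Fintype.linearIndependent_iff.2 fun g hg => ?_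
    replace hg : g 0 • (ρ y - 1) u + g 1 • v + g 2 • w = 0 := by
      simpa [Fin.sum_univ_three] using congrArg Subtype.val hg
    have e1 := congrArg (· ⬝ᵥ J (Fin 2) F *ᵥ w) hg
    have e2 := congrArg (· ⬝ᵥ J (Fin 2) F *ᵥ v) hg
    simp only [add_dotProduct, smul_dotProduct, k w hw, k v hv, alt0, alt w v, zero_dotProduct, smul_eq_mul,
      mul_zero, zero_add, add_zero, mul_eq_zero, neg_eq_zero, h0, or_false] at e1 e2
    rw [e1, e2, zero_smul, zero_smul, add_zero, add_zero, smul_eq_zero] at hg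
    intro i; fin_cases i
    exacts [hg.resolve_right fun h => d0 (Subtype.ext h), e1, e2]
  have := li.fintype_card_le_finrank
  rw [d] at this; simp at this

end Cfsg.Agent.S3213
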