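import Cfsg.Statements.S3215
import Cfsg.Agent.Lib.Block.Syl1
import Cfsg.Agent.Lib.Solv.Cores
import Cfsg.Agent.Lib.Solv.Coprime
import Cfsg.Agent.Lib.Solv.Frob2
import Cfsg.Agent.Lib.Solv.Fact
import Cfsg.Agent.Lib.Solv.Hall
import Cfsg.Agent.Lib.Transfer.Residual

set_option autoImplicit false
open Cfsg

namespace Cfsg.Agent.S3215

open Cfsg.Agent.Blk
open Cfsg.Agent.Char hiding cj cj_mul cj_inv_cj cj_cj_inv
open Subgroup

/-- Let H be a finite solvable group with no nontrivial normal subgroup of odd order in which the centralizer of every involution has a normal 2-complement. Let X be a Hall 2'-subgroup of H (odd order, index a power of 2) and Y = O₂(H). Then no non-identity element of X commutes with a non-identity element of Y (so for X ≠ 1 the group XY is a Frobenius group with kernel Y), every Sylow subgroup of X is cyclic, XY is normal in H, and H/XY is a cyclic 2-group. -/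
theorem result {H : Type*} [Group H] [Finite H] (hsol : Group.IsSolvable H)
    (hO : Cfsg.oddCore H = ⊥)
    (hI : ∀ t : H, orderOf t = 2 → Cfsg.HasNormalPComplement 2 ↥(Subgroup.centralizer ({t} : Set H)))
    (X : Subgroup H) (hXodd : Odd (Nat.card X)) (hXidx : ∃ k : ℕ, X.index = 2 ^ k) :
    (∀ x ∈ X, x ≠ 1 → ∀ y ∈ Cfsg.pCore 2 H, y ≠ 1 → x * y ≠ y * x) ∧
      (∀ (p : ℕ) [Fact p.Prime] (P : Sylow p ↥X), IsCyclic ↥(P : Subgroup ↥X)) ∧
      (X ⊔ Cfsg.pCore 2 H).Normal ∧
      ∀ hN : (X ⊔ Cfsg.pCore 2 H).Normal, IsCyclic (H ⧸ (X ⊔ Cfsg.pCore 2 H)) ∧ IsPGroup 2 (H ⧸ (X ⊔ Cfsg.pCore 2 H)) := by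
  classical
  haveI := hsol
  haveI : Fact (Nat.Prime 2) := ⟨Nat.prime_two⟩
  have hYn : (pCore 2 H).Normal := inferInstance
  have hYp : IsPGroup 2 (pCore 2 H) := Solv.isPGroup_pCore 2 H
  have hCY : centralizer ((pCore 2 H : Subgroup H) : Set H) ≤ pCore 2 H := Solv.centralizer_pCore_le hO
  have hq : pCore 2 (H ⧸ pCore 2 H) = ⊥ := Solv.pCore_quotient_pCore
  generalize pCore 2 H = Y at *
  have hNY : ∀ A : Subgroup H, A ≤ normalizer (Y : Set H) := fun A => by
    rw [normalizer_eq_top]; exact le_top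
  -- an element of even order has an involution power
  have hinv : ∀ y : H, 2 ∣ orderOf y → ∃ n : ℕ, orderOf (y ^ n) = 2 := fun y hy =>
    ⟨orderOf y / 2, orderOf_pow_orderOf_div (orderOf_pos y).ne' hy⟩
  have hYo : ∀ y ∈ Y, Odd (orderOf y) → y = 1 := by
    intro y hy ho
    obtain ⟨k, hk⟩ := (IsPGroup.iff_orderOf.1 hYp) ⟨y, hy⟩
    rw [← orderOf_coe] at hk
    rcases k with _ | k
    · simpa using hk
    · exfalso
      change orderOf y = _ at hk
      rw [hk, pow_succ] at ho
      exact (Nat.not_even_iff_odd.2 ho) (even_iff_two_dvd.2 (Dvd.intro_left _ rfl))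
  -- odd elements of C(t) centralize Y ⊓ C(t)
  have hcen : ∀ t x : H, orderOf t = 2 → Odd (orderOf x) → x * t = t * x →
      x ∈ centralizer ((Y ⊓ centralizer ({t} : Set H) : Subgroup H) : Set H) := by
    intro t x ht hx hc
    have hxC : x ∈ Subgroup.centralizer ({t} : Set H) := by
      rw [mem_centralizer_singleton_iff]; exact hc
    refine Transfer.mem_centralizer_of_hasNPC (p := 2) (hI t ht) (hYp.to_inf_left) inf_le_right hxC ?_
      (Nat.coprime_two_right.2 hx)
    rw [mem_normalizer_iff]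
    intro h
    constructor
    · rintro ⟨h1, h2⟩
      have h2' : h ∈ Subgroup.centralizer ({t} : Set H) := h2
      exact ⟨hYn.conj_mem _ h1 _, (mul_mem (mul_mem hxC h2') (inv_mem hxC) : _ ∈ Subgroup.centralizer ({t} : Set H))⟩
    · rintro ⟨h1, h2⟩
      have e : h = x⁻¹ * (x * h * x⁻¹) * x⁻¹⁻¹ := by group
      have h2' : x * h * x⁻¹ ∈ Subgroup.centralizer ({t} : Set H) := h2
      have h3 : h ∈ Subgroup.centralizer ({t} : Set H) := by
        rw [e]
        exact mul_mem (mul_mem (inv_mem hxC) h2') (inv_mem (inv_mem hxC))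
      exact ⟨e ▸ hYn.conj_mem _ h1 _, h3⟩
  have h1 : ∀ x : H, Odd (orderOf x) → x ≠ 1 → ∀ y ∈ Y, y ≠ 1 → x * y ≠ y * x := by
    intro x hx hx1 y hy hy1 hc
    have h2 : 2 ∣ orderOf y := by
      by_contra h
      exact hy1 (hYo y hy (Nat.odd_iff.2 (by omega)))
    obtain ⟨n, hn⟩ := hinv y h2
    have hxt : x * y ^ n = y ^ n * x := (Commute.pow_right (show Commute x y from hc) n).eq
    have hc1 := hcen _ x hn hx hxt
    have hP : IsPGroup 2 (zpowers (y ^ n)) := IsPGroup.of_card (n := 1) (by rw [Nat.card_zpowers, hn]; rfl)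
    have := Solv.thompson_pxq (p := 2) (P := zpowers (y ^ n)) (Q := zpowers x) (U := Y) hP
      (by rw [Nat.card_zpowers]; exact Nat.coprime_two_right.2 hx) hYp
      (by
        rw [zpowers_le, mem_centralizer_iff]
        rintro _ ⟨k, rfl⟩
        exact (Commute.zpow_left (show Commute x (y ^ n) from hxt) k).eq)
      (hNY _) (hNY _)
      (by
        rintro z ⟨hz1, hz2⟩
        rw [mem_centralizer_iff]
        rintro _ ⟨k, rfl⟩
        have hz3 : z ∈ centralizer ({y ^ n} : Set H) := by
          rw [mem_centralizer_singleton_iff]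
          exact (mem_centralizer_iff.1 hz2 _ (mem_zpowers _)).symm
        have := mem_centralizer_iff.1 hc1 z ⟨hz1, hz3⟩
        exact (Commute.zpow_left (show Commute x z from this.symm) k).eq)
    exact hx1 (hYo x (hCY (this (mem_zpowers x))) hx)
  have hXo : ∀ x ∈ X, Odd (orderOf x) := fun x hx =>
    Odd.of_dvd_nat hXodd (orderOf_dvd_natCard X hx)
  have hf : ∀ x ∈ X, x ≠ 1 → Y ⊓ centralizer {x} = ⊥ := by
    intro x hx hx1
    rw [eq_bot_iff]
    rintro y ⟨hy1, hy2⟩
    by_contra hy
    exact h1 x (hXo x hx) hx1 y hy1 hy (mem_centralizer_singleton_iff.1 hy2).symm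
  have hZ : IsZGroup X := by
    by_cases hY : Y = ⊥
    · have : ∀ x : H, x = 1 := fun x => by
        have : x ∈ Y := hCY (by
          rw [mem_centralizer_iff]; intro y hy
          rw [hY] at hy
          have : y = 1 := hy
          simp [this])
        rwa [hY] at this
      haveI : Subsingleton X := ⟨fun a b => Subtype.ext ((this _).trans (this _).symm)⟩
      haveI : IsCyclic X := isCyclic_of_subsingleton
      infer_instance
    · exact Solv.isZGroup_of_fpf_of_odd (hNY X) hf hY
        (fun h => (Nat.not_even_iff_odd.2 hXodd) (even_iff_two_dvd.2 h))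
  have h3 : ∀ v a : H, orderOf v = 2 → Odd (orderOf a) → a * v = v * a → a = 1 := by
    intro v a hv ha hc
    by_contra ha1
    have hY : Y ≠ ⊥ := by
      intro hY
      have : a ∈ Y := hCY (by
          rw [mem_centralizer_iff]; intro y hy
          rw [hY] at hy
          have : y = 1 := hy
          simp [this])
      rw [hY] at this
      exact ha1 this
    have hP : IsPGroup 2 (zpowers v) := IsPGroup.of_card (n := 1) (by rw [Nat.card_zpowers, hv]; rfl)
    have hS : IsPGroup 2 (zpowers v ⊔ Y : Subgroup H) := hP.to_sup_of_normal_right hYp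
    have hne := Solv.inf_centralizer_ne_bot_of_nilpotent hS.isNilpotent le_sup_right (hNY _) hY
    obtain ⟨⟨y, hy1, hy2⟩, hy⟩ := (ne_bot_iff_exists_ne_one).1 hne
    have hy' : y ≠ 1 := fun h => hy (Subtype.ext h)
    have hy3 : y ∈ centralizer ({v} : Set H) := by
      rw [mem_centralizer_singleton_iff]
      exact (mem_centralizer_iff.1 hy2 v (mem_sup_left (mem_zpowers v))).symm
    exact h1 a ha ha1 y hy1 hy' (mem_centralizer_iff.1 (hcen v a hv ha hc) y ⟨hy1, hy3⟩).symm
  obtain ⟨k, hk⟩ := hXidx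
  -- the key: a hom to a cyclic group whose kernel lies in X ⊔ Y
  have key : ∃ g : H, ∃ W : Subgroup H, W.Normal ∧ W ≤ X ⊔ Y ∧ ∀ h : H, ∃ n : ℤ, (g ^ n)⁻¹ * h ∈ W := by
    by_cases hYt : Y = ⊤
    · exact ⟨1, ⊤, inferInstance, by rw [hYt]; exact le_sup_right, fun h => ⟨0, mem_top _⟩⟩
    set f := QuotientGroup.mk' Y with hfdef
    have hfs : Function.Surjective f := QuotientGroup.mk'_surjective Y
    have hXb : (X.map f).index ∣ 2 ^ k := hk ▸ index_map_dvd X hfs
    have hXbo : Odd (Nat.card (X.map f)) := Odd.of_dvd_nat hXodd (card_map_dvd X f)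
    have hcop : ∀ m : ℕ, Odd m → m.Coprime (X.map f).index := fun m hm =>
      Nat.Coprime.coprime_dvd_right hXb (Nat.Coprime.pow_right k (Nat.coprime_two_right.2 hm))
    have hall : ∀ K : Subgroup (H ⧸ Y), K.Normal → Odd (Nat.card K) → K ≤ X.map f := by
      intro K hK ho
      obtain ⟨g, hg⟩ := Solv.hall_le_conj (H := X.map f) (K := K) (hcop _ hXbo) (hcop _ ho)
      intro x hx
      have := hg (hK.conj_mem x hx g)
      rw [mem_pointwise_smul_iff_inv_smul_mem] at this
      simpa [mul_assoc] using this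
    have htop : (⊤ : Subgroup (H ⧸ Y)) ≠ ⊥ := by
      intro h
      apply hYt
      rw [eq_top_iff]
      intro x _
      have : f x ∈ (⊤ : Subgroup (H ⧸ Y)) := mem_top _
      rw [h, mem_bot] at this
      exact (QuotientGroup.eq_one_iff x).1 this
    obtain ⟨p, hp, N, -, hN0, hNn, -, hNp⟩ :=
      Solv.exists_normal_pgroup_of_solvable (H := (⊤ : Subgroup (H ⧸ Y))) inferInstance htop
    haveI : Fact p.Prime := ⟨hp⟩
    haveI hNN : N.Normal := normalizer_eq_top_iff.1 (top_le_iff.1 hNn)
    have hNP : IsPGroup p N := fun x => ⟨1, Subtype.ext (by simpa using hNp x x.2)⟩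
    have hp2 : p ≠ 2 := by
      rintro rfl
      exact hN0 (eq_bot_iff.2 (hq ▸ Solv.le_pCore hNP))
    have hNo : Odd (Nat.card N) := by
      obtain ⟨m, hm⟩ := IsPGroup.iff_card.1 hNP
      rw [hm]
      exact (hp.odd_of_ne_two hp2).pow
    have hNX := hall N hNN hNo
    haveI : IsZGroup (X.map f) := IsZGroup.of_surjective (f.subgroupMap_surjective X)
    have hNc : IsCyclic N := by
      have h5 : IsPGroup p (N.subgroupOf (X.map f)) := hNP.of_equiv (subgroupOfEquivOfLe hNX).symm
      have := h5.isCyclic_of_isZGroup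
      exact isCyclic_of_surjective _ (subgroupOfEquivOfLe hNX).surjective
    have hcard : Nat.card N = p := by
      obtain ⟨u, hu⟩ := IsCyclic.exists_generator (α := N)
      rw [← orderOf_eq_card_of_forall_mem_zpowers hu]
      refine orderOf_eq_prime (Subtype.ext (by simpa using hNp u u.2)) ?_
      rintro rfl
      apply hN0
      rw [eq_bot_iff]
      intro x hx
      obtain ⟨m, hm⟩ := hu ⟨x, hx⟩
      have := congrArg Subtype.val hm
      simpa using this.symm
    have hAc : IsCyclic (MulAut N) := by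
      have e := IsCyclic.mulAutMulEquiv N
      rw [hcard] at e
      haveI := ZMod.isCyclic_units_prime hp
      exact isCyclic_of_surjective _ e.symm.surjective
    let φ : (H ⧸ Y) →* MulAut N := MulAut.conjNormal
    have hker : Odd (Nat.card φ.ker) := by
      by_contra hev
      have h2 : 2 ∣ Nat.card φ.ker := even_iff_two_dvd.1 (Nat.not_odd_iff_even.1 hev)
      obtain ⟨⟨vb, hvb⟩, hv⟩ := exists_prime_orderOf_dvd_card' 2 h2
      rw [← orderOf_coe] at hv
      change orderOf vb = 2 at hv
      obtain ⟨v, rfl⟩ := hfs vb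
      obtain ⟨⟨ub, hub⟩, hu1⟩ := (ne_bot_iff_exists_ne_one).1 hN0
      obtain ⟨u, huX, rfl⟩ := hNX hub
      have hcm : f v * f u * (f v)⁻¹ = f u := by
        have := congrArg (fun e : MulAut N => ((e ⟨f u, hub⟩ : N) : H ⧸ Y)) (MonoidHom.mem_ker.1 hvb)
        simpa [φ] using this
      have hcm' : Commute (f u) (f v) := by
        have : f v * f u = f u * f v := by
          calc f v * f u = f v * f u * (f v)⁻¹ * f v := by group
            _ = _ := by rw [hcm]
        exact this.symm
      obtain ⟨n, hn, hnc⟩ := Solv.coprime_fixed_coset (A := zpowers u) (N := Y) (hNY _)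
        (by
          obtain ⟨m, hm⟩ := IsPGroup.iff_card.1 hYp
          rw [Nat.card_zpowers, hm]
          exact Nat.Coprime.pow_right m (Nat.coprime_two_right.2 (hXo u huX)))
        (Or.inl (Solv.isSolvable_zpowers u)) (k := v) (hNY ⊤ (mem_top _))
        (by
          rintro _ ⟨m, rfl⟩
          rw [← QuotientGroup.eq_one_iff]
          change f _ = 1
          simp only [map_mul, map_inv, map_zpow]
          rw [(Commute.zpow_left hcm' m).eq]
          group)
      have hfn : f (n * v) = f v := by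
        rw [map_mul, show f n = 1 from (QuotientGroup.eq_one_iff n).2 hn, one_mul]
      have h2' : 2 ∣ orderOf (n * v) := by
        rw [← hv, ← hfn]; exact orderOf_map_dvd f _
      obtain ⟨j, hj⟩ := hinv _ h2'
      have hc := mem_centralizer_iff.1 hnc u (mem_zpowers u)
      have := h3 _ u hj (hXo u huX) (Commute.pow_right (show Commute u (n * v) from hc) j).eq
      apply hu1
      apply Subtype.ext
      simp [this]
    have hkX := hall φ.ker inferInstance hker
    obtain ⟨⟨_, gb, rfl⟩, hg⟩ := IsCyclic.exists_generator (α := φ.range)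
    obtain ⟨g, rfl⟩ := hfs gb
    refine ⟨g, φ.ker.comap f, inferInstance, ?_, fun h => ?_⟩
    · refine (comap_mono hkX).trans ?_
      rw [comap_map_eq, hfdef, QuotientGroup.ker_mk']
    · obtain ⟨n, hn⟩ := hg ⟨φ (f h), f h, rfl⟩
      refine ⟨n, ?_⟩
      have := congrArg Subtype.val hn
      simp only [SubgroupClass.coe_zpow] at this
      rw [mem_comap, MonoidHom.mem_ker, map_mul, map_inv, map_zpow, map_mul, map_inv, map_zpow, this,
        inv_mul_cancel]
  obtain ⟨g, W, hWn, hW, hg⟩ := key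
  have hKn : (X ⊔ Y).Normal := by
    have hcy : IsCyclic (H ⧸ W) := by
      refine ⟨⟨(g : H ⧸ W), fun x => ?_⟩⟩
      obtain ⟨h, rfl⟩ := QuotientGroup.mk_surjective x
      obtain ⟨n, hn⟩ := hg h
      exact ⟨n, by
        show ((g : H ⧸ W)) ^ n = _
        rw [← QuotientGroup.mk_zpow]; exact QuotientGroup.eq.2 hn⟩
    refine ⟨fun x hx a => ?_⟩
    have : a * x * a⁻¹ * x⁻¹ ∈ W := by
      rw [← QuotientGroup.eq_one_iff]
      simp only [QuotientGroup.mk_mul, QuotientGroup.mk_inv]
      have hc := hcy.isMulCommutative.is_comm.comm (a : H ⧸ W) (x : H ⧸ W)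
      rw [hc]; group
    have := mul_mem (hW this) hx
    simpa using this
  refine ⟨fun x hx hx1 => h1 x (hXo x hx) hx1, fun p hp P => hZ.isZGroup p hp.out P, hKn, fun hN => ⟨?_, ?_⟩⟩
  · refine ⟨⟨(g : H ⧸ (X ⊔ Y)), fun x => ?_⟩⟩
    obtain ⟨h, rfl⟩ := QuotientGroup.mk_surjective x
    obtain ⟨n, hn⟩ := hg h
    exact ⟨n, by
      show ((g : H ⧸ (X ⊔ Y))) ^ n = _
      rw [← QuotientGroup.mk_zpow]; exact QuotientGroup.eq.2 (hW hn)⟩
  · have : (X ⊔ Y).index ∣ 2 ^ k := hk ▸ index_dvd_of_le le_sup_left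
    obtain ⟨m, -, hm⟩ := (Nat.dvd_prime_pow Nat.prime_two).1 this
    exact IsPGroup.of_card (n := m) hm

end Cfsg.Agent.S3215
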