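import Cfsg.Statements.S3224
import Cfsg.Agent.Lib.Transfer.Dih
import Cfsg.Agent.Lib.Solv.MaxCl

set_option autoImplicit false
open Cfsg

namespace Cfsg.Agent.S3224

set_option linter.unusedSectionVars false
set_option linter.unusedVariables false
set_option linter.style.haveILetI false
set_option linter.unusedSimpArgs false

open Subgroup Transfer MS

/-- A finite 2-group containing an involution whose centralizer has order 4 is dihedral, quasi-dihedral (semidihedral), or of order 4. -/
theorem result {S : Type*} [Group S] [Finite S] (hS : IsPGroup 2 S)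
    (x : S) (hx : orderOf x = 2) (hC : Nat.card ↥(Subgroup.centralizer ({x} : Set S)) = 4) :
    (∃ n : ℕ, Nonempty (S ≃* DihedralGroup n)) ∨ Cfsg.IsQuasiDihedral S ∨ Nat.card S = 4 := by
  obtain ⟨n, hn⟩ := IsPGroup.iff_card.1 hS
  have h1 := Solv.maxClass_of_centralizer S n hn _ hC (cc_le_C1 (self_mem_C1 x))
  have h2 : 4 ∣ 2 ^ n := by rw [← hn, ← hC]; exact card_subgroup_dvd_card _
  rcases n with _ | _ | _ | n
  · simp at h2
  · simp at h2
  · exact .inr (.inr hn)
  obtain ⟨a, b, h⟩ := Solv.nf2_of_maxClass hn h1 (by omega)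
  obtain e | ⟨⟨e⟩⟩ | ⟨h3, h4, h5⟩ := h.iso
  · exact .inl ⟨_, e⟩
  · obtain ⟨a, b, h3, h4, h5⟩ := mc_of_quaternion (topEquiv.trans e)
    have h6 : x ∈ zpowers a := by_contra fun e => by
      obtain ⟨u, hu, rfl⟩ := (h3.a2.cases h3.mem_b h3.notMem (mem_top x)).resolve_left e
      have := mul_self_of_orderOf hx
      rw [h3.a2.sq_out, inverts_of_mem_zpowers h5 hu, h4, mul_inv_cancel, one_mul] at this
      exact ne_one_of_orderOf h3.ord_z this
    rw [invol_eq_of_mem_zpowers h6 h3.z_mem hx h3.ord_z, (eq_top_iff' _).2 fun y =>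
      mem_C1.2 (h3.z_cent y (mem_top y)), card_top] at hC
    exact .inr (.inr hC)
  · exact .inr (.inl ⟨_, by omega, h.card, a, b, h.ord, h4, h5⟩)

end Cfsg.Agent.S3224
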