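import Cfsg.Statements.S3225
import Cfsg.Agent.Lib.Transfer.Hall

set_option autoImplicit false
open Cfsg

namespace Cfsg.Agent.S3225

set_option linter.unusedSectionVars false
set_option linter.unusedVariables false
set_option linter.style.haveILetI false
set_option linter.unusedSimpArgs false

open Cfsg.Agent.Transfer Subgroup

/-- Let G be a finite group of even order with no subgroup of index 2, S a Sylow 2-subgroup of G and M a subgroup of index 2 in S such that, for some n ≥ 1, every element of S outside M has order greater than 2^(n−1). Then every element of S of order 2ⁿ is conjugate in G to an element of M. -/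
theorem result {G : Type*} [Group G] [Finite G] (hev : Even (Nat.card G))
    (hG : ∀ H : Subgroup G, H.index ≠ 2) (S : Sylow 2 G) (M : Subgroup G) (hMS : M ≤ (S : Subgroup G)) (hM : M.relIndex (S : Subgroup G) = 2)
    (n : ℕ) (hn : 1 ≤ n) (hord : ∀ y ∈ (S : Subgroup G), y ∉ M → 2 ^ (n - 1) < orderOf y)
    (x : G) (hx : x ∈ (S : Subgroup G)) (hxn : orderOf x = 2 ^ n) :
    ∃ g : G, g * x * g⁻¹ ∈ M := by
  by_contra hcon
  push Not at hcon
  obtain ⟨M, -, h2, -⟩ := thompson_transfer_gen (odd_index_sylow_two S) hM hx (by
    intro g k hk hm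
    have hc : (orderOf x).Coprime k := by
      rw [hxn]; exact Nat.Coprime.pow_left _ (Nat.coprime_two_left.2 hk)
    obtain ⟨m, hm'⟩ := exists_pow_eq_self_of_coprime hc.symm
    apply hcon g
    have := pow_mem hm m
    rwa [conj_pow, hm'] at this) (by
    rintro g _ ⟨k, rfl⟩ hm
    by_contra hn'
    have h1 := hord _ hm hn'
    rw [orderOf_conj] at h1
    have h2 : orderOf (x ^ (k + k)) ∣ 2 ^ (n - 1) := by
      apply orderOf_dvd_of_pow_eq_one
      rw [← pow_mul, ← two_mul, mul_right_comm, ← pow_succ', Nat.sub_add_cancel hn, pow_mul, ← hxn,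
        pow_orderOf_eq_one, one_pow]
    exact h1.not_ge (Nat.le_of_dvd (by positivity) h2))
  exact hG M h2

end Cfsg.Agent.S3225
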