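import Cfsg.Statements.S3246
import Cfsg.Agent.Lib.Ez.A1
import Cfsg.Agent.Lib.Solv.PGrp
import Cfsg.Agent.Lib.Solv.Coprime

set_option autoImplicit false
open Cfsg

namespace Cfsg.Agent.S3246

open scoped commutatorElement in
open Subgroup Cfsg.Agent.Comp in
theorem aux {G : Type*} [Group G] [Finite G] {M T Y : Subgroup G} (hM : CharP 2 M)
    (hT : IsPGroup 2 T) (hTM : T ≤ M) (hi : ∀ R : Subgroup G, IsPGroup 2 R → T ≤ R → T.relIndex R ≤ 2)
    (hY : Y ≤ M) (ho : Odd (Nat.card Y)) (hn : T ≤ normalizer (Y : Set G)) : Y = ⊥ := by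
  have hQ : IsPGroup 2 (Op 2 M) := isPGroup_Op _ _
  have hYQ : Y ≤ normalizer (Op 2 M : Set G) := le_normalizer_Op_of_le hY
  have hTQ : T ≤ normalizer (Op 2 M : Set G) := le_normalizer_Op_of_le hTM
  have hcop : (Nat.card Y).Coprime (Nat.card (Op 2 M)) :=
    (coprime_card_of_isPGroup hQ (Nat.coprime_two_right.2 ho)).symm
  have h0 : ⁅Op 2 M ⊓ T, Y⁆ = ⊥ := eq_bot_of_le_of_coprime
    ((commutator_le_right_of_le_normalizer (inf_le_right.trans hn)))
    ((commutator_mono inf_le_left le_rfl).trans (commutator_le_left_of_le_normalizer hYQ)) hcop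
  have h1 : (Op 2 M ⊓ T).relIndex (Op 2 M) ≤ 2 := by
    have a := hi (T ⊔ Op 2 M) (hT.to_sup_of_normal_right' hQ hTQ) le_sup_left
    have b := card_sup_mul_card_inf hTQ
    have c := relIndex_mul_card (K := T) (M := T ⊔ Op 2 M) le_sup_left
    have d := relIndex_mul_card (K := Op 2 M ⊓ T) (M := Op 2 M) inf_le_left
    rw [inf_comm] at b
    have e : 0 < Nat.card (Op 2 M ⊓ T : Subgroup G) := Nat.card_pos
    have f : 0 < Nat.card T := Nat.card_pos
    have : (Op 2 M ⊓ T).relIndex (Op 2 M) = T.relIndex (T ⊔ Op 2 M) := by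
      apply Nat.eq_of_mul_eq_mul_right (Nat.mul_pos e f)
      calc _ = Nat.card T * Nat.card (Op 2 M) := by rw [← d]; ring
        _ = _ := by rw [← b, ← c]; ring
    omega
  have h2 : ⁅Op 2 M, Y⁆ ≤ Op 2 M ⊓ T := by
    rw [commutator_le]
    intro q hq y hy
    have hq' : y * q⁻¹ * y⁻¹ ∈ Op 2 M := conj_mem_of_le_normalizer hYQ hy (inv_mem hq)
    by_cases h : q ∈ Op 2 M ⊓ T
    · have : ⁅q, y⁆ ∈ (⊥ : Subgroup G) := h0 ▸ commutator_mem_commutator h hy
      rw [mem_bot.1 this]; exact one_mem _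
    · have h3 : (Op 2 M ⊓ T).relIndex (Op 2 M) = 2 := by
        have a := relIndex_ne_zero' (Op 2 M ⊓ T) (Op 2 M)
        have b : (Op 2 M ⊓ T).relIndex (Op 2 M) ≠ 1 := fun e => h (relIndex_eq_one.1 e hq)
        omega
      have h4 := (mul_mem_iff_of_index_two (H := (Op 2 M ⊓ T).subgroupOf (Op 2 M)) h3
        (a := ⟨q, hq⟩) (b := ⟨_, hq'⟩)).2 ⟨fun a => absurd a h, fun a => by
          exfalso
          have a' : y * q⁻¹ * y⁻¹ ∈ Op 2 M ⊓ T := a
          have : ⁅y * q⁻¹ * y⁻¹, y⁻¹⁆ ∈ (⊥ : Subgroup G) :=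
            h0 ▸ commutator_mem_commutator a' (inv_mem hy)
          have b := commutatorElement_eq_one_iff_mul_comm.1 (mem_bot.1 this)
          have c : y * q⁻¹ * y⁻¹ = q⁻¹ := by
            calc y * q⁻¹ * y⁻¹ = (y * q⁻¹ * y⁻¹ * y⁻¹) * y := by group
              _ = (y⁻¹ * (y * q⁻¹ * y⁻¹)) * y := by rw [b]
              _ = q⁻¹ := by group
          exact h (inv_mem_iff.1 (c ▸ a'))⟩
      have h5 : q * (y * q⁻¹ * y⁻¹) ∈ Op 2 M ⊓ T := h4
      simpa [commutatorElement_def, mul_assoc] using h5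
  have h3 := Solv.coprime_commutator_commutator hYQ hcop (Or.inr (isSolvable_of_isPGroup hQ))
  have h4 : ⁅Op 2 M, Y⁆ = ⊥ := le_bot_iff.1 (h3 ▸ h0 ▸ commutator_mono h2 le_rfl)
  exact hM.eq_bot hY (commutator_eq_bot_iff'.1 h4) (Nat.coprime_two_right.2 ho)

/-- Let G be a finite group whose Sylow 2-subgroup S has a self-centralizing normal subgroup of rank at least 3. Suppose that either every maximal 2-local subgroup of G is 2-constrained with no nontrivial normal subgroup of odd order, or the centralizer of every involution of G is 2-constrained with no nontrivial normal subgroup of odd order. Then S normalizes no nontrivial subgroup of G of odd order and every 2-local subgroup of G is 2-constrained. -/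
theorem result {G : Type*} [Group G] [Finite G]
    (S : Sylow 2 G) (A : Subgroup G) (hA : Cfsg.IsSCN (S : Subgroup G) A) (hA3 : ¬ Cfsg.PRankLE 2 2 ↥A)
    (h : (∀ M : Subgroup G, Cfsg.IsMaximalTwoLocal M → Cfsg.IsPConstrained 2 ↥M ∧ Cfsg.oddCore ↥M = ⊥) ∨
      (∀ t : G, orderOf t = 2 → Cfsg.IsPConstrained 2 ↥(Subgroup.centralizer ({t} : Set G)) ∧
        Cfsg.oddCore ↥(Subgroup.centralizer ({t} : Set G)) = ⊥)) :
    (∀ X : Subgroup G, Odd (Nat.card ↥X) → (S : Subgroup G) ≤ Subgroup.normalizer (X : Set G) → X = ⊥) ∧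
      (∀ T : Subgroup G, IsPGroup 2 ↥T → T ≠ ⊥ → Cfsg.IsPConstrained 2 ↥(Subgroup.normalizer (T : Set G))) := by
  have hc : ∀ t : G, orderOf t = 2 → Comp.CharP 2 (Subgroup.centralizer ({t} : Set G)) := by
    intro t ht
    rcases h with h | h
    · have hT := Comp.isPGroup_zpowers_of_orderOf_eq (p := 2) ht
      have hT1 : Subgroup.zpowers t ≠ ⊥ := by
        rw [Ne, Subgroup.zpowers_eq_bot]; rintro rfl; simp at ht
      obtain ⟨M, h1, h2, h4⟩ := Comp.exists_maximal_subgroup (G := G) (P := IsTwoLocal)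
        (A := Subgroup.normalizer (Subgroup.zpowers t : Set G)) ⟨_, hT, hT1, rfl⟩
      have h5 := h M ⟨h2, h4⟩
      have h6 : Comp.CharP 2 M := Comp.charP_iff_PLay_Opp.2
        ⟨Comp.isPConstrained_iff_subtype.1 h5.1, Comp.Opp_eq_bot_iff.2 h5.2⟩
      have h7 := h6.inf_centralizer hT (Subgroup.le_normalizer.trans h1)
      rwa [inf_eq_right.2 ((Subgroup.centralizer_le_normalizer _).trans h1),
        Comp.centralizer_zpowers] at h7
    · exact Comp.charP_iff_PLay_Opp.2
        ⟨Comp.isPConstrained_iff_subtype.1 (h t ht).1, Comp.Opp_eq_bot_iff.2 (h t ht).2⟩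
  refine ⟨fun X hX hn => ?_, fun T hT hT1 => Comp.isPConstrained_iff_subtype.2
    (Ez.PLay_normalizer_eq_bot_of_cent (fun x hx => (hc x hx).PLay_eq_bot) hT hT1)⟩
  have hAc : IsMulCommutative A := Comp.isMulCommutative_iff_le.2 (hA.2.2.ge.trans inf_le_right)
  have hnc : ¬ IsCyclic A := fun hcy => hA3 fun B _ hB => by
    obtain ⟨g, hg⟩ := (inferInstance : IsCyclic B).exists_monoid_generator
    have h1 : orderOf g = Nat.card B := orderOf_eq_card_of_forall_mem_powers hg
    have h2 : orderOf g ∣ 2 := orderOf_dvd_of_pow_eq_one (Subtype.ext (hB _ g.2))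
    have := Nat.le_of_dvd two_pos h2
    omega
  obtain ⟨E, hEA, hE, hEc, hE2, hEn⟩ := Solv.exists_normal_elementary_sq_of_abelian (p := 2)
    S.isPGroup'.isNilpotent hAc (S.isPGroup'.to_le hA.1) hA.1 hA.2.1 hnc
  have hES := hEA.trans hA.1
  refine le_bot_iff.1 (Comp.le_of_forall_centralizer (p := 2) (A := E) ⟨hEc, hE2⟩ hE.ge
    (hES.trans hn) (Nat.coprime_two_right.2 hX) fun a ha ha1 => le_bot_iff.2 ?_)
  have ho := Comp.IsElementaryAbelian.orderOf_eq (p := 2) ⟨hEc, hE2⟩ ha ha1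
  refine aux (T := (S : Subgroup G) ⊓ Subgroup.centralizer ({a} : Set G)) (hc a ho)
    (S.isPGroup'.to_le inf_le_left) inf_le_right ?_ inf_le_right (BG.odd_of_le inf_le_left hX)
    (Comp.le_normalizer_inf (inf_le_left.trans hn) (inf_le_right.trans Subgroup.le_normalizer))
  intro R hR hTR
  have h1 := (Comp.sylIn_top S).card_le hR le_top
  have h2 := Comp.relIndex_mul_card hTR
  have h3 := Comp.relIndex_mul_card (K := (S : Subgroup G) ⊓ Subgroup.centralizer ({a} : Set G))
    (M := S) inf_le_left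
  have h4 : ((S : Subgroup G) ⊓ Subgroup.centralizer ({a} : Set G)).relIndex S ≤ 2 :=
    Ez.relIndex_cent_le_two S.isPGroup' hE hEn ha ha1
  have h5 : 0 < Nat.card ((S : Subgroup G) ⊓ Subgroup.centralizer ({a} : Set G) : Subgroup G) :=
    Nat.card_pos
  apply Nat.le_of_mul_le_mul_right _ h5
  rw [h2]
  exact h1.trans (h3 ▸ Nat.mul_le_mul_right _ h4)

end Cfsg.Agent.S3246
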