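import Cfsg.Statements.S3261
import Cfsg.Agent.Lib.Ez.A4
import Cfsg.Agent.S0495
import Cfsg.Agent.S0497
import Cfsg.Agent.Lib.Classical.GroupRec

set_option autoImplicit false
open Cfsg

namespace Cfsg.Agent.S3261

open Equiv Subgroup

abbrev A6 := alternatingGroup (Fin 6)

def x0 : A6 := ⟨Equiv.swap 0 1 * Equiv.swap 2 3, Perm.mem_alternatingGroup.2 (by decide)⟩
def r0 : A6 := ⟨Equiv.swap 0 2 * Equiv.swap 2 1 * Equiv.swap 1 3 * Equiv.swap 4 5,
  Perm.mem_alternatingGroup.2 (by decide)⟩
def s0 : A6 := ⟨Equiv.swap 0 1 * Equiv.swap 4 5, Perm.mem_alternatingGroup.2 (by decide)⟩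

theorem cen0 : ∀ g : Perm (Fin 6), x0.1 * g = g * x0.1 → Perm.sign g = 1 →
    ∃ i : Fin 4, g = r0.1 ^ i.1 ∨ g = s0.1 * r0.1 ^ i.1 := by decide +kernel

theorem dih0 : Nonempty (centralizer ({x0} : Set A6) ≃* DihedralGroup 4) := by
  have h1 : orderOf r0 = 2 ^ 2 := orderOf_eq_prime_pow (by decide) (by decide)
  have h2 : ∀ g ∈ zpowers r0, g ∈ centralizer ({x0} : Set A6) :=
    zpowers_le.2 (Ez.mem_C1.2 (by decide))
  have h3 : s0 ∈ centralizer ({x0} : Set A6) := Ez.mem_C1.2 (by decide)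
  refine Classical.nonempty_dihedral _ r0 s0 h1 (by decide) (by decide) (fun h => ?_) fun x => ⟨fun h => ?_, ?_⟩
  · exact absurd (Solv.Commute.of_mem_zpowers (Commute.refl r0) h (mem_zpowers _)).eq (by decide)
  · obtain ⟨i, a | a⟩ := cen0 x (congrArg Subtype.val (Ez.mem_C1.1 h)) (Perm.mem_alternatingGroup.1 x.2)
    · exact .inl (by rw [show x = r0 ^ i.1 from Subtype.ext a]; exact pow_mem (mem_zpowers _) _)
    · exact .inr (by
        rw [show x = s0 * r0 ^ i.1 from Subtype.ext a, inv_mul_cancel_left]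
        exact pow_mem (mem_zpowers _) _)
  · rintro (h | h)
    · exact h2 _ h
    · exact (mul_mem_cancel_left (inv_mem h3)).1 (h2 _ h)

theorem cyc (x : A6) (h : orderOf x = 2) (hs : x.1.support.card = 4) : x.1.cycleType = {2, 2} := by
  have h1 : orderOf x.1 = 2 := by rw [orderOf_coe, h]
  obtain ⟨n, hn⟩ := Perm.cycleType_prime_order (σ := x.1) (by rw [h1]; exact Nat.prime_two)
  have h2 := Perm.sum_cycleType x.1
  rw [hn, hs, h1, Multiset.sum_replicate, smul_eq_mul] at h2
  rw [hn, h1, show n = 1 by omega]; rfl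

/-- Let α̃ be an involution of the alternating group A₆ that is a product of two disjoint transpositions (it lies in the centre of a Sylow 2-subgroup of A₆; its centralizer is dihedral of order 8). Let G be a finite group that has no subgroup of index 2 and contains an involution α, central in some Sylow 2-subgroup of G, with C_G(α) ≅ C_{A₆}(α̃). Then G is isomorphic to A₆ or to PSL₂(7). -/
theorem result {G : Type*} [Group G] [Finite G]
    (hG : ∀ H : Subgroup G, H.index ≠ 2)
    (αt : ↥(alternatingGroup (Fin 6))) (hαt : orderOf αt = 2) (hsupp : (αt : Equiv.Perm (Fin 6)).support.card = 4)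
    (α : G) (hα : orderOf α = 2) (S : Sylow 2 G) (hαS : α ∈ (S : Subgroup G)) (hαc : ∀ s ∈ (S : Subgroup G), s * α = α * s)
    (e : ↥(Subgroup.centralizer ({α} : Set G)) ≃* ↥(Subgroup.centralizer ({αt} : Set ↥(alternatingGroup (Fin 6))))) :
    Nonempty (G ≃* ↥(alternatingGroup (Fin 6))) ∨
      (∃ (F : Type) (_ : Field F) (_ : Fintype F), Fintype.card F = 7 ∧ Nonempty (G ≃* Matrix.ProjectiveSpecialLinearGroup (Fin 2) F)) := by
  obtain ⟨g, hg⟩ := isConj_iff.1 (Perm.isConj_iff_cycleType_eq.2 ((cyc αt hαt hsupp).trans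
    (cyc x0 (Ez.ord_of_mul_self (by decide) (by decide)) (by decide)).symm))
  have h1 := Comp.map_equiv_centralizer (MulAut.conjNormal (H := A6) g) {αt}
  rw [Set.image_singleton, show MulAut.conjNormal g αt = x0 from Subtype.ext hg] at h1
  obtain ⟨φ, h, -⟩ := Ez.exists_d8c hα (e.trans (((MulAut.conjNormal (H := A6) g).subgroupMap _).trans
    ((MulEquiv.subgroupCongr h1).trans dih0.some)))
  obtain ⟨a, b | b⟩ := h.simple_order hG
  · have : Fact (Nat.Prime 7) := ⟨by norm_num⟩
    exact .inr ⟨ZMod 7, inferInstance, inferInstance, ZMod.card 7, S0495.result b (ZMod.card 7)⟩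
  · exact .inl (S0497.result b)

end Cfsg.Agent.S3261
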