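import Cfsg.Statements.S3269
import Cfsg.Agent.Lib.Ez.D1
import Cfsg.Agent.Lib.Comp.SPE
import Cfsg.Agent.Lib.Transfer.Cyc2
import Cfsg.Agent.Lib.Transfer.Hall

set_option autoImplicit false
open Cfsg

namespace Cfsg.Agent.S3269

open Subgroup Cfsg.Agent.Comp Cfsg.Agent.Ez Cfsg.Agent.Transfer
open scoped commutatorElement

/-- Let G be a finite group whose Sylow 2-subgroup S is an internal direct product Q × R with Q generalized quaternion (of order at least 8) and R a subgroup all of whose involutions are central in R. Then G is not simple. In particular no finite simple group has a Sylow 2-subgroup that is a direct product of one or more generalized quaternion groups. -/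
theorem result {G : Type*} [Group G] [Finite G]
    (S : Sylow 2 G) (Q R : Subgroup G) (hQR : Cfsg.IsInternalDirectProduct Q R (S : Subgroup G))
    (n : ℕ) (hn : 1 ≤ n) (eQ : ↥Q ≃* QuaternionGroup (2 ^ n))
    (hR : ∀ r ∈ R, orderOf r = 2 → ∀ s ∈ R, r * s = s * r) :
    ¬ IsSimpleGroup G := by
  classical
  intro hs
  obtain ⟨h1, h2, hc, hi, hsup⟩ := hQR
  have hP : IsPGroup 2 (S : Subgroup G) := S.isPGroup'
  have e := (subgroupOfEquivOfLe h1).trans eQ
  have : NeZero (2 ^ n) := ⟨by positivity⟩
  obtain ⟨a, s, ho, e1, -, -, e4⟩ := exists_gens_of_quaternion e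
  have ha : a ∈ Q.subgroupOf S := by rw [e4]; exact subset_closure (by simp)
  have hs' : s ∈ Q.subgroupOf S := by rw [e4]; exact subset_closure (by simp)
  have hz : orderOf (a ^ 2 ^ n) = 2 := by
    rw [orderOf_pow_of_dvd (by positivity) (ho ▸ dvd_mul_left _ _), ho, Nat.mul_div_cancel _ (by positivity)]
  have hzz : a ^ 2 ^ n * a ^ 2 ^ n = 1 := mul_self_of_orderOf hz
  have hdp : IsInternalDirectProduct (Q.subgroupOf S) (R.subgroupOf S) ⊤ := by
    refine ⟨le_top, le_top, fun x hx y hy => Subtype.ext (hc _ hx _ hy), ?_, ?_⟩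
    · rw [eq_bot_iff]
      intro x hx
      have : (x : G) ∈ Q ⊓ R := mem_inf.2 ⟨(mem_inf.1 hx).1, (mem_inf.1 hx).2⟩
      rw [hi, mem_bot] at this
      exact mem_bot.2 (Subtype.ext this)
    · rw [← subgroupOf_sup h1 h2, hsup, subgroupOf_self]
  have hF : QFac (Nat.card (Q.subgroupOf S)) (Q.subgroupOf S) (R.subgroupOf S) (a ^ 2 ^ n) := by
    refine ⟨hdp, rfl, pow_mem ha _, fun h => by rw [h, orderOf_one] at hz; omega, hzz,
      fun x hx hxx => ?_, a ^ 2 ^ (n - 1), pow_mem ha _, s, hs', ?_⟩
    · have := (rankOne_of_quaternion (hP.to_subgroup _) e).2 _ (pow_mem ha _) hz x hx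
        (by rw [pow_two, hxx])
      rw [mem_zpowers_iff_mem_range_orderOf, hz] at this
      obtain ⟨i, hi, rfl⟩ := Finset.mem_image.1 this
      have : i = 0 ∨ i = 1 := by have := Finset.mem_range.1 hi; omega
      rcases this with rfl | rfl <;> simp
    · have e5 : s * (a ^ 2 ^ (n - 1))⁻¹ * s⁻¹ = a ^ 2 ^ (n - 1) := by
        rw [← inv_pow, ← conj_pow, ← e1]
        congr 1
        rw [e1, ← conj_inv, e1, inv_inv]
      calc _ = a ^ 2 ^ (n - 1) * a ^ 2 ^ (n - 1) := by
            rw [← pow_add, ← two_mul, ← pow_succ', Nat.sub_add_cancel hn]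
        _ = a ^ 2 ^ (n - 1) * (s * (a ^ 2 ^ (n - 1))⁻¹ * s⁻¹) := by rw [e5]
        _ = _ := by rw [commutatorElement_def]; group
  obtain ⟨w, hw1, hw2, hw3⟩ := hF.exists_fixed hP
  have hcen : ∀ x : (S : Subgroup G), x * x = 1 → x ∈ center (S : Subgroup G) := by
    intro x hx
    obtain ⟨π, k1, k2, -, -⟩ := dp_exists_proj hdp
    have k3 : π x * π x = 1 := by rw [← map_mul, hx, map_one]
    have k4 : π x ∈ center (S : Subgroup G) := by
      rcases hF.uniq _ (k1 x) k3 with h | h <;> rw [h]
      · exact one_mem _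
      · exact hF.central
    have k5 : (π x)⁻¹ * x ∈ center (S : Subgroup G) := by
      set r := (π x)⁻¹ * x with hr
      have k6 : r * r = 1 := by
        calc r * r = (π x)⁻¹ * (x * (π x)⁻¹) * x := by rw [hr]; group
          _ = (π x * π x)⁻¹ * (x * x) := by rw [mem_center_iff.1 (inv_mem k4) x]; group
          _ = 1 := by rw [k3, hx]; group
      by_cases hr1 : r = 1
      · rw [hr1]; exact one_mem _
      have := Fact.mk Nat.prime_two
      have k7 : orderOf (r : G) = 2 := by
        rw [orderOf_coe]; exact orderOf_eq_prime (by rw [pow_two, k6]) hr1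
      refine mem_center_iff.2 fun y => ?_
      have c1 : Commute r (π y) := (hdp.2.2.1 _ (k1 y) _ (k2 x)).symm
      have c2 : Commute r ((π y)⁻¹ * y) := Subtype.ext (hR _ (k2 x) k7 _ (k2 y))
      have := (c1.mul_right c2).symm.eq
      simpa using this
    simpa using mul_mem k4 k5
  have hC : ∀ x : (S : Subgroup G), x * x = 1 → (x : G) ∈ centralizer ((S : Subgroup G) : Set G) :=
    fun x hx => mem_centralizer_iff.2 fun y hy =>
      congrArg Subtype.val (mem_center_iff.1 (hcen x hx) ⟨y, hy⟩)
  have hww : w * w = 1 := mul_self_of_orderOf hw2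
  have hiso : IsIsolatedInvolution (w : G) := by
    refine isolated_of_sylow S (by rw [orderOf_coe, hw2]) fun g hg => ?_
    have hW : IsWeaklyClosed (S : Subgroup G) (S : Subgroup G) := ⟨le_rfl, fun g hg =>
      eq_of_le_of_card_ge hg (card_map_of_injective (MulAut.conj g).injective).ge⟩
    obtain ⟨k, hk, hk2⟩ := exists_normalizer_conj_of_weaklyClosed S hW (g := g) (hC w hww)
      (hC ⟨_, hg⟩ (Subtype.ext (by
        have : (w : G) * w = 1 := congrArg Subtype.val hww
        show g * w * g⁻¹ * (g * w * g⁻¹) = 1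
        calc _ = g * (w * w) * g⁻¹ := by group
          _ = 1 := by rw [this]; group)))
    rw [← hk2]
    exact congrArg Subtype.val (hw3 ((S : Subgroup G).normalizerMonoidHom ⟨k, hk⟩))
  have htop := not_isolated_of_simple hiso
  have : Nat.card G = 2 := by rw [← card_top, ← htop, Nat.card_zpowers, hiso.1]
  have h4 : 2 * 2 ^ n ∣ Nat.card G := by rw [← ho, ← orderOf_coe]; exact orderOf_dvd_natCard _
  have := Nat.le_of_dvd (by omega) h4
  have := Nat.one_lt_two_pow (n := n) (by omega)
  omega

end Cfsg.Agent.S3269
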