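import Cfsg.Statements.S3276
import Cfsg.Agent.Lib.Transfer.Rank

set_option autoImplicit false
open Cfsg

namespace Cfsg.Agent.S3276

set_option linter.unusedSectionVars false
set_option linter.unusedVariables false
set_option linter.style.haveILetI false
set_option linter.unusedSimpArgs false

open Subgroup Cfsg.Agent.Transfer

/-- Let x and y be commuting, non-conjugate involutions of a finite group G, and suppose that for every involution u commuting with x, each conjugate of y that commutes with u also commutes with y. Then the normal closure of y is a proper, normal, elementary abelian 2-subgroup of G; and if y is the only involution of that normal closure commuting with x, it has order at most 4. -/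
theorem result {G : Type*} [Group G] [Finite G] (x y : G) (hx : orderOf x = 2) (hy : orderOf y = 2)
    (hxy : Commute x y) (hnc : ¬ IsConj x y)
    (hstar : ∀ u : G, orderOf u = 2 → Commute u x → ∀ g : G, Commute (g * y * g⁻¹) u → Commute (g * y * g⁻¹) y) :
    Subgroup.normalClosure ({y} : Set G) ≠ ⊤ ∧ Cfsg.IsElementaryAbelian 2 (Subgroup.normalClosure ({y} : Set G)) ∧
      ((∀ u ∈ Subgroup.normalClosure ({y} : Set G), orderOf u = 2 → Commute u x → u = y) →
        Nat.card ↥(Subgroup.normalClosure ({y} : Set G)) ≤ 4) := by
  have hx1 := mul_self_of_orderOf hx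
  have hy1 := mul_self_of_orderOf hy
  have h1 : ∀ g : G, Commute (g * y * g⁻¹) y := by
    intro g
    have he : Even (orderOf (x * (g * y * g⁻¹))) := by
      rw [← Nat.not_odd_iff_even]
      intro ho
      obtain ⟨c, -, hc⟩ := exists_conj_of_odd' hx1 (conj_mul_self hy1 g) ho
      exact hnc ((isConj_iff.2 ⟨c, hc⟩).trans (isConj_conj g y).symm)
    obtain ⟨z, -, hz, h2, h3⟩ := exists_invol_of_even hx1 (conj_mul_self hy1 g) he
    exact hstar z hz h2 g h3.symm
  have h2 : normalClosure ({y} : Set G) ≤ centralizer {y} := by
    refine (closure_le _).2 fun a ha => ?_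
    obtain ⟨_, rfl, hc⟩ := Group.mem_conjugatesOfSet_iff.1 ha
    obtain ⟨g, rfl⟩ := isConj_iff.1 hc
    exact mem_centralizer_singleton'.2 (h1 g)
  have h3 : normalClosure ({y} : Set G) ≤ centralizer (normalClosure ({y} : Set G) : Set G) :=
    normalClosure_le_normal fun a ha => by
      rw [Set.mem_singleton_iff.1 ha]
      exact fun b hb => mem_centralizer_singleton_iff.1 (h2 hb)
  have h4 : IsElementaryAbelian 2 (normalClosure ({y} : Set G)) := by
    refine elem_two_of_mul_self fun a ha => ?_
    refine closure_induction (p := fun a _ => a * a = 1) ?_ (by simp) ?_ ?_ ha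
    · intro a ha
      obtain ⟨_, rfl, hc⟩ := Group.mem_conjugatesOfSet_iff.1 ha
      obtain ⟨g, rfl⟩ := isConj_iff.1 hc
      exact conj_mul_self hy1 g
    · intro a b ha hb h5 h6
      rw [mul_assoc, ← mul_assoc b, h3 ha b hb, mul_assoc, h6, mul_one, h5]
    · intro a _ h5
      rw [← mul_inv_rev, h5, inv_one]
  refine ⟨fun h => ?_, h4, fun h => ?_⟩
  · have h5 : normalClosure ({y} : Set G) ≤ zpowers y := by
      haveI : (zpowers y).Normal := ⟨fun n hn g => by
        rw [← h3 (h ▸ mem_top g) n (h ▸ mem_top n), mul_inv_cancel_right]; exact hn⟩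
      exact normalClosure_le_normal (by simp)
    rcases (mem_zpowers_iff_of_sq hy1).1 (h5 (h ▸ mem_top x)) with h6 | h6
    · exact ne_one_of_orderOf hx h6
    · exact hnc (h6 ▸ IsConj.refl _)
  · refine (card_le_sq_of_invol h4 (x := x) (by rw [normalizer_eq_top]; trivial)
      (by rw [hx1]; exact one_mem _)).trans ?_
    have : normalClosure ({y} : Set G) ⊓ centralizer ({x} : Set G) ≤ zpowers y := fun u hu => by
      by_cases hu1 : u = 1
      · rw [hu1]; exact one_mem _
      · rw [h u (mem_inf.1 hu).1 (orderOf_eq_two (elem_mul_self h4 (mem_inf.1 hu).1) hu1)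
          (mem_centralizer_singleton'.1 (mem_inf.1 hu).2)]
        exact mem_zpowers y
    have h5 := card_le_of_le this
    rw [Nat.card_zpowers, hy] at h5
    exact Nat.pow_le_pow_left h5 2

end Cfsg.Agent.S3276
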