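import Cfsg.Statements.S3279
import Cfsg.Agent.Lib.Ez.A2

set_option autoImplicit false
open Cfsg

namespace Cfsg.Agent.S3279

/-- Let G be a finite simple group and x an involution of G whose centralizer contains at most three involutions. Then C_G(x) contains a Sylow 2-subgroup of G, and all involutions of G are conjugate. -/
theorem result {G : Type*} [Group G] [Finite G] [IsSimpleGroup G] (x : G) (hx : orderOf x = 2)
    (h3 : Nat.card {u : ↥(Subgroup.centralizer ({x} : Set G)) // orderOf u = 2} ≤ 3) :
    (∃ S : Sylow 2 G, (S : Subgroup G) ≤ Subgroup.centralizer ({x} : Set G)) ∧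
      ∀ u v : G, orderOf u = 2 → orderOf v = 2 → IsConj u v := by
  by_cases h : Nat.card G = 2
  · have : Fact (Nat.Prime 2) := ⟨Nat.prime_two⟩
    have hc := isCyclic_of_prime_card h
    obtain ⟨g, hg⟩ := hc.exists_generator
    obtain ⟨S⟩ : Nonempty (Sylow 2 G) := inferInstance
    exact ⟨⟨S, fun s _ => Ez.mem_C1.2 (Solv.Commute.of_mem_zpowers (Commute.refl g) (hg x) (hg s)).eq⟩,
      fun u v hu hv => Ez.invol_unique_zpowers (hg u) (hg v) hu hv ▸ IsConj.refl u⟩
  · obtain ⟨hG, hI⟩ := Ez.simple_facts h
    exact Ez.one_class_of_few hG hI hx (Ez.few_of_card hx h3)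

end Cfsg.Agent.S3279
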