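import Cfsg.Statements.S3294
import Cfsg.Agent.Lib.Transfer.Tet

set_option autoImplicit false
open Cfsg

namespace Cfsg.Agent.S3294

set_option linter.unusedSectionVars false
set_option linter.unusedVariables false
set_option linter.style.haveILetI false
set_option linter.unusedSimpArgs false

open Subgroup Transfer MS

/-- A finite solvable group whose Sylow 2-subgroups are generalized quaternion of order at least 32 has a normal 2-complement. -/
theorem result {G : Type*} [Group G] [Finite G] (hsol : Group.IsSolvable G) (T : Sylow 2 G) (n : ℕ) (hn : 3 ≤ n) (hT : Nonempty ((T : Subgroup G) ≃* QuaternionGroup (2 ^ n))) : Cfsg.HasNormalPComplement 2 G := by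
  obtain ⟨P, -, ⟨e⟩⟩ := exists_sylow_quot T (Solv.coprime_card_pPrimeCore (G := G) 2)
  obtain ⟨a, b, h, h1, h2⟩ := mc_of_quaternion (e.trans hT.some)
  refine hasNPC_of_quotient (N := pPrimeCore 2 G) Solv.not_dvd_card_pPrimeCore (by_contra fun h3 => ?_)
  have he := ess_pCore Solv.pPrimeCore_quotient_pPrimeCore h3
  have hB : pCore 2 (G ⧸ pPrimeCore 2 G) ≤ P := (Solv.isPGroup_pCore _ _).le_sylow_of_normal P
  obtain e | e := h.ess hB he
  · obtain ⟨s, hs, hs', h4, -⟩ := h.klein hB e
    obtain ⟨u, hu, rfl⟩ := (h.a2.cases h.mem_b h.notMem hs).resolve_left hs'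
    rw [h.a2.sq_out, inverts_of_mem_zpowers h2 hu, h1, mul_inv_cancel, one_mul] at h4
    exact absurd h4 (ne_one_of_orderOf h.ord_z)
  obtain ⟨-, s, hs, hs', -, e1⟩ := h.q8 hB e
  obtain ⟨m, rfl⟩ := Nat.exists_eq_add_of_le' hn
  have h4 := (h.out hs hs').nn_X (k := m + 1) (by omega)
  rw [show m + 1 + 1 = m + 3 - 1 from rfl, ← e1, normalizer_eq_top, inf_top_eq] at h4
  have h5 := (h.out hs hs').card_X (k := m + 1) (by omega)
  rw [← h4, h.card] at h5
  have := Nat.pow_right_injective le_rfl h5
  omega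

end Cfsg.Agent.S3294
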