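import Cfsg.Statements.S3305
import Cfsg.Agent.Lib.Transfer.Tet

set_option autoImplicit false
open Cfsg

namespace Cfsg.Agent.S3305

set_option linter.unusedSectionVars false
set_option linter.unusedVariables false
set_option linter.style.haveILetI false
set_option linter.unusedSimpArgs false

open Subgroup Transfer MS

/-- If any two distinct Sylow 2-subgroups of the finite group G intersect in a cyclic group, then the same holds in every quotient group G/H, H a normal subgroup of G. -/
theorem result {G : Type*} [Group G] [Finite G]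
    (hC : ∀ S T : Sylow 2 G, S ≠ T → IsCyclic ↥((S : Subgroup G) ⊓ (T : Subgroup G))) (H : Subgroup G) [H.Normal] :
    ∀ S T : Sylow 2 (G ⧸ H), S ≠ T → IsCyclic ↥((S : Subgroup (G ⧸ H)) ⊓ (T : Subgroup (G ⧸ H))) := by
  intro S T hne
  set f := QuotientGroup.mk' H
  have hf : Function.Surjective f := QuotientGroup.mk'_surjective H
  obtain ⟨D, hD⟩ := exists_isSyl 2 (((S : Subgroup (G ⧸ H)) ⊓ (T : Subgroup (G ⧸ H))).comap f)
  have key : ∀ S : Sylow 2 (G ⧸ H), D ≤ (S : Subgroup _).comap f → ∃ P : Sylow 2 G, D ≤ P ∧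
      (P : Subgroup G).map f = S := fun S h => by
    obtain ⟨P, h1, h2⟩ := exists_isSyl_ge hD.pgroup h
    have h3 : P.map f = S := by
      have := h1.map f
      rw [map_comap_eq_self_of_surjective hf] at this
      exact (this.eq_of_le S.isPGroup' le_rfl this.le).symm
    obtain ⟨Q, rfl⟩ := (h1.trans le_top (by
      rw [relIndex_top_right, index_comap_of_surjective _ hf]; exact S.not_dvd_index)).exists_sylow
    exact ⟨Q, h2, h3⟩
  obtain ⟨P, h1, h2⟩ := key S (hD.le.trans (comap_mono inf_le_left))
  obtain ⟨Q, h3, h4⟩ := key T (hD.le.trans (comap_mono inf_le_right))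
  have h5 := hD.map f
  rw [map_comap_eq_self_of_surjective hf] at h5
  rw [h5.eq_of_le (S.isPGroup'.to_le inf_le_left) le_rfl h5.le]
  obtain ⟨a, -, rfl⟩ := exists_zpowers (cyc_mono (hC P Q fun e => hne (Sylow.ext (by rw [← h2, ← h4, e]))) (le_inf h1 h3))
  rw [MonoidHom.map_zpowers]; exact cyc_zpowers _

end Cfsg.Agent.S3305
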