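import Cfsg.Statements.S3303
import Cfsg.Agent.S3305

set_option autoImplicit false
open Cfsg

namespace Cfsg.Agent.S3303

set_option linter.unusedSectionVars false
set_option linter.unusedVariables false
set_option linter.style.haveILetI false
set_option linter.unusedSimpArgs false

open Subgroup Transfer MS

/-- Let G be a finite solvable group in which the intersection of any two distinct Sylow 2-subgroups is cyclic. Then G/O(G) has a normal Sylow 2-subgroup, where O(G) is the largest normal subgroup of odd order. -/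
theorem result {G : Type*} [Group G] [Finite G] (hs : Group.IsSolvable G)
    (hC : ∀ S T : Sylow 2 G, S ≠ T → IsCyclic ↥((S : Subgroup G) ⊓ (T : Subgroup G))) :
    ∃ P : Sylow 2 (G ⧸ Cfsg.oddCore G), (P : Subgroup (G ⧸ Cfsg.oddCore G)).Normal := by
  obtain ⟨P⟩ : Nonempty (Sylow 2 (G ⧸ oddCore G)) := inferInstance
  refine ⟨P, by_contra fun e => ?_⟩
  obtain ⟨g, hg⟩ := not_forall.1 (mt (eq_top_iff' _).2 (mt normalizer_eq_top_iff.1 e))
  have h1 := S3305.result hC (oddCore G) P (g • P) fun e1 => hg (Sylow.smul_eq_iff_mem_normalizer.1 e1.symm)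
  refine not_ess_of_cyc (Solv.isPGroup_pCore _ _) (cyc_mono h1 (le_inf (Solv.pCore_le_sylow _) (Solv.pCore_le_sylow _)))
    (ess_pCore Solv.pPrimeCore_quotient_pPrimeCore fun h => e ?_)
  rw [(P.is_maximal' (h.to_subgroup ⊤) le_top).symm]; infer_instance

end Cfsg.Agent.S3303
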