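import Cfsg.Statements.S3304
import Cfsg.Agent.Lib.Ez.K2
import Cfsg.Agent.S1896
import Cfsg.Agent.Lib.Block.Max
import Cfsg.Agent.Lib.Transfer.Stab

set_option autoImplicit false
open Cfsg

namespace Cfsg.Agent.S3304

/-- Let G be a finite solvable group in which the intersection of any two distinct Sylow 2-subgroups has 2-rank at most 1 (contains no Klein four-group). Write Q = G/O(G), O(G) the largest normal subgroup of odd order. Then Q has a normal Sylow 2-subgroup; or Q is isomorphic to GL(2,3); or Q has order 48, centre of order 2 with central quotient isomorphic to the symmetric group of degree 4, and generalized quaternion Sylow 2-subgroups of order 16 (the binary octahedral group). The last two are the two representation groups of the symmetric group of degree 4. -/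
theorem result {G : Type*} [Group G] [Finite G] (hs : Group.IsSolvable G)
    (hI : ∀ S T : Sylow 2 G, S ≠ T → Cfsg.PRankLE 2 1 ↥((S : Subgroup G) ⊓ (T : Subgroup G))) :
    (∃ P : Sylow 2 (G ⧸ Cfsg.oddCore G), (P : Subgroup (G ⧸ Cfsg.oddCore G)).Normal) ∨
    Nonempty ((G ⧸ Cfsg.oddCore G) ≃* GL (Fin 2) (ZMod 3)) ∨
    (Nat.card (G ⧸ Cfsg.oddCore G) = 48 ∧ Nat.card ↥(Subgroup.center (G ⧸ Cfsg.oddCore G)) = 2 ∧
      Nonempty ((G ⧸ Cfsg.oddCore G) ⧸ Subgroup.center (G ⧸ Cfsg.oddCore G) ≃* Equiv.Perm (Fin 4)) ∧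
      ∀ P : Sylow 2 (G ⧸ Cfsg.oddCore G), Nonempty (↥(P : Subgroup (G ⧸ Cfsg.oddCore G)) ≃* QuaternionGroup 4)) := by
  haveI := Fact.mk Nat.prime_two
  rw [or_iff_not_imp_left]
  intro hn
  push Not at hn
  set Q := G ⧸ Cfsg.oddCore G
  let π : G →* Q := QuotientGroup.mk' _
  have hπ : Function.Surjective π := QuotientGroup.mk'_surjective _
  haveI : Group.IsSolvable Q := inferInstance
  have hC : Subgroup.centralizer (pCore 2 Q : Set Q) ≤ pCore 2 Q :=
    Transfer.psol_charP Blk.pSol_of_solvable Solv.pPrimeCore_quotient_pPrimeCore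
  set R := pCore 2 Q
  have pR : IsPGroup 2 R := Solv.isPGroup_pCore 2 Q
  have hrank : PRankLE 2 1 R := by
    obtain ⟨S⟩ : Nonempty (Sylow 2 G) := inferInstance
    obtain ⟨T', hT'⟩ : ∃ T' : Sylow 2 Q, T' ≠ S.mapSurjective hπ := by
      by_contra h
      push Not at h
      haveI : Subsingleton (Sylow 2 Q) := ⟨fun a b => (h a).trans (h b).symm⟩
      exact hn _ (Sylow.normal_of_subsingleton (S.mapSurjective hπ))
    let R0 : Subgroup G := S ⊓ R.comap π
    obtain ⟨P, hP⟩ := ((S.isPGroup'.to_le (inf_le_left : R0 ≤ S)).comap_subtype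
      (K := (T' : Subgroup Q).comap π)).exists_le_sylow
    have hi : ¬ 2 ∣ ((P : Subgroup _).map ((T' : Subgroup Q).comap π).subtype).index := by
      rw [Subgroup.index_map_subtype, Subgroup.index_comap_of_surjective _ hπ, Nat.prime_two.dvd_mul]
      exact not_or.2 ⟨P.not_dvd_index, T'.not_dvd_index⟩
    let T := (P.isPGroup'.map _).toSylow hi
    have hST : S ≠ T := fun e => hT' (Sylow.ext ((S.mapSurjective hπ).is_maximal' T'.isPGroup' (by
      rintro _ ⟨x, hx, rfl⟩
      rw [e] at hx
      obtain ⟨y, -, rfl⟩ := hx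
      exact y.2)))
    have h0 : R0 ≤ (S : Subgroup G) ⊓ T := fun x hx =>
      ⟨hx.1, ⟨x, pR.le_sylow_of_normal T' hx.2⟩, hP hx, rfl⟩
    let f : R0 →* R := (π.comp R0.subtype).codRestrict R fun x => x.2.2
    have hf : Function.Bijective f := by
      constructor
      · rw [injective_iff_map_eq_one]
        intro x hx
        have h4 : x.1 ∈ Cfsg.oddCore G := (QuotientGroup.eq_one_iff _).1 (congrArg Subtype.val hx)
        have h5 := (Solv.coprime_card_pPrimeCore (G := G) 2).coprime_dvd_left (Subgroup.orderOf_dvd_natCard _ h4)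
        obtain ⟨k, hk⟩ := IsPGroup.iff_orderOf.1 (S.isPGroup'.to_le (inf_le_left : R0 ≤ S)) x
        rw [Subgroup.orderOf_coe, hk] at h5
        rw [← orderOf_eq_one_iff, hk]
        rcases k with _ | k
        · rfl
        · exact absurd (Nat.Coprime.eq_one_of_dvd (Nat.Coprime.symm h5) (dvd_pow_self 2 (Nat.succ_ne_zero k))) (by decide)
      · intro r
        obtain ⟨x, hx, e⟩ := pR.le_sylow_of_normal (S.mapSurjective hπ) r.2
        exact ⟨⟨x, hx, show π x ∈ R from e ▸ r.2⟩, Subtype.ext e⟩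
    let j := (Subgroup.inclusion h0).comp (MulEquiv.ofBijective f hf).symm.toMonoidHom
    have hj : Function.Injective j := (Subgroup.inclusion_injective h0).comp (MulEquiv.ofBijective f hf).symm.injective
    intro A hA hA2
    rw [← Subgroup.card_map_of_injective hj]
    refine hI S T hST (A.map j) inferInstance ?_
    rintro _ ⟨a, ha, rfl⟩
    rw [← map_pow, hA2 a ha, map_one]
  have hAut : ¬ IsPGroup 2 (MulAut R) := fun h => by
    have h1 : IsPGroup 2 (⊤ : Subgroup Q) := by
      have h2 := (h.to_subgroup ⊤).comap_of_ker_isPGroup (MulAut.conjNormal (H := R)) (pR.to_le fun g hg =>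
        hC fun r hr => by
          have := congrArg Subtype.val (DFunLike.congr_fun hg ⟨r, hr⟩)
          rw [MulAut.conjNormal_apply, mul_inv_eq_iff_eq_mul] at this
          exact this.symm)
      rwa [Subgroup.comap_top] at h2
    exact hn ⟨⊤, h1, fun _ h => top_le_iff.1 h⟩ (inferInstanceAs (⊤ : Subgroup Q).Normal)
  rcases Solv.isCyclic_or_quaternion pR fun E h1 h2 h3 h4 => by
      have := hrank (E.subgroupOf R) inferInstance fun a ha => Subtype.ext (h4 _ ha)
      rw [Nat.card_congr (Subgroup.subgroupOfEquivOfLe h1).toEquiv, h2] at this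
      omega with h | ⟨-, a, b, m, hm, o, nb, eR, cR, b2, ba⟩
  · refine absurd ?_ hAut
    obtain ⟨k, hk⟩ := IsPGroup.iff_card.1 pR
    rcases k with _ | k
    · exact IsPGroup.of_card (n := 0) (by rw [IsCyclic.card_mulAut, hk]; simp)
    · exact IsPGroup.of_card (n := k) (by rw [IsCyclic.card_mulAut, hk, Nat.totient_prime_pow_succ Nat.prime_two]; simp)
  have ha : a ∈ R := eR ▸ Subgroup.mem_sup_left (Subgroup.mem_zpowers a)
  have hb : b ∈ R := eR ▸ Subgroup.mem_sup_right (Subgroup.mem_zpowers b)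
  have hidx : (Subgroup.zpowers (⟨a, ha⟩ : R)).index = 2 := by
    have := (Subgroup.zpowers (⟨a, ha⟩ : R)).index_mul_card
    rw [Nat.card_zpowers, Subgroup.orderOf_mk, o, cR, pow_succ' 2 (m + 1)] at this
    exact Nat.eq_of_mul_eq_mul_right (by positivity) this
  haveI := Subgroup.normal_of_index_eq_two hidx
  rcases S1896.result pR ⟨_, this, inferInstance, isCyclic_of_prime_card (p := 2) hidx⟩ hAut with ⟨⟨e⟩⟩ | ⟨n, ⟨e⟩⟩
  · exact Ez.O48.main R e hC hn
  · exfalso
    have h1 : b * a = a * b := congrArg Subtype.val (e.injective (a₁ := ⟨b, hb⟩ * ⟨a, ha⟩) (a₂ := ⟨a, ha⟩ * ⟨b, hb⟩)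
      (by rw [map_mul, map_mul, mul_comm]))
    rw [h1, mul_inv_cancel_right, eq_inv_iff_mul_eq_one, ← sq] at ba
    have h2 := Nat.le_of_dvd two_pos (orderOf_dvd_of_pow_eq_one ba)
    have h3 : 2 ^ 2 ≤ 2 ^ (m + 1) := Nat.pow_le_pow_right two_pos (by omega)
    omega

end Cfsg.Agent.S3304
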