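import Cfsg.Statements.S3315
import Cfsg.Agent.Lib.Ez.J6

set_option autoImplicit false
open Cfsg

namespace Cfsg.Agent.S3315

/-- Let S be a Sylow 2-subgroup of SU₃(2ⁿ), n ≥ 2 (realised over the field with 4ⁿ elements). If a finite 2-group R contains a subgroup S' of index 2 isomorphic to S, then the centre of S' is contained in the centre of R. -/
theorem result {R : Type*} [Group R] [Finite R]
    (hR : IsPGroup 2 R) (n : ℕ) (hn : 2 ≤ n) {F : Type*} [Field F] [Fintype F] (hF : Fintype.card F = 4 ^ n)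
    (P : Sylow 2 ↥(Cfsg.SU 3 F (2 ^ n))) (S' : Subgroup R) (hS : Nonempty (↥S' ≃* ↥(P : Subgroup ↥(Cfsg.SU 3 F (2 ^ n)))))
    (hidx : S'.index = 2) :
    (Subgroup.center ↥S').map S'.subtype ≤ Subgroup.center R := by
  obtain ⟨e⟩ := hS
  letI := Fintype.ofFinite S'
  have hF' : Fintype.card F = (2 ^ n) ^ 2 := by rw [hF, ← pow_mul, mul_comm, pow_mul]; norm_num
  haveI : Finite (Cfsg.SU 3 F (2 ^ n)) := inferInstance
  have hs := QuotientGroup.mk'_surjective (Subgroup.center (Cfsg.SU 3 F (2 ^ n)))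
  obtain ⟨h1, h2, h3⟩ := RankOne.sylow_U hn hF' (P.mapSurjective hs)
  have hc : Nat.card (Subgroup.center (Cfsg.SU 3 F (2 ^ n))) ∣ 3 := by
    rw [S0279.result hF' 3 le_rfl]; exact Nat.gcd_dvd_left _ _
  have hinj : Function.Injective ((QuotientGroup.mk' (Subgroup.center (Cfsg.SU 3 F (2 ^ n)))).subgroupMap P) := by
    rw [injective_iff_map_eq_one]
    intro x hx
    have h4 : x.1 ∈ Subgroup.center (Cfsg.SU 3 F (2 ^ n)) :=
      (QuotientGroup.eq_one_iff _).1 (congrArg Subtype.val hx)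
    have h5 := (Subgroup.orderOf_dvd_natCard _ h4).trans hc
    obtain ⟨k, hk⟩ := IsPGroup.iff_orderOf.1 P.isPGroup' x
    rw [Subgroup.orderOf_coe, hk] at h5
    have h6 : Nat.Coprime (2 ^ k) 3 := Nat.Coprime.pow_left _ (by norm_num)
    rw [← orderOf_eq_one_iff, hk]
    exact h6.eq_one_of_dvd h5
  let e' : S' ≃* (P.mapSurjective hs : Subgroup (Cfsg.PSU 3 F (2 ^ n))) :=
    e.trans (MulEquiv.ofBijective _ ⟨hinj, MonoidHom.subgroupMap_surjective _ _⟩)
  have h : Ez.Gs.SQ S' (2 ^ n) := Ez.Gs.of_suz (RankOne.suz_congr e'.symm h3) ((Nat.card_congr e'.toEquiv).trans h1)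
    ((Nat.card_congr (Subgroup.centerCongr e').toEquiv).trans h2)
    (le_trans (by norm_num) (Nat.pow_le_pow_right two_pos hn))
  haveI := Subgroup.normal_of_index_eq_two hidx
  rintro _ ⟨z, hz, rfl⟩
  rw [Subgroup.mem_center_iff]
  intro r
  have h4 := h.fix (MulAut.conjNormal r) (fun x => by
    have h5 := h.comm ⟨r * r, Subgroup.mul_self_mem_of_index_two hidx r⟩ x
    convert h5 using 1
    apply Subtype.ext
    simp [commutatorElement_def, mul_assoc]) hz
  have h5 := congrArg Subtype.val h4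
  rw [MulAut.conjNormal_apply, mul_inv_eq_iff_eq_mul] at h5
  exact h5

end Cfsg.Agent.S3315
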