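import Cfsg.Statements.S3335
import Cfsg.Agent.Lib.Classical.Pres1

set_option autoImplicit false
open Cfsg

namespace Cfsg.Agent.S3335
open Cfsg.Agent.Classical

open Pres Equiv in
theorem closure_mul {Ω : Type*} [Fintype Ω] [DecidableEq Ω] (S : Set (Perm Ω)) (hS : Subgroup.closure S = ⊤)
    (s : Perm Ω) (hs : Perm.sign s = -1) (h : ∀ t ∈ S, t⁻¹ = t) (hs' : s⁻¹ = s) (H : Subgroup (Perm Ω))
    (hH : H ≤ alternatingGroup Ω) (m : ∀ t ∈ S, s * t ∈ H) : alternatingGroup Ω ≤ H := by
  intro g hg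
  have key : ∀ g, g ∈ H ∨ s * g ∈ H := by
    intro g
    have hg : g ∈ Subgroup.closure S := hS ▸ Subgroup.mem_top g
    have step : ∀ t ∈ S, ∀ g, g ∈ H ∨ s * g ∈ H → t * g ∈ H ∨ s * (t * g) ∈ H := by
      rintro t ht g (h' | h')
      · exact Or.inr (by rw [← mul_assoc]; exact mul_mem (m t ht) h')
      · left
        have := mul_mem (inv_mem (m t ht)) h'
        rwa [mul_inv_rev, mul_assoc, inv_mul_cancel_left, h t ht] at this
    induction hg using Subgroup.closure_induction_left with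
    | one => exact Or.inl H.one_mem
    | mul_left x hx y _ ih => exact step x hx y ih
    | inv_mul_cancel x hx y _ ih => rw [h x hx]; exact step x hx y ih
  rcases key g with h | h
  · exact h
  · have := hH h
    rw [Perm.mem_alternatingGroup] at this hg
    simp [hg, hs] at this

theorem cube_inv {G : Type*} [Group G] {a b : G} (h : (a * b) ^ 3 = 1) : (a⁻¹ * b⁻¹) ^ 3 = 1 := by
  calc (a⁻¹ * b⁻¹) ^ 3 = a⁻¹ * ((a * b) ^ 3)⁻¹ * a := by simp [pow_succ, mul_assoc]
    _ = 1 := by rw [h]; simp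

theorem T_comm' {G : Type*} [Group G] {a b : G} (h : (a⁻¹ * b) ^ 2 = 1) (h' : (a * b⁻¹) ^ 2 = 1) :
    Commute (Pres.T a) (Pres.T b) :=
  Pres.comm_of_sq (Pres.T_sq a) (Pres.T_sq b)
    (by rw [Pres.T_mul, ← map_pow, Prod.pow_mk, h, h']; exact map_one _)


/-- A presentation of the alternating group of degree n ≥ 3 on generators x_1, …, x_{n−2} (indexed here by 0, …, n−3): the first generator cubes to 1, every other generator squares to 1, the product of two consecutive generators has order dividing 3, and the product of two generators at distance at least 2 has order dividing 2. The group so presented is isomorphic to the alternating group of degree n. -/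
theorem result (n : ℕ) (hn : 3 ≤ n) :
    Nonempty (PresentedGroup
      ({g : FreeGroup (Fin (n - 2)) | ∃ i : Fin (n - 2), i.val = 0 ∧ g = FreeGroup.of i ^ 3} ∪
       {g | ∃ i : Fin (n - 2), 1 ≤ i.val ∧ g = FreeGroup.of i ^ 2} ∪
       {g | ∃ i j : Fin (n - 2), j.val = i.val + 1 ∧ g = (FreeGroup.of i * FreeGroup.of j) ^ 3} ∪
       {g | ∃ i j : Fin (n - 2), i.val + 1 < j.val ∧ g = (FreeGroup.of i * FreeGroup.of j) ^ 2})
      ≃* alternatingGroup (Fin n)) := by
  obtain ⟨m, rfl⟩ : ∃ m, n = m + 2 := ⟨n - 2, by omega⟩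
  let s := PC.sw (m + 1)
  have c : PC.CoxA s (m + 1) := PC.coxA_swap (PC.ofNat_inj (m + 1))
  have sg : ∀ i < m + 1, Equiv.Perm.sign (s i) = -1 := fun i hi => (PC.sw_isSwap hi).sign_eq
  have si : ∀ i < m + 1, (s i)⁻¹ = s i := fun i hi => inv_eq_of_mul_eq_one_right (c.sq i hi)
  have c' : ∀ i < m + 1, ∀ x, s i * (s i * x) = x := fun i hi x => by rw [← mul_assoc, c.sq i hi, one_mul]
  let x : Fin (m + 2 - 2) → alternatingGroup (Fin (m + 2)) := fun i => ⟨s 0 * s (i + 1), by
    rw [Equiv.Perm.mem_alternatingGroup, map_mul, sg 0 (by omega), sg _ (by have := i.2; omega)]; rfl⟩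
  have cube : ∀ {a b : Equiv.Perm (Fin (m + 2))}, a * a = 1 → b * b = 1 → a * b * a = b * a * b → (a * b) ^ 3 = 1 := by
    intro a b ha hb h
    calc (a * b) ^ 3 = (a * b * a) * (b * a * b) := by simp [pow_succ, mul_assoc]
      _ = b * a * (b * b) * a * b := by rw [h]; simp only [mul_assoc]
      _ = 1 := by rw [hb, mul_one, mul_assoc b, ha, mul_one, hb]
  have sq : ∀ {a b : Equiv.Perm (Fin (m + 2))}, a * a = 1 → b * b = 1 → Commute a b → (a * b) ^ 2 = 1 := by
    intro a b ha hb h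
    rw [h.mul_pow, pow_two, pow_two, ha, hb, one_mul]
  have cj : ∀ i < m + 1, s 0 * s i * s 0 * (s 0 * s i * s 0) = 1 := fun i hi => by
    simp only [mul_assoc, c' 0 (by omega), c' i hi, c.sq 0 (by omega)]
  have hgen : Subgroup.closure (Set.range x) = ⊤ := by
    apply Subgroup.map_injective (alternatingGroup (Fin (m + 2))).subtype_injective
    rw [← MonoidHom.range_eq_map, Subgroup.range_subtype]
    refine le_antisymm (Subgroup.map_subtype_le _) (closure_mul _ (PC.gen_sw (m + 1)) (s 0) (sg 0 (by omega)) ?_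
      (si 0 (by omega)) _ (Subgroup.map_subtype_le _) ?_)
    · rintro _ ⟨i, hi, rfl⟩; exact si i hi
    · rintro _ ⟨_ | i, hi, rfl⟩
      · rw [c.sq 0 hi]; exact one_mem _
      · exact ⟨x ⟨i, by simp at hi; omega⟩, Subgroup.subset_closure ⟨_, rfl⟩, rfl⟩
  refine (Pres.exists_equiv _ x ?_ hgen ?_).elim fun e _ => ⟨e⟩
  · rintro r (((⟨i, hi, rfl⟩ | ⟨i, hi, rfl⟩) | ⟨i, j, hi, rfl⟩) | ⟨i, j, hi, rfl⟩) <;>
      simp only [map_pow, map_mul, FreeGroup.lift_apply_of] <;> apply Subtype.ext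
    · show (s 0 * s (i + 1)) ^ 3 = 1
      rw [hi]; exact cube (c.sq 0 (by omega)) (c.sq 1 (by omega)) (c.br 0 (by omega))
    · have := i.2
      exact sq (c.sq 0 (by omega)) (c.sq _ (by omega)) (c.cm 0 _ (by omega) (by omega))
    · have := j.2
      show (s 0 * s (i + 1) * (s 0 * s (j + 1))) ^ 3 = 1
      rw [← mul_assoc, hi]
      refine cube (cj _ (by omega)) (c.sq _ (by omega)) ?_
      have h1 := (c.cm 0 (i + 1 + 1) (by omega) (by omega)).eq
      have h2 := c.br (i + 1) (by omega)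
      have h3 : s (i + 1 + 1) = s 0 * s (i + 1 + 1) * s 0 := by rw [h1, mul_assoc, c.sq 0 (by omega), mul_one]
      rw [h3]
      simp only [mul_assoc, c' 0 (by omega)] at h2 ⊢
      rw [← mul_assoc (s (i + 1 + 1)) (s (i + 1)), ← mul_assoc (s (i + 1)), ← mul_assoc (s (i + 1)),
        mul_assoc (s (i + 1)), h2]
      simp only [mul_assoc]
    · have := j.2
      show (s 0 * s (i + 1) * (s 0 * s (j + 1))) ^ 2 = 1
      rw [← mul_assoc]
      have h1 := c.cm 0 (j + 1) (by omega) (by omega)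
      exact sq (cj _ (by omega)) (c.sq _ (by omega)) ((h1.mul_left (c.cm _ _ (by omega) (by omega))).mul_left h1)
  · intro J _ g π hr hπ hg j hj
    let y : ℕ → J := fun i => if h : i < m + 2 - 2 then g ⟨i, h⟩ else 1
    have hy : ∀ i (h : i < m + 2 - 2), y i = g ⟨i, h⟩ := fun i h => dif_pos h
    have r0 : y 0 ^ 3 = 1 := by
      simpa [hy 0 (by omega)] using hr _ (Or.inl (Or.inl (Or.inl ⟨⟨0, by omega⟩, rfl, rfl⟩)))
    have r1 : ∀ i, 1 ≤ i → i < m → (y i)⁻¹ = y i := fun i h1 h2 => by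
      refine inv_eq_of_mul_eq_one_right ?_
      simpa [hy i (by omega), pow_two] using hr _ (Or.inl (Or.inl (Or.inr ⟨⟨i, by omega⟩, h1, rfl⟩)))
    have r2 : ∀ i, i + 1 < m → (y i * y (i + 1)) ^ 3 = 1 := fun i h => by
      simpa [hy i (by omega), hy (i + 1) (by omega)] using
        hr _ (Or.inl (Or.inr ⟨⟨i, by omega⟩, ⟨i + 1, by omega⟩, rfl, rfl⟩))
    have r3 : ∀ i j, i + 1 < j → j < m → (y i * y j) ^ 2 = 1 := fun i j h h' => by
      simpa [hy i (by omega), hy j (by omega)] using hr _ (Or.inr ⟨⟨i, by omega⟩, ⟨j, by omega⟩, h, rfl⟩)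
    let t : ℕ → Pres.Wr J := fun k => Nat.casesOn k (Pres.T 1) fun k => Pres.T (y k)
    obtain ⟨φ, hφ⟩ := PC.CoxA.hom (s := t) (m := m + 1) ⟨fun i _ => by cases i <;> exact Pres.T_sq _, fun i hi => by
      rcases i with _ | i
      · exact Pres.T_cube (by simpa using r0) (by simpa using r0)
      · refine Pres.T_cube ?_ ?_
        · rw [← r1 (i + 1) (by omega) (by omega)]; exact cube_inv (r2 i (by omega))
        · rw [r1 (i + 1) (by omega) (by omega)]; exact r2 i (by omega), fun i j a b => by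
      obtain ⟨j, rfl⟩ : ∃ k, j = k + 1 := ⟨j - 1, by omega⟩
      have h1 := r1 j (by omega) (by omega)
      have h2 : y j ^ 2 = 1 := by rw [pow_two]; nth_rw 1 [← h1]; exact inv_mul_cancel _
      rcases i with _ | i
      · exact T_comm' (by simpa using h2) (by simpa using h2)
      · refine T_comm' ?_ ?_
        · rw [← h1]; exact Pres.sq_inv (r3 i j (by omega) (by omega))
        · rw [h1]; exact r3 i j (by omega) (by omega)⟩
    obtain ⟨ψ, hψ⟩ := Pres.alt_of_hom φ _ (PC.gen_sw (m + 1)) (by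
      rintro _ ⟨i, hi, rfl⟩
      exact ⟨sg i hi, by rw [hφ i hi]; cases i <;> rfl⟩)
    have : ψ.comp π = MonoidHom.id _ := MonoidHom.eq_of_eqOn_dense hg (by
      rintro _ ⟨i, rfl⟩
      have := i.2
      show ψ (π (g i)) = g i
      rw [hπ, hψ]
      show (φ (s 0 * s (i + 1))).left.1 = _
      rw [map_mul, hφ _ (by omega), hφ _ (by omega)]
      show (Pres.T 1 * Pres.T (y i)).left.1 = _
      rw [Pres.T_mul, hy i i.2]; simp)
    rw [← MonoidHom.id_apply J j, ← this, MonoidHom.comp_apply, hj, map_one]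

end Cfsg.Agent.S3335
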