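import Cfsg.Statements.S3341
import Cfsg.Agent.Lib.Ez.E3
import Cfsg.Agent.S0497

set_option autoImplicit false
open Cfsg

namespace Cfsg.Agent.S3341

open Cfsg.Agent.Ez Cfsg.Agent.Comp Cfsg.Agent.BG Subgroup in
theorem no684 {G : Type*} [Group G] [Finite G] [IsSimpleGroup G] (h : Nat.card G = 684) : False := by
  have : Fact (Nat.Prime 19) := ⟨by norm_num⟩
  obtain ⟨Q⟩ : Nonempty (Sylow 19 G) := inferInstance
  have h1 := card_sylow_modEq_one 19 G
  have h2 := Q.card_dvd_index
  have h3 : Nat.card Q = 19 := by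
    rw [Q.card_eq_multiplicity, h, show 684 = 19 * 36 by norm_num,
      Nat.factorization_mul (by norm_num) (by norm_num), Finsupp.add_apply,
      Nat.Prime.factorization_self (by norm_num),
      Nat.factorization_eq_zero_of_not_dvd (by norm_num)]
    rfl
  have h4 := (Q : Subgroup G).card_mul_index
  rw [h3, h] at h4
  rw [show (Q : Subgroup G).index = 36 by omega] at h2
  have h5 : Nat.card (Sylow 19 G) = 1 := by
    have := Nat.le_of_dvd (by norm_num) h2
    unfold Nat.ModEq at h1
    have h6 : Nat.card (Sylow 19 G) = 1 ∨ Nat.card (Sylow 19 G) = 20 := by omega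
    rcases h6 with e | e
    · exact e
    · rw [e] at h2; omega
  have : Subsingleton (Sylow 19 G) := (Nat.card_eq_one_iff_unique.1 h5).1
  rcases (Q.normal_of_subsingleton).eq_bot_or_eq_top with e | e
  · rw [e, card_bot] at h3; omega
  · rw [e, card_top, h] at h3; omega

/-- Let G be a finite simple group whose Sylow 3-subgroup S is elementary abelian of order 9, such that G has more than one conjugacy class of elements of order 3 and C_G(s) = S for every non-identity s in S. Then G is isomorphic to the alternating group of degree 6. -/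
theorem result {G : Type*} [Group G] [Finite G] [IsSimpleGroup G]
    (P : Sylow 3 G) (S : Subgroup G) (hSP : S = P) (hcomm : IsMulCommutative S) (hexp : ∀ a ∈ S, a ^ 3 = 1)
    (hcard : Nat.card S = 9)
    (hclasses : ∃ a b : G, orderOf a = 3 ∧ orderOf b = 3 ∧ ∀ g : G, g * a * g⁻¹ ≠ b)
    (hcent : ∀ s ∈ S, s ≠ 1 → Subgroup.centralizer ({s} : Set G) = S) :
    Nonempty (G ≃* alternatingGroup (Fin 6)) := by
  open Cfsg.Agent.Ez Cfsg.Agent.Comp Cfsg.Agent.BG Subgroup in
  have : Fact (Nat.Prime 3) := ⟨by norm_num⟩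
  have h : C9 S := ⟨hSP ▸ sylIn_top P, hcard, hexp, hcent⟩
  have hN : Nm(S) ≠ ⊤ := fun e => by
    rcases (normalizer_eq_top_iff.1 e).eq_bot_or_eq_top with e | e
    · rw [e, card_bot] at hcard; omega
    · have : IsMulCommutative G := ⟨⟨fun a b => h.t3.ab a (e ▸ mem_top a) b (e ▸ mem_top b)⟩⟩
      have := Group.is_simple_iff_prime_card.1 (inferInstance : IsSimpleGroup G)
      rw [e, card_top] at hcard
      rw [hcard] at this
      norm_num at this
  have e1 : S.relIndex Nm(S) ≠ 1 := fun e => by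
    have k := relIndex_eq_one.1 e
    obtain ⟨Q, N, hn, hc⟩ := Transfer.hasNPC_of_normalizer_le_centralizer P
      (hSP ▸ fun x hx s hs => h.t3.ab _ hs _ (k hx))
    have hQ := (sylIn_top Q).card_eq_card h.syl
    rcases hn.eq_bot_or_eq_top with a | a
    · rw [a, isComplement'_bot_left] at hc
      rw [hc] at hQ
      exact hN (top_unique ((eq_of_le_of_card_ge le_top hQ.le).ge.trans le_normalizer))
    · rw [a, isComplement'_top_left] at hc
      rw [hc, card_bot] at hQ; omega
  have e3 : ¬ 3 ∣ S.relIndex Nm(S) := (h.syl.of_le le_normalizer le_top).not_dvd_relIndex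
  have e0 : S.relIndex Nm(S) ≠ 0 := index_ne_zero_of_finite
  have into : ∀ a : G, orderOf a = 3 → ∃ x ∈ S, x ≠ 1 ∧ IsConj a x := fun a ha => by
    obtain ⟨g, -, hg⟩ := h.syl.exists_cj_le (pg_of_cube (ha ▸ pow_orderOf_eq_one a)) le_top
    refine ⟨_, hg (conj_mem_cj.2 (mem_zpowers a)), fun e => ?_, isConj_iff.2 ⟨g, rfl⟩⟩
    rw [conj_eq_one_iff.1 e, orderOf_one] at ha; omega
  obtain ⟨a, b, ha, hb, hab⟩ := hclasses
  obtain ⟨x, x1, x2, x3⟩ := into a ha
  obtain ⟨y, y1, y2, y3⟩ := into b hb
  have hxy : ¬ IsConj x y := fun e => by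
    obtain ⟨g, hg⟩ := isConj_iff.1 ((x3.trans e).trans y3.symm)
    exact hab g hg
  have key := Nat.card_le_card_of_injective (β := S)
    (fun v : Option ({z : G // IsConj x z ∧ z ∈ S} ⊕ {z : G // IsConj y z ∧ z ∈ S}) =>
      v.elim 1 (Sum.elim (fun z => ⟨z, z.2.2⟩) fun z => ⟨z, z.2.2⟩)) (by
      rintro (_ | ⟨z, z1, z2⟩ | ⟨z, z1, z2⟩) (_ | ⟨w, w1, w2⟩ | ⟨w, w1, w2⟩) e <;>
        replace e := congrArg Subtype.val e <;> simp only [Option.elim, Sum.elim_inl, Sum.elim_inr,
          coe_one] at e <;> try subst e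
      · rfl
      · exact absurd (isConj_one_left.1 w1) x2
      · exact absurd (isConj_one_left.1 w1) y2
      · exact absurd (isConj_one_left.1 z1) x2
      · rfl
      · exact absurd (z1.trans w1.symm) hxy
      · exact absurd (isConj_one_left.1 z1) y2
      · exact absurd (w1.trans z1.symm) hxy
      · rfl)
  rw [Finite.card_option, Nat.card_sum, h.cls x1 x2, h.cls y1 y2, hcard] at key
  have : S.relIndex Nm(S) = 2 ∨ S.relIndex Nm(S) = 4 := by omega
  rcases this with e | e
  · exact absurd (h.two e) hN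
  · rcases h.four e with e | e | e
    · exact absurd e hN
    · exact Cfsg.Agent.S0497.result e
    · exact (no684 e).elim

end Cfsg.Agent.S3341
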