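import Cfsg.Statements.S3349
import Cfsg.Agent.Lib.Transfer.Basic

set_option autoImplicit false
open Cfsg

namespace Cfsg.Agent.S3349

open Subgroup

/-- Let Q be a finite extraspecial p-group and α an automorphism of Q fixing every element of some maximal abelian subgroup of Q. Then the order of α is a power of p. -/
theorem result {Q : Type*} [Group Q] [Finite Q]
    (p : ℕ) [Fact p.Prime] (hQ : Cfsg.IsExtraspecial p Q) (α : MulAut Q)
    (A : Subgroup Q) (hA : IsMulCommutative A) (hmax : ∀ B : Subgroup Q, A ≤ B → IsMulCommutative B → B = A)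
    (hfix : ∀ a ∈ A, α a = a) :
    ∃ k : ℕ, orderOf α = p ^ k := by
  have m : ∀ x, (∀ a ∈ A, a * x = x * a) → x ∈ A := fun x hx => by
    suffices h : ∀ a ∈ insert x (A : Set Q), ∀ b ∈ insert x (A : Set Q), a * b = b * a by
      have : IsMulCommutative (closure (insert x (A : Set Q))) := isMulCommutative_closure h
      rw [← hmax _ (fun a ha => subset_closure (Set.mem_insert_of_mem _ ha)) this]
      exact subset_closure (Set.mem_insert _ _)
    rintro a (rfl | ha) b (rfl | hb)
    · rfl
    · exact (hx b hb).symm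
    · exact hx a ha
    · exact congrArg Subtype.val (hA.is_comm.comm ⟨a, ha⟩ ⟨b, hb⟩)
  have n : ∀ x, ∀ a ∈ A, x * a * x⁻¹ ∈ A := fun x a ha => by
    have : x * a * x⁻¹ * a⁻¹ ∈ center Q := hQ.1.2.2 ▸ commutator_mem_commutator (mem_top x) (mem_top a)
    simpa using mul_mem (m _ fun b _ => mem_center_iff.1 this b) ha
  have c : ∀ x, x⁻¹ * α x ∈ A := fun x => m _ fun a ha => by
    have := hfix _ (n x a ha)
    rw [map_mul, map_mul, hfix a ha, map_inv, mul_inv_eq_iff_eq_mul] at this
    rw [mul_assoc, this]; group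
  have k : ∀ (j : ℕ) x, (α ^ j) x = x * (x⁻¹ * α x) ^ j := fun j x => by
    induction j with
    | zero => simp
    | succ j ih => rw [pow_succ', MulAut.mul_apply, ih, map_mul, hfix _ (pow_mem (c x) j), pow_succ', ← mul_assoc, mul_inv_cancel_left]
  obtain ⟨j, hj⟩ := hQ.1.1.exists_card_eq
  exact ((Nat.dvd_prime_pow Fact.out).1 (orderOf_dvd_of_pow_eq_one (n := p ^ j) (MulEquiv.ext fun x => by
    rw [k, ← hj, pow_card_eq_one', mul_one]; rfl))).imp fun _ h => h.2

end Cfsg.Agent.S3349
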