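import Cfsg.Statements.S3356
import Cfsg.Agent.Lib.BG.MinNA

set_option autoImplicit false
open Cfsg

namespace Cfsg.Agent.S3356
section
open Pointwise commutatorElement Subgroup
open Subgroup in
theorem orb {B X : Type*} [Group B] [MulAction B X] [Finite X] [Finite B] {c m : ℕ}
    (h : ∀ x : X, Nat.card (MulAction.stabilizer B x) = c) (hm : Nat.card B = m * c) : m ∣ Nat.card X := by
  classical
  haveI := Fintype.ofFinite (MulAction.orbitRel.Quotient B X)
  rw [Nat.card_congr (MulAction.selfEquivSigmaOrbits' B X), Nat.card_sigma]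
  refine Finset.dvd_sum fun ω _ => ?_
  obtain ⟨x, rfl⟩ := Quotient.exists_rep ω
  have h1 := (MulAction.stabilizer B x).card_mul_index
  rw [h x, hm, MulAction.index_stabilizer, mul_comm m] at h1
  have h2 : 0 < c := h x ▸ Nat.card_pos
  rw [← Nat.eq_of_mul_eq_mul_left h2 h1]
  exact dvd_of_eq rfl

open Cfsg.Agent.Comp Cfsg.Agent.BG Subgroup commutatorElement in
theorem div {G : Type*} [Group G] [Finite G] {B : Subgroup G} {X : Set G} {c m : ℕ}
    (hX : ∀ b ∈ B, ∀ x ∈ X, b * x * b⁻¹ ∈ X) (h : ∀ x ∈ X, Nat.card (B ⊓ C1(x) : Subgroup G) = c)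
    (hm : Nat.card B = m * c) : m ∣ Nat.card X := by
  letI : MulAction B X :=
    { smul := fun b x => ⟨b * x * b⁻¹, hX b b.2 x x.2⟩
      one_smul := fun x => Subtype.ext (by change ((1 : B) : G) * x * ((1 : B) : G)⁻¹ = x; simp)
      mul_smul := fun a b x => Subtype.ext (by
        change ((a * b : B) : G) * x * ((a * b : B) : G)⁻¹ = a * (b * x * (b : G)⁻¹) * (a : G)⁻¹
        simp [mul_assoc]) }
  refine orb (B := B) (fun x => ?_) hm
  have : MulAction.stabilizer B x = (B ⊓ C1((x : G))).subgroupOf B := by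
    ext b
    rw [MulAction.mem_stabilizer_iff, Subtype.ext_iff, mem_subgroupOf, mem_inf, mem_centralizer_singleton_iff]
    change (b : G) * x * (b : G)⁻¹ = x ↔ _
    rw [mul_inv_eq_iff_eq_mul]
    exact ⟨fun h => ⟨b.2, h⟩, fun h => h.2⟩
  rw [this, Nat.card_congr (subgroupOfEquivOfLe inf_le_left).toEquiv, h x x.2]

open Cfsg.Agent.Comp Cfsg.Agent.BG Subgroup commutatorElement in
theorem key {G : Type*} [Group G] [Finite G] {N H B : Subgroup G} [N.Normal] {c : ℕ}
    (hc : ∀ x ∈ N, x ≠ 1 → Nat.card (H ⊓ C1(x) : Subgroup G) = c) (hB : B ≤ H) {X : Set G}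
    (h1 : ∀ x ∈ X, x ∈ N ∧ x ≠ 1) (hX : ∀ b ∈ B, ∀ x ∈ X, b * x * b⁻¹ ∈ X) (h2 : ∀ x ∈ X, H ⊓ C1(x) ≤ B)
    (h3 : Nat.card X ∣ Nat.card N) : ∀ x ∈ X, B ≤ C1(x) := by
  intro x hx
  have e : ∀ y ∈ X, B ⊓ C1(y) = H ⊓ C1(y) := fun y hy =>
    le_antisymm (inf_le_inf_right _ hB) (le_inf (h2 y hy) inf_le_right)
  have hx' := hc x (h1 x hx).1 (h1 x hx).2
  obtain ⟨m, hm⟩ := card_dvd_of_le (h2 x hx)
  obtain ⟨k, hk⟩ := card_dvd_of_le hB
  rw [hx', mul_comm] at hm
  have d1 := (div hX (fun y hy => by rw [e y hy, hc y (h1 y hy).1 (h1 y hy).2]) hm).trans h3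
  have d2 : m * k ∣ Nat.card ((N : Set G) \ {1} : Set G) :=
    div (B := H) (c := c) (fun b _ y hy => ⟨Normal.conj_mem inferInstance y hy.1 b, fun h => hy.2 (by simpa using h)⟩)
      (fun y hy => hc y hy.1 hy.2) (by rw [hk, hm]; ring)
  rw [Nat.card_coe_set_eq, Set.ncard_diff_singleton_of_mem (SetLike.mem_coe.2 N.one_mem), ← Nat.card_coe_set_eq] at d2
  have d3 : m ∣ Nat.card N - (Nat.card N - 1) := Nat.dvd_sub d1 ((dvd_mul_right m k).trans d2)
  have hp : 0 < Nat.card N := Nat.card_pos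
  rw [show Nat.card N - (Nat.card N - 1) = 1 by omega, Nat.dvd_one] at d3
  rw [d3, one_mul, ← hx'] at hm
  exact (eq_of_le_of_card_ge (h2 x hx) hm.le).ge.trans inf_le_right

open Cfsg.Agent.Comp Cfsg.Agent.BG Subgroup commutatorElement in
theorem abs {G : Type*} [Group G] [Finite G] {N H : Subgroup G} [N.Normal] {c : ℕ}
    (hc : ∀ x ∈ N, x ≠ 1 → Nat.card (H ⊓ C1(x) : Subgroup G) = c) (hc1 : c ≠ 1) (hf : H ⊓ Ct(N) = ⊥) :
    (∀ M : Subgroup G, M.Normal → M ≤ N → M = ⊥ ∨ M = N) ∧ IsMulCommutative N := by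
  have gen : ∀ x ∈ N, x ≠ 1 → ∀ P : Subgroup G, ¬ N ≤ P → ¬ ∀ y ∈ N, y ∉ P → H ⊓ C1(x) ≤ C1(y) := by
    intro x hx hx1 P hP h
    obtain ⟨y, hy, hyP⟩ := SetLike.not_le_iff_exists.1 hP
    apply hc1
    rw [← hc x hx hx1, card_eq_one, eq_bot_iff, ← hf]
    intro g hg
    refine ⟨hg.1, mem_centralizer_iff.2 fun n hn => ?_⟩
    by_cases hn' : n ∈ P
    · have h1 := mem_centralizer_singleton_iff.1 (h y hy hyP hg)
      have h2 := mem_centralizer_singleton_iff.1 (h (n * y) (N.mul_mem hn hy) (by rwa [P.mul_mem_cancel_left hn']) hg)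
      rw [← mul_assoc, mul_assoc n, ← h1, ← mul_assoc] at h2
      exact (mul_right_cancel h2).symm
    · exact (mem_centralizer_singleton_iff.1 (h n hn hn' hg)).symm
  have eqc : ∀ x ∈ N, x ≠ 1 → ∀ y ∈ N, y ≠ 1 → H ⊓ C1(x) ≤ C1(y) → H ⊓ C1(y) ≤ C1(x) := by
    intro x hx hx1 y hy hy1 h
    exact (eq_of_le_of_card_ge (le_inf inf_le_left h) (by rw [hc x hx hx1, hc y hy hy1])).ge.trans inf_le_right
  constructor
  · intro M hM hMN
    by_contra hne
    rw [not_or] at hne
    obtain ⟨⟨x, hx⟩, hx1⟩ := ne_bot_iff_exists_ne_one.1 hne.1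
    have hx1' : x ≠ 1 := fun h => hx1 (Subtype.ext h)
    refine gen x (hMN hx) hx1' M (fun h => hne.2 (le_antisymm hMN h)) fun y hy hyM => ?_
    have hy1 : y ≠ 1 := fun h => hyM (h ▸ M.one_mem)
    refine eqc y hy hy1 x (hMN hx) hx1' ?_
    let π := QuotientGroup.mk' M
    have hk := key hc (B := H ⊓ (C1(π y)).comap π) inf_le_left (X := π ⁻¹' {π y}) (by
        intro z hz
        have h1 : z⁻¹ * y ∈ M := QuotientGroup.eq.1 hz
        refine ⟨?_, fun h => hyM (by simpa [h] using h1)⟩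
        simpa using (N.mul_mem_cancel_right hy).1 (hMN h1))
      (by
        intro b hb z hz
        have h1 : π z = π y := hz
        have h2 : π b * π y = π y * π b := mem_centralizer_singleton_iff.1 hb.2
        change π (b * z * b⁻¹) = π y
        rw [map_mul, map_mul, map_inv, h1, h2, mul_inv_cancel_right])
      (by
        intro z hz g hg
        have h1 : π z = π y := hz
        refine ⟨hg.1, mem_centralizer_singleton_iff.2 ?_⟩
        rw [← h1, ← map_mul, ← map_mul, mem_centralizer_singleton_iff.1 hg.2])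
      (by
        refine (QuotientGroup.card_preimage_mk M {π y}).dvd.trans ?_
        simpa using card_dvd_of_le hMN)
    have h1 : H ⊓ C1(y) ≤ H ⊓ (C1(π y)).comap π := by
      intro g hg
      refine ⟨hg.1, mem_centralizer_singleton_iff.2 ?_⟩
      rw [← map_mul, ← map_mul, mem_centralizer_singleton_iff.1 hg.2]
    intro g hg
    have h2 := mem_centralizer_singleton_iff.1 (hk (x * y) (by
      change π (x * y) = π y
      rw [map_mul, show π x = 1 from (QuotientGroup.eq_one_iff x).2 hx, one_mul]) (h1 hg))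
    rw [← mul_assoc, mul_assoc x, ← mem_centralizer_singleton_iff.1 hg.2, ← mul_assoc] at h2
    exact mem_centralizer_singleton_iff.2 (mul_right_cancel h2)
  · have cls : ∀ x ∈ N, x ≠ 1 → ∀ n ∈ N, H ⊓ C1(x) ≤ C1(n * x * n⁻¹) := by
      intro x hx hx1
      let B : Subgroup G :=
        { carrier := {b | ∃ n ∈ N, b * x * b⁻¹ = n * x * n⁻¹}
          one_mem' := ⟨1, N.one_mem, rfl⟩
          mul_mem' := by
            rintro a b ⟨n, hn, e1⟩ ⟨n', hn', e2⟩
            refine ⟨a * n' * a⁻¹ * n, N.mul_mem (Normal.conj_mem inferInstance _ hn' a) hn, ?_⟩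
            calc a * b * x * (a * b)⁻¹ = a * (b * x * b⁻¹) * a⁻¹ := by group
              _ = a * n' * a⁻¹ * (a * x * a⁻¹) * (a * n' * a⁻¹)⁻¹ := by rw [e2]; group
              _ = _ := by rw [e1]; group
          inv_mem' := by
            rintro a ⟨n, hn, e1⟩
            refine ⟨a⁻¹ * n⁻¹ * a⁻¹⁻¹, Normal.conj_mem inferInstance _ (N.inv_mem hn) _, ?_⟩
            calc a⁻¹ * x * a⁻¹⁻¹ = a⁻¹ * n⁻¹ * (n * x * n⁻¹) * n * a := by group
              _ = _ := by rw [← e1]; group }
      have h2 : ∀ z ∈ {z | ∃ n ∈ N, z = n * x * n⁻¹}, H ⊓ C1(z) ≤ H ⊓ B := by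
        rintro _ ⟨n, hn, rfl⟩ g hg
        have h1 := mem_centralizer_singleton_iff.1 hg.2
        refine ⟨hg.1, g * n⁻¹ * g⁻¹ * n, N.mul_mem (Normal.conj_mem inferInstance _ (N.inv_mem hn) g) hn, ?_⟩
        calc g * x * g⁻¹ = g * n⁻¹ * g⁻¹ * (g * (n * x * n⁻¹)) * n * g⁻¹ := by group
          _ = _ := by rw [h1]; group
      have hk := key hc (B := H ⊓ B) inf_le_left (X := {z | ∃ n ∈ N, z = n * x * n⁻¹}) (by
          rintro _ ⟨n, hn, rfl⟩
          exact ⟨N.mul_mem (N.mul_mem hn hx) (N.inv_mem hn), by simpa using hx1⟩)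
        (by
          rintro b ⟨-, n', hn', e⟩ _ ⟨n, hn, rfl⟩
          refine ⟨b * n * b⁻¹ * n', N.mul_mem (Normal.conj_mem inferInstance _ hn b) hn', ?_⟩
          calc b * (n * x * n⁻¹) * b⁻¹ = b * n * b⁻¹ * (b * x * b⁻¹) * (b * n * b⁻¹)⁻¹ := by group
            _ = _ := by rw [e]; group) h2
        (by
          have : {z | ∃ n ∈ N, z = n * x * n⁻¹} = MulAction.orbit (N.map (MulAut.conj : G →* MulAut G)) x := by
            ext z
            constructor
            · rintro ⟨n, hn, rfl⟩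
              exact ⟨⟨_, n, hn, rfl⟩, rfl⟩
            · rintro ⟨⟨_, n, hn, rfl⟩, rfl⟩
              exact ⟨n, hn, rfl⟩
          rw [this, Nat.card_coe_set_eq, ← MulAction.index_stabilizer]
          exact (index_dvd_card _).trans (card_map_dvd _ _))
      intro n hn
      exact (h2 x ⟨1, N.one_mem, by simp⟩).trans (hk _ ⟨n, hn, rfl⟩)
    refine ⟨⟨fun x y => Subtype.ext ?_⟩⟩
    obtain ⟨x, hx⟩ := x
    change x * y = y * x
    by_cases hx1 : x = 1
    · simp [hx1]
    have h3 : ∀ y ∈ N, y ∉ Ct(H ⊓ C1(x)) → x * y = y * x := by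
      intro y hy hyP
      have hy1 : y ≠ 1 := fun h => hyP (h ▸ one_mem _)
      by_contra hne
      have hw1 : ⁅x, y⁆ ≠ 1 := fun h => hne (commutatorElement_eq_one_iff_mul_comm.1 h)
      have hw : ⁅x, y⁆ ∈ N := N.mul_mem (N.mul_mem (N.mul_mem hx hy) (N.inv_mem hx)) (N.inv_mem hy)
      have a1 : H ⊓ C1(x) ≤ C1(⁅x, y⁆) := by
        intro g hg
        have e1 : Commute g x := mem_centralizer_singleton_iff.1 hg.2
        have e2 : Commute g (y * x * y⁻¹) := mem_centralizer_singleton_iff.1 (cls x hx hx1 y hy hg)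
        have : ⁅x, y⁆ = x * (y * x * y⁻¹)⁻¹ := by rw [commutatorElement_def]; group
        rw [this]
        exact mem_centralizer_singleton_iff.2 (e1.mul_right e2.inv_right)
      have a2 : H ⊓ C1(y) ≤ C1(⁅x, y⁆) := by
        intro g hg
        have e1 : Commute g y := mem_centralizer_singleton_iff.1 hg.2
        have e2 : Commute g (x * y * x⁻¹) := mem_centralizer_singleton_iff.1 (cls y hy hy1 x hx hg)
        exact mem_centralizer_singleton_iff.2 (e2.mul_right e1.inv_right)
      have a3 := eqc y hy hy1 _ hw hw1 a2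
      exact hyP (mem_centralizer_iff.2 fun g hg => mem_centralizer_singleton_iff.1 (a3 ⟨hg.1, a1 hg⟩))
    have h4 : ¬ N ≤ Ct(H ⊓ C1(x)) := fun h => gen x hx hx1 ⊥ (fun h' => hx1 (mem_bot.1 (h' hx)))
      fun y hy _ g hg => mem_centralizer_singleton_iff.2 (mem_centralizer_iff.1 (h hy) g hg)
    obtain ⟨z, hz, hzP⟩ := SetLike.not_le_iff_exists.1 h4
    by_cases hy : (y : G) ∈ Ct(H ⊓ C1(x))
    · have e1 := h3 z hz hzP
      have e2 := h3 (y * z) (N.mul_mem y.2 hz) (by rwa [Subgroup.mul_mem_cancel_left _ hy])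
      rw [← mul_assoc, mul_assoc (y : G), ← e1, ← mul_assoc] at e2
      exact mul_right_cancel e2
    · exact h3 y y.2 hy
end

/-- Let G be a finite 3/2-transitive permutation group: G acts faithfully and transitively on a finite set, the point stabilizers are non-trivial, and for each point a all orbits of G_a on the remaining points have the same size. Suppose G has a regular normal subgroup N and G is not a Frobenius group (some two-point stabilizer is non-trivial). Then N is an elementary abelian p-group for some prime p, and every non-trivial normal subgroup of G contains N (so N is the unique minimal normal subgroup). -/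
theorem result {G Ω : Type*} [Group G] [Finite G]
    [MulAction G Ω] [FaithfulSMul G Ω] [Finite Ω] (htrans : MulAction.IsPretransitive G Ω)
    (hne : ∀ a : Ω, MulAction.stabilizer G a ≠ ⊥)
    (hhalf : ∀ a b c : Ω, b ≠ a → c ≠ a →
      Nat.card (MulAction.orbit (MulAction.stabilizer G a) b) = Nat.card (MulAction.orbit (MulAction.stabilizer G a) c))
    (N : Subgroup G) [hN : N.Normal] (hNt : MulAction.IsPretransitive N Ω) (hNr : ∀ a : Ω, MulAction.stabilizer N a = ⊥)
    (hnotF : ∃ a b : Ω, a ≠ b ∧ MulAction.stabilizer G a ⊓ MulAction.stabilizer G b ≠ ⊥) :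
    (∃ p : ℕ, p.Prime ∧ IsMulCommutative N ∧ ∀ x ∈ N, x ^ p = 1) ∧
    (∀ M : Subgroup G, M.Normal → M ≠ ⊥ → N ≤ M) := by
  open Pointwise commutatorElement Subgroup in
  open Cfsg.Agent.Comp Cfsg.Agent.BG Subgroup commutatorElement in
  obtain ⟨a, b, hab, hne'⟩ := hnotF
  have reg : ∀ n ∈ N, n • a = a → n = 1 := by
    intro n hn h
    have : (⟨n, hn⟩ : N) ∈ MulAction.stabilizer N a := h
    rw [hNr a, mem_bot] at this
    exact congrArg Subtype.val this
  have hst : ∀ x ∈ N, MulAction.stabilizer G a ⊓ C1(x) = MulAction.stabilizer G a ⊓ MulAction.stabilizer G (x • a) := by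
    intro x hx
    ext g
    simp only [mem_inf, MulAction.mem_stabilizer_iff, mem_centralizer_singleton_iff]
    refine and_congr_right fun hg => ⟨fun h => by rw [smul_smul, h, mul_smul, hg], fun h => ?_⟩
    have h1 := reg (x⁻¹ * (g * x * g⁻¹)) (N.mul_mem (N.inv_mem hx) (hN.conj_mem x hx g)) (by
      rw [mul_smul, mul_smul, mul_smul, inv_smul_eq_iff.2 hg.symm, h, inv_smul_smul])
    rw [inv_mul_eq_one, eq_mul_inv_iff_mul_eq] at h1
    exact h1.symm
  have hcard : ∀ b : Ω, Nat.card (MulAction.stabilizer G a ⊓ MulAction.stabilizer G b : Subgroup G) *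
      Nat.card (MulAction.orbit (MulAction.stabilizer G a) b) = Nat.card (MulAction.stabilizer G a) := by
    intro b
    rw [← (MulAction.stabilizer (MulAction.stabilizer G a) b).card_mul_index, MulAction.index_stabilizer,
      Nat.card_coe_set_eq, ← Nat.card_congr (subgroupOfEquivOfLe (inf_le_left : MulAction.stabilizer G a ⊓
        MulAction.stabilizer G b ≤ _)).toEquiv, inf_subgroupOf_left]
    rfl
  have hc : ∀ x ∈ N, x ≠ 1 → Nat.card (MulAction.stabilizer G a ⊓ C1(x) : Subgroup G) =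
      Nat.card (MulAction.stabilizer G a ⊓ MulAction.stabilizer G b : Subgroup G) := by
    intro x hx hx1
    have h1 := hcard (x • a)
    rw [hhalf a (x • a) b (fun h => hx1 (reg x hx h)) hab.symm, ← hcard b] at h1
    haveI : Nonempty (MulAction.orbit (MulAction.stabilizer G a) b) := ⟨⟨b, MulAction.mem_orbit_self b⟩⟩
    rw [hst x hx]
    exact Nat.eq_of_mul_eq_mul_right Nat.card_pos h1
  have hf : MulAction.stabilizer G a ⊓ Ct(N) = ⊥ := by
    rw [eq_bot_iff]
    intro g hg
    refine mem_bot.2 (FaithfulSMul.eq_of_smul_eq_smul (α := Ω) fun ω => ?_)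
    obtain ⟨n, rfl⟩ := hNt.exists_smul_eq a ω
    have h1 : g • a = a := hg.1
    rw [one_smul, Subgroup.smul_def, smul_smul, ← mem_centralizer_iff.1 hg.2 n n.2, mul_smul, h1]
  obtain ⟨hmin, hab'⟩ := abs hc (by rwa [Ne, card_eq_one]) hf
  have hN1 : N ≠ ⊥ := by
    rintro rfl
    obtain ⟨⟨n, hn⟩, h⟩ := hNt.exists_smul_eq a b
    obtain rfl := mem_bot.1 hn
    exact hab (by simpa [Subgroup.smul_def] using h)
  constructor
  · obtain ⟨x, hx, hp⟩ := exists_prime_order_mem hN1
    haveI : Fact (orderOf x).Prime := ⟨hp⟩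
    have hNN := le_centralizer_iff_isMulCommutative.2 hab'
    refine ⟨_, hp, hab', fun y hy => pow_eq_one_of_mem_omegaOne hNN ?_⟩
    haveI : (omegaOne (orderOf x) N).Normal := by
      rw [← normalizer_eq_top_iff, eq_top_iff]
      exact le_normalizer_omegaOne (by rw [normalizer_eq_top])
    rcases hmin (omegaOne (orderOf x) N) inferInstance (omegaOne_le _ _) with h | h
    · have : x ∈ omegaOne (orderOf x) N := (mem_omegaOne_iff hNN).2 ⟨hx, pow_orderOf_eq_one x⟩
      rw [h, mem_bot] at this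
      rw [this, orderOf_one] at hp
      exact absurd hp Nat.not_prime_one
    · rwa [h]
  · intro M hM hM1
    rcases hmin (M ⊓ N) inferInstance inf_le_right with h | h
    · exfalso
      apply hM1
      rw [eq_bot_iff, ← h]
      intro g hg
      refine ⟨hg, ?_⟩
      obtain ⟨n, hn⟩ := hNt.exists_smul_eq a (g • a)
      have h1 : (n : G)⁻¹ * g ∈ MulAction.stabilizer G a ⊓ Ct(N) := by
        refine mem_inf.2 ⟨by rw [MulAction.mem_stabilizer_iff, mul_smul, ← hn, Subgroup.smul_def, inv_smul_smul], ?_⟩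
        refine Ct(N).mul_mem (Ct(N).inv_mem (le_centralizer_iff_isMulCommutative.2 hab' n.2)) ?_
        refine commutator_eq_bot_iff_le_centralizer.1 (le_bot_iff.1 (h ▸ commutator_le_inf M N)) hg
      rw [hf, mem_bot, inv_mul_eq_one] at h1
      exact h1 ▸ n.2
    · exact h.ge.trans inf_le_left

end Cfsg.Agent.S3356
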