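import Cfsg.Statements.S3357
import Cfsg.Agent.Lib.Transfer.FC4

set_option autoImplicit false
open Cfsg

namespace Cfsg.Agent.S3357

set_option linter.unusedSectionVars false
set_option linter.unusedVariables false
set_option linter.style.haveILetI false
set_option linter.unusedSimpArgs false

open Transfer FC Module in
theorem irr {k G : Type*} [Field k] [Group G] (n : ℕ) : ∀ {W : Type*} [AddCommGroup W] [Module k W] [FiniteDimensional k W]
    [Nontrivial W] {ρ : G →* End k W}, Fpf ρ → finrank k W = n →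
    ∃ (m : ℕ) (ρ' : G →* End k (Fin (m + 1) → k)), Fpf ρ' ∧ Irr ρ' := by
  induction n using Nat.strong_induction_on with | _ n ih => ?_
  intro W _ _ _ _ ρ h hn
  by_cases hi : Irr ρ
  · obtain ⟨m, hm⟩ := Nat.exists_eq_add_one.2 (finrank_pos (R := k) (M := W))
    let e := (finBasisOfFinrankEq k W hm).equivFun
    refine ⟨m, (e.conjAlgEquiv k).toMonoidHom.comp ρ, fun g hg w hw => ?_, fun U hU => ?_⟩
    · have : e (ρ g (e.symm w)) = w := hw
      rw [← e.symm.map_eq_zero_iff]
      exact h g hg _ (by rw [← e.injective.eq_iff, this]; simp)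
    · refine (hi (U.comap e.toLinearMap) fun g w hw => by simpa using hU g _ hw).imp (fun h => ?_) fun h => ?_
      · rw [← Submodule.map_comap_eq_of_surjective (f := e.toLinearMap) e.surjective U, h, Submodule.map_bot]
      · rw [← Submodule.map_comap_eq_of_surjective (f := e.toLinearMap) e.surjective U, h, Submodule.map_top, e.range]
  simp only [Irr, not_forall, not_or] at hi
  obtain ⟨U, h1, h2, h3⟩ := hi
  haveI := Submodule.nontrivial_iff_ne_bot.2 h2
  exact ih _ (hn ▸ Submodule.finrank_lt h3) (ρ := Representation.subrepresentation ρ U h1)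
    (fun g hg w hw => Subtype.ext (h g hg w (congrArg Subtype.val hw))) rfl

open MonoidAlgebra
variable {G : Type*} [Group G] [Finite G]

/-- norm elements -/
noncomputable def Nm (g : G) : MonoidAlgebra ℤ G := ∑ i ∈ Finset.range (orderOf g), of ℤ G g ^ i

theorem Nm_fix (g : G) : (of ℤ G g - 1) * Nm g = 0 := by
  rw [Nm, mul_geom_sum, ← map_pow, pow_orderOf_eq_one, map_one, sub_self]

theorem Nm_sq (g : G) : Nm g * Nm g = orderOf g • Nm g := by
  have e : ∀ i, of ℤ G g ^ i * Nm g = Nm g := fun i => by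
    induction i with
    | zero => simp
    | succ i ih => rw [pow_succ, mul_assoc, show of ℤ G g * Nm g = Nm g by simpa [sub_mul, sub_eq_zero] using Nm_fix g, ih]
  nth_rewrite 1 [Nm]
  rw [Finset.sum_mul, Finset.sum_congr rfl fun i _ => e i, Finset.sum_const, Finset.card_range]

/-- the ideal generated by the norm elements -/
noncomputable def II (G : Type*) [Group G] : AddSubgroup (MonoidAlgebra ℤ G) :=
  AddSubgroup.closure {z | ∃ x y g, g ≠ 1 ∧ z = x * Nm g * y}

open Transfer FC in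
theorem not_mem (hG : FR G) {m : ℤ} (hm : m • 1 ∈ II G) : m = 0 := by
  obtain ⟨r, _, n, ρ, h⟩ := hG
  have hr : ¬ r ∣ Nat.card G := fun e => by
    obtain ⟨g, hg⟩ := exists_prime_orderOf_dvd_card' r e
    rw [h.pow_char r (g := g) (hg ▸ pow_orderOf_eq_one g), orderOf_one] at hg
    exact (Fact.out : r.Prime).ne_one hg.symm
  haveI : NeZero (Nat.card G : ZMod r) := ⟨fun e => hr ((ZMod.natCast_eq_zero_iff _ _).1 e)⟩
  let π := mapRingHom G (Int.castRingHom (ZMod r))
  have k : ∀ x, π x = 0 ↔ ∃ y, x = r • y := fun x => by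
    refine ⟨fun e => ⟨.ofCoeff (x.coeff.mapRange (· / r) (by simp)), coeff_injective (Finsupp.ext fun g => ?_)⟩, ?_⟩
    · have : ((x.coeff g : ℤ) : ZMod r) = 0 := (coeff_mapRingHom _ x g).symm.trans (by rw [show mapRingHom G _ x = 0 from e])
      rw [coeff_smul]
      simp [Int.mul_ediv_cancel' ((ZMod.intCast_zmod_eq_zero_iff_dvd _ _).1 this)]
    · rintro ⟨y, rfl⟩
      rw [map_nsmul, ← Nat.cast_smul_eq_nsmul (ZMod r), ZMod.natCast_self, zero_smul]
  let ψ := lift (ZMod r) (Module.End (kk r) (Fin (n + 1) → kk r)) G ρ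
  obtain ⟨e, e1, e2⟩ := IsSemisimpleRing.ideal_eq_span_idempotent (RingHom.ker ψ)
  obtain ⟨u, hu⟩ : ∃ u, π u = 1 - e := by
    generalize 1 - e = x
    induction x using MonoidAlgebra.induction_linear with
    | zero => exact ⟨0, map_zero _⟩
    | add a b ha hb => obtain ⟨a, rfl⟩ := ha; obtain ⟨b, rfl⟩ := hb; exact ⟨a + b, map_add _ _ _⟩
    | single g c => obtain ⟨c, rfl⟩ := ZMod.intCast_surjective c; exact ⟨single g c, mapRingHom_single _ _ _⟩
  have a1 : ∀ g, g ≠ 1 → ∀ c, ∃ y, Nat.card G • (Nm g * c * u) = r • (Nm g * y) := fun g hg c => by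
    have b1 : ψ (π (Nm g)) = 0 := h.cancel hg (by
      have := congrArg (fun x => ψ (π x)) (Nm_fix g)
      simpa [π, ψ] using this)
    obtain ⟨a, ha⟩ := Ideal.mem_span_singleton'.1 (e2.le (show π (Nm g * c) ∈ RingHom.ker ψ by
      rw [RingHom.mem_ker, map_mul, map_mul, b1, zero_mul]))
    obtain ⟨b, hb⟩ := (k (Nm g * c * u)).1 (by rw [map_mul, ← ha, hu, mul_assoc, e1.mul_one_sub_self, mul_zero])
    obtain ⟨t, ht⟩ := orderOf_dvd_natCard g
    refine ⟨t • b, ?_⟩
    rw [ht, mul_comm (orderOf g), mul_smul, ← smul_mul_assoc (orderOf g), ← smul_mul_assoc (orderOf g), ← Nm_sq, mul_assoc,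
      mul_assoc, ← mul_assoc (Nm g) c, hb, mul_smul_comm, mul_smul_comm, smul_comm]
  have a2 : ∀ j, ∀ z ∈ II G, ∃ y, Nat.card G ^ j • (z * u ^ j) = r ^ j • y := fun j z hz => by
    induction hz using AddSubgroup.closure_induction with
    | mem z hz =>
      obtain ⟨x, c, g, hg, rfl⟩ := hz
      suffices ∃ y, Nat.card G ^ j • (Nm g * c * u ^ j) = r ^ j • (Nm g * y) from
        this.elim fun y e => ⟨x * (Nm g * y), by rw [← mul_smul_comm (r ^ j), ← e, mul_smul_comm, mul_assoc x, mul_assoc x]⟩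
      induction j with
      | zero => exact ⟨c, by simp⟩
      | succ j ih =>
        obtain ⟨y, hy⟩ := ih
        obtain ⟨y', hy'⟩ := a1 g hg y
        exact ⟨y', by rw [pow_succ' (Nat.card G), mul_smul, pow_succ u, ← mul_assoc, ← smul_mul_assoc (_ ^ j), hy,
          smul_mul_assoc, smul_comm, hy', ← mul_smul, pow_succ]⟩
    | zero => exact ⟨0, by simp⟩
    | add a b _ _ ha hb => obtain ⟨a', ha⟩ := ha; obtain ⟨b', hb⟩ := hb; exact ⟨a' + b', by rw [add_mul, smul_add, ha, hb, smul_add]⟩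
    | neg a _ ha => obtain ⟨a', ha⟩ := ha; exact ⟨-a', by rw [neg_mul, smul_neg, ha, smul_neg]⟩
  by_contra h0
  obtain ⟨y, hy⟩ := a2 (m.natAbs + 1) _ hm
  have a3 : π (u ^ (m.natAbs + 1)) ≠ 0 := fun e3 => by
    rw [map_pow, hu, e1.one_sub.pow_succ_eq, sub_eq_zero] at e3
    have : ψ e = 0 := e2.ge (Ideal.mem_span_singleton_self e)
    rw [← e3, map_one] at this; exact one_ne_zero this
  obtain ⟨g, hg⟩ : ∃ g, ¬ (r : ℤ) ∣ (u ^ (m.natAbs + 1)).coeff g := by
    by_contra! e3
    exact a3 (coeff_injective (Finsupp.ext fun g => (coeff_mapRingHom _ _ g).trans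
      ((ZMod.intCast_zmod_eq_zero_iff_dvd _ _).2 (e3 g))))
  have a4 := congrArg (fun x => x.coeff g) hy
  simp only [smul_mul_assoc, one_mul, coeff_smul, Finsupp.smul_apply] at a4
  simp only [nsmul_eq_mul, smul_eq_mul, Nat.cast_pow] at a4
  have hp : Prime (r : ℤ) := Nat.prime_iff_prime_int.1 Fact.out
  have a5 := hp.pow_dvd_of_dvd_mul_right _ hg (hp.pow_dvd_of_dvd_mul_left _
    (fun e => hr (Int.natCast_dvd_natCast.1 (hp.dvd_of_dvd_pow e))) (Dvd.intro _ a4.symm))
  have a6 := Nat.le_of_dvd (Int.natAbs_pos.2 h0) (Int.natCast_dvd.1 (by exact_mod_cast a5 : ((r ^ (m.natAbs + 1) : ℕ) : ℤ) ∣ m))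
  exact absurd (Nat.lt_pow_self (Fact.out : r.Prime).one_lt : m.natAbs + 1 < _) (by omega)

open Transfer FC in
theorem char0 (hG : FR G) (K : Type*) [Field K] [CharZero K] :
    ∃ (m : ℕ) (ρ : G →* Module.End K (Fin (m + 1) → K)), Fpf ρ ∧ Irr ρ := by
  let W : Submodule K (MonoidAlgebra ℤ G →+ K) :=
    { carrier := {f | ∀ z ∈ II G, f z = 0}
      add_mem' := fun h1 h2 z hz => by simp [h1 z hz, h2 z hz]
      zero_mem' := fun _ _ => rfl
      smul_mem' := fun c f h z hz => by simp [h z hz] }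
  have m : ∀ g, ∀ z ∈ II G, z * of ℤ G g ∈ II G := fun g z hz =>
    (AddSubgroup.closure_le ((II G).comap (AddMonoidHom.mulRight (of ℤ G g)))).2
      (by rintro _ ⟨x, y, h, h1, rfl⟩; exact AddSubgroup.subset_closure ⟨x, _, h, h1, mul_assoc _ _ _⟩) hz
  let ρ : G →* Module.End K W :=
    { toFun := fun g => { toFun := fun f => ⟨f.1.comp (AddMonoidHom.mulRight (of ℤ G g)), fun z hz => f.2 _ (m g z hz)⟩
                          map_add' := fun _ _ => rfl, map_smul' := fun _ _ => rfl }
      map_one' := by ext f x; simp [← one_def]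
      map_mul' := fun g h => by ext f x; simp [mul_assoc, single_mul_single] }
  haveI : FiniteDimensional K (MonoidAlgebra ℤ G →+ K) := FiniteDimensional.of_injective (V₂ := G → K)
    { toFun := fun f g => f (of ℤ G g), map_add' := fun _ _ => rfl, map_smul' := fun _ _ => rfl } fun f f' e =>
      AddMonoidHom.toIntLinearMap_injective (lhom_ext' fun g => LinearMap.ext_ring (congrFun e g))
  haveI : Nontrivial W := by
    obtain ⟨f, hf⟩ := (Module.Baer.of_divisible K).extension_property_addMonoidHom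
      (zmultiplesHom _ (QuotientAddGroup.mk' (II G) 1)) ((injective_iff_map_eq_zero _).2 fun a ha =>
        not_mem hG ((QuotientAddGroup.eq_zero_iff _).1 ha)) (Int.castAddHom K)
    refine ⟨⟨f.comp (QuotientAddGroup.mk' _), fun z hz => ?_⟩, 0, fun e => ?_⟩
    · rw [AddMonoidHom.comp_apply, show QuotientAddGroup.mk' _ z = 0 from (QuotientAddGroup.eq_zero_iff _).2 hz, map_zero]
    · have := DFunLike.congr_fun hf 1
      have e1 : f (QuotientAddGroup.mk' (II G) 1) = 0 := DFunLike.congr_fun (congrArg Subtype.val e) 1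
      simp at this e1; simp [e1] at this
  refine irr _ (W := W) (ρ := ρ) (fun g hg f hf => Subtype.ext (AddMonoidHom.ext fun x => ?_)) rfl
  have e : ∀ i, f.1 (x * of ℤ G g ^ i) = f.1 x := fun i => by
    induction i with
    | zero => simp
    | succ i ih => rw [pow_succ, ← mul_assoc, ← ih]; exact DFunLike.congr_fun (congrArg Subtype.val hf) _
  have := f.2 _ (AddSubgroup.subset_closure ⟨x, 1, g, hg, rfl⟩)
  rw [mul_one, Nm, Finset.mul_sum, map_sum, Finset.sum_congr rfl fun i _ => e i, Finset.sum_const, Finset.card_range] at this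
  simpa [(orderOf_pos g).ne'] using this

/-- Let G be a finite group that occurs as a Frobenius complement. Then G has a faithful irreducible representation over an algebraic closure of the rationals in which no non-identity element of G has 1 as an eigenvalue: there are n ≥ 1 and an injective homomorphism ρ from G to GL(n) over that field, with no invariant subspace other than 0 and the whole space, such that for g ≠ 1 the only vector fixed by ρ(g) is 0. -/
theorem result {G : Type*} [Group G] [Finite G]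
    (hFC : ∃ (L : Type) (_ : Group L) (_ : Finite L) (H : Subgroup L), Cfsg.IsFrobeniusComplement H ∧ Nonempty (G ≃* H)) :
    ∃ (n : ℕ) (ρ : G →* GL (Fin n) (AlgebraicClosure ℚ)), 0 < n ∧ Function.Injective ρ ∧
      (∀ W : Submodule (AlgebraicClosure ℚ) (Fin n → AlgebraicClosure ℚ),
        (∀ g : G, ∀ w ∈ W, ((ρ g : GL (Fin n) (AlgebraicClosure ℚ)) : Matrix (Fin n) (Fin n) (AlgebraicClosure ℚ)).mulVec w ∈ W) → W = ⊥ ∨ W = ⊤) ∧
      ∀ g : G, g ≠ 1 → ∀ v : Fin n → AlgebraicClosure ℚ,
        ((ρ g : GL (Fin n) (AlgebraicClosure ℚ)) : Matrix (Fin n) (Fin n) (AlgebraicClosure ℚ)).mulVec v = v → v = 0 := by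
  open Transfer FC in
  obtain ⟨L, _, _, H, h1, ⟨e⟩⟩ := hFC
  obtain ⟨m, ρ, h2, h3⟩ := char0 (FR.of_frob h1 e) (AlgebraicClosure ℚ)
  let τ : G →* Matrix (Fin (m + 1)) (Fin (m + 1)) (AlgebraicClosure ℚ) :=
    (LinearMap.toMatrixAlgEquiv' (R := AlgebraicClosure ℚ) (n := Fin (m + 1))).toAlgHom.toMonoidHom.comp ρ
  have k : ∀ g v, (τ g).mulVec v = ρ g v := fun g v => LinearMap.toMatrix'_mulVec (ρ g) v
  exact ⟨m + 1, τ.toHomUnits, m.succ_pos, fun a b e => h2.inj (LinearMap.ext fun v => by
    rw [← k, ← k, show τ a = τ b from congrArg Units.val e]), fun W hW => h3 W fun g w hw => k g w ▸ hW g w hw,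
    fun g hg v hv => h2 g hg v ((k g v).symm.trans hv)⟩

end Cfsg.Agent.S3357
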