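import Cfsg.Statements.S3358
import Cfsg.Agent.Lib.Transfer.FC7

set_option autoImplicit false
open Cfsg

namespace Cfsg.Agent.S3358

set_option linter.unusedSectionVars false
set_option linter.unusedVariables false
set_option linter.style.haveILetI false
set_option linter.unusedSimpArgs false

open Subgroup in
theorem card_le {P : Type*} [Group P] {x y : P} {n m r : ℕ} (hn : 0 < n) (hm : 0 < m) (hx : x ^ n = 1) (hy : y ^ m = 1)
    (h : x⁻¹ * y * x * (y ^ r)⁻¹ = 1) (ht : closure {x, y} = ⊤) : Finite P ∧ Nat.card P ≤ n * m := by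
  rw [mul_inv_eq_one] at h
  haveI : Finite (zpowers y) := (finite_zpowers.2 (isOfFinOrder_iff_pow_eq_one.2 ⟨m, hm, hy⟩)).to_subtype
  haveI : (zpowers y).Normal := normalizer_eq_top_iff.1 (by
    rw [eq_top_iff, ← ht, closure_le]
    rintro _ (rfl | rfl)
    · refine inv_mem_iff.1 (mem_normalizer_fintype ?_)
      rintro _ ⟨k, rfl⟩
      rw [← conj_zpow, inv_inv, h]; exact zpow_mem (pow_mem (mem_zpowers y) r) k
    · exact le_normalizer (mem_zpowers _))
  let π := QuotientGroup.mk' (zpowers y)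
  have e : zpowers (π x) = ⊤ := by
    rw [eq_top_iff, ← map_top_of_surjective π (QuotientGroup.mk'_surjective _), ← ht, MonoidHom.map_closure, closure_le]
    rintro _ ⟨_, rfl | rfl, rfl⟩
    exacts [mem_zpowers _, by rw [show π _ = 1 from (QuotientGroup.eq_one_iff _).2 (mem_zpowers _)]; exact one_mem _]
  have e1 : π x ^ n = 1 := by rw [← map_pow, hx, map_one]
  haveI : Finite (P ⧸ zpowers y) := Set.finite_univ_iff.1 (by
    have := finite_zpowers.2 (isOfFinOrder_iff_pow_eq_one.2 ⟨n, hn, e1⟩)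
    rwa [e] at this)
  haveI := Finite.of_subgroup_quotient (zpowers y)
  refine ⟨this, ?_⟩
  rw [card_eq_card_quotient_mul_card_subgroup (zpowers y), ← card_top, ← e, Nat.card_zpowers, Nat.card_zpowers]
  exact Nat.mul_le_mul (orderOf_le_of_pow_eq_one hn e1) (orderOf_le_of_pow_eq_one hm hy)

open Subgroup Transfer MS FC in
open scoped commutatorElement in
theorem aux {G : Type*} [Group G] [Finite G] [IsZGroup G]
    (hpq : ∀ (A : Subgroup G) (p q : ℕ), p.Prime → q.Prime → #A = p * q → IsCyclic A) :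
    ∃ n m r : ℕ, 0 < n ∧ 0 < m ∧ Nat.Coprime (r - 1) m ∧ Nat.Coprime n m ∧ 1 ≤ r ∧
        r ^ (n / ∏ p ∈ n.primeFactors, p) % m = 1 % m ∧
        Nonempty (G ≃* PresentedGroup
          ({FreeGroup.of (0 : Fin 2) ^ n, FreeGroup.of (1 : Fin 2) ^ m,
            (FreeGroup.of (0 : Fin 2))⁻¹ * FreeGroup.of 1 * FreeGroup.of 0 * (FreeGroup.of (1 : Fin 2) ^ r)⁻¹} :
            Set (FreeGroup (Fin 2)))) := by
  have hc := IsZGroup.coprime_commutator_index G
  obtain ⟨X, hX⟩ := exists_right_complement'_of_coprime hc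
  obtain ⟨y, -, hy⟩ := exists_zpowers (IsZGroup.isCyclic_commutator G)
  obtain ⟨x, -, rfl⟩ := exists_zpowers (A := X) (by
    haveI : IsCyclic (G ⧸ _root_.commutator G) := IsZGroup.isCyclic_abelianization (G := G)
    exact isCyclic_of_surjective _ hX.symm.QuotientMulEquiv.surjective)
  have nY : (zpowers y).Normal := hy ▸ inferInstance
  have c1 := hX.card_mul
  have t := hX.sup_eq_top
  rw [hX.symm.index_eq_card] at hc
  rw [hy, Nat.card_zpowers, Nat.card_zpowers] at hc c1
  rw [hy, sup_comm, ← closure_pair_eq] at t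
  have m0 := orderOf_pos y
  obtain ⟨r, r1, hr⟩ : ∃ r, 1 ≤ r ∧ x⁻¹ * y * x = y ^ r := by
    obtain ⟨r, hr⟩ := (mem_powers_iff_mem_zpowers (x := y)).2 (nY.conj_mem' y (mem_zpowers y) x)
    exact ⟨r + orderOf y, by omega, by rw [pow_add, pow_orderOf_eq_one, mul_one]; exact hr.symm⟩
  refine ⟨orderOf x, orderOf y, r, orderOf_pos x, m0, ?_, hc.symm, r1, ?_, ?_⟩
  · haveI : (zpowers (y ^ (r - 1))).Normal := ⟨by
      rintro _ ⟨k, rfl⟩ g
      obtain ⟨l, hl⟩ := nY.conj_mem y (mem_zpowers y) g
      have hl : y ^ l = g * y * g⁻¹ := hl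
      rw [← conj_zpow, ← conj_pow, ← hl, ← zpow_natCast (y ^ l), ← zpow_mul y l, mul_comm l, zpow_mul, zpow_natCast]
      exact zpow_mem (zpow_mem (mem_zpowers _) l) k⟩
    let π := QuotientGroup.mk' (zpowers (y ^ (r - 1)))
    have e : π x * π y = π y * π x := by
      have : π (x⁻¹ * y * x) = π y := by
        rw [hr, show y ^ r = y ^ (r - 1) * y by rw [← pow_succ, Nat.sub_add_cancel r1], map_mul, show π (y ^ (r - 1)) = 1 from
          (QuotientGroup.eq_one_iff _).2 (mem_zpowers _), one_mul]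
      rwa [map_mul, map_mul, map_inv, mul_assoc, inv_mul_eq_iff_eq_mul, eq_comm] at this
    have e1 := isMulCommutative_closure (k := {π x, π y}) (by rintro _ (rfl | rfl) _ (rfl | rfl); exacts [rfl, e, e.symm, rfl])
    rw [← Set.image_pair, ← MonoidHom.map_closure, t, ab_iff_der, ← map_commutator, Subgroup.map_eq_bot_iff,
      QuotientGroup.ker_mk', ← commutator_def, hy] at e1
    have := card_le_of_le e1
    rw [Nat.card_zpowers, Nat.card_zpowers, orderOf_pow] at this
    rw [Nat.coprime_comm]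
    by_contra h
    exact this.not_gt (Nat.div_lt_self m0 (by have := Nat.gcd_pos_of_pos_left (r - 1) m0; unfold Nat.Coprime at h; omega))
  · let φ : G →* MulAut (zpowers y) := MulAut.conjNormal
    have k : ∀ q, q.Prime → q ∣ orderOf x → φ (x ^ (orderOf x / q)) = 1 := fun q hq h => by
      have o := orderOf_pow_orderOf_div (orderOf_pos x).ne' h
      generalize x ^ (orderOf x / q) = w at o
      have := Solv.coprime_abelian_le_centralizer (A := zpowers w) (V := zpowers y) inferInstance nn_normal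
        (by rw [Nat.card_zpowers, Nat.card_zpowers, o]; exact hc.symm.coprime_dvd_left h) fun v hv h1 a ha => by
          have n : zpowers w ≤ NN (zpowers v) := fun g _ => mem_normalizer_fintype (by
            rintro _ ⟨k, rfl⟩
            rw [← conj_zpow]
            exact zpow_mem (cyc_le (cyc_zpowers y) (zpowers_le.2 (nY.conj_mem v hv g)) (zpowers_le.2 hv)
              (by rw [Nat.card_zpowers, Nat.card_zpowers, orderOf_conj]) (mem_zpowers _)) k)
          have c := card_sup_mul_card_inf n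
          rw [inf_eq_bot_of_coprime (by
            rw [Nat.card_zpowers, Nat.card_zpowers, o]
            exact (hc.symm.coprime_dvd_left h).coprime_dvd_right (Nat.card_zpowers y ▸ orderOf_dvd hv)),
            card_bot, mul_one, Nat.card_zpowers, Nat.card_zpowers, o] at c
          exact mem_CC.1 (ab_cc (ab_of_cyc (hpq _ _ _ hq h1 c)) (mem_sup_right (mem_zpowers v))) a (mem_sup_left ha)
      exact MulEquiv.ext fun s => Subtype.ext (conj_eq_of_cc (this (mem_zpowers w)) s.2)
    obtain ⟨c, hc⟩ := orderOf_map_dvd φ x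
    have o := orderOf_pos (φ x)
    have d : ∏ p ∈ (orderOf x).primeFactors, p ∣ c := Finset.prod_primes_dvd c
      (fun p hp => (Nat.prime_of_mem_primeFactors hp).prime) fun p hp => by
        have := k p (Nat.prime_of_mem_primeFactors hp) (Nat.dvd_of_mem_primeFactors hp)
        rw [map_pow, ← orderOf_dvd_iff_pow_eq_one, Nat.dvd_div_iff_mul_dvd (Nat.dvd_of_mem_primeFactors hp), mul_comm] at this
        exact (Nat.mul_dvd_mul_iff_left o).1 (hc ▸ this)
    have e : φ x⁻¹ ^ (orderOf x / ∏ p ∈ (orderOf x).primeFactors, p) = 1 := by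
      rw [map_inv, inv_pow, inv_eq_one, ← orderOf_dvd_iff_pow_eq_one, Nat.dvd_div_iff_mul_dvd (Nat.prod_primeFactors_dvd _),
        mul_comm]
      exact (Nat.mul_dvd_mul_left _ d).trans hc.symm.dvd
    have e1 : ∀ k : ℕ, x⁻¹ ^ k * y * (x⁻¹ ^ k)⁻¹ = y ^ r ^ k := fun k => by
      induction k with
      | zero => simp
      | succ k ih => rw [pow_succ', pow_succ' r, pow_mul, ← hr, mul_inv_rev, ← mul_assoc, mul_assoc x⁻¹, mul_assoc x⁻¹, ih,
          ← conj_pow, inv_inv]
    have := congrArg Subtype.val (DFunLike.congr_fun ((map_pow φ _ _).trans e) ⟨y, mem_zpowers y⟩)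
    exact pow_eq_pow_iff_modEq.1 (((e1 _).symm.trans this).trans (pow_one y).symm)
  · obtain ⟨_, h⟩ := card_le (P := PresentedGroup ({FreeGroup.of (0 : Fin 2) ^ orderOf x, FreeGroup.of (1 : Fin 2) ^ orderOf y,
        (FreeGroup.of (0 : Fin 2))⁻¹ * FreeGroup.of 1 * FreeGroup.of 0 * (FreeGroup.of (1 : Fin 2) ^ r)⁻¹} :
          Set (FreeGroup (Fin 2)))) (x := .of 0) (y := .of 1) (r := r) (orderOf_pos x) m0
      (PresentedGroup.one_of_mem (by simp)) (PresentedGroup.one_of_mem (by simp)) (PresentedGroup.one_of_mem (by simp)) (by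
        rw [← PresentedGroup.closure_range_of]
        congr 1; ext g; simp [eq_comm])
    refine ⟨(MulEquiv.ofBijective (PresentedGroup.toGroup (f := ![x, y]) ?_) (Function.Surjective.bijective_of_nat_card_le ?_
      (by rwa [← c1, mul_comm]))).symm⟩
    · rintro _ (rfl | rfl | rfl) <;> simp [hr]
    · rw [← MonoidHom.range_eq_top, eq_top_iff, ← t, closure_le]
      rintro _ (rfl | rfl)
      exacts [⟨.of 0, by simp⟩, ⟨.of 1, by simp⟩]

/-- Structure of solvable Frobenius complements. Let G be a finite solvable group that occurs as a Frobenius complement. Then G has a normal subgroup G₀ such that G/G₀ is isomorphic to a subgroup of Sym(4) (G₀ is the kernel of a homomorphism to Sym(4)), all Sylow subgroups of G₀ are cyclic, and G₀ has a presentation ⟨x, y | x^n = 1, y^m = 1, x⁻¹ y x = y^r⟩ with n, m ≥ 1, gcd(r − 1, m) = gcd(n, m) = 1 and r^(n/n′) ≡ 1 (mod m), where n′ is the product of the distinct primes dividing n. -/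
theorem result {G : Type*} [Group G] [Finite G] (hsol : Group.IsSolvable G)
    (hFC : ∃ (L : Type) (_ : Group L) (_ : Finite L) (H : Subgroup L), Cfsg.IsFrobeniusComplement H ∧ Nonempty (G ≃* H)) :
    ∃ G₀ : Subgroup G, G₀.Normal ∧
      (∃ f : G →* Equiv.Perm (Fin 4), f.ker = G₀) ∧
      (∀ (p : ℕ) [Fact p.Prime] (P : Sylow p G₀), IsCyclic P) ∧
      ∃ n m r : ℕ, 0 < n ∧ 0 < m ∧ Nat.Coprime (r - 1) m ∧ Nat.Coprime n m ∧ 1 ≤ r ∧
        r ^ (n / ∏ p ∈ n.primeFactors, p) % m = 1 % m ∧
        Nonempty (G₀ ≃* PresentedGroup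
          ({FreeGroup.of (0 : Fin 2) ^ n, FreeGroup.of (1 : Fin 2) ^ m,
            (FreeGroup.of (0 : Fin 2))⁻¹ * FreeGroup.of 1 * FreeGroup.of 0 * (FreeGroup.of (1 : Fin 2) ^ r)⁻¹} :
            Set (FreeGroup (Fin 2)))) := by
  open Subgroup Transfer FC in
  obtain ⟨L, _, _, H, h1, ⟨e⟩⟩ := hFC
  obtain ⟨N, h2, h3⟩ := (FR.of_frob h1 e).core
  obtain ⟨f, rfl⟩ : ∃ f : G →* Equiv.Perm (Fin 4), f.ker = N := by
    rcases h3 with rfl | ⟨f, -, rfl⟩ | ⟨f, -, rfl⟩ | ⟨f, h, rfl⟩
    · exact ⟨1, MonoidHom.ker_one⟩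
    · let e := Finite.equivFinOfCardEq (DihedralGroup.nat_card (n := 2))
      exact ⟨(e.permCongrHom.toMonoidHom.comp (MulAction.toPermHom _ _)).comp f, MonoidHom.ker_comp_of_injective _ _
        (e.permCongrHom.injective.comp MulAction.toPerm_injective)⟩
    · exact ⟨f, rfl⟩
    · haveI := Group.isSolvable_of_surjective f.rangeRestrict_surjective
      haveI : Group.IsPerfect (alternatingGroup (Fin 5)) := ⟨commutator_alternatingGroup_eq_top (by simp)⟩
      exact absurd (MS.sol_mono inferInstance h) (Group.IsPerfect.not_isSolvable _)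
  obtain ⟨K, -, _, -, h4, h5⟩ := Solv.exists_frobenius_kernel h1
  refine ⟨_, inferInstance, ⟨f, rfl⟩, zg_syl h2, aux fun A p q hp hq hA => ?_⟩
  let j := (H.subtype.comp e.toMonoidHom).comp f.ker.subtype
  have hj : Function.Injective j := (H.subtype_injective.comp e.injective).comp f.ker.subtype_injective
  haveI := Solv.isCyclic_of_fpf_of_card_mul_primes (A := A.map j) MS.nn_normal
    (fun h hh => h5 h (by obtain ⟨a, -, rfl⟩ := hh; exact (e a).2)) h4 hp hq (by rwa [card_map_of_injective hj])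
  exact isCyclic_of_surjective _ (A.equivMapOfInjective j hj).symm.surjective

end Cfsg.Agent.S3358
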