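import Cfsg.Statements.S3362
import Mathlib
import Cfsg.Agent.Lib.PermCert.Word

set_option autoImplicit false
open Cfsg

namespace Cfsg.Agent.S3362

open Cfsg.Agent.PC MulAction Equiv

theorem schreier {G X : Type*} [Group G] [Finite G] [MulAction G X] (g : ℕ → G) (m m0 : ℕ)
    (hm : m0 ≤ m) (a : X) (O : Finset X) (T : X → G) (hT : ∀ x ∈ O, T x ∈ gen g m ∧ T x • a = x)
    (ha : a ∈ O) (hTa : T a = 1) (h0 : ∀ j < m0, g j • a = a)
    (h : ∀ j < m, ∀ x ∈ O, g j • x ∈ O ∧ ∃ k ∈ gen g m0, g j * T x = T (g j • x) * k) :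
    gen g m ⊓ stabilizer G a = gen g m0 ∧ Nat.card (gen g m) = O.card * Nat.card (gen g m0) := by
  have hH : gen g m0 ≤ stabilizer G a := gen_le fun j hj => h0 j hj
  have step : ∀ j < m, ∀ y, (∃ x ∈ O, (T x)⁻¹ * y ∈ gen g m0) →
      ∃ x ∈ O, (T x)⁻¹ * (g j * y) ∈ gen g m0 := by
    rintro j hj y ⟨x, hx, hy⟩
    obtain ⟨h1, k, hk, e⟩ := h j hj x hx
    refine ⟨_, h1, ?_⟩
    have : (T (g j • x))⁻¹ * (g j * y) = k * ((T x)⁻¹ * y) := by
      rw [← mul_assoc k, eq_inv_mul_of_mul_eq e.symm]; group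
    rw [this]; exact mul_mem hk hy
  have key : ∀ y ∈ gen g m, ∃ x ∈ O, (T x)⁻¹ * y ∈ gen g m0 := by
    refine gen_induction ⟨a, ha, by simp [hTa]⟩ step ?_
    intro j hj y hy
    have : ∀ n : ℕ, ∃ x ∈ O, (T x)⁻¹ * (g j ^ n * y) ∈ gen g m0 := by
      intro n
      induction n with
      | zero => simpa using hy
      | succ n ih => rw [pow_succ', mul_assoc]; exact step j hj _ ih
    have e : (g j)⁻¹ = g j ^ (orderOf (g j) - 1) := by
      rw [inv_eq_iff_mul_eq_one, ← pow_succ', Nat.sub_add_cancel (orderOf_pos _), pow_orderOf_eq_one]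
    rw [e]; exact this _
  have key2 : ∀ y ∈ gen g m, y • a ∈ O ∧ (T (y • a))⁻¹ * y ∈ gen g m0 := by
    intro y hy
    obtain ⟨x, hx, hk⟩ := key y hy
    have : y • a = x := by
      have h1 : ((T x)⁻¹ * y) • a = a := hH hk
      rw [mul_smul, inv_smul_eq_iff, (hT x hx).2] at h1; exact h1
    rw [this]; exact ⟨hx, hk⟩
  have e1 : gen g m ⊓ stabilizer G a = gen g m0 := by
    refine le_antisymm ?_ (le_inf (gen_mono g hm) hH)
    rintro y ⟨hy, hy2⟩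
    have := (key2 y hy).2
    rwa [show y • a = a from hy2, hTa, inv_one, one_mul] at this
  refine ⟨e1, ?_⟩
  have e2 : orbit (gen g m) a = (O : Set X) := by
    ext x
    constructor
    · rintro ⟨y, rfl⟩; exact (key2 y.1 y.2).1
    · intro hx; exact ⟨⟨T x, (hT x hx).1⟩, (hT x hx).2⟩
  have e3 : stabilizer (gen g m) a = (gen g m0).subgroupOf (gen g m) := by
    ext y
    rw [Subgroup.mem_subgroupOf, ← e1]
    exact ⟨fun h => ⟨y.2, h⟩, fun h => h.2⟩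
  rw [← (stabilizer (gen g m) a).index_mul_card, index_stabilizer, e2, Set.ncard_coe_finset, e3,
    Nat.card_congr (Subgroup.subgroupOfEquivOfLe (gen_mono g hm)).toEquiv]

def tb : List (List (Fin 12)) := [[0, 1, 2, 3, 6, 9, 5, 8, 11, 4, 7, 10], [0, 1, 2, 3, 7, 11, 10, 5, 6, 8, 9, 4], [0, 1, 2, 3, 10, 8, 11, 6, 4, 7, 5, 9], [0, 1, 2, 4, 5, 3, 7, 8, 6, 10, 11, 9], [0, 1, 2, 6, 7, 8, 9, 10, 11, 3, 4, 5], [3, 1, 2, 0, 4, 5, 7, 6, 10, 11, 8, 9], [1, 0, 2, 3, 4, 5, 9, 10, 11, 6, 7, 8], [0, 2, 1, 3, 4, 5, 11, 9, 10, 7, 8, 6]]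
def T3 : List (List ℕ) := [[], [], [], [], [], [0, 0], [0], [1], [1, 0], [2, 1], [2], [0, 2]]
def W3 : List (List (List ℕ)) := [[[], [], [], [], [], [], [], [], [], [], [], []], [[], [], [], [], [], [], [], [], [], [], [], []], [[], [], [], [], [], [], [], [], [], [], [], []]]
def T5 : List (List ℕ) := [[], [], [], [], [3], [3, 3], [4], [3, 1], [3, 1, 0], [4, 4], [3, 2], [4, 2]]
def W5 : List (List (List ℕ)) := [[[], [], [], [0], [0], [0], [0], [], [0], [0], [], [2, 1]], [[], [], [], [1], [], [2, 1], [2, 1], [0, 0], [0], [0], [2, 1], [2, 1]], [[], [], [], [2], [], [0, 0], [], [0], [], [0], [0, 0], [0, 0]], [[], [], [], [], [], [], [0, 2], [0], [1, 0], [1, 0], [], [2]], [[], [], [], [], [0, 2], [2], [], [2, 1], [0, 0], [], [2], [2]]]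
def T6 : List (List ℕ) := [[], [], [], [5], [5, 3], [5, 3, 3], [5, 4], [5, 3, 1], [5, 3, 1, 0], [5, 4, 4], [5, 3, 2], [5, 4, 2]]
def W6 : List (List (List ℕ)) := [[[0], [], [], [1], [1], [1], [1], [], [1], [1], [], [0, 2]], [[1], [], [], [0], [], [0, 2], [0, 2], [0, 0], [1], [1], [0, 2], [0, 2]], [[2], [], [], [1, 0], [], [0, 0], [], [1], [], [1], [0, 0], [0, 0]], [[3], [], [], [], [], [], [2, 1], [1], [2], [2], [], [1, 0]], [[4], [], [], [], [2, 1], [1, 0], [], [0, 2], [0, 0], [], [1, 0], [1, 0]], [[], [], [], [], [0, 0, 3, 3], [0, 0, 3], [1, 3, 3], [0, 4, 2], [0, 0, 3, 3], [1, 0, 4, 2], [0, 0, 3, 3], [0, 2, 3, 1]]]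
def T7 : List (List ℕ) := [[6], [], [], [6, 5], [6, 5, 3], [6, 5, 3, 3], [6, 5, 4], [6, 5, 3, 1], [6, 5, 3, 1, 0], [6, 5, 4, 4], [6, 5, 3, 2], [6, 5, 4, 2]]
def W7 : List (List (List ℕ)) := [[[2, 1], [0], [], [2], [2], [2], [2], [], [2], [2], [], [1, 0]], [[2], [1], [], [2, 1], [], [1, 0], [1, 0], [0, 0], [2], [2], [1, 0], [1, 0]], [[1], [2], [], [0, 2], [], [0, 0], [], [2], [], [2], [0, 0], [0, 0]], [[3], [3], [], [], [], [], [0], [2], [1], [1], [], [0, 2]], [[4, 4], [4], [], [], [0], [0, 2], [], [1, 0], [0, 0], [], [0, 2], [0, 2]], [[], [5], [], [], [0, 0, 3, 3], [0, 0, 3], [2, 3, 3], [3, 1, 0], [0, 0, 3, 3], [2, 3, 1, 0], [0, 0, 3, 3], [1, 0, 3, 2]], [[], [], [], [5], [5], [5], [5], [5], [1, 0, 5], [5], [5], [1, 0, 5]]]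
def T8 : List (List ℕ) := [[7, 6], [7], [], [7, 6, 5], [7, 6, 5, 3], [7, 6, 5, 3, 3], [7, 6, 5, 4], [7, 6, 5, 3, 1], [7, 6, 5, 3, 1, 0], [7, 6, 5, 4, 4], [7, 6, 5, 3, 2], [7, 6, 5, 4, 2]]
def W8 : List (List (List ℕ)) := [[[1], [0, 2], [0], [1, 0], [1, 0], [1, 0], [1, 0], [], [1, 0], [1, 0], [], [2]], [[1, 0], [2, 1], [1], [1], [], [2], [2], [0, 0], [1, 0], [1, 0], [2], [2]], [[2, 1], [1, 0], [2], [0], [], [0, 0], [], [1, 0], [], [1, 0], [0, 0], [0, 0]], [[3], [3], [3], [], [], [], [0, 2], [1, 0], [2, 1], [2, 1], [], [0]], [[0, 2, 3, 1], [1, 0, 4, 2], [4], [], [0, 2], [0], [], [2], [0, 0], [], [0], [0]], [[], [5], [5], [], [0, 0, 3, 3], [0, 0, 3], [1, 0, 3, 3], [3, 2], [0, 0, 3, 3], [1, 0, 3, 2], [0, 0, 3, 3], [2, 3, 1, 0]], [[], [], [6], [5], [5], [5], [5], [5], [2, 5], [5], [5], [2, 5]], [[6], [], [], [6], [6], [6], [0, 6], [1, 6], [6], [1, 0, 6], [6], [0, 6]]]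

def f (j : ℕ) (y : Fin 12) : Fin 12 := (tb.getD j []).getD y 0

def tr (w : List ℕ) (y : Fin 12) : Fin 12 := w.foldl (fun y j => f j y) y

theorem ev_tr {g : ℕ → Perm (Fin 12)} (hg : ∀ j < 8, ∀ y, g j y = f j y) (w : List ℕ)
    (hw : ∀ j ∈ w, j < 8) (y : Fin 12) : ev g w y = tr w y := by
  induction w generalizing y with
  | nil => rfl
  | cons j w ih =>
    rw [ev_cons, Perm.mul_apply, ih (fun i hi => hw i (List.mem_cons_of_mem _ hi)),
      hg j (hw j List.mem_cons_self)]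
    rfl

def Chk (m m0 : ℕ) (a : Fin 12) (O : Finset (Fin 12)) (T : List (List ℕ))
    (W : List (List (List ℕ))) : Prop :=
  m0 ≤ m ∧ m ≤ 8 ∧ a ∈ O ∧ T.getD a [] = [] ∧ (∀ j < m0, f j a = a) ∧
  (∀ x ∈ O, (∀ j ∈ T.getD x [], j < m) ∧ tr (T.getD x []) a = x) ∧
  ∀ j < m, ∀ x ∈ O, f j x ∈ O ∧ (∀ i ∈ (W.getD j []).getD x [], i < m0) ∧
    ∀ y, tr (T.getD x [] ++ [j]) y = tr ((W.getD j []).getD x [] ++ T.getD (f j x) []) y

theorem Chk.sch {g : ℕ → Perm (Fin 12)} (hg : ∀ j < 8, ∀ y, g j y = f j y) {m m0 a O T W}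
    (h : Chk m m0 a O T W) :
    gen g m ⊓ stabilizer _ a = gen g m0 ∧ Nat.card (gen g m) = O.card * Nat.card (gen g m0) := by
  obtain ⟨h1, h2, h3, h4, h5, h6, h7⟩ := h
  refine schreier g m m0 h1 a O (fun x => ev g (T.getD x [])) (fun x hx => ⟨ev_mem_gen g (h6 x hx).1, ?_⟩)
    h3 (by simp only [h4, ev_nil]) (fun j hj => ?_) (fun j hj x hx => ?_)
  · rw [Perm.smul_def, ev_tr hg _ (fun j hj => ((h6 x hx).1 j hj).trans_le h2), (h6 x hx).2]
  · rw [Perm.smul_def, hg j (by omega), h5 j hj]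
  · obtain ⟨a1, a2, a3⟩ := h7 j hj x hx
    have e : g j • x = f j x := hg j (by omega) x
    rw [e]
    refine ⟨a1, _, ev_mem_gen g a2, ?_⟩
    have e2 : g j * ev g (T.getD x []) = ev g (T.getD x [] ++ [j]) := by simp [ev_append]
    rw [e2, ← ev_append]
    ext y
    rw [ev_tr hg, ev_tr hg, a3]
    · intro i hi
      rcases List.mem_append.1 hi with hi | hi
      · have := a2 i hi; omega
      · have := (h6 _ a1).1 i hi; omega
    · intro i hi
      rcases List.mem_append.1 hi with hi | hi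
      · have := (h6 _ hx).1 i hi; omega
      · rw [List.mem_singleton.1 hi]; omega

theorem c3 : Chk 3 0 4 {4, 5, 6, 7, 8, 9, 10, 11} T3 W3 := by unfold Chk; decide +kernel
theorem c5 : Chk 5 3 3 {3, 4, 5, 6, 7, 8, 9, 10, 11} T5 W5 := by unfold Chk; decide +kernel
theorem c6 : Chk 6 5 0 {0, 3, 4, 5, 6, 7, 8, 9, 10, 11} T6 W6 := by unfold Chk; decide +kernel
theorem c7 : Chk 7 6 1 {0, 1, 3, 4, 5, 6, 7, 8, 9, 10, 11} T7 W7 := by unfold Chk; decide +kernel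
theorem c8 : Chk 8 7 2 {0, 1, 2, 3, 4, 5, 6, 7, 8, 9, 10, 11} T8 W8 := by unfold Chk; decide +kernel

theorem main {g : ℕ → Perm (Fin 12)} (hg : ∀ j < 8, ∀ y, g j y = f j y) :
    IsMultiplyPretransitive (gen g 8) (Fin 12) 5 ∧ (∀ y : Fin 5 ↪ Fin 12, stabilizer (gen g 8) y = ⊥) ∧
    Nat.card (gen g 8) = 95040 ∧ Nat.card (gen g 7) = 7920 ∧
    gen g 7 = gen g 8 ⊓ stabilizer (Perm (Fin 12)) (2 : Fin 12) := by
  obtain ⟨a3, b3⟩ := c3.sch hg
  obtain ⟨a5, b5⟩ := c5.sch hg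
  obtain ⟨a6, b6⟩ := c6.sch hg
  obtain ⟨a7, b7⟩ := c7.sch hg
  obtain ⟨a8, b8⟩ := c8.sch hg
  rw [gen_zero, Subgroup.card_bot] at b3
  rw [gen_zero] at a3
  have n7 : Nat.card (gen g 7) = 7920 := by rw [b7, b6, b5, b3]; rfl
  have n8 : Nat.card (gen g 8) = 95040 := by rw [b8, n7]; rfl
  let y0 : Fin 5 ↪ Fin 12 := ⟨Fin.castLE (by norm_num), Fin.castLE_injective _⟩
  have s0 : stabilizer (gen g 8) y0 = ⊥ := by
    rw [eq_bot_iff]
    intro k hk
    have hk' : ∀ i : Fin 5, k.1 • y0 i = y0 i := fun i => by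
      have := DFunLike.congr_fun (mem_stabilizer_iff.1 hk) i
      exact this
    have m7 : k.1 ∈ gen g 7 := a8.le ⟨k.2, hk' 2⟩
    have m6 : k.1 ∈ gen g 6 := a7.le ⟨m7, hk' 1⟩
    have m5 : k.1 ∈ gen g 5 := a6.le ⟨m6, hk' 0⟩
    have m3 : k.1 ∈ gen g 3 := a5.le ⟨m5, hk' 3⟩
    have m0 := a3.le ⟨m3, hk' 4⟩
    exact Subgroup.mem_bot.2 (Subtype.ext (Subgroup.mem_bot.1 m0))
  have ho : orbit (gen g 8) y0 = Set.univ := by
    apply Set.eq_of_subset_of_ncard_le (Set.subset_univ _)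
    have := index_stabilizer (gen g 8) y0
    rw [s0, Subgroup.index_bot, n8] at this
    refine le_of_eq (Eq.trans ?_ this)
    rw [Set.ncard_univ, Nat.card_eq_fintype_card, Fintype.card_embedding_eq]
    simp [Nat.descFactorial]
  have tr : IsMultiplyPretransitive (gen g 8) (Fin 12) 5 :=
    (isPretransitive_iff_orbit_eq_univ y0).2 ho
  refine ⟨tr, fun y => ?_, n8, n7, a8.symm⟩
  obtain ⟨k, rfl⟩ := exists_smul_eq (gen g 8) y0 y
  have := stabilizer_smul_eq_stabilizer_map_conj k y0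
  rw [s0, Subgroup.map_bot] at this
  exact this

/-- An explicit construction of the Mathieu groups of degrees 11 and 12. On the points 0, …, 11 let s = (3 4 5)(6 7 8)(9 10 11), t = (3 6 9)(4 7 10)(5 8 11), u = (4 6 5 9)(7 8 11 10), v = (4 7 5 11)(6 10 9 8), w = (4 10 5 8)(6 11 9 7), x₁ = (0 3)(6 7)(8 10)(9 11), x₂ = (0 1)(6 9)(7 10)(8 11), x₃ = (1 2)(6 11)(7 9)(8 10) (each written as a product of transpositions). Then the group M₁₂ generated by all eight permutations is sharply 5-transitive on the 12 points and has order 95040, and the group M₁₁ generated by the first seven has order 7920 and is the stabilizer of the point 2 in M₁₂. -/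
theorem result
    (s t u v w x₁ x₂ x₃ : Equiv.Perm (Fin 12))
    (hs : s = Equiv.swap (3 : Fin 12) 5 * Equiv.swap (3 : Fin 12) 4 * Equiv.swap (6 : Fin 12) 8 * Equiv.swap (6 : Fin 12) 7 * Equiv.swap (9 : Fin 12) 11 * Equiv.swap (9 : Fin 12) 10) (ht : t = Equiv.swap (3 : Fin 12) 9 * Equiv.swap (3 : Fin 12) 6 * Equiv.swap (4 : Fin 12) 10 * Equiv.swap (4 : Fin 12) 7 * Equiv.swap (5 : Fin 12) 11 * Equiv.swap (5 : Fin 12) 8)
    (hu : u = Equiv.swap (4 : Fin 12) 9 * Equiv.swap (4 : Fin 12) 5 * Equiv.swap (4 : Fin 12) 6 * Equiv.swap (7 : Fin 12) 10 * Equiv.swap (7 : Fin 12) 11 * Equiv.swap (7 : Fin 12) 8) (hv : v = Equiv.swap (4 : Fin 12) 11 * Equiv.swap (4 : Fin 12) 5 * Equiv.swap (4 : Fin 12) 7 * Equiv.swap (6 : Fin 12) 8 * Equiv.swap (6 : Fin 12) 9 * Equiv.swap (6 : Fin 12) 10) (hw : w = Equiv.swap (4 : Fin 12) 8 * Equiv.swap (4 : Fin 12) 5 * Equiv.swap (4 : Fin 12) 10 * Equiv.swap (6 : Fin 12)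 7 * Equiv.swap (6 : Fin 12) 9 * Equiv.swap (6 : Fin 12) 11)
    (hx₁ : x₁ = Equiv.swap (0 : Fin 12) 3 * Equiv.swap (6 : Fin 12) 7 * Equiv.swap (8 : Fin 12) 10 * Equiv.swap (9 : Fin 12) 11) (hx₂ : x₂ = Equiv.swap (0 : Fin 12) 1 * Equiv.swap (6 : Fin 12) 9 * Equiv.swap (7 : Fin 12) 10 * Equiv.swap (8 : Fin 12) 11)
    (hx₃ : x₃ = Equiv.swap (1 : Fin 12) 2 * Equiv.swap (6 : Fin 12) 11 * Equiv.swap (7 : Fin 12) 9 * Equiv.swap (8 : Fin 12) 10)
    (M₁₂ M₁₁ : Subgroup (Equiv.Perm (Fin 12))) (hM₁₂ : M₁₂ = Subgroup.closure {s, t, u, v, w, x₁, x₂, x₃})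
    (hM₁₁ : M₁₁ = Subgroup.closure {s, t, u, v, w, x₁, x₂}) :
    MulAction.IsMultiplyPretransitive M₁₂ (Fin 12) 5 ∧ (∀ y : Fin 5 ↪ Fin 12, MulAction.stabilizer M₁₂ y = ⊥) ∧
    Nat.card M₁₂ = 95040 ∧ Nat.card M₁₁ = 7920 ∧
    M₁₁ = M₁₂ ⊓ MulAction.stabilizer (Equiv.Perm (Fin 12)) (2 : Fin 12) := by
  let g : ℕ → Perm (Fin 12) := fun j => [u, v, w, s, t, x₁, x₂, x₃].getD j 1
  have hg : ∀ j < 8, ∀ y, g j y = f j y := by
    subst hs ht hu hv hw hx₁ hx₂ hx₃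
    decide +kernel
  have e8 : M₁₂ = gen g 8 := by
    rw [hM₁₂]
    refine le_antisymm ((Subgroup.closure_le _).2 ?_) (gen_le fun j hj => Subgroup.subset_closure ?_)
    · intro x hx
      simp only [Set.mem_insert_iff, Set.mem_singleton_iff] at hx
      rcases hx with rfl | rfl | rfl | rfl | rfl | rfl | rfl | rfl
      exacts [mem_gen g (j := 3) (by norm_num), mem_gen g (j := 4) (by norm_num),
        mem_gen g (j := 0) (by norm_num), mem_gen g (j := 1) (by norm_num),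
        mem_gen g (j := 2) (by norm_num), mem_gen g (j := 5) (by norm_num),
        mem_gen g (j := 6) (by norm_num), mem_gen g (j := 7) (by norm_num)]
    · interval_cases j <;> simp [g]
  have e7 : M₁₁ = gen g 7 := by
    rw [hM₁₁]
    refine le_antisymm ((Subgroup.closure_le _).2 ?_) (gen_le fun j hj => Subgroup.subset_closure ?_)
    · intro x hx
      simp only [Set.mem_insert_iff, Set.mem_singleton_iff] at hx
      rcases hx with rfl | rfl | rfl | rfl | rfl | rfl | rfl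
      exacts [mem_gen g (j := 3) (by norm_num), mem_gen g (j := 4) (by norm_num),
        mem_gen g (j := 0) (by norm_num), mem_gen g (j := 1) (by norm_num),
        mem_gen g (j := 2) (by norm_num), mem_gen g (j := 5) (by norm_num),
        mem_gen g (j := 6) (by norm_num)]
    · interval_cases j <;> simp [g]
  rw [e8, e7]
  exact main hg

end Cfsg.Agent.S3362
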