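import Cfsg.Statements.S3370
import Cfsg.Agent.S0016
import Cfsg.Agent.S1217
import Cfsg.Agent.S2904

set_option autoImplicit false
open Cfsg

namespace Cfsg.Agent.S3370
section
open Pointwise commutatorElement Subgroup
theorem n1 {p n k : ℕ} (hp : p.Prime) (hn : 2 ≤ n) (h : 2 ^ n = p ^ k + 1) : k = 1 := by
  have h4 : 4 ≤ 2 ^ n := Nat.pow_le_pow_right (n := 2) (by norm_num) hn
  have k0 : k ≠ 0 := by rintro rfl; simp at h; omega
  have p2 : ¬ 2 ∣ p := fun e => by
    have := e.trans (dvd_pow_self p k0)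
    have := dvd_pow_self 2 (show n ≠ 0 by omega)
    omega
  by_contra k1
  obtain ⟨r, hr, h1, h2⟩ := S2904.result p (k * 2) hp.one_lt (by omega) (by rintro ⟨rfl, -⟩; simp at p2) (by omega)
  rw [pow_mul, show (p ^ k) ^ 2 - 1 = (p ^ k + 1) * (p ^ k - 1) by simpa using Nat.sq_sub_sq (p ^ k) 1, hr.dvd_mul, ← h] at h1
  obtain rfl := (Nat.prime_dvd_prime_iff_eq hr Nat.prime_two).1 (hr.dvd_of_dvd_pow (h1.resolve_right (h2 k (by omega) (by omega))))
  exact h2 1 (by omega) (by omega) (by rw [pow_one]; omega)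

theorem n2 {p q n k : ℕ} (hp : p.Prime) (hq : q.Prime) (q2 : q ≠ 2) (hn : 2 ≤ n) (h : q ^ n = p ^ k + 1) :
    p = 2 ∧ q = 3 ∧ n = 2 := by
  have o : Odd q := hq.odd_of_ne_two q2
  have h4 : 2 ^ 2 ≤ q ^ n := (Nat.pow_le_pow_left hq.two_le 2).trans (Nat.pow_le_pow_right hq.pos hn)
  obtain rfl : 2 = p := (Nat.prime_dvd_prime_iff_eq Nat.prime_two hp).1 (Nat.prime_two.dvd_of_dvd_pow (n := k) (by
    obtain ⟨a, ha⟩ := o.pow (n := n); omega))
  obtain ⟨a, ha⟩ := o
  obtain ⟨rfl, m, hm⟩ : n = 2 ∧ ∃ m, q + 1 = 2 ^ m := by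
    by_contra f
    obtain ⟨r, hr, h1, h2⟩ := S2904.result q n hq.one_lt (by omega) (fun e => q2 e.1) f
    rw [h, Nat.add_sub_cancel] at h1
    obtain rfl := (Nat.prime_dvd_prime_iff_eq hr Nat.prime_two).1 (hr.dvd_of_dvd_pow h1)
    exact h2 1 (by omega) (by omega) (by rw [pow_one]; omega)
  obtain ⟨b, -, hb⟩ := (Nat.dvd_prime_pow Nat.prime_two).1 (show q - 1 ∣ 2 ^ k from ⟨q + 1, by
    have := Nat.sq_sub_sq q 1
    rw [mul_comm]; omega⟩)
  have := hq.two_le
  refine ⟨rfl, ?_, rfl⟩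
  rcases m with _ | _ | m <;> rcases b with _ | _ | b <;> simp only [pow_succ, pow_zero] at hm hb <;> omega
end

/-- Let q be a prime, V a non-trivial finite vector space over the field with q elements, and G a non-trivial finite p-group (p prime) acting faithfully and linearly on V and transitively on the non-zero vectors. Then either q = 2 and G has prime order p = |V| − 1; or p = 2, V has q elements with q = 2^m + 1 and G is cyclic of order 2^m; or p = 2, q = 3, V has 9 elements and G is cyclic of order 8, quaternion of order 8, or semidihedral of order 16. -/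
theorem result (q : ℕ) [Fact q.Prime] {V : Type*} [AddCommGroup V] [Module (ZMod q) V] [Finite V] [Nontrivial V]
    {G : Type*} [Group G] [Finite G] [Nontrivial G] (p : ℕ) [Fact p.Prime] (hG : IsPGroup p G)
    (ρ : G →* (V ≃ₗ[ZMod q] V)) (hρ : Function.Injective ρ)
    (htrans : ∀ v w : V, v ≠ 0 → w ≠ 0 → ∃ g : G, ρ g v = w) :
    (q = 2 ∧ p = Nat.card V - 1 ∧ Nat.card G = p) ∨
    (p = 2 ∧ Nat.card V = q ∧ (∃ m : ℕ, q = 2 ^ m + 1 ∧ Nat.card G = 2 ^ m) ∧ IsCyclic G) ∨
    (p = 2 ∧ q = 3 ∧ Nat.card V = 9 ∧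
      ((IsCyclic G ∧ Nat.card G = 8) ∨ Nonempty (G ≃* QuaternionGroup 2) ∨ (Cfsg.IsQuasiDihedral G ∧ Nat.card G = 16))) := by
  open Pointwise commutatorElement Subgroup in
  classical
  have hp : p.Prime := Fact.out
  have hq : q.Prime := Fact.out
  haveI : Module.Finite (ZMod q) V := Module.Finite.of_finite
  have hV := Module.natCard_eq_pow_finrank (K := ZMod q) (V := V)
  have n0 : 0 < Module.finrank (ZMod q) V := Module.finrank_pos
  have b := Module.finBasis (ZMod q) V
  generalize Module.finrank (ZMod q) V = n at hV n0 b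
  rw [Nat.card_zmod] at hV
  letI : MulAction G V := MulAction.compHom V ρ
  have idx : ∀ v : V, v ≠ 0 → (MulAction.stabilizer G v).index + 1 = q ^ n := fun v hv => by
    rw [MulAction.index_stabilizer, show MulAction.orbit G v = {0}ᶜ from Set.ext fun w =>
      ⟨by rintro ⟨g, rfl⟩; exact (ρ g).map_ne_zero_iff.2 hv, htrans v w hv⟩, ← hV, ← Set.ncard_add_ncard_compl {0},
      Set.ncard_singleton, add_comm]
  obtain ⟨v, hv⟩ := exists_ne (0 : V)
  obtain ⟨k, hk⟩ := hG.index (MulAction.stabilizer G v)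
  have h1 := idx v hv
  have h2 := (MulAction.stabilizer G v).index_dvd_card
  rw [hk] at h1 h2
  obtain ⟨j, j0, hj⟩ := hG.nontrivial_iff_card.1 inferInstance
  let φ : G →* GL (Fin n) (ZMod q) := ((Matrix.GeneralLinearGroup.toLin' b).trans
    (LinearMap.GeneralLinearGroup.generalLinearEquiv (ZMod q) V)).symm.toMonoidHom.comp ρ
  have hφ : Function.Injective φ := fun x y e => hρ (((Matrix.GeneralLinearGroup.toLin' b).trans
    (LinearMap.GeneralLinearGroup.generalLinearEquiv (ZMod q) V)).symm.injective e)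
  have h3 := card_dvd_of_injective φ hφ
  rw [Matrix.card_GL_field, ZMod.card] at h3
  obtain rfl | n2 := (show n = 1 ∨ 2 ≤ n by omega)
  · simp only [pow_one, Finset.univ_unique, Finset.prod_singleton, Fin.default_eq_zero, Fin.val_zero, pow_zero] at h1 h3 hV
    have h4 : Nat.card G = p ^ k := Nat.dvd_antisymm (by rwa [← h1, Nat.add_sub_cancel] at h3) h2
    have h5 := Finite.one_lt_card (α := G)
    obtain ⟨a, ha⟩ := hq.odd_of_ne_two (by omega)
    obtain rfl : 2 = p := (Nat.prime_dvd_prime_iff_eq Nat.prime_two hp).1 (Nat.prime_two.dvd_of_dvd_pow (n := k) (by omega))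
    refine .inr (.inl ⟨rfl, hV, ⟨k, h1.symm, h4⟩, isCyclic_of_injective (Matrix.GeneralLinearGroup.det.comp φ)
      fun A B e => hφ (Units.ext (Matrix.ext fun i j => ?_))⟩)
    have : (Matrix.GeneralLinearGroup.det (φ A)).val = (Matrix.GeneralLinearGroup.det (φ B)).val := congrArg Units.val e
    simp only [Matrix.GeneralLinearGroup.val_det_apply, Matrix.det_unique] at this
    rwa [Subsingleton.elim i default, Subsingleton.elim j default]
  by_cases q2 : q = 2
  · subst q2
    obtain rfl := n1 hp n2 h1.symm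
    rw [pow_one] at h1
    refine .inl ⟨rfl, by omega, ?_⟩
    obtain rfl | j2 := (show j = 1 ∨ 2 ≤ j by omega)
    · rw [hj, pow_one]
    obtain ⟨n, rfl⟩ : ∃ m, n = m + 1 := ⟨n - 1, by omega⟩
    rw [Fin.prod_univ_succ, hj, Fin.val_zero, pow_zero, ← h1, Nat.add_sub_cancel] at h3
    have h4 := (pow_dvd_pow p j2).trans h3
    rw [pow_two, Nat.mul_dvd_mul_iff_left hp.pos, hp.prime.dvd_finset_prod_iff] at h4
    obtain ⟨i, -, h5⟩ := h4
    have h6 : 2 ^ (i.succ : ℕ) < 2 ^ (n + 1) := Nat.pow_lt_pow_right (by norm_num) i.succ.2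
    have h7 : 2 ^ 1 ≤ 2 ^ (i.succ : ℕ) := Nat.pow_le_pow_right (by norm_num) (by simp)
    have := Nat.le_of_dvd (by omega) h5
    omega
  obtain ⟨rfl, rfl, rfl⟩ := S3370.n2 hp hq q2 n2 h1.symm
  refine .inr (.inr ⟨rfl, rfl, hV, ?_⟩)
  have e48 : ∏ i : Fin 2, (3 ^ 2 - 3 ^ (i : ℕ)) = 48 := by decide
  rw [e48, hj] at h3
  rw [show 2 ^ k = 8 by omega, hj] at h2
  have : j ≤ 5 := by
    by_contra f
    have := Nat.pow_le_pow_right (n := 2) (by norm_num) (show 6 ≤ j by omega)
    have := Nat.le_of_dvd (by norm_num) h3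
    omega
  obtain h | h : Nat.card G = 8 ∨ Nat.card G = 16 := by rw [hj]; interval_cases j <;> omega
  · have fr : ∀ w : V, w ≠ 0 → ∀ g : G, ρ g w = w → g = 1 := fun w hw g e => by
      have h4 := idx w hw
      have h5 := (MulAction.stabilizer G w).card_mul_index
      rw [show (MulAction.stabilizer G w).index = 8 by omega] at h5
      exact mem_bot.1 ((card_eq_one.1 (show Nat.card (MulAction.stabilizer G w) = 1 by omega)).le e)
    have ng : ∀ g : G, orderOf g = 2 → ∀ w : V, ρ g w = -w := fun g hg w => by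
      by_contra f
      have h4 : ρ g (ρ g w) = w := by rw [← LinearEquiv.mul_apply, ← map_mul, ← pow_two, ← hg, pow_orderOf_eq_one, map_one]; rfl
      rw [fr (ρ g w + w) (fun e => f (eq_neg_of_add_eq_zero_left e)) g (by rw [map_add, h4, add_comm]), orderOf_one] at hg
      omega
    have gen : ∀ H : Subgroup G, Nat.card H = 2 → ∃ g, orderOf g = 2 ∧ zpowers g = H := fun H hH => by
      obtain ⟨g, hg⟩ := exists_prime_orderOf_dvd_card' (G := H) 2 hH.symm.dvd
      rw [← orderOf_coe] at hg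
      exact ⟨g, hg, eq_of_le_of_card_ge (zpowers_le.2 g.2) (by rw [Nat.card_zpowers, hg, hH])⟩
    obtain h4 | ⟨-, m, ⟨e⟩⟩ := S0016.result 2 hG fun H K hH hK => by
      obtain ⟨x, h5, rfl⟩ := gen H hH
      obtain ⟨y, h6, rfl⟩ := gen K hK
      rw [hρ (LinearEquiv.ext fun w => (ng x h5 w).trans (ng y h6 w).symm)]
    · exact .inl ⟨h4, h⟩
    · have := Nat.card_congr e.toEquiv
      rw [h, Nat.card_eq_fintype_card, QuaternionGroup.card] at this
      exact .inr (.inl ⟨(show 2 ^ m = 2 by omega) ▸ e⟩)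
  · have e := MonoidHom.ofInjective hφ
    have h4 := φ.range.card_mul_index
    rw [← Nat.card_congr e.toEquiv, h, Matrix.card_GL_field, ZMod.card, e48] at h4
    obtain ⟨m, h5, h6, x, y, h7, h8, h9⟩ : IsQuasiDihedral φ.range := (S1217.result ((hG.of_equiv e).toSylow (by omega))).1 (by rw [ZMod.card])
    exact .inr (.inr ⟨⟨m, h5, (Nat.card_congr e.toEquiv).trans h6, e.symm x, e.symm y, (e.symm.orderOf_eq x).trans h7,
      (e.symm.orderOf_eq y).trans h8, by rw [← map_inv, ← map_mul, ← map_mul, ← map_pow]; exact congrArg e.symm h9⟩, h⟩)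

end Cfsg.Agent.S3370
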