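import Cfsg.Statements.S3374
import Cfsg.Agent.Lib.Block.Fc1

set_option autoImplicit false
open Cfsg

namespace Cfsg.Agent.S3374

open Cfsg.Agent.Blk
open Cfsg.Agent.Char hiding cj cj_mul cj_inv_cj cj_cj_inv

/-- SL(2,5) occurs as a Frobenius complement: there is a finite group L with a subgroup H isomorphic to SL(2,5) which is a non-trivial proper subgroup meeting each conjugate gHg⁻¹ with g outside H trivially. -/
theorem result :
    ∃ (L : Type) (_ : Group L) (_ : Finite L) (H : Subgroup L),
      Cfsg.IsFrobeniusComplement H ∧ Nonempty (H ≃* Matrix.SpecialLinearGroup (Fin 2) (ZMod 5)) := by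
  obtain ⟨φ, h⟩ := exists_sl25
  obtain ⟨-, -, -, c, -⟩ := Transfer.FC.sl25_gens
  haveI : Nontrivial (Transfer.SL2 (ZMod 5)) := Finite.one_lt_card_iff_nontrivial.1 (by rw [c]; decide)
  haveI := Fact.mk (by norm_num : Nat.Prime 11)
  exact frob_of_inj φ h (by rw [c]; decide)

end Cfsg.Agent.S3374
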