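import Cfsg.Statements.S3375
import Mathlib

set_option autoImplicit false
open Cfsg

namespace Cfsg.Agent.S3375



/-- Let γ be an automorphism of order 2 of a finite group H. (i) If γ fixes only the identity, then H is abelian and γ inverts every element. (ii) If γ has exactly two fixed points and H has a subgroup of index 2, then H has a γ-invariant abelian subgroup of index 2 on which γ acts by inversion. -/
theorem result {H : Type*} [Group H] [Finite H] (γ : MulAut H) (hγ : orderOf γ = 2) :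
    ((∀ h : H, γ h = h → h = 1) → (∀ a b : H, a * b = b * a) ∧ ∀ h : H, γ h = h⁻¹) ∧
    ((Nat.card {h : H // γ h = h} = 2 ∧ ∃ M : Subgroup H, M.index = 2) →
      ∃ A : Subgroup H, A.index = 2 ∧ IsMulCommutative A ∧ (∀ a ∈ A, γ a ∈ A) ∧ ∀ a ∈ A, γ a = a⁻¹) := by
  have h2 : Function.Involutive γ := fun x => by
    rw [← MulAut.mul_apply, ← sq, ← hγ, pow_orderOf_eq_one, MulAut.one_apply]
  refine ⟨fun h => ⟨MonoidHom.FixedPointFree.commute_all_of_involutive h h2,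
    congrFun (MonoidHom.FixedPointFree.coe_eq_inv_of_involutive h h2)⟩, ?_⟩
  rintro ⟨hc, M, hM⟩
  obtain ⟨A, hA, hA2⟩ : ∃ A : Subgroup H, A.index = 2 ∧ ∀ x, γ x ∈ A ↔ x ∈ A := by
    by_cases h : ∀ x, γ x ∈ M ↔ x ∈ M
    · exact ⟨M, hM, h⟩
    have hm := @Subgroup.mul_mem_iff_of_index_two _ _ _ hM
    refine ⟨⟨⟨⟨{x | γ x ∈ M ↔ x ∈ M}, fun {a b} ha hb => ?_⟩, by simp⟩, fun {a} ha => by simpa using ha⟩, ?_, fun x => ?_⟩
    · simp only [Set.mem_setOf_eq, map_mul, hm] at *; tauto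
    · push Not at h
      obtain ⟨a, ha⟩ := h
      refine Subgroup.index_eq_two_iff_exists_notMem_and.2 ⟨a, fun e => ?_, fun b => ?_⟩
      · have e' : γ a ∈ M ↔ a ∈ M := e
        tauto
      · show (γ (b * a) ∈ M ↔ b * a ∈ M) ∨ (γ b ∈ M ↔ b ∈ M)
        simp only [map_mul, hm]; tauto
    · show (γ (γ x) ∈ M ↔ γ x ∈ M) ↔ (γ x ∈ M ↔ x ∈ M)
      rw [h2 x]; tauto
  let C : Subgroup H := γ.toMonoidHom.eqLocus (MonoidHom.id H)
  have hC : C.index = Nat.card A := by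
    have e1 := C.index_mul_card
    rw [show Nat.card C = 2 from hc, ← A.index_mul_card, hA] at e1
    omega
  have hb := (Nat.bijective_iff_injective_and_card (fun q : H ⧸ C => (⟨γ q.out * q.out⁻¹, by
    rw [Subgroup.mul_mem_iff_of_index_two hA, hA2, inv_mem_iff]⟩ : A))).2 ⟨fun p q e => by
      have e' : γ p.out * p.out⁻¹ = γ q.out * q.out⁻¹ := congrArg Subtype.val e
      rw [← p.out_eq, ← q.out_eq, QuotientGroup.eq]
      show γ (p.out⁻¹ * q.out) = p.out⁻¹ * q.out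
      rw [map_mul, map_inv, mul_inv_eq_iff_eq_mul.1 e'.symm, mul_inv_eq_iff_eq_mul.1 e']
      group, hC⟩
  have hi : ∀ a ∈ A, γ a = a⁻¹ := by
    intro a ha
    obtain ⟨q, hq⟩ := hb.2 ⟨a, ha⟩
    rw [← show _ = a from congrArg Subtype.val hq, map_mul, map_inv, h2]
    group
  refine ⟨A, hA, ⟨⟨fun a b => Subtype.ext (inv_injective ?_)⟩⟩, fun a ha => (hA2 a).2 ha, hi⟩
  show ((a : H) * b)⁻¹ = ((b : H) * a)⁻¹
  rw [← hi _ (A.mul_mem a.2 b.2), map_mul, hi _ a.2, hi _ b.2, mul_inv_rev]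

end Cfsg.Agent.S3375
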