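import Cfsg.Statements.S3376
import Cfsg.Agent.Lib.Comp.Basic

set_option autoImplicit false
open Cfsg

namespace Cfsg.Agent.S3376
section
open Pointwise commutatorElement Subgroup
theorem meet {G : Type*} [Group G] [Finite G] {p : ℕ} [Fact p.Prime] {S M : Subgroup G} [M.Normal] (hS : IsPGroup p S)
    (h : M ≤ S) (h0 : M ≠ ⊥) : ∃ x ∈ M, x ≠ 1 ∧ x ∈ centralizer (S : Set G) := by
  letI := MulAction.compHom M ((MulAut.conjNormal : G →* MulAut M).comp S.subtype)
  obtain ⟨k, hk, e⟩ := (hS.to_le h).nontrivial_iff_card.1 ((nontrivial_iff_ne_bot M).2 h0)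
  obtain ⟨b, hb, h1⟩ := hS.exists_fixed_point_of_prime_dvd_card_of_fixed_point M (e ▸ dvd_pow_self p hk.ne') (a := 1)
    fun g => map_one (MulAut.conjNormal (g : G))
  exact ⟨b, b.2, fun e => h1 (Subtype.ext e.symm), fun s hs =>
    mul_inv_eq_iff_eq_mul.1 (congrArg Subtype.val (hb ⟨s, hs⟩))⟩

theorem ct {σ : Equiv.Perm (Fin 9)} (h : σ ^ 3 = 1) (h2 : ∀ x, σ x ≠ x) : σ.cycleType = Multiset.replicate 3 3 := by
  haveI := Fact.mk Nat.prime_three
  have h1 := Equiv.Perm.cycleType_of_pow_prime_eq_one h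
  have h3 := σ.sum_cycleType
  rw [h1, Multiset.sum_replicate, show σ.support = Finset.univ from Finset.eq_univ_of_forall (by simpa using h2)] at h3
  simp only [smul_eq_mul, Finset.card_univ, Fintype.card_fin] at h3
  rw [h1, show σ.cycleType.card = 3 by omega]
end

/-- Let G be a group of order 162 = 3⁴·2 with Sylow 3-subgroup S and Sylow 2-subgroup T, having an elementary abelian normal subgroup J of order 27, such that Z = Z(S) has order 3, Z centralizes T, and C_S(T) ≠ S. Then G is isomorphic to the centralizer in Sym(9) of a product of three disjoint 3-cycles. -/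
theorem result {G : Type*} [Group G] [Finite G] (hG : Nat.card G = 162)
    (S : Sylow 3 G) (T : Sylow 2 G) (J : Subgroup G) [hJn : J.Normal] (hJcomm : IsMulCommutative J)
    (hJexp : ∀ a ∈ J, a ^ 3 = 1) (hJcard : Nat.card J = 27)
    (Z : Subgroup G) (hZ : Z = (S : Subgroup G) ⊓ Subgroup.centralizer ((S : Subgroup G) : Set G)) (hZcard : Nat.card Z = 3)
    (hZT : Z ≤ Subgroup.centralizer ((T : Subgroup G) : Set G))
    (hST : (S : Subgroup G) ⊓ Subgroup.centralizer ((T : Subgroup G) : Set G) ≠ S) :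
    Nonempty (G ≃* Subgroup.centralizer ({Equiv.swap (0 : Fin 9) 1 * Equiv.swap 1 2 * Equiv.swap 3 4 * Equiv.swap 4 5 * Equiv.swap 6 7 * Equiv.swap 7 8} : Set (Equiv.Perm (Fin 9)))) := by
  open Pointwise commutatorElement Subgroup in
  haveI := Fact.mk Nat.prime_three
  haveI := Fact.mk Nat.prime_two
  have hS : Nat.card S = 81 := by
    rw [S.card_eq_multiplicity, hG, show 162 = 3 ^ 4 * 2 by norm_num, Nat.factorization_mul (by norm_num) (by norm_num),
      Nat.Prime.factorization_pow Nat.prime_three]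
    simp [Nat.factorization_eq_zero_of_not_dvd (show ¬ 3 ∣ 2 by norm_num)]
  have hT : Nat.card T = 2 := by
    rw [T.card_eq_multiplicity, hG, show 162 = 2 * 81 by norm_num, Nat.factorization_mul (by norm_num) (by norm_num)]
    simp [Nat.Prime.factorization_self Nat.prime_two, Nat.factorization_eq_zero_of_not_dvd (show ¬ 2 ∣ 81 by norm_num)]
  have iS : (S : Subgroup G).index = 2 := by have := (S : Subgroup G).card_mul_index; rw [hS] at this; omega
  haveI := normal_of_index_eq_two iS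
  have ST : (S : Subgroup G) ⊔ T = ⊤ := by
    have h1 := card_dvd_of_le (le_sup_left : (S : Subgroup G) ≤ (S : Subgroup G) ⊔ T)
    have h2 := card_dvd_of_le (le_sup_right : (T : Subgroup G) ≤ (S : Subgroup G) ⊔ T)
    have h3 := card_le_card_group ((S : Subgroup G) ⊔ T)
    have h4 := Nat.card_pos (α := ((S : Subgroup G) ⊔ (T : Subgroup G) : Subgroup G))
    rw [hS] at h1
    rw [hT] at h2
    exact eq_top_of_card_eq _ (by omega)
  obtain ⟨t, t1, tu⟩ := (Nat.card_eq_two_iff' (1 : T)).1 hT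
  have mT : ∀ x ∈ (T : Subgroup G), x = 1 ∨ x = t := fun x hx =>
    (em (⟨x, hx⟩ = (1 : T))).imp (congrArg Subtype.val) fun h => congrArg Subtype.val (tu _ h)
  have tt : (t : G) * t = 1 := (mT _ (mul_mem t.2 t.2)).resolve_right fun e => t1 (Subtype.ext (mul_eq_left.1 e))
  have ZM : ∀ M : Subgroup G, M.Normal → M ≤ S → M ≠ ⊥ → Z ≤ M := fun M _ h1 h2 => by
    obtain ⟨x, h3, h4, h5⟩ := meet S.isPGroup' h1 h2
    have h6 := card_dvd_of_le (inf_le_left : Z ⊓ M ≤ Z)
    rw [hZcard, Nat.dvd_prime Nat.prime_three, card_eq_one] at h6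
    exact inf_eq_left.1 (eq_of_le_of_card_ge inf_le_left (hZcard.trans (h6.resolve_left fun e =>
      h4 (mem_bot.1 (e ▸ (⟨hZ ▸ ⟨h1 h3, h5⟩, h3⟩ : x ∈ Z ⊓ M)))).symm).le)
  have ZJ := ZM J hJn ((IsPGroup.of_card (n := 3) hJcard).le_sylow_of_normal S) fun e => by simp [e] at hJcard
  obtain ⟨⟨z, hz⟩, z1⟩ := ne_bot_iff_exists_ne_one.1 (show Z ≠ ⊥ from fun e => by simp [e] at hZcard)
  replace z1 : z ≠ 1 := fun e => z1 (Subtype.ext e)
  have zc : ∀ g : G, g * z = z * g := fun g => mem_centralizer_singleton_iff.1 ((show ⊤ ≤ centralizer {z} from ST ▸ sup_le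
    (fun s hs => mem_centralizer_singleton_iff.2 ((hZ ▸ hz).2 s hs)) fun s hs =>
      mem_centralizer_singleton_iff.2 (hZT hz s hs)) (mem_top g))
  letI : CommGroup J := { (inferInstance : Group J) with mul_comm := hJcomm.1.1 }
  obtain ⟨ψ, hψ⟩ := CommGroup.exists_apply_ne_one_of_hasEnoughRootsOfUnity J ℂ (a := ⟨z, ZJ hz⟩) fun e => z1 (congrArg Subtype.val e)
  let φ : J →* ℂˣ := ψ * ψ.comp (MulAut.conjNormal (t : G)).toMonoidHom
  have J3 : ∀ a : J, a ^ 3 = 1 := fun a => Subtype.ext (hJexp a a.2)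
  have φz : φ ⟨z, ZJ hz⟩ ≠ 1 := fun e => hψ (by
    have h1 : MulAut.conjNormal (t : G) (⟨z, ZJ hz⟩ : J) = ⟨z, ZJ hz⟩ := Subtype.ext (by simp [zc])
    have h2 : ψ ⟨z, ZJ hz⟩ * ψ (MulAut.conjNormal (t : G) ⟨z, ZJ hz⟩) = 1 := e
    have h3 := congrArg ψ (J3 ⟨z, ZJ hz⟩)
    rw [h1] at h2
    rwa [map_pow, pow_succ, pow_two, h2, one_mul, map_one] at h3)
  have φt : ∀ a : J, φ (MulAut.conjNormal (t : G) a) = φ a := fun a => by
    have : MulAut.conjNormal (t : G) (MulAut.conjNormal (t : G) a) = a := by rw [← MulAut.mul_apply, ← map_mul, tt, map_one]; rfl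
    exact (congrArg (fun x => ψ (MulAut.conjNormal (t : G) a) * ψ x) this).trans (mul_comm _ _)
  have hR : Nat.card φ.range = 3 := by
    haveI : Finite φ.range := Finite.of_surjective _ φ.rangeRestrict_surjective
    refine ((Nat.dvd_prime Nat.prime_three).1 ?_).resolve_left fun e => φz (mem_bot.1 (card_eq_one.1 e ▸ ⟨_, rfl⟩))
    rw [← IsCyclic.exponent_eq_card]
    refine Monoid.exponent_dvd_of_forall_pow_eq_one ?_
    rintro ⟨_, a, rfl⟩
    exact Subtype.ext (show φ a ^ 3 = 1 by rw [← map_pow, J3, map_one])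
  set W := φ.ker.map J.subtype with hWd
  have hW : Nat.card W = 9 := by
    have := φ.ker.card_mul_index
    rw [index_ker, hR, hJcard] at this
    rw [card_map_of_injective J.subtype_injective]; omega
  have cW : ∀ x ∈ W, (t : G) * x * (t : G)⁻¹ ∈ W := by
    rintro _ ⟨a, ha, rfl⟩
    exact ⟨MulAut.conjNormal (t : G) a, (φt a).trans ha, rfl⟩
  have hU := Comp.card_sup_mul_card_inf (H := T) (N := W) fun x hx => by
    obtain rfl | rfl := mT x hx
    · exact one_mem _
    · refine mem_normalizer_iff.2 fun y => ⟨cW y, fun h => ?_⟩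
      have := cW _ h
      rwa [inv_eq_of_mul_eq_one_right tt, ← mul_assoc, ← mul_assoc, tt, one_mul, mul_assoc, tt, mul_one] at this
  rw [hT, hW, disjoint_iff.1 (disjoint_of_coprime_natCard (by rw [hT, hW]; norm_num)), card_bot] at hU
  set U := (T : Subgroup G) ⊔ W
  have zU : z ∉ U := fun h => by
    have h1 := card_dvd_of_le (inf_le_left : U ⊓ J ≤ U)
    have h2 := card_dvd_of_le (inf_le_right : U ⊓ J ≤ J)
    have h3 := Nat.le_of_dvd (by norm_num) (show Nat.card (U ⊓ J : Subgroup G) ∣ Nat.gcd 18 27 from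
      Nat.dvd_gcd (by rwa [show Nat.card U = 18 by omega] at h1) (hJcard ▸ h2))
    have := eq_of_le_of_card_ge (le_inf le_sup_right (map_subtype_le _) : W ≤ U ⊓ J) (hW ▸ h3)
    exact φz ((mem_map_iff_mem J.subtype_injective (x := ⟨z, ZJ hz⟩)).1 (this.ge ⟨h, ZJ hz⟩))
  have core : U.normalCore = ⊥ := by
    have h1 : U.normalCore ⊓ S = ⊥ := by_contra fun h => zU (U.normalCore_le (ZM _ inferInstance inf_le_right h hz).1)
    by_contra h
    have h2 := relIndex_dvd_index_of_normal (S : Subgroup G) U.normalCore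
    rw [relIndex, subgroupOf_eq_bot.2 (disjoint_iff.2 h1).symm, index_bot, iS] at h2
    have h3 := (IsPGroup.of_card (n := 1) (((Nat.dvd_prime Nat.prime_two).1 h2).resolve_left
      fun e => h (card_eq_one.1 e))).le_sylow_of_normal T
    obtain ⟨⟨x, hx⟩, x1⟩ := ne_bot_iff_exists_ne_one.1 h
    obtain rfl := (mT x (h3 hx)).resolve_left fun e => x1 (Subtype.ext e)
    refine hST (inf_eq_left.2 fun s hs y hy => ?_)
    obtain rfl | rfl := mT y hy
    · simp
    · exact (commute_of_normal_of_disjoint _ _ inferInstance inferInstance (disjoint_iff.2 h1) _ _ hx hs).eq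
  have e : G ⧸ U ≃ Fin 9 := Finite.equivFinOfCardEq (by
    have := U.card_mul_index
    rw [show Nat.card U = 18 by omega] at this
    rw [← index]; omega)
  let F := e.permCongrHom.toMonoidHom.comp (MulAction.toPermHom G (G ⧸ U))
  have hF : Function.Injective F := e.permCongrHom.injective.comp ((MonoidHom.ker_eq_bot_iff _).1 (U.normalCore_eq_ker ▸ core))
  set σ := Equiv.swap (0 : Fin 9) 1 * Equiv.swap 1 2 * Equiv.swap 3 4 * Equiv.swap 4 5 * Equiv.swap 6 7 * Equiv.swap 7 8
  have hσ : σ.cycleType = Multiset.replicate 3 3 := ct (by decide) (by decide)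
  obtain ⟨c, hc⟩ := isConj_iff.1 (Equiv.Perm.isConj_iff_cycleType_eq.2 ((ct (σ := F z) (by rw [← map_pow, hJexp z (ZJ hz), map_one])
    fun x h => by
      obtain ⟨g, hg⟩ := QuotientGroup.mk_surjective (e.symm x)
      have h1 : z • e.symm x = e.symm x := e.eq_symm_apply.2 h
      rw [← hg, MulAction.Quotient.smul_mk, eq_comm, QuotientGroup.eq, smul_eq_mul, ← zc, inv_mul_cancel_left] at h1
      exact zU h1).trans hσ.symm))
  let F' := (MulAut.conj c).toMonoidHom.comp F
  have hF' : Function.Injective F' := (MulAut.conj c).injective.comp hF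
  refine ⟨(MonoidHom.ofInjective hF').trans (MulEquiv.subgroupCongr (eq_of_le_of_card_ge ?_ ?_))⟩
  · rintro _ ⟨g, rfl⟩
    rw [mem_centralizer_singleton_iff, ← hc]
    show F' g * F' z = F' z * F' g
    rw [← map_mul, zc, map_mul]
  · rw [Equiv.Perm.nat_card_centralizer, hσ, ← Nat.card_congr (MonoidHom.ofInjective hF').toEquiv, hG]
    decide

end Cfsg.Agent.S3376
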