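import Cfsg.Statements.S3377
import Cfsg.Agent.Lib.Classical.Pres1
import Cfsg.Agent.Lib.Perm.Tri

set_option autoImplicit false
open Cfsg

namespace Cfsg.Agent.S3377
open Cfsg.Agent.Classical

open Cfsg.Agent.Perm.Tri Subgroup MulAction in
theorem key {G : Type*} [Group G] {x y : G} (hx : x ^ 2 = 1) (hy : y ^ 3 = 1) (hz : (x * y) ^ 5 = 1)
    (hg : closure {x, y} = ⊤) : Finite G := by
  have ho : x • y • ((1 : G) : G ⧸ zpowers (x * y)) = ((1 : G) : G ⧸ zpowers (x * y)) := by
    rw [← mul_smul, ← mem_stabilizer_iff, stabilizer_quotient]; exact mem_zpowers _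
  obtain ⟨l, -, h0, h⟩ := tri_orbit5 hx hy hz _ ho
  have key : ∀ g ∈ closure ({x, y} : Set G), ∀ s ∈ l, g • s ∈ l := by
    intro g hg
    induction hg using closure_induction'' with
    | mem g hg => rcases hg with rfl | rfl <;> intro s hs; exacts [(h s hs).1, (h s hs).2]
    | inv_mem g hg =>
      rcases hg with rfl | rfl <;> intro s hs
      · rw [show g⁻¹ = g from inv_eq_of_mul_eq_one_right (by rw [← pow_two, hx])]; exact (h s hs).1
      · rw [show g⁻¹ = g * g from inv_eq_of_mul_eq_one_right (by rw [← pow_three, hy]), mul_smul]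
        exact (h _ (h s hs).2).2
    | one => simp
    | mul a b _ _ ha hb => intro s hs; rw [mul_smul]; exact ha _ (hb s hs)
  haveI : Finite (G ⧸ zpowers (x * y)) := by
    rw [← Set.finite_univ_iff]
    refine l.finite_toSet.subset fun s _ => ?_
    obtain ⟨g, rfl⟩ := QuotientGroup.mk_surjective s
    simpa using key g (hg ▸ mem_top g) _ h0
  haveI : Finite (zpowers (x * y)) := (isOfFinOrder_iff_pow_eq_one.2 ⟨5, by norm_num, hz⟩).finite_zpowers
  exact Finite.of_equiv _ (groupEquivQuotientProdSubgroup (s := zpowers (x * y))).symm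


/-- The alternating group of degree 5 has the presentation ⟨x, y | x³ = 1, y⁵ = 1, (xy)² = 1⟩: the group so presented is isomorphic to Alt(5). -/
theorem result :
    Nonempty (PresentedGroup ({FreeGroup.of (0 : Fin 2) ^ 3, FreeGroup.of (1 : Fin 2) ^ 5,
        (FreeGroup.of (0 : Fin 2) * FreeGroup.of 1) ^ 2} : Set (FreeGroup (Fin 2))) ≃* alternatingGroup (Fin 5)) := by
  set rels : Set (FreeGroup (Fin 2)) := insert _ (insert _ {_})
  let X : PresentedGroup rels := PresentedGroup.of 0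
  let Y : PresentedGroup rels := PresentedGroup.of 1
  have r : ∀ w ∈ rels, PresentedGroup.mk rels w = 1 := fun w h => PresentedGroup.one_of_mem h
  have h1 : X ^ 3 = 1 := r _ (Or.inl rfl)
  have h2 : Y ^ 5 = 1 := r _ (Or.inr (Or.inl rfl))
  have h3 : (X * Y) ^ 2 = 1 := r _ (Or.inr (Or.inr rfl))
  have h4 : (X * Y)⁻¹ ^ 2 = 1 := by rw [inv_pow, h3, inv_one]
  have h5 : ((X * Y)⁻¹ * X) ^ 5 = 1 := by simp [h2]
  have hg : Subgroup.closure {(X * Y)⁻¹, X} = ⊤ := by
    rw [eq_top_iff, ← PresentedGroup.closure_range_of rels, Subgroup.closure_le]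
    have a : X ∈ Subgroup.closure {(X * Y)⁻¹, X} := Subgroup.subset_closure (Or.inr rfl)
    have b : (X * Y)⁻¹ ∈ Subgroup.closure {(X * Y)⁻¹, X} := Subgroup.subset_closure (Or.inl rfl)
    rintro _ ⟨i, rfl⟩
    fin_cases i
    · exact a
    · simpa using inv_mem (mul_mem b a)
  haveI := key h4 h1 h5 hg
  have hf : ∀ w ∈ rels, FreeGroup.lift ![Perm.Tri.b5, (Perm.Tri.a5 * Perm.Tri.b5)⁻¹] w = 1 := by
    rintro _ (rfl | rfl | rfl) <;> simp only [map_pow, map_mul, FreeGroup.lift_apply_of] <;> decide +kernel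
  obtain ⟨e⟩ := Perm.Tri.tri_A5 h4 h1 h5 fun h => by
    have := congrArg (PresentedGroup.toGroup hf) h
    simp only [map_inv, map_mul, X, Y, PresentedGroup.toGroup.of, map_one] at this
    revert this; decide +kernel
  exact ⟨(Subgroup.topEquiv.symm.trans (MulEquiv.subgroupCongr hg.symm)).trans e⟩

end Cfsg.Agent.S3377
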