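import Cfsg.Statements.S3378
import Cfsg.Agent.Lib.Transfer.FC6

set_option autoImplicit false
open Cfsg

namespace Cfsg.Agent.S3378

set_option linter.unusedSectionVars false
set_option linter.unusedVariables false
set_option linter.style.haveILetI false
set_option linter.unusedSimpArgs false

theorem key {X : Type*} [Group X] [Finite X] (h1 : Nat.card X ∣ 120) (h2 : ¬ Group.IsSolvable X) :
    Nat.card X = 60 ∨ Nat.card X = 120 := by
  have : ∀ d ∈ Nat.divisors 120, d.primeFactors.card ≤ 2 ∨ d = 30 ∨ d = 60 ∨ d = 120 := by decide +kernel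
  rcases this _ (Nat.mem_divisors.2 ⟨h1, by decide⟩) with e | e | e
  · exact absurd (Solv.isSolvable_of_card_primeFactors_le_two e) h2
  · haveI : IsZGroup X := IsZGroup.of_squarefree (by rw [e]; decide +kernel)
    exact absurd (by infer_instance) h2
  · exact e

open Subgroup Transfer MS FC in
theorem aux (G : Type*) [Group G] [Finite G] (hc : Nat.card G = 120) (hn : ¬ Group.IsSolvable G)
    (hP : ∀ P : Sylow 2 G, IsQ8 (P : Subgroup G)) : Nonempty (G ≃* SL2 (ZMod 5)) := by
  let P : Sylow 2 G := default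
  have h8 := hP P
  obtain ⟨t, -, -, ht, -⟩ := h8.exists_t
  have u : ∀ x y : G, x ≠ 1 → x * x = 1 → y ≠ 1 → y * y = 1 → Commute x y → x = y := fun x y h1 h2 h3 h4 h5 => by
    obtain ⟨g, hg⟩ := exists_cj_le_sylow P (pg_sup_l (pg_of_card ((Nat.card_zpowers x).trans (orderOf_eq_two h2 h1)))
      (pg_of_card ((Nat.card_zpowers y).trans (orderOf_eq_two h4 h3)))
      (le_trans (zpowers_le.2 (by rw [cc_zpowers]; exact mem_C1.2 h5.symm)) (cc_le_nn _)))
    have k : ∀ w ∈ zpowers x ⊔ zpowers y, w ≠ 1 → w * w = 1 → g * w * g⁻¹ = t := fun w a1 a2 a3 =>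
      (ht _ (hg (conj_mem_cj a1)) (by rw [conj_mul, a3]; simp)).resolve_left (by simpa using a2)
    simpa using (k x (mem_sup_left (mem_zpowers x)) h1 h2).trans (k y (mem_sup_right (mem_zpowers y)) h3 h4).symm
  have he : Ess (P : Subgroup G) := by_contra fun he => hn (sol_of_hasNPC_two (npc_ess P fun B hB _ h => by
    by_cases e : B = P
    · exact he (e ▸ h)
    have hp := P.isPGroup'.to_le hB
    refine not_ess_of_cyc hp ((Solv.isCyclic_or_quaternion hp fun E h0 h1 h3 h2 => ?_).resolve_right ?_) h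
    · obtain ⟨x, hx, a1⟩ := exists_ne_one (H := E) (by rintro rfl; simp at h1)
      have : E ≤ zpowers x := fun y hy => (mem_zpowers_iff_of_sq (pow_two x ▸ h2 x hx)).2 (or_iff_not_imp_left.2 fun a2 =>
        u _ _ a2 (pow_two y ▸ h2 y hy) a1 (pow_two x ▸ h2 x hx) (mem_CC.1 (ab_cc h3 hx) y hy))
      have := card_le_of_le this
      rw [Nat.card_zpowers, orderOf_eq_two (pow_two x ▸ h2 x hx) a1] at this
      omega
    · rintro ⟨-, a, b, n, h1, h2, h3, h4, -, h5, h6⟩
      have hm : MC B a b n := ⟨h2, h3, h4, by rw [← pow_two, h5]; exact pow_mem (mem_zpowers _) _, Or.inl h6⟩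
      refine e (eq_of_le_of_card_ge hB ?_)
      rw [h8.card, hm.card]; exact Nat.pow_le_pow_right (n := 2) (i := 3) two_pos (by omega)))
  have c : #(NN (P : Subgroup G)) = 24 := by
    obtain ⟨g, h1, h2, h3⟩ := he
    obtain ⟨i, j, a, -⟩ := h8.tet h2 h1 h3
    obtain ⟨m, hm⟩ := Nat.Coprime.mul_dvd_of_dvd_of_dvd (by decide) (h8.card ▸ card_dvd (le_nn (P : Subgroup G)))
      (a.three.trans (orderOf_dvd h1))
    have d := hc ▸ hm ▸ card_subgroup_dvd_card (NN (P : Subgroup G))
    rcases (Nat.dvd_prime Nat.prime_five).1 ((Nat.mul_dvd_mul_iff_left (by decide : 0 < 8 * 3)).1 d) with rfl | rfl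
    · exact hm
    haveI := normalizer_eq_top_iff.1 (eq_top_of_card_eq _ (hm.trans hc.symm))
    have := (P : Subgroup G).card_mul_index
    rw [h8.card, hc, index_eq_card] at this
    refine absurd (Solv.isSolvable_of_normal_of_quotient P (sol_of_pg P.isPGroup') (by_contra fun e => ?_)) hn
    have := key (Dvd.intro_left _ this) e
    omega
  have i : #(G ⧸ NN (P : Subgroup G)) = 5 := by
    have := (NN (P : Subgroup G)).card_mul_index
    rw [c, hc, index_eq_card] at this; omega
  let e := Finite.equivFinOfCardEq i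
  let f : G →* Equiv.Perm (Fin 5) := e.permCongrHom.toMonoidHom.comp (MulAction.toPermHom G _)
  have k : f.ker ≤ NN (P : Subgroup G) := by
    rw [MonoidHom.ker_comp_of_injective _ _ e.permCongrHom.injective, ← normalCore_eq_ker]; exact normalCore_le _
  have c5 : #(Equiv.Perm (Fin 5)) = 120 := by rw [Nat.card_perm]; simp [Nat.factorial]
  have h1 := f.ker.card_mul_index
  rw [index_ker, hc] at h1
  rcases key (c5 ▸ card_subgroup_dvd_card f.range) (fun h => hn (Solv.isSolvable_of_normal_of_quotient f.ker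
    (by_contra fun e => by have := key (hc ▸ card_subgroup_dvd_card _) e; have := card_le_of_le k; omega)
    (Group.isSolvable_of_isSolvable_injective (f := (QuotientGroup.quotientKerEquivRange f).toMonoidHom)
      (MulEquiv.injective _)))) with h2 | h2 <;> rw [h2] at h1
  · obtain ⟨z, hz, e1⟩ := Solv.exists_subgroup_card_prime (A := f.ker) Nat.prime_two (by omega)
    have z1 : z ≠ 1 := fun e => by simp [e] at e1
    have z2 : z * z = 1 := by rw [← pow_two, ← e1, pow_orderOf_eq_one]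
    have e2 : f.ker = zpowers z := (eq_of_le_of_card_ge (zpowers_le.2 hz) (by rw [Nat.card_zpowers]; omega)).symm
    have e3 : ∀ x, x ≠ 1 → x * x = 1 → x = z := fun x a1 a2 => u _ _ a1 a2 z1 z2 (mul_inv_eq_iff_eq_mul.1
      (((mem_zpowers_iff_of_sq z2).1 (e2.le (f.normal_ker.conj_mem z hz x))).resolve_left (by simpa using z1)))
    refine K5.iso (f := f) (fun x y a1 a2 a3 a4 => (e3 x a1 a2).trans (e3 y a3 a4).symm) (fun g => ?_)
      (Equiv.Perm.eq_alternatingGroup_of_index_eq_two (by have := f.range.card_mul_index; rw [h2, c5] at this; omega))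
    rw [← MonoidHom.mem_ker, e2, mem_zpowers_iff_of_sq z2]
    exact ⟨by rintro (rfl | rfl); exacts [mul_one _, z2], fun h => or_iff_not_imp_left.2 fun a => e3 g a h⟩
  · have fi : Function.Injective f := (MonoidHom.ker_eq_bot_iff f).1 (card_eq_one.1 (by omega))
    have sj := MonoidHom.range_eq_top.1 (eq_top_of_card_eq _ (h2.trans c5.symm))
    obtain ⟨x, hx⟩ := sj (Equiv.swap 0 1)
    obtain ⟨y, hy⟩ := sj (Equiv.swap 2 3)
    have := u x y (fun e => absurd (hx.symm.trans (e ▸ map_one f)) (by decide)) (fi (by rw [map_mul, hx, map_one]; decide))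
      (fun e => absurd (hy.symm.trans (e ▸ map_one f)) (by decide)) (fi (by rw [map_mul, hy, map_one]; decide))
      (fi (by rw [map_mul, map_mul, hx, hy]; decide))
    exact absurd (hx.symm.trans (this ▸ hy)) (by decide)

open Subgroup MulAction in
theorem fin {G : Type*} [Group G] {x y : G} (hx : x ^ 2 = 1) (hy : y ^ 3 = 1) (h5 : (x * y) ^ 5 = 1)
    (h : closure {x, y} = ⊤) : Finite G := by
  obtain ⟨l, -, h0, h1⟩ := Perm.Tri.tri_orbit5 hx hy h5 ((1 : G) : G ⧸ zpowers (x * y)) (by
    rw [← mul_smul, ← mem_stabilizer_iff, stabilizer_quotient]; exact mem_zpowers _)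
  have key : ∀ g ∈ closure ({x, y} : Set G), ∀ s ∈ l, g • s ∈ l := by
    intro g hg
    induction hg using closure_induction'' with
    | mem g hg => rcases hg with rfl | rfl <;> intro s hs; exacts [(h1 s hs).1, (h1 s hs).2]
    | inv_mem g hg =>
      rcases hg with rfl | rfl <;> intro s hs
      · rw [show g⁻¹ = g from inv_eq_of_mul_eq_one_right (by rw [← pow_two, hx])]; exact (h1 s hs).1
      · rw [show g⁻¹ = g * g from inv_eq_of_mul_eq_one_right (by rw [← pow_three, hy]), mul_smul]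
        exact (h1 _ (h1 s hs).2).2
    | one => simp
    | mul a b _ _ ha hb => intro s hs; rw [mul_smul]; exact ha _ (hb s hs)
  haveI : Finite (G ⧸ zpowers (x * y)) := Set.finite_univ_iff.1 ((List.finite_toSet l).subset fun s _ => by
    obtain ⟨g, rfl⟩ := QuotientGroup.mk_surjective s
    simpa using key g (h.ge trivial) _ h0)
  haveI : Finite (zpowers (x * y)) := (finite_zpowers.2 (isOfFinOrder_iff_pow_eq_one.2 ⟨5, by decide, h5⟩)).to_subtype
  exact Finite.of_subgroup_quotient (zpowers (x * y))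

open Subgroup Transfer MS FC in
theorem pres {G : Type*} [Group G] {x y z : G} (hx : x ^ 3 = 1) (hy : y ^ 5 = 1) (hz : z ^ 2 = 1) (h1 : z⁻¹ * x * z * x⁻¹ = 1)
    (h2 : z⁻¹ * y * z * y⁻¹ = 1) (h3 : (x * y) ^ 2 * z⁻¹ = 1) (h : closure {x, y, z} = ⊤) (f : G →* SL2 (ZMod 5))
    (hf : Function.Surjective f) : Nonempty (G ≃* SL2 (ZMod 5)) := by
  rw [mul_inv_eq_one, pow_two] at h3
  have c1 : Commute z x := by rw [mul_inv_eq_one, mul_assoc, inv_mul_eq_iff_eq_mul] at h1; exact h1.symm
  have e : closure {x * y, x⁻¹} = ⊤ := by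
    have m1 : x * y ∈ closure {x * y, x⁻¹} := subset_closure (by simp)
    have m2 : x⁻¹ ∈ closure {x * y, x⁻¹} := subset_closure (by simp)
    rw [eq_top_iff, ← h, closure_le]
    rintro _ (rfl | rfl | rfl)
    exacts [inv_mem_iff.1 m2, by simpa using mul_mem m2 m1, h3 ▸ mul_mem m1 m1]
  have r3 : x⁻¹ ^ 3 = 1 := by rw [inv_pow, hx, inv_one]
  have r5 : (x * y * x⁻¹) ^ 5 = 1 := by rw [conj_pow, hy]; simp
  have c : z ∈ center G := mem_center_iff.2 fun g => (mem_C1.1 ((closure_le (C1 z)).2 (by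
    rintro _ (rfl | rfl)
    exacts [mem_C1.2 (by rw [← h3, mul_assoc (x * y)]), mem_C1.2 c1.inv_right.symm]) (e.ge (mem_top g))))
  haveI : (zpowers z).Normal := ⟨fun n hn g => by rwa [mem_center_iff.1 (zpowers_le.2 c hn) g, mul_inv_cancel_right]⟩
  let π := QuotientGroup.mk' (zpowers z)
  haveI : Finite (G ⧸ zpowers z) := fin (x := π (x * y)) (y := π x⁻¹)
    (by rw [← map_pow, pow_two, h3]; exact (QuotientGroup.eq_one_iff _).2 (mem_zpowers _))
    (by rw [← map_pow, r3, map_one]) (by rw [← map_mul, ← map_pow, r5, map_one])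
    (by rw [← Set.image_pair, ← MonoidHom.map_closure, e, map_top_of_surjective _ (QuotientGroup.mk'_surjective _)])
  haveI : Finite (zpowers z) := (finite_zpowers.2 (isOfFinOrder_iff_pow_eq_one.2 ⟨2, by decide, hz⟩)).to_subtype
  haveI := Finite.of_subgroup_quotient (zpowers z)
  have := card_le_120 (x := x * y) (y := x⁻¹) (by rw [h3, ← pow_two, hz]) (h3 ▸ c1.inv_right) r3 r5
  obtain ⟨-, -, -, c, -⟩ := sl25_gens
  exact ⟨MulEquiv.ofBijective f (hf.bijective_of_nat_card_le (by rwa [c, ← card_top, ← e]))⟩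

/-- Every non-solvable group of order 120 whose Sylow 2-subgroups are quaternion of order 8 is isomorphic to SL(2,5), and SL(2,5) has the presentation ⟨x, y, z | x³ = y⁵ = z² = 1, z⁻¹xz = x, z⁻¹yz = y, (xy)² = z⟩. -/
theorem result :
    (∀ (G : Type*) [Group G] [Finite G], Nat.card G = 120 → ¬ Group.IsSolvable G →
      (∀ P : Sylow 2 G, Nonempty ((P : Subgroup G) ≃* QuaternionGroup 2)) →
      Nonempty (G ≃* Matrix.SpecialLinearGroup (Fin 2) (ZMod 5))) ∧
    Nonempty (PresentedGroup ({FreeGroup.of (0 : Fin 3) ^ 3, FreeGroup.of (1 : Fin 3) ^ 5, FreeGroup.of (2 : Fin 3) ^ 2,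
        (FreeGroup.of (2 : Fin 3))⁻¹ * FreeGroup.of 0 * FreeGroup.of 2 * (FreeGroup.of (0 : Fin 3))⁻¹,
        (FreeGroup.of (2 : Fin 3))⁻¹ * FreeGroup.of 1 * FreeGroup.of 2 * (FreeGroup.of (1 : Fin 3))⁻¹,
        (FreeGroup.of (0 : Fin 3) * FreeGroup.of 1) ^ 2 * (FreeGroup.of (2 : Fin 3))⁻¹} : Set (FreeGroup (Fin 3)))
      ≃* Matrix.SpecialLinearGroup (Fin 2) (ZMod 5)) := by
  open Subgroup Transfer FC in
  refine ⟨aux, ?_⟩
  obtain ⟨a, b, hab, -, h1, h2, h3, h5⟩ := sl25_gens
  refine pres (x := .of 0) (y := .of 1) (z := .of 2) (PresentedGroup.one_of_mem (by simp)) (PresentedGroup.one_of_mem (by simp))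
    (PresentedGroup.one_of_mem (by simp)) (PresentedGroup.one_of_mem (by simp)) (PresentedGroup.one_of_mem (by simp))
    (PresentedGroup.one_of_mem (by simp)) ?_ (PresentedGroup.toGroup (f := ![b⁻¹, b * a, a * a]) ?_) ?_
  · rw [← PresentedGroup.closure_range_of]
    congr 1; ext g; simp [Fin.exists_fin_succ, eq_comm]
  · have c : Commute (a * a) b := h2
    have c' : Commute (a * a) (b * a) := c.mul_right ((Commute.refl a).mul_left (Commute.refl a))
    rintro _ (rfl | rfl | rfl | rfl | rfl | rfl) <;> simp [h3, h1, pow_two]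
    · rw [show b * a = b * (a * b) * b⁻¹ by group, conj_pow, h5]; simp
    · rw [mul_assoc _ b⁻¹, ← c.inv_right.eq]; group
    · rw [mul_assoc _ (b * a), ← c'.eq]; group
  · rw [← MonoidHom.range_eq_top, eq_top_iff, ← hab, closure_le]
    rintro _ (rfl | rfl)
    exacts [⟨.of 0 * .of 1, by simp⟩, ⟨(.of 0)⁻¹, by simp⟩]

end Cfsg.Agent.S3378
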