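import Cfsg.Statements.S3380
import Cfsg.Agent.Lib.BG.RkCnt

set_option autoImplicit false
open Cfsg

namespace Cfsg.Agent.S3380
section
open Pointwise commutatorElement Subgroup
open Cfsg.Agent.Comp Cfsg.Agent.BG Subgroup commutatorElement in
theorem exE {G : Type*} [Group G] [Finite G] (p : ℕ) [hp : Fact p.Prime] (hG : IsPGroup p G)
    (hnc : ¬ IsCyclic G) (hnq : ∀ n : ℕ, ¬ Nonempty (G ≃* QuaternionGroup n))
    (hnd : ∀ n : ℕ, ¬ Nonempty (G ≃* DihedralGroup n)) (hnsd : ¬ Cfsg.IsQuasiDihedral G) :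
    ∃ z a : G, orderOf z = p ∧ z ∈ center G ∧ a ∉ zpowers z ∧ a ^ p = 1 ∧ ∀ g : G, g * a * g⁻¹ * a⁻¹ ∈ zpowers z := by
  have hT := hG.to_subgroup ⊤
  have hnc' : ¬ IsCyclic (⊤ : Subgroup G) := fun h => hnc (isCyclic_of_surjective _ topEquiv.surjective)
  obtain ⟨E, -, h1, h2, h3, h4⟩ : ∃ E ≤ (⊤ : Subgroup G), Nat.card E = p ^ 2 ∧ IsMulCommutative E ∧
      (∀ x ∈ E, x ^ p = 1) ∧ ⊤ ≤ Nm(E) := by
    by_cases h2 : p = 2
    · subst h2
      by_contra h
      obtain ⟨a, b, m, ha, hb, hS, hc, h1 | h1 | h1⟩ := Solv.two_group_normal_form hT (fun A hA h1 h2 => by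
        by_contra h3
        obtain ⟨E, -, h4⟩ := Solv.exists_normal_elementary_sq_of_abelian hT.isNilpotent h2 (hG.to_subgroup A) hA h1 h3
        exact h ⟨E, le_top, h4⟩) hnc'
      · obtain ⟨e⟩ := Solv.nonempty_dihedral_of_gens hb hS h1.2.1 h1.2.2
        exact hnd _ ⟨topEquiv.symm.trans e⟩
      · obtain ⟨e⟩ := Solv.nonempty_quaternion_of_gens ha hb hS h1.2.1 h1.2.2
        exact hnq _ ⟨topEquiv.symm.trans e⟩
      · refine hnsd ⟨m + 1, by omega, by rw [← hc, card_top], a, b, ha,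
          orderOf_eq_prime h1.2.1 fun h => hb (h ▸ one_mem _), h1.2.2⟩
    · exact Solv.exists_normal_elementary_sq h2 hT.isNilpotent hT le_rfl le_normalizer hnc'
  haveI : E.Normal := normalizer_eq_top_iff.1 (top_le_iff.1 h4)
  have hE1 : E ≠ ⊥ := by
    rintro rfl
    rw [card_bot] at h1
    exact (Nat.one_lt_pow two_ne_zero hp.out.one_lt).ne h1
  obtain ⟨z, ⟨hz1, hz2⟩, hz⟩ := exists_mem_orderOf_eq (dvd_card_of_isPGroup ((hG.to_subgroup E).to_inf_left)
    (Comp.inf_centralizer_ne_bot hT (hG.to_subgroup E) h4 hE1))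
  have hzc : z ∈ center G := mem_center_iff.2 fun g => mem_centralizer_iff.1 hz2 g (mem_top g)
  haveI : (zpowers z).Normal := Solv.normal_of_le_center (zpowers_le.2 hzc)
  have hne : E.map (QuotientGroup.mk' (zpowers z)) ≠ ⊥ := by
    rw [Ne, Subgroup.map_eq_bot_iff, QuotientGroup.ker_mk']
    intro h
    have := card_le_of_le h
    rw [h1, Nat.card_zpowers, hz] at this
    exact absurd this (not_le.2 (by nlinarith [hp.out.one_lt]))
  have hQ := hG.to_quotient (zpowers z)
  haveI : (E.map (QuotientGroup.mk' (zpowers z))).Normal := Normal.map inferInstance _ (QuotientGroup.mk'_surjective _)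
  obtain ⟨⟨_, ⟨a, ha, rfl⟩, h5⟩, h6⟩ := ne_bot_iff_exists_ne_one.1 (Comp.inf_centralizer_ne_bot (hQ.to_subgroup ⊤)
    (hQ.to_subgroup _) (by rw [normalizer_eq_top]) hne)
  refine ⟨z, a, hz, hzc, fun h => h6 (Subtype.ext ((QuotientGroup.eq_one_iff a).2 h)), h3 a ha, fun g => ?_⟩
  rw [← QuotientGroup.eq_one_iff]
  have := mem_centralizer_iff.1 h5 (g : G ⧸ zpowers z) (mem_top _)
  simp only [QuotientGroup.mk'_apply] at this
  simp [this]
end

/-- Let a finite p-group G act faithfully and irreducibly on a non-trivial finite vector space V over the field with q elements (q prime), and suppose G is not cyclic, generalized quaternion, dihedral or semidihedral. Then G has a subgroup H of index p and V is the direct sum of p subspaces, each invariant under H, on none of which H acts faithfully, and which every element of G outside H permutes in a single p-cycle. -/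
theorem result
    (q : ℕ) [Fact q.Prime] {V : Type*} [AddCommGroup V] [Module (ZMod q) V] [Finite V] [Nontrivial V]
    {G : Type*} [Group G] [Finite G] (p : ℕ) [Fact p.Prime] (hG : IsPGroup p G)
    (ρ : G →* (V ≃ₗ[ZMod q] V)) (hρ : Function.Injective ρ)
    (hirr : ∀ W : Submodule (ZMod q) V, (∀ g : G, ∀ w ∈ W, ρ g w ∈ W) → W = ⊥ ∨ W = ⊤)
    (hnc : ¬ IsCyclic G) (hnq : ∀ n : ℕ, ¬ Nonempty (G ≃* QuaternionGroup n))
    (hnd : ∀ n : ℕ, ¬ Nonempty (G ≃* DihedralGroup n)) (hnsd : ¬ Cfsg.IsQuasiDihedral G) :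
    ∃ (H : Subgroup G) (W : Fin p → Submodule (ZMod q) V), H.index = p ∧
      iSup W = ⊤ ∧ iSupIndep W ∧
      (∀ h ∈ H, ∀ i, ∀ w ∈ W i, ρ h w ∈ W i) ∧
      (∀ i, ∃ h ∈ H, h ≠ 1 ∧ ∀ w ∈ W i, ρ h w = w) ∧
      ∀ g : G, g ∉ H → ∃ σ : Equiv.Perm (Fin p), orderOf σ = p ∧ ∀ i, (W i).map (ρ g : V →ₗ[ZMod q] V) = W (σ i) := by
  open Pointwise commutatorElement Subgroup in
  open Cfsg.Agent.Comp Cfsg.Agent.BG Subgroup commutatorElement in
  have hp : p.Prime := Fact.out
  haveI : NeZero p := ⟨hp.ne_zero⟩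
  obtain ⟨z, a, hz, hzc, ha, hap, hcj⟩ := exE p hG hnc hnq hnd hnsd
  let F : G → Submodule (ZMod q) V := fun g => LinearMap.eqLocus (ρ g : V →ₗ[ZMod q] V) LinearMap.id
  have mF : ∀ g v, v ∈ F g ↔ ρ g v = v := fun g v => Iff.rfl
  have mul : ∀ g h v, ρ (g * h) v = ρ g (ρ h v) := fun g h v => by rw [map_mul]; rfl
  have hFc : ∀ g h v, ρ g v ∈ F (g * h * g⁻¹) ↔ v ∈ F h := by
    intro g h v
    rw [mF, mF, ← mul, inv_mul_cancel_right, mul, (ρ g).injective.eq_iff]
  have hc0 : ∀ c ∈ center G, c ≠ 1 → ∀ v, ρ c v = v → v = 0 := by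
    intro c hc h1 v hv
    rcases hirr (F c) (fun g w hw => by
      have := (hFc g c w).2 hw
      rwa [mem_center_iff.1 hc g, mul_inv_cancel_right] at this) with h | h
    · exact (Submodule.mem_bot _).1 (h ▸ (mF c v).2 hv)
    · refine absurd (hρ ?_) h1
      rw [map_one]
      ext w
      exact (mF c w).1 (h ▸ Submodule.mem_top)
  let N : G → V →ₗ[ZMod q] V := fun g => ∑ t ∈ Finset.range p, (ρ (g ^ t) : V →ₗ[ZMod q] V)
  have hN : ∀ g v, N g v = ∑ t ∈ Finset.range p, ρ (g ^ t) v := fun g v => by simp [N]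
  have hNF : ∀ g, g ^ p = 1 → ∀ v, ρ g (N g v) = N g v := by
    intro g hg v
    rw [hN, map_sum]
    simp_rw [← mul, ← pow_succ']
    have h1 := Finset.sum_range_succ (fun t => ρ (g ^ t) v) p
    rw [Finset.sum_range_succ', hg, pow_zero] at h1
    exact add_right_cancel h1
  have hzp : z ^ p = 1 := hz ▸ pow_orderOf_eq_one z
  have hNz : ∀ k : ℕ, ¬ p ∣ k → ∀ v, N (z ^ k) v = 0 := fun k hk v =>
    hc0 _ (pow_mem hzc k) (by rwa [Ne, ← orderOf_dvd_iff_pow_eq_one, hz]) _
      (hNF _ (by rw [← pow_mul, mul_comm, pow_mul, hzp, one_pow]) v)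
  have hpv : ∀ v : V, p • v = 0 → v = 0 := by
    intro v hv
    by_cases h : (p : ZMod q) = 0
    · haveI : CharP (ZMod q) p := by
        rw [ZMod.natCast_eq_zero_iff, Nat.prime_dvd_prime_iff_eq Fact.out hp] at h
        subst h
        infer_instance
      haveI : CharP (Module.End (ZMod q) V) p := charP_of_injective_algebraMap (algebraMap (ZMod q) _).injective p
      have h1 : ((ρ z : V →ₗ[ZMod q] V) - 1) ^ p = 0 := by
        rw [sub_pow_char_of_commute _ (Commute.one_right _), one_pow, sub_eq_zero]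
        have : ∀ n : ℕ, (ρ z : V →ₗ[ZMod q] V) ^ n = ρ (z ^ n) := fun n => by
          induction n with
          | zero => rw [pow_zero, pow_zero, map_one]; rfl
          | succ n ih => rw [pow_succ, ih, pow_succ, map_mul]; rfl
        rw [this, hzp, map_one]
        rfl
      have h2 : Function.Injective ((ρ z : V →ₗ[ZMod q] V) - 1 : Module.End (ZMod q) V) := by
        rw [injective_iff_map_eq_zero]
        intro w hw
        exact hc0 z hzc (by rw [Ne, ← orderOf_eq_one_iff, hz]; exact hp.one_lt.ne') w (sub_eq_zero.1 hw)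
      have h3 := Module.End.iterate_injective h2 p
      rw [h1] at h3
      exact h3 (by simp)
    · rw [← Nat.cast_smul_eq_nsmul (ZMod q)] at hv
      exact (smul_eq_zero.1 hv).resolve_left h
  have hza : ∀ k : ℕ, Commute a (z ^ k) := fun k => mem_center_iff.1 (pow_mem hzc k) a
  have hw : ∀ i : ℕ, (a * z ^ i) ^ p = 1 := fun i => by
    rw [(hza i).mul_pow, hap, one_mul, ← pow_mul, mul_comm, pow_mul, hzp, one_pow]
  have hw1 : ∀ i : ℕ, a * z ^ i ≠ 1 := fun i h => ha (by
    rw [eq_inv_of_mul_eq_one_left h]; exact inv_mem (pow_mem (mem_zpowers z) i))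
  let W : Fin p → Submodule (ZMod q) V := fun i => F (a * z ^ i.1)
  have hW : ¬ ∀ i, W i = ⊥ := by
    intro h
    obtain ⟨v, hv⟩ := exists_ne (0 : V)
    refine hv (hpv v ?_)
    have h1 : ∑ i ∈ Finset.range p, N (a * z ^ i) v = 0 := Finset.sum_eq_zero fun i hi =>
      (Submodule.eq_bot_iff _).1 (h ⟨i, Finset.mem_range.1 hi⟩) _ ((mF _ _).2 (hNF _ (hw i) v))
    simp_rw [hN] at h1
    rw [Finset.sum_comm, Finset.sum_eq_single 0] at h1
    · simpa using h1
    · intro t ht h0
      have h2 := hNz t (Nat.not_dvd_of_pos_of_lt (Nat.pos_of_ne_zero h0) (Finset.mem_range.1 ht)) v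
      have h3 : ∀ i, ρ ((a * z ^ i) ^ t) v = ρ (a ^ t) (ρ ((z ^ t) ^ i) v) := fun i => by
        rw [(hza i).mul_pow, mul, ← pow_mul, ← pow_mul, mul_comm i]
      simp_rw [h3]
      rw [← map_sum, ← hN, h2, map_zero]
    · intro h0
      exact absurd (Finset.mem_range.2 hp.pos) h0
  have hk : ∀ g : G, ∃ k : Fin p, g * a * g⁻¹ = a * z ^ k.1 := by
    intro g
    classical
    have h1 := hcj g
    rw [mem_zpowers_iff_mem_range_orderOf, Finset.mem_image] at h1
    obtain ⟨k, hk, h1⟩ := h1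
    exact ⟨⟨k, hz ▸ Finset.mem_range.1 hk⟩, by rw [(hza k).eq, h1, inv_mul_cancel_right]⟩
  have hmap : ∀ (g : G) (k : Fin p), g * a * g⁻¹ = a * z ^ k.1 → ∀ i,
      (W i).map (ρ g : V →ₗ[ZMod q] V) = W (i + k) := by
    intro g k h i
    have e : g * (a * z ^ i.1) * g⁻¹ = a * z ^ (i + k).1 := by
      have e1 : z ^ (i + k).1 = z ^ k.1 * z ^ i.1 := by
        rw [Fin.val_add, ← pow_add, add_comm k.1]
        nth_rewrite 2 [← pow_mod_orderOf]
        rw [hz]
      rw [e1, ← mul_assoc a, ← h, mul_assoc (g * a), mem_center_iff.1 (pow_mem hzc i.1) g⁻¹]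
      group
    ext v
    obtain ⟨v, rfl⟩ := (ρ g).surjective v
    change _ ↔ _ ∈ F _
    rw [← e, hFc]
    exact ⟨fun ⟨w, hw, h⟩ => (ρ g).injective h ▸ hw, fun h => ⟨v, h, rfl⟩⟩
  have hac : C1(a) ≠ ⊤ := by
    intro h
    refine hW fun i => (Submodule.eq_bot_iff _).2 fun v hv => hc0 _ (mul_mem ?_ (pow_mem hzc _)) (hw1 i) v hv
    exact mem_center_iff.2 fun g => mem_centralizer_singleton_iff.1 (h ▸ mem_top g)
  refine ⟨C1(a), W, ?_, ?_, ?_, ?_, ?_, ?_⟩
  · have h1 : C1(a).index ≤ Nat.card (zpowers z) := RkCnt.idx_le _ (fun g => (⟨_, hcj g⟩ : zpowers z)) fun g h e => by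
      have e1 : g * a * g⁻¹ = h * a * h⁻¹ := mul_right_cancel (congrArg Subtype.val e)
      rw [mem_centralizer_singleton_iff]
      calc g⁻¹ * h * a = g⁻¹ * (h * a * h⁻¹) * h := by group
        _ = _ := by rw [← e1]; group
    rw [Nat.card_zpowers, hz] at h1
    obtain ⟨n, hn⟩ := hG.index C1(a)
    rw [hn] at h1 ⊢
    have h2 : n ≠ 0 := fun h => hac (index_eq_one.1 (by rw [hn, h, pow_zero]))
    have h3 : n ≤ 1 := (Nat.pow_le_pow_iff_right hp.one_lt).1 (by rwa [pow_one])
    rw [show n = 1 by omega, pow_one]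
  · refine (hirr _ fun g w hw => ?_).resolve_left fun h => hW (iSup_eq_bot.1 h)
    obtain ⟨k, hk⟩ := hk g
    have : (iSup W).map (ρ g : V →ₗ[ZMod q] V) ≤ iSup W := by
      rw [Submodule.map_iSup]
      exact iSup_le fun i => hmap g k hk i ▸ le_iSup W _
    exact this ⟨w, hw, rfl⟩
  · intro i
    rw [Submodule.disjoint_def]
    intro v h1 h2
    have h3 : (⨆ j, ⨆ (_ : j ≠ i), W j) ≤ LinearMap.ker (N (a * z ^ i.1)) := by
      refine iSup₂_le fun j hj w hw => ?_
      rw [LinearMap.mem_ker, ← hNz (i.1 + (p - j.1)) ?_ w, hN, hN]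
      · refine Finset.sum_congr rfl fun t _ => ?_
        have e : a * z ^ i.1 = z ^ (i.1 + (p - j.1)) * (a * z ^ j.1) := by
          rw [← mul_assoc, ← (hza _).eq, mul_assoc, ← pow_add, add_assoc, Nat.sub_add_cancel j.2.le, pow_add, hzp, mul_one]
        have e2 : ∀ t : ℕ, ρ ((a * z ^ j.1) ^ t) w = w := fun t => by
          induction t with
          | zero => simp
          | succ t ih => rw [pow_succ, mul, (mF _ _).1 hw, ih]
        rw [e, Commute.mul_pow (mem_center_iff.1 (pow_mem hzc _) _).symm, mul, e2]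
      · rintro ⟨c, hc⟩
        have := i.2
        have := j.2
        have h4 : c = 1 := by
          rcases c with _ | _ | c
          · omega
          · rfl
          · exfalso
            rw [mul_add, mul_add] at hc
            omega
        rw [h4] at hc
        exact hj (Fin.ext (by omega))
    have h4 := h3 h2
    have e2 : ∀ t : ℕ, ρ ((a * z ^ i.1) ^ t) v = v := fun t => by
      induction t with
      | zero => simp
      | succ t ih => rw [pow_succ, mul, (mF _ _).1 h1, ih]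
    rw [LinearMap.mem_ker, hN] at h4
    simp_rw [e2] at h4
    exact hpv v (by simpa using h4)
  · intro h hh i w hw
    have := hmap h 0 (by rw [mem_centralizer_singleton_iff.1 hh]; simp) i
    rw [add_zero] at this
    exact this ▸ ⟨w, hw, rfl⟩
  · intro i
    exact ⟨_, mem_centralizer_singleton_iff.2 ((Commute.refl a).mul_left (hza _).symm), hw1 i, fun w hw => hw⟩
  · intro g hg
    obtain ⟨k, hk⟩ := hk g
    refine ⟨Equiv.addRight k, orderOf_eq_prime ?_ fun h => hg ?_, hmap g k hk⟩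
    · have := card_nsmul_eq_zero (x := k)
      rw [Fintype.card_fin] at this
      refine Equiv.ext fun i => ?_
      simp [Equiv.Perm.coe_pow, this]
    · have := congrArg (fun σ : Equiv.Perm (Fin p) => σ 0) h
      simp only [Equiv.coe_addRight, zero_add, Equiv.Perm.coe_one, id_eq] at this
      rw [this] at hk
      exact mem_centralizer_singleton_iff.2 (mul_inv_eq_iff_eq_mul.1 (by simpa using hk))

end Cfsg.Agent.S3380
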