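import Cfsg.Statements.S3383
import Mathlib
import Cfsg.Agent.Lib.Perm.PG3
import Cfsg.Agent.S0035

set_option autoImplicit false
open Cfsg

namespace Cfsg.Agent.S3383

open Cfsg.Agent.Perm
open scoped Pointwise

/-- Let H be a Frobenius complement in a finite group L and K the Frobenius kernel (as a subgroup). Then K is characteristic in L, and every normal subgroup of L either contains K or is contained in K. -/
theorem result {L : Type*} [Group L] [Finite L]
    (H : Subgroup L) (hH : Cfsg.IsFrobeniusComplement H)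
    (K : Subgroup L) (hK : (K : Set L) = Cfsg.frobeniusKernel H) :
    K.Characteristic ∧ ∀ N : Subgroup L, N.Normal → K ≤ N ∨ N ≤ K := by
  obtain ⟨K', hK', hn, -⟩ := S0035.result H hH
  obtain rfl : K = K' := SetLike.coe_injective (hK.trans hK'.symm)
  have key : ∀ N : Subgroup L, N.Normal → K ≤ N ∨ N ≤ K := by
    intro N hN
    rw [or_iff_not_imp_right]
    intro h k hk
    obtain ⟨n, hn1, hn2⟩ := Set.not_subset.1 h
    rw [hK] at hn2
    simp only [frobeniusKernel, Set.mem_setOf_eq, not_or, not_forall, not_not] at hn2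
    obtain ⟨h1, g, hg⟩ := hn2
    have hinj : Function.Injective (fun x : K => (⟨x * (n * (x : L)⁻¹ * n⁻¹), K.mul_mem x.2
        (hn.conj_mem _ (K.inv_mem x.2) n)⟩ : K)) := by
      intro x y e
      have e' : (x : L) * (n * (x : L)⁻¹ * n⁻¹) = y * (n * (y : L)⁻¹ * n⁻¹) := congrArg Subtype.val e
      have h2 : (y : L)⁻¹ * x ∈ frobeniusKernel H := hK ▸ K.mul_mem (K.inv_mem y.2) x.2
      rcases h2 with h2 | h2
      · exact Subtype.ext (inv_mul_eq_one.1 h2).symm
      exfalso
      rw [Subgroup.mem_pointwise_smul_iff_inv_smul_mem] at hg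
      have h3 := hH.2.2 (g⁻¹ * ((y : L)⁻¹ * x) * g) (fun e => h2 g (by
        rw [Subgroup.mem_pointwise_smul_iff_inv_smul_mem]; simpa [mul_assoc] using e))
      have h4 : g⁻¹ * n * g ∈ H ⊓ MulAut.conj (g⁻¹ * ((y : L)⁻¹ * x) * g) • H := by
        refine Subgroup.mem_inf.2 ⟨by simpa using hg, ?_⟩
        rw [Subgroup.mem_pointwise_smul_iff_inv_smul_mem]
        convert hg using 1
        have : n = (x : L)⁻¹ * (y * (n * (y : L)⁻¹ * n⁻¹)) * n * x := by rw [← e']; group
        simp only [← map_inv, MulAut.smul_def, MulAut.conj_apply]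
        nth_rewrite 2 [this]
        group
      rw [h3, Subgroup.mem_bot] at h4
      apply h1
      have : n = g * (g⁻¹ * n * g) * g⁻¹ := by group
      rw [this, h4]; group
    obtain ⟨x, hx⟩ := Finite.injective_iff_surjective.1 hinj ⟨k, hk⟩
    have e : k = x * n * (x : L)⁻¹ * n⁻¹ := by rw [← show _ = k from congrArg Subtype.val hx]; group
    rw [e]
    exact N.mul_mem (hN.conj_mem n hn1 x) (N.inv_mem hn1)
  refine ⟨Subgroup.characteristic_iff_map_eq.2 fun φ => ?_, key⟩
  have hc := Subgroup.card_map_of_injective (K := K) (f := φ.toMonoidHom) φ.injective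
  rcases key _ (hn.map φ.toMonoidHom φ.surjective) with h | h
  · exact (Subgroup.eq_of_le_of_card_ge h hc.le).symm
  · exact Subgroup.eq_of_le_of_card_ge h hc.ge

end Cfsg.Agent.S3383
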