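import Cfsg.Statements.S3389
import Mathlib
import Cfsg.Agent.Lib.Perm.Count

set_option autoImplicit false
open Cfsg

namespace Cfsg.Agent.S3389

open Cfsg.Agent.Perm MulAction

/-- Let G be a finite group acting faithfully and transitively on a finite set Ω with fixity k ≥ 1: every non-identity element fixes at most k points and some non-identity element fixes exactly k points. Then |Z(G)| divides k; if k = 2 then |G| is even; and for every prime p > k dividing |G| and every point α, either p does not divide |G_α| or G_α contains a Sylow p-subgroup of G. -/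
theorem result {G : Type*} [Group G] [Finite G] {Ω : Type*} [Fintype Ω] [MulAction G Ω] [FaithfulSMul G Ω]
    (htr : MulAction.IsPretransitive G Ω) (k : ℕ) (hk : 1 ≤ k)
    (hfix : ∀ g : G, g ≠ 1 → Nat.card (MulAction.fixedBy Ω g) ≤ k) (hex : ∃ g : G, g ≠ 1 ∧ Nat.card (MulAction.fixedBy Ω g) = k) :
    Nat.card (Subgroup.center G) ∣ k ∧ (k = 2 → 2 ∣ Nat.card G) ∧
      ∀ (p : ℕ), p.Prime → k < p → p ∣ Nat.card G → ∀ α : Ω,
        ¬ p ∣ Nat.card (MulAction.stabilizer G α) ∨ ¬ p ∣ (MulAction.stabilizer G α).index := by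
  obtain ⟨g, hg1, hg⟩ := hex
  refine ⟨?_, fun hk2 => ?_, fun p hp hkp hpG α => ?_⟩
  · rw [← hg, Nat.card_coe_set_eq]
    apply card_dvd_ncard_of_semiregular (Set.toFinite _)
    · intro z x hx
      show g • (z : G) • x = (z : G) • x
      rw [← mul_smul, Subgroup.mem_center_iff.1 z.2, mul_smul, mem_fixedBy.1 hx]
    · intro x _ z hz
      apply Subtype.ext
      apply eq_one_of_smul_eq (α := Ω)
      intro y
      obtain ⟨h, rfl⟩ := htr.exists_smul_eq x y
      rw [← mul_smul, ← Subgroup.mem_center_iff.1 z.2, mul_smul]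
      exact congrArg _ hz
  · subst hk2
    by_contra hodd
    obtain ⟨j, hp, hj⟩ := exists_prime_order_pow (isOfFinOrder_of_finite g) hg1
    set x := g ^ j with hx
    set p := orderOf x with hpx
    have := Fact.mk hp
    have hx1 : x ≠ 1 := fun e => by rw [hpx, e, orderOf_one] at hp; exact Nat.not_prime_one hp
    have hp2 : p ≠ 2 := fun e => hodd (e ▸ orderOf_dvd_natCard x)
    have hfx : Nat.card (fixedBy Ω x) = 2 := by
      apply le_antisymm (hfix x hx1)
      rw [← hg]
      apply Set.ncard_le_ncard (fun a ha => ?_)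
      simpa using mem_fixedBy_zpow ha j
    have hxp : x ^ p ^ 1 = 1 := by rw [pow_one, pow_orderOf_eq_one]
    obtain ⟨Q, hQ⟩ := (isPGroup_zpowers hxp).exists_le_sylow
    have h1 := card_modEq_fixedBy (α := Ω) hp hxp
    have h2 := Q.isPGroup'.card_modEq_card_fixedPoints Ω
    have h3 : fixedPoints Q Ω ⊆ fixedBy Ω x := fun a ha => ha ⟨x, hQ (Subgroup.mem_zpowers x)⟩
    have h4 : Nat.card (fixedPoints Q Ω) ≤ 2 := hfx ▸ Set.ncard_le_ncard h3
    have h5 : Nat.card (fixedPoints Q Ω) = 2 := by
      have h6 := (h2.symm.trans h1)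
      rw [hfx] at h6
      have := hp.two_le
      exact Nat.ModEq.eq_of_lt_of_lt h6 (by omega) (by omega)
    obtain ⟨a, b, hab, hQ'⟩ := Set.ncard_eq_two.1 h5
    have ha : a ∈ fixedPoints Q Ω := by rw [hQ']; simp
    have hb : b ∈ fixedPoints Q Ω := by rw [hQ']; simp
    obtain ⟨h, rfl⟩ := htr.exists_smul_eq a b
    have hle : (Q : Subgroup G) ≤ stabilizer G a := fun u hu => ha ⟨u, hu⟩
    obtain ⟨n, hn, hn'⟩ := witt_normalizer hp hle Q.isPGroup' (fun hd => Q.not_dvd_index
      (hd.trans (Dvd.intro _ (Subgroup.relIndex_mul_index hle)))) (h := h) (fun u hu => hb ⟨u, hu⟩)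
    have h7 : n • h • a ∈ fixedPoints Q Ω := by
      intro u
      have : n⁻¹ * u * n ∈ Q := by
        rw [Subgroup.mem_normalizer_iff''] at hn
        exact (hn u).1 u.2
      exact mem_stab_smul.2 (hb ⟨_, this⟩)
    rw [hQ'] at h7
    have h8 : n • h • a = a := by
      rcases h7 with h7 | h7
      · exact h7
      · rw [Set.mem_singleton_iff, ← hn'] at h7
        exact absurd (smul_left_cancel _ h7) (by rw [hn']; exact hab.symm)
    have h9 : n ^ 2 ∈ stabilizer G a := by
      rw [mem_stabilizer_iff, sq, mul_smul, hn', h8]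
    obtain ⟨m, hm⟩ : Odd (Nat.card G) := Nat.not_even_iff_odd.1 fun e => hodd e.two_dvd
    have h10 : n⁻¹ = (n ^ 2) ^ m := by
      rw [← pow_mul, inv_eq_iff_mul_eq_one, ← pow_succ', ← hm, pow_card_eq_one']
    have h11 := (stabilizer G a).inv_mem ((stabilizer G a).pow_mem h9 m)
    rw [← h10, inv_inv, mem_stabilizer_iff, hn'] at h11
    exact hab h11.symm
  · by_contra hcon
    push Not at hcon
    have := Fact.mk hp
    obtain ⟨x, hx⟩ := exists_prime_orderOf_dvd_card' p hcon.1
    have hx1 : (x : G) ≠ 1 := fun e => by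
      rw [show x = 1 from Subtype.ext e, orderOf_one] at hx; exact hp.one_lt.ne hx
    have hxp : (x : G) ^ p ^ 1 = 1 := by
      rw [pow_one, ← hx, ← Subgroup.coe_pow, pow_orderOf_eq_one]; rfl
    have h1 := card_modEq_fixedBy (α := Ω) hp hxp
    have h2 := hcon.2
    rw [index_stabilizer_of_transitive] at h2
    have h3 : p ∣ Nat.card (fixedBy Ω (x : G)) := (h1.dvd_iff dvd_rfl).1 h2
    have h4 : 0 < Nat.card (fixedBy Ω (x : G)) := by
      have : Nonempty (fixedBy Ω (x : G)) := ⟨⟨α, x.2⟩⟩
      exact Nat.card_pos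
    have := Nat.le_of_dvd h4 h3
    have := hfix x hx1
    omega

end Cfsg.Agent.S3389
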