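import Cfsg.Statements.S3401
import Mathlib
import Cfsg.Agent.Lib.Perm.Asc1

set_option autoImplicit false
open Cfsg

namespace Cfsg.Agent.S3401

open Cfsg.Agent.Perm Cfsg.Agent.Perm.Asc Cfsg.Agent.Comp MulAction Subgroup

theorem two_aux {G : Type*} [Group G] [Finite G] {Ω : Type*} [Fintype Ω] [MulAction G Ω] [FaithfulSMul G Ω]
    (h2 : IsMultiplyPretransitive G Ω 2) (hn : Fintype.card Ω % 4 = 2) (N : Subgroup G) [N.Normal] (hN : N ≠ ⊥) :
    IsMultiplyPretransitive N Ω 2 := by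
  have := isPreprimitive_of_is_two_pretransitive h2
  have ht := normal_trans_of_prim (α := Ω) N hN
  refine two_of_normal (two_trans_iff.1 h2) hn N fun a b => ?_
  obtain ⟨g, e⟩ := ht.exists_smul_eq a b
  exact ⟨g, g.2, e⟩

theorem le_cent {G : Type*} [Group G] {A B : Subgroup G} (h1 : A ≤ normalizer (B : Set G)) (h2 : B ≤ normalizer (A : Set G))
    (h : A ⊓ B = ⊥) : A ≤ centralizer (B : Set G) := by
  intro a ha b hb
  have : a * b * a⁻¹ * b⁻¹ ∈ A ⊓ B := ⟨by
    have := A.mul_mem ha (conj_mem_of_le_normalizer h2 hb (A.inv_mem ha))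
    simpa [mul_assoc] using this, B.mul_mem (conj_mem_of_le_normalizer h1 ha hb) (B.inv_mem hb)⟩
  rw [h, mem_bot, mul_inv_eq_one, mul_inv_eq_iff_eq_mul] at this
  exact this.symm

/-- Let G be a doubly transitive permutation group on a finite set Ω with |Ω| ≡ 2 mod 4 and |Ω| > 2. Then G has a unique minimal normal subgroup M (a nontrivial normal subgroup contained in every nontrivial normal subgroup); M is simple and doubly transitive on Ω, and its centralizer in G is trivial (so G embeds in Aut(M)). -/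
theorem result {G : Type*} [Group G] [Finite G] {Ω : Type*} [Fintype Ω] [MulAction G Ω] [FaithfulSMul G Ω]
    (h2 : MulAction.IsMultiplyPretransitive G Ω 2) (hn : Fintype.card Ω % 4 = 2) (hn2 : 2 < Fintype.card Ω) :
    ∃ M : Subgroup G, M.Normal ∧ M ≠ ⊥ ∧ (∀ N : Subgroup G, N.Normal → N ≠ ⊥ → M ≤ N) ∧
      IsSimpleGroup ↥M ∧ MulAction.IsMultiplyPretransitive ↥M Ω 2 ∧ Subgroup.centralizer (M : Set G) = ⊥ := by
  have hG : (⊤ : Subgroup G) ≠ ⊥ := by
    intro h
    obtain ⟨a, b, c, hab, -, -⟩ := Fintype.two_lt_card_iff.1 hn2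
    obtain ⟨g, e, -⟩ := two_trans_iff.1 h2 a b b a hab hab.symm
    have : g = 1 := mem_bot.1 (h ▸ mem_top g)
    rw [this, one_smul] at e
    exact hab e
  obtain ⟨M, ⟨hMn, hM0⟩, hmin⟩ := exists_minimal_of_wellFoundedLT (fun K : Subgroup G => K.Normal ∧ K ≠ ⊥) ⟨⊤, inferInstance, hG⟩
  have hM2 := two_aux h2 hn M hM0
  have hC := cent_eq_bot hn2 M hM2
  refine ⟨M, hMn, hM0, fun N hN hN0 => ?_, ?_, hM2, hC⟩
  · by_cases h : N ⊓ M = ⊥
    · have := le_cent (le_top.trans (normal_iff_top_le_normalizer.1 hMn)) (le_top.trans (normal_iff_top_le_normalizer.1 hN)) h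
      rw [hC, le_bot_iff] at this
      exact absurd this hN0
    · exact (hmin ⟨inferInstance, h⟩ inf_le_right).trans inf_le_left
  · have : Nontrivial M := (Subgroup.nontrivial_iff_ne_bot M).2 hM0
    refine ⟨fun K hK => ?_⟩
    by_cases hK0 : K = ⊥
    · exact Or.inl hK0
    right
    obtain ⟨L, ⟨hL1, hL2, hL0⟩, hLm⟩ := exists_minimal_of_wellFoundedLT (fun L : Subgroup G => L ≤ K.map M.subtype ∧ M ≤ normalizer (L : Set G) ∧ L ≠ ⊥)
      ⟨K.map M.subtype, le_rfl, (normal_iff_map_subtype K).1 hK, fun h => hK0 ((map_eq_bot_iff_of_injective _ M.subtype_injective).1 h)⟩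
    have hLM : L ≤ M := hL1.trans (map_subtype_le K)
    have hLn : (L.subgroupOf M).Normal := (normal_subgroupOf_iff_le_normalizer hLM).2 hL2
    have hL3 := two_aux hM2 hn (L.subgroupOf M) (fun h => hL0 (by
      rw [← inf_of_le_left hLM, ← subgroupOf_map_subtype, h, Subgroup.map_bot]))
    have hL4 : IsMultiplyPretransitive L Ω 2 := two_trans_iff.2 fun a b c d hab hcd => by
      obtain ⟨g, e1, e2⟩ := two_trans_iff.1 hL3 a b c d hab hcd
      exact ⟨⟨g.1.1, g.2⟩, e1, e2⟩
    have hLC := cent_eq_bot hn2 L hL4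
    have hLN : L.Normal := by
      refine normal_of_cj_le fun g => ?_
      have h1 : cj(g⁻¹, L) ≤ M := by
        rw [← cj_eq_self_of_normal M g⁻¹]; exact cj_mono _ hLM
      have h3 : M ≤ normalizer (cj(g⁻¹, L) : Set G) := by
        rw [← cj_normalizer, ← cj_eq_self_of_normal M g⁻¹]; exact cj_mono _ hL2
      by_cases h : cj(g⁻¹, L) ⊓ L = ⊥
      · have := le_cent (h1.trans hL2) (hLM.trans h3) h
        rw [hLC, le_bot_iff, cj_eq_bot_iff] at this
        exact absurd this hL0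
      · have := hLm (y := cj(g⁻¹, L) ⊓ L) ⟨inf_le_right.trans hL1, le_normalizer_inf h3 hL2, h⟩ inf_le_right
        rw [cj_le_iff]
        exact this.trans inf_le_left
    have h5 := hmin (y := L) ⟨hLN, hL0⟩ hLM
    rw [eq_top_iff]
    intro m _
    obtain ⟨k, hk, e⟩ := hL1 (h5 m.2)
    exact (Subtype.ext e : k = m) ▸ hk

end Cfsg.Agent.S3401
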