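import Cfsg.Statements.S3412
import Cfsg.Agent.Lib.Block.L33c
import Cfsg.Agent.S0243
import Cfsg.Agent.S0249

set_option autoImplicit false
open Cfsg

namespace Cfsg.Agent.S3412

open Cfsg.Agent.Blk
open Cfsg.Agent.Char hiding cj cj_mul cj_inv_cj cj_cj_inv
open Subgroup in
theorem simple_of {G : Type*} [Group G] [Finite G] {x : G} (hG : Nat.card G = 5616) (hx : SC 13 x) :
    IsSimpleGroup G := by
  have h : S1 13 x := ⟨hx.prime, hx.ord, by rw [hG]; norm_num⟩
  have : Nontrivial G := ⟨x, 1, hx.ne_one⟩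
  have key : ∀ N : Subgroup G, N.Normal → ¬ 13 ∣ Nat.card N → N = ⊥ := fun N hN k => by
    have h2 := hx.modEq k
    have h3 := lemL (N := N) hx.prime Nat.prime_three (by rw [hG]; norm_num) k fun a ha => by
      rw [hx.card_Ce1 ha.symm.dvd]; norm_num
    have h4 : ∀ n ∈ Nat.divisors 5616, n % 13 = 1 % 13 → n = 1 ∨ n = 27 ∨ n = 3 ^ 2 * 16 := by
      decide +kernel
    rcases h4 _ (Nat.mem_divisors.2 ⟨hG ▸ card_subgroup_dvd_card N, by norm_num⟩) h2 with
      h4 | h4 | h4
    · exact card_eq_one.1 h4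
    · have := card_subgroup_dvd_card (No (zpowers x) ⊔ N)
      rw [hx.card_No_sup k, L33.No13 hG hx, h4, hG] at this
      omega
    · rw [fact_eq h4 (by norm_num)] at h3
      exact absurd h3 (by decide)
  refine ⟨fun N hN => ?_⟩
  by_cases k : 13 ∣ Nat.card N
  swap
  · exact .inl (key N hN k)
  have h1 := N.card_mul_index
  have h2 := h.frat k
  rw [L33.No13 hG hx] at h2
  have h3 : N.index ∣ 3 := Nat.dvd_of_mul_dvd_mul_right (by norm_num : 0 < 13) h2
  refine .inr (index_eq_one.1 (((Nat.dvd_prime Nat.prime_three).1 h3).resolve_right fun h3 => ?_))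
  have h4 : Nat.card N = 1872 := by rw [h3, hG] at h1; omega
  have m := hx.le_of_dvd k (mem_zpowers x)
  have hy := hx.sub m
  have h5 : S1 13 (⟨x, m⟩ : N) := ⟨hx.prime, hy.ord, by rw [h4]; norm_num⟩
  obtain ⟨e, e1, e2⟩ := h5.No_eq
  have e3 := h5.index_modEq
  have e4 := (No (zpowers (⟨x, m⟩ : N))).card_mul_index
  rw [hy.cen, hy.card] at e2
  rw [h4, e2] at e4
  have := Nat.le_of_dvd (by norm_num) e1
  unfold Nat.ModEq at e3
  obtain rfl : e = 1 := by interval_cases e <;> omega
  have e5 := hy.No_eq_iff.1 (eq_of_le_of_card_ge (le_No _) (by rw [e2, hy.card])).symm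
  have e6 := hy.index_commutator e5
  have e7 := key ((_root_.commutator N).map N.subtype) inferInstance
    (by rwa [card_map_of_injective N.subtype_injective])
  rw [map_eq_bot_iff_of_injective _ N.subtype_injective] at e7
  rw [e7, index_bot, h4] at e6
  omega

/-- Let H be a finite group whose commuting graph (vertices the non-identity elements, two joined when they commute) is isomorphic to that of PSL_3(3): there is a bijection between the non-identity elements of H and of PSL_3(3) under which two elements commute exactly when their images do. Then H ≅ PSL_3(3). -/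
theorem result {H : Type*} [Group H] [Finite H]
    (f : {h : H // h ≠ 1} ≃ {g : Matrix.ProjectiveSpecialLinearGroup (Fin 3) (ZMod 3) // g ≠ 1})
    (hf : ∀ x y : {h : H // h ≠ 1}, (x : H) * y = y * x ↔ ((f x) : Matrix.ProjectiveSpecialLinearGroup (Fin 3) (ZMod 3)) * (f y) = (f y) * (f x)) :
    Nonempty (H ≃* Matrix.ProjectiveSpecialLinearGroup (Fin 3) (ZMod 3)) := by
  have := S0249.result (F := ZMod 3) 3 le_rfl
  have h1 : Nat.card (Matrix.ProjectiveSpecialLinearGroup (Fin 3) (ZMod 3)) = 5616 := by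
    have := S0243.result (F := ZMod 3) (q := 3) (by simp) 3 (by norm_num)
    rw [show (∏ i : Fin 3, (3 ^ 3 - 3 ^ (i : ℕ))) = 11232 by decide, show Nat.gcd 3 (3 - 1) = 1 by
      decide] at this
    omega
  have h2 := (card_eq_of_ne_one f).trans h1
  obtain ⟨x, hx⟩ := L33.sc13 h1
  obtain ⟨u, hu⟩ := hx.of_graph f hf
  have := simple_of h2 hu
  exact L33.unique h2 h1

end Cfsg.Agent.S3412
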