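import Cfsg.Statements.S3413
import Cfsg.Agent.Lib.Block.Rec2
import Cfsg.Agent.Lib.Block.M11g
import Cfsg.Agent.Lib.Spor.M12

set_option autoImplicit false
open Cfsg

namespace Cfsg.Agent.S3413

open Cfsg.Agent.Blk
open Cfsg.Agent.Char hiding cj cj_mul cj_inv_cj cj_cj_inv

/-- Let H be a finite group whose commuting graph (vertices the non-identity elements, two joined when they commute) is isomorphic to that of the Mathieu group M_11: there is a bijection between the non-identity elements of H and of M_11 under which two elements commute exactly when their images do. Then H ≅ M_11. -/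
theorem result {H : Type*} [Group H] [Finite H]
    (f : {h : H // h ≠ 1} ≃ {g : ↥Cfsg.Spor.M11 // g ≠ 1})
    (hf : ∀ x y : {h : H // h ≠ 1}, (x : H) * y = y * x ↔ ((f x) : ↥Cfsg.Spor.M11) * (f y) = (f y) * (f x)) :
    Nonempty (H ≃* ↥Cfsg.Spor.M11) := by
  have h1 : IsM11 Cfsg.Spor.M11 := ⟨have := Spor.simple11; Spor.M11Equiv.symm.isSimpleGroup,
    (Nat.card_congr Spor.M11Equiv.toEquiv).symm.trans Spor.card11⟩
  have := h1.1
  have h2 := (card_eq_of_ne_one f).trans h1.2
  obtain ⟨x, hx⟩ := M11.sc11' h1.2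
  obtain ⟨y, hy⟩ := M11.sc5 h1.2
  obtain ⟨u, hu⟩ := hx.of_graph f hf
  obtain ⟨v, hv⟩ := hy.of_graph f hf
  exact M11.unique ⟨M11.simple_of h2 hu fun a ha => by
    rw [hv.card_Ce1 ha.symm.dvd]; norm_num, h2⟩ h1

end Cfsg.Agent.S3413
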