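import Cfsg.Statements.S3419
import Cfsg.Agent.Lib.Ez.F2

set_option autoImplicit false
open Cfsg

namespace Cfsg.Agent.S3419

/-- Let n ≥ 5 and let G be a finite group with the same order and the same set of element orders as the alternating group of degree n. Then G is not solvable. -/
theorem result {G : Type*} [Group G] [Finite G] (n : ℕ) (hn : 5 ≤ n)
    (hcard : Nat.card G = Nat.card ↥(alternatingGroup (Fin n)))
    (hspec : Set.range (orderOf : G → ℕ) = Set.range (orderOf : ↥(alternatingGroup (Fin n)) → ℕ)) :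
    ¬ Group.IsSolvable G := by
  open Cfsg.Agent.Ez in
  intro hs
  have key : ∀ p q : ℕ, p.Prime → q.Prime → 2 < p → p < q → q ≤ n → n < p + q →
      (∀ i, 0 < i → p ^ i ∣ n.factorial → p ^ i % q ≠ 1) →
      (∀ i, 0 < i → q ^ i ∣ n.factorial → q ^ i % p ≠ 1) → False := fun p q hp hq a b c d e f => by
    obtain ⟨x, hx⟩ := exists_orderOf_mul_of_solvable hs hp hq b.ne
      (hcard ▸ dvd_card_alt hp a.ne' (by omega)) (hcard ▸ dvd_card_alt hq (by omega) c)
      (fun i h1 h2 => e i h1 ((hcard ▸ h2).trans (card_alt_dvd n)))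
      (fun i h1 h2 => f i h1 ((hcard ▸ h2).trans (card_alt_dvd n)))
    obtain ⟨y, hy⟩ := hspec.le ⟨x, hx⟩
    have := add_le_card_of_orderOf hp hq b.ne ((Subgroup.orderOf_coe y).trans hy)
    rw [Fintype.card_fin] at this
    omega
  have k2 : ∀ p m i : ℕ, ¬ p ^ 3 ∣ m → p ^ i ∣ m → 0 < i → i = 1 ∨ i = 2 := fun p m i a b c => by
    by_contra d
    exact a ((pow_dvd_pow p (by omega)).trans b)
  by_cases h : 11 ≤ n
  · obtain ⟨p, q, hp, hq, a, b, c⟩ := exists_two_primes' h
    refine key p q hp hq (by omega) b c (by omega) (fun i h1 h2 => ?_) fun i h1 h2 => ?_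
    · rw [eq_one_of_pow_dvd_factorial hp a h1 h2, pow_one, Nat.mod_eq_of_lt b]; omega
    · rw [eq_one_of_pow_dvd_factorial hq (by omega) h1 h2, pow_one]
      exact mod_ne_one_of_primes hq hp b.ne' a c hn
  by_cases h' : n ≤ 6
  · refine key 3 5 (by norm_num) (by norm_num) (by omega) (by omega) hn (by omega) (fun i h1 h2 => ?_)
      fun i h1 h2 => ?_
    · rcases k2 3 (Nat.factorial 6) i (by decide) (h2.trans (Nat.factorial_dvd_factorial h')) h1
        with rfl | rfl <;> norm_num
    · rw [eq_one_of_pow_dvd_factorial (by norm_num) (by omega) h1 h2]; norm_num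
  · refine key 5 7 (by norm_num) (by norm_num) (by omega) (by omega) (by omega) (by omega)
      (fun i h1 h2 => ?_) fun i h1 h2 => ?_
    · rcases k2 5 (Nat.factorial 10) i (by decide)
        (h2.trans (Nat.factorial_dvd_factorial (by omega))) h1 with rfl | rfl <;> norm_num
    · rw [eq_one_of_pow_dvd_factorial (by norm_num) (by omega) h1 h2]; norm_num

end Cfsg.Agent.S3419
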