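import Cfsg.Statements.S3420
import Cfsg.Agent.Lib.Ez.F2
import Cfsg.Agent.Lib.Solv.Frattini

set_option autoImplicit false
open Cfsg

namespace Cfsg.Agent.S3420

/-- Let n ≥ 11 and let G be a finite group with the same order and the same set of element orders as the alternating group of degree n. Then G has normal subgroups N < H such that H/N is a non-abelian simple group whose order is divisible by every prime p with n/2 < p ≤ n. -/
theorem result {G : Type*} [Group G] [Finite G] (n : ℕ) (hn : 11 ≤ n)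
    (hcard : Nat.card G = Nat.card ↥(alternatingGroup (Fin n)))
    (hspec : Set.range (orderOf : G → ℕ) = Set.range (orderOf : ↥(alternatingGroup (Fin n)) → ℕ)) :
    ∃ (N H : Subgroup G) (_ : N.Normal), H.Normal ∧ N < H ∧
      IsSimpleGroup (↥H ⧸ N.subgroupOf H) ∧ ¬ IsMulCommutative (↥H ⧸ N.subgroupOf H) ∧
      ∀ p : ℕ, p.Prime → n < 2 * p → p ≤ n → p ∣ Nat.card (↥H ⧸ N.subgroupOf H) := by
  open Subgroup Cfsg.Agent.Comp Cfsg.Agent.BG Cfsg.Agent.Ez in
  let π : Set ℕ := {p | n < 2 * p ∧ p ≤ n}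
  have h1 : ∀ p i, p.Prime → p ∈ π → 0 < i → p ^ i ∣ Nat.card G → i = 1 := fun p i a b c d =>
    eq_one_of_pow_dvd_factorial a b.1 c ((hcard ▸ d).trans (card_alt_dvd n))
  have h2 : ∀ p, p.Prime → p ∈ π → p ∣ Nat.card G := fun p a b =>
    hcard ▸ dvd_card_alt a (by have := b.1; omega) b.2
  set N := Opi πᶜ (⊤ : Subgroup G)
  have hN : N.Normal := normalizer_eq_top_iff.1 (top_unique (le_normalizer_Opi_of_le le_rfl))
  have hNπ : IsPi πᶜ N := isPi_Opi _ _
  obtain ⟨p₀, q₀, a1, a2, a3, a4, a5⟩ := exists_two_primes' hn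
  have hNt : N ≠ ⊤ := fun e => hNπ p₀ a1 (by rw [e, card_top]; exact h2 _ a1 ⟨a3, by omega⟩)
    ⟨a3, by omega⟩
  have : Nontrivial (G ⧸ N) := QuotientGroup.nontrivial_iff.2 hNt
  obtain ⟨M, -, hM, M0, hmin⟩ := Solv.exists_minimal_normal_le (⊤ : Subgroup (G ⧸ N)) top_ne_bot
  set H := M.comap (QuotientGroup.mk' N)
  have hNH : N ≤ H := QuotientGroup.le_comap_mk' N M
  have hHM : H.map (QuotientGroup.mk' N) = M := map_comap_eq_self_of_surjective
    (QuotientGroup.mk'_surjective N) M
  have e := Solv.quotientSubgroupOfEquivMap H N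
  rw [hHM] at e
  have hc : Nat.card H = Nat.card M * Nat.card N := by
    rw [← Nat.card_congr e.toEquiv, ← relIndex_mul_card hNH]; rfl
  obtain ⟨p, hp, p1, p2⟩ : ∃ p, p.Prime ∧ p ∣ Nat.card M ∧ p ∈ π := by
    by_contra c
    push Not at c
    have := le_Opi (π := πᶜ) (N := H) le_top le_normalizer_of_normal
      (show PiN _ _ by rw [hc]; exact PiN.mul c hNπ)
    exact M0 (by rw [← hHM]; exact (Subgroup.map_eq_bot_iff _).2 (by rwa [QuotientGroup.ker_mk']))
  have := Fact.mk hp
  have h3 : ∀ q, q.Prime → q ∈ π → q ∣ Nat.card M := fun q hq q1 => by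
    by_contra c
    have := Fact.mk hq
    have qp : p ≠ q := by rintro rfl; exact c p1
    obtain ⟨P, hP⟩ := exists_sylIn p H
    obtain ⟨i, hi⟩ := hP.isP.exists_card_eq
    have k1 : P ≠ ⊥ := mt hP.eq_bot_iff.1 (not_not.2 (hc ▸ p1.mul_right _))
    obtain rfl := h1 p i hp p2 (Nat.pos_of_ne_zero (by rintro rfl; exact k1 (card_eq_one.1 hi)))
      (hi ▸ card_subgroup_dvd_card P)
    have k2 := hP.frattini le_top le_normalizer_of_normal
    rw [top_inf_eq] at k2
    have k3 : q ∣ Nat.card Nm(P) := by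
      have k4 := h2 q hq q1
      rw [← H.card_mul_index, hc, ← relIndex_top_right, ← k2, relIndex_sup_left] at k4
      rcases hq.dvd_mul.1 k4 with d | d
      · exact absurd q1 (hNπ q hq ((hq.dvd_mul.1 d).resolve_left c))
      · exact d.trans (relIndex_dvd_card _ _)
    obtain ⟨y, y1, y2⟩ := exists_mem_orderOf_eq k3
    obtain ⟨x, hx⟩ := exists_orderOf_mul_of_norm hp hq qp hP.isP y2 y1 (by
      rw [hi, pow_one]; exact mod_ne_one_of_primes hp hq qp q1.1 p2.2 (by omega))
    obtain ⟨y, hy⟩ := hspec.le ⟨x, hx⟩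
    have := add_le_card_of_orderOf hp hq qp ((Subgroup.orderOf_coe y).trans hy)
    rw [Fintype.card_fin] at this
    have := p2.1
    have := q1.1
    omega
  have := (nontrivial_iff_ne_bot M).2 M0
  have hs : IsSimpleGroup M := ⟨fun L hL => by
    have l1 : M ≤ Nm(L.map M.subtype) := by
      have := (le_normalizer_map M.subtype).trans' (map_mono (f := M.subtype) L.normalizer_eq_top.ge)
      rwa [← MonoidHom.range_eq_map, range_subtype] at this
    by_cases d : p ∣ Nat.card L
    · right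
      obtain ⟨P, hP⟩ := exists_sylIn p M
      have k0 := hP.inf_normal (map_subtype_le L) (hP.le.trans l1)
      have k1 : P ⊓ L.map M.subtype ≠ ⊥ := mt k0.eq_bot_iff.1 (not_not.2 (by rwa [card_map_subtype]))
      obtain ⟨i, hi⟩ := hP.isP.exists_card_eq
      obtain rfl := h1 p i hp p2 (Nat.pos_of_ne_zero (by
        rintro rfl; exact k1 (by simp [card_eq_one.1 hi])))
        (hi ▸ (card_subgroup_dvd_card P).trans (card_quotient_dvd_card N))
      have k2 := le_of_inf_ne_bot (by rw [hi, pow_one]; exact hp) k1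
      have k3 : normalClosure (P : Set (G ⧸ N)) ≤ L.map M.subtype := (closure_le _).2 fun x hx => by
        obtain ⟨y, y1, y2⟩ := Group.mem_conjugatesOfSet_iff.1 hx
        obtain ⟨g, rfl⟩ := isConj_iff.1 y2
        obtain ⟨m, m1, m2⟩ := hP.exists_cj_eq (hP.cj_of_mem (M.normalizer_eq_top ▸ mem_top g))
        exact (cj_eq_self_iff.2 (l1 m1)).le (cj_mono _ k2 (m2.ge (conj_mem_cj.2 y1)))
      rcases hmin _ inferInstance (k3.trans (map_subtype_le L)) with f | f
      · exact absurd (eq_bot_iff.2 (inf_le_left.trans (le_normalClosure.trans f.le))) k1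
      · exact top_unique fun x _ => by simpa using k3 (f.ge x.2)
    · left
      have k1 := le_Opi (π := {p}ᶜ) (map_subtype_le L) l1
        (show PiN _ _ by rw [card_map_subtype]; exact piN_compl_singleton'.2 d)
      rcases hmin (Opi {p}ᶜ M) (normalizer_eq_top_iff.1 (top_unique
        (le_normalizer_Opi le_normalizer_of_normal))) (Opi_le _ _) with f | f
      · exact (map_eq_bot_iff_of_injective _ M.subtype_injective).1 (eq_bot_iff.2 (f ▸ k1))
      · exact absurd p1 (piN_compl_singleton'.1 (f ▸ isPi_Opi {p}ᶜ M))⟩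
  refine ⟨N, H, hN, inferInstance, lt_of_le_of_ne hNH fun f => M0 ?_, e.isSimpleGroup, fun f => ?_,
    fun q a b c => Nat.card_congr e.toEquiv ▸ h3 q a ⟨b, c⟩⟩
  · rw [← hHM, ← f]; exact QuotientGroup.map_mk'_self N
  · have k := Group.is_simple_iff_prime_card.1 e.isSimpleGroup
    rw [Nat.card_congr e.toEquiv] at k
    have := (Nat.prime_dvd_prime_iff_eq a1 k).1 (h3 _ a1 ⟨a3, by omega⟩)
    have := (Nat.prime_dvd_prime_iff_eq a2 k).1 (h3 _ a2 ⟨by omega, a5⟩)
    omega

end Cfsg.Agent.S3420
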