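import Cfsg.Statements.S3430
import Cfsg.Agent.Lib.Ez.J4

set_option autoImplicit false
open Cfsg

namespace Cfsg.Agent.S3430

/-- Let q, n ≥ 2 be integers. Unless (n = 2 and q + 1 = 2^s·3^t for some s ≥ 0 and t ≤ 1), or (q = 2 and n ∈ {4, 6, 10, 12, 18}), or (q = 3 and n ∈ {4, 6}), or (q, n) = (5, 6), there is a prime p dividing q^n − 1 but no q^i − 1 with 1 ≤ i < n (a primitive prime divisor), such that p > n + 1 or p² divides q^n − 1. -/
theorem result (q n : ℕ) (hq : 2 ≤ q) (hn : 2 ≤ n)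
    (h1 : ¬ (n = 2 ∧ ∃ s t : ℕ, t ≤ 1 ∧ q + 1 = 2 ^ s * 3 ^ t))
    (h2 : ¬ (q = 2 ∧ (n = 4 ∨ n = 6 ∨ n = 10 ∨ n = 12 ∨ n = 18)))
    (h3 : ¬ (q = 3 ∧ (n = 4 ∨ n = 6))) (h4 : ¬ (q = 5 ∧ n = 6)) :
    ∃ p : ℕ, p.Prime ∧ p ∣ q ^ n - 1 ∧ (∀ i : ℕ, 1 ≤ i → i < n → ¬ p ∣ q ^ i - 1) ∧ (n + 1 < p ∨ p ^ 2 ∣ q ^ n - 1) := by
  rcases hn.eq_or_lt with rfl | hn3
  · obtain ⟨s, u, hu, hqu⟩ := Nat.exists_eq_pow_mul_and_not_dvd (n := q + 1) (by omega) 2 (by norm_num)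
    have hu0 : u ≠ 0 := by rintro rfl; exact hu (dvd_zero _)
    obtain ⟨t, w, hw, rfl⟩ := Nat.exists_eq_pow_mul_and_not_dvd (n := u) hu0 3 (by norm_num)
    have hsq : q ^ 2 - 1 = (q + 1) * (q - 1) := by
      have := Nat.sq_sub_sq q 1
      simpa using this
    have key : ∀ p : ℕ, p.Prime → p ≠ 2 → p ∣ q + 1 → ∀ i : ℕ, 1 ≤ i → i < 2 → ¬ p ∣ q ^ i - 1 := by
      intro p hp hp2 hd i hi hi2 h
      have : i = 1 := by omega
      subst this
      rw [pow_one] at h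
      have h5 := Nat.dvd_sub hd h
      have h6 : q + 1 - (q - 1) = 2 := by omega
      rw [h6] at h5
      exact hp2 ((Nat.prime_dvd_prime_iff_eq hp Nat.prime_two).1 h5)
    by_cases hw1 : w = 1
    · subst hw1
      have ht : 2 ≤ t := by
        by_contra h
        exact h1 ⟨rfl, s, t, by omega, by simpa using hqu⟩
      obtain ⟨t, rfl⟩ : ∃ j, t = j + 2 := ⟨t - 2, by omega⟩
      have h9 : 3 ^ 2 ∣ q + 1 := ⟨2 ^ s * 3 ^ t, by rw [hqu]; ring⟩
      have h3' : 3 ∣ q + 1 := (dvd_pow_self 3 two_ne_zero).trans h9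
      refine ⟨3, Nat.prime_three, ?_, key 3 Nat.prime_three (by norm_num) h3', Or.inr ?_⟩
      · rw [hsq]; exact h3'.mul_right _
      · rw [hsq]; exact h9.mul_right _
    · obtain ⟨p, hp, c, rfl⟩ := Nat.exists_prime_and_dvd hw1
      have hp2 : p ≠ 2 := by
        rintro rfl
        exact hu ⟨3 ^ t * c, by ring⟩
      have hp3 : p ≠ 3 := by
        rintro rfl
        exact hw (dvd_mul_right _ _)
      have hd : p ∣ q + 1 := ⟨2 ^ s * 3 ^ t * c, by rw [hqu]; ring⟩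
      refine ⟨p, hp, ?_, key p hp hp2 hd, Or.inl ?_⟩
      · rw [hsq]; exact hd.mul_right _
      · have := hp.two_le; omega
  by_cases hx : (q, n) ∈ Ez.Lz.exc
  · simp only [Ez.Lz.exc, List.mem_cons, Prod.mk.injEq, List.not_mem_nil, or_false] at hx
    rcases hx with ⟨rfl, rfl⟩ | ⟨rfl, rfl⟩ | ⟨rfl, rfl⟩ | ⟨rfl, rfl⟩ | ⟨rfl, rfl⟩ | ⟨rfl, rfl⟩ | ⟨rfl, rfl⟩ | ⟨rfl, rfl⟩ |
      ⟨rfl, rfl⟩ | ⟨rfl, rfl⟩ | ⟨rfl, rfl⟩ | ⟨rfl, rfl⟩ | ⟨rfl, rfl⟩
    · simp at h2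
    · simp at h2
    · simp at h2
    · simp at h2
    · simp at h2
    · simp at h3
    · simp at h3
    · simp at h4
    · refine ⟨7, by norm_num, by norm_num, fun i hi hi2 => ?_, Or.inl (by norm_num)⟩
      interval_cases i <;> norm_num
    · refine ⟨17, by norm_num, by norm_num, fun i hi hi2 => ?_, Or.inl (by norm_num)⟩
      interval_cases i <;> norm_num
    · refine ⟨41, by norm_num, by norm_num, fun i hi hi2 => ?_, Or.inl (by norm_num)⟩
      interval_cases i <;> norm_num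
    · refine ⟨7, by norm_num, by norm_num, fun i hi hi2 => ?_, Or.inl (by norm_num)⟩
      interval_cases i <;> norm_num
    · refine ⟨13, by norm_num, by norm_num, fun i hi hi2 => ?_, Or.inl (by norm_num)⟩
      interval_cases i <;> norm_num
  obtain ⟨m, hm, hc, hle⟩ := Ez.Lz.prim_big q n hq hn3 hx
  have key : ∀ p : ℕ, p.Prime → p ∣ m → ∀ i : ℕ, 1 ≤ i → i < n → ¬ p ∣ q ^ i - 1 := by
    intro p hp hpm i hi hin h
    exact hp.one_lt.ne' (Nat.eq_one_of_dvd_coprimes (hc i hi hin) hpm h)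
  have low : ∀ p : ℕ, p.Prime → p ∣ m → n + 1 ≤ p := by
    intro p hp hpm
    by_contra hlt
    haveI := Fact.mk hp
    have h5 := (Classical.Zsig.dvd_pow_sub_one_iff (by omega : 0 < q)).1 (hpm.trans hm)
    have hq0 : (q : ZMod p) ≠ 0 := by
      intro h0
      rw [h0, zero_pow (by omega)] at h5
      exact zero_ne_one h5
    have h6 := (Classical.Zsig.dvd_pow_sub_one_iff (r := p) (k := p - 1) (by omega : 0 < q)).2
      (ZMod.pow_card_sub_one_eq_one hq0)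
    exact key p hp hpm (p - 1) (by have := hp.two_le; omega) (by omega) h6
  obtain ⟨p, hp, c, rfl⟩ := Nat.exists_prime_and_dvd (n := m) (by omega)
  by_cases hbig : n + 1 < p
  · exact ⟨p, hp, (dvd_mul_right _ _).trans hm, key p hp (dvd_mul_right _ _), Or.inl hbig⟩
  have hpn : p = n + 1 := le_antisymm (by omega) (low p hp (dvd_mul_right _ _))
  have hc1 : c ≠ 1 := by rintro rfl; omega
  obtain ⟨r, hr, hrc⟩ := Nat.exists_prime_and_dvd hc1
  have hrm : r ∣ p * c := hrc.mul_left _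
  by_cases hbig2 : n + 1 < r
  · exact ⟨r, hr, hrm.trans hm, key r hr hrm, Or.inl hbig2⟩
  have hrn : r = p := by have := low r hr hrm; omega
  subst hrn
  refine ⟨r, hr, hrm.trans hm, key r hr hrm, Or.inr (Dvd.dvd.trans ?_ hm)⟩
  rw [pow_two]
  exact Nat.mul_dvd_mul_left _ hrc

end Cfsg.Agent.S3430
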