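import Cfsg.Statements.S3443
import Mathlib
import Cfsg.Agent.Lib.Perm.Spec

set_option autoImplicit false
open Cfsg

namespace Cfsg.Agent.S3443

open Cfsg.Agent.Perm

/-- Let G be a finite group and V a normal elementary abelian subgroup of G (abelian of prime exponent p, possibly trivial). Then the semidirect product V ⋊ G, with G acting on V by conjugation, has exactly the same set of element orders as G. -/
theorem result {G : Type*} [Group G] [Finite G] (V : Subgroup G) [V.Normal] (p : ℕ) (hp : p.Prime)
    (hcomm : ∀ x y : V, x * y = y * x) (hexp : ∀ x : V, x ^ p = 1) :
    Set.range (orderOf : V ⋊[MulAut.conjNormal] G → ℕ) = Set.range (orderOf : G → ℕ) := by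
  apply Set.Subset.antisymm
  · rw [← spec_fibPow V hp (fun x hx => congrArg Subtype.val (hexp ⟨x, hx⟩)) 1]
    let F : V ⋊[MulAut.conjNormal] G →* fibPow V 1 := MonoidHom.mk'
      (fun x => ⟨![x.right, (x.left : G) * x.right], by
        intro i
        fin_cases i
        · rfl
        · show (QuotientGroup.mk ((x.left : G) * x.right) : G ⧸ V) = QuotientGroup.mk x.right
          rw [QuotientGroup.mk_mul, (QuotientGroup.eq_one_iff _).2 x.left.2, one_mul]⟩) (by
        intro a b
        apply Subtype.ext
        funext i
        fin_cases i
        · rfl
        · show (((a * b).left : V) : G) * (a * b).right =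
            ((a.left : G) * a.right) * ((b.left : G) * b.right)
          simp [mul_assoc])
    refine spec_subset_of_injective F ?_
    intro a b h
    have h0 : a.right = b.right := congrFun (congrArg Subtype.val h) 0
    have h1 : (a.left : G) * a.right = (b.left : G) * b.right :=
      congrFun (congrArg Subtype.val h) 1
    rw [h0] at h1
    exact SemidirectProduct.ext (Subtype.ext (mul_right_cancel h1)) h0
  · exact spec_subset_of_injective SemidirectProduct.inr SemidirectProduct.inr_injective

end Cfsg.Agent.S3443
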