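import Cfsg.Statements.S3444
import Mathlib
import Cfsg.Agent.Lib.Perm.Spec
import Cfsg.Agent.Lib.Solv.Basic

set_option autoImplicit false
open Cfsg

namespace Cfsg.Agent.S3444

open Cfsg.Agent.Perm

/-- A finite group with a non-trivial solvable normal subgroup is not determined by its set of element orders, not even up to finitely many possibilities: for every bound N there is a finite group of order greater than N with exactly the same set of element orders. -/
theorem result {G : Type*} [Group G] [Finite G] (K : Subgroup G) [K.Normal] (hK : K ≠ ⊥)
    (hs : Group.IsSolvable K) (N : ℕ) :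
    ∃ (H : Type) (_ : Group H) (_ : Fintype H), N < Fintype.card H ∧ Set.range (orderOf : H → ℕ) = Set.range (orderOf : G → ℕ) := by
  obtain ⟨M, -, hn, hM, -, -, p, hp, h⟩ := Cfsg.Agent.Solv.exists_elementary_normal_le K hs hK
  exact exists_large_isospectral M hM hp h N

end Cfsg.Agent.S3444
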