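import Cfsg.Statements.S3448
import Mathlib
import Cfsg.Agent.Lib.Perm.Spec

set_option autoImplicit false
open Cfsg

namespace Cfsg.Agent.S3448

open Cfsg.Agent.Perm

/-- The set of element orders of the direct product of two copies of the alternating group of degree 5 is {1, 2, 3, 5, 6, 10, 15}. (It is shared by the direct product of two Frobenius groups of orders 50 and 75, so this direct product is not determined by its element orders.) -/
theorem result : Set.range (orderOf : alternatingGroup (Fin 5) × alternatingGroup (Fin 5) → ℕ) = {1, 2, 3, 5, 6, 10, 15} := by
  rw [spec_prod_list (C := [1, 2, 3, 5, 6, 10, 15]) spec_alt5 spec_alt5 (by decide +kernel)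
    (by decide +kernel)]
  ext; simp

end Cfsg.Agent.S3448
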