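import Cfsg.Statements.S3449
import Mathlib
import Cfsg.Agent.Lib.Perm.Spec

set_option autoImplicit false
open Cfsg

namespace Cfsg.Agent.S3449

open Cfsg.Agent.Perm

/-- The direct product of three copies of the alternating group of degree 5 has exactly the same set of element orders as the cyclic group of order 30, namely the divisors of 30; in particular a direct power of a non-abelian simple group need not be determined by its element orders. -/
theorem result : Set.range (orderOf : alternatingGroup (Fin 5) × alternatingGroup (Fin 5) × alternatingGroup (Fin 5) → ℕ) =
      Set.range (orderOf : Multiplicative (ZMod 30) → ℕ) := by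
  have h1 := (spec_prod_list (C := [1, 2, 3, 5, 6, 10, 15]) spec_alt5 spec_alt5 (by decide +kernel)
    (by decide +kernel))
  have h2 := spec_prod_list (C := [1, 2, 3, 5, 6, 10, 15, 30]) spec_alt5 h1
     (by decide +kernel) (by decide +kernel)
  refine h2.trans (Eq.trans ?_ (spec_cyclic (G := Multiplicative (ZMod 30))).symm)
  ext m
  have : Nat.card (Multiplicative (ZMod 30)) = 30 := by simp
  rw [this, Set.mem_setOf_eq, Set.mem_setOf_eq]
  constructor
  · intro h
    simp only [List.mem_cons, List.not_mem_nil, or_false] at h
    rcases h with rfl | rfl | rfl | rfl | rfl | rfl | rfl | rfl <;> norm_num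
  · intro h
    have h1 := Nat.le_of_dvd (by norm_num) h
    interval_cases m <;> simp_all

end Cfsg.Agent.S3449
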