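import Cfsg.Statements.S3486
import Cfsg.Agent.Lib.J2.S8

set_option autoImplicit false
open Cfsg

namespace Cfsg.Agent.S3486

set_option linter.unusedSectionVars false
set_option linter.unusedVariables false
set_option linter.style.haveILetI false
set_option linter.unusedSimpArgs false

/-- The Hall–Janko sporadic group J₂ is not determined by its set of element orders, not even up to finitely many groups: for every bound N there is a finite group of order greater than N with exactly the same set of element orders as J₂. -/
theorem result (N : ℕ) : ∃ (H : Type) (_ : Group H) (_ : Fintype H), N < Fintype.card H ∧ Set.range (orderOf : H → ℕ) = Set.range (orderOf : Cfsg.Spor.J2 → ℕ) := by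
  have := (J2.hh_card N).1
  have i := Fintype.ofFinite (J2.HH (Fin (N + 1) → ℤˣ))
  exact ⟨J2.HH (Fin (N + 1) → ℤˣ), inferInstance, i, by rw [← Nat.card_eq_fintype_card]; exact (J2.hh_card N).2,
    (J2.hh_spec N).trans J2.j2_spec.symm⟩

end Cfsg.Agent.S3486
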