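import Cfsg.Statements.S3493
import Cfsg.Agent.Lib.BG.ExtPrim2

set_option autoImplicit false
open Cfsg

namespace Cfsg.Agent.S3493

/-- An extremely primitive permutation group is of affine type or almost simple. Let a finite group G act faithfully and primitively on a finite set Ω with at least two points, in such a way that every point stabilizer acts primitively on each of its own orbits in Ω (an orbit of size one counts as primitive). Then either G has a non-trivial abelian normal subgroup whose elements other than the identity fix no point (affine type), or G has a non-abelian simple normal subgroup with trivial centralizer (almost simple). -/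
theorem result {G : Type*} [Group G] [Finite G] {Ω : Type*} [Fintype Ω] [MulAction G Ω] [FaithfulSMul G Ω] (hΩ : 2 ≤ Fintype.card Ω) (hprim : MulAction.IsPreprimitive G Ω) (hep : ∀ (α : Ω) (ω : Ω), MulAction.IsPreprimitive (MulAction.stabilizer G α) (MulAction.orbit (MulAction.stabilizer G α) ω)) :
    (∃ N : Subgroup G, N.Normal ∧ N ≠ ⊥ ∧ IsMulCommutative N ∧ ∀ ω : Ω, MulAction.stabilizer N ω = ⊥) ∨ (∃ T : Subgroup G, T.Normal ∧ IsSimpleGroup T ∧ ¬ IsMulCommutative T ∧ Subgroup.centralizer (T : Set G) = ⊥) := by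
  open Pointwise commutatorElement Subgroup in
  open Cfsg.Agent.Comp Cfsg.Agent.BG Subgroup commutatorElement MulAction in
  haveI : Nontrivial Ω := Fintype.one_lt_card_iff_nontrivial.1 hΩ
  obtain ⟨α, ω, hω⟩ := exists_pair_ne Ω
  have co := fun β : Ω => IsPreprimitive.isCoatom_stabilizer_of_isPreprimitive G β
  have hc : ∀ β : Ω, (stabilizer G β).normalCore = ⊥ := fun β => EP.normal_eq_bot (normalCore_le _)
  refine or_iff_not_imp_left.2 fun h => ?_
  have h0 : ∀ N : Subgroup G, N.Normal → N ≤ Ct(N) → N = ⊥ := fun N _ e => by_contra fun f =>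
    h ⟨N, ‹_›, f, comm_iff_le.2 e, fun β => (eq_bot_iff_forall _).2 fun x hx => Subtype.ext ((eq_bot_iff_forall _).1
      (Solv.centralizer_inf_eq_bot_of_core (co β) (hc β) f) x (mem_inf.2 ⟨e x.2, hx⟩))⟩
  have hF : Fit (⊤ : Subgroup G) = ⊥ := by_contra fun e => by
    obtain ⟨p, n, -, -, f, -⟩ := EP.fit (co α) (hc α) (Fit_top (G := G) ▸ e)
    exact e (Fit_top.trans (h0 _ inferInstance f.ge))
  have h1 : stabilizer G α ≠ ⊥ := fun e => by
    have hT : (⊤ : Subgroup G) ≠ ⊥ := fun f => (co α).1 (e.trans f.symm)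
    obtain ⟨x, -, hx⟩ := exists_prime_order_mem hT
    have := (co α).2 (zpowers x) (e ▸ bot_lt_iff_ne_bot.2 fun e => by
      rw [zpowers_eq_bot.1 e, orderOf_one] at hx; exact Nat.not_prime_one hx)
    exact hT (h0 ⊤ inferInstance (this ▸ comm_iff_le.1 inferInstance))
  obtain ⟨L, hL⟩ : ∃ L : Subgroup G, CompIn L ⊤ := by
    by_contra e
    push Not at e
    exact h1 (le_bot_iff.1 (le_top.trans (eq_bot_of_Fstar_eq_bot (by rw [Fstar, Lay_eq_bot_iff.2 e, hF, sup_idem])).le))
  obtain ⟨h2, h3⟩ := EP.almost hep h1 hF hL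
  refine ⟨L, h2, ?_, fun e => hL.qs.not_le_centralizer (comm_iff_le.1 e), h3⟩
  haveI := (nontrivial_iff_ne_bot L).2 hL.qs.ne_bot
  refine ⟨fun N _ => (EP.simp_L hF hL (map_subtype_le N) (fun g hg => mem_normalizer_fintype (by
    rintro _ ⟨x, hx, rfl⟩; exact ⟨_, Normal.conj_mem ‹_› x hx ⟨g, hg⟩, rfl⟩))).symm.imp (fun e => ?_) fun e => ?_⟩
  · exact (Subgroup.map_eq_bot_iff_of_injective _ L.subtype_injective).1 e
  · exact map_subtype_inj.1 (by rw [e, ← MonoidHom.range_eq_map, range_subtype])

end Cfsg.Agent.S3493
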