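import Cfsg.Statements.S3494
import Mathlib
import Cfsg.Agent.Lib.Perm.PG3

set_option autoImplicit false
open Cfsg

namespace Cfsg.Agent.S3494

open Cfsg.Agent.Perm Cfsg.Agent.Perm.PG MulAction Equiv
open scoped Pointwise

/-- Manning's Theorem on extremely primitive groups. Let a finite group G act faithfully and primitively on a finite set Ω with non-trivial point stabilizers, and suppose every point stabilizer G_α acts primitively on each of its orbits. Then G_α acts faithfully on each of its orbits other than {α}: an element of G_α fixing every point of one such orbit is the identity. -/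
theorem result {G : Type*} [Group G] [Finite G] {Ω : Type*} [Fintype Ω] [MulAction G Ω] [FaithfulSMul G Ω] (hprim : MulAction.IsPreprimitive G Ω) (hH : ∀ α : Ω, MulAction.stabilizer G α ≠ ⊥) (hep : ∀ (α : Ω) (ω : Ω), MulAction.IsPreprimitive (MulAction.stabilizer G α) (MulAction.orbit (MulAction.stabilizer G α) ω))
    (α ω : Ω) (hω : ω ≠ α) (h : MulAction.stabilizer G α) (hfix : ∀ x ∈ MulAction.orbit (MulAction.stabilizer G α) ω, h • x = x) : h = 1 := by
  let K : Ω → Ω → Subgroup G := fun a b => stabilizer G a ⊓ fixingSubgroup G (orbit (stabilizer G a) b)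
  have hK : ∀ a b g, g ∈ K a b ↔ g • a = a ∧ ∀ t : G, t • a = a → g • t • b = t • b := fun a b g =>
    ⟨fun h => ⟨h.1, fun t ht => (mem_fixingSubgroup_iff G).1 h.2 _ ⟨⟨t, ht⟩, rfl⟩⟩,
      fun h => ⟨h.1, (mem_fixingSubgroup_iff G).2 (by rintro _ ⟨t, rfl⟩; exact h.2 t t.2)⟩⟩
  have hn : ∀ a b, ∀ t : G, t • a = a → ∀ g ∈ K a b, t * g * t⁻¹ ∈ K a b := by
    intro a b t ht g hg
    rw [hK] at hg ⊢
    have ht' := inv_smul_eq_iff.2 ht.symm
    refine ⟨by rw [mul_smul, mul_smul, ht', hg.1, ht], fun u hu => ?_⟩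
    rw [mul_smul, mul_smul, ← mul_smul t⁻¹, hg.2 _ (by rw [mul_smul, hu, ht']), mul_smul, smul_inv_smul]
  have : Nontrivial Ω := ⟨⟨ω, α, hω⟩⟩
  have hle : ∀ a b, a ≠ b → K a b ≤ K b a := by
    intro a b hab g hg
    have hg' := (hK a b g).1 hg
    refine (hK b a g).2 ⟨by simpa using hg'.2 1 (one_smul _ _), fun u hu => ?_⟩
    by_contra hc
    have := hep a (u • a)
    rcases prim_rel (G := stabilizer G a) (fun x y : orbit (stabilizer G a) (u • a) => ∃ k ∈ K a b, k • (x : Ω) = y)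
      ⟨fun x => ⟨1, one_mem _, one_smul _ _⟩, fun ⟨k, h1, h2⟩ => ⟨k⁻¹, inv_mem h1, inv_smul_eq_iff.2 h2.symm⟩,
        fun ⟨k, h1, h2⟩ ⟨l, h3, h4⟩ => ⟨l * k, mul_mem h3 h1, by rw [mul_smul, h2, h4]⟩⟩
      (fun t x y ⟨k, h1, h2⟩ => ⟨_, hn a b t t.2 k h1, by
        show ((t : G) * k * (t : G)⁻¹) • (t : G) • (x : Ω) = (t : G) • (y : Ω)
        rw [mul_smul, mul_smul, inv_smul_smul, h2]⟩) with h1 | h1
    · exact hc (congrArg Subtype.val (h1 ⟨_, mem_orbit_self _⟩ ⟨_, ⟨g, hg'.1⟩, rfl⟩ ⟨g, hg, rfl⟩)).symm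
    have h2 : orbit (stabilizer G a) b ⊆ u • orbit (stabilizer G a) b := by
      rintro _ ⟨t, rfl⟩
      obtain ⟨k, h2, h3⟩ := h1 ⟨_, mem_orbit_self _⟩ ⟨_, t, rfl⟩
      have h4 : k • u • a = (t : G) • u • a := h3
      refine ⟨(u⁻¹ * k⁻¹ * t * u) • b, ⟨⟨_, ?_⟩, rfl⟩, ?_⟩
      · rw [mem_stabilizer_iff, mul_smul, mul_smul, mul_smul, ← h4, inv_smul_smul, inv_smul_smul]
      · show u • _ = (t : G) • b
        rw [mul_smul, mul_smul, mul_smul, smul_inv_smul, hu, inv_smul_eq_iff, ((hK a b k).1 h2).2 t t.2]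
    have h3 := Set.eq_of_subset_of_ncard_le h2 (by rw [Set.ncard_smul_set])
    have h4 := (IsPreprimitive.isCoatom_stabilizer_of_isPreprimitive G a).2 (stabilizer G (orbit (stabilizer G a) b))
      (lt_of_le_of_ne (fun t ht => smul_orbit (⟨t, ht⟩ : stabilizer G a) b) fun e => hc (by
        have : u ∈ stabilizer G a := e ▸ h3.symm
        rw [show u • a = a from this, hg'.1]))
    obtain ⟨v, rfl⟩ := exists_smul_eq G b a
    have h5 : v • orbit (stabilizer G (v • b)) b = orbit (stabilizer G (v • b)) b := (h4 ▸ Subgroup.mem_top v :)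
    obtain ⟨t, ht⟩ := h5 ▸ Set.smul_mem_smul_set (a := v) (mem_orbit_self b)
    exact hab (smul_left_cancel (t : G) (t.2.trans ht.symm))
  have he : K α ω = K ω α := le_antisymm (hle _ _ hω.symm) (hle _ _ hω)
  have hno : ∀ a b, stabilizer G a ≤ Subgroup.normalizer (K a b : Set G) := fun a b t ht =>
    Subgroup.mem_normalizer_fintype fun g hg => hn a b t ht g hg
  have h1 := (IsPreprimitive.isCoatom_stabilizer_of_isPreprimitive G α).2 (Subgroup.normalizer (K α ω : Set G))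
    (lt_of_le_of_ne (hno _ _) fun e => hH α (stab_eq_bot_of_stab_eq hω (Subgroup.eq_of_le_of_card_ge
      (by rw [e, he]; exact hno _ _) (card_stab_eq _ _).le) α))
  have := Subgroup.normalizer_eq_top_iff.1 h1
  by_contra hc
  obtain ⟨k, hk⟩ := (normal_trans_of_prim (α := Ω) (K α ω) fun e => hc (Subtype.ext (Subgroup.mem_bot.1
    (e ▸ ⟨h.2, (mem_fixingSubgroup_iff G).2 hfix⟩)))).exists_smul_eq α ω
  exact hω (hk.symm.trans k.2.1)

end Cfsg.Agent.S3494
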