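import Cfsg.Statements.S3495
import Mathlib
import Cfsg.Agent.Lib.Perm.PG3
import Cfsg.Agent.S3494

set_option autoImplicit false
open Cfsg

namespace Cfsg.Agent.S3495

open Cfsg.Agent.Perm Cfsg.Agent.Perm.PG MulAction Equiv

/-- Let a finite group G act faithfully and primitively on a finite set Ω with non-trivial point stabilizers, each acting primitively on every one of its orbits (an extremely primitive group), and suppose G has an elementary abelian normal p-subgroup N acting regularly on Ω (affine type). Then every non-trivial subgroup M of a point stabilizer G_α that is normal in G_α has the same orbits on Ω as G_α, and normalizes no subgroup of N other than 1 and N. -/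
theorem result {G : Type*} [Group G] [Finite G] {Ω : Type*} [Fintype Ω] [MulAction G Ω] [FaithfulSMul G Ω] (hprim : MulAction.IsPreprimitive G Ω) (hH : ∀ α : Ω, MulAction.stabilizer G α ≠ ⊥) (hep : ∀ (α : Ω) (ω : Ω), MulAction.IsPreprimitive (MulAction.stabilizer G α) (MulAction.orbit (MulAction.stabilizer G α) ω))
    (N : Subgroup G) [N.Normal] (hNc : IsMulCommutative N) (p : ℕ) (hp : p.Prime) (hNp : ∀ n ∈ N, n ^ p = 1)
    (hNtr : MulAction.IsPretransitive N Ω) (hNreg : ∀ ω : Ω, MulAction.stabilizer N ω = ⊥) (α : Ω) (M : Subgroup G) (hM : M ≠ ⊥) (hMle : M ≤ MulAction.stabilizer G α)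
    (hMn : MulAction.stabilizer G α ≤ Subgroup.normalizer (M : Set G)) :
    (∀ ω : Ω, MulAction.orbit M ω = MulAction.orbit (MulAction.stabilizer G α) ω) ∧
    (∀ L : Subgroup G, L ≤ N → M ≤ Subgroup.normalizer (L : Set G) → L = ⊥ ∨ L = N) := by
  have h1 : ∀ ω : Ω, ∀ t : G, t • α = α → ∃ m ∈ M, m • ω = t • ω := by
    intro ω t ht
    by_cases hω : ω = α
    · exact ⟨1, one_mem _, by rw [hω, ht, one_smul]⟩
    have := hep α ω
    rcases prim_rel (G := stabilizer G α) (fun x y : orbit (stabilizer G α) ω => ∃ k ∈ M, k • (x : Ω) = y)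
      ⟨fun x => ⟨1, one_mem _, one_smul _ _⟩, fun ⟨k, h1, h2⟩ => ⟨k⁻¹, inv_mem h1, inv_smul_eq_iff.2 h2.symm⟩,
        fun ⟨k, h1, h2⟩ ⟨l, h3, h4⟩ => ⟨l * k, mul_mem h3 h1, by rw [mul_smul, h2, h4]⟩⟩
      (fun t x y ⟨k, h1, h2⟩ => ⟨_, (Subgroup.mem_normalizer_iff.1 (hMn t.2) k).1 h1, by
        show ((t : G) * k * (t : G)⁻¹) • (t : G) • (x : Ω) = (t : G) • (y : Ω)
        rw [mul_smul, mul_smul, inv_smul_smul, h2]⟩) with h1 | h1
    · refine absurd (eq_bot_iff.2 fun m hm => ?_) hM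
      exact congrArg Subtype.val (S3494.result hprim hH hep α ω hω ⟨m, hMle hm⟩ fun x hx =>
        (congrArg Subtype.val (h1 ⟨x, hx⟩ ⟨_, mem_orbit_of_mem_orbit (⟨m, hMle hm⟩ : stabilizer G α) hx⟩ ⟨m, hm, rfl⟩)).symm)
    · exact h1 ⟨_, mem_orbit_self _⟩ ⟨_, ⟨t, ht⟩, rfl⟩
  refine ⟨fun ω => Set.Subset.antisymm ?_ ?_, fun L hL hML => ?_⟩
  · rintro _ ⟨m, rfl⟩
    exact ⟨⟨m, hMle m.2⟩, rfl⟩
  · rintro _ ⟨t, rfl⟩
    obtain ⟨m, hm, h⟩ := h1 ω t t.2
    exact ⟨⟨m, hm⟩, h⟩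
  have hinj : ∀ x ∈ N, ∀ y ∈ N, x • α = y • α → x = y := fun x hx y hy h =>
    congrArg Subtype.val (eq_of_smul_eq_of_stab_bot (hNreg α) (g := ⟨x, hx⟩) (k := ⟨y, hy⟩) h)
  have hn : L.Normal := ⟨fun l hl g => by
    obtain ⟨n, hn⟩ := hNtr.exists_smul_eq α (g • α)
    have ht : ((n : G)⁻¹ * g) • α = α := by rw [mul_smul, inv_smul_eq_iff]; exact hn.symm
    obtain ⟨m, hm, h⟩ := h1 (l • α) _ ht
    have h2 := hinj _ (Subgroup.Normal.conj_mem ‹_› l (hL hl) m) _ (Subgroup.Normal.conj_mem ‹_› l (hL hl) ((n : G)⁻¹ * g)) (by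
      rw [mul_smul, mul_smul, mul_smul _ _ α, mul_smul _ l, inv_smul_eq_iff.2 ht.symm,
        inv_smul_eq_iff.2 (show α = m • α from (hMle hm).symm), h])
    have h3 := (Subgroup.mem_normalizer_iff.1 (hML hm) l).1 hl
    rw [h2] at h3
    have h4 := congrArg Subtype.val (hNc.is_comm.comm n ⟨_, hL h3⟩)
    simp only [Subgroup.coe_mul] at h4
    rw [← mul_inv_eq_iff_eq_mul] at h4
    convert h3 using 1
    rw [← h4]; group⟩
  refine or_iff_not_imp_left.2 fun h => le_antisymm hL fun n hn => ?_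
  obtain ⟨l, hl⟩ := (normal_trans_of_prim (α := Ω) L h).exists_smul_eq α (n • α)
  exact hinj _ (hL l.2) _ hn hl ▸ l.2

end Cfsg.Agent.S3495
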