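import Cfsg.Statements.S3496
import Cfsg.Agent.Lib.BG.ExtPrim

set_option autoImplicit false
open Cfsg

namespace Cfsg.Agent.S3496

/-- The soluble extremely primitive groups. Let a finite solvable group G act faithfully and primitively on a finite set Ω with p ^ d points (p prime), with non-trivial point stabilizers each acting primitively on every one of its orbits. Then there is a prime q such that every orbit of a point stabilizer G_α other than {α} has exactly q points, q divides p ^ d − 1 but no p ^ i − 1 with 0 < i < d, and G_α has a normal subgroup T of order q with G_α generated by T and one further element and the order of G_α dividing q·d (so G_α is cyclic of order q, or an extension of T by a cyclic group of order dividing d). -/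
theorem result {G : Type*} [Group G] [Finite G] {Ω : Type*} [Fintype Ω] [MulAction G Ω] [FaithfulSMul G Ω] [Group.IsSolvable G] (p d : ℕ) (hp : p.Prime) (hcard : Fintype.card Ω = p ^ d)
    (hprim : MulAction.IsPreprimitive G Ω) (hH : ∀ α : Ω, MulAction.stabilizer G α ≠ ⊥) (hep : ∀ (α : Ω) (ω : Ω), MulAction.IsPreprimitive (MulAction.stabilizer G α) (MulAction.orbit (MulAction.stabilizer G α) ω)) (α : Ω) :
    ∃ q : ℕ, q.Prime ∧ (∀ ω : Ω, ω ≠ α → Nat.card (MulAction.orbit (MulAction.stabilizer G α) ω) = q) ∧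
      q ∣ p ^ d - 1 ∧ (∀ i : ℕ, 0 < i → i < d → ¬ q ∣ p ^ i - 1) ∧
      ∃ T : Subgroup G, T ≤ MulAction.stabilizer G α ∧ MulAction.stabilizer G α ≤ Subgroup.normalizer (T : Set G) ∧ Nat.card T = q ∧
        (∃ h : G, MulAction.stabilizer G α = T ⊔ Subgroup.zpowers h) ∧ Nat.card (MulAction.stabilizer G α) ∣ q * d := by
  open Pointwise commutatorElement Subgroup in
  open Cfsg.Agent.Comp Cfsg.Agent.BG Subgroup commutatorElement MulAction in
  have h1 := hH α
  obtain ⟨ω₀, hω₀⟩ := EP.exists_ne h1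
  haveI : Nontrivial Ω := ⟨⟨_, _, hω₀⟩⟩
  have hG := IsPreprimitive.isCoatom_stabilizer_of_isPreprimitive G α
  have hc : (stabilizer G α).normalCore = ⊥ := EP.normal_eq_bot (normalCore_le _)
  have fne : ∀ M : Subgroup G, M ≠ ⊥ → Fit M ≠ ⊥ := fun M h => Fit_ne_bot_of_isSolvable inferInstance h (SubnIn.refl M)
  obtain ⟨r, e, hr, v1, v2, v3, v4⟩ := EP.fit hG hc (Fit_top (G := G) ▸ fne ⊤ (fun e => h1 (le_bot_iff.1 (le_top.trans e.le))))
  obtain ⟨V, hV⟩ : ∃ V, V = fittingSubgroup G := ⟨_, rfl⟩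
  haveI : V.Normal := hV ▸ inferInstance
  rw [← hV] at v1 v2 v3 v4
  have v5 : Nat.card V = p ^ d := by
    rw [← EP.index_eq v3 v4, index_stabilizer_of_transitive, Nat.card_eq_fintype_card, hcard]
  have hd : d ≠ 0 := by
    rintro rfl
    exact (Fintype.one_lt_card (α := Ω)).ne' hcard
  obtain rfl : p = r := (Nat.prime_dvd_prime_iff_eq hp hr).1 (hp.dvd_of_dvd_pow (v1.card ▸ v5 ▸ dvd_pow_self p hd))
  haveI := Fact.mk hp
  have v6 : El p d V := ⟨v1.elem, v5⟩
  have reg : ∀ v ∈ V, ∀ w ∈ V, v • α = w • α → v = w := fun v hv w hw e => (inv_mul_eq_one.1 ((eq_bot_iff_forall _).1 v4 _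
    (mem_inf.2 ⟨mul_mem (inv_mem hw) hv, by rw [mem_stabilizer_iff, mul_smul, e, inv_smul_smul]⟩))).symm
  have f0 : fittingSubgroup (stabilizer G α) ≠ ⊥ := fun e => fne _ h1 (by rw [← map_fitting, e, Subgroup.map_bot])
  obtain ⟨q, n, hq, t1, t2, -⟩ := EP.fit (EP.coatom hep (EP.not_le hω₀ h1)) (EP.core hep hω₀ h1) f0
  haveI := Fact.mk hq
  obtain ⟨T, hT⟩ : ∃ T, T = (fittingSubgroup (stabilizer G α)).map (stabilizer G α).subtype := ⟨_, rfl⟩
  have t3 : T ≤ stabilizer G α := hT ▸ map_subtype_le _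
  have t4 : stabilizer G α ≤ Nm(T) := hT ▸ le_normalizer_Fit le_normalizer
  have t5 : ∀ ω ≠ α, ∀ t ∈ T, t • ω = ω → t = 1 := fun ω hω t ht e => by
    obtain ⟨t, ht', rfl⟩ := hT.le ht
    exact congrArg Subtype.val ((eq_bot_iff_forall _).1 (EP.fit' hep hω h1 f0).2 _ (mem_inf.2 ⟨ht', e⟩))
  have t6 : IsElementaryAbelian q T := hT ▸ ⟨haveI := t1.comm; inferInstance, by
    rintro _ ⟨t, ht, rfl⟩; rw [← map_pow, t1.pow ht, map_one]⟩
  have t7 : T ≠ ⊥ := hT ▸ fne _ h1
  have fp : ∀ t ∈ T, t ≠ 1 → V ⊓ C1(t) = ⊥ := fun t ht e => Solv.fpf_iff.2 fun v hv f => by_contra fun g =>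
    e (t5 (v • α) (fun k => g (reg v hv 1 (one_mem _) (k.trans (one_smul _ _).symm))) t ht
      (by rw [smul_smul, f, mul_smul, t3 ht]))
  have vne : V ≠ ⊥ := fun e => hG.1 (by rwa [e, bot_sup_eq] at v3)
  have cyc : IsCyclic T := by_contra fun h => vne (le_bot_iff.1 (Solv.le_of_forall_centralizer_le t6.1 h
    le_normalizer_of_normal (Solv.coprime_of_fpf le_normalizer_of_normal fp) fun a ha e => (fp a ha e).le))
  obtain ⟨t, ht, t8⟩ := Solv.isCyclic_iff_exists_le_zpowers.1 cyc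
  have t9 : T = zpowers t := le_antisymm t8 (zpowers_le.2 ht)
  have t10 : t ≠ 1 := fun e => t7 (by rw [t9, e, zpowers_one_eq_bot])
  have tq : Nat.card T = q := by rw [t9, Nat.card_zpowers, orderOf_eq_prime (t6.2 t ht) t10]
  have irr : ∀ U ≤ V, T ≤ Nm(U) → U = ⊥ ∨ U = V := fun U hU hn => or_iff_not_imp_left.2 fun e => by
    haveI : U.Normal := EP.normal_of (v3.ge.trans (sup_le (le_Nm_of_le_Ct' (hU.trans v1.le_Ct)) fun a ha =>
      mem_normalizer_fintype fun w hw => by
        by_cases f : w = 1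
        · rw [f, mul_one, mul_inv_cancel]; exact one_mem U
        have k : w • α ≠ α := fun k => f (reg w (hU hw) 1 (one_mem _) (k.trans (one_smul _ _).symm))
        obtain ⟨s, hs, g⟩ := EP.trans hep t3 t4 (fun g => t10 (t5 _ k t ht (g ht))) a ha
        rw [← reg (s * w * s⁻¹) (Normal.conj_mem ‹_› _ (hU hw) _) _ (Normal.conj_mem ‹_› _ (hU hw) a) (by
          rw [mul_smul, mul_smul, mul_smul, mul_smul, show s⁻¹ • α = α from inv_mem (t3 hs),
            show a⁻¹ • α = α from inv_mem ha, g])]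
        exact (mem_normalizer_iff.1 (hn hs) w).1 hw))
    exact (Solv.eq_centralizer_of_core hG hc vne e (hU.trans v1.le_Ct)).trans v2
  have hqp : p ≠ q := fun e => by
    have := Solv.coprime_of_fpf le_normalizer_of_normal fp
    rw [tq, v5, e] at this
    exact hq.one_lt.ne' (this.eq_one_of_dvd (dvd_pow_self q hd))
  have ho : d = orderOf (p : ZMod q) := Nat.pow_right_injective hp.two_le (v5.symm.trans (Irr.card_irr hp hqp v1.elem
    (le_normalizer_of_normal (mem_top t)) (by rw [t6.2 t ht]; exact one_mem _)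
    (fun e => vne ((inf_eq_left.2 fun x hx => mem_C1.2 (mem_Ct.1 e x hx).symm).symm.trans (fp t ht t10)))
    fun U hU hn => irr U hU (t9 ▸ zpowers_le.2 hn)))
  have idx : ∀ ω ≠ α, ((stabilizer G ω).subgroupOf (stabilizer G α)).index = q := fun ω hω => by
    rw [EP.index_eq (EP.fit' hep hω h1 f0).1 (EP.fit' hep hω h1 f0).2, ← tq, hT, card_subtype]
  refine ⟨q, hq, fun ω hω => ?_, ?_, fun i i1 i2 h => ?_, T, t3, t4, tq, ?_⟩
  · rw [← idx ω hω, Nat.card_coe_set_eq, ← index_stabilizer]; rfl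
  · rw [← tq, ← v5]; exact Solv.card_dvd_sub_one_of_fpf le_normalizer_of_normal fp
  · refine i2.not_ge (ho ▸ orderOf_le_of_pow_eq_one i1 ?_)
    rw [← Nat.cast_pow, ← Nat.cast_one, eq_comm, ZMod.natCast_eq_natCast_iff]
    exact (Nat.modEq_iff_dvd' (pow_pos hp.pos i)).2 h
  obtain ⟨v, hv, hv1⟩ := Solv.exists_ne_one_of_ne_bot vne
  have k : v • α ≠ α := fun k => hv1 (reg v hv 1 (one_mem _) (k.trans (one_smul _ _).symm))
  obtain ⟨U, hU⟩ : ∃ U, U = stabilizer G α ⊓ stabilizer G (v • α) := ⟨_, rfl⟩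
  have u1 : U ≤ stabilizer G α := hU ▸ inf_le_left
  have u2 : T ⊔ U = stabilizer G α := by
    have := congrArg (Subgroup.map (stabilizer G α).subtype) (EP.fit' hep k h1 f0).1
    rwa [Subgroup.map_sup, ← hT, subgroupOf_map_subtype, inf_comm, ← hU, ← MonoidHom.range_eq_map, range_subtype] at this
  obtain ⟨χ, hχ⟩ := exists_chi (Y := T) ⟨t6, by rw [tq, pow_one]⟩
  have u3 : IsCyclic U := isCyclic_of_injective (χ.comp (inclusion (u1.trans t4))) ((injective_iff_map_eq_one _).2 fun x hx => by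
    have := (hχ (inclusion (u1.trans t4) x) 1).1 (by rw [Int.cast_one]; exact congrArg Units.val hx)
    refine Subtype.ext (t5 _ k _ (hT ▸ ⟨⟨x, u1 x.2⟩, t2.le (mem_Ct.2 fun y hy => Subtype.ext ?_), rfl⟩) (hU.le x.2).2)
    have := this y (hT ▸ mem_map_of_mem _ hy)
    rw [zpow_one, mul_inv_eq_iff_eq_mul] at this
    exact this.symm)
  obtain ⟨h, hh, u4⟩ := Solv.isCyclic_iff_exists_le_zpowers.1 u3
  have u5 : U = zpowers h := le_antisymm u4 (zpowers_le.2 hh)
  have u6 : h ^ d = 1 := (eq_bot_iff_forall _).1 v4 _ (mem_inf.2 ⟨v2.le (EP.pow_mem_Ct v6 (comm_iff_le.1 t6.1)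
    le_normalizer_of_normal (fun W hW hn => irr W hW fun s hs => mem_normalizer_fintype (hn s hs)) hv hv1
    (le_normalizer_of_normal (mem_top h)) (t4 (u1 hh)) (reg _ (Normal.conj_mem ‹_› _ hv _) _ hv (by
      rw [mul_smul, mul_smul, show h⁻¹ • α = α from inv_mem (u1 hh)]; exact (hU.le hh).2))), pow_mem (u1 hh) d⟩)
  refine ⟨⟨h, u5 ▸ u2.symm⟩, ?_⟩
  rw [← u2, sup_comm, mul_comm, ← tq]
  exact (card_sup_dvd (u1.trans t4)).trans (Nat.mul_dvd_mul_right
    (by rw [u5, Nat.card_zpowers]; exact orderOf_dvd_of_pow_eq_one u6) _)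

end Cfsg.Agent.S3496
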