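import Cfsg.Statements.S3497
import Cfsg.Agent.Lib.BG.ExtPrim

set_option autoImplicit false
open Cfsg

namespace Cfsg.Agent.S3497

/-- Restrictions on the point stabilizer of an extremely primitive group. Let a finite group G act faithfully and primitively on a finite set Ω with point stabilizers H = G_α whose order is neither 1 nor a prime, each acting primitively on every one of its orbits. Then H has trivial center, the Fitting subgroup F(H) is an elementary abelian p-group for some prime p, and if F(H) ≠ 1 has order p ^ e then p ^ e divides the number of points minus one and H / F(H) embeds in GL_e(p) (there is a homomorphism from H to GL_e(p) with kernel exactly F(H)). -/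
theorem result {G : Type*} [Group G] [Finite G] {Ω : Type*} [Fintype Ω] [MulAction G Ω] [FaithfulSMul G Ω] (hprim : MulAction.IsPreprimitive G Ω) (hep : ∀ (α : Ω) (ω : Ω), MulAction.IsPreprimitive (MulAction.stabilizer G α) (MulAction.orbit (MulAction.stabilizer G α) ω)) (α : Ω)
    (hH1 : MulAction.stabilizer G α ≠ ⊥) (hHp : ¬ (Nat.card (MulAction.stabilizer G α)).Prime) :
    Subgroup.center (MulAction.stabilizer G α) = ⊥ ∧
    IsMulCommutative (Cfsg.fittingSubgroup (MulAction.stabilizer G α)) ∧
    ∃ p e : ℕ, p.Prime ∧ Nat.card (Cfsg.fittingSubgroup (MulAction.stabilizer G α)) = p ^ e ∧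
      (∀ x ∈ Cfsg.fittingSubgroup (MulAction.stabilizer G α), x ^ p = 1) ∧
      (Cfsg.fittingSubgroup (MulAction.stabilizer G α) ≠ ⊥ →
        p ^ e ∣ Fintype.card Ω - 1 ∧
        ∃ φ : MulAction.stabilizer G α →* GL (Fin e) (ZMod p), φ.ker = Cfsg.fittingSubgroup (MulAction.stabilizer G α)) := by
  open Pointwise commutatorElement Subgroup in
  open Cfsg.Agent.Comp Cfsg.Agent.BG Subgroup commutatorElement MulAction in
  obtain ⟨ω, hω⟩ := EP.exists_ne hH1
  have hU := EP.coatom hep (EP.not_le hω hH1)
  have hc := EP.core hep hω hH1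
  refine ⟨by_contra fun h => hHp (EP.prime_of_center hU hc h), ?_⟩
  by_cases h : fittingSubgroup (stabilizer G α) = ⊥
  · exact ⟨by rw [h]; infer_instance, 2, 0, Nat.prime_two, by rw [h, card_bot, pow_zero],
      fun x hx => by rw [h.le hx, one_pow], fun e => (e h).elim⟩
  obtain ⟨p, e, hp, h1, h2, -⟩ := EP.fit hU hc h
  haveI := Fact.mk hp
  refine ⟨h1.comm, p, e, hp, h1.card, h1.elem.2, fun _ => ⟨?_, ?_⟩⟩
  · have := Solv.card_modEq_of_card_fixedBy (G := fittingSubgroup (stabilizer G α)) (X := Ω) (m := 1) fun g hg => by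
      rw [Nat.card_eq_one_iff_exists]
      refine ⟨⟨α, g.1.2⟩, fun y => Subtype.ext (by_contra fun f => hg (Subtype.ext ?_))⟩
      exact (eq_bot_iff_forall _).1 (EP.fit' hep f hH1 h).2 _ (mem_inf.2 ⟨g.2, y.2⟩)
    rw [h1.card, Nat.card_eq_fintype_card] at this
    exact (Nat.modEq_iff_dvd' (Fintype.card_pos_iff.2 ⟨α⟩)).1 this.symm
  · obtain ⟨φ, hφ⟩ := exists_gl_rep h1
    refine ⟨φ.comp ((MonoidHom.id _).codRestrict _ fun x => le_normalizer_of_normal (mem_top x)), ?_⟩
    rw [← MonoidHom.comap_ker, hφ, h2]; rfl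

end Cfsg.Agent.S3497
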