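import Cfsg.Statements.S3498
import Mathlib
import Cfsg.Agent.Lib.Perm.PG3
import Cfsg.Agent.S0042
import Cfsg.Agent.S0035

set_option autoImplicit false
open Cfsg

namespace Cfsg.Agent.S3498

open Cfsg.Agent.Perm
open scoped Pointwise

/-- A maximal subgroup of a finite almost simple group does not have prime order. Here G is almost simple in the sense that it has a non-abelian simple normal subgroup T with trivial centralizer. -/
theorem result {G : Type*} [Group G] [Finite G] (T : Subgroup G) [T.Normal] (hT : IsSimpleGroup T) (hTc : ¬ IsMulCommutative T)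
    (hC : Subgroup.centralizer (T : Set G) = ⊥) (H : Subgroup G) (hmax : IsCoatom H) : ¬ (Nat.card H).Prime := by
  intro hp
  have := Fact.mk hp
  have key : ∀ K : Subgroup G, K.Normal → Group.IsSolvable K → K = ⊥ := by
    intro K hK hs
    rcases hT.eq_bot_or_eq_top_of_normal (K.subgroupOf T) inferInstance with h | h
    · rw [eq_bot_iff, ← hC]
      intro x hx y hy
      exact (Subgroup.commute_of_normal_of_disjoint K T hK inferInstance
        (Subgroup.subgroupOf_eq_bot.1 h) x y hx hy).symm
    · have := solvable_of_solvable_injective (Subgroup.inclusion_injective (Subgroup.subgroupOf_eq_top.1 h))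
      exact absurd ⟨⟨IsSimpleGroup.comm_iff_isSolvable.2 this⟩⟩ hTc
  have hb : H ≠ ⊥ := by rintro rfl; simp at hp; exact Nat.not_prime_one hp
  have hF : IsFrobeniusComplement H := ⟨hb, hmax.1, fun g hg => by
    by_contra hc
    have h1 : H ⊓ MulAut.conj g • H = H := by
      rcases Subgroup.eq_bot_or_eq_top_of_prime_card ((H ⊓ MulAut.conj g • H).subgroupOf H) with h | h
      · exact absurd ((Subgroup.subgroupOf_eq_bot.1 h).eq_bot_of_le inf_le_left) hc
      · exact le_antisymm inf_le_left (Subgroup.subgroupOf_eq_top.1 h)
    have h2 : g⁻¹ ∈ Subgroup.normalizer (H : Set G) := Subgroup.mem_normalizer_fintype fun x hx => by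
      have := (Subgroup.mem_inf.1 (h1.ge hx)).2
      rw [Subgroup.mem_pointwise_smul_iff_inv_smul_mem] at this
      simpa using this
    have := Subgroup.normalizer_eq_top_iff.1 (hmax.2 _ (lt_of_le_of_ne Subgroup.le_normalizer fun e =>
      hg (inv_mem_iff.1 (e ▸ h2))))
    have hcyc := isCyclic_of_prime_card (α := H) rfl
    exact hb (key H this (by have := IsCyclic.commGroup (α := H); infer_instance))⟩
  obtain ⟨K, hK, hn, hnil⟩ := S0042.result H hF
  obtain ⟨K', hK', -, hc⟩ := S0035.result H hF
  obtain rfl : K = K' := SetLike.coe_injective (hK.trans hK'.symm)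
  rw [key K hn inferInstance, Subgroup.isComplement'_bot_left] at hc
  exact hmax.1 hc

end Cfsg.Agent.S3498
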