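import Cfsg.Statements.S3504
import Mathlib

set_option autoImplicit false
open Cfsg

namespace Cfsg.Agent.S3504

open Equiv Equiv.Perm

theorem ct {n p : ℕ} (hp : p.Prime) {g : Perm (Fin n)} (h1 : orderOf g = p) (h2 : ∀ i, g i ≠ i) :
    p ∣ n ∧ g.cycleType = Multiset.replicate (n / p) p := by
  obtain ⟨k, hk⟩ := cycleType_prime_order (h1 ▸ hp)
  have s := g.sum_cycleType
  rw [Finset.eq_univ_of_forall fun i => mem_support.2 (h2 i), hk, Multiset.sum_replicate, h1, Finset.card_univ,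
    Fintype.card_fin, smul_eq_mul] at s
  exact ⟨Dvd.intro_left _ s, by rw [hk, h1, ← s, Nat.mul_div_cancel _ hp.pos]⟩

theorem ex {n p : ℕ} (hn : n ≠ 0) (hp : p.Prime) (h : p ∣ n) :
    ∃ g : Perm (Fin n), orderOf g = p ∧ ∀ i, g i ≠ i := by
  obtain ⟨k, hk⟩ := h
  obtain ⟨g, hg⟩ := (exists_with_cycleType_iff (Fin n) (m := Multiset.replicate k p)).2
    ⟨by simp [hk, mul_comm], fun a ha => Multiset.eq_of_mem_replicate ha ▸ hp.two_le⟩
  have s := g.sum_cycleType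
  rw [hg, Multiset.sum_replicate, smul_eq_mul, mul_comm, ← hk] at s
  refine ⟨g, ?_, fun i => mem_support.1 ?_⟩
  · rw [← lcm_cycleType, hg]
    refine Nat.dvd_antisymm (Multiset.lcm_dvd.2 fun a ha => Multiset.eq_of_mem_replicate ha ▸ dvd_rfl)
      (Multiset.dvd_lcm (Multiset.mem_replicate.2 ⟨?_, rfl⟩))
    rintro rfl; exact hn hk
  · rw [Finset.eq_univ_of_card _ (s.symm.trans (Fintype.card_fin n).symm)]; exact Finset.mem_univ i

/-- For n ≥ 5, the fixed-point-free permutations of prime order in the symmetric group of degree n form a single conjugacy class if and only if n is a prime power. -/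
theorem result (n : ℕ) (hn : 5 ≤ n) :
    Nat.card {c : ConjClasses (Equiv.Perm (Fin n)) // ∃ g : Equiv.Perm (Fin n), ConjClasses.mk g = c ∧ (orderOf g).Prime ∧ ∀ i : Fin n, g i ≠ i} = 1 ↔ IsPrimePow n := by
  rw [isPrimePow_iff_unique_prime_dvd, Nat.card_eq_one_iff_exists]
  constructor
  · rintro ⟨⟨c, g, rfl, g1, g2⟩, h⟩
    refine ⟨_, ⟨g1, (ct g1 rfl g2).1⟩, fun q hq => ?_⟩
    obtain ⟨k, k1, k2⟩ := ex (by omega) hq.1 hq.2
    obtain ⟨a, ha⟩ := isConj_iff.1 (ConjClasses.mk_eq_mk_iff_isConj.1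
      (congrArg Subtype.val (h ⟨_, k, rfl, k1 ▸ hq.1, k2⟩)))
    rw [← k1, ← ha, ← MulAut.conj_apply, MulEquiv.orderOf_eq]
  · rintro ⟨p, ⟨p1, p2⟩, h⟩
    obtain ⟨k, k1, k2⟩ := ex (by omega) p1 p2
    refine ⟨⟨_, k, rfl, k1 ▸ p1, k2⟩, ?_⟩
    rintro ⟨c, g, rfl, g1, g2⟩
    refine Subtype.ext (ConjClasses.mk_eq_mk_iff_isConj.2 (isConj_iff_cycleType_eq.2 ?_))
    rw [(ct p1 k1 k2).2, (ct p1 (h _ ⟨g1, (ct g1 rfl g2).1⟩) g2).2]

end Cfsg.Agent.S3504
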