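import Cfsg.Statements.S3508
import Mathlib

set_option autoImplicit false
open Cfsg

namespace Cfsg.Agent.S3508

open Polynomial

theorem lin {p : ℕ} [Fact p.Prime] {V : Type*} [AddCommGroup V] [Module (ZMod p) V] [Module.Finite (ZMod p) V]
    (φ : Module.End (ZMod p) V) {r s : ℕ} (h : φ ^ p ^ r = 1) (hs : Module.finrank (ZMod p) V < p ^ s) :
    φ ^ p ^ s = 1 ∧ ∑ i ∈ Finset.range (p ^ s), φ ^ i = 0 := by
  have e : ∀ k, (X - 1 : (ZMod p)[X]) ^ p ^ k = X ^ p ^ k - 1 := fun k => by rw [sub_pow_char_pow, one_pow]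
  have e' : ∀ k, (φ - 1) ^ p ^ k = φ ^ p ^ k - 1 := fun k => by simpa using congrArg (aeval φ) (e k)
  have n : IsNilpotent (φ - 1) := ⟨_, by rw [e', h, sub_self]⟩
  have z : (φ - 1) ^ Module.finrank (ZMod p) V = 0 := by
    have := LinearMap.aeval_self_charpoly (φ - 1)
    rwa [(LinearMap.isNilpotent_iff_charpoly _).1 n, map_pow, aeval_X] at this
  have g : ∑ i ∈ Finset.range (p ^ s), (X : (ZMod p)[X]) ^ i = (X - 1) ^ (p ^ s - 1) := by
    refine mul_right_cancel₀ (b := X - 1) (by simpa using X_sub_C_ne_zero (1 : ZMod p)) ?_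
    rw [geom_sum_mul, ← pow_succ, Nat.sub_add_cancel (by omega), e]
  refine ⟨sub_eq_zero.1 ((e' s).symm.trans (pow_eq_zero_of_le hs.le z)), ?_⟩
  have := congrArg (aeval φ) g
  simp only [map_sum, map_pow, aeval_X, map_sub, map_one] at this
  rw [this]
  exact pow_eq_zero_of_le (by omega) z

/-- Let a finite group G act faithfully on a set Ω with p ^ m points (p prime) and have an elementary abelian normal p-subgroup N acting regularly on Ω (so G is a group of affine transformations of an m-dimensional space over the field with p elements). If G contains an element of order p ^ r with r ≥ 1, then p ^ (r − 1) ≤ m. In particular an element of order p ^ m forces m ≤ 2, and m ≤ 1 when p is odd. -/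
theorem result {G : Type*} [Group G] [Finite G] {Ω : Type*} [Fintype Ω] [MulAction G Ω] [FaithfulSMul G Ω] (p m : ℕ) (hp : p.Prime) (hcard : Fintype.card Ω = p ^ m)
    (N : Subgroup G) [N.Normal] (hNc : IsMulCommutative N) (hNp : ∀ n ∈ N, n ^ p = 1)
    (hNtr : MulAction.IsPretransitive N Ω) (hNreg : ∀ ω : Ω, MulAction.stabilizer N ω = ⊥)
    (g : G) (r : ℕ) (hr : 1 ≤ r) (hg : orderOf g = p ^ r) :
    p ^ (r - 1) ≤ m ∧ (r = m → m ≤ 2 ∧ (2 < p → m ≤ 1)) := by
  haveI := Fact.mk hp
  have main : p ^ (r - 1) ≤ m := by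
    by_contra l
    letI : CommGroup N := { (inferInstance : Group N) with mul_comm := hNc.is_comm.comm }
    obtain ⟨_⟩ : Nonempty (Module (ZMod p) (Additive N)) :=
      ⟨AddCommGroup.zmodModule fun x => congrArg Additive.ofMul (Subtype.ext (hNp _ x.toMul.2))⟩
    haveI : Module.Finite (ZMod p) (Additive N) := Module.Finite.of_finite
    obtain ⟨ω⟩ : Nonempty Ω := Fintype.card_pos_iff.1 (hcard ▸ pow_pos hp.pos m)
    have c : Nat.card (Additive N) = p ^ m := by
      rw [← hcard, ← Nat.card_eq_fintype_card, ← MulAction.index_stabilizer_of_transitive N ω, hNreg, Subgroup.index_bot]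
      rfl
    have f : Module.finrank (ZMod p) (Additive N) = m := by
      rw [Module.natCard_eq_pow_finrank (K := ZMod p), Nat.card_zmod] at c
      exact Nat.pow_right_injective hp.two_le c
    let φ : Module.End (ZMod p) (Additive N) :=
      (MonoidHom.toAdditive (MulAut.conjNormal g : MulAut N).toMonoidHom).toZModLinearMap p
    have k : ∀ (j : ℕ) (x : Additive N), (((φ ^ j) x).toMul : G) = g ^ j * x.toMul * (g ^ j)⁻¹ := fun j => by
      induction j with
      | zero => simp
      | succ j ih =>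
        intro x
        rw [pow_succ', Module.End.mul_apply, pow_succ']
        show g * (((φ ^ j) x).toMul : G) * g⁻¹ = _
        rw [ih]; group
    obtain ⟨h1, h2⟩ := lin φ (r := r) (s := r - 1) (LinearMap.ext fun x => Additive.toMul.injective (Subtype.ext (by
      rw [k, ← hg, pow_orderOf_eq_one]; simp))) (by omega)
    obtain ⟨a, ha⟩ := MulAction.exists_smul_eq N ω (g • ω)
    have t : ∀ j : ℕ, g ^ j • ω = (((∑ i ∈ Finset.range j, φ ^ i) (Additive.ofMul a)).toMul : G) • ω := fun j => by
      induction j with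
      | zero => simp
      | succ j ih =>
        rw [Finset.sum_range_succ, LinearMap.add_apply, add_comm _ ((φ ^ j) _), toMul_add, Subgroup.coe_mul, k, mul_smul, ← ih, mul_smul,
          inv_smul_smul, mul_smul, pow_succ, mul_smul, ← ha]
        rfl
    have : g ^ p ^ (r - 1) = 1 := eq_of_smul_eq_smul (α := Ω) fun y => by
      obtain ⟨n, rfl⟩ := MulAction.exists_smul_eq N ω y
      have a1 := k (p ^ (r - 1)) (Additive.ofMul n)
      have a2 := t (p ^ (r - 1))
      rw [h1] at a1
      rw [h2] at a2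
      replace a1 : (n : G) * g ^ p ^ (r - 1) = g ^ p ^ (r - 1) * n := eq_mul_inv_iff_mul_eq.1 a1
      rw [one_smul, Subgroup.smul_def, ← mul_smul, ← a1, mul_smul, a2]
      simp
    have := Nat.le_of_dvd (pow_pos hp.pos _) (hg ▸ orderOf_dvd_of_pow_eq_one this)
    exact absurd this (not_le.2 (Nat.pow_lt_pow_right hp.one_lt (by omega)))
  refine ⟨main, fun e => ?_⟩
  subst e
  obtain ⟨j, rfl⟩ : ∃ j, r = j + 1 := ⟨r - 1, by omega⟩
  rw [Nat.add_sub_cancel] at main
  have b : ∀ q j : ℕ, 1 + j * q ≤ (1 + q) ^ j := fun q j => by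
    induction j with
    | zero => simp
    | succ j ih => rw [pow_succ]; nlinarith [Nat.zero_le (j * q * q)]
  refine ⟨?_, fun h => ?_⟩
  · by_contra l
    obtain ⟨i, rfl⟩ : ∃ i, j = i + 1 := ⟨j - 1, by omega⟩
    have := (Nat.pow_le_pow_left hp.two_le _).trans main
    have b' : 1 + i * 1 ≤ 2 ^ i := b 1 i
    have : i ≠ 1 := by rintro rfl; revert this; decide
    have : 1 + i * 1 ≠ 2 ^ i := fun e => by
      obtain ⟨n, rfl⟩ : ∃ n, i = n + 1 := ⟨i - 1, by omega⟩
      have b' : 1 + n * 1 ≤ 2 ^ n := b 1 n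
      rw [pow_succ] at e
      omega
    rw [pow_succ] at *
    omega
  · have := (Nat.pow_le_pow_left (show 1 + 2 ≤ p from h) _).trans main
    have := b 2 j
    omega

end Cfsg.Agent.S3508
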