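import Cfsg.Statements.S3511
import Mathlib
import Cfsg.Agent.Lib.Perm.Count

set_option autoImplicit false
open Cfsg

namespace Cfsg.Agent.S3511

open Cfsg.Agent.Perm MulAction UniqueFactorizationMonoid

/-- Let a finite group G act faithfully on a set Ω. If every element of G of square-free order has a regular cycle (an orbit of the cyclic group it generates with trivial stabilizer), then every element of G has a regular cycle. -/
theorem result {G : Type*} [Group G] [Finite G] {Ω : Type*} [MulAction G Ω] [FaithfulSMul G Ω]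
    (h : ∀ g : G, Squarefree (orderOf g) → ∃ ω : Ω, MulAction.stabilizer (Subgroup.zpowers g) ω = ⊥) (g : G) :
    ∃ ω : Ω, MulAction.stabilizer (Subgroup.zpowers g) ω = ⊥ := by
  have hn : orderOf g ≠ 0 := (orderOf_pos g).ne'
  obtain ⟨s, hs⟩ := radical_dvd_self (a := orderOf g)
  have hr : radical (orderOf g) ≠ 0 := fun e => hn (by rw [hs, e, zero_mul])
  have h1 : orderOf (g ^ s) = radical (orderOf g) := by
    have := orderOf_pow_orderOf_div hn (radical_dvd_self (a := orderOf g))
    rwa [show orderOf g / radical (orderOf g) = s from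
      Nat.div_eq_of_eq_mul_right (Nat.pos_of_ne_zero hr) hs] at this
  obtain ⟨ω, hω⟩ := h (g ^ s) (h1 ▸ squarefree_radical)
  refine ⟨ω, eq_bot_iff.2 fun x hx => ?_⟩
  by_contra hx1
  have hx1' : (x : G) ≠ 1 := fun e => hx1 (Subtype.ext e)
  obtain ⟨k, hk, hk'⟩ := exists_prime_order_pow (isOfFinOrder_of_finite (x : G)) hx1'
  obtain ⟨j, hj⟩ := (mem_powers_iff_mem_zpowers.2 (x ^ k).2)
  simp only [SubgroupClass.coe_pow] at hj
  have h2 : orderOf ((x : G) ^ k) ∣ radical (orderOf g) :=
    (dvd_radical_iff_of_irreducible hk hn).2 (by rw [← hj]; exact orderOf_pow_dvd j)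
  have h3 : orderOf g ∣ j * radical (orderOf g) := by
    rw [orderOf_dvd_iff_pow_eq_one, pow_mul, hj, ← orderOf_dvd_iff_pow_eq_one]; exact h2
  obtain ⟨t, rfl⟩ : s ∣ j := by
    nth_rewrite 1 [hs] at h3
    rw [mul_comm j] at h3
    exact (Nat.mul_dvd_mul_iff_left (Nat.pos_of_ne_zero hr)).1 h3
  have h4 : (⟨(x : G) ^ k, ⟨t, by rw [← hj, pow_mul]; simp⟩⟩ : Subgroup.zpowers (g ^ s)) ∈ stabilizer (Subgroup.zpowers (g ^ s)) ω :=
    (stabilizer (Subgroup.zpowers g) ω).pow_mem hx k
  rw [hω, Subgroup.mem_bot] at h4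
  have h5 : (x : G) ^ k = 1 := congrArg Subtype.val h4
  rw [h5, orderOf_one] at hk
  exact Nat.not_prime_one hk

end Cfsg.Agent.S3511
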