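import Cfsg.Statements.S3514
import Mathlib
import Cfsg.Agent.Lib.Perm.PG3
import Cfsg.Agent.Lib.Solv.Basic

set_option autoImplicit false
open Cfsg

namespace Cfsg.Agent.S3514

open Cfsg.Agent.Perm Cfsg.Agent.Perm.PG MulAction Equiv

theorem L {G : Type*} [Group G] [Finite G] {S L : Subgroup G} (h : S ≤ Subgroup.normalizer (L : Set G)) :
    S.relIndex (S ⊔ L) = S.relIndex L := by
  have e1 := Subgroup.relIndex_mul_relIndex (S ⊓ L) S (S ⊔ L) inf_le_left le_sup_left
  have e2 := Subgroup.relIndex_mul_relIndex (S ⊓ L) L (S ⊔ L) inf_le_right le_sup_right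
  rw [Subgroup.inf_relIndex_left] at e1
  rw [Subgroup.inf_relIndex_right, Solv.relIndex_sup_of_le_normalizer h, ← e1, mul_comm] at e2
  exact (Nat.eq_of_mul_eq_mul_left (Nat.pos_of_ne_zero Subgroup.index_ne_zero_of_finite) e2).symm

/-- Let p be a prime, V a finite vector space over the field with p elements, and H a group of linear transformations of V all of whose orbits on V have size coprime to p. (i) Every normal subgroup K of H has all its orbits on V of size coprime to p. (ii) If N is a group of linear transformations of V of order coprime to p that is normalized by H, then the group generated by N and H has all its orbits on V of size coprime to p. -/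
theorem result (p : ℕ) [Fact p.Prime] {V : Type*} [AddCommGroup V] [Module (ZMod p) V] [Finite V]
    (H : Subgroup (V ≃ₗ[ZMod p] V)) (hH : ∀ v : V, ¬ p ∣ Nat.card {u : V | ∃ h ∈ H, h v = u}) :
    (∀ K : Subgroup (V ≃ₗ[ZMod p] V), K ≤ H → H ≤ Subgroup.normalizer (K : Set (V ≃ₗ[ZMod p] V)) →
        ∀ v : V, ¬ p ∣ Nat.card {u : V | ∃ k ∈ K, k v = u}) ∧
    (∀ N : Subgroup (V ≃ₗ[ZMod p] V), ¬ p ∣ Nat.card N → H ≤ Subgroup.normalizer (N : Set (V ≃ₗ[ZMod p] V)) →
        ∀ v : V, ¬ p ∣ Nat.card {u : V | ∃ x ∈ N ⊔ H, x v = u}) := by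
  have hf : Finite (V ≃ₗ[ZMod p] V) := Finite.of_injective _ DFunLike.coe_injective
  have key : ∀ (K : Subgroup (V ≃ₗ[ZMod p] V)) v, Nat.card {u : V | ∃ h ∈ K, h v = u} =
      (stabilizer (V ≃ₗ[ZMod p] V) v).relIndex K := by
    intro K v
    rw [show (stabilizer (V ≃ₗ[ZMod p] V) v).relIndex K = (stabilizer K v).index from rfl, ← card_orbit_eq_index]
    congr 2
    ext u
    exact ⟨fun ⟨h, h1, h2⟩ => ⟨⟨h, h1⟩, h2⟩, fun ⟨h, h2⟩ => ⟨h, h.2, h2⟩⟩
  simp only [key] at *
  refine ⟨fun K hK hn v h => hH v (h.trans ?_), fun N hN hn v h => ?_⟩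
  · rw [← Subgroup.inf_relIndex_right _ H, ← Subgroup.relIndex_mul_relIndex _ ((stabilizer _ v ⊓ H) ⊔ K) H le_sup_left
      (sup_le inf_le_right hK), L (inf_le_right.trans hn), ← Subgroup.inf_relIndex_right (_ ⊓ _) K, inf_assoc,
      inf_eq_right.2 hK, Subgroup.inf_relIndex_right]
    exact dvd_mul_right _ _
  · have h1 := h.trans (Subgroup.relIndex_dvd_of_le_left (N ⊔ H) (inf_le_left (a := stabilizer _ v) (b := H)))
    rw [← Subgroup.relIndex_mul_relIndex _ H _ inf_le_right le_sup_right, Subgroup.inf_relIndex_right] at h1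
    rcases (Nat.Prime.dvd_mul Fact.out).1 h1 with h2 | h2
    · exact hH v h2
    · rw [sup_comm, L hn] at h2
      exact hN (h2.trans (Subgroup.index_dvd_card _))

end Cfsg.Agent.S3514
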