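import Cfsg.Statements.S3515
import Cfsg.Agent.Lib.PU.Af1

set_option autoImplicit false
open Cfsg

namespace Cfsg.Agent.S3515

/-- Every primitive affine permutation group of degree p² is 3-closed. Let p be a prime and G a group of permutations of the plane V = F_p² consisting of affine maps x ↦ Ax + b, containing all translations, and acting primitively on V. Then any permutation σ of V that agrees on every triple of points with some element of G (σ preserves every G-orbit on ordered triples) already lies in G. -/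
theorem key : (∀ x : Fin 2 → ZMod 2, x = 0 ∨ x = Pi.single 0 1 ∨ x = Pi.single 1 1 ∨ x = 1) ∧
    (0 : Fin 2 → ZMod 2) ≠ 1 ∧ (Pi.single 0 1 : Fin 2 → ZMod 2) ≠ 1 ∧ (Pi.single 1 1 : Fin 2 → ZMod 2) ≠ 1 := by
  decide

theorem result (p : ℕ) [Fact p.Prime] (G : Subgroup (Equiv.Perm (Fin 2 → ZMod p)))
    (haff : (G : Set (Equiv.Perm (Fin 2 → ZMod p))) ⊆ {τ : Equiv.Perm (Fin 2 → ZMod p) | ∃ (A : (Fin 2 → ZMod p) ≃ₗ[ZMod p] (Fin 2 → ZMod p)) (b : Fin 2 → ZMod p), ∀ x, τ x = A x + b})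
    (htrans : ∀ b : Fin 2 → ZMod p, ∃ g ∈ G, ∀ x, g x = x + b) (hprim : MulAction.IsPreprimitive G (Fin 2 → ZMod p))
    (σ : Equiv.Perm (Fin 2 → ZMod p)) (hσ : (∀ t : Fin 3 → (Fin 2 → ZMod p), ∃ g ∈ G, ∀ i, σ (t i) = g (t i))) : σ ∈ G := by
  obtain ⟨g, hg, ht⟩ := hσ ![0, Pi.single 0 1, Pi.single 1 1]
  have h0 : σ 0 = g 0 := ht 0
  have h1 : σ (Pi.single 0 1) = g (Pi.single 0 1) := ht 1
  have h3 : σ (Pi.single 1 1) = g (Pi.single 1 1) := ht 2
  suffices σ = g by rwa [this]
  by_cases hp : p = 2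
  · subst hp
    obtain ⟨key, k0, k1, k3⟩ := key
    have h4 : σ 1 = g 1 := by
      obtain ⟨y, hy⟩ := g.surjective (σ 1)
      rcases key y with rfl | rfl | rfl | rfl
      · rw [← h0] at hy; exact absurd (σ.injective hy) k0
      · rw [← h1] at hy; exact absurd (σ.injective hy) k1
      · rw [← h3] at hy; exact absurd (σ.injective hy) k3
      · exact hy.symm
    ext1 x
    rcases key x with rfl | rfl | rfl | rfl <;> assumption
  have h2 : (2 : ZMod p) ≠ 0 := by
    intro h
    have : ((2 : ℕ) : ZMod p) = 0 := by exact_mod_cast h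
    rw [ZMod.natCast_eq_zero_iff] at this
    exact hp ((Nat.prime_dvd_prime_iff_eq Fact.out Nat.prime_two).1 this)
  obtain ⟨A, b, hA⟩ := PU.Af.affine_of_three h2 σ fun t => by
    obtain ⟨g, hg, ht⟩ := hσ t
    obtain ⟨A, b, hA⟩ := haff hg
    exact ⟨A, b, fun i => by rw [ht, hA]⟩
  obtain ⟨B, c, hB⟩ := haff hg
  rw [hA, hB] at h0 h1 h3
  have hb : b = c := by simpa using h0
  subst hb
  have hx : ∀ x : Fin 2 → ZMod p, x = x 0 • (Pi.single 0 1 : Fin 2 → ZMod p) + x 1 • (Pi.single 1 1 : Fin 2 → ZMod p) := by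
    intro x; ext i; fin_cases i <;> simp
  ext1 x
  rw [hA, hB, hx x, map_add, map_add, map_smul, map_smul, map_smul, map_smul, add_right_cancel h1, add_right_cancel h3]

end Cfsg.Agent.S3515
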