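import Cfsg.Statements.S3518
import Mathlib
import Cfsg.Agent.Lib.Perm.Mod3

set_option autoImplicit false
open Cfsg

namespace Cfsg.Agent.S3518

open MulAction Subgroup Cfsg.Agent.Perm Cfsg.Agent.Perm.Md

theorem aff_ext {p : ℕ} {σ g : Equiv.Perm (ZMod p)} {a b c d : ZMod p} (h1 : ∀ x, σ x = a * x + b)
    (h2 : ∀ x, g x = c * x + d) (h3 : σ 0 = g 0) (h4 : σ 1 = g 1) : σ = g := by
  simp only [h1, h2] at h3 h4
  ext x; rw [h1, h2]; linear_combination x * h4 + (1 - x) * h3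

/-- Closures of subgroups of the one-dimensional affine group. Let p be a prime and G a group of permutations of F_p lying in the affine group AGL₁(p) = {x ↦ ax + b, a ≠ 0} and containing all translations. (1) If G is a proper subgroup of AGL₁(p), then G is 2-closed: a permutation of F_p agreeing on every ordered pair of points with some element of G lies in G. (2) Every permutation of F_p agrees on every ordered pair with some element of AGL₁(p) (the 2-closure of AGL₁(p) is the symmetric group). (3) AGL₁(p) is 3-closed: a permutation agreeing on every ordered triple with some affine map is affine. -/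
theorem result (p : ℕ) [Fact p.Prime] (G : Subgroup (Equiv.Perm (ZMod p))) (hG : G ≤ Cfsg.affineGroup (ZMod p))
    (htrans : ∀ b : ZMod p, ∃ g ∈ G, ∀ x, g x = x + b) :
    (G ≠ Cfsg.affineGroup (ZMod p) → ∀ σ : Equiv.Perm (ZMod p), (∀ t : Fin 2 → ZMod p, ∃ g ∈ G, ∀ i, σ (t i) = g (t i)) → σ ∈ G) ∧
    (∀ σ : Equiv.Perm (ZMod p), (∀ t : Fin 2 → ZMod p, ∃ g ∈ Cfsg.affineGroup (ZMod p), ∀ i, σ (t i) = g (t i))) ∧
    (∀ σ : Equiv.Perm (ZMod p), (∀ t : Fin 3 → ZMod p, ∃ g ∈ Cfsg.affineGroup (ZMod p), ∀ i, σ (t i) = g (t i)) → σ ∈ Cfsg.affineGroup (ZMod p)) := by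
  refine ⟨fun hne σ hσ => ?_, fun σ t => ?_, fun σ hσ => ?_⟩
  · let C : Subgroup (Equiv.Perm (ZMod p)) :=
      { carrier := {σ | ∀ x y, ∃ g ∈ G, σ x = g x ∧ σ y = g y}
        one_mem' := fun x y => ⟨1, G.one_mem, rfl, rfl⟩
        mul_mem' := fun {σ τ} hσ hτ x y => by
          obtain ⟨g, hg, h1, h2⟩ := hτ x y
          obtain ⟨k, hk, h3, h4⟩ := hσ (τ x) (τ y)
          exact ⟨k * g, G.mul_mem hk hg, by simp [h3, ← h1], by simp [h4, ← h2]⟩
        inv_mem' := fun {σ} hσ x y => by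
          obtain ⟨g, hg, h1, h2⟩ := hσ (σ⁻¹ x) (σ⁻¹ y)
          exact ⟨g⁻¹, G.inv_mem hg, Equiv.Perm.eq_inv_iff_eq.2 (by simpa using h1.symm),
            Equiv.Perm.eq_inv_iff_eq.2 (by simpa using h2.symm)⟩ }
    have h1 : σ ∈ C := fun x y => by
      obtain ⟨g, hg, h⟩ := hσ ![x, y]
      exact ⟨g, hg, h 0, h 1⟩
    obtain ⟨τ, hτ, h2⟩ := htrans 1
    rcases aff_or_two (G := C) (e := Equiv.refl _) (τ := ⟨τ, fun _ _ => ⟨τ, hτ, rfl, rfl⟩⟩) h2 with h | h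
    · obtain ⟨a, b, h⟩ := h ⟨σ, h1⟩
      obtain ⟨g, hg, h3, h4⟩ := h1 0 1
      obtain ⟨c, d, h5⟩ := hG hg
      exact aff_ext (σ := σ) h h5 h3 h4 ▸ hg
    refine (hne (le_antisymm hG fun ρ ⟨a, b, hρ⟩ => ?_)).elim
    obtain ⟨k, h3, h4⟩ := two_trans_iff.1 h 0 1 (ρ 0) (ρ 1) zero_ne_one (ρ.injective.ne zero_ne_one)
    obtain ⟨g, hg, h5, h6⟩ := k.2 0 1
    obtain ⟨c, d, h7⟩ := hG hg
    exact aff_ext hρ h7 (h3.symm.trans h5) (h4.symm.trans h6) ▸ hg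
  · have h : ∀ (a : (ZMod p)ˣ) (b : ZMod p), ∃ g ∈ affineGroup (ZMod p), ∀ x, g x = a * x + b :=
      fun a b => ⟨a.mulLeft.trans (Equiv.addRight b), ⟨a, b, fun _ => rfl⟩, fun _ => rfl⟩
    by_cases h0 : t 0 = t 1
    · obtain ⟨g, hg, h1⟩ := h 1 (σ (t 0) - t 0)
      exact ⟨g, hg, Fin.forall_fin_two.2 ⟨by simp [h1], by simp [h1, h0]⟩⟩
    · have h2 := sub_ne_zero.2 h0
      obtain ⟨g, hg, h1⟩ := h (Units.mk0 _ (div_ne_zero (sub_ne_zero.2 (σ.injective.ne h0)) h2))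
        (σ (t 0) - (σ (t 0) - σ (t 1)) / (t 0 - t 1) * t 0)
      exact ⟨g, hg, Fin.forall_fin_two.2 ⟨by simp [h1], by simp only [h1, Units.val_mk0]; field_simp; ring⟩⟩
  · obtain ⟨g, ⟨a, b, hg⟩, h⟩ := hσ ![0, 1, 0]
    refine ⟨a, b, fun x => ?_⟩
    obtain ⟨k, ⟨c, d, hk⟩, h1⟩ := hσ ![0, 1, x]
    rw [← hg, aff_ext hg hk ((h 0).symm.trans (h1 0)) ((h 1).symm.trans (h1 1))]
    exact h1 2

end Cfsg.Agent.S3518
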