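import Cfsg.Statements.S3520
import Cfsg.Agent.Lib.BG.ONS

set_option autoImplicit false
open Cfsg

namespace Cfsg.Agent.S3520

/-- Let a finite group G act faithfully and primitively on a finite set Ω with at least two points, suppose G is not almost simple (no non-abelian simple normal subgroup with trivial centralizer), and suppose the derangements of G form exactly two conjugacy classes. Then either Ω has 3 points and G has order 3; or G has a non-trivial abelian normal subgroup N acting regularly, every non-identity element of G fixes at most one point (so, when n > 3, G is a Frobenius group with kernel N), the number n of points is odd and a point stabilizer has order (n − 1)/2; or G is 2-transitive with a non-trivial abelian regular normal subgroup and some non-identity element fixes at least two points (a non-Frobenius 2-transitive affine group). -/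
theorem result {G : Type*} [Group G] [Finite G] {Ω : Type*} [Fintype Ω] [MulAction G Ω] [FaithfulSMul G Ω] (hΩ : 2 ≤ Fintype.card Ω) (hprim : MulAction.IsPreprimitive G Ω) (hnas : ¬ ∃ T : Subgroup G, T.Normal ∧ IsSimpleGroup T ∧ ¬ IsMulCommutative T ∧ Subgroup.centralizer (T : Set G) = ⊥)
    (hκ : Nat.card {c : ConjClasses G // ∃ g : G, ConjClasses.mk g = c ∧ ∀ ω : Ω, g • ω ≠ ω} = 2) (α : Ω) :
    (Fintype.card Ω = 3 ∧ Nat.card G = 3) ∨
    ((∃ N : Subgroup G, N.Normal ∧ N ≠ ⊥ ∧ IsMulCommutative N ∧ ∀ ω : Ω, MulAction.stabilizer N ω = ⊥) ∧ (∀ g : G, g ≠ 1 → Nat.card (MulAction.fixedBy Ω g) ≤ 1) ∧ ¬ 2 ∣ Fintype.card Ω ∧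
        2 * Nat.card (MulAction.stabilizer G α) = Fintype.card Ω - 1) ∨
    ((∃ N : Subgroup G, N.Normal ∧ N ≠ ⊥ ∧ IsMulCommutative N ∧ ∀ ω : Ω, MulAction.stabilizer N ω = ⊥) ∧ MulAction.IsMultiplyPretransitive G Ω 2 ∧ ∃ g : G, g ≠ 1 ∧ 2 ≤ Nat.card (MulAction.fixedBy Ω g)) := by
  open Pointwise commutatorElement Subgroup in
  open Cfsg.Agent.Comp Cfsg.Agent.BG Subgroup commutatorElement MulAction in
  haveI : Nontrivial Ω := Fintype.one_lt_card_iff_nontrivial.1 hΩ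
  obtain ⟨⟨_, a, rfl, ha⟩, ⟨_, b, rfl, hb⟩, hab, hu⟩ := Nat.card_eq_two_iff.1 hκ
  have hab : ¬ IsConj a b := fun e => hab (Subtype.ext (ConjClasses.mk_eq_mk_iff_isConj.2 e))
  have hc : ∀ x : G, (∀ ω : Ω, x • ω ≠ ω) → IsConj a x ∨ IsConj b x := fun x hx =>
    (hu.ge (Set.mem_univ ⟨_, x, rfl, hx⟩)).imp
      (fun e => ConjClasses.mk_eq_mk_iff_isConj.1 (congrArg Subtype.val e).symm)
      (fun e => ConjClasses.mk_eq_mk_iff_isConj.1 (congrArg Subtype.val e).symm)
  obtain ⟨N, r, e, hr, _, h0, h1, h2, h3⟩ | ⟨h1, hF, L, hL⟩ := EP.ons (G := G) α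
  swap
  · obtain ⟨x, y, z, hx, hy, hz, e1, e2, e3⟩ := EP.three_der h1 hF hL fun e =>
      hnas ⟨L, e.1, (EP.simple_L hF hL).1, (EP.simple_L hF hL).2, e.2⟩
    rcases hc x hx with f1 | f1 <;> rcases hc y hy with f2 | f2 <;> rcases hc z hz with f3 | f3 <;>
    first | exact (e1 (f1.symm.trans f2)).elim | exact (e2 (f1.symm.trans f3)).elim | exact (e3 (f2.symm.trans f3)).elim
  have hN : ∃ N : Subgroup G, N.Normal ∧ N ≠ ⊥ ∧ IsMulCommutative N ∧ ∀ ω : Ω, stabilizer N ω = ⊥ :=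
    ⟨N, ‹_›, h0, h1.elem.1, fun ω => EP.stab_bot (h3 ω)⟩
  have nc : ∀ x ∈ N, ∀ y ∈ N, x * y = y * x := fun x hx y hy => mem_Ct.1 (comm_iff_le.1 h1.elem.1 hy) x hx
  have d : ∀ n ∈ N, n ≠ 1 → ∀ ω : Ω, n • ω ≠ ω := fun n hn e ω f => e ((eq_bot_iff_forall _).1 (h3 ω) n (mem_inf.2 ⟨hn, f⟩))
  have dec : ∀ g : G, ∃ n ∈ N, ∃ h ∈ stabilizer G α, n * h = g := fun g => mem_sup_of_normal_left.1 (h2.ge (mem_top g))
  have cjN : ∀ x y : G, IsConj x y → x ∈ N → ∃ h ∈ stabilizer G α, h * x * h⁻¹ = y := fun x y e hx => by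
    obtain ⟨g, rfl⟩ := isConj_iff.1 e
    obtain ⟨n, hn, h, hh, rfl⟩ := dec g
    refine ⟨h, hh, ?_⟩
    rw [mul_inv_rev, mul_assoc n, mul_assoc n, ← mul_assoc (h * x), ← mul_assoc n, nc n hn _ (Normal.conj_mem ‹_› x hx h),
      mul_inv_cancel_right]
  have trn : ∀ ω ω' : Ω, ∃ n ∈ N, n • ω = ω' := fun ω ω' =>
    let ⟨n, hn⟩ := (EP.pretrans h2).exists_smul_eq ω ω'; ⟨n, n.2, hn⟩
  by_cases hD : ∀ x : G, (∀ ω : Ω, x • ω ≠ ω) → x ∈ N
  · have fp : ∀ h ∈ stabilizer G α, h ≠ 1 → N ⊓ C1(h) = ⊥ := fun h hh e => by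
      have hn : h ∉ N := fun f => d h f e α hh
      let φ : N → N := fun m => ⟨m * h * m⁻¹ * h⁻¹, by
        rw [mul_assoc, mul_assoc, ← mul_assoc h]; exact mul_mem m.2 (Normal.conj_mem ‹_› _ (inv_mem m.2) h)⟩
      have s : Function.Surjective φ := fun n => by
        obtain ⟨ω, hω⟩ : ∃ ω : Ω, (n * h) • ω = ω := by
          by_contra f
          push Not at f
          exact hn ((mul_mem_cancel_left n.2).1 (hD _ f))
        obtain ⟨m, hm, rfl⟩ := trn α ω
        refine ⟨⟨m, hm⟩, Subtype.ext ?_⟩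
        have := (eq_bot_iff_forall _).1 (h3 α) (m⁻¹ * (n * h) * m * h⁻¹) (mem_inf.2 ⟨by
          rw [mul_assoc, mul_assoc, mul_assoc, ← mul_assoc h]
          exact mul_mem (inv_mem hm) (mul_mem n.2 (Normal.conj_mem ‹_› _ hm h)), mul_mem (by
            rw [mem_stabilizer_iff, mul_smul, mul_smul, hω, inv_smul_smul]) (inv_mem hh)⟩)
        rw [mul_inv_eq_one] at this
        show m * h * m⁻¹ * h⁻¹ = n
        rw [mul_inv_eq_iff_eq_mul]
        conv_lhs => rw [← this]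
        group
      refine Solv.fpf_iff.2 fun k hk f => congrArg Subtype.val (Finite.injective_iff_surjective.2 s
        (show φ ⟨k, hk⟩ = φ 1 from Subtype.ext ?_))
      simp [φ, ← f]
    have fx : ∀ h ∈ stabilizer G α, h ≠ 1 → ∀ ω : Ω, h • ω = ω → ω = α := fun h hh e ω f => by
      obtain ⟨m, hm, rfl⟩ := trn α ω
      have := (eq_bot_iff_forall _).1 (h3 α) (m⁻¹ * (h * m * h⁻¹)) (mem_inf.2 ⟨mul_mem (inv_mem hm)
        (Normal.conj_mem ‹_› _ hm h), by
          rw [mem_stabilizer_iff, mul_smul, mul_smul, mul_smul, show h⁻¹ • α = α from inv_mem hh, f, inv_smul_smul]⟩)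
      rw [inv_mul_eq_one, eq_mul_inv_iff_mul_eq] at this
      rw [Solv.fpf_iff.1 (fp h hh e) m hm this.symm, one_smul]
    have a1 : a ≠ 1 := fun e => ha α (by rw [e, one_smul])
    have b1 : b ≠ 1 := fun e => hb α (by rw [e, one_smul])
    have inj : ∀ x ∈ N, x ≠ 1 → ∀ h h' : stabilizer G α, (h : G) * x * (h : G)⁻¹ = h' * x * (h' : G)⁻¹ → h = h' :=
      fun x hx e h h' f => by
        by_contra g
        refine e (Solv.fpf_iff.1 (fp ((h' : G)⁻¹ * h) (mul_mem (inv_mem h'.2) h.2)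
          fun k => g (Subtype.ext (inv_mul_eq_one.1 k).symm)) x hx ?_)
        calc _ = (h' : G)⁻¹ * (h * x * (h : G)⁻¹) * h := by group
          _ = _ := by rw [f]; group
    let ψ : stabilizer G α ⊕ stabilizer G α → {x : N // x ≠ 1} := Sum.elim
      (fun h => ⟨⟨h * a * (h : G)⁻¹, Normal.conj_mem ‹_› _ (hD a ha) _⟩, fun e => a1 (by simpa using e)⟩)
      (fun h => ⟨⟨h * b * (h : G)⁻¹, Normal.conj_mem ‹_› _ (hD b hb) _⟩, fun e => b1 (by simpa using e)⟩)
    have bij : Function.Bijective ψ := by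
      refine ⟨?_, fun x => ?_⟩
      · rintro (h | h) (h' | h') f <;> have f := congrArg (fun x => (x.1 : G)) f
        · exact congrArg _ (inj a (hD a ha) a1 h h' f)
        · exact (hab ((isConj_iff.2 ⟨_, f⟩).trans (isConj_iff.2 ⟨_, rfl⟩).symm)).elim
        · exact (hab ((isConj_iff.2 ⟨_, f.symm⟩).trans (isConj_iff.2 ⟨_, rfl⟩).symm)).elim
        · exact congrArg _ (inj b (hD b hb) b1 h h' f)
      · obtain f | f := hc x.1 (d _ x.1.2 fun e => x.2 (Subtype.ext e))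
        · obtain ⟨h, hh, f⟩ := cjN _ _ f (hD a ha)
          exact ⟨Sum.inl ⟨h, hh⟩, Subtype.ext (Subtype.ext f)⟩
        · obtain ⟨h, hh, f⟩ := cjN _ _ f (hD b hb)
          exact ⟨Sum.inr ⟨h, hh⟩, Subtype.ext (Subtype.ext f)⟩
    have c1 := Nat.card_congr (Equiv.ofBijective ψ bij)
    classical
    have c2 := Nat.card_congr (Equiv.optionSubtypeNe (1 : N))
    rw [Finite.card_option, ← c1, Nat.card_sum, ← EP.index_eq h2 (h3 α), index_stabilizer_of_transitive,
      Nat.card_eq_fintype_card (α := Ω)] at c2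
    refine Or.inr (Or.inl ⟨hN, fun g hg => Finite.card_le_one_iff_subsingleton.2 ⟨fun x y => Subtype.ext ?_⟩,
      by omega, by omega⟩)
    obtain ⟨m, hm, f⟩ := trn α x
    have g1 : m⁻¹ * g * m ∈ stabilizer G α := by rw [mem_stabilizer_iff, mul_smul, mul_smul, f, x.2, ← f, inv_smul_smul]
    have := fx _ g1 (fun e => hg (by simpa [mul_assoc, inv_mul_eq_one] using e)) (m⁻¹ • y.1)
      (by rw [mul_smul, smul_inv_smul, mul_smul, y.2])
    rw [← f, ← this, smul_inv_smul]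
  push Not at hD
  obtain ⟨g, g1, g2⟩ := hD
  have cN : ∀ x y : G, IsConj x y → (x ∈ N ↔ y ∈ N) := fun x y e => by
    obtain ⟨c, rfl⟩ := isConj_iff.1 e
    exact mem_normalizer_iff.1 (le_normalizer_of_normal (mem_top c)) x
  have one : ∀ x ∈ N, x ≠ 1 → ∀ y ∈ N, y ≠ 1 → IsConj x y := fun x hx e y hy f => by
    rcases hc x (d x hx e) with f1 | f1 <;> rcases hc y (d y hy f) with f2 | f2 <;> rcases hc g g1 with f3 | f3 <;>
    first | exact f1.symm.trans f2 | exact (g2 ((cN _ _ (f1.symm.trans f3)).1 hx)).elim | exact (g2 ((cN _ _ (f2.symm.trans f3)).1 hy)).elim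
  refine Or.inr (Or.inr ⟨hN, is_two_pretransitive_iff.2 fun {x y z w} e f => ?_, ?_⟩)
  · obtain ⟨m, hm, rfl⟩ := trn α x
    obtain ⟨n, hn, rfl⟩ := trn α z
    obtain ⟨u, hu, rfl⟩ := trn (m • α) y
    obtain ⟨v, hv, rfl⟩ := trn (n • α) w
    obtain ⟨h, hh, k⟩ := cjN _ _ (one u hu (fun k => e (by rw [k, one_smul])) v hv (fun k => f (by rw [k, one_smul]))) hu
    refine ⟨n * h * m⁻¹, by rw [mul_smul, inv_smul_smul, mul_smul, hh], ?_⟩
    rw [smul_smul u, nc u hu m hm, mul_smul m, mul_smul, inv_smul_smul, smul_smul v, nc v hv n hn, mul_smul n, mul_smul n, ← k,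
      mul_smul, mul_smul, show h⁻¹ • α = α from inv_mem hh]
  · obtain ⟨n, hn, h, hh, rfl⟩ := dec g
    have h4 : h ≠ 1 := fun e => g2 (by rwa [e, mul_one])
    refine ⟨h, h4, by_contra fun e => ?_⟩
    obtain ⟨x, hx, f⟩ := Solv.exists_conj_eq_mul_of_fpf (K := N) (le_normalizer_of_normal (mem_top h))
      (Solv.fpf_iff.2 fun k hk f => by_contra fun k1 => e (Finite.one_lt_card_iff_nontrivial.2
        ⟨⟨⟨α, hh⟩, ⟨k • α, by rw [mem_fixedBy, smul_smul, f, mul_smul, hh]⟩, fun l => d k hk k1 α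
          (congrArg Subtype.val l).symm⟩⟩)) hn
    exact g1 (x • α) (by rw [← f, mul_smul, inv_smul_smul, mul_smul, hh])

end Cfsg.Agent.S3520
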