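import Cfsg.Statements.S3521
import Cfsg.Agent.Lib.BG.ExtAff

set_option autoImplicit false
open Cfsg

namespace Cfsg.Agent.S3521

/-- Let a finite group G that is not solvable act faithfully and primitively on a finite set with p ^ d points (p prime), with a non-trivial abelian normal subgroup acting regularly (affine type) and with non-trivial point stabilizers each acting primitively on every one of its orbits (an insoluble extremely primitive group of affine type). Then p = 2; and if moreover G is not 2-transitive, then a point stabilizer is almost simple (it has a non-abelian simple normal subgroup with trivial centralizer). -/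
theorem result {G : Type*} [Group G] [Finite G] {Ω : Type*} [Fintype Ω] [MulAction G Ω] [FaithfulSMul G Ω] (p d : ℕ) (hp : p.Prime) (hcard : Fintype.card Ω = p ^ d) (hsol : ¬ Group.IsSolvable G)
    (N : Subgroup G) [N.Normal] (hN : N ≠ ⊥) (hNc : IsMulCommutative N) (hNreg : ∀ ω : Ω, MulAction.stabilizer N ω = ⊥)
    (hprim : MulAction.IsPreprimitive G Ω) (hH : ∀ α : Ω, MulAction.stabilizer G α ≠ ⊥) (hep : ∀ (α : Ω) (ω : Ω), MulAction.IsPreprimitive (MulAction.stabilizer G α) (MulAction.orbit (MulAction.stabilizer G α) ω)) (α : Ω) :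
    p = 2 ∧ (¬ MulAction.IsMultiplyPretransitive G Ω 2 → ∃ T : Subgroup (MulAction.stabilizer G α), T.Normal ∧ IsSimpleGroup T ∧ ¬ IsMulCommutative T ∧ Subgroup.centralizer (T : Set (MulAction.stabilizer G α)) = ⊥) := by
  open Pointwise commutatorElement Subgroup in
  open Cfsg.Agent.Comp Cfsg.Agent.BG Subgroup commutatorElement MulAction in
  have h1 := hH α
  letI iC : CommGroup N := { (inferInstance : Group N) with mul_comm := hNc.is_comm.comm }
  letI iA : MulDistribMulAction (stabilizer G α) N :=
    MulDistribMulAction.compHom N ((MulAut.conjNormal (H := N)).comp (stabilizer G α).subtype)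
  haveI := (nontrivial_iff_ne_bot N).2 hN
  have r : ∀ n ∈ N, n • α = α → n = 1 := fun n hn e =>
    congrArg Subtype.val ((eq_bot_iff_forall _).1 (hNreg α) ⟨n, hn⟩ e)
  have hs : ¬ Group.IsSolvable (stabilizer G α) := fun h => hsol (Solv.isSolvable_of_normal_of_quotient N
    (Solv.isSolvable_of_isMulCommutative hNc) (Group.isSolvable_of_surjective
      (f := (QuotientGroup.mk' N).comp (stabilizer G α).subtype) fun x => by
        obtain ⟨g, rfl⟩ := QuotientGroup.mk'_surjective N x
        obtain ⟨n, hn, a, ha, rfl⟩ := EP.tr h1 hN g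
        exact ⟨⟨a, ha⟩, by simp [(QuotientGroup.eq_one_iff n).2 hn]⟩))
  have hv : ∀ v : N, v ≠ 1 → IsCoatom (stabilizer (stabilizer G α) v) ∧ (stabilizer (stabilizer G α) v).normalCore = ⊥ := fun v h => by
    have hω : (v : G) • α ≠ α := fun e => h (Subtype.ext (r v v.2 e))
    have : stabilizer (stabilizer G α) v = (stabilizer G ((v : G) • α)).subgroupOf (stabilizer G α) := by
      ext a
      have ha : (a : G)⁻¹ • α = α := (inv_mem a.2 : _ ∈ stabilizer G α)
      have k : ((a : G) * v * (a : G)⁻¹) • α = (a : G) • (v : G) • α := by rw [mul_smul, mul_smul, ha]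
      show a • v = v ↔ (a : G) • (v : G) • α = (v : G) • α
      rw [Subtype.ext_iff, ← k]
      show (a : G) * v * (a : G)⁻¹ = v ↔ _
      refine ⟨fun e => by rw [e], fun e => ?_⟩
      rw [← inv_smul_eq_iff, smul_smul] at e
      exact (inv_mul_eq_one.1 (r _ (mul_mem (inv_mem v.2) (Normal.conj_mem ‹_› _ v.2 _)) e)).symm
    rw [this]
    exact ⟨EP.coatom hep (EP.not_le hω h1), EP.core hep hω h1⟩
  refine ⟨?_, fun _ => ?_⟩
  · obtain ⟨v, h⟩ := exists_ne (1 : N)
    have a1 : orderOf v = 2 := orderOf_eq_prime (by rw [sq, EP.sq_one hs hv]) h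
    have a2 := EP.index_eq (F := N) (U := stabilizer G α) (eq_top_iff.2 fun g _ => by
      obtain ⟨n, hn, a, ha, rfl⟩ := EP.tr h1 hN g
      exact mul_mem (mem_sup_left hn) (mem_sup_right ha))
      ((eq_bot_iff_forall _).2 fun x hx => r x (mem_inf.1 hx).1 (mem_inf.1 hx).2)
    have a3 := orderOf_dvd_natCard v
    rw [a1, ← a2, index_stabilizer_of_transitive, Nat.card_eq_fintype_card, hcard] at a3
    exact ((Nat.prime_dvd_prime_iff_eq Nat.prime_two hp).1 (Nat.prime_two.dvd_of_dvd_pow a3)).symm
  · have hF := EP.fit_bot hs hv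
    obtain ⟨L, hL⟩ : ∃ L : Subgroup (stabilizer G α), CompIn L ⊤ := by
      by_contra e
      push Not at e
      have k : (⊤ : Subgroup (stabilizer G α)) = ⊥ := eq_bot_of_Fstar_eq_bot (by rw [Fstar, Lay_eq_bot_iff.2 e, hF, sup_idem])
      haveI := (nontrivial_iff_ne_bot _).2 h1
      exact top_ne_bot k
    obtain ⟨h2, h3⟩ := EP.almost' hs hv hL
    obtain ⟨v, h⟩ := exists_ne (1 : N)
    obtain ⟨Ω', _, _, _, _, β, -⟩ := EP.via (hv v h).1 (hv v h).2
    obtain ⟨h4, h5⟩ := EP.simple_L hF hL
    exact ⟨L, h2, h4, h5, h3⟩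

end Cfsg.Agent.S3521
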