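import Cfsg.Statements.S3546
import Mathlib
import Cfsg.Agent.Lib.Perm.Count

set_option autoImplicit false
open Cfsg

namespace Cfsg.Agent.S3546

open Cfsg.Agent.Perm MulAction

theorem key {G Ω : Type*} [Group G] [Finite G] [MulAction G Ω] [Finite Ω]
    (htrans : MulAction.IsPretransitive G Ω) (D : Subgroup G)
    (hD : ∀ g : G, (∀ ω : Ω, g • ω ≠ ω) → g ∈ D) :
    IsPretransitive D Ω ∧ ∀ g : G, g ∉ D → Nat.card (fixedBy Ω g) = 1 := by
  classical
  have := Fintype.ofFinite G
  by_cases hne : Nonempty Ω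
  swap
  · rw [not_nonempty_iff] at hne
    exact ⟨⟨fun x => isEmptyElim x⟩, fun g hg => absurd (hD g fun x => isEmptyElim x) hg⟩
  have h1 := sum_card_fixedBy_trans (G := G) (α := Ω)
  have h2 := sum_card_fixedBy (G := D) (α := Ω)
  rw [← Finset.sum_filter_add_sum_filter_not Finset.univ (· ∈ D)] at h1
  have h3 : ∑ g ∈ Finset.univ.filter (· ∈ D), Nat.card (fixedBy Ω g) = ∑ g : D, Nat.card (fixedBy Ω g) :=
    Finset.sum_subtype _ (by simp) _
  have h4 : ∀ g ∈ Finset.univ.filter (¬ · ∈ D), 1 ≤ Nat.card (fixedBy Ω g) := by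
    intro g hg
    simp only [Finset.mem_filter, Finset.mem_univ, true_and] at hg
    obtain ⟨a, ha⟩ : ∃ a : Ω, g • a = a := by
      by_contra h
      push Not at h
      exact hg (hD g h)
    have : Nonempty (fixedBy Ω g) := ⟨⟨a, ha⟩⟩
    exact Nat.card_pos
  have h5 := Finset.sum_le_sum h4
  have h6 : (Finset.univ.filter (· ∈ D)).card + (Finset.univ.filter (¬ · ∈ D)).card = Nat.card G := by
    rw [Finset.card_filter_add_card_filter_not, Finset.card_univ, Nat.card_eq_fintype_card]
  have h7 : (Finset.univ.filter (· ∈ D)).card = Nat.card D := by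
    rw [Nat.card_eq_fintype_card, Fintype.card_subtype]
  have : Nonempty (orbitRel.Quotient D Ω) := ⟨Quotient.mk'' hne.some⟩
  have h8 : 0 < Nat.card (orbitRel.Quotient D Ω) := Nat.card_pos
  have h9 : 0 < Nat.card D := Nat.card_pos
  simp only [Finset.sum_const, smul_eq_mul, mul_one] at h5
  rw [h3, h2] at h1
  have h10 : Nat.card (orbitRel.Quotient D Ω) = 1 := by nlinarith
  rw [h10] at h1
  refine ⟨(pretransitive_iff_subsingleton_quotient D Ω).2 (Nat.card_eq_one_iff_unique.1 h10).1, fun g hg => ?_⟩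
  have h11 : ∑ g ∈ Finset.univ.filter (¬ · ∈ D), 1 = ∑ g ∈ Finset.univ.filter (¬ · ∈ D), Nat.card (fixedBy Ω g) := by
    simp only [Finset.sum_const, smul_eq_mul, mul_one]; omega
  exact ((Finset.sum_eq_sum_iff_of_le h4).1 h11 g (by simpa using hg)).symm

/-- Let G act faithfully and transitively on a finite set and let D be the subgroup of G generated by the derangements (the elements fixing no point). Then D is itself transitive, and D contains every element of G whose number of fixed points is different from 1. -/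
theorem result {G Ω : Type*} [Group G] [Finite G] [MulAction G Ω] [FaithfulSMul G Ω] [Finite Ω]
    (htrans : MulAction.IsPretransitive G Ω) :
    MulAction.IsPretransitive ↥(Subgroup.closure {g : G | ∀ ω : Ω, g • ω ≠ ω}) Ω ∧
    ∀ g : G, Nat.card (MulAction.fixedBy Ω g) ≠ 1 → g ∈ Subgroup.closure {g : G | ∀ ω : Ω, g • ω ≠ ω} := by
  obtain ⟨h1, h2⟩ := key htrans (Subgroup.closure {g : G | ∀ ω : Ω, g • ω ≠ ω}) (fun g hg => Subgroup.subset_closure hg)
  exact ⟨h1, fun g hg => by_contra fun h => hg (h2 g h)⟩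

end Cfsg.Agent.S3546
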