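import Cfsg.Statements.S3547
import Mathlib
import Cfsg.Agent.Lib.Perm.Count
import Cfsg.Agent.S3546

set_option autoImplicit false
open Cfsg

namespace Cfsg.Agent.S3547

open Cfsg.Agent.Perm MulAction

/-- Let G act faithfully and transitively on a finite set Ω, let D be the subgroup generated by the derangements, and let r_G and r_D be the numbers of orbits of G and of D on ordered pairs of points (the permutation ranks). Then r_D − 1 = (r_G − 1)·[G : D]. -/
theorem result {G Ω : Type*} [Group G] [Finite G] [MulAction G Ω] [FaithfulSMul G Ω] [Finite Ω]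
    (htrans : MulAction.IsPretransitive G Ω) :
    Nat.card (MulAction.orbitRel.Quotient ↥(Subgroup.closure {g : G | ∀ ω : Ω, g • ω ≠ ω}) (Ω × Ω)) - 1 =
      (Nat.card (MulAction.orbitRel.Quotient G (Ω × Ω)) - 1) * (Subgroup.closure {g : G | ∀ ω : Ω, g • ω ≠ ω}).index := by
  classical
  have := Fintype.ofFinite G
  set D := Subgroup.closure {g : G | ∀ ω : Ω, g • ω ≠ ω}
  obtain ⟨-, h0⟩ := S3546.key htrans D (fun g hg => Subgroup.subset_closure hg)
  have h1 := sum_card_fixedBy (G := G) (α := Ω × Ω)
  have h2 := sum_card_fixedBy (G := D) (α := Ω × Ω)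
  rw [← Finset.sum_filter_add_sum_filter_not Finset.univ (· ∈ D)] at h1
  have h3 : ∑ g ∈ Finset.univ.filter (· ∈ D), Nat.card (fixedBy (Ω × Ω) g) = ∑ g : D, Nat.card (fixedBy (Ω × Ω) g) :=
    Finset.sum_subtype _ (by simp) _
  have h4 : ∀ g ∈ Finset.univ.filter (¬ · ∈ D), Nat.card (fixedBy (Ω × Ω) g) = 1 := by
    intro g hg
    simp only [Finset.mem_filter, Finset.mem_univ, true_and] at hg
    have : fixedBy (Ω × Ω) g = fixedBy Ω g ×ˢ fixedBy Ω g := by
      ext ⟨a, b⟩; simp
    rw [this, Nat.card_coe_set_eq, Set.ncard_prod, ← Nat.card_coe_set_eq, h0 g hg]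
  have h6 : (Finset.univ.filter (· ∈ D)).card + (Finset.univ.filter (¬ · ∈ D)).card = Nat.card G := by
    rw [Finset.card_filter_add_card_filter_not, Finset.card_univ, Nat.card_eq_fintype_card]
  have h7 : (Finset.univ.filter (· ∈ D)).card = Nat.card D := by
    rw [Nat.card_eq_fintype_card, Fintype.card_subtype]
  rw [h3, h2, Finset.sum_congr rfl h4] at h1
  simp only [Finset.sum_const, smul_eq_mul, mul_one] at h1
  have h8 := D.index_mul_card
  have h9 : 0 < Nat.card D := Nat.card_pos
  have h10 : 0 < D.index := Nat.pos_of_ne_zero Subgroup.index_ne_zero_of_finite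
  generalize Nat.card (orbitRel.Quotient D (Ω × Ω)) = r at *
  generalize Nat.card (orbitRel.Quotient G (Ω × Ω)) = s at *
  have h11 : r + D.index = s * D.index + 1 := by
    apply Nat.eq_of_mul_eq_mul_right h9
    rw [← h8] at h1 h6
    nlinarith
  rcases s with _ | s
  · simp; omega
  · simp only [Nat.add_sub_cancel]
    rw [add_mul] at h11
    omega

end Cfsg.Agent.S3547
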