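import Cfsg.Statements.S3548
import Mathlib
import Cfsg.Agent.Lib.Perm.Count
import Cfsg.Agent.S3546
import Cfsg.Agent.S0680

set_option autoImplicit false
open Cfsg

namespace Cfsg.Agent.S3548

open Cfsg.Agent.Perm MulAction

theorem key {G Ω : Type*} [Group G] [Finite G] [MulAction G Ω] [Finite Ω]
    (htrans : MulAction.IsPretransitive G Ω) (D : Subgroup G)
    (hD : ∀ g : G, (∀ ω : Ω, g • ω ≠ ω) → g ∈ D) (a : Ω) :
    D.index = D.relIndex (stabilizer G a) ∧ ∀ b, b ≠ a → stabilizer (stabilizer G a) b ≤ D.subgroupOf (stabilizer G a) := by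
  obtain ⟨h1, h2⟩ := S3546.key htrans D hD
  constructor
  · have e1 := card_eq_mul_stab (G := G) a
    have e2 := card_eq_mul_stab (G := D) a
    have e3 := D.index_mul_card
    have e4 := (D.subgroupOf (stabilizer G a)).index_mul_card
    have e5 : Nat.card (D.subgroupOf (stabilizer G a)) = Nat.card (stabilizer D a) :=
      Nat.card_congr ⟨fun x => ⟨⟨x.1.1, x.2⟩, x.1.2⟩, fun x => ⟨⟨x.1.1, x.2⟩, x.1.2⟩, fun _ => rfl, fun _ => rfl⟩
    have : Nonempty Ω := ⟨a⟩
    have p1 : 0 < Nat.card Ω * Nat.card (stabilizer D a) := Nat.mul_pos Nat.card_pos Nat.card_pos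
    apply Nat.eq_of_mul_eq_mul_right p1
    rw [← e2, e3, e1, ← e4, e5, e2]
    unfold Subgroup.relIndex
    ring
  · intro b hb g hg
    by_contra h
    have h3 := h2 g h
    rw [Nat.card_coe_set_eq, Set.ncard_eq_one] at h3
    obtain ⟨c, hc⟩ := h3
    have ha : a ∈ fixedBy Ω (g : G) := g.2
    have hb' : b ∈ fixedBy Ω (g : G) := hg
    rw [hc] at ha hb'
    exact hb (hb'.trans ha.symm)

theorem dvd_of_inv {G Ω : Type*} [Group G] [Finite G] [MulAction G Ω] [Finite Ω]
    (htrans : MulAction.IsPretransitive G Ω) (D : Subgroup G)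
    (hD : ∀ g : G, (∀ ω : Ω, g • ω ≠ ω) → g ∈ D) (a : Ω) (B : Set Ω) (ha : a ∈ B)
    (hB : ∀ g : G, g • a = a → ∀ x ∈ B, g • x ∈ B) : D.index ∣ B.ncard - 1 := by
  obtain ⟨h1, h2⟩ := key htrans D hD a
  rw [← Set.ncard_diff_singleton_of_mem ha, h1]
  apply dvd_ncard_of_invariant (G := stabilizer G a) (Set.toFinite _)
  · intro g x hx
    exact ⟨hB g g.2 x hx.1, fun e => hx.2 (smul_left_cancel (g : G) (e.trans g.2.symm))⟩
  · intro x hx
    exact Subgroup.index_dvd_of_le (h2 x hx.2)

/-- Let G act faithfully and transitively on a finite set with n ≥ 2 points and let D be the subgroup generated by the derangements. Then the index of D in G divides n − 1, and if it equals n − 1 then n is a prime power. -/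
theorem result {G Ω : Type*} [Group G] [Finite G] [MulAction G Ω] [FaithfulSMul G Ω] [Finite Ω]
    (htrans : MulAction.IsPretransitive G Ω) (hΩ : 2 ≤ Nat.card Ω) :
    (Subgroup.closure {g : G | ∀ ω : Ω, g • ω ≠ ω}).index ∣ Nat.card Ω - 1 ∧
    ((Subgroup.closure {g : G | ∀ ω : Ω, g • ω ≠ ω}).index = Nat.card Ω - 1 → IsPrimePow (Nat.card Ω)) := by
  set D := Subgroup.closure {g : G | ∀ ω : Ω, g • ω ≠ ω}
  have hD : ∀ g : G, (∀ ω : Ω, g • ω ≠ ω) → g ∈ D := fun g hg => Subgroup.subset_closure hg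
  have : Nontrivial Ω := Finite.one_lt_card_iff_nontrivial.1 hΩ
  obtain ⟨a⟩ : Nonempty Ω := inferInstance
  refine ⟨by simpa using dvd_of_inv htrans D hD a Set.univ trivial (by simp), fun h => ?_⟩
  have h3 : ∀ a b : Ω, b ≠ a → orbit (stabilizer G a) b = {a}ᶜ ∧ stabilizer (stabilizer G a) b = D.subgroupOf (stabilizer G a) := by
    intro a b hb
    obtain ⟨h1, h2⟩ := key htrans D hD a
    have h4 : orbit (stabilizer G a) b ⊆ {a}ᶜ := by
      rintro _ ⟨g, rfl⟩ e
      exact hb (smul_left_cancel (g : G) (e.trans g.2.symm))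
    have h5 : ({a}ᶜ : Set Ω).ncard = Nat.card Ω - 1 := by
      rw [Set.ncard_compl, Set.ncard_singleton]
    have h6 := Set.ncard_le_ncard h4
    have h7 := Nat.le_of_dvd (Nat.pos_of_ne_zero Subgroup.index_ne_zero_of_finite) (Subgroup.index_dvd_of_le (h2 b hb))
    have h8 := index_stabilizer (stabilizer G a) b
    unfold Subgroup.relIndex at h1
    refine ⟨Set.eq_of_subset_of_ncard_le h4 (by omega), ?_⟩
    apply Subgroup.eq_of_le_of_card_ge (h2 b hb)
    have e1 := (stabilizer (stabilizer G a) b).index_mul_card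
    have e2 := (D.subgroupOf (stabilizer G a)).index_mul_card
    rw [show (stabilizer (stabilizer G a) b).index = (D.subgroupOf (stabilizer G a)).index by omega, ← e2] at e1
    exact (Nat.eq_of_mul_eq_mul_left (Nat.pos_of_ne_zero Subgroup.index_ne_zero_of_finite) e1).ge
  obtain ⟨p, K, hp, hpn, hn, hc, he, hcard, -⟩ := S0680.exists_kernel (G := G) (α := Ω)
    (two_trans_of_stab a fun b c hb hc => by
      obtain ⟨g, hg⟩ : c ∈ orbit (stabilizer G a) b := by rw [(h3 a b hb).1]; exact hc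
      exact ⟨g, g.2, hg⟩)
    (fun a b hab g ha hb => eq_one_of_smul_eq (α := Ω) fun c => by
      by_cases hc : c = a
      · rw [hc, ha]
      · have : (⟨g, ha⟩ : stabilizer G a) ∈ stabilizer (stabilizer G a) b := hb
        rw [(h3 a b hab.symm).2, ← (h3 a c hc).2] at this
        exact this)
  have := Fact.mk hp
  have hK : IsPGroup p K := fun x => ⟨1, Subtype.ext (by simpa using he x x.2)⟩
  obtain ⟨j, hj⟩ := IsPGroup.iff_card.1 hK
  rw [← hcard, hj]
  refine hp.isPrimePow.pow fun e => ?_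
  rw [e, hcard, pow_zero] at hj
  omega

end Cfsg.Agent.S3548
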