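import Cfsg.Statements.S3549
import Mathlib
import Cfsg.Agent.Lib.Perm.Count
import Cfsg.Agent.S3548

set_option autoImplicit false
open Cfsg

namespace Cfsg.Agent.S3549

open Cfsg.Agent.Perm MulAction
open scoped Pointwise

/-- Let G act faithfully, transitively but imprimitively on a finite set with n points, and let D be the subgroup generated by the derangements. Then the index of D in G is at most √n − 1. -/
theorem result {G Ω : Type*} [Group G] [Finite G] [MulAction G Ω] [FaithfulSMul G Ω] [Finite Ω]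
    (htrans : MulAction.IsPretransitive G Ω) (himp : ¬ MulAction.IsPreprimitive G Ω) :
    ((Subgroup.closure {g : G | ∀ ω : Ω, g • ω ≠ ω}).index : ℝ) ≤ Real.sqrt (Nat.card Ω) - 1 := by
  set D := Subgroup.closure {g : G | ∀ ω : Ω, g • ω ≠ ω}
  have hD : ∀ g : G, (∀ ω : Ω, g • ω ≠ ω) → g ∈ D := fun g hg => Subgroup.subset_closure hg
  obtain ⟨B, hB, hB1, hB2⟩ : ∃ B : Set Ω, IsBlock G B ∧ ¬ B.Subsingleton ∧ B ≠ Set.univ := by
    by_contra h
    push Not at h
    exact himp ⟨fun {B} hB => (em B.Subsingleton).imp id fun h' => h B hB (Set.not_subsingleton_iff.1 h')⟩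
  rw [Set.not_subsingleton_iff] at hB1
  have h2 : 1 < B.ncard := (Set.one_lt_ncard_iff_nontrivial).2 hB1
  obtain ⟨a, ha⟩ := hB1.nonempty
  have h3 := S3548.dvd_of_inv htrans D hD a B ha (fun g hg x hx => by
    rw [← isBlock_iff_smul_eq_of_mem.1 hB ha (hg.symm ▸ ha)]; exact Set.smul_mem_smul_set hx)
  have h4 : D.index ∣ Nat.card Ω - 1 := by simpa using S3548.dvd_of_inv htrans D hD a Set.univ trivial (by simp)
  obtain ⟨m, hm⟩ := hB.ncard_dvd_card ⟨a, ha⟩
  have h5 : B.ncard < Nat.card Ω := by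
    rw [← Set.ncard_univ]; exact Set.ncard_lt_ncard (Set.ssubset_univ_iff.2 hB2)
  obtain ⟨k, hk⟩ : ∃ k, B.ncard = k + 1 := ⟨B.ncard - 1, by omega⟩
  obtain ⟨m, rfl⟩ : ∃ m', m = m' + 1 := ⟨m - 1, by rcases m with _ | m <;> simp at *; omega⟩
  rw [hk] at h3 hm h5 h2
  rw [hm] at h4 h5
  have h6 : D.index ∣ m := by
    have : (k + 1) * (m + 1) - 1 = k * (m + 1) + m := by
      rw [show (k + 1) * (m + 1) = k * (m + 1) + m + 1 by ring]; rfl
    rw [this] at h4
    exact (Nat.dvd_add_right (Dvd.dvd.mul_right h3 _)).1 h4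
  have h7 := Nat.le_of_dvd (by omega) h3
  have h8 := Nat.le_of_dvd (by rcases m with _ | m <;> simp at *) h6
  rw [le_sub_iff_add_le]
  apply Real.le_sqrt_of_sq_le
  rw [hm]
  simp only [Nat.add_sub_cancel] at h7
  have : (D.index + 1) ^ 2 ≤ (k + 1) * (m + 1) := by nlinarith
  exact_mod_cast this

end Cfsg.Agent.S3549
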