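import Cfsg.Statements.S3554
import Mathlib
import Cfsg.Agent.Lib.Perm.Count

set_option autoImplicit false
open Cfsg

namespace Cfsg.Agent.S3554

open Cfsg.Agent.Perm MulAction

/-- Let G act faithfully and transitively on a finite set and suppose G has a non-trivial cyclic normal subgroup. Then some element of G of prime order fixes no point. -/
theorem result {G Ω : Type*} [Group G] [Finite G] [MulAction G Ω] [FaithfulSMul G Ω] [Finite Ω]
    (htrans : MulAction.IsPretransitive G Ω) (C : Subgroup G) (hC : C.Normal) (hC1 : C ≠ ⊥) (hcyc : IsCyclic ↥C) :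
    ∃ g : G, (orderOf g).Prime ∧ ∀ ω : Ω, g • ω ≠ ω := by
  obtain ⟨c, hc⟩ := hcyc.exists_generator
  have hc1 : (c : G) ≠ 1 := by
    intro e
    apply hC1
    rw [eq_bot_iff]
    intro x hx
    obtain ⟨j, hj⟩ := hc ⟨x, hx⟩
    have : (c : G) ^ j = x := congrArg Subtype.val hj
    rw [← this, e]; simp
  obtain ⟨k, hk, -⟩ := exists_prime_order_pow (isOfFinOrder_of_finite (c : G)) hc1
  refine ⟨_, hk, fun ω hω => ?_⟩
  have : (c : G) ^ k = 1 := by
    apply eq_one_of_smul_eq (α := Ω)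
    intro y
    obtain ⟨g, rfl⟩ := htrans.exists_smul_eq ω y
    obtain ⟨j, hj⟩ := hc ⟨g⁻¹ * c * g⁻¹⁻¹, hC.conj_mem _ c.2 _⟩
    have h1 : (c : G) ^ j = g⁻¹ * c * g⁻¹⁻¹ := congrArg Subtype.val hj
    have h2 : g⁻¹ * (c : G) ^ k * g = ((c : G) ^ k) ^ j := by
      rw [← zpow_natCast, ← zpow_mul, mul_comm (k : ℤ), zpow_mul, h1, zpow_natCast, zpow_natCast, conj_pow, inv_inv]
    apply mem_stab_smul.2
    rw [h2]
    exact (stabilizer G ω).zpow_mem hω j
  rw [this, orderOf_one] at hk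
  exact Nat.not_prime_one hk

end Cfsg.Agent.S3554
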