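import Cfsg.Statements.S3555
import Cfsg.Agent.Lib.Perm.PG2

set_option autoImplicit false
open Cfsg

namespace Cfsg.Agent.S3555
section
open Pointwise commutatorElement Subgroup
open MulAction Finset in
theorem key {G Ω : Type*} [Group G] [Finite G] [MulAction G Ω] [FaithfulSMul G Ω] [Finite Ω] [Nonempty Ω]
    [IsPretransitive G Ω] (hinv : ∀ g : G, (∀ ω : Ω, g • ω ≠ ω) → g * g = 1) (a b : Ω) (ab : a ≠ b) (g : G)
    (ha : g • a = a) (hb : g • b = b) : g = 1 := by
  classical
  haveI := Fintype.ofFinite G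
  haveI := Fintype.ofFinite Ω
  let F : G → Finset Ω := fun g => univ.filter fun x => g • x = x
  let D : Finset G := univ.filter fun g => ∀ ω : Ω, g • ω ≠ ω
  have h1 : ∑ g, (F g).card = Fintype.card G := by
    have := sum_card_fixedBy_eq_card_orbits_mul_card_group G Ω
    rw [Fintype.card_eq_one_iff_nonempty_unique.2 ((pretransitive_iff_unique_quotient_of_nonempty G Ω).1 inferInstance),
      one_mul] at this
    rw [← this]
    exact sum_congr rfl fun g _ => (Fintype.card_of_subtype _ (by simp [F])).symm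
  have : ∀ a b : Ω, ∃ c : G, ∀ x ∈ D, x • a = b → c ∈ D ∧ c • a = b := fun a b => by
    by_cases h : ∃ x ∈ D, x • a = b
    · exact h.imp fun _ h _ _ _ => h
    · exact ⟨1, fun x h1 h2 => (h ⟨x, h1, h2⟩).elim⟩
  choose c hc using this
  have sq : ∀ x ∈ D, ∀ y : Ω, x • x • y = y := fun x hx y => by rw [smul_smul, hinv x (mem_filter.1 hx).2, one_smul]
  have h2 : (D ×ˢ (univ : Finset Ω)).card ≤ (univ.sigma fun g : G => (F g).offDiag).card :=
    card_le_card_of_injOn (fun p => ⟨c p.2 (p.1 • p.2) * p.1, p.2, p.1 • p.2⟩) (fun p hp => by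
      have hp := (mem_product.1 hp).1
      obtain ⟨h3, h4⟩ := hc p.2 _ p.1 hp rfl
      simp only [coe_sigma, Set.mem_sigma_iff, mem_coe, mem_univ, mem_offDiag, F, mem_filter, true_and, mul_smul, sq _ hp, h4]
      exact ⟨by rw [← congrArg (c p.2 (p.1 • p.2) • ·) h4, sq _ h3], ((mem_filter.1 hp).2 _).symm⟩) fun p _ q _ e => by
      simp only [Sigma.mk.injEq, heq_eq_eq, Prod.mk.injEq] at e
      obtain ⟨e1, e2, e3⟩ := e
      rw [e3, e2] at e1
      exact Prod.ext (mul_left_cancel e1) e2
  rw [card_product, card_sigma, card_univ] at h2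
  let T : G → ℤ := fun g => ((Fintype.card Ω : ℤ) - (F g).card) * ((F g).card - 1) + if g ∈ D then (Fintype.card Ω : ℤ) else 0
  have T0 : ∀ g ∈ (univ : Finset G), 0 ≤ T g := fun g _ => by
    by_cases h : g ∈ D
    · have : F g = ∅ := filter_eq_empty_iff.2 fun x _ => (mem_filter.1 h).2 x
      simp [T, h, this]
    · have : 1 ≤ (F g).card := card_pos.2 (by simpa [D, F, filter_nonempty_iff] using h)
      have := card_le_univ (F g)
      simp only [T, h, if_false, add_zero]
      exact mul_nonneg (by omega) (by omega)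
  have h3 : ∑ g, T g ≤ 0 := by
    have e1 : ∑ g, T g = Fintype.card Ω * (∑ g, ((F g).card : ℤ) - Fintype.card G) - ∑ g, ((F g).offDiag.card : ℤ) +
        D.card * Fintype.card Ω := by
      simp only [T, sum_add_distrib, sum_ite_mem, univ_inter, sum_const, nsmul_eq_mul, add_left_inj]
      rw [← card_univ (α := G), card_eq_sum_ones (univ : Finset G), Nat.cast_sum, ← sum_sub_distrib, mul_sum, ← sum_sub_distrib]
      refine sum_congr rfl fun g _ => ?_
      rw [offDiag_card, Nat.cast_sub (Nat.le_mul_self _)]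
      push_cast
      ring
    rw [e1, ← Nat.cast_sum, h1, ← Nat.cast_sum]
    have : ((D.card * Fintype.card Ω : ℕ) : ℤ) ≤ _ := Nat.cast_le.2 h2
    push_cast at this ⊢
    linarith
  have h4 := (sum_eq_zero_iff_of_nonneg T0).1 (h3.antisymm (sum_nonneg T0)) g (mem_univ g)
  have h5 : 1 < (F g).card := one_lt_card.2 ⟨a, by simp [F, ha], b, by simp [F, hb], ab⟩
  have h6 : g ∉ D := fun h => (mem_filter.1 h).2 a ha
  simp only [T, h6, if_false, add_zero, mul_eq_zero] at h4
  have h7 := eq_univ_of_card (F g) (by omega)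
  exact eq_of_smul_eq_smul (α := Ω) fun x => by simpa [F] using h7.ge (mem_univ x)
end

/-- Let G act faithfully and transitively on a finite set and suppose every element of G fixing no point is an involution. Then either G is an elementary abelian 2-group, or G is a Frobenius group whose Frobenius kernel is an elementary abelian 2-group: G has a Frobenius complement H, and the elements lying in no conjugate of H, together with the identity, pairwise commute and square to the identity. -/
theorem result {G Ω : Type*} [Group G] [Finite G] [MulAction G Ω] [FaithfulSMul G Ω] [Finite Ω]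
    (htrans : MulAction.IsPretransitive G Ω) (hinv : ∀ g : G, (∀ ω : Ω, g • ω ≠ ω) → orderOf g = 2) :
    (IsMulCommutative G ∧ ∀ g : G, g ^ 2 = 1) ∨
    (∃ H : Subgroup G, Cfsg.IsFrobeniusComplement H ∧
      (∀ x ∈ Cfsg.frobeniusKernel H, x ^ 2 = 1) ∧
      ∀ x ∈ Cfsg.frobeniusKernel H, ∀ y ∈ Cfsg.frobeniusKernel H, x * y = y * x) := by
  open Pointwise commutatorElement Subgroup in
  have hi : ∀ g : G, (∀ ω : Ω, g • ω ≠ ω) → g * g = 1 := fun g h => by rw [← pow_two, ← hinv g h, pow_orderOf_eq_one]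
  obtain h | ⟨⟨a⟩⟩ := isEmpty_or_nonempty Ω
  · simpa using hinv 1 fun ω => h.elim ω
  haveI : Nonempty Ω := ⟨a⟩
  have k := key hi
  obtain ⟨K, hK, -⟩ := Perm.PG.frob_kernel k
  have sq : ∀ x ∈ K, x * x = 1 := fun x hx => ((hK x).1 hx).elim (fun e => by rw [e, mul_one]) (hi x)
  have cm : ∀ x ∈ K, ∀ y ∈ K, x * y = y * x := fun x hx y hy => by
    rw [← inv_eq_of_mul_eq_one_right (sq _ (K.mul_mem hx hy)), mul_inv_rev, inv_eq_of_mul_eq_one_right (sq x hx),
      inv_eq_of_mul_eq_one_right (sq y hy)]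
  have hc : ∀ g : G, MulAut.conj g • MulAction.stabilizer G a = MulAction.stabilizer G (g • a) := fun g =>
    (MulAction.stabilizer_smul_eq_stabilizer_map_conj g a).symm
  by_cases h1 : MulAction.stabilizer G a = ⊥
  · have : ∀ g, g ∈ K := fun g => (hK g).2 (or_iff_not_imp_left.2 fun e b hb => by
      obtain ⟨u, rfl⟩ := MulAction.exists_smul_eq G a b
      have : g ∈ MulAction.stabilizer G (u • a) := hb
      rw [← hc, h1] at this
      simp [e] at this)
    exact .inl ⟨⟨⟨fun x y => cm x (this x) y (this y)⟩⟩, fun g => by rw [pow_two, sq g (this g)]⟩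
  have mK : ∀ x ∈ frobeniusKernel (MulAction.stabilizer G a), x ∈ K := fun x hx => (hK x).2 (hx.imp id fun h b hb => by
    obtain ⟨u, rfl⟩ := MulAction.exists_smul_eq G a b
    exact h u (hc u ▸ hb))
  refine .inr ⟨_, ⟨h1, fun e => h1 (eq_bot_iff.2 fun g _ => eq_of_smul_eq_smul (α := Ω) fun b => ?_), fun g hg => ?_⟩,
    fun x hx => by rw [pow_two, sq x (mK x hx)], fun x hx y hy => cm x (mK x hx) y (mK y hy)⟩
  · obtain ⟨u, rfl⟩ := MulAction.exists_smul_eq G a b
    have : g ∈ MulAction.stabilizer G (u • a) := by rw [← hc, e]; simp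
    rw [one_smul]; exact this
  · rw [hc, eq_bot_iff]
    exact fun x hx => k a (g • a) (fun e => hg e.symm) x hx.1 hx.2

end Cfsg.Agent.S3555
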