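import Cfsg.Statements.S3556
import Cfsg.Agent.Lib.BG.ONS

set_option autoImplicit false
open Cfsg

namespace Cfsg.Agent.S3556

/-- Let G act faithfully and primitively on a finite set with at least two points, and suppose that for some fixed prime p every element of G fixing no point has order a power of p. Then G is of affine type (it has a regular normal subgroup that is an elementary abelian r-group for some prime r) or almost simple (it has a non-abelian simple normal subgroup with trivial centralizer). -/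
theorem result {G Ω : Type*} [Group G] [Finite G] [MulAction G Ω] [FaithfulSMul G Ω] [Finite Ω]
    (hprim : MulAction.IsPreprimitive G Ω) (hΩ : 2 ≤ Nat.card Ω) (p : ℕ) (hp : p.Prime)
    (hder : ∀ g : G, (∀ ω : Ω, g • ω ≠ ω) → ∃ k : ℕ, orderOf g = p ^ k) :
    (∃ (N : Subgroup G) (r : ℕ), r.Prime ∧ N.Normal ∧ Cfsg.IsElementaryAbelian r N ∧
      MulAction.IsPretransitive N Ω ∧ ∀ a : Ω, MulAction.stabilizer N a = ⊥) ∨
    (∃ T : Subgroup G, T.Normal ∧ IsSimpleGroup ↥T ∧ ¬ IsMulCommutative ↥T ∧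
      Subgroup.centralizer (T : Set G) = ⊥) := by
  open Pointwise commutatorElement Subgroup in
  open Cfsg.Agent.Comp Cfsg.Agent.BG Subgroup commutatorElement MulAction in
  haveI : Nontrivial Ω := Finite.one_lt_card_iff_nontrivial.1 hΩ
  obtain ⟨α, -⟩ := exists_pair_ne Ω
  obtain ⟨N, r, e, hr, _, -, h1, h2, h3⟩ | ⟨h1, hF, L, hL⟩ := EP.ons (G := G) α
  · exact Or.inl ⟨N, r, hr, ‹_›, h1.elem, EP.pretrans h2, fun a => EP.stab_bot (h3 a)⟩
  refine Or.inr (by_contra fun h => ?_)
  have n : ∀ x : G, (orderOf x).Prime → orderOf x ≠ p → ∀ k, x ^ p ^ k ≠ 1 := fun x hx e k f =>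
    e ((Nat.prime_dvd_prime_iff_eq hx hp).1 (hx.dvd_of_dvd_pow (orderOf_dvd_of_pow_eq_one f)))
  obtain hS | ⟨t, t1, -, t3, K, hK, k1⟩ := EP.der h1 hF hL fun e =>
    h ⟨L, e.1, (EP.simple_L hF hL).1, (EP.simple_L hF hL).2, e.2⟩
  · obtain ⟨x, x1, x2, x3, -⟩ := EP.three hL.qs p p hp hp
    obtain ⟨k, hk⟩ := hder x (hS x x1 fun e => by rw [e, orderOf_one] at x2; exact Nat.not_prime_one x2)
    exact n x x2 x3 k (hk ▸ pow_orderOf_eq_one x)
  · obtain ⟨x, x1, x2, x3, -⟩ := EP.three hK.qs p p hp hp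
    have x4 := hK.le_centralizer_of_ne hL k1 x1
    obtain ⟨k, hk⟩ := hder _ (t3 x x4)
    have := pow_orderOf_eq_one (t * x)
    rw [hk, Commute.mul_pow (mem_Ct.1 x4 t t1), mul_eq_one_iff_inv_eq] at this
    exact n x x2 x3 k (EP.inf_Ct hF hL (this ▸ inv_mem (pow_mem t1 _)) (pow_mem x4 _))

end Cfsg.Agent.S3556
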