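import Cfsg.Statements.S3560
import Mathlib
import Cfsg.Agent.Lib.Perm.PG3

set_option autoImplicit false
open Cfsg

namespace Cfsg.Agent.S3560

open Cfsg.Agent.Perm Cfsg.Agent.Perm.PG MulAction Equiv

/-- Let K be a finite group isomorphic to a direct product of r ≥ 2 groups all of the same order m ≥ 3. Then K is not a B-group: there is a primitive but not doubly transitive permutation group (on some finite set) containing a regular subgroup isomorphic to K. -/
theorem result {K : Type*} [Group K] [Finite K] {ι : Type*} [Fintype ι] (F : ι → Type*) [∀ i, Group (F i)]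
    (hr : 2 ≤ Fintype.card ι) (m : ℕ) (hm : 3 ≤ m) (hcard : ∀ i, Nat.card (F i) = m) (e : K ≃* (∀ i, F i)) :
    ∃ (n : ℕ) (G R : Subgroup (Equiv.Perm (Fin n))), R ≤ G ∧ Nonempty (↥R ≃* K) ∧
      MulAction.IsPretransitive ↥R (Fin n) ∧ (∀ a : Fin n, MulAction.stabilizer ↥R a = ⊥) ∧
      MulAction.IsPreprimitive ↥G (Fin n) ∧ ¬ MulAction.IsMultiplyPretransitive ↥G (Fin n) 2 := by
  classical
  have hf : ∀ i, Finite (F i) := fun i => Nat.finite_of_card_ne_zero (by rw [hcard]; omega)
  have u : ∀ i, F i ≃ Fin m := fun i => Finite.equivFinOfCardEq (hcard i)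
  let φ := Finite.equivFin (ι → Fin m)
  let G0 : Subgroup (Perm (ι → Fin m)) :=
    { carrier := {σ | ∀ x y, hammingDist (σ x) (σ y) = hammingDist x y}
      one_mem' := fun _ _ => rfl
      mul_mem' := fun {a b} ha hb x y => by rw [Perm.mul_apply, Perm.mul_apply, ha, hb]
      inv_mem' := fun {a} ha x y => by rw [← ha]; simp }
  have h1 : ∀ s : ι → Perm (Fin m), Equiv.piCongrRight s ∈ G0 := fun s x y =>
    hammingDist_comp (fun i => s i) fun i => (s i).injective
  have h2 : ∀ i j : ι, Equiv.arrowCongr (swap i j) (Equiv.refl _) ∈ G0 := fun i j x y =>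
    Finset.card_bij (fun a _ => swap i j a) (fun a ha => by simpa using ha) (fun _ _ _ _ h => (swap i j).injective h)
      fun b hb => ⟨swap i j b, by simpa using hb, by simp⟩
  let ρ : K →* Perm (ι → Fin m) := MonoidHom.mk' (fun k => Equiv.piCongrRight fun i =>
    (u i).permCongr (toPerm (e k i))) fun a b => by ext x i; simp [mul_assoc]
  have hρ : ∀ k x, ρ k x = x → k = 1 := fun k x h => e.injective (funext fun i => by
    simpa [ρ, Equiv.apply_eq_iff_eq_symm_apply] using congrFun h i)
  have hρ2 : ∀ x y, ∃ k, ρ k x = y := fun x y =>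
    ⟨e.symm fun i => (u i).symm (y i) * ((u i).symm (x i))⁻¹, funext fun i => by simp [ρ]⟩
  let ψ := φ.permCongrHom
  have hψ : ∀ σ x, ψ σ (φ x) = φ (σ x) := fun σ x => by simp [ψ]
  have ht : IsPretransitive (ψ.toMonoidHom.comp ρ).range (Fin (Nat.card (ι → Fin m))) := ⟨fun x y => by
    obtain ⟨k, hk⟩ := hρ2 (φ.symm x) (φ.symm y)
    exact ⟨⟨_, k, rfl⟩, (by simpa [hk] using hψ (ρ k) (φ.symm x) : ψ (ρ k) x = y)⟩⟩
  have hle : (ψ.toMonoidHom.comp ρ).range ≤ G0.map ψ.toMonoidHom := by
    rintro _ ⟨k, rfl⟩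
    exact ⟨_, h1 _, rfl⟩
  obtain ⟨i0, j0, hij⟩ := Fintype.exists_pair_of_one_lt_card (α := ι) (by omega)
  refine ⟨_, G0.map ψ.toMonoidHom, (ψ.toMonoidHom.comp ρ).range, hle, ⟨(MonoidHom.ofInjective ?_).symm⟩, ht,
    fun a => ?_, ?_, fun h => ?_⟩
  · exact ψ.injective.comp ((injective_iff_map_eq_one ρ).2 fun k hk => hρ k (fun _ => ⟨0, by omega⟩) (by rw [hk]; rfl))
  · rw [eq_bot_iff]
    rintro ⟨_, k, rfl⟩ h
    have h3 : ψ (ρ k) a = a := h
    rw [← φ.apply_symm_apply a, hψ] at h3
    obtain rfl := hρ k _ (φ.injective h3)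
    exact Subgroup.mem_bot.2 (Subtype.ext (map_one _))
  · have : IsPretransitive (G0.map ψ.toMonoidHom) (Fin (Nat.card (ι → Fin m))) := ⟨fun x y => by
      obtain ⟨k, hk⟩ := ht.exists_smul_eq x y
      exact ⟨⟨k, hle k.2⟩, hk⟩⟩
    refine prim_of_rel fun r hr hi => or_iff_not_imp_left.2 fun h => ?_
    have hi' : ∀ σ ∈ G0, ∀ x y, r (φ x) (φ y) → r (φ (σ x)) (φ (σ y)) := fun σ hσ x y h => by
      rw [← hψ, ← hψ]; exact hi ⟨_, σ, hσ, rfl⟩ _ _ h
    push Not at h
    obtain ⟨x, y, hxy, hne⟩ := h
    obtain ⟨x, rfl⟩ := φ.surjective x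
    obtain ⟨y, rfl⟩ := φ.surjective y
    obtain ⟨i, hi2⟩ := Function.ne_iff.1 (φ.injective.ne_iff.1 hne)
    obtain ⟨c, -, hc⟩ := Finset.exists_mem_notMem_of_card_lt_card (s := {x i, y i}) (t := Finset.univ)
      (lt_of_le_of_lt Finset.card_le_two (by simp; omega))
    simp only [Finset.mem_insert, Finset.mem_singleton, not_or] at hc
    have h3 := hi' _ (h1 (Function.update 1 i (swap (y i) c))) _ _ hxy
    have h4 : (Equiv.piCongrRight (Function.update (1 : ι → Perm (Fin m)) i (swap (y i) c))) x = x := funext fun j => by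
      by_cases e : j = i
      · subst e; simp [swap_apply_of_ne_of_ne hi2 (Ne.symm hc.1)]
      · simp [e]
    have h5 : (Equiv.piCongrRight (Function.update (1 : ι → Perm (Fin m)) i (swap (y i) c))) y = Function.update y i c :=
      funext fun j => by
        by_cases e : j = i
        · subst e; simp
        · simp [e]
    rw [h4, h5] at h3
    have h6 := hr.trans (hr.symm hxy) h3
    have h7 : ∀ z d, r (φ z) (φ (Function.update z i d)) := by
      intro z d
      by_cases e : z i = d
      · rw [← e, Function.update_eq_self]; exact hr.refl _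
      obtain ⟨g, hg1, hg2⟩ := two_trans_iff.1 (Perm.isMultiplyPretransitive (Fin m) 2) (y i) c (z i) d (Ne.symm hc.2) e
      convert hi' _ (h1 (Function.update (fun j => swap (y j) (z j)) i g)) _ _ h6 using 2
      all_goals
        funext j
        by_cases e : j = i
        · subst e; simpa using by first | exact hg1.symm | exact hg2.symm
        · simp [e]
    have h8 : ∀ j z d, r (φ z) (φ (Function.update z j d)) := by
      intro j z d
      convert hi' _ (h2 i j) _ _ (h7 (z ∘ swap i j) d) using 2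
      · funext k; simp
      · funext k
        by_cases e : k = j
        · subst e; simp
        · simp [e, Function.update_apply, swap_apply_eq_iff]
    intro a b
    obtain ⟨a, rfl⟩ := φ.surjective a
    obtain ⟨b, rfl⟩ := φ.surjective b
    have h9 : ∀ s : Finset ι, r (φ a) (φ (s.piecewise b a)) := fun s => by
      induction s using Finset.induction_on with
      | empty => simpa using hr.refl _
      | insert j s hj ih => rw [Finset.piecewise_insert]; exact hr.trans ih (h8 _ _ _)
    simpa using h9 Finset.univ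
  · let o : ι → Fin m := fun _ => ⟨0, by omega⟩
    let c : Fin m := ⟨1, by omega⟩
    have hc : c ≠ ⟨0, by omega⟩ := by simp [c]
    obtain ⟨⟨_, σ, hσ, rfl⟩, h3, h4⟩ := two_trans_iff.1 h (φ o) (φ (Function.update o i0 c)) (φ o) (φ fun _ => c)
      (φ.injective.ne fun e => hc (by simpa using (congrFun e i0).symm)) (φ.injective.ne fun e => hc (congrFun e i0).symm)
    have h5 := hσ o (Function.update o i0 c)
    rw [φ.injective ((hψ _ _).symm.trans h3), φ.injective ((hψ _ _).symm.trans h4)] at h5
    have h6 : hammingDist o (Function.update o i0 c) ≤ 1 := Finset.card_le_one.2 fun a ha b hb => by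
      simp only [Finset.mem_filter, Function.update_apply] at ha hb
      grind
    have h7 : 1 < hammingDist o fun _ => c := Finset.one_lt_card.2 ⟨i0, by simpa using hc.symm, j0, by simpa using hc.symm, hij⟩
    omega

end Cfsg.Agent.S3560
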