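import Cfsg.Statements.S3592
import Cfsg.Agent.Lib.Block.Rec2
import Cfsg.Agent.Lib.Block.M11g
import Cfsg.Agent.Lib.Spor.M12

set_option autoImplicit false
open Cfsg

namespace Cfsg.Agent.S3592

open Cfsg.Agent.Blk
open Cfsg.Agent.Char hiding cj cj_mul cj_inv_cj cj_cj_inv
theorem key {M : Type*} [Group M] [Finite M] [IsSimpleGroup M] (hM : Nat.card M = 7920) (n : ℕ) :
    Nat.card {g : M // orderOf g = n} = 1 ∨ 1440 ≤ Nat.card {g : M // orderOf g = n} ∨
      55 ∣ Nat.card {g : M // orderOf g = n} := by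
  obtain ⟨x, hx⟩ := M11.sc11' hM
  obtain ⟨y, hy⟩ := M11.sc5 hM
  by_cases h1 : n = 1
  · subst h1
    exact Or.inl cnt_ord_one
  by_cases h2 : n = 11
  · have h3 := (⟨hx.prime, hx.ord, by rw [hM]; norm_num⟩ : S1 11 x).cnt
    have h4 := (No (Subgroup.zpowers x)).card_mul_index
    rw [M11.No11 hM hx, hM] at h4
    subst h2
    omega
  by_cases h3 : n = 5
  · have h : S1 5 y := ⟨hy.prime, hy.ord, by rw [hM]; norm_num⟩
    have h3 := h.cnt
    obtain ⟨e, h5, h6⟩ := h.No_eq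
    have h4 := (No (Subgroup.zpowers y)).card_mul_index
    rw [h6, hy.cen, hy.card, hM] at h4
    have := Nat.le_of_dvd (by norm_num) h5
    subst n
    interval_cases e <;> omega
  exact Or.inr (Or.inr (Nat.Coprime.mul_dvd_of_dvd_of_dvd (by norm_num : Nat.Coprime 5 11)
    (hy.dvd_cnt h1 h3) (hx.dvd_cnt h1 h2)))

/-- Let M be the Mathieu group M₁₁ (order 7920). If a finite group G has the same order as M and the same set of values of the function 'number of elements of order n' (taken over the element orders n that occur), then G is isomorphic to M. -/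
theorem result {G : Type*} [Group G] [Finite G]
    (hcard : Nat.card G = Nat.card ↥Cfsg.Spor.M11)
    (hnse : {c : ℕ | 0 < c ∧ ∃ n : ℕ, c = Nat.card {g : G // orderOf g = n}} =
      {c : ℕ | 0 < c ∧ ∃ n : ℕ, c = Nat.card {g : ↥Cfsg.Spor.M11 // orderOf g = n}}) :
    Nonempty (G ≃* ↥Cfsg.Spor.M11) := by
  have h1 : IsM11 Cfsg.Spor.M11 := ⟨have := Spor.simple11; Spor.M11Equiv.symm.isSimpleGroup,
    (Nat.card_congr Spor.M11Equiv.toEquiv).symm.trans Spor.card11⟩
  have := h1.1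
  have h2 := hcard.trans h1.2
  have h3 : ∀ (p : ℕ) (x : G), S1 p x → ∃ n ∈ Nat.divisors 7920, n % p = 1 % p ∧
      Nat.card (No (Subgroup.zpowers x)) * n = 7920 ∧ p ∣ 7920 / n ∧
      (n * (p - 1) = 1 ∨ 1440 ≤ n * (p - 1) ∨ 55 ∣ n * (p - 1)) := fun p x h => by
    have k1 := (No (Subgroup.zpowers x)).card_mul_index
    have k2 : 0 < (No (Subgroup.zpowers x)).index := Nat.pos_of_ne_zero
      Subgroup.index_ne_zero_of_finite
    rw [h2] at k1
    refine ⟨_, Nat.mem_divisors.2 ⟨Dvd.intro_left _ k1, by norm_num⟩, h.index_modEq, k1, ?_, ?_⟩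
    · rw [← k1, Nat.mul_div_cancel _ k2]
      exact h.card ▸ Subgroup.card_dvd_of_le (le_No _)
    obtain ⟨-, m, hm⟩ := hnse.le ⟨Transfer.cnt_pos (p := fun g => orderOf g = p) h.ord, p, rfl⟩
    rw [← h.cnt, hm]
    exact key h1.2 m
  obtain ⟨x, hx⟩ := exists_S1 (G := G) (p := 11) (by norm_num) (by rw [h2]; norm_num)
    (by rw [h2]; norm_num)
  obtain ⟨y, hy⟩ := exists_S1 (G := G) (p := 5) (by norm_num) (by rw [h2]; norm_num)
    (by rw [h2]; norm_num)
  obtain ⟨n, n1, n2, n3, n4, n5⟩ := h3 _ _ hx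
  obtain ⟨m, m1, m2, m3, m4, m5⟩ := h3 _ _ hy
  obtain rfl : n = 144 := by
    clear n3
    revert n
    decide +kernel
  obtain rfl : m = 396 := by
    clear m3
    revert m
    decide +kernel
  have k1 : ∀ a : G, orderOf a = 5 → Nat.card (Ce1 a) ∣ 20 := fun a ha => by
    obtain ⟨e, -, he⟩ := hy.No_eq
    exact ⟨e, by rw [hy.card_Ce1 ha, ← he]; omega⟩
  refine M11.unique ⟨M11.simple_of h2 (hx.sc ?_) fun a ha k =>
    absurd (k.trans (k1 a ha)) (by norm_num), h2⟩ h1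
  obtain ⟨e, -, he⟩ := hx.No_eq
  obtain ⟨c, hc⟩ := hx.dvd_Ce1
  have k2 : c * e = 5 := by rw [hc, mul_assoc] at he; omega
  rcases (Nat.dvd_prime Nat.prime_five).1 ⟨e, k2.symm⟩ with rfl | rfl
  · exact hc
  obtain ⟨s, s1, s2⟩ := exists_ord_Ce1 (x := x) (q := 5) (hc ▸ dvd_mul_left _ _)
  exact absurd ((hx.ord ▸ dvd_Ce1 s2.symm).trans (k1 s s1)) (by norm_num)

end Cfsg.Agent.S3592
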