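import Cfsg.Statements.S3593
import Cfsg.Agent.Lib.Block.M12f
import Cfsg.Agent.Lib.Spor.M12

set_option autoImplicit false
open Cfsg

namespace Cfsg.Agent.S3593

open Cfsg.Agent.Blk
open Cfsg.Agent.Char hiding cj cj_mul cj_inv_cj cj_cj_inv

/-- Let M be the Mathieu group M₁₂ (order 95040). If a finite group G has the same order as M and the same set of values of the function 'number of elements of order n' (taken over the element orders n that occur), then G is isomorphic to M. -/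
theorem result {G : Type*} [Group G] [Finite G]
    (hcard : Nat.card G = Nat.card ↥Cfsg.Spor.M12)
    (hnse : {c : ℕ | 0 < c ∧ ∃ n : ℕ, c = Nat.card {g : G // orderOf g = n}} =
      {c : ℕ | 0 < c ∧ ∃ n : ℕ, c = Nat.card {g : ↥Cfsg.Spor.M12 // orderOf g = n}}) :
    Nonempty (G ≃* ↥Cfsg.Spor.M12) := by
  have h1 : IsM12 Cfsg.Spor.M12 := ⟨have := Spor.simple12; Spor.M12Equiv.symm.isSimpleGroup,
    (Nat.card_congr Spor.M12Equiv.toEquiv).symm.trans (Spor.card_stab_dod Spor.d0_mem)⟩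
  have := h1.1
  have h2 := hcard.trans h1.2
  have h3 : ∀ (p : ℕ) (x : G), S1 p x → ∃ n ∈ Nat.divisors (95040 / p), n % p = 1 % p ∧
      Nat.card (No (Subgroup.zpowers x)) * n = 95040 ∧ (n * (p - 1) = 1 ∨ n * (p - 1) = 9504 ∨
        n * (p - 1) = 17280 ∨ 11 ∣ n * (p - 1) ∧ n * (p - 1) % 5 ≤ 1) := fun p x h => by
    have k1 := (No (Subgroup.zpowers x)).card_mul_index
    obtain ⟨c, hc⟩ : p ∣ Nat.card (No (Subgroup.zpowers x)) :=
      h.card ▸ Subgroup.card_dvd_of_le (le_No _)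
    have k2 : 95040 / p = c * (No (Subgroup.zpowers x)).index := by
      rw [← h2, ← k1, hc, mul_assoc, Nat.mul_div_cancel_left _ h.prime.pos]
    rw [h2] at k1
    refine ⟨_, Nat.mem_divisors.2 ⟨Dvd.intro_left _ k2.symm, fun e => ?_⟩, h.index_modEq, k1, ?_⟩
    · rw [hc, mul_assoc, ← k2, e] at k1
      omega
    obtain ⟨-, m, hm⟩ := hnse.le ⟨Transfer.cnt_pos (p := fun g => orderOf g = p) h.ord, p, rfl⟩
    exact M12.counts h1.2 m (h.cnt.symm.trans hm)
  obtain ⟨x, hx⟩ := exists_S1 (G := G) (p := 11) (by norm_num) (by rw [h2]; norm_num)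
    (by rw [h2]; norm_num)
  obtain ⟨y, hy⟩ := exists_S1 (G := G) (p := 5) (by norm_num) (by rw [h2]; norm_num)
    (by rw [h2]; norm_num)
  obtain ⟨n, -, n2, n3, n5⟩ := h3 _ _ hx
  obtain ⟨m, -, m2, m3, m5⟩ := h3 _ _ hy
  obtain rfl : n = 1728 := by clear n3 m3; omega
  obtain rfl : m = 2376 := by clear n3 m3; omega
  have k1 : ∀ a : G, orderOf a = 5 → Nat.card (Ce1 a) ∣ 40 := fun a ha => by
    obtain ⟨e, -, he⟩ := hy.No_eq
    exact ⟨e, by rw [hy.card_Ce1 ha, ← he]; omega⟩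
  refine M12.unique ⟨M12.simple_of h2 (hx.sc ?_) (by omega) fun a ha k =>
    absurd (k.trans (k1 a ha)) (by norm_num), h2⟩ h1
  obtain ⟨e, -, he⟩ := hx.No_eq
  obtain ⟨c, hc⟩ := hx.dvd_Ce1
  have k2 : c * e = 5 := by rw [hc, mul_assoc] at he; omega
  rcases (Nat.dvd_prime Nat.prime_five).1 ⟨e, k2.symm⟩ with rfl | rfl
  · exact hc
  obtain ⟨s, s1, s2⟩ := exists_ord_Ce1 (x := x) (q := 5) (hc ▸ dvd_mul_left _ _)
  exact absurd ((hx.ord ▸ dvd_Ce1 s2.symm).trans (k1 s s1)) (by norm_num)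

end Cfsg.Agent.S3593
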