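import Cfsg.Statements.S3599
import Mathlib

set_option autoImplicit false
open Cfsg

namespace Cfsg.Agent.S3599
section
open Pointwise commutatorElement Subgroup
@[ext] structure Af {F : Type} [Field F] (A : Subgroup Fˣ) where
  b : F
  a : A

section
variable {F : Type} [Field F] {A : Subgroup Fˣ}
instance : Mul (Af A) := ⟨fun x y => ⟨x.b + x.a.1 * y.b, x.a * y.a⟩⟩
@[simp] theorem mul_b (x y : Af A) : (x * y).b = x.b + x.a.1 * y.b := rfl
@[simp] theorem mul_a (x y : Af A) : (x * y).a = x.a * y.a := rfl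
instance : One (Af A) := ⟨⟨0, 1⟩⟩
@[simp] theorem one_b : (1 : Af A).b = 0 := rfl
@[simp] theorem one_a : (1 : Af A).a = 1 := rfl
instance : Inv (Af A) := ⟨fun x => ⟨-(x.a⁻¹.1 * x.b), x.a⁻¹⟩⟩
instance : Group (Af A) := Group.ofLeftAxioms (fun a b c => by ext1 <;> simp [mul_add, add_assoc, mul_assoc])
  (fun a => by ext1 <;> simp) fun a => Af.ext (neg_add_cancel _) (inv_mul_cancel _)
theorem pw (x : Af A) (n : ℕ) : x ^ n = ⟨(∑ i ∈ Finset.range n, (x.a.1 : F) ^ i) * x.b, x.a ^ n⟩ := by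
  induction n with
  | zero => ext1 <;> simp
  | succ n ih => rw [pow_succ, ih]; ext1 <;> simp [Finset.sum_range_succ, add_mul, pow_succ]
end

theorem frob {p q : ℕ} (hp : p.Prime) (hq : q.Prime) (h : p ≠ q) : ∃ (X : Type) (_ : Group X) (_ : Finite X) (V : Subgroup X),
    V.Normal ∧ (∀ v ∈ V, v ^ p = 1) ∧ (∀ x : X, x ^ q ∈ V) ∧ ∀ m, (∃ x : X, orderOf x = m) ↔ m = 1 ∨ m = p ∨ m = q := by
  haveI := Fact.mk hp
  haveI := Fact.mk hq
  obtain ⟨ζ, hζ⟩ := exists_prime_orderOf_dvd_card' (G := (GaloisField p (q - 1))ˣ) q (by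
    rw [Nat.card_units, GaloisField.card p _ (by have := hq.two_le; omega), ← Nat.totient_prime hq]
    exact (Nat.modEq_iff_dvd' (Nat.one_le_pow _ _ hp.pos)).1 (Nat.ModEq.pow_totient ((Nat.coprime_primes hp hq).2 h)).symm)
  let f : Af (zpowers ζ) →* zpowers ζ := ⟨⟨Af.a, rfl⟩, fun _ _ => rfl⟩
  have hA : ∀ a : zpowers ζ, a ^ q = 1 := fun a => (congrArg (a ^ ·) ((Nat.card_zpowers ζ).trans hζ)).symm.trans pow_card_eq_one'
  have h1 : ∀ v ∈ f.ker, v ^ p = 1 := fun v hv => by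
    have : v.a = 1 := hv
    rw [pw]; ext1 <;> simp [this]
  have h2 : ∀ x : Af (zpowers ζ), x.a ≠ 1 → x ^ q = 1 := fun x hx => by
    rw [pw, hA, geom_sum_eq fun e => hx (Subtype.ext (Units.ext e)), ← Units.val_pow_eq_pow_val, ← coe_pow, hA]
    ext1 <;> simp
  refine ⟨Af (zpowers ζ), inferInstance, Finite.of_injective (fun x => (x.b, x.a)) fun x y e =>
    Af.ext (congrArg Prod.fst e) (congrArg Prod.snd e), f.ker, inferInstance, h1, fun x => by
      rw [MonoidHom.mem_ker, map_pow, hA], fun m => ⟨?_, ?_⟩⟩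
  · rintro ⟨x, rfl⟩
    by_cases hx : x.a = 1
    · exact ((Nat.dvd_prime hp).1 (orderOf_dvd_of_pow_eq_one (h1 x hx))).imp id .inl
    · exact ((Nat.dvd_prime hq).1 (orderOf_dvd_of_pow_eq_one (h2 x hx))).imp id .inr
  · have z : (⟨ζ, mem_zpowers ζ⟩ : zpowers ζ) ≠ 1 := fun e => hq.ne_one (by
      rw [← hζ, show ζ = 1 from congrArg Subtype.val e, orderOf_one])
    rintro (rfl | rfl | rfl)
    · exact ⟨1, orderOf_one⟩
    · exact ⟨⟨1, 1⟩, orderOf_eq_prime (h1 _ rfl) fun e => one_ne_zero (congrArg Af.b e)⟩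
    · exact ⟨⟨0, _⟩, orderOf_eq_prime (h2 _ z) fun e => z (congrArg Af.a e)⟩

def R (r : ℕ) (X : Type) [Group X] : Prop :=
  ∃ (V : Subgroup X) (E : ℕ), V.Normal ∧ (∀ v ∈ V, v ^ r = 1) ∧ E.Coprime r ∧ ∀ x : X, x ^ E ∈ V

theorem R.sec {r : ℕ} {X : Type} [Group X] (h : R r X) (H : Subgroup X) (N : Subgroup H) [N.Normal] : R r (H ⧸ N) := by
  obtain ⟨V, E, _, h1, h2, h3⟩ := h
  refine ⟨(V.subgroupOf H).map (QuotientGroup.mk' N), E, Normal.map inferInstance _ (QuotientGroup.mk'_surjective N), ?_, h2,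
    fun x => ?_⟩
  · rintro _ ⟨v, hv, rfl⟩
    rw [← map_pow, show v ^ r = 1 from Subtype.ext (h1 v hv), map_one]
  · obtain ⟨x, rfl⟩ := QuotientGroup.mk'_surjective N x
    exact ⟨x ^ E, h3 x, rfl⟩

theorem lt_sec {X : Type} [Group X] [Finite X] (H : Subgroup X) (N : Subgroup H) [N.Normal] (h : H ≠ ⊤ ∨ N ≠ ⊥)
    (h4 : Nat.card X ≤ Nat.card (H ⧸ N)) : False := by
  have h5 := card_le_card_group H
  have h6 := Nat.card_le_card_of_surjective _ (QuotientGroup.mk'_surjective N)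
  refine h.elim (fun h => h (eq_top_of_card_eq _ (by omega))) fun h => h (card_eq_one.1 ?_)
  have h7 := card_eq_card_quotient_mul_card_subgroup N
  rw [show Nat.card H = Nat.card (H ⧸ N) by omega] at h7
  exact (Nat.mul_eq_left Nat.card_pos.ne').1 h7.symm

theorem R.comm {r : ℕ} {X : Type} [Group X] [Finite X] (h : R r X) {x : X} (hx : orderOf x = r) (y : X) : ⁅x, y⁆ ^ r = 1 := by
  obtain ⟨V, E, hV, h1, h2, h3⟩ := h
  have : x ∈ V := zpowers_le.2 (h3 x) (mem_zpowers_pow_iff.2 (hx ▸ h2))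
  exact h1 _ (by simpa [commutatorElement_def, mul_assoc] using V.mul_mem this (hV.conj_mem _ (V.inv_mem this) y))
end

/-- A finite group is critical with respect to a set Ω of natural numbers when its set of element orders is Ω while no proper section H/N (H a subgroup, N normal in H, (H, N) ≠ (whole group, 1)) has Ω as its set of element orders. Let s ≥ 1 and let p(j,0), p(j,1) (j < s) be 2s pairwise distinct primes, and let Ω be the set of all products c(0)·…·c(s−1) with each c(j) ∈ {1, p(j,0), p(j,1)}. Then there are 2^s pairwise non-isomorphic finite groups critical with respect to Ω. -/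
theorem result (s : ℕ) (hs : 1 ≤ s) (p : Fin s → Fin 2 → ℕ)
    (hp : ∀ j i, (p j i).Prime) (hinj : ∀ j i j' i', p j i = p j' i' → j = j' ∧ i = i') :
    ∃ (G : Fin (2 ^ s) → Type) (_ : ∀ a, Group (G a)) (_ : ∀ a, Fintype (G a)),
      (∀ a b, a ≠ b → ¬ Nonempty (G a ≃* G b)) ∧
      ∀ a, Set.range (orderOf : (G a) → ℕ) = {m : ℕ | ∃ c : Fin s → ℕ, (∀ j, c j = 1 ∨ c j = p j 0 ∨ c j = p j 1) ∧ m = ∏ j, c j} ∧
      ∀ (H : Subgroup (G a)) (N : Subgroup ↥H) [N.Normal], (H ≠ ⊤ ∨ N ≠ ⊥) → Set.range (orderOf : (↥H ⧸ N) → ℕ) ≠ {m : ℕ | ∃ c : Fin s → ℕ, (∀ j, c j = 1 ∨ c j = p j 0 ∨ c j = p j 1) ∧ m = ∏ j, c j} := by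
  open Pointwise commutatorElement Subgroup in
  classical
  set Ω := {m : ℕ | ∃ c : Fin s → ℕ, (∀ j, c j = 1 ∨ c j = p j 0 ∨ c j = p j 1) ∧ m = ∏ j, c j} with hΩ
  have dv : ∀ j i l c, (c = 1 ∨ c = p l 0 ∨ c = p l 1) → p j i ∣ c → j = l ∧ c = p j i := by
    rintro j i l _ (rfl | rfl | rfl) h
    · exact ((hp j i).not_dvd_one h).elim
    all_goals
      have := (Nat.prime_dvd_prime_iff_eq (hp _ _) (hp _ _)).1 h
      exact ⟨(hinj _ _ _ _ this).1, this.symm⟩
  have ex : ∀ a : Fin s → Fin 2, ∃ n, ∃ (X : Type) (_ : Group X) (_ : Finite X), Nat.card X = n ∧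
      Set.range (orderOf : X → ℕ) = Ω ∧ ∀ j, R (p j (a j)) X := fun a => by
    choose X _ _ V h1 h2 h3 h4 using fun j => frob (hp j (a j)) (hp j (a j + 1)) fun e => by simpa using (hinj _ _ _ _ e).2
    replace h4 : ∀ j m, (∃ x : X j, orderOf x = m) ↔ m = 1 ∨ m = p j 0 ∨ m = p j 1 := fun j m => by
      rw [h4]; generalize a j = i; fin_cases i <;> simp [or_comm]
    have o : ∀ x : ∀ j, X j, orderOf x = ∏ j, orderOf (x j) := fun x => by
      rw [Pi.orderOf, Finset.lcm_eq_prod fun j _ l _ jl => ?_]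
      obtain h | h | h := (h4 j _).1 ⟨x j, rfl⟩ <;> simp only [Function.onFun, h]
      · simp
      all_goals exact (Nat.Prime.coprime_iff_not_dvd (hp _ _)).2 fun e => jl (dv _ _ l _ ((h4 l _).1 ⟨x l, rfl⟩) e).1
    refine ⟨_, ∀ j, X j, inferInstance, inferInstance, rfl, Set.ext fun m => ⟨?_, ?_⟩, fun j => ⟨pi Set.univ fun l =>
      if l = j then V l else ⊥, ∏ u ∈ Finset.univ.erase (j, a j), p u.1 u.2, ⟨fun x hx g l _ => ?_⟩, fun v hv => funext fun l => ?_,
        Nat.Coprime.prod_left fun u hu => (Nat.coprime_primes (hp _ _) (hp _ _)).2 fun e => (Finset.mem_erase.1 hu).1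
          (Prod.ext (hinj _ _ _ _ e).1 (hinj _ _ _ _ e).2), fun x l _ => ?_⟩⟩
    · rintro ⟨x, rfl⟩
      exact ⟨_, fun j => (h4 j _).1 ⟨x j, rfl⟩, o x⟩
    · rintro ⟨c, h, rfl⟩
      choose x hx using fun j => (h4 j _).2 (h j)
      exact ⟨x, by simp [o, hx]⟩
    · have : (if l = j then V l else ⊥).Normal := by split_ifs; exacts [h1 l, inferInstance]
      exact this.conj_mem _ (hx l trivial) _
    · have : v l ∈ (if l = j then V l else ⊥) := hv l trivial
      split_ifs at this with h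
      · exact h ▸ h2 l _ this
      · simp [mem_bot.1 this]
    · show x l ^ _ ∈ (if l = j then V l else ⊥)
      split_ifs with h
      · subst h
        obtain ⟨k, hk⟩ := Finset.dvd_prod_of_mem (fun u : Fin s × Fin 2 => p u.1 u.2)
          (show (l, a l + 1) ∈ Finset.univ.erase (l, a l) by simp)
        rw [hk, pow_mul]
        exact pow_mem (h3 l _) k
      · refine mem_bot.2 (orderOf_dvd_iff_pow_eq_one.1 ?_)
        obtain e | e | e := (h4 l _).1 ⟨x l, rfl⟩ <;> rw [e]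
        · exact one_dvd _
        · exact Finset.dvd_prod_of_mem (fun u : Fin s × Fin 2 => p u.1 u.2) (a := (l, 0)) (by simp [h])
        · exact Finset.dvd_prod_of_mem (fun u : Fin s × Fin 2 => p u.1 u.2) (a := (l, 1)) (by simp [h])
  choose X _ _ h1 h2 h3 using fun a => Nat.find_spec (ex a)
  refine ⟨fun a => X (finFunctionFinEquiv.symm a), inferInstance, fun a => Fintype.ofFinite _, fun a b ab ⟨e⟩ => ?_,
    fun a => ⟨h2 _, fun H N _ h f => ?_⟩⟩
  · obtain ⟨j, hj⟩ := Function.ne_iff.1 (finFunctionFinEquiv.symm.injective.ne ab)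
    replace e : X (finFunctionFinEquiv.symm a) ≃* X (finFunctionFinEquiv.symm b) := e
    generalize finFunctionFinEquiv.symm a = a at *
    generalize finFunctionFinEquiv.symm b = b at *
    have m : ∀ i, p j i ∈ Ω := fun i => ⟨Function.update 1 j (p j i), fun l => by
      by_cases h : l = j
      · subst h; fin_cases i <;> simp
      · simp [h], by rw [Finset.prod_update_of_mem (Finset.mem_univ j)]; simp⟩
    obtain ⟨x, hx⟩ := (h2 a).ge (m (a j))
    obtain ⟨y, hy⟩ := (h2 a).ge (m (b j))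
    have c1 := (h3 a j).comm hx y
    have c2 := (h3 b j).comm ((e.orderOf_eq y).trans hy) (e x)
    rw [← map_commutatorElement, ← map_pow, MulEquiv.map_eq_one_iff, ← commutatorElement_inv, inv_pow, inv_eq_one] at c2
    have cp := (Nat.coprime_primes (hp j _) (hp j _)).2 fun e => hj (hinj _ _ _ _ e).2
    have c3 : Commute x y := commutatorElement_eq_one_iff_commute.1 (orderOf_eq_one_iff.1 (Nat.eq_one_of_dvd_coprimes cp
      (orderOf_dvd_of_pow_eq_one c1) (orderOf_dvd_of_pow_eq_one c2)))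
    obtain ⟨c, h4, h5⟩ := (h2 a).le ⟨x * y, rfl⟩
    rw [c3.orderOf_mul_eq_mul_orderOf_of_coprime (by rwa [hx, hy]), hx, hy] at h5
    obtain ⟨l, -, h6⟩ := (hp j (a j)).prime.exists_mem_finset_dvd (h5 ▸ dvd_mul_right _ _)
    obtain ⟨l', -, h7⟩ := (hp j (b j)).prime.exists_mem_finset_dvd (h5 ▸ dvd_mul_left _ _)
    obtain ⟨rfl, h8⟩ := dv _ _ _ _ (h4 l) h6
    obtain ⟨rfl, h9⟩ := dv _ _ _ _ (h4 l') h7
    exact hj (hinj _ _ _ _ (h8.symm.trans h9)).2
  · have h4 := Nat.find_min' (ex _) ⟨H ⧸ N, inferInstance, inferInstance, rfl, f, fun j => (h3 (finFunctionFinEquiv.symm a) j).sec H N⟩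
    rw [← h1] at h4
    exact lt_sec H N h h4

end Cfsg.Agent.S3599
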