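import Cfsg.Statements.S3611
import Mathlib
import Cfsg.Agent.Lib.Perm.Mod3

set_option autoImplicit false
open Cfsg

namespace Cfsg.Agent.S3611

open MulAction Subgroup Cfsg.Agent.Perm Cfsg.Agent.Perm.Md

/-- Let G be an insoluble group acting faithfully and transitively on a finite set of prime size p, and suppose the normalizer of a Sylow p-subgroup of G has order p(p-1)/2. If p ≡ 3 (mod 4), then G is triply transitive, or for any two distinct points the stabilizer of both has exactly four orbits on the set (the two fixed points and exactly two orbits on the remaining p - 2 points). -/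
theorem result {G Ω : Type*} [Group G] [Finite G] [MulAction G Ω] [FaithfulSMul G Ω] [Finite Ω]
    (p : ℕ) (hp : p.Prime) (hΩ : Nat.card Ω = p) (htrans : MulAction.IsPretransitive G Ω)
    (hins : ¬ Group.IsSolvable G) (P : Sylow p G)
    (hN : 2 * Nat.card ↥(Subgroup.normalizer ((P : Subgroup G) : Set G)) = p * (p - 1))
    (hp3 : p % 4 = 3) :
    MulAction.IsMultiplyPretransitive G Ω 3 ∨
    ∀ α β : Ω, α ≠ β →
      Nat.card (MulAction.orbitRel.Quotient ↥(MulAction.stabilizer G α ⊓ MulAction.stabilizer G β) Ω) = 4 := by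
  classical
  have := Fact.mk hp
  have := Fintype.ofFinite Ω
  obtain ⟨e, τ, hP, hτ⟩ := coord_syl hΩ P
  rw [← hP] at hN
  have h2 := two_of_not_solv hΩ hins
  refine or_iff_not_imp_right.2 fun hn => ?_
  push Not at hn
  obtain ⟨α, β, hαβ, hn⟩ := hn
  have h3 : ∀ x : Fin 2 ↪ Ω, stabilizer (normalizer (zpowers τ : Set G)) x = ⊥ :=
    sharp2_iff.2 fun a b hab g h1 h2 => by
      obtain ⟨c, d, h⟩ := aff_of_norm hτ g.2
      have h3 : e a = c * e a + d := (congrArg e h1).symm.trans (h a)
      have h4 : e b = c * e b + d := (congrArg e h2).symm.trans (h b)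
      have h5 : c = 1 := mul_right_cancel₀ (sub_ne_zero.2 (e.injective.ne hab)) (by linear_combination h4 - h3)
      exact Subtype.ext (eq_of_smul_eq_smul fun x : Ω => e.injective (by
        rw [h, OneMemClass.coe_one, one_smul, h5]; linear_combination -h3 - (e a) * h5))
  have h4 : Nat.card (orbitRel.Quotient (normalizer (zpowers τ : Set G)) (Fin 2 ↪ Ω)) = 2 := by
    have h5 := Nat.card_congr (selfEquivOrbitsQuotientProd h3)
    rw [Nat.card_prod, Nat.card_eq_fintype_card, Fintype.card_embedding_eq, ← Nat.card_eq_fintype_card (α := Ω), hΩ] at h5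
    refine Nat.eq_of_mul_eq_mul_right Nat.card_pos (h5.symm.trans ?_)
    simp [hN, mul_comm]
  have := Fintype.ofFinite (orbitRel.Quotient (normalizer (zpowers τ : Set G)) (Fin 2 ↪ Ω))
  choose s hs using fun q : orbitRel.Quotient (normalizer (zpowers τ : Set G)) (Fin 2 ↪ Ω) =>
    exists_smul_eq G (⟨_, inj2 hαβ⟩ : Fin 2 ↪ Ω) q.out
  have h5 := card_orbits_le hτ (fun h => hins (solv_of_aff h)) (stabilizer G α ⊓ stabilizer G β) s fun g => by
    obtain ⟨n, hn⟩ := Quotient.mk_out' (s₁ := orbitRel (normalizer (zpowers τ : Set G)) (Fin 2 ↪ Ω))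
      (g • ⟨_, inj2 hαβ⟩)
    have h6 := (mem_stab_emb _ _).1 (smul_eq_smul_iff_mem_stab.1
      (((mul_smul (n : G) g _).trans hn).trans (hs _).symm))
    exact ⟨n⁻¹, _, _, ⟨h6 0, h6 1⟩, aff_of_norm hτ (inv_mem n.2),
      by rw [mul_assoc, mul_inv_cancel_left, inv_mul_cancel_left]⟩
  rw [← Nat.card_eq_fintype_card, h4] at h5
  have h6 : ∀ a x : Ω, a = α ∨ a = β → x ≠ a → (Quotient.mk'' a : orbitRel.Quotient
      ↥(stabilizer G α ⊓ stabilizer G β) Ω) ≠ Quotient.mk'' x := fun a x ha hx h => by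
    obtain ⟨l, hl⟩ := Quotient.exact' h.symm
    rcases ha with rfl | rfl
    exacts [hx (hl.symm.trans l.2.1), hx (hl.symm.trans l.2.2)]
  refine three_trans_iff.2 fun a b c a' b' c' hab hac hbc hab' hac' hbc' => ?_
  obtain ⟨g, g1, g2⟩ := two_trans_iff.1 h2 a b α β hab hαβ
  obtain ⟨k, k1, k2⟩ := two_trans_iff.1 h2 a' b' α β hab' hαβ
  have h7 : (Quotient.mk'' (k • c') : orbitRel.Quotient ↥(stabilizer G α ⊓ stabilizer G β) Ω) =
      Quotient.mk'' (g • c) := by
    by_contra h7
    have := Nat.card_le_card_of_injective _ (inj4 (h6 α β (.inl rfl) hαβ.symm)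
      (h6 α (k • c') (.inl rfl) (by simp [← k1, hac'.symm])) (h6 β _ (.inr rfl) (by simp [← k2, hbc'.symm]))
      (h6 α (g • c) (.inl rfl) (by simp [← g1, hac.symm])) (h6 β _ (.inr rfl) (by simp [← g2, hbc.symm])) h7)
    simp only [Nat.card_eq_fintype_card (α := Fin _), Fintype.card_fin] at this
    exact hn (le_antisymm h5 this)
  obtain ⟨l, hl⟩ := Quotient.exact' h7
  refine ⟨k⁻¹ * l * g, ?_, ?_, ?_⟩ <;> rw [mul_smul, mul_smul, inv_smul_eq_iff]
  exacts [by rw [g1, k1]; exact l.2.1, by rw [g2, k2]; exact l.2.2, hl]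

end Cfsg.Agent.S3611
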