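import Cfsg.Statements.S3612
import Mathlib
import Cfsg.Agent.Lib.Perm.Mod4

set_option autoImplicit false
open Cfsg

namespace Cfsg.Agent.S3612

open MulAction Subgroup Cfsg.Agent.Perm Cfsg.Agent.Perm.Md

theorem no_root : ∀ x : ZMod 11, x * (1 - x) ≠ 1 := by decide

theorem sts {G Ω : Type*} [Group G] [Finite G] [MulAction G Ω] [Fintype Ω] {p : ℕ} [hp : Fact p.Prime]
    (h7 : 7 < p) {e : Ω ≃ ZMod p} {m : Ω → Ω → Ω} (h : St G m) {α β ε : Ω} (ht : Tri m α β ε)
    (hn : ∀ x y, x ≠ y → ∃ n : G, Aff e n ∧ (n • α = x ∧ n • β = y ∨ n • α = y ∧ n • β = x)) : False := by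
  classical
  have hc : Fintype.card Ω = p := by simpa using Fintype.card_congr e
  have h1 := sub_ne_zero.2 (e.injective.ne ht.1.symm)
  obtain ⟨μ, hμ⟩ : ∃ μ, e (m α β) = e α + μ * (e β - e α) := ⟨(e (m α β) - e α) / (e β - e α), by field_simp; ring⟩
  have h2 : ∀ x y, ∃ b : Bool, e (m x y) = e x + (bif b then μ else 1 - μ) * (e y - e x) := fun x y => by
    by_cases hxy : x = y
    · exact ⟨true, by simp [hxy, h.idem]⟩
    obtain ⟨n, ⟨a, b, h2⟩, ⟨rfl, rfl⟩ | ⟨rfl, rfl⟩⟩ := hn x y hxy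
    · exact ⟨true, by simp only [← h.smul, h2, hμ, cond_true]; ring⟩
    · exact ⟨false, by rw [h.comm]; simp only [← h.smul, h2, hμ, cond_false]; ring⟩
  have h3 : (3 : ZMod p) ≠ 0 := by exact_mod_cast cast_ne (n := 3) (p := p) (by omega) (by omega)
  have h4 : (2 : ZMod p) ≠ 0 := by exact_mod_cast cast_ne (n := 2) (p := p) (by omega) (by omega)
  have h5 : μ * (1 - μ) = 1 := by
    obtain ⟨b, hb⟩ := h2 α (m α β)
    obtain ⟨c, hc⟩ := h2 β (m α β)
    rw [h.canc, hμ] at hb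
    rw [h.comm α, h.canc, h.comm β, hμ] at hc
    have h5 : (bif b then μ else 1 - μ) * μ = 1 := mul_right_cancel₀ h1 (by linear_combination -hb)
    have h6 : (bif c then μ else 1 - μ) * (1 - μ) = 1 := mul_right_cancel₀ h1 (by linear_combination hc)
    cases b <;> cases c <;> simp only [cond_true, cond_false] at h5 h6
    exacts [by linear_combination h5, h6, (h3 (by linear_combination (2 * μ + 1) * (h5 - h6) - 4 * h5)).elim, h6]
  choose b hb using h2
  have h6 : ∀ b : Bool, (bif b then μ else 1 - μ) * (1 - bif b then μ else 1 - μ) = 1 := fun b => by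
    cases b
    exacts [by simp only [cond_false]; linear_combination h5, h5]
  have h8 := Finset.card_le_card_of_injOn (s := Finset.univ \ {α, β, m α β}) (t := Finset.univ)
    (fun z => (b α z, b β (m α z), b (m α β) z)) (fun _ _ => Finset.mem_coe.2 (Finset.mem_univ _)) fun z hz w hw h8 => by
      simp only [Finset.coe_sdiff, Finset.coe_univ, Set.mem_diff, Set.mem_univ, Finset.coe_insert, Finset.coe_singleton,
        Set.mem_insert_iff, Set.mem_singleton_iff, true_and, not_or, Prod.mk.injEq] at hz hw h8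
      have h9 : ¬ 3 ∣ Fintype.card Ω := fun h => by
        have := (Nat.prime_dvd_prime_iff_eq Nat.prime_three hp.out).1 (hc ▸ h); omega
      have h10 := congrArg e (h.pasch h9 (ε := z) ⟨ht.1, hz⟩)
      have h11 := congrArg e (h.pasch h9 (ε := w) ⟨ht.1, hw⟩)
      rw [hb β, hb (m α β), hb α z, h8.1, h8.2.1, h8.2.2] at h10
      rw [hb β, hb (m α β), hb α w] at h11
      have k1 := h6 (b α w)
      have k2 := h6 (b β (m α w))
      have k3 := h6 (b (m α β) w)
      generalize (bif b α w then μ else 1 - μ) = c1 at *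
      generalize (bif b β (m α w) then μ else 1 - μ) = c2 at *
      generalize (bif b (m α β) w then μ else 1 - μ) = c3 at *
      refine e.injective (mul_left_cancel₀ (a := c1 * c2 - c3) (fun h12 => ?_) (by linear_combination h10 - h11))
      obtain rfl := sub_eq_zero.1 h12
      rcases mul_eq_zero.1 (show (c1 - c2) * (c1 + c2 - 1) = 0 by linear_combination k2 - k1) with h13 | h13
      · obtain rfl := sub_eq_zero.1 h13
        have : c1 = 1 := mul_left_cancel₀ h4 (by linear_combination k3 - (c1 * c1 + c1 - 1) * k1)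
        simp [this] at k1
      · have : c1 * c2 = 1 := by linear_combination k1 + c1 * h13
        simp [this] at k3
  have h9 := Finset.le_card_sdiff ({α, β, m α β} : Finset Ω) Finset.univ
  have h10 : ({α, β, m α β} : Finset Ω).card ≤ 3 := Finset.card_le_three
  simp only [Finset.card_univ, hc, Fintype.card_prod, Fintype.card_bool] at h8 h9
  obtain rfl : p = 11 := by
    have : p ≤ 11 := by omega
    have := hp.out
    interval_cases p <;> simp_all +decide
  exact no_root μ h5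

/-- Let G be an insoluble group acting faithfully and transitively on a finite set of prime size p, and suppose the normalizer of a Sylow p-subgroup of G has order p(p-1)/2. If p > 7, then the stabilizer of a point acts primitively on the remaining p - 1 points. -/
theorem result {G Ω : Type*} [Group G] [Finite G] [MulAction G Ω] [FaithfulSMul G Ω] [Finite Ω]
    (p : ℕ) (hp : p.Prime) (hΩ : Nat.card Ω = p) (htrans : MulAction.IsPretransitive G Ω)
    (hins : ¬ Group.IsSolvable G) (P : Sylow p G)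
    (hN : 2 * Nat.card ↥(Subgroup.normalizer ((P : Subgroup G) : Set G)) = p * (p - 1))
    (hp7 : 7 < p) (α : Ω) :
    MulAction.IsPreprimitive ↥(MulAction.stabilizer G α) ↥(SubMulAction.ofStabilizer G α) := by
  classical
  have := Fact.mk hp
  have := Fintype.ofFinite Ω
  obtain ⟨e, τ, hP, hτ⟩ := coord_syl hΩ P
  rw [← hP] at hN
  have hA : ¬ ∀ g : G, Aff e g := fun h => hins (solv_of_aff h)
  have h2 := two_trans_iff.1 (two_of_not_solv hΩ hins)
  have : IsPretransitive (stabilizer G α) (SubMulAction.ofStabilizer G α) := ⟨fun x y => by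
    obtain ⟨g, h3, h4⟩ := h2 α x α y (Ne.symm x.2) (Ne.symm y.2)
    exact ⟨⟨g, h3⟩, Subtype.ext h4⟩⟩
  refine prim_of_rel fun r hr hi => ?_
  by_contra! hn
  obtain ⟨⟨⟨β, hβ⟩, ⟨δ, hδ⟩, h3, h4⟩, β', ε', h5⟩ := hn
  obtain ⟨⟨ε, hε⟩, h6⟩ : ∃ ε, ¬ r ⟨β, hβ⟩ ε := by
    obtain ⟨g, rfl⟩ := exists_smul_eq (stabilizer G α) ⟨β, hβ⟩ β'
    exact ⟨g⁻¹ • ε', fun h => h5 (by simpa using hi g _ _ h)⟩
  replace h4 : β ≠ δ := fun h => h4 (Subtype.ext h)
  replace hβ : α ≠ β := Ne.symm hβ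
  have h7 : β ≠ ε := by rintro rfl; exact h6 (hr.refl _)
  let R : Ω → Ω → Ω → Ω → Prop := fun w x y z => ∃ g : G, g • α = x ∧ g • β = y ∧ g • w = z
  have hR : ∀ (g : G) {w x y z}, R w x y z → R w (g • x) (g • y) (g • z) := by
    rintro g w _ _ _ ⟨k, rfl, rfl, rfl⟩; exact ⟨g * k, by simp [mul_smul]⟩
  have ne : ∀ {w x y z}, w ≠ α → β ≠ w → R w x y z → x ≠ y ∧ z ≠ x ∧ z ≠ y := by
    rintro w _ _ _ h1 h2 ⟨k, rfl, rfl, rfl⟩; simp [hβ, h1, h2.symm]
  have r1 : ∀ y z, R δ α y.1 z.1 → r y z := by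
    rintro _ _ ⟨g, g1, g2, g3⟩; convert hi ⟨g, g1⟩ _ _ h3 <;> exact Subtype.ext (Eq.symm ‹_›)
  have r2 : ∀ y z, R ε α y.1 z.1 → ¬ r y z := by
    rintro _ _ ⟨g, g1, g2, g3⟩ h
    refine h6 ?_
    convert hi (⟨g, g1⟩ : stabilizer G α)⁻¹ _ _ h
    exacts [eq_inv_smul_iff.2 g2, eq_inv_smul_iff.2 g3]
  have nb : ∀ {x y z}, R δ x y z → ¬ R ε x y z := by
    rintro _ _ _ ⟨g, rfl, rfl, rfl⟩ h
    exact r2 ⟨β, hβ.symm⟩ ⟨δ, hδ⟩ (by simpa using hR g⁻¹ h) h3
  have tot : ∀ {x y z}, x ≠ y → z ≠ x → z ≠ y → R δ x y z ∨ R ε x y z := fun {x y z} hxy hzx hzy => by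
    obtain ⟨g, rfl, rfl⟩ := h2 α β x y hβ hxy
    obtain ⟨z, rfl⟩ := (toPerm g).surjective z
    by_contra! h8
    have h9 : ∀ a x : Ω, a = α ∨ a = β → x ≠ a → (Quotient.mk'' a : orbitRel.Quotient
        ↥(stabilizer G α ⊓ stabilizer G β) Ω) ≠ Quotient.mk'' x := fun a x ha hx h => by
      obtain ⟨l, hl⟩ := Quotient.exact' h.symm
      rcases ha with rfl | rfl
      exacts [hx (hl.symm.trans l.2.1), hx (hl.symm.trans l.2.2)]
    have h10 : ∀ a x : Ω, ¬ R a α β x → (Quotient.mk'' a : orbitRel.Quotient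
        ↥(stabilizer G α ⊓ stabilizer G β) Ω) ≠ Quotient.mk'' x := fun a x hx h => by
      obtain ⟨l, hl⟩ := Quotient.exact' h.symm
      exact hx ⟨l, l.2.1, l.2.2, hl⟩
    have k1 := h9 α β (.inl rfl) hβ.symm
    have k2 := h9 α δ (.inl rfl) hδ
    have k3 := h9 α ε (.inl rfl) hε
    have k4 := h9 α z (.inl rfl) fun e => hzx (e ▸ rfl)
    have k5 := h9 β δ (.inr rfl) h4.symm
    have k6 := h9 β ε (.inr rfl) h7.symm
    have k7 := h9 β z (.inr rfl) fun e => hzy (e ▸ rfl)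
    have k8 := h10 δ ε fun h => nb h ⟨1, by simp⟩
    have k9 := h10 δ z fun h => h8.1 (hR g h)
    have k10 := h10 ε z fun h => h8.2 (hR g h)
    have := Fintype.ofFinite (orbitRel.Quotient ↥(stabilizer G α ⊓ stabilizer G β) Ω)
    have h11 := Finset.card_le_univ ({Quotient.mk'' α, Quotient.mk'' β, Quotient.mk'' δ, Quotient.mk'' ε,
      Quotient.mk'' z} : Finset (orbitRel.Quotient ↥(stabilizer G α ⊓ stabilizer G β) Ω))
    have := orbits_le hτ hA hN hβ
    rw [Nat.card_eq_fintype_card] at this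
    simp [Finset.card_insert_of_notMem, k1, k2, k3, k4, k5, k6, k7, k8, k9, k10] at h11
    omega
  have r3 : ∀ y z, y ≠ z → r y z → R δ α y.1 z.1 := fun y z h h' =>
    (tot (Ne.symm y.2) z.2 fun e => h (Subtype.ext e.symm)).resolve_right fun h => r2 y z h h'
  have s1 : ∀ {x y z}, R δ x y z → R δ x z y := by
    rintro _ _ _ ⟨g, rfl, rfl, rfl⟩
    exact hR g (r3 ⟨δ, hδ⟩ ⟨β, hβ.symm⟩ (fun e => h4 (congrArg Subtype.val e).symm) (hr.symm h3))
  have s2 : ∀ {x y z w}, R δ x y z → R δ x z w → y ≠ w → R δ x y w := by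
    rintro _ _ _ w ⟨g, rfl, rfl, rfl⟩ h hw
    obtain ⟨w, rfl⟩ := (toPerm g).surjective w
    replace h : R δ α δ w := by simpa using hR g⁻¹ h
    exact hR g (r3 ⟨β, hβ.symm⟩ ⟨w, (ne hδ h4 h).2.1⟩ (fun e => hw (congrArg _ (congrArg Subtype.val e)))
      (hr.trans h3 (r1 ⟨δ, hδ⟩ ⟨w, _⟩ h)))
  have s3 : ∀ {x y z}, R δ x y z → R δ y x z := by
    suffices R δ β α δ by rintro _ _ _ ⟨g, rfl, rfl, rfl⟩; exact hR g this
    by_contra h8
    replace h8 := (tot hβ.symm h4.symm hδ).resolve_left h8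
    obtain ⟨s, s1, s2⟩ := h2 α β β α hβ hβ.symm
    have h9 : R δ β α ε := (tot hβ.symm h7.symm hε).resolve_right fun h => by
      rcases tot hβ (z := s • δ) (by simp [← s2, h4.symm]) (by simp [← s1, show δ ≠ α from hδ]) with h9 | h9 <;>
        obtain ⟨g, g1, g2, g3⟩ := h9
      · exact nb ⟨s, s1, s2, rfl⟩ (by simpa [g1, g2, g3] using hR g h8)
      · exact nb ⟨s, s1, s2, rfl⟩ (by simpa [g1, g2, g3] using hR g h)
    have h10 : ∀ w w', R w' β α w → {z | R w α β z}.ncard ≤ {z | R w' α β z}.ncard := fun w w' h =>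
      Set.ncard_le_ncard_of_injOn (s⁻¹ • ·) (by
        rintro _ ⟨g, g1, g2, rfl⟩
        simpa only [Set.mem_ofPred_eq, g1, g2, inv_smul_eq_iff.2 s1.symm, inv_smul_eq_iff.2 s2.symm] using hR s⁻¹ (hR g h))
        (MulAction.injective _).injOn
    have h11 : {z | R δ α β z} ∪ {z | R ε α β z} = ({α, β} : Set Ω)ᶜ := Set.ext fun z => by
      simp only [Set.mem_union, Set.mem_ofPred_eq, Set.mem_compl_iff, Set.mem_insert_iff, Set.mem_singleton_iff, not_or]
      exact ⟨fun h => h.elim (fun h => (ne hδ h4 h).2) fun h => (ne hε h7 h).2, fun h => tot hβ h.1 h.2⟩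
    have h12 := Set.ncard_add_ncard_compl ({α, β} : Set Ω)
    rw [← h11, Set.ncard_union_eq (s := {z | R δ α β z}) (t := {z | R ε α β z}) (Set.disjoint_left.2 fun _ => nb), Set.ncard_pair hβ,
      le_antisymm (h10 _ _ h8) (h10 _ _ h9), hΩ] at h12
    have := hp.eq_two_or_odd
    omega
  have ho : ¬ Even (Nat.card (normalizer (zpowers τ : Set G))) := fun h =>
    nb (three_trans_iff.1 (three_of_even hτ hA h) _ _ _ _ _ _ hβ (Ne.symm hδ) h4 hβ (Ne.symm hε) h7) ⟨1, by simp⟩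
  let In : Ω → Ω → Ω → Prop := fun x y z => z = x ∨ z = y ∨ R δ x y z
  have i1 : ∀ {x y z}, In x y z → In y x z := fun h => by
    rcases h with h | h | h
    exacts [.inr (.inl h), .inl h, .inr (.inr (s3 h))]
  have i2 : ∀ {x y u z}, In x y u → u ≠ x → In x y z → In x u z := fun {x y u z} h hu hz => by
    rcases h with h | rfl | h
    exacts [(hu h).elim, hz, by
      rcases hz with hz | rfl | hz
      exacts [.inl hz, .inr (.inr (s1 h)), (eq_or_ne z u).elim (fun h => .inr (.inl h))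
        fun e => .inr (.inr (s2 (s1 h) hz e.symm))]]
  have i3 : ∀ {u v z}, In α β u → In α β v → u ≠ v → In α β z → In u v z := fun {u v z} hu hv huv hz => by
    by_cases h : u = α
    · subst h; exact i2 hv huv.symm hz
    · exact i2 (i1 (i2 hu h hv)) huv.symm (i1 (i2 hu h hz))
  let l : Finset Ω := Finset.univ.filter (In α β)
  have l1 : (l.card : ZMod p) ≠ 0 := cast_ne (Finset.card_pos.2 ⟨α, by simp [l, In]⟩) (by
    rw [← hΩ, Nat.card_eq_fintype_card]
    exact Finset.card_lt_univ_of_notMem (x := ε) (by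
      simpa [l, In, show ε ≠ α from hε, h7.symm] using fun h => nb h ⟨1, by simp⟩))
  have l2 : ∀ u v, In α β u → In α β v → u ≠ v → l = Finset.univ.filter (In u v) := fun u v hu hv huv => by
    obtain ⟨g, rfl, rfl⟩ := h2 α β u v hβ huv
    refine Finset.eq_of_subset_of_card_le (fun z hz => by simpa using i3 hu hv huv (by simpa [l] using hz))
      (Finset.card_le_card_of_injOn (g⁻¹ • ·) (fun z hz => ?_) (MulAction.injective _).injOn)
    simp only [Finset.coe_filter, Finset.mem_univ, true_and, Set.mem_ofPred_eq, l, In] at hz ⊢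
    rcases hz with rfl | rfl | hz
    exacts [by simp, by simp, .inr (.inr (by simpa using hR g⁻¹ hz))]
  have l3 : ∀ u v w, In α β u → In α β v → In α β w → u ≠ v → u ≠ w → v ≠ w → e u ≠ (∑ z ∈ l, e z) / l.card →
      (e w - (∑ z ∈ l, e z) / l.card) * (e v - (∑ z ∈ l, e z) / l.card) = (e u - (∑ z ∈ l, e z) / l.card) ^ 2 := by
    intro u v w hu hv hw huv huw hvw h0
    obtain ⟨n, ⟨a, b, hn⟩, h8⟩ := pair_trans hτ hN ho huv huw
    have h9 : ∑ z ∈ l, e (n • z) = ∑ z ∈ l, e z := by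
      suffices ∀ z ∈ l, n • z ∈ l from Finset.sum_nbij (n • ·) this (MulAction.injective _).injOn
        (Finset.surjOn_of_injOn_of_card_le _ this (MulAction.injective _).injOn le_rfl) fun _ _ => rfl
      intro z hz
      · have h9 : In (n • u) (n • v) (n • z) := by
          rw [l2 u v hu hv huv, Finset.mem_filter] at hz
          rcases hz.2 with rfl | rfl | hz
          exacts [.inl rfl, .inr (.inl rfl), .inr (.inr (hR n hz))]
        rw [l2 u w hu hw huw, Finset.mem_filter]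
        rcases h8 with ⟨h1, h2⟩ | ⟨h1, h2⟩ <;> rw [h1, h2] at h9
        exacts [⟨Finset.mem_univ _, h9⟩, ⟨Finset.mem_univ _, i1 h9⟩]
    simp only [hn, Finset.sum_add_distrib, ← Finset.mul_sum, Finset.sum_const, nsmul_eq_mul] at h9
    have h10 : a * ((∑ z ∈ l, e z) / l.card) + b = (∑ z ∈ l, e z) / l.card := by field_simp; linear_combination h9
    generalize (∑ z ∈ l, e z) / l.card = c at *
    rcases h8 with ⟨h1, rfl⟩ | ⟨rfl, h1⟩ <;> have h11 := (hn _).symm.trans (congrArg e h1)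
    · have : a = 1 := mul_right_cancel₀ (sub_ne_zero.2 h0) (by linear_combination h11 - h10)
      exact (hvw (e.injective (by rw [hn]; linear_combination (c - e v) * this - h10))).elim
    · rw [hn]; linear_combination (e u - c) * h11 + (e v - e u) * h10
  have l4 : ∀ z, R δ α β z → z = δ := fun z hz => by
    by_contra h8
    have h9 : ∀ u v w w', In α β u → In α β v → In α β w → In α β w' → u ≠ v → u ≠ w → v ≠ w → u ≠ w' → v ≠ w' →
        e u ≠ (∑ z ∈ l, e z) / l.card → e v ≠ (∑ z ∈ l, e z) / l.card → w = w' :=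
      fun u v w w' a1 a2 a3 a4 a5 a6 a7 a8 a9 a10 a11 => e.injective (sub_left_injective (mul_right_cancel₀
        (sub_ne_zero.2 a11) ((l3 u v w a1 a2 a3 a5 a6 a7 a10).trans (l3 u v w' a1 a2 a4 a5 a8 a9 a10).symm)))
    have j1 : In α β α := .inl rfl
    have j2 : In α β β := .inr (.inl rfl)
    have j3 : In α β δ := .inr (.inr ⟨1, by simp⟩)
    have j4 : In α β z := .inr (.inr hz)
    obtain ⟨-, j5, j6⟩ := ne hδ h4 hz
    by_cases k1 : e α = (∑ z ∈ l, e z) / l.card
    · exact j5 (h9 β δ z α j2 j3 j4 j1 h4 j6.symm (Ne.symm h8) hβ.symm hδ (k1 ▸ e.injective.ne hβ.symm)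
        (k1 ▸ e.injective.ne hδ))
    by_cases k2 : e β = (∑ z ∈ l, e z) / l.card
    · exact j6 (h9 α δ z β j1 j3 j4 j2 (Ne.symm hδ) j5.symm (Ne.symm h8) hβ h4.symm k1 (k2 ▸ e.injective.ne h4.symm))
    · exact h8 (h9 α β z δ j1 j2 j4 j3 hβ j5.symm j6.symm (Ne.symm hδ) h4 k1 k2)
  have l5 : ∀ x y, ∃ w, (x = y → w = x) ∧ (x ≠ y → ∀ z, R δ x y z ↔ z = w) := fun x y => by
    by_cases h : x = y
    · exact ⟨x, fun _ => rfl, fun h' => (h' h).elim⟩
    obtain ⟨g, rfl, rfl⟩ := h2 α β x y hβ h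
    exact ⟨g • δ, fun h' => (h h').elim, fun _ z => ⟨fun h => inv_smul_eq_iff.1 (l4 _ (by simpa using hR g⁻¹ h)),
      fun h => ⟨g, rfl, rfl, h.symm⟩⟩⟩
  choose m m1 m2 using l5
  have m3 : ∀ {x y z}, Tri m x y z → R ε x y z := fun h =>
    (tot h.1 h.2.1 h.2.2.1).resolve_left fun h' => h.2.2.2 ((m2 _ _ h.1 _).1 h')
  refine sts (G := G) (e := e) (m := m) hp7 ⟨fun x y => ?_, fun x => m1 x x rfl, fun x y => ?_, fun g x y => ?_,
    fun x y z x' y' z' h h' => ?_⟩ ⟨hβ, hε, h7.symm, fun h => nb ((m2 _ _ hβ _).2 h) ⟨1, by simp⟩⟩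
    fun x y h => pair_trans hτ hN ho hβ h
  · by_cases h : x = y
    · rw [h]
    · exact (m2 y x (Ne.symm h) _).1 (s3 ((m2 x y h _).2 rfl))
  · by_cases h : x = y
    · rw [m1 x y h, m1 x x rfl, h]
    · have := (m2 x y h _).2 rfl
      exact ((m2 _ _ (ne hδ h4 this).2.1.symm _).1 (s1 this)).symm
  · by_cases h : x = y
    · rw [m1 x y h, m1 _ _ (congrArg _ h)]
    · exact (m2 _ _ (by simpa using h) _).1 (hR g ((m2 x y h _).2 rfl))
  · obtain ⟨g, rfl, rfl, rfl⟩ := m3 h
    obtain ⟨k, rfl, rfl, rfl⟩ := m3 h'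
    exact ⟨k * g⁻¹, by simp [mul_smul]⟩

end Cfsg.Agent.S3612
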