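import Cfsg.Statements.S3613
import Mathlib
import Cfsg.Agent.Lib.Perm.Mod5
import Cfsg.Agent.S3612

set_option autoImplicit false
open Cfsg

namespace Cfsg.Agent.S3613

open MulAction Subgroup Cfsg.Agent.Perm Cfsg.Agent.Perm.Md
open scoped Pointwise

/-- Let G be an insoluble group acting faithfully and transitively on a finite set of prime size p, and suppose the normalizer of a Sylow p-subgroup of G has order p(p-1)/2. If p = q + 2 for a prime q > 5, then G is 5-fold transitive. -/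
theorem result {G Ω : Type*} [Group G] [Finite G] [MulAction G Ω] [FaithfulSMul G Ω] [Finite Ω]
    (p : ℕ) (hp : p.Prime) (hΩ : Nat.card Ω = p) (htrans : MulAction.IsPretransitive G Ω)
    (hins : ¬ Group.IsSolvable G) (P : Sylow p G)
    (hN : 2 * Nat.card ↥(Subgroup.normalizer ((P : Subgroup G) : Set G)) = p * (p - 1))
    (q : ℕ) (hq : q.Prime) (hq5 : 5 < q) (hpq : p = q + 2) :
    MulAction.IsMultiplyPretransitive G Ω 5 := by
  classical
  have := Fact.mk hp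
  have := Fact.mk hq
  have := Fintype.ofFinite Ω
  have h2 := two_of_not_solv hΩ hins
  have h3 : IsMultiplyPretransitive G Ω 3 := by
    obtain ⟨e, τ, hP, hτ⟩ := coord_syl hΩ P
    exact three_of_prime_add hq (by omega) (hpq ▸ hΩ) h2 (S3612.result p hp hΩ htrans hins P hN (by omega))
      fun α β => orbits_le hτ (fun h => hins (solv_of_aff h)) (hP ▸ hN)
  by_cases hs : ∃ α β : Ω, α ≠ β ∧ ∃ g : G, ∀ x, g • x = Equiv.swap α β x
  · obtain ⟨α, β, h, g, hg⟩ := hs
    exact multTrans_of_swap h2 h hg 5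
  suffices ∀ α β a b c c' : Ω, α ≠ β → (a ≠ α ∧ a ≠ β) → (b ≠ α ∧ b ≠ β) → (c ≠ α ∧ c ≠ β) → (c' ≠ α ∧ c' ≠ β) →
      a ≠ b → a ≠ c → b ≠ c → a ≠ c' → b ≠ c' → ∃ g : G, g • α = α ∧ g • β = β ∧ g • a = a ∧ g • b = b ∧ g • c = c' by
    refine multTrans_of_update (by omega) fun x hx i c hc => ?_
    have h4 : ∀ j k, j ≠ k → x (i.succAbove j) ≠ x (i.succAbove k) := fun j k h =>
      hx.ne (Fin.succAbove_right_injective.ne h)
    have h5 : ∀ j, x i ≠ x (i.succAbove j) := fun j => hx.ne (Fin.succAbove_ne i j).symm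
    have h6 : ∀ j, c ≠ x j := fun j e => hc ⟨j, e.symm⟩
    obtain ⟨g, h7⟩ := this _ _ _ _ (x i) c (h4 0 1 (by simp)) ⟨h4 2 0 (by simp), h4 2 1 (by simp)⟩
      ⟨h4 3 0 (by simp), h4 3 1 (by simp)⟩ ⟨h5 _, h5 _⟩ ⟨h6 _, h6 _⟩ (h4 2 3 (by simp)) (h5 _).symm (h5 _).symm
      (h6 _).symm (h6 _).symm
    refine ⟨g, h7.2.2.2.2, fun j hj => ?_⟩
    obtain ⟨j, rfl⟩ := Fin.exists_succAbove_eq hj
    fin_cases j
    exacts [h7.1, h7.2.1, h7.2.2.1, h7.2.2.2.1]
  intro α β a b c c' hβ ha hb hc hc' hab hac hbc hac' hbc'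
  let s : Set Ω := {α, β}ᶜ
  have hm : ∀ x, x ∈ s ↔ x ≠ α ∧ x ≠ β := fun x => by simp [s]
  have hL : ∀ g : G, g ∈ stabilizer G s ↔ g • α = α ∧ g • β = β ∨ g • α = β ∧ g • β = α := fun g => by
    rw [stabilizer_compl, mem_stabilizer_iff, Set.smul_set_insert, Set.smul_set_singleton, Set.pair_eq_pair_iff]
  have h4 : Nat.card s = q := by
    have := Set.ncard_add_ncard_compl ({α, β} : Set Ω)
    rw [Set.ncard_pair hβ] at this
    rw [Nat.card_coe_set_eq]; unfold s; omega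
  have : FaithfulSMul (stabilizer G s) s := ⟨fun {g k} h => by
    rw [← mul_inv_eq_one]
    have h5 : ∀ x, x ≠ α → x ≠ β → ((g * k⁻¹ : stabilizer G s) : G) • x = x := fun x h1 h2 => by
      simpa [mul_smul] using congrArg Subtype.val (h (k⁻¹ • ⟨x, (hm x).2 ⟨h1, h2⟩⟩))
    rcases (hL _).1 (g * k⁻¹).2 with h6 | h6
    · refine Subtype.ext (eq_of_smul_eq_smul fun x : Ω => ?_)
      by_cases h7 : x = α
      · simpa [h7] using h6.1
      by_cases h8 : x = β
      · simpa [h8] using h6.2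
      · simpa using h5 x h7 h8
    · refine (hs ⟨α, β, hβ, (g * k⁻¹ : stabilizer G s), fun x => ?_⟩).elim
      rw [Equiv.swap_apply_def]
      split_ifs with h7 h8
      exacts [h7 ▸ h6.1, h8 ▸ h6.2, h5 x h7 h8]⟩
  have : IsPretransitive (stabilizer G s) s := ⟨fun x y => by
    obtain ⟨g, h5, h6, h7⟩ := three_trans_iff.1 h3 α β x α β y hβ ((hm _).1 x.2).1.symm ((hm _).1 x.2).2.symm hβ
      ((hm _).1 y.2).1.symm ((hm _).1 y.2).2.symm
    exact ⟨⟨g, (hL g).2 (.inl ⟨h5, h6⟩)⟩, Subtype.ext h7⟩⟩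
  have h5 : ∀ M : Subgroup G, M ≤ stabilizer G s → (stabilizer M α).index ∣ 2 := fun M hM => by
    have h5 := Set.ncard_le_ncard (show orbit M α ⊆ {α, β} by
      rintro _ ⟨g, rfl⟩; exact ((hL g).1 (hM g.2)).imp And.left And.left)
    rw [Set.ncard_pair hβ, ← Nat.card_coe_set_eq, card_orbit_eq_index] at h5
    have := Nat.pos_of_ne_zero (FiniteIndex.index_ne_zero (H := stabilizer M α))
    interval_cases (stabilizer M α).index <;> simp
  have h6 : (stabilizer (stabilizer G s) α).index = 2 :=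
    ((Nat.dvd_prime Nat.prime_two).1 (h5 _ le_rfl)).resolve_left fun h => by
      obtain ⟨g, hg⟩ := two_trans_iff.1 h2 α β β α hβ hβ.symm
      exact hβ (((index_eq_one.1 h).ge (mem_top ⟨g, (hL g).2 (.inr hg)⟩)).symm.trans hg.1)
  obtain ⟨Q⟩ : Nonempty (Sylow q (stabilizer G s)) := inferInstance
  obtain ⟨e, τ, hQ, hτ⟩ := coord_syl h4 Q
  have h7 := three_of_even hτ (fun h => by
    obtain ⟨t, n, k1, k2, -, k3, -⟩ := syl_data h4 Q
    obtain ⟨t', n', k4, -, k5, k6, -⟩ := syl_data hΩ P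
    rw [← hQ, show normalizer (zpowers τ : Set (stabilizer G s)) = ⊤ from eq_top_iff.2 fun g _ => norm_of_aff hτ (h g),
      card_top, ← index_mul_card (stabilizer _ α), h6] at k3
    have k7 := card_eq_mul_stab (G := G) (⟨_, inj2 hβ⟩ : Fin 2 ↪ Ω)
    rw [Nat.card_eq_fintype_card (α := Fin 2 ↪ Ω), Fintype.card_embedding_eq, ← Nat.card_eq_fintype_card (α := Ω), hΩ,
      ← show Nat.card (stabilizer (stabilizer G s) α) = Nat.card (stabilizer G (⟨_, inj2 hβ⟩ : Fin 2 ↪ Ω)) from Nat.card_congr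
        ⟨fun l => ⟨l.1, (mem_stab_emb _ _).2 (Fin.forall_fin_two.2 (((hL _).1 l.1.2).resolve_right
          fun h => hβ (l.2.symm.trans h.1)))⟩, fun l => ⟨⟨l, (hL _).2 (.inl (Fin.forall_fin_two.1
            ((mem_stab_emb _ _).1 l.2)))⟩, (mem_stab_emb _ _).1 l.2 0⟩, fun _ => rfl, fun _ => rfl⟩, k4] at k7
    rw [k6, mul_left_comm, Nat.mul_right_inj hp.ne_zero] at hN
    obtain rfl : n' = q * t := Nat.eq_of_mul_eq_mul_left (show 0 < p * t' by
      exact Nat.mul_pos hp.pos (by omega)) (by rw [mul_comm, k7, ← k3]; simp [← hN]; ring)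
    have k8 : p ∣ 2 * t + 1 := (Nat.modEq_zero_iff_dvd.1 ((k5.symm.add_left (2 * t)).trans
      (Nat.modEq_zero_iff_dvd.2 ⟨t, by rw [hpq]; ring⟩)))
    have k9 : 2 ∣ t := ((Nat.coprime_primes Nat.prime_two hq).2 (by omega)).dvd_of_dvd_mul_left ⟨_, k3.symm⟩
    have k10 := Nat.le_of_dvd (by omega) k2
    obtain ⟨i, hi⟩ := k8
    obtain rfl : i = 1 := by
      have : i < 2 := by by_contra; have := Nat.mul_le_mul_left p (show 2 ≤ i by omega); omega
      have : i ≠ 0 := by rintro rfl; omega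
      omega
    have := Nat.le_of_dvd two_pos ((Nat.dvd_add_right k2).1 (show t ∣ q - 1 + 2 from ⟨2, by omega⟩))
    omega) (by
    have := normal_of_index_eq_two h6
    have h7 : (Q : Subgroup (stabilizer G s)) ≤ stabilizer _ α := relIndex_eq_one.1 (Nat.eq_one_of_dvd_coprimes
      ((Nat.coprime_primes Nat.prime_two hq).2 (by omega)) (h6 ▸ relIndex_dvd_index_of_normal _ _)
      ((relIndex_dvd_card _ _).trans (card_syl h4 Q).dvd))
    have h8 := relIndex_sup_right (normalizer ((Q : Subgroup (stabilizer G s)) : Set (stabilizer G s))) (stabilizer _ α)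
    erw [Q.normalizer_sup_eq_top' h7, relIndex_top_right, h6] at h8
    exact hQ ▸ even_iff_two_dvd.2 (h8 ▸ relIndex_dvd_card _ _))
  let M := stabilizer G s ⊓ stabilizer G a ⊓ stabilizer G b
  have h8 : ∀ x, x ∈ orbit M c ↔ x ∈ ({α, β, a, b} : Set Ω)ᶜ := fun x => by
    simp only [Set.mem_compl_iff, Set.mem_insert_iff, Set.mem_singleton_iff, not_or]
    constructor
    · rintro ⟨g, rfl⟩
      have h8 := (hm _).1 ((⟨g, g.2.1.1⟩ : stabilizer G s) • (⟨c, (hm c).2 hc⟩ : s)).2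
      exact ⟨h8.1, h8.2, fun e => hac (MulAction.injective (g : G) (g.2.1.2.trans e.symm)),
        fun e => hbc (MulAction.injective (g : G) (g.2.2.trans e.symm))⟩
    · intro h
      obtain ⟨g, h8, h9, h10⟩ := three_trans_iff.1 h7 ⟨a, (hm a).2 ha⟩ ⟨b, (hm b).2 hb⟩ ⟨c, (hm c).2 hc⟩ ⟨a, (hm a).2 ha⟩
        ⟨b, (hm b).2 hb⟩ ⟨x, (hm x).2 ⟨h.1, h.2.1⟩⟩ (by simpa) (by simpa) (by simpa) (by simpa)
        (by simpa using Ne.symm h.2.2.1) (by simpa using Ne.symm h.2.2.2)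
      exact ⟨⟨g, ⟨g.2, congrArg Subtype.val h8⟩, congrArg Subtype.val h9⟩, congrArg Subtype.val h10⟩
  obtain ⟨g, rfl⟩ := (h8 c').2 (by simp [hc', hac'.symm, hbc'.symm])
  obtain ⟨k, h9, h10⟩ := trans_of_coprime (stabilizer M α) c (Nat.Coprime.coprime_dvd_right
    (h5 M (inf_le_left.trans inf_le_left)) (by
      have := Set.ncard_add_ncard_compl ({α, β, a, b} : Set Ω)
      rw [← Set.ext h8, Set.ncard_insert_of_notMem (by simp [hβ, ha.1.symm, hb.1.symm]),
        Set.ncard_insert_of_notMem (by simp [ha.2.symm, hb.2.symm]), Set.ncard_pair hab, ← Nat.card_coe_set_eq,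
        card_orbit_eq_index] at this
      have := hq.eq_two_or_odd
      rw [Nat.coprime_two_right, Nat.odd_iff]; omega)) g
  exact ⟨k, h9, (((hL _).1 k.2.1.1).resolve_right fun h => hβ (h9.symm.trans h.1)).2, k.2.1.2, k.2.2, h10⟩

end Cfsg.Agent.S3613
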