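import Cfsg.Statements.S3614
import Mathlib
import Cfsg.Agent.Lib.Perm.Mod6
import Cfsg.Agent.Lib.Perm.Small
import Cfsg.Agent.S3613
import Cfsg.Agent.S0711
import Cfsg.Agent.S0713

set_option autoImplicit false
open Cfsg

namespace Cfsg.Agent.S3614

open MulAction Subgroup Cfsg.Agent.Perm Cfsg.Agent.Perm.Md

theorem ne_one {H : Type*} [Group H] {g : H} {s r : ℕ} (h : g ≠ 1) (hs : g ^ s = 1) (hc : s.Coprime r) : g ^ r ≠ 1 :=
  fun e => h (by simpa [hc] using pow_gcd_eq_one.2 ⟨hs, e⟩)

/-- Let G be an insoluble group acting faithfully and transitively on a finite set of prime size p, and suppose the normalizer of a Sylow p-subgroup of G has order p(p-1)/2. If p = q + 2 = 2r + 3 > 9 or p = q + 2 = 3r + 4 > 13 with q and r prime, then G is isomorphic to the alternating group of degree p. -/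
theorem result {G Ω : Type*} [Group G] [Finite G] [MulAction G Ω] [FaithfulSMul G Ω] [Finite Ω]
    (p : ℕ) (hp : p.Prime) (hΩ : Nat.card Ω = p) (htrans : MulAction.IsPretransitive G Ω)
    (hins : ¬ Group.IsSolvable G) (P : Sylow p G)
    (hN : 2 * Nat.card ↥(Subgroup.normalizer ((P : Subgroup G) : Set G)) = p * (p - 1))
    (q r : ℕ) (hq : q.Prime) (hr : r.Prime)
    (hcases : (p = q + 2 ∧ p = 2 * r + 3 ∧ 9 < p) ∨ (p = q + 2 ∧ p = 3 * r + 4 ∧ 13 < p)) :
    Nonempty (G ≃* alternatingGroup (Fin p)) := by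
  classical
  have := Fact.mk hp
  have := Fintype.ofFinite Ω
  have h5 := S3613.result p hp hΩ htrans hins P hN q hq (by omega) (by omega)
  have hc := Nat.card_eq_fintype_card.symm.trans hΩ
  obtain ⟨g, hg, S, h1, h2⟩ : ∃ g : G, g ≠ 1 ∧ ∃ S : Set Ω, (∀ y ∉ S, g • y = y) ∧
      (S.ncard ≤ 4 ∨ S.ncard = r ∧ g ^ r = 1) := by
    have := hr.two_le
    rcases hcases with ⟨-, h, h'⟩ | ⟨-, h, h'⟩
    · obtain ⟨g, hg, S, h1, h2⟩ := small_supp (G := G) (Ω := Ω) (f := 3) (m := 2) (k := 2) hr (by omega) (by omega)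
        (by omega) (by omega) (isMultiplyPretransitive_of_le (n := 5) (by omega) (by omega))
        (fun j _ _ => by interval_cases j <;> simp) (σ := finRotate 3) (σ' := Equiv.swap 0 1)
        (ne_one (s := 3) (by decide +kernel) (by decide +kernel) ((Nat.coprime_primes Nat.prime_three hr).2 (by omega)))
      exact ⟨g, hg, S, h1, h2.imp_left (by omega)⟩
    · obtain ⟨g, hg, S, h1, h2⟩ := small_supp (G := G) (Ω := Ω) (f := 4) (m := 3) (k := 6) hr (by omega) (by omega)
        (by omega) (by omega) h5 (fun j _ _ => by interval_cases j <;> simp) (σ := finRotate 4) (σ' := Equiv.swap 0 1)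
        (ne_one (s := 2) (by decide +kernel) (by decide +kernel) ((Nat.coprime_primes Nat.prime_two hr).2 (by omega)))
      exact ⟨g, hg, S, h1, h2.imp_left (by omega)⟩
  have h3 : (toPerm g : Equiv.Perm Ω).support.card ≤ S.ncard := by
    rw [Set.ncard_eq_toFinset_card']
    exact Finset.card_le_card fun y hy => by_contra fun h => by simpa using Equiv.Perm.mem_support.1 hy (h1 y (by simpa using h))
  have h4 : IsMultiplyPretransitive (toPermHom G Ω).range Ω 5 := multTrans_iff.2 fun x y hx hy => by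
    obtain ⟨k, hk⟩ := multTrans_iff.1 h5 x y hx hy
    exact ⟨⟨_, k, rfl⟩, hk⟩
  have h6 : (toPerm g : Equiv.Perm Ω) ≠ 1 := fun e => hg (eq_one_of_smul_eq (DFunLike.congr_fun e))
  have h7 : alternatingGroup Ω ≤ (toPermHom G Ω).range := by
    rcases h2 with h2 | ⟨h2, h7⟩
    · exact (S0711.result _ (by omega) (by omega) h4 (toPerm g) ⟨g, rfl⟩ h6 (by omega)).2
    have := Fact.mk hr
    have h8 : orderOf (toPerm g : Equiv.Perm Ω) = r :=
      orderOf_eq_prime ((map_pow (toPermHom G Ω) g r).symm.trans (by rw [h7, map_one])) h6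
    have h9 := Equiv.Perm.isCycle_of_prime_order (h8 ▸ hr) (by have := hr.pos; omega)
    have := (isMultiplyPretransitive_of_le (G := (toPermHom G Ω).range) (α := Ω) (n := 5) (m := 2) (by omega) (by omega))
    exact S0713.result _ (isPreprimitive_of_is_two_pretransitive this) hr (by omega) (by omega) h9
      (h9.orderOf.symm.trans h8) ⟨g, rfl⟩
  have : Nontrivial Ω := Fintype.one_lt_card_iff_nontrivial.1 (by omega)
  have h8 := index_dvd_of_le h7
  have h9 := (toPermHom G Ω).range.index_mul_card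
  rw [← Nat.card_congr (MonoidHom.ofInjective (f := toPermHom G Ω) toPerm_injective).toEquiv, Nat.card_perm, hΩ] at h9
  rw [alternatingGroup.index_eq_two] at h8
  rcases (Nat.dvd_prime Nat.prime_two).1 h8 with h | h <;> rw [h] at h9
  · obtain ⟨t, n, k4, -, k5, k6, -⟩ := syl_data hΩ P
    rw [k6, mul_left_comm, Nat.mul_right_inj hp.ne_zero] at hN
    rw [one_mul, k4, ← Nat.mul_factorial_pred hp.ne_zero, mul_left_comm, Nat.mul_right_inj hp.ne_zero] at h9
    have h10 := ZMod.wilsons_lemma p
    have h11 : ((2 * t + 1 : ℕ) : ZMod p) = 0 := by rw [show 2 * t + 1 = p by omega]; simp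
    rw [← h9, Nat.cast_mul, (ZMod.natCast_eq_natCast_iff _ _ _).2 k5] at h10
    exact (one_ne_zero (α := ZMod p) (by push_cast at h10 h11; linear_combination 2 * h10 - h11)).elim
  · exact Small.iso_alt_of_faithful hΩ (fun g => eq_one_of_smul_eq) h9

end Cfsg.Agent.S3614
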