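import Cfsg.Statements.S3619
import Mathlib
import Cfsg.Agent.Lib.Perm.PG3

set_option autoImplicit false
open Cfsg

namespace Cfsg.Agent.S3619

open Cfsg.Agent.Perm Cfsg.Agent.Perm.PG MulAction Equiv

/-- Let G act faithfully on a finite set in such a way that every non-trivial normal subgroup of G is transitive (G is quasiprimitive). Let Γ be a subset with more than one point and not the whole set, such that the pointwise stabilizer of the complement of Γ acts transitively on Γ (a Jordan set). If that pointwise stabilizer acts primitively on Γ, then G is k-fold transitive where k is one more than the number of points outside Γ (the Jordan set is a trivial one). -/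
theorem result {G Ω : Type*} [Group G] [Finite G] [MulAction G Ω] [FaithfulSMul G Ω] [Finite Ω]
    (hqp : ∀ N : Subgroup G, N.Normal → N ≠ ⊥ → MulAction.IsPretransitive ↥N Ω)
    (Γ : Set Ω) (hΓ1 : 1 < Γ.ncard) (hΓ2 : Γ.ncard < Nat.card Ω)
    (hJ : MulAction.IsPretransitive ↥(fixingSubgroup G Γᶜ) ↥(SubMulAction.ofFixingSubgroup G Γᶜ))
    (hJp : MulAction.IsPreprimitive ↥(fixingSubgroup G Γᶜ) ↥(SubMulAction.ofFixingSubgroup G Γᶜ)) :
    MulAction.IsMultiplyPretransitive G Ω (Nat.card Ω - Γ.ncard + 1) := by
  have hj := jor_iff.1 hJ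
  obtain ⟨a, ha, b, hb, hab⟩ := (Set.one_lt_ncard).1 hΓ1
  obtain ⟨t, ht1, ht2⟩ := hj a ha b hb
  have ht : t ≠ 1 := by rintro rfl; exact hab (by simpa using ht2)
  have : IsPretransitive G Ω := ⟨fun x y => by
    obtain ⟨g, hg⟩ := (hqp ⊤ inferInstance (fun e => ht (Subgroup.mem_bot.1 (e ▸ Subgroup.mem_top t)))).exists_smul_eq x y
    exact ⟨g, hg⟩⟩
  have hp : IsPreprimitive G Ω := prim_of_rel fun r hr hi => by
    by_contra hcon
    rw [not_or] at hcon
    let K : Subgroup G :=
      { carrier := {g | ∀ x, r x (g • x)}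
        one_mem' := fun x => by simpa using hr.refl x
        mul_mem' := fun {g k} hg hk x => by rw [mul_smul]; exact hr.trans (hk x) (hg _)
        inv_mem' := fun {g} hg x => by simpa using hr.symm (hg (g⁻¹ • x)) }
    have hK : K.Normal := ⟨fun g hg k x => by simpa [mul_smul] using hi k _ _ (hg (k⁻¹ • x))⟩
    have htK : t ∈ K := by
      intro x
      by_cases hx : x ∈ Γ
      swap
      · rw [ht1 x hx]; exact hr.refl x
      have hx2 : t • x ∈ Γ := by
        by_contra e
        exact e (by rw [smul_left_cancel t (ht1 _ e)]; exact hx)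
      rcases prim_rel (G := fixingSubgroup G Γᶜ) (fun x y : SubMulAction.ofFixingSubgroup G Γᶜ => r x y)
        ⟨fun x => hr.refl _, hr.symm, hr.trans⟩ (fun g x y h => hi g _ _ h) with h | h
      · have h1 := hcon.1
        push Not at h1
        obtain ⟨u, v, huv, hne⟩ := h1
        obtain ⟨g, rfl⟩ := exists_smul_eq G u x
        have h2 : g • v ∉ Γ := fun e => hne (smul_left_cancel g (congrArg Subtype.val
          (h ⟨_, fun e => e hx⟩ ⟨_, fun e' => e' e⟩ (hi g _ _ huv))))
        have h3 := hi t _ _ (hi g _ _ huv)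
        rw [ht1 _ h2] at h3
        exact hr.trans (hi g _ _ huv) (hr.symm h3)
      · exact h ⟨x, fun e => e hx⟩ ⟨_, fun e => e hx2⟩
    refine hcon.2 fun x y => ?_
    obtain ⟨g, rfl⟩ := (hqp K hK (fun e => ht (Subgroup.mem_bot.1 (e ▸ htK)))).exists_smul_eq x y
    exact g.2 x
  have := Set.ncard_add_ncard_compl Γ
  have h2 := hp.isMultiplyPreprimitive (s := Γᶜ) (n := Γᶜ.ncard - 1) (by omega) (by omega) hJp
  convert h2.isMultiplyPretransitive using 1
  omega

end Cfsg.Agent.S3619
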