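import Cfsg.Statements.S3627
import Cfsg.Agent.Lib.J2.J1

set_option autoImplicit false
open Cfsg

namespace Cfsg.Agent.S3627

set_option linter.unusedSectionVars false
set_option linter.unusedVariables false
set_option linter.style.haveILetI false
set_option linter.unusedSimpArgs false

/-- Let J be the first Janko group. Then there are finite groups of arbitrarily large order with exactly the same set of element orders as J × J × J × J. -/
theorem result (N : ℕ) : ∃ (H : Type) (_ : Group H) (_ : Fintype H), N < Fintype.card H ∧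
      Set.range (orderOf : H → ℕ) = Set.range (orderOf : ↥Cfsg.Spor.J1 × ↥Cfsg.Spor.J1 × ↥Cfsg.Spor.J1 × ↥Cfsg.Spor.J1 → ℕ) := by
  have i := Fintype.ofFinite (Ct.J1.P × Ct.J1.P × Ct.J1.P × Ct.J1.En.Dh N)
  exact ⟨_, inferInstance, i, by rw [← Nat.card_eq_fintype_card]; exact (Ct.J1.En.res N).1, (Ct.J1.En.res N).2⟩

end Cfsg.Agent.S3627
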