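import Cfsg.Statements.S3643
import Cfsg.Agent.Lib.Block.M12h

set_option autoImplicit false
open Cfsg

namespace Cfsg.Agent.S3643

open Cfsg.Agent.Blk
open Cfsg.Agent.Char hiding cj cj_mul cj_inv_cj cj_cj_inv

/-- Let G be a finite group of the same order as the Mathieu group M₁₂ whose character degree graph equals that of M₁₂ (same primes dividing some irreducible complex character degree, same pairs of distinct primes whose product divides some degree). Then G is isomorphic to M₁₂ or to the direct product of the alternating group of degree 4 with M₁₁. -/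
theorem result {G : Type*} [Group G] [Finite G] (hcard : Nat.card G = Nat.card ↥Cfsg.Spor.M12) (hΔ : Cfsg.degreePrimes G = Cfsg.degreePrimes ↥Cfsg.Spor.M12 ∧ Cfsg.degreeGraph G = Cfsg.degreeGraph ↥Cfsg.Spor.M12) :
    Nonempty (G ≃* ↥Cfsg.Spor.M12) ∨ Nonempty (G ≃* alternatingGroup (Fin 4) × ↥Cfsg.Spor.M11) := by
  have h1 := M12.Dv.isM12
  have := h1.1
  obtain ⟨α, β, γ, ε, θ, θ', μ, ν, π, κ, κ', R, y, s, h⟩ := M12.exists_T12 h1.2
  obtain ⟨ρ, hρ⟩ := Finset.card_pos.1 (h.cR ▸ by norm_num : 0 < R.card)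
  obtain ⟨-, -, -, _, ⟨χ, rfl⟩, k1⟩ : (degreeGraph G).Adj 5 11 := hΔ.2 ▸ ⟨by norm_num, by norm_num,
    by norm_num, _, ⟨ρ, h.dR ρ hρ⟩, by norm_num⟩
  obtain ⟨-, -, -, _, ⟨ψ, rfl⟩, k2⟩ : (degreeGraph G).Adj 3 11 := hΔ.2 ▸ ⟨by norm_num, by norm_num,
    by norm_num, _, ⟨μ, h.dμ⟩, by norm_num⟩
  have e : Shrink.{0} G ≃* G := Shrink.mulEquiv
  have : Finite (Shrink.{0} G) := Finite.of_equiv _ e.toEquiv.symm
  exact (M12.Dv.main (χ := ⟨_, χ.2.comp_equiv e⟩) (ψ := ⟨_, ψ.2.comp_equiv e⟩)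
    ((Nat.card_congr e.toEquiv).trans (hcard.trans h1.2)) (by simpa [charDegree] using k1)
    (by simpa [charDegree] using k2)).imp (fun ⟨f⟩ => ⟨e.symm.trans f⟩) fun ⟨f⟩ => ⟨e.symm.trans f⟩

end Cfsg.Agent.S3643
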