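import Cfsg.Statements.S3660
import Mathlib
import Cfsg.Agent.Lib.Perm.Sp1

set_option autoImplicit false
open Cfsg

namespace Cfsg.Agent.S3660



/-- The prime graph of a finite group has the prime divisors of its order as vertices, two distinct primes p, q being joined when the group has an element of order pq; two groups have the same prime graph when they have the same prime divisors and the same joined pairs. Let F be a finite field of characteristic 2 with at least 4 elements. Then there are finite groups of arbitrarily large order with the same prime graph as PSL(2,F); in particular PSL(2,F) is not determined by its prime graph. -/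
theorem result {F : Type*} [Field F] [Fintype F] [CharP F 2] (hF : 4 ≤ Fintype.card F) (N : ℕ) :
    ∃ (H : Type) (_ : Group H) (_ : Finite H), N < Nat.card H ∧
      ((∀ p : ℕ, p.Prime → (p ∣ Nat.card (Matrix.ProjectiveSpecialLinearGroup (Fin 2) F) ↔ p ∣ Nat.card H)) ∧
      (∀ p q : ℕ, p.Prime → q.Prime → p ≠ q → ((∃ g : (Matrix.ProjectiveSpecialLinearGroup (Fin 2) F), orderOf g = p * q) ↔ (∃ g : H, orderOf g = p * q)))) := by
  obtain ⟨K, _, _, h1, h2⟩ := Perm.Sp.exists_large (F := F) CharTwo.two_eq_zero N
  have h3 : 2 ∈ Set.range (orderOf : Perm.GL2.PSL2 F → ℕ) := by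
    rw [Perm.GL2.spec_PSL2 2]; exact Or.inl dvd_rfl
  refine ⟨K, inferInstance, inferInstance, by rwa [Nat.card_eq_fintype_card], fun p hp => ?_,
    fun p q hp hq hpq => ?_⟩
  · rw [Perm.prime_dvd_card_iff_mem_spec hp, Perm.prime_dvd_card_iff_mem_spec hp, h2]
    refine ⟨Or.inr, fun h => h.elim (fun h => ?_) id⟩
    rwa [(Nat.prime_dvd_prime_iff_eq hp Nat.prime_two).1 (hp.dvd_of_dvd_pow (n := 2) h)]
  · change p * q ∈ Set.range _ ↔ p * q ∈ Set.range _
    rw [h2]
    refine ⟨Or.inr, fun h => h.elim (fun h => (hpq ?_).elim) id⟩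
    rw [(Nat.prime_dvd_prime_iff_eq hp Nat.prime_two).1 (hp.dvd_of_dvd_pow (n := 2) (dvd_of_mul_right_dvd h)),
      (Nat.prime_dvd_prime_iff_eq hq Nat.prime_two).1 (hq.dvd_of_dvd_pow (n := 2) (dvd_of_mul_left_dvd h))]

end Cfsg.Agent.S3660
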