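import Cfsg.Statements.S3664
import Cfsg.Agent.Lib.Ez.I3
import Cfsg.Agent.S3444

set_option autoImplicit false
open Cfsg

namespace Cfsg.Agent.S3664

/-- The prime graph of a finite group has the prime divisors of its order as vertices, two distinct primes p, q being joined when the group has an element of order pq; two groups have the same prime graph when they have the same prime divisors and the same joined pairs. Let F be the field with 3 elements and L = PSp(6,F). There are finite groups of arbitrarily large order with the same prime graph as L (a prime graph shared by the orthogonal groups Ω₇(3) and PΩ⁺₈(3)). -/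
theorem result {F : Type*} [Field F] [Fintype F] (hF : Fintype.card F = 3) (N : ℕ) :
    ∃ (H : Type) (_ : Group H) (_ : Finite H), N < Nat.card H ∧
      ((∀ p : ℕ, p.Prime → (p ∣ Nat.card (Cfsg.PSp 3 F) ↔ p ∣ Nat.card H)) ∧
      (∀ p q : ℕ, p.Prime → q.Prime → p ≠ q → ((∃ g : (Cfsg.PSp 3 F), orderOf g = p * q) ↔ (∃ g : H, orderOf g = p * q)))) := by
  haveI := Fintype.ofFinite (GaloisField 2 3)
  have h4 : Fintype.card (GaloisField 2 3) = 2 ^ (2 * 1 + 1) :=
    Nat.card_eq_fintype_card.symm.trans (GaloisField.card 2 3 (by simp))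
  obtain ⟨G, _, _, K, _, h1, h2, h3⟩ := Ez.exists_pgr (Suz.szA le_rfl h4) rfl
  obtain ⟨H, _, _, h5, h6⟩ := S3444.result K h1 h2 N
  have a := Ez.S63.pgr' hF
  have b := h3.of_range h6
  exact ⟨H, inferInstance, inferInstance, by rwa [Nat.card_eq_fintype_card],
    fun p hp => (a.dvd_iff hp).trans (b.dvd_iff hp).symm,
    fun p q hp hq hn => (a.ord_iff hp hq hn).trans (b.ord_iff hp hq hn).symm⟩

end Cfsg.Agent.S3664
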