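import Cfsg.Statements.S3669
import Mathlib
import Cfsg.Agent.Lib.Perm.GL2i
import Cfsg.Agent.Lib.Perm.Dick5
import Cfsg.Agent.Lib.Perm.Small
import Cfsg.Agent.S0169
import Cfsg.Agent.S0494

set_option autoImplicit false
open Cfsg

namespace Cfsg.Agent.S3669

open Subgroup Cfsg.Agent.Perm Cfsg.Agent.Perm.SylNum

theorem syl_one_small {H : Type*} [Group H] [Finite H] [Fact (Nat.Prime 5)] {m : ℕ}
    (h : Nat.card H = 5 * m) (hm : m < 5) : Nat.card (Sylow 5 H) = 1 := by
  have h0 : m ≠ 0 := by rintro rfl; exact Nat.card_pos.ne' h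
  have h5 : ¬ 5 ∣ m := by omega
  obtain ⟨P⟩ : Nonempty (Sylow 5 H) := inferInstance
  have hP := card_sylow_eq_prime h h5 P
  have a := P.card_dvd_index
  have b := (P : Subgroup H).card_mul_index
  have d := card_sylow_modEq_one 5 H
  unfold Nat.ModEq at d
  rw [hP, h] at b
  have e : (P : Subgroup H).index = m := by omega
  rw [e] at a
  have := Nat.le_of_dvd (by omega) a
  omega

theorem syl_one {H : Type*} [Group H] [Finite H] [Fact (Nat.Prime 5)] {m : ℕ}
    (h : Nat.card H = 5 * m) (hm : m < 5 ∨ m = 6) : Nat.card (Sylow 5 H) = 1 := by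
  rcases hm with hm | rfl
  · exact syl_one_small h hm
  haveI : Fact (Nat.Prime 2) := ⟨by norm_num⟩
  obtain ⟨P⟩ : Nonempty (Sylow 2 H) := inferInstance
  have hP := card_sylow_eq_prime (m := 15) (by omega) (by omega) P
  have hc : IsCyclic P := isCyclic_of_prime_card hP
  have hmin : (Nat.card H).minFac = 2 := by rw [h]; norm_num
  have hK := hc.isComplement' hmin
  set K := (MonoidHom.transferSylow P (hc.normalizer_le_centralizer hmin)).ker
  have hi : K.index = 2 := by rw [hK.symm.index_eq_card, hP]
  have b := K.card_mul_index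
  rw [hi, h] at b
  rw [← card_syl_normal K (by rw [hi]; norm_num)]
  exact syl_one_small (m := 3) (by omega) (by norm_num)

theorem simple_sixty {G : Type*} [Group G] [Finite G] [Fact (Nat.Prime 5)] (hc : Nat.card G = 60)
    (h5 : Nat.card (Sylow 5 G) ≠ 1) : IsSimpleGroup G := by
  haveI : Nontrivial G := Finite.one_lt_card_iff_nontrivial.1 (by omega)
  have hP : ∀ P : Sylow 5 G, Nat.card (P : Subgroup G) = 5 :=
    card_sylow_eq_prime (m := 12) (by omega) (by omega)
  have h6 : Nat.card (Sylow 5 G) = 6 := by
    obtain ⟨P⟩ : Nonempty (Sylow 5 G) := inferInstance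
    have a := P.card_dvd_index
    have b := (P : Subgroup G).card_mul_index
    have d := card_sylow_modEq_one 5 G
    unfold Nat.ModEq at d
    rw [hP, hc] at b
    have e : (P : Subgroup G).index = 12 := by omega
    rw [e] at a
    have := Nat.le_of_dvd (by omega) a
    interval_cases h : Nat.card (Sylow 5 G) <;> omega
  have hN : ∀ P : Sylow 5 G, Nat.card (normalizer ((P : Subgroup G) : Set G)) = 10 := fun P => by
    have b := (normalizer ((P : Subgroup G) : Set G)).card_mul_index
    rw [← card_syl, h6, hc] at b; omega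
  refine ⟨fun N hN0 => ?_⟩
  by_contra hne
  push Not at hne
  obtain ⟨h1, h2⟩ := hne
  have b := N.card_mul_index
  rw [hc] at b
  have a1 : Nat.card N ≠ 1 := fun h => h1 (card_eq_one.1 h)
  have a2 : N.index ≠ 1 := fun h => h2 (index_eq_one.1 h)
  by_cases hd : 5 ∣ Nat.card N
  · obtain ⟨m, hm⟩ := hd
    have h3 : m * N.index = 12 := by rw [hm, mul_assoc] at b; omega
    have h4 : N.index ∣ 12 := Dvd.intro_left _ h3
    have h7 := Nat.le_of_dvd (by norm_num) h4
    apply h5
    rw [← card_syl_normal N (by interval_cases N.index <;> omega)]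
    exact syl_one hm (by interval_cases N.index <;> omega)
  · have h3 : 5 ∣ N.index := ((Nat.Prime.dvd_mul (by norm_num)).1 (b ▸ (by norm_num : 5 ∣ 60))).resolve_left hd
    obtain ⟨m, hm⟩ := h3
    have h4 : Nat.card N * m = 12 := by rw [hm, mul_left_comm] at b; omega
    have h7 : Nat.card N ≤ 12 := Nat.le_of_dvd (by norm_num) (Dvd.intro _ h4)
    obtain ⟨P⟩ : Nonempty (Sylow 5 G) := inferInstance
    have h8 : Nat.card (Sylow 5 (G ⧸ N)) = 1 :=
      syl_one (m := m) (by rw [← index_eq_card, hm]) (by interval_cases Nat.card N <;> omega)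
    rw [card_syl_quot P N, index_eq_one] at h8
    have h9 : N.index ∣ 10 := by
      rw [← relIndex_top_right, ← h8, relIndex_sup_right, ← hN P]
      exact relIndex_dvd_card _ _
    have h10 : m ∣ 2 := Nat.dvd_of_mul_dvd_mul_left (by norm_num : 0 < 5) (hm ▸ h9)
    have h11 := Nat.le_of_dvd (by norm_num) h10
    haveI : Fact (Nat.Prime 3) := ⟨by norm_num⟩
    obtain ⟨Q⟩ : Nonempty (Sylow 3 G) := inferInstance
    have hQ := card_sylow_eq_prime (m := 20) (by omega) (by omega) Q
    have h12 : Nat.card (Sylow 3 G) ∣ 4 := by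
      rw [← card_syl_normal N (by interval_cases m <;> omega)]
      obtain ⟨R⟩ : Nonempty (Sylow 3 N) := inferInstance
      have a := R.card_dvd_index
      have c := (R : Subgroup N).card_mul_index
      have hR := card_sylow_eq_prime (m := 4 / m) (by interval_cases m <;> omega)
        (by interval_cases m <;> omega) R
      rw [hR] at c
      refine a.trans ?_
      have : (R : Subgroup N).index = 4 / m := by interval_cases m <;> omega
      rw [this]; interval_cases m <;> omega
    have c := (normalizer ((Q : Subgroup G) : Set G)).card_mul_index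
    rw [← card_syl, hc] at c
    have h13 : 5 ∣ Nat.card (normalizer ((Q : Subgroup G) : Set G)) := by
      have := Nat.le_of_dvd (by norm_num) h12
      interval_cases Nat.card (Sylow 3 G) <;> omega
    obtain ⟨x, hx⟩ := exists_prime_orderOf_dvd_card' 5 h13
    rw [← Subgroup.orderOf_coe] at hx
    have hxc := mem_centralizer_of_coprime (by norm_num) hQ x.2 (by rw [hx]; norm_num)
    obtain ⟨y, hy⟩ := exists_prime_orderOf_dvd_card' (G := (Q : Subgroup G)) 3 (by rw [hQ])
    have hp : IsPGroup 5 (zpowers (x : G)) := IsPGroup.of_card (n := 1) (by rw [Nat.card_zpowers, hx, pow_one])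
    obtain ⟨R, hR⟩ := hp.exists_le_sylow
    have hR2 : zpowers (x : G) = R := eq_of_le_of_card_ge hR (by rw [hP, Nat.card_zpowers, hx])
    have hy2 : (y : G) ∈ normalizer ((R : Subgroup G) : Set G) := by
      apply centralizer_le_normalizer
      rw [← hR2]
      rintro _ ⟨k, rfl⟩
      exact (Commute.zpow_left (hxc y y.2).symm k)
    have := (normalizer ((R : Subgroup G) : Set G)).orderOf_dvd_natCard hy2
    rw [hN, Subgroup.orderOf_coe, hy] at this
    omega

/-- The character degree graph of a finite group has as vertices the primes dividing some irreducible complex character degree, two distinct primes being joined when their product divides some irreducible character degree; two groups have the same character degree graph when they have the same vertices and the same joined pairs. A finite group of order 60 with the same character degree graph as the alternating group A₅ (whose character degrees are 1, 3, 4, 5, so the graph has vertices 2, 3, 5 and no edges) is isomorphic to A₅. -/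
theorem result {G : Type*} [Group G] [Finite G] (hcard : Nat.card G = 60)
    (hΓ : Cfsg.degreePrimes G = Cfsg.degreePrimes (alternatingGroup (Fin 5)) ∧ Cfsg.degreeGraph G = Cfsg.degreeGraph (alternatingGroup (Fin 5))) : Nonempty (G ≃* alternatingGroup (Fin 5)) := by
  haveI : Fact (Nat.Prime 5) := ⟨by norm_num⟩
  haveI : Fact (Nat.Prime 2) := ⟨by norm_num⟩
  haveI : Fintype (GaloisField 2 2) := Fintype.ofFinite _
  have h4 : Fintype.card (GaloisField 2 2) = 4 := by
    rw [← Nat.card_eq_fintype_card, GaloisField.card 2 2 (by norm_num)]; norm_num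
  obtain ⟨e⟩ := GL2.iso_PSL2_A5 (F := GaloisField 2 2) (Or.inl h4)
  have h5 : 5 ∈ degreePrimes G := by
    rw [hΓ.1, (GL2.graph_facts (F := GaloisField 2 2) (by omega) (by omega) (Or.inl ⟨e.symm⟩)).1, h4]
    exact ⟨by norm_num, by norm_num⟩
  obtain ⟨-, d, ⟨⟨χ, n, ρ, hρ, rfl⟩, rfl⟩, hd⟩ := h5
  have hn : charDegree ρ.character = n := GL2.charDegree_eq (by
    rw [Representation.char_one]; simp)
  haveI := simple_sixty hcard (fun h => by
    obtain ⟨P⟩ : Nonempty (Sylow 5 G) := inferInstance
    have hP := card_sylow_eq_prime (m := 12) (by omega) (by omega) P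
    rw [card_syl P, index_eq_one] at h
    haveI : (P : Subgroup G).Normal := normalizer_eq_top_iff.1 h
    haveI : IsCyclic (P : Subgroup G) := isCyclic_of_prime_card hP
    have h1 := S0169.result ρ (P : Subgroup G) (fun a ha b hb =>
      congrArg Subtype.val (IsCyclic.commutative.is_comm.comm (⟨a, ha⟩ : (P : Subgroup G)) ⟨b, hb⟩))
    have b := (P : Subgroup G).card_mul_index
    rw [hP, hcard] at b
    have h2 : (P : Subgroup G).index = 12 := by omega
    rw [h2, Module.finrank_fin_fun] at h1
    have := (hn ▸ hd : 5 ∣ n).trans h1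
    omega)
  exact S0494.result hcard

end Cfsg.Agent.S3669
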