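import Cfsg.Statements.S3670
import Cfsg.Agent.Lib.Block.U33c
import Cfsg.Agent.S2366
import Cfsg.Agent.S0283
import Cfsg.Agent.S0280

set_option autoImplicit false
open Cfsg

namespace Cfsg.Agent.S3670

open Cfsg.Agent.Blk
open Cfsg.Agent.Char hiding cj cj_mul cj_inv_cj cj_cj_inv

/-- The character degree graph of a finite group has as vertices the primes dividing some irreducible complex character degree, two distinct primes being joined when their product divides some irreducible character degree; two groups have the same character degree graph when they have the same vertices and the same joined pairs. Let F be the field with 9 elements and L = PSU(3,3) realised over F (order 6048). There is a finite solvable group of order 6048 with the same character degree graph as L; so L is not determined by its order together with its character degree graph. -/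
theorem result {F : Type*} [Field F] [Fintype F] (hF : Fintype.card F = 9) :
    ∃ (H : Type) (_ : Group H) (_ : Fintype H), Group.IsSolvable H ∧ Nat.card H = 6048 ∧ Cfsg.degreePrimes H = Cfsg.degreePrimes (Cfsg.PSU 3 F 3) ∧ Cfsg.degreeGraph H = Cfsg.degreeGraph (Cfsg.PSU 3 F 3) := by
  have : Fact (Nat.Prime 3) := ⟨Nat.prime_three⟩
  have := charP_of_card_eq_prime_pow (p := 3) (f := 2) hF
  have := S0283.result (q := 3) hF 3 le_rfl (by norm_num)
  have c : Nat.card (PSU 3 F 3) = 6048 := by
    have := S0280.result (q := 3) hF 3 (by norm_num)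
    simp [Finset.prod_range_succ] at this
    omega
  have : Finite (PSU 3 F 3) := Nat.finite_of_card_ne_zero (by rw [c]; norm_num)
  obtain ⟨x, hx⟩ := exists_prime_orderOf_dvd_card' (G := PSU 3 F 3) 7 (by rw [c]; norm_num)
  obtain ⟨α, β, θ, θ', h⟩ := U33.exists_B7 c (x := x) ⟨by norm_num, hx, by_contra fun k => by
    obtain ⟨s, s1, s2, s3⟩ := exists_reg hx (by rw [c]; norm_num) k
    have o := s3.orderOf_mul_eq_mul_orderOf_of_coprime
      (hx ▸ (Nat.Prime.coprime_iff_not_dvd (by norm_num)).2 s2)
    have m := (S2366.result 3 (by norm_num) 3 hF).le ⟨x * s, rfl⟩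
    rw [o, hx] at m
    have := mt orderOf_eq_one_iff.1 s1
    have := orderOf_pos s
    norm_num at m
    rcases m with ((m | m) | m) | m <;> have := Nat.le_of_dvd (by norm_num) m <;> omega⟩
  obtain ⟨χ, ψ, k1, k2⟩ := h.degs
  obtain ⟨H, _, _, h1, h2, h3⟩ := U33.exists_sol
  obtain ⟨a1, a2⟩ := U33.graph_eq c ⟨_, ⟨α, h.dα⟩, dvd_rfl⟩ ⟨_, ⟨χ, k1⟩, dvd_rfl⟩ ⟨_, ⟨ψ, k2⟩, dvd_rfl⟩
  obtain ⟨b1, b2⟩ := U33.graph_eq h2 ⟨_, h3, by norm_num⟩ ⟨_, h3, by norm_num⟩ ⟨_, h3, by norm_num⟩
  exact ⟨H, _, inferInstance, h1, h2, b1.trans a1.symm, SimpleGraph.ext (by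
    ext p q; rw [a2, b2])⟩

end Cfsg.Agent.S3670
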