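import Cfsg.Statements.S3678
import Mathlib
import Cfsg.Agent.S3660

set_option autoImplicit false
open Cfsg

namespace Cfsg.Agent.S3678



/-- The prime graph of a finite group has the prime divisors of its order as vertices, two distinct primes p, q being joined when the group has an element of order pq; two groups have the same prime graph when they have the same prime divisors and the same joined pairs. Let F be the field with 7 elements. There are finite groups of arbitrarily large order with the same prime graph as PSL(2,F) (the graph on {2, 3, 7} with no edges, which is also the prime graph of PSL(2,8)). -/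
theorem result {F : Type*} [Field F] [Fintype F] (hF : Fintype.card F = 7) (N : ℕ) :
    ∃ (H : Type) (_ : Group H) (_ : Finite H), N < Nat.card H ∧
      ((∀ p : ℕ, p.Prime → (p ∣ Nat.card (Matrix.ProjectiveSpecialLinearGroup (Fin 2) F) ↔ p ∣ Nat.card H)) ∧
      (∀ p q : ℕ, p.Prime → q.Prime → p ≠ q → ((∃ g : (Matrix.ProjectiveSpecialLinearGroup (Fin 2) F), orderOf g = p * q) ↔ (∃ g : H, orderOf g = p * q)))) := by
  letI := Fintype.ofFinite (GaloisField 2 3)
  have hK : Fintype.card (GaloisField 2 3) = 8 := by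
    rw [← Nat.card_eq_fintype_card, GaloisField.card 2 3 three_ne_zero]; rfl
  obtain ⟨H, _, _, h1, h2, h3⟩ := S3660.result (F := GaloisField 2 3) (by omega) N
  haveI : Fact (Nat.Prime 7) := ⟨by norm_num⟩
  haveI : CharP F 7 := charP_of_card_eq_prime hF
  have h4 := Perm.GL2.spec_PSL2 (F := F) 7
  have h5 := Perm.GL2.spec_PSL2 (F := GaloisField 2 3) 2
  rw [hF] at h4
  rw [hK] at h5
  norm_num at h4 h5
  have h6 : ∀ p q k r : ℕ, p.Prime → q.Prime → p ≠ q → r.Prime → ¬ p * q ∣ r ^ k := fun p q k r hp hq hpq hr h =>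
    hpq (((Nat.prime_dvd_prime_iff_eq hp hr).1 (hp.dvd_of_dvd_pow (dvd_of_mul_right_dvd h))).trans
      ((Nat.prime_dvd_prime_iff_eq hq hr).1 (hq.dvd_of_dvd_pow (dvd_of_mul_left_dvd h))).symm)
  refine ⟨H, inferInstance, inferInstance, h1, fun p hp => ?_, fun p q hp hq hpq => ?_⟩
  · rw [← h2 p hp, Perm.prime_dvd_card_iff_mem_spec hp, Perm.prime_dvd_card_iff_mem_spec hp, h4, h5]
    simp only [Set.mem_setOf_eq]
    rw [show 4 = 2 ^ 2 by rfl, show 9 = 3 ^ 2 by rfl, hp.prime.dvd_pow_iff_dvd two_ne_zero,
      hp.prime.dvd_pow_iff_dvd two_ne_zero]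
    tauto
  · rw [← h3 p q hp hq hpq]
    change p * q ∈ Set.range _ ↔ p * q ∈ Set.range _
    rw [h4, h5]
    have a2 := h6 p q 1 2 hp hq hpq (by norm_num)
    have a3 := h6 p q 1 3 hp hq hpq (by norm_num)
    have a7 := h6 p q 1 7 hp hq hpq (by norm_num)
    have a4 := h6 p q 2 2 hp hq hpq (by norm_num)
    have a9 := h6 p q 2 3 hp hq hpq (by norm_num)
    norm_num at a2 a3 a7 a4 a9
    simp [*]

end Cfsg.Agent.S3678
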