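import Cfsg.Statements.S3680
import Mathlib
import Cfsg.Agent.Lib.Perm.PG2
import Cfsg.Agent.S0721

set_option autoImplicit false
open Cfsg

namespace Cfsg.Agent.S3680

open Cfsg.Agent.Perm Cfsg.Agent.Perm.PG MulAction Equiv

/-- The socle of a finite primitive permutation group. Let a finite group G act faithfully and primitively on a set Ω, and let N be the subgroup generated by the minimal normal subgroups of G. Then either N is an elementary abelian p-group for some prime p and acts regularly on Ω (transitively with trivial point stabilizers), or N is isomorphic to a direct product of m ≥ 1 copies of a non-abelian simple group. -/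
theorem result {G Ω : Type*} [Group G] [Finite G] [MulAction G Ω] [FaithfulSMul G Ω] [Finite Ω]
    (hprim : MulAction.IsPreprimitive G Ω) (N : Subgroup G)
    (hN : N = sSup {V : Subgroup G | V.Normal ∧ V ≠ ⊥ ∧ ∀ M : Subgroup G, M.Normal → M ≤ V → M = ⊥ ∨ M = V}) :
    (∃ p : ℕ, p.Prime ∧ IsMulCommutative N ∧ (∀ x : N, x ^ p = 1) ∧
      MulAction.IsPretransitive N Ω ∧ ∀ ω : Ω, MulAction.stabilizer N ω = ⊥) ∨
    (∃ (T : Type) (_ : Group T) (m : ℕ), 1 ≤ m ∧ IsSimpleGroup T ∧ ¬ IsMulCommutative T ∧ Nonempty (N ≃* (Fin m → T))) := by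
  by_cases hG : (⊤ : Subgroup G) = ⊥
  · have : Subsingleton G := ⟨fun a b => by
      have h1 : ∀ a : G, a = 1 := fun a => Subgroup.mem_bot.1 (hG ▸ Subgroup.mem_top a)
      rw [h1 a, h1 b]⟩
    refine Or.inl ⟨2, Nat.prime_two, ⟨⟨fun _ _ => Subsingleton.elim _ _⟩⟩, fun _ => Subsingleton.elim _ _,
      ⟨fun x y => ?_⟩, fun _ => Subsingleton.elim _ _⟩
    obtain ⟨g, hg⟩ := exists_smul_eq G x y
    exact ⟨1, by rw [← hg, Subsingleton.elim g 1, one_smul, one_smul]⟩
  have hreg : ∀ (M : Subgroup G), IsPretransitive M Ω → ∀ c : G, (∀ x ∈ M, c * x = x * c) → ∀ a : Ω, c • a = a → c = 1 := by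
    intro M hM c hc a ha
    apply eq_one_of_smul_eq (α := Ω)
    intro b
    obtain ⟨g, rfl⟩ := hM.exists_smul_eq a b
    show c • (g : G) • a = (g : G) • a
    rw [← mul_smul, hc g g.2, mul_smul, ha]
  obtain ⟨M, hMn, hM, -, hMmin⟩ := exists_minNormal_le (⊤ : Subgroup G) inferInstance hG
  have hMt : IsPretransitive M Ω := normal_trans_of_prim M hM
  obtain ⟨T, _, m, hT, hm, ⟨e⟩⟩ := S0721.result M hM hMmin
  by_cases hu : ∀ L : Subgroup G, L.Normal ∧ L ≠ ⊥ ∧ (∀ M : Subgroup G, M.Normal → M ≤ L → M = ⊥ ∨ M = L) → L = M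
  · have : N = M := by
      rw [hN]
      exact le_antisymm (sSup_le fun L hL => (hu L hL).le) (le_sSup ⟨hMn, hM, hMmin⟩)
    subst this
    by_cases hc : IsMulCommutative T
    · have h1 : ∀ x ∈ N, ∀ y ∈ N, x * y = y * x := fun x hx y hy =>
        congrArg Subtype.val (e.injective (show e (⟨x, hx⟩ * ⟨y, hy⟩) = e (⟨y, hy⟩ * ⟨x, hx⟩) by
          rw [map_mul, map_mul]; exact funext fun i => hc.is_comm.comm _ _))
      obtain ⟨p, hp, h2⟩ := elem_of_minNormal_comm N hM hMmin h1
      exact Or.inl ⟨p, hp, ⟨⟨fun x y => Subtype.ext (h1 _ x.2 _ y.2)⟩⟩, fun x => Subtype.ext (h2 _ x.2), hMt,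
        fun a => eq_bot_iff.2 fun g hg => Subtype.ext (hreg N hMt g (h1 g g.2) a hg)⟩
    · exact Or.inr ⟨T, inferInstance, m, hm, hT, hc, ⟨e⟩⟩
  push Not at hu
  obtain ⟨K, ⟨hKn, hK, hKmin⟩, hKM⟩ := hu
  have hKt : IsPretransitive K Ω := normal_trans_of_prim K hK
  have hc : ∀ x ∈ M, ∀ y ∈ K, x * y = y * x := fun x hx y hy =>
    commute_of_minNormal_ne hMn hKn hMmin hKmin hM hKM.symm hx hy
  have : Nonempty Ω := by
    by_contra h
    rw [not_nonempty_iff] at h
    exact hM (eq_bot_iff.2 fun g _ => eq_one_of_smul_eq (α := Ω) fun a => h.elim a)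
  obtain ⟨a⟩ := this
  have hle : ∀ L : Subgroup G, (∀ x ∈ M, ∀ y ∈ L, x * y = y * x) → L ≤ K := by
    intro L hL y hy
    obtain ⟨k, hk⟩ := hKt.exists_smul_eq a (y • a)
    have := hreg M hMt ((k : G)⁻¹ * y) (fun x hx => by
      rw [mul_assoc, ← hL x hx y hy, ← mul_assoc, ← hc x hx _ (K.inv_mem k.2), mul_assoc]) a
      (by rw [mul_smul, inv_smul_eq_iff]; exact hk.symm)
    rw [inv_mul_eq_one] at this
    exact this ▸ k.2
  have hN2 : N = M ⊔ K := by
    rw [hN]
    refine le_antisymm (sSup_le fun L hL => ?_) (sup_le (le_sSup ⟨hMn, hM, hMmin⟩) (le_sSup ⟨hKn, hK, hKmin⟩))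
    by_cases h : L = M
    · exact h ▸ le_sup_left
    · exact (hle L fun x hx y hy => commute_of_minNormal_ne hMn hL.1 hMmin hL.2.2 hM (Ne.symm h) hx hy).trans le_sup_right
  have hd : M ⊓ K = ⊥ := by
    rcases hMmin (M ⊓ K) inferInstance inf_le_left with h | h
    · exact h
    · rcases hKmin M hMn (h ▸ inf_le_right) with h | h
      · exact absurd h hM
      · exact absurd h.symm hKM
  have r1 : stabilizer M a = ⊥ := eq_bot_iff.2 fun g hg => Subtype.ext (hreg K hKt g (hc g g.2) a hg)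
  have r2 : stabilizer K a = ⊥ := eq_bot_iff.2 fun g hg =>
    Subtype.ext (hreg M hMt g (fun x hx => (hc x hx g g.2).symm) a hg)
  obtain ⟨e2⟩ : Nonempty (M ≃* K) := by
    choose f hf using fun m : M => hKt.exists_smul_eq a (m⁻¹ • a)
    have key : ∀ (m : M) (n : K) (z : Ω), n • m • z = m • n • z := fun m n z => by
      show (n : G) • (m : G) • z = (m : G) • (n : G) • z
      rw [← mul_smul, ← mul_smul, hc _ m.2 _ n.2]
    refine ⟨MulEquiv.ofBijective (MonoidHom.mk' f fun x y => ?_) ⟨fun x y h => ?_, fun n => ?_⟩⟩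
    · apply eq_of_smul_eq_of_stab_bot r2
      rw [hf, mul_smul, hf, key, hf, mul_inv_rev, mul_smul]
    · have h' : f x = f y := h
      apply inv_injective
      apply eq_of_smul_eq_of_stab_bot r1
      rw [← hf, ← hf, h']
    · obtain ⟨m, hm⟩ := hMt.exists_smul_eq a (n • a)
      refine ⟨m⁻¹, eq_of_smul_eq_of_stab_bot r2 ?_⟩
      show f m⁻¹ • a = _
      rw [hf, inv_inv, hm]
  refine Or.inr ⟨T, inferInstance, m + m, by omega, hT, fun hc2 => hM ?_, ⟨?_⟩⟩
  · rw [← hd, left_eq_inf]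
    exact hle M fun x hx y hy =>
        congrArg Subtype.val (e.injective (show e (⟨x, hx⟩ * ⟨y, hy⟩) = e (⟨y, hy⟩ * ⟨x, hx⟩) by
          rw [map_mul, map_mul]; exact funext fun i => hc2.is_comm.comm _ _))
  · have hcm : ∀ (x : M) (y : K), Commute (M.subtype x) (K.subtype y) := fun x y => hc _ x.2 _ y.2
    have e3 : M × K ≃* N := (MonoidHom.ofInjective ((MonoidHom.noncommCoprod_injective _ _ hcm).2
      ⟨M.subtype_injective, K.subtype_injective, by simpa [disjoint_iff] using hd⟩)).trans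
      (MulEquiv.subgroupCongr (by rw [MonoidHom.noncommCoprod_range, hN2]; simp))
    exact e3.symm.trans ((e.prodCongr (e2.symm.trans e)).trans
      ((show (Fin m ⊕ Fin m → T) ≃* (Fin m → T) × (Fin m → T) from
        { Equiv.sumArrowEquivProdArrow _ _ _ with map_mul' := fun _ _ => rfl }).symm.trans (MulEquiv.arrowCongr finSumFinEquiv (MulEquiv.refl T))))

end Cfsg.Agent.S3680
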