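import Cfsg.Statements.S3684
import Mathlib
import Cfsg.Agent.Lib.Perm.PG3
import Cfsg.Agent.S0206

set_option autoImplicit false
open Cfsg

namespace Cfsg.Agent.S3684

open Cfsg.Agent.Perm MulAction
open scoped Pointwise

/-- Let a finite group G act faithfully and primitively on a set Ω, and suppose the stabilizer of a point a has an orbit of length 2. Then the stabilizer of a has order 2 and G is isomorphic to the dihedral group of order 2p for some prime p. -/
theorem result {G Ω : Type*} [Group G] [Finite G] [MulAction G Ω] [FaithfulSMul G Ω] [Finite Ω]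
    (hprim : MulAction.IsPreprimitive G Ω) (a b : Ω) (h2 : Nat.card (MulAction.orbit (MulAction.stabilizer G a) b) = 2) :
    Nat.card (MulAction.stabilizer G a) = 2 ∧ ∃ p : ℕ, p.Prime ∧ Nonempty (G ≃* DihedralGroup p) := by
  rw [card_orbit_eq_index] at h2
  have hne : stabilizer G a ≠ stabilizer G b := fun e => by
    have : stabilizer (stabilizer G a) b = ⊤ := eq_top_iff.2 fun g _ => (e ▸ g.2 : (g : G) ∈ stabilizer G b)
    rw [this] at h2; simp at h2
  have : Nontrivial Ω := ⟨⟨a, b, fun e => hne (by rw [e])⟩⟩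
  have hc := card_stab_eq (G := G) a b
  have h3 : (stabilizer G a ⊓ stabilizer G b).relIndex (stabilizer G a) = 2 := by
    rw [Subgroup.inf_relIndex_left]; exact h2
  have h4 : (stabilizer G a ⊓ stabilizer G b).relIndex (stabilizer G b) = 2 := by
    have e1 := ((stabilizer G a ⊓ stabilizer G b).subgroupOf (stabilizer G a)).index_mul_card
    have e2 := ((stabilizer G a ⊓ stabilizer G b).subgroupOf (stabilizer G b)).index_mul_card
    rw [Nat.card_congr (Subgroup.subgroupOfEquivOfLe inf_le_left).toEquiv] at e1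
    rw [Nat.card_congr (Subgroup.subgroupOfEquivOfLe inf_le_right).toEquiv, ← hc, ← e1] at e2
    exact (Nat.eq_of_mul_eq_mul_right Nat.card_pos e2).trans h3
  have hsup : stabilizer G a ⊔ stabilizer G b = ⊤ :=
    (IsPreprimitive.isCoatom_stabilizer_of_isPreprimitive G a).2 _ (lt_of_le_of_ne le_sup_left fun e =>
      hne (Subgroup.eq_of_le_of_card_ge (e ▸ le_sup_right) hc.le).symm)
  have hn : (stabilizer G a ⊓ stabilizer G b).Normal := by
    rw [← Subgroup.normalizer_eq_top_iff, eq_top_iff, ← hsup]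
    exact sup_le ((Subgroup.normal_subgroupOf_iff_le_normalizer inf_le_left).1 (Subgroup.normal_of_index_eq_two h3))
      ((Subgroup.normal_subgroupOf_iff_le_normalizer inf_le_right).1 (Subgroup.normal_of_index_eq_two h4))
  have h5 : stabilizer G a ⊓ stabilizer G b = ⊥ := by
    by_contra h
    obtain ⟨g, hg⟩ := (normal_trans_of_prim (α := Ω) _ h).exists_smul_eq a b
    exact hne (by rw [← hg, show g • a = a from g.2.1])
  rw [h5, Subgroup.relIndex_bot_left] at h3 h4
  refine ⟨h3, ?_⟩
  have hz : ∀ S : Subgroup G, Nat.card S = 2 → ∃ s, orderOf s = 2 ∧ S = Subgroup.zpowers s := by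
    intro S hS
    obtain ⟨s, hs⟩ := exists_prime_orderOf_dvd_card' (G := S) 2 hS.symm.dvd
    rw [← Subgroup.orderOf_coe] at hs
    exact ⟨s, hs, (Subgroup.eq_of_le_of_card_ge (Subgroup.zpowers_le.2 s.2) (by rw [Nat.card_zpowers, hs, hS])).symm⟩
  obtain ⟨s, hs, hs2⟩ := hz _ h3
  obtain ⟨t, ht, ht2⟩ := hz _ h4
  have hst : s ≠ t := fun e => hne (by rw [hs2, ht2, e])
  obtain ⟨e⟩ := S0206.result s t hs ht hst
  have h6 : Subgroup.closure {s, t} = ⊤ := by
    rw [Set.insert_eq, Subgroup.closure_union, ← Subgroup.zpowers_eq_closure, ← Subgroup.zpowers_eq_closure, ← hs2, ← ht2, hsup]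
  have e2 : G ≃* DihedralGroup (orderOf (s * t)) := (Subgroup.topEquiv.symm.trans (MulEquiv.subgroupCongr h6.symm)).trans e
  refine ⟨_, ?_, ⟨e2⟩⟩
  have hs' : s⁻¹ = s := inv_eq_of_mul_eq_one_left (by rw [← sq, ← hs, pow_orderOf_eq_one])
  have ht' : t⁻¹ = t := inv_eq_of_mul_eq_one_left (by rw [← sq, ← ht, pow_orderOf_eq_one])
  have h7 : orderOf (s * t) ≠ 1 := fun h => hst (by
    rw [orderOf_eq_one_iff, mul_eq_one_iff_eq_inv, ht'] at h; exact h)
  have hp := Nat.minFac_prime h7
  have h8 := orderOf_pow_orderOf_div (orderOf_pos (s * t)).ne' (Nat.minFac_dvd (orderOf (s * t)))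
  generalize orderOf (s * t) / (orderOf (s * t)).minFac = k at h8
  have hn2 : (Subgroup.zpowers ((s * t) ^ k)).Normal := by
    rw [← Subgroup.normalizer_eq_top_iff, eq_top_iff, ← h6, Subgroup.closure_le]
    have : ∀ u : G, u * (s * t) * u⁻¹ = (s * t)⁻¹ → u ∈ Subgroup.normalizer (Subgroup.zpowers ((s * t) ^ k) : Set G) :=
      fun u hu => Subgroup.mem_normalizer_fintype (by
        rintro _ ⟨j, rfl⟩
        refine ⟨-j, ?_⟩
        simp only [← conj_zpow, ← conj_pow, hu, inv_pow, inv_zpow, zpow_neg])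
    rintro u (rfl | rfl)
    · exact this _ (by rw [mul_inv_rev, ht', ← mul_assoc]; nth_rewrite 1 [← hs']; simp)
    · exact this _ (by rw [mul_inv_rev, hs', mul_assoc, mul_inv_cancel_right, ht'])
  have := normal_trans_of_prim (α := Ω) (Subgroup.zpowers ((s * t) ^ k)) (by
    rw [Ne, Subgroup.zpowers_eq_bot, ← orderOf_eq_one_iff, h8]; exact hp.ne_one)
  have h9 := card_eq_mul_stab (G := Subgroup.zpowers ((s * t) ^ k)) a
  have h10 := card_eq_mul_stab (G := G) a
  rw [Nat.card_congr e2.toEquiv, DihedralGroup.nat_card, h3] at h10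
  rw [Nat.card_zpowers, h8, ← show orderOf (s * t) = Nat.card Ω by omega] at h9
  rcases (Nat.dvd_prime hp).1 (Dvd.intro _ h9.symm) with h | h
  · exact absurd h h7
  · exact h ▸ hp

end Cfsg.Agent.S3684
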