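import Cfsg.Statements.S3685
import Cfsg.Agent.Lib.Fusion.Sims
import Cfsg.Agent.Lib.Classical.GroupRec

set_option autoImplicit false
open Cfsg

namespace Cfsg.Agent.S3685

open Cfsg.Agent.Sims Cfsg.Agent.Classical

theorem s3 : Nonempty (DihedralGroup 3 ≃* Equiv.Perm (Fin 3)) :=
  (nonempty_dihedral_of_card (n := 3) (finRotate 3) (Equiv.swap 0 1) (orderOf_eq_prime (by decide) (by decide))
    (by decide) (by decide) (by
      rw [mem_zpowers_iff_mem_range_orderOf, orderOf_eq_prime (p := 3) (by decide) (by decide)]; decide)
    (by simp [Nat.card_perm]; rfl)).map MulEquiv.symm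

/-- Let a finite group G act faithfully and primitively on a set Ω, and suppose the stabilizer of a point a has an orbit of length 3. Then the stabilizer of a is isomorphic to one of: the cyclic group of order 3, the symmetric group of degree 3, the dihedral group of order 12, the symmetric group of degree 4, or the direct product of the symmetric group of degree 4 with a group of order 2. -/
theorem result {G Ω : Type*} [Group G] [Finite G] [MulAction G Ω] [FaithfulSMul G Ω] [Finite Ω]
    (hprim : MulAction.IsPreprimitive G Ω) (a b : Ω) (h3 : Nat.card (MulAction.orbit (MulAction.stabilizer G a) b) = 3) :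
    Nonempty (MulAction.stabilizer G a ≃* Multiplicative (ZMod 3)) ∨ Nonempty (MulAction.stabilizer G a ≃* Equiv.Perm (Fin 3)) ∨
      Nonempty (MulAction.stabilizer G a ≃* DihedralGroup 6) ∨ Nonempty (MulAction.stabilizer G a ≃* Equiv.Perm (Fin 4)) ∨
      Nonempty (MulAction.stabilizer G a ≃* Equiv.Perm (Fin 4) × Multiplicative (ZMod 2)) := by
  obtain ⟨f⟩ := s3
  exact (prim hprim a b h3).imp id (Or.imp (fun ⟨e⟩ => ⟨e.trans f⟩) id)

end Cfsg.Agent.S3685
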