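import Cfsg.Statements.S3693
import Cfsg.Agent.Lib.Fusion.TW

set_option autoImplicit false
open Cfsg

namespace Cfsg.Agent.S3693

open Cfsg.Agent.Comp Cfsg.Agent.BG Cfsg.Agent.TW Subgroup MulAction

theorem key {G : Type*} [Group G] [Finite G] {M N : Subgroup G} (h : Pair M N) {p : ℕ} [Fact p.Prime]
    (hP : Op p (M ⊓ N) ≤ core M N) : Op p (M ⊓ N) = ⊥ := by
  have a0 : core M N ≤ M ⊓ N := le_inf core_le_left core_le
  have e : Op p (M ⊓ N) = Op p (core M N) := le_antisymm (Op_le_Op a0 hP)
    ((SubnIn.of_normalizer a0 (inf_le_left.trans le_nm_core)).Op_le p)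
  have a3 : M ≤ Nm(Op p (M ⊓ N)) := by rw [e]; exact le_normalizer_Op le_nm_core
  have a2 : Op p (M ⊓ N) ≤ M := (Op_le p _).trans inf_le_left
  have a4 : Op p (M ⊓ N) ≤ Op p M := le_Op a2 a3 (isPGroup_Op p _)
  by_contra ne
  have a5 := h.hM _ a2 ne a3
  have a1 : Op p (M ⊓ N) ≤ Nm(Op p N) := le_normalizer_Op_of_le ((Op_le p _).trans inf_le_right)
  have a6 : Op p N ≤ Op p (M ⊓ N) := by
    by_contra a6
    have a7 := lt_inf_normalizer_of_isPGroup
      ((isPGroup_Op p _).to_sup_of_normal_right' (isPGroup_Op p N) a1) (left_lt_sup.2 a6)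
    refine a7.not_ge ((inf_le_inf_left _ a5).trans ?_)
    rw [sup_inf_of_le_normalizer a1 a2]
    exact sup_le le_rfl (le_trans (le_inf inf_le_left (le_inf inf_le_right
      (inf_le_left.trans (Op_le p N)))) (Op_inf_le inf_le_right))
  have a7 := eq_of_le_of_card_ge (a6.trans a4) (h.card p).le
  have a8 := h.bot (Op_le p M) (le_normalizer_Op_of_le le_rfl) (a7 ▸ le_normalizer_Op_of_le le_rfl)
  exact ne (eq_bot_iff.2 (a4.trans a8.le))

/-- Let a finite group G act faithfully and primitively on a set Ω, let a and b be points such that the orbit Δ of b under the stabilizer H of a has length d ≥ 2, and consider the permutation group induced on Δ by the elements of H fixing b. If that induced group has trivial Fitting subgroup (no non-trivial nilpotent normal subgroup), then the two-point stabilizer of a and b has trivial Fitting subgroup and the order of H divides d! · ((d - 1)!)^d. -/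
theorem result {G Ω : Type*} [Group G] [Finite G] [MulAction G Ω] [FaithfulSMul G Ω] [Finite Ω]
    (hprim : MulAction.IsPreprimitive G Ω) (a b : Ω) (d : ℕ) (hd : Nat.card (MulAction.orbit (MulAction.stabilizer G a) b) = d) (h2 : 2 ≤ d)
    (hF : Cfsg.fittingSubgroup ↥(((MulAction.stabilizer G b).subgroupOf (MulAction.stabilizer G a)).map (MulAction.toPermHom (MulAction.stabilizer G a) (MulAction.orbit (MulAction.stabilizer G a) b))) = ⊥) :
    Cfsg.fittingSubgroup ↥(MulAction.stabilizer G a ⊓ MulAction.stabilizer G b) = ⊥ ∧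
      Nat.card (MulAction.stabilizer G a) ∣ Nat.factorial d * (Nat.factorial (d - 1)) ^ d := by
  obtain ⟨h1, h3, h4⟩ := of_prim hprim a b hd h2
  have hop : ∀ p : ℕ, p.Prime → Op p (stabilizer G a ⊓ stabilizer G b) = ⊥ := fun p hp => by
    haveI := Fact.mk hp
    refine key h1 ?_
    have b1 : Fit (((stabilizer G b).subgroupOf (stabilizer G a)).map
        (toPermHom (stabilizer G a) (orbit (stabilizer G a) b))) = ⊥ := by
      rw [← map_fitting, hF, Subgroup.map_bot]
    have b2 : Op p ((stabilizer G b).subgroupOf (stabilizer G a)) ≤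
        (toPermHom (stabilizer G a) (orbit (stabilizer G a) b)).ker :=
      (Subgroup.map_eq_bot_iff _).1 (eq_bot_iff.2 (((le_Op (map_mono (Op_le p _))
        ((map_mono (le_normalizer_Op_of_le le_rfl)).trans (le_normalizer_map _))
        ((isPGroup_Op p _).map _)).trans (Op_le_Fit p _)).trans b1.le))
    rw [inf_comm, ← subgroupOf_map_subtype, ← map_subtype_Op]
    refine (map_mono b2).trans (le_core (map_subtype_le _) ?_ ((normal_iff_map_subtype _).1 inferInstance))
    rintro _ ⟨x, hx, rfl⟩
    exact congrArg Subtype.val (Equiv.congr_fun (MonoidHom.mem_ker.1 hx) ⟨b, mem_orbit_self b⟩)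
  refine ⟨?_, ?_⟩
  · have := Fit_eq_bot_iff.2 hop
    rwa [← map_fitting, map_eq_bot_iff_of_injective _ (subtype_injective _)] at this
  rcases h1.main h3 with h | ⟨p, hp, a0, a1, -⟩
  · rw [← h4]; exact h
  · refine absurd (eq_bot_iff.2 (le_trans (le_Op ?_ ?_ a1) (hop p hp).le)) a0
    · exact le_inf core_le_left (core_le.trans (inf_le_left.trans core_le))
    · exact inf_le_left.trans le_nm_core

end Cfsg.Agent.S3693
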