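import Cfsg.Statements.S3704
import Mathlib
import Cfsg.Agent.Lib.Perm.PG3
import Cfsg.Agent.Lib.Char.Misc
import Cfsg.Agent.Lib.Char.PermCh
import Cfsg.Agent.S0157

set_option autoImplicit false
open Cfsg

namespace Cfsg.Agent.S3704

open Cfsg.Agent.Perm Cfsg.Agent.Perm.PG MulAction Equiv Cfsg.Agent.Char

/-- Let G be a finite group acting faithfully and 2-transitively on a finite set Ω of size n, and let H be a subgroup of index n in G which is not transitive on Ω and fixes no point of Ω. Then H has exactly two orbits on Ω. -/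
theorem result {G Ω : Type*} [Group G] [Finite G] [MulAction G Ω] [FaithfulSMul G Ω] [Finite Ω] (h2 : MulAction.IsMultiplyPretransitive G Ω 2) (H : Subgroup G) (hidx : H.index = Nat.card Ω) (hnt : ¬ MulAction.IsPretransitive H Ω) (hfix : ∀ a : Ω, ∃ h : H, h • a ≠ a) : Nat.card (MulAction.orbitRel.Quotient H Ω) = 2 := by
  classical
  have := Fintype.ofFinite G
  have := isPretransitive_of_is_two_pretransitive (h2 := h2)
  have h3 : 1 < Nat.card (orbitRel.Quotient H Ω) := by
    rw [Finite.one_lt_card_iff_nontrivial]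
    by_contra h
    rw [not_nontrivial_iff_subsingleton] at h
    exact hnt ⟨fun x y => (Quotient.exact (h.elim (Quotient.mk _ y) (Quotient.mk _ x)) :)⟩
  have h4 : Nat.card (orbitRel.Quotient H Ω) ≤ Nat.card Ω :=
    Nat.card_le_card_of_surjective _ Quotient.mk_surjective
  obtain ⟨r, hr⟩ : ∃ r, Nat.card (orbitRel.Quotient H Ω) = r + 1 := ⟨_, (Nat.sub_add_cancel h3.le).symm⟩
  obtain ⟨n, hn⟩ : ∃ n, Nat.card Ω = n + 1 := ⟨_, (Nat.sub_add_cancel (h3.le.trans h4)).symm⟩
  have h5 := ((S0157.result Ω (by omega)).2 h2).degree_le_index_mul (H := H) isCharacter_one (e := r) (c := n) (d := 1) (by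
    have := classInner_sub_left (pc H Ω) (fun _ => 1) (fun _ => 1)
    rw [classInner_pc_one, isIrrCharacter_one.classInner_self, hr] at this
    push_cast at this
    rw [add_sub_cancel_right] at this
    exact this) (by simp [hn]) (by simp)
  rw [hidx, hn] at h5
  rw [hr] at h3 h4 ⊢
  nlinarith

end Cfsg.Agent.S3704
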