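import Cfsg.Statements.S3733
import Cfsg.Agent.Lib.Solv.Gen

set_option autoImplicit false
open Cfsg

namespace Cfsg.Agent.S3733

/-- Let A and V be subgroups of a finite group with V abelian and nontrivial and A normalizing V. Suppose a nonempty finite family of proper subgroups of A partitions A: every non-identity element of A lies in exactly one member. If the number of members minus one is coprime to the order of V, then some member B of the family has a non-identity fixed point on V, that is V ∩ C(B) ≠ 1. -/
theorem result {G : Type*} [Group G] [Finite G] (A V : Subgroup G) (hVab : IsMulCommutative V) (hV : V ≠ ⊥) (hAV : A ≤ Subgroup.normalizer (V : Set G)) (𝒜 : Finset (Subgroup G)) (hne : 𝒜.Nonempty) (hprop : ∀ B ∈ 𝒜, B < A) (hpart : ∀ a ∈ A, a ≠ 1 → ∃! B, B ∈ 𝒜 ∧ a ∈ B) (hk : (𝒜.card - 1).Coprime (Nat.card V)) : ∃ B ∈ 𝒜, V ⊓ Subgroup.centralizer (B : Set G) ≠ ⊥ := by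
    let _ : CommGroup V := { (inferInstance : Group V) with mul_comm := hVab.1.1 }
    by_contra hcon
    push Not at hcon
    apply hV
    rw [Subgroup.eq_bot_iff_forall]
    intro v hv
    have h := Solv.pow_mem_of_partition (V.normalizerMonoidHom.comp (Subgroup.inclusion hAV)) hne
      (fun B => B.subgroupOf A) (fun a ha => hpart a a.2 fun h => ha (Subtype.ext h)) (L := ⊥)
      (fun B hB w hw => by
        rw [Subgroup.mem_bot, Subtype.ext_iff, OneMemClass.coe_one, ← Subgroup.mem_bot, ← hcon B hB]
        exact Subgroup.mem_inf.2 ⟨w.2, Subgroup.mem_centralizer_iff.2 fun b hb =>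
          mul_inv_eq_iff_eq_mul.1 (congrArg Subtype.val (hw ⟨b, (hprop B hB).le hb⟩ hb))⟩) ⟨v, hv⟩
    exact congrArg Subtype.val (Subgroup.mem_bot.1 (Solv.mem_of_pow_mem_of_coprime h hk))

end Cfsg.Agent.S3733
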