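import Cfsg.Statements.S3734
import Cfsg.Agent.Lib.Solv.Gen

set_option autoImplicit false
open Cfsg

namespace Cfsg.Agent.S3734
section
open Pointwise commutatorElement Subgroup Cfsg.Agent.Solv
theorem le_normalizer_iSup {G : Type*} [Group G] {ι : Sort*} {A : Subgroup G} {H : ι → Subgroup G}
    (h : ∀ i, A ≤ normalizer (H i : Set G)) : A ≤ normalizer ((⨆ i, H i : Subgroup G) : Set G) := by
  intro a ha
  rw [← conj_smul_eq_self_iff]
  exact (Subgroup.map_iSup (MulAut.conj a).toMonoidHom H).trans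
    (iSup_congr fun i => conj_smul_eq_self_iff.2 (h i ha))
end

/-- Let A and G be subgroups of a finite group with A abelian, A normalizing G and the orders of A and G coprime. Then G is generated by the fixed-point subgroups C_G(B) of those subgroups B of A for which A/B is cyclic (that is, A = ⟨B, a⟩ for some a), and [G, A] is generated by the commutator subgroups [C_G(B), A] over the same subgroups B. -/
theorem result {X : Type*} [Group X] [Finite X] (A G : Subgroup X) (hAab : IsMulCommutative A) (hAG : A ≤ Subgroup.normalizer (G : Set X)) (hcop : (Nat.card A).Coprime (Nat.card G)) : (⨆ B ∈ {B : Subgroup X | B ≤ A ∧ ∃ a ∈ A, B ⊔ Subgroup.zpowers a = A}, G ⊓ Subgroup.centralizer (B : Set X)) = G ∧ (⨆ B ∈ {B : Subgroup X | B ≤ A ∧ ∃ a ∈ A, B ⊔ Subgroup.zpowers a = A}, ⁅G ⊓ Subgroup.centralizer (B : Set X), A⁆) = ⁅G, A⁆ := by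
  open Pointwise commutatorElement Subgroup Cfsg.Agent.Solv in
  have h1 : (⨆ B ∈ {B : Subgroup X | B ≤ A ∧ ∃ a ∈ A, B ⊔ zpowers a = A},
      G ⊓ centralizer (B : Set X)) = G := by
    refine le_antisymm (iSup₂_le fun _ _ => inf_le_left) ?_
    exact le_of_forall_cocyclic hAab hAG hcop fun B hB a ha h =>
      le_iSup₂_of_le (f := fun B (_ : B ∈ {B : Subgroup X | B ≤ A ∧ ∃ a ∈ A, B ⊔ zpowers a = A}) =>
        G ⊓ centralizer (B : Set X)) B ⟨hB, a, ha, h⟩ le_rfl
  refine ⟨h1, le_antisymm (iSup₂_le fun _ _ => commutator_mono inf_le_left le_rfl) ?_⟩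
  set L := ⨆ B ∈ {B : Subgroup X | B ≤ A ∧ ∃ a ∈ A, B ⊔ zpowers a = A},
    ⁅G ⊓ centralizer (B : Set X), A⁆ with hL
  have hs : Group.IsSolvable A := isSolvable_of_isMulCommutative hAab
  have hAB : ∀ B ≤ A, A ≤ normalizer ((G ⊓ centralizer (B : Set X) : Subgroup X) : Set X) :=
    fun B hB => le_normalizer_inf hAG (le_normalizer_centralizer (le_trans
      (fun a ha => mem_centralizer_iff.2 fun d hd => isMulCommutative_iff.1 hAab d (hB hd) a ha)
      (centralizer_le_normalizer _)))
  have hAL : A ≤ normalizer (L : Set X) :=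
    le_normalizer_iSup fun B => le_normalizer_iSup fun _ => normalizer_commutator_ge_right _ _
  have hCL : G ⊓ centralizer (A : Set X) ≤ normalizer (L : Set X) :=
    le_normalizer_iSup fun B => le_normalizer_iSup fun hB =>
      (inf_le_inf_left _ (centralizer_le hB.1)).trans (normalizer_commutator_ge_left _ _)
  have h2 : G ≤ L ⊔ (G ⊓ centralizer (A : Set X)) := by
    refine h1.ge.trans (iSup₂_le fun B hB => ?_)
    rw [← coprime_commutator_sup_centralizer (hAB B hB.1)
      (hcop.coprime_dvd_right (card_dvd_of_le inf_le_left)) (.inl hs)]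
    exact sup_le_sup (le_iSup₂_of_le (f := fun B (_ : B ∈ {B : Subgroup X | B ≤ A ∧ ∃ a ∈ A, B ⊔ zpowers a = A}) =>
        ⁅G ⊓ centralizer (B : Set X), A⁆) B hB le_rfl) (inf_le_inf_right _ inf_le_left)
  rw [commutator_le]
  intro k hk a ha
  obtain ⟨n, hn, c, hc, rfl⟩ := (mem_sup_of_le_normalizer' hCL).1 (h2 hk)
  have h3 : a * c = c * a := (mem_centralizer_iff.1 (mem_inf.1 hc).2) a ha
  have : ⁅n * c, a⁆ = n * (a * n⁻¹ * a⁻¹) := by
    simp only [commutatorElement_def]
    calc n * c * a * (n * c)⁻¹ * a⁻¹ = n * (c * a) * c⁻¹ * n⁻¹ * a⁻¹ := by group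
      _ = _ := by rw [← h3]; group
  rw [this]
  exact mul_mem hn (conj_mem_of_mem_normalizer (hAL ha) (inv_mem hn))

end Cfsg.Agent.S3734
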