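import Cfsg.Statements.S3735
import Cfsg.Agent.Lib.BG.Sec1
import Cfsg.Agent.Lib.BG.Quo

set_option autoImplicit false
open Cfsg

namespace Cfsg.Agent.S3735

/-- Clifford's Theorem for actions on finite abelian groups, first part. Let H and V be subgroups of a finite group with V abelian and H normalizing V, and let A be a normal subgroup of H. If every H-invariant subgroup of V has an H-invariant complement in V, then every A-invariant subgroup of V has an A-invariant complement in V. -/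
theorem result {G : Type*} [Group G] [Finite G] (H A V : Subgroup G) (hVab : IsMulCommutative V) (hHV : H ≤ Subgroup.normalizer (V : Set G)) (hAH : A ≤ H) (hAn : H ≤ Subgroup.normalizer (A : Set G)) (hss : ∀ U : Subgroup G, U ≤ V → H ≤ Subgroup.normalizer (U : Set G) → ∃ W : Subgroup G, W ≤ V ∧ H ≤ Subgroup.normalizer (W : Set G) ∧ U ⊓ W = ⊥ ∧ U ⊔ W = V) (U : Subgroup G) (hUV : U ≤ V) (hAU : A ≤ Subgroup.normalizer (U : Set G)) : ∃ W : Subgroup G, W ≤ V ∧ A ≤ Subgroup.normalizer (W : Set G) ∧ U ⊓ W = ⊥ ∧ U ⊔ W = V := by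
  open Pointwise commutatorElement Subgroup in
  open Cfsg.Agent.Comp in
  have hn : ∀ X Y : Subgroup G, X ≤ V → Y ≤ V → X ≤ normalizer (Y : Set G) := fun X Y h1 h2 =>
    Comp.le_normalizer_of_le_centralizer ((h1.trans (BG.comm_iff_le.1 hVab)).trans (Comp.centralizer_mono h2))
  obtain ⟨W, -, ⟨a1, a2, a3⟩, a4⟩ := exists_maximal_subgroup (P := fun W => W ≤ V ∧ A ≤ normalizer (W : Set G) ∧ U ⊓ W = ⊥)
    (A := ⊥) ⟨bot_le, BG.le_Nm_bot _, inf_bot_eq _⟩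
  refine ⟨W, a1, a2, a3, le_antisymm (sup_le hUV a1) ?_⟩
  obtain ⟨S, hS⟩ : ∃ S : Set (Subgroup G), S = {M | M ≤ V ∧ A ≤ normalizer (M : Set G) ∧ M ≠ ⊥ ∧
    ∀ C : Subgroup G, A ≤ normalizer (C : Set G) → C ≠ ⊥ → C ≤ M → C = M} := ⟨_, rfl⟩
  have b1 : sSup S ≤ V := sSup_le fun M hM => (hS ▸ hM).1
  obtain ⟨T, b2, b3, b4, b5⟩ := hss (sSup S) b1 (le_normalizer_sSup fun g hg K hK => by
    rw [hS] at hK ⊢
    refine ⟨cj_le_of_mem hK.1 (hHV hg), le_normalizer_cj (hAn hg) hK.2.1, mt cj_eq_bot_iff.1 hK.2.2.1, fun C c1 c2 c3 => ?_⟩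
    rw [← hK.2.2.2 _ (le_normalizer_cj (hAn (inv_mem hg)) c1) (mt cj_eq_bot_iff.1 c2) (le_cj_iff.1 c3), cj_cj_inv])
  obtain rfl : T = ⊥ := by
    by_contra h
    obtain ⟨M, c1, ⟨c2, c3⟩, c4⟩ := exists_minimal_subgroup (P := fun M => A ≤ normalizer (M : Set G) ∧ M ≠ ⊥) (A := T)
      ⟨hAH.trans b3, h⟩
    refine c3 (eq_bot_iff.2 (b4.le.trans' (le_inf (le_sSup ?_) c1)))
    rw [hS]
    exact ⟨c1.trans b2, c2, c3, fun C d1 d2 => c4 C ⟨d1, d2⟩⟩
  rw [← b5, sup_bot_eq]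
  refine sSup_le fun M hM => ?_
  rw [hS] at hM
  obtain ⟨c1, c2, c3, c4⟩ := hM
  by_contra h
  have c5 : M ⊓ (U ⊔ W) = ⊥ := by_contra fun h' => h (inf_eq_left.1 (c4 _ (Comp.le_normalizer_inf c2
    (Comp.le_normalizer_sup hAU a2)) h' inf_le_left))
  refine h (le_sup_right.trans ((a4 (W ⊔ M) ⟨sup_le a1 c1, Comp.le_normalizer_sup a2 c2, eq_bot_iff.2 fun x hx => ?_⟩
    le_sup_left).le.trans le_sup_right))
  obtain ⟨w, hw, m, hm, rfl⟩ := (Comp.mem_sup_of_le_normalizer (hn W M a1 c1)).1 hx.2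
  obtain rfl : m = 1 := mem_bot.1 (c5.le (mem_inf.2 ⟨hm, by
    simpa using mul_mem (mem_sup_right (inv_mem hw)) (mem_sup_left hx.1 : w * m ∈ U ⊔ W)⟩))
  exact a3.le (mem_inf.2 ⟨hx.1, by simpa using hw⟩)

end Cfsg.Agent.S3735
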