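import Cfsg.Statements.S3737
import Cfsg.Agent.Lib.BG.Sec1

set_option autoImplicit false
open Cfsg
open scoped commutatorElement IsMulCommutative

namespace Cfsg.Agent.S3737
section
open Pointwise commutatorElement Subgroup
structure Baer (G : Type*) where
  val : G

section
variable {G : Type*} [Group G] (hc : ∀ x y : G, ⁅x, y⁆ ∈ Subgroup.center G)

def bc (x y : G) : Subgroup.center G := ⟨⁅x, y⁆, hc x y⟩

theorem cen_mul (c : Subgroup.center G) (g : G) : (c : G) * g = g * c := (Subgroup.mem_center_iff.1 c.2 g).symm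

theorem bc_mul_right (x y z : G) : bc hc x (y * z) = bc hc x y * bc hc x z := Subtype.ext (by
  have := cen_mul (bc hc x z) y
  simp only [bc, Subgroup.coe_mul, commutatorElement_def] at this ⊢
  calc _ = x * y * x⁻¹ * y⁻¹ * (y * (x * z * x⁻¹ * z⁻¹)) * y⁻¹ := by group
    _ = _ := by rw [← this]; group)

theorem bc_swap (x y : G) : bc hc x y = (bc hc y x)⁻¹ := Subtype.ext (by simp [bc])

theorem bc_mul_left (x y z : G) : bc hc (x * y) z = bc hc x z * bc hc y z := by
  rw [bc_swap, bc_mul_right, bc_swap hc x, bc_swap hc y, mul_inv]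

theorem bc_cen (x : G) (c : Subgroup.center G) : bc hc x c = 1 :=
  Subtype.ext (commutatorElement_eq_one_iff_mul_comm.2 (cen_mul c x).symm)

theorem bc_cen' (x : G) (c : Subgroup.center G) : bc hc c x = 1 := by rw [bc_swap, bc_cen, inv_one]

@[reducible] def Baer.grp (h : ℕ) (hh : ∀ x : G, x ^ (2 * h) = x) : CommGroup (Baer G) where
  mul x y := ⟨x.1 * y.1 * ((bc hc y.1 x.1 ^ h : Subgroup.center G) : G)⟩
  one := ⟨1⟩
  inv x := ⟨x.1⁻¹⟩
  mul_assoc x y z := congrArg Baer.mk (by
    show x.1 * y.1 * ((bc hc y.1 x.1 ^ h : Subgroup.center G) : G) * z.1 *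
      ((bc hc z.1 (x.1 * y.1 * ((bc hc y.1 x.1 ^ h : Subgroup.center G) : G)) ^ h : Subgroup.center G) : G) =
      x.1 * (y.1 * z.1 * ((bc hc z.1 y.1 ^ h : Subgroup.center G) : G)) *
      ((bc hc (y.1 * z.1 * ((bc hc z.1 y.1 ^ h : Subgroup.center G) : G)) x.1 ^ h : Subgroup.center G) : G)
    rw [bc_mul_right, bc_mul_right, bc_mul_left, bc_mul_left, bc_cen, bc_cen', mul_assoc (x.1 * y.1), cen_mul]
    simp only [mul_assoc, ← Subgroup.coe_mul, mul_one, mul_pow]
    congr 4
    rw [← mul_assoc, mul_comm])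
  one_mul x := congrArg Baer.mk (by show 1 * x.1 * ((bc hc x.1 1 ^ h : Subgroup.center G) : G) = x.1; simp [bc])
  mul_one x := congrArg Baer.mk (by show x.1 * 1 * ((bc hc 1 x.1 ^ h : Subgroup.center G) : G) = x.1; simp [bc])
  inv_mul_cancel x := congrArg Baer.mk (by
    show x.1⁻¹ * x.1 * ((bc hc x.1 x.1⁻¹ ^ h : Subgroup.center G) : G) = 1; simp [bc, commutatorElement_def])
  mul_comm x y := congrArg Baer.mk (by
    show x.1 * y.1 * ((bc hc y.1 x.1 ^ h : Subgroup.center G) : G) = y.1 * x.1 * ((bc hc x.1 y.1 ^ h : Subgroup.center G) : G)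
    have h1 : x.1 * y.1 = y.1 * x.1 * bc hc x.1 y.1 := by rw [← cen_mul]; simp [bc, commutatorElement_def]
    have h2 : bc hc x.1 y.1 ^ (2 * h) = bc hc x.1 y.1 := Subtype.ext (hh _)
    rw [h1, mul_assoc, ← Subgroup.coe_mul, bc_swap hc y.1, inv_pow]
    nth_rw 1 [← h2]
    rw [two_mul, pow_add, mul_inv_cancel_right])
end

theorem key {G B : Type*} [Group G] [Finite G] [Group B] [Finite B] {p : ℕ} [Fact p.Prime] (hp : p ≠ 2) (hG : IsPGroup p G)
    (hc : ∀ x y : G, ⁅x, y⁆ ∈ Subgroup.center G) (φ : B →* MulAut G) (P Q : Subgroup B) (hP : IsPGroup p P)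
    (hQ : (Nat.card Q).Coprime p) (hPQ : P ≤ Subgroup.normalizer (Q : Set B))
    (hC : ∀ x, (∀ a ∈ P, φ a x = x) → ∀ a ∈ Q, φ a x = x) (x : G) (a : B) (ha : a ∈ Q) : φ a x = x := by
  classical
  obtain ⟨n, hn⟩ := hG.exists_card_eq
  obtain ⟨h, hh⟩ : Odd (Nat.card G) := hn ▸ ((Fact.out : p.Prime).odd_of_ne_two hp).pow
  letI : CommGroup (Baer G) := Baer.grp hc (h + 1) fun x => by
    rw [show 2 * (h + 1) = Nat.card G + 1 by omega, pow_succ, pow_card_eq_one', one_mul]
  have e : Baer G ≃ G := ⟨Baer.val, Baer.mk, fun _ => rfl, fun _ => rfl⟩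
  haveI : Finite (Baer G) := .of_equiv G e.symm
  have hV : IsPGroup p (Baer G) := .of_card ((Nat.card_congr e).trans hn)
  letI : MulDistribMulAction B (Baer G) :=
    { smul := fun b x => ⟨φ b x.1⟩
      one_smul := fun x => congrArg Baer.mk (by simp)
      mul_smul := fun b c x => congrArg Baer.mk (by rw [map_mul]; rfl)
      smul_one := fun b => congrArg Baer.mk (map_one _)
      smul_mul := fun b x y => congrArg Baer.mk (by
        show φ b (x.1 * y.1 * ⁅y.1, x.1⁆ ^ (h + 1)) = φ b x.1 * φ b y.1 * ⁅φ b y.1, φ b x.1⁆ ^ (h + 1)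
        simp only [map_mul, map_pow, map_commutatorElement]) }
  haveI := Fintype.ofFinite Q
  let τ : Baer G →* Baer G := ∏ q : Q, MulDistribMulAction.toMonoidHom (Baer G) (q : B)
  have h1 : ∀ x, τ x = ∏ q : Q, (q : B) • x := fun x => MonoidHom.finsetProd_apply _ _ _
  have h2 : τ.ker = ⊥ := by
    by_contra h0
    let T : SubMulAction P (Baer G) := ⟨τ.ker, fun g x hx => by
      have hx : τ x = 1 := hx
      show τ ((g : B) • x) = 1
      rw [h1, ← smul_one (g : B), ← hx, h1, Finset.smul_prod']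
      refine (Fintype.prod_equiv (Q.normalizerMonoidHom ⟨g, hPQ g.2⟩).toEquiv _ _ fun q => ?_).symm
      show _ = ((g : B) * q * (g : B)⁻¹) • (g : B) • x
      simp [smul_smul]⟩
    obtain ⟨y, hy, hy1⟩ := hP.exists_fixed_point_of_prime_dvd_card_of_fixed_point T
      (((hV.to_subgroup τ.ker).card_eq_or_dvd).resolve_left (mt Subgroup.card_eq_one.1 h0))
      (a := ⟨1, τ.ker.one_mem⟩) fun g => Subtype.ext (smul_one (g : B))
    have h3 : ∀ q : Q, (q : B) • y.1 = y.1 := fun q => congrArg Baer.mk (hC y.1.1 (fun g hg =>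
      congrArg Baer.val (congrArg Subtype.val (hy ⟨g, hg⟩))) q q.2)
    have h4 : τ y.1 = 1 := y.2
    rw [h1, Finset.prod_congr rfl fun q _ => h3 q, Finset.prod_const, Finset.card_univ, ← Nat.card_eq_fintype_card] at h4
    obtain ⟨k, hk⟩ := hV.exists_orderOf_eq_pow y.1
    exact hy1 (Subtype.ext (orderOf_eq_one_iff.1 (Nat.eq_one_of_dvd_coprimes (hQ.pow_right k)
      (orderOf_dvd_of_pow_eq_one h4) (hk ▸ dvd_rfl))).symm)
  refine congrArg Baer.val ((MonoidHom.ker_eq_bot_iff τ).1 h2 (a₁ := a • Baer.mk x) (a₂ := Baer.mk x) ?_)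
  rw [h1, h1]
  exact Fintype.prod_equiv (Equiv.mulRight ⟨a, ha⟩) _ _ fun q => by simp [smul_smul]
end

/-- Thompson's strengthening of the P × Q lemma for odd primes. Let p be an odd prime and let P, Q and G be subgroups of a finite group with P a p-group, Q of order prime to p and normalized by P, and G a p-group normalized by both P and Q. If every element of G centralized by P is centralized by Q, then Q centralizes G. -/
theorem result {X : Type*} [Group X] [Finite X] {p : ℕ} [Fact p.Prime] (hp : p ≠ 2) (P Q G : Subgroup X) (hP : IsPGroup p P) (hQ : (Nat.card Q).Coprime p) (hPQ : P ≤ Subgroup.normalizer (Q : Set X)) (hG : IsPGroup p G) (hPG : P ≤ Subgroup.normalizer (G : Set X)) (hQG : Q ≤ Subgroup.normalizer (G : Set X)) (hC : G ⊓ Subgroup.centralizer (P : Set X) ≤ Subgroup.centralizer (Q : Set X)) : Q ≤ Subgroup.centralizer (G : Set X) := by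
  open Pointwise commutatorElement Subgroup in
  induction G using Comp.subgroup_induction with | h G ih => ?_
  obtain ⟨C, a1, a2, -, a4, a5⟩ := BG.exists_critical hG
  by_cases h : C = G
  swap
  · obtain ⟨n, hn⟩ := hG.exists_card_eq
    exact BG.le_Ct_of_critical hQG (hn ▸ hQ.pow_right n) (le_normalizer.trans a2) a5
      (ih C (lt_of_le_of_ne a1 h) (hG.to_le a1) (hPG.trans a2) (hQG.trans a2) ((inf_le_inf_right _ a1).trans hC))
  subst h
  intro a ha x hx
  have := key hp hG (fun x y => mem_center_iff.2 fun z => Subtype.ext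
      ((a4 (commutator_mem_commutator x.2 y.2)).2 z z.2)) C.normalizerMonoidHom (P.subgroupOf _) (Q.subgroupOf _)
    (hP.comap_of_injective _ Subtype.val_injective) (by rwa [Comp.card_subgroupOf hQG])
    (fun g hg => Solv.mem_normalizer_of_conj_mem fun k hk => Solv.conj_mem_of_mem_normalizer (H := Q) (hPQ hg) hk)
    (fun y hy b hb => Subtype.ext (mul_inv_eq_iff_eq_mul.2 (hC (mem_inf.2 ⟨y.2, fun g hg => mul_inv_eq_iff_eq_mul.1
      (congrArg Subtype.val (hy ⟨g, hPG hg⟩ hg))⟩) b hb))) ⟨x, hx⟩ ⟨a, hQG ha⟩ ha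
  exact (mul_inv_eq_iff_eq_mul.1 (congrArg Subtype.val this)).symm

end Cfsg.Agent.S3737
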