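import Cfsg.Statements.S3738
import Cfsg.Agent.Lib.BG.Crit2
import Cfsg.Agent.S4054

set_option autoImplicit false
open Cfsg

namespace Cfsg.Agent.S3738
section
open Pointwise commutatorElement Subgroup
open Cfsg.Agent.Comp Cfsg.Agent.BG Subgroup commutatorElement in
theorem ord3 {X : Type*} [Group X] [Finite X] {d : X} {n : ℕ} (hn : 1 ≤ n) (hd : orderOf d = 3 ^ n)
    {P : Subgroup X} (hP : IsPGroup 2 P) (hdP : d ∈ Nm(P)) (hfaith : zpowers d ⊓ Ct(P) = ⊥)
    (hrank : ∀ V : Subgroup X, V ≤ P → IsElementaryAbelian 2 V → Nat.card V ≤ 2 ^ 2) : orderOf d = 3 := by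
  haveI : Fact (Nat.Prime 2) := ⟨Nat.prime_two⟩
  haveI : Fact (Nat.Prime 3) := ⟨Nat.prime_three⟩
  by_contra hne
  have hn2 : 2 ≤ n := by
    rcases n with _ | _ | n
    · omega
    · exact absurd hd hne
    · omega
  have hA : zpowers d ≤ Nm(P) := zpowers_le.2 hdP
  have h3 : IsPGroup 3 (zpowers d) := Comp.isPGroup_zpowers_of_orderOf hd
  obtain ⟨U, hU, hUel⟩ := exists_el_one (p := 3) (H := zpowers d) (by
    rw [Nat.card_zpowers, hd]; exact dvd_pow_self 3 (by omega))
  have hUle : ∀ B, B ≤ zpowers d → B ≠ ⊥ → U ≤ B := by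
    intro B h1 h2
    obtain ⟨Y, hY, hYel⟩ := exists_el_one_of_isPGroup (h3.to_le h1) h2
    rw [hUel.eq_omegaOne_of_isCyclic hU inferInstance, ← hYel.eq_omegaOne_of_isCyclic (hY.trans h1) inferInstance]
    exact hY
  have hUo : Odd (Nat.card U) := by rw [hUel.card_one]; decide
  obtain ⟨H, h1, h2, h4, h5, h6⟩ := Crit2.exists_crit hP
  have hUH : ¬ U ≤ Ct(H) := fun h => hUel.ne_bot (eq_bot_iff.2 (hfaith ▸ le_inf hU (h6 U (hU.trans hA) hUo h)))
  have hdU : zpowers d ≤ Nm(U) := le_normalizer.trans (Solv.normalizer_le_normalizer_of_le_isCyclic inferInstance hU)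
  set D := ⁅H, U⁆ with hD
  have hUN : U ≤ Nm(H) := hU.trans (hA.trans h2)
  have hDH : D ≤ H := le_normalizer_iff_commutator_le_left.1 hUN
  have hDP : IsPGroup 2 D := hP.to_le (hDH.trans h1)
  have cop : ∀ {K : Subgroup X}, IsPGroup 2 K → (Nat.card U).Coprime (Nat.card K) := fun h =>
    (Solv.coprime_card_of_isPGroup h hUo.not_two_dvd_nat).symm
  have hDD : ⁅D, U⁆ = D := commutator_commutator_eq hUN (cop (hP.to_le h1)) (Or.inl (by
    haveI := hUel.isP.isNilpotent; infer_instance))
  have hD0 : D ≠ ⊥ := by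
    intro e
    rw [hD, Subgroup.commutator_eq_bot_iff_le_centralizer, Subgroup.le_centralizer_iff] at e
    exact hUH e
  have hdD : zpowers d ≤ Nm(D) := Comp.le_normalizer_commutator (hA.trans h2) hdU
  set F := (frattini D).map D.subtype with hF
  have hFD : F < D := Solv.map_frattini_lt hD0
  have hNF : Nm(D) ≤ Nm(F) := Solv.normalizer_le_normalizer_map_of_characteristic _ _
  have hq : Nm(D) ≤ Nm(F) := hNF
  have hVab : IsMulCommutative (img hq D) := by
    rw [← Subgroup.le_centralizer_iff_isMulCommutative, img_le_centralizer_iff le_normalizer le_normalizer]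
    exact Solv.commutator_le_map_frattini hDP.isNilpotent
  have hVU : img hq D ⊓ Ct(img hq U) = ⊥ := by
    have := commutator_inf_Ct_of_comm hVab (A := img hq U) (img_le_normalizer (hU.trans hdD))
      (coprime_img (cop hDP))
    rwa [← img_commutator le_normalizer (hU.trans hdD), hDD] at this
  have hdF : zpowers d ⊓ F = ⊥ := Solv.inf_eq_bot_of_coprime'
    (Solv.coprime_card_of_isPGroup_ne (by decide) h3 (hDP.to_le hFD.le))
  have hmod := Solv.card_modEq_one_of_fpf (K := img hq D) (H := img hq (zpowers d)) (img_le_normalizer hdD) (by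
    intro y hy hy1
    obtain ⟨x, hx, rfl⟩ := mem_img.1 hy
    have hx1 : zpowers (x : X) ≠ ⊥ := by
      intro e
      rw [zpowers_eq_bot] at e
      exact hy1 (by rw [show x = 1 from Subtype.ext e, map_one])
    have := img_mono (h := hq) (hUle _ (zpowers_le.2 hx) hx1)
    rw [img_zpowers] at this
    rw [eq_bot_iff, ← hVU]
    refine inf_le_inf_left _ ?_
    rw [Subgroup.le_centralizer_iff]
    refine this.trans (zpowers_le.2 ?_)
    intro g hg
    exact mem_centralizer_singleton_iff.1 hg)
  rw [card_img_of_disjoint hdD hdF, card_img le_normalizer, Nat.card_zpowers, hd] at hmod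
  obtain ⟨k, hk⟩ := IsPGroup.iff_card.1 (hDP.to_quotient (frattini D))
  have hk' : F.relIndex D = 2 ^ k := by
    rw [← hk, hF, Subgroup.relIndex]
    congr 1
    rw [show (map D.subtype (frattini D)).subgroupOf D = frattini D from
      comap_map_eq_self_of_injective D.subtype_injective _]
  have hk6 : 6 ≤ k := by
    have h9 : 2 ^ k ≡ 1 [MOD 9] := by
      rw [← hk']
      exact hmod.of_dvd (by rw [show 9 = 3 ^ 2 from rfl]; exact pow_dvd_pow _ hn2)
    have hk0 : k ≠ 0 := by
      rintro rfl
      rw [pow_zero, relIndex_eq_one] at hk'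
      exact hFD.not_ge hk'
    by_contra hlt
    push_neg at hlt
    interval_cases k <;> simp_all [Nat.ModEq]
  haveI := hDP.isNilpotent
  have hcl : Group.nilpotencyClass D ≤ 2 := by
    rw [← Subgroup.lowerCentralSeries_eq_bot_iff_nilpotencyClass_le]
    apply Subgroup.map_injective D.subtype_injective
    show map D.subtype ⁅⁅(⊤ : Subgroup D), ⊤⁆, ⊤⁆ = _
    rw [Subgroup.map_commutator, Subgroup.map_commutator, ← MonoidHom.range_eq_map, range_subtype, Subgroup.map_bot,
      Subgroup.commutator_eq_bot_iff_le_centralizer]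
    exact (commutator_mono hDH hDH).trans (h4.trans (centralizer_le hDH))
  have key := S4054.result hDP hcl (Monoid.exponent_dvd_iff_forall_pow_eq_one.2
    fun x => Subtype.ext (h5 x (hDH x.2)))
  have e2 : pRank 2 (D ⧸ frattini D) = k := RkCnt.pRank_eq
    (Subgroup.Normal.quotient_commutative_iff_commutator_le.2 Solv.commutator_le_frattini) (fun x => by
      obtain ⟨y, rfl⟩ := QuotientGroup.mk_surjective x
      rw [← QuotientGroup.mk_pow, QuotientGroup.eq_one_iff]; exact Solv.pow_mem_frattini hDP y) hk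
  have bnd : ∀ {Y : Type _} [Group Y] [Finite Y] (f : Y →* X), Function.Injective f → f.range ≤ P →
      pRank 2 Y ≤ 2 := by
    intro Y _ _ f hf hr
    refine csSup_le ⟨0, ⊥, inferInstance, fun a ha => by rw [mem_bot.1 ha, one_pow], by simp⟩ ?_
    rintro j ⟨A, a1, a2, a3⟩
    have := hrank (A.map f) ((map_le_range f A).trans hr) ⟨inferInstance, by
      rintro _ ⟨a, ha, rfl⟩; rw [← map_pow, a2 a ha, map_one]⟩
    rw [Subgroup.card_map_of_injective hf] at this
    exact (Nat.pow_le_pow_iff_right (by norm_num)).1 (a3.trans this)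
  have b1 := bnd D.subtype D.subtype_injective (by rw [range_subtype]; exact hDH.trans h1)
  have b2 := bnd (D.subtype.comp (frattini D).subtype) (D.subtype_injective.comp (frattini D).subtype_injective)
    (by rintro _ ⟨y, rfl⟩; exact h1 (hDH y.1.2))
  rw [e2] at key
  generalize pRank 2 (frattini D) = l at key b2
  interval_cases l <;> omega
end

/-- Let d be a non-identity 3-element of a finite group and P a 2-subgroup normalized by d on which ⟨d⟩ acts faithfully (no non-identity power of d centralizes P) and without non-identity fixed points (C_P(d) = 1). If every abelian subgroup of P has 2-rank at most 2, then d has order 3. -/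
theorem result {X : Type*} [Group X] [Finite X] (d : X) (n : ℕ) (hn : 1 ≤ n) (hd : orderOf d = 3 ^ n) (P : Subgroup X) (hP : IsPGroup 2 P) (hdP : d ∈ Subgroup.normalizer (P : Set X)) (hfaith : Subgroup.zpowers d ⊓ Subgroup.centralizer (P : Set X) = ⊥) (hfpf : P ⊓ Subgroup.centralizer {d} = ⊥) (hrank : ∀ V : Subgroup X, V ≤ P → IsMulCommutative V → Cfsg.PRankLE 2 2 V) : orderOf d = 3 := by
  open Pointwise commutatorElement Subgroup in
  refine ord3 hn hd hP hdP hfaith fun V h1 h2 => ?_
  have := hrank V h1 h2.1 ⊤ (by haveI := h2.1; infer_instance) (fun a _ => Subtype.ext (h2.2 a a.2))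
  rwa [Subgroup.card_top] at this

end Cfsg.Agent.S3738
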