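import Cfsg.Statements.S3739
import Cfsg.Agent.S3738

set_option autoImplicit false
open Cfsg

namespace Cfsg.Agent.S3739

/-- Let G be a finite group with C_G(O₂(G)) ≤ O₂(G) containing an element of order 6, and let d be a non-identity 3-element of G normalizing a nontrivial elementary abelian 2-subgroup W with C_W(d) = 1. Then G has an elementary abelian subgroup of order 8. -/
theorem result {G : Type*} [Group G] [Finite G] (hchar : Subgroup.centralizer (Cfsg.pCore 2 G : Set G) ≤ Cfsg.pCore 2 G) (hsix : ∃ g : G, orderOf g = 6) (d : G) (hd1 : d ≠ 1) (hd : IsPGroup 3 ↥(Subgroup.zpowers d)) (W : Subgroup G) (hW : Cfsg.IsElementaryAbelian 2 W) (hW1 : W ≠ ⊥) (hdW : d ∈ Subgroup.normalizer (W : Set G)) (hfpf : W ⊓ Subgroup.centralizer {d} = ⊥) : ∃ E : Subgroup G, Cfsg.IsElementaryAbelian 2 E ∧ Nat.card E = 8 := by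
  open Pointwise commutatorElement Subgroup in
  open Cfsg.Agent.Comp Cfsg.Agent.BG Subgroup commutatorElement in
  haveI : Fact (Nat.Prime 2) := ⟨Nat.prime_two⟩
  haveI : Fact (Nat.Prime 3) := ⟨Nat.prime_three⟩
  by_contra hno
  have hr : ∀ m (V : Subgroup G), El 2 m V → m ≤ 2 := by
    intro m V h
    by_contra hm
    obtain ⟨E, -, hE⟩ := h.exists_le (k := 3) (by omega)
    exact hno ⟨E, hE.elem, hE.card⟩
  rw [← Op_top] at hchar
  set Q := Op 2 (⊤ : Subgroup G) with hQ
  have hQP : IsPGroup 2 Q := isPGroup_Op 2 _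
  haveI hQn : Q.Normal := normalizer_eq_top_iff.1 (eq_top_iff.2 (le_normalizer_Op le_normalizer))
  have hfa : ∀ {A : Subgroup G}, IsPGroup 3 A → A ⊓ Ct(Q) = ⊥ := fun h =>
    eq_bot_iff.2 ((inf_le_inf_left _ hchar).trans
      (Solv.inf_eq_bot_of_coprime' (Solv.coprime_card_of_isPGroup_ne (by decide) h hQP)).le)
  obtain ⟨n, hn⟩ := IsPGroup.iff_card.1 hd
  rw [Nat.card_zpowers] at hn
  have hd3 : orderOf d = 3 := S3738.ord3 (P := Q) (by
    rcases n with _ | n
    · rw [pow_zero, orderOf_eq_one_iff] at hn; exact absurd hn hd1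
    · omega) hn hQP (le_normalizer_of_normal (mem_top d)) (hfa hd) (fun V _ h => by
      obtain ⟨m, hm⟩ := exists_el_of_elem h
      rw [hm.card]; exact Nat.pow_le_pow_right (by norm_num) (hr m V hm))
  have cnt0 : ∀ (Z : Subgroup G) (y : G), IsElementaryAbelian 2 Z → orderOf y = 3 → y ∈ Nm(Z) → Z ⊓ C1(y) = ⊥ →
      Z = ⊥ ∨ El 2 2 Z := by
    intro Z y h1 h2 h3 h4
    have := Solv.card_modEq_one_of_fpf (zpowers_le.2 h3) (Solv.fpf_zpowers_of_prime (h2 ▸ Nat.prime_three) h4)
    obtain ⟨m, hm⟩ := exists_el_of_elem h1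
    have h5 := hr m Z hm
    rw [Nat.card_zpowers, h2, hm.card] at this
    interval_cases m
    · left; rw [← Subgroup.card_eq_one]; exact hm.card
    · simp [Nat.ModEq] at this
    · exact Or.inr hm
  have hW2 : El 2 2 W := (cnt0 W d hW hd3 hdW hfpf).resolve_left hW1
  have cnt : ∀ (Z : Subgroup G) (y : G), Z ≤ W → orderOf y = 3 → y ∈ Nm(Z) → Z ⊓ C1(y) = ⊥ → Z = ⊥ ∨ Z = W := by
    intro Z y h1 h2 h3 h4
    refine (cnt0 Z y ⟨Solv.isMulCommutative_of_le h1 hW.1, fun a ha => hW.2 a (h1 ha)⟩ h2 h3 h4).imp id fun h => ?_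
    exact h.eq_of_le hW2 h1
  have inv : ∀ t ∈ Ct(W), t ^ 2 = 1 → t ∈ W := by
    intro t h1 h2
    by_contra h3
    have := hr _ _ (hW2.sup_zpowers h1 h3 h2)
    omega
  have ne1 : ∀ {z : G} {k : ℕ}, orderOf z = k + 2 → z ≠ 1 := by
    intro z k h e
    rw [e, orderOf_one] at h
    omega
  have hWQ : W ≤ Ct(Q) := by
    have hT : IsPGroup 2 (W ⊔ Q : Subgroup G) := IsPGroup.to_sup_of_normal_right hW2.isP hQP
    obtain ⟨z, hz, h2, h3⟩ := exists_fixed_orderOf hT hT le_normalizer (fun e => hW1 (eq_bot_iff.2 (e ▸ le_sup_left)))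
    have hzC : z ∈ Ct((W ⊔ Q : Subgroup G)) := fun g hg => mem_centralizer_singleton_iff.1 (h3 hg)
    have hzW := inv z (centralizer_le (show W ≤ W ⊔ Q from le_sup_left) hzC) (h2 ▸ pow_orderOf_eq_one z)
    rcases cnt (W ⊓ Ct(Q)) d inf_le_left hd3
      (Comp.le_normalizer_inf (A := zpowers d) (zpowers_le.2 hdW) le_normalizer_of_normal (mem_zpowers d))
      (eq_bot_iff.2 (hfpf ▸ inf_le_inf_right _ inf_le_left)) with h | h
    · exact absurd (mem_bot.1 (h ▸ (⟨hzW, centralizer_le (show Q ≤ W ⊔ Q from le_sup_right) hzC⟩ : z ∈ W ⊓ Ct(Q)))) (ne1 h2)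
    · exact h ▸ inf_le_right
  have hQW : Q ≤ Ct(W) := Subgroup.le_centralizer_iff.1 hWQ
  haveI hWn : W.Normal := ⟨fun w hw g => inv _ (hQW (hQn.conj_mem _ (hchar (hWQ hw)) g)) (by
    rw [conj_pow, hW.2 w hw]; group)⟩
  have dich : ∀ y : G, orderOf y = 3 → y ∈ Ct(W) ∨ W ⊓ C1(y) = ⊥ := by
    intro y hy
    have hc : (Nat.card (zpowers y)).Coprime (Nat.card W) := by
      rw [Nat.card_zpowers, hy, hW2.card]; norm_num
    have h1 := commutator_inf_Ct_of_comm hW.1 (A := zpowers y) le_normalizer_of_normal hc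
    have h2 : ⁅W, zpowers y⁆ ⊓ C1(y) = ⊥ := by
      rw [eq_bot_iff, ← h1]
      refine inf_le_inf_left _ ?_
      rw [Subgroup.le_centralizer_iff, zpowers_le]
      intro g hg
      exact mem_centralizer_singleton_iff.1 hg
    rcases cnt _ y (commutator_le_left _ _) hy
      (Comp.sup_le_normalizer_commutator _ _ (mem_sup_right (mem_zpowers y))) h2 with h | h
    · left
      rw [Subgroup.commutator_eq_bot_iff_le_centralizer, Subgroup.le_centralizer_iff] at h
      exact h (mem_zpowers y)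
    · right; rwa [h] at h2
  obtain ⟨g, hg⟩ := hsix
  have hx : orderOf (g ^ 2) = 3 := by rw [orderOf_pow' _ (by norm_num), hg]; norm_num
  have ht : orderOf (g ^ 3) = 2 := by rw [orderOf_pow' _ (by norm_num), hg]; norm_num
  have hxW : g ^ 2 ∈ Ct(W) := by
    refine (dich _ hx).resolve_right fun h => ?_
    obtain ⟨z, hz, h2, h3⟩ := exists_fixed_orderOf (T := zpowers (g ^ 3))
      (Comp.isPGroup_zpowers_of_orderOf_eq ht) hW2.isP le_normalizer_of_normal hW1
    have hc : g ^ 2 ∈ C1(g ^ 3) := mem_centralizer_singleton_iff.2 (by group)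
    rcases cnt (W ⊓ C1(g ^ 3)) (g ^ 2) inf_le_left hx
      (Comp.le_normalizer_inf (A := C1(g ^ 3)) le_normalizer_of_normal le_normalizer hc)
      (eq_bot_iff.2 (h ▸ inf_le_inf_right _ inf_le_left)) with h4 | h4
    · refine ne1 h2 (mem_bot.1 (h4 ▸ (⟨hz, ?_⟩ : z ∈ W ⊓ C1(g ^ 3))))
      exact mem_centralizer_singleton_iff.2 (mem_centralizer_singleton_iff.1 (h3 (mem_zpowers _))).symm
    · have h5 : g ^ 3 ∈ Ct(W) := fun w hw => mem_centralizer_singleton_iff.1 ((h4.ge hw).2)
      have h6 := inv _ h5 (ht ▸ pow_orderOf_eq_one _)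
      refine ne1 ht (mem_bot.1 (h ▸ (⟨h6, ?_⟩ : g ^ 3 ∈ W ⊓ C1(g ^ 2))))
      exact mem_centralizer_singleton_iff.2 (by group)
  obtain ⟨S, hdS, hS⟩ := exists_sylIn_ge hd le_top
  have hS2 := hS.inf_normal (N := Ct(W)) le_top le_normalizer_of_normal
  obtain ⟨z, hz, h2, h3⟩ := exists_fixed_orderOf hd hS2.isP
    (Comp.le_normalizer_inf (hdS.trans le_normalizer) le_normalizer_of_normal)
    (hS2.ne_bot (by rw [← hx]; exact Subgroup.orderOf_dvd_natCard _ hxW))
  have hdC : d ∉ Ct(W) := by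
    intro h
    apply hW1
    rw [← hfpf, left_eq_inf]
    intro w hw
    exact mem_centralizer_singleton_iff.2 (h w hw)
  have hzel := el_one_zpowers h2
  have hzC : zpowers z ≤ Ct(W) := zpowers_le.2 hz.2
  have hE := hzel.sup_zpowers (x := d) (by
    have : zpowers z ≤ C1(d) := zpowers_le.2
      (mem_centralizer_singleton_iff.2 (mem_centralizer_singleton_iff.1 (h3 (mem_zpowers d))).symm)
    intro y hy
    exact mem_centralizer_singleton_iff.1 (this hy)) (fun h => hdC (hzC h)) (hd3 ▸ pow_orderOf_eq_one d)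
  have fin := le_of_forall_el_one (K := Q) (L := Ct(zpowers z)) hE le_rfl le_normalizer_of_normal
    (Solv.coprime_card_of_isPGroup hQP (by decide)) (by
      intro Y hY hYel
      obtain ⟨y, hy, rfl⟩ := hYel.exists_zpowers
      rcases dich y hy with h | h
      · by_cases e : zpowers y = zpowers z
        · rw [e]; exact inf_le_right
        · have := hE.eq_sup hYel hzel hY le_sup_left e
          exact absurd ((this.ge.trans (sup_le (zpowers_le.2 h) hzC)) (mem_sup_right (mem_zpowers d))) hdC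
      · by_cases e : Q ⊓ Ct(zpowers y) = ⊥
        · rw [e]; exact bot_le
        · exfalso
          obtain ⟨X, hX, hXel⟩ := exists_el_one_of_isPGroup hQP.to_inf_left e
          apply hXel.ne_bot
          rw [eq_bot_iff, ← h]
          intro t ht
          exact ⟨inv t (hQW (hX ht).1) (hXel.pow ht),
            mem_centralizer_singleton_iff.2 ((hX ht).2 y (mem_zpowers y)).symm⟩)
  have := hfa hzel.isP
  rw [inf_eq_left.2 (Subgroup.le_centralizer_iff.1 fin)] at this
  exact hzel.ne_bot this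

end Cfsg.Agent.S3739
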