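import Cfsg.Statements.S3740
import Mathlib
import Cfsg.Agent.Lib.Perm.Dick9

set_option autoImplicit false
open Cfsg

namespace Cfsg.Agent.S3740

open Cfsg.Agent.Perm.GL2 Matrix QuaternionGroup Subgroup
open Matrix.SpecialLinearGroup (toGL toGL_injective)

abbrev S3 := SpecialLinearGroup (Fin 2) (ZMod 3)
def u3 : S3 := ⟨!![1,1;0,1], by decide⟩
def l3 : S3 := ⟨!![1,0;-1,1], by decide⟩
theorem gen3 : ∀ g : S3, ∃ i j k m n : Fin 3,
    g = u3 ^ i.val * l3 ^ j.val * u3 ^ k.val * l3 ^ m.val * u3 ^ n.val := by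
  decide +kernel
def i3 : S3 := ⟨!![0,-1;1,0], by decide⟩
def j3 : S3 := ⟨!![1,1;1,-1], by decide⟩
def qf : QuaternionGroup 2 → S3
  | .a i => i3 ^ i.val
  | .xa i => j3 * i3 ^ i.val
def ψ : QuaternionGroup 2 →* S3 := MonoidHom.mk' qf (by decide +kernel)
theorem ψ_inj : Function.Injective ψ := by
  have : ∀ a b, qf a = qf b → a = b := by decide +kernel
  exact this
theorem ψ_mem : ∀ g : S3, g ^ 12 = 1 ∧ (g ^ 4 = 1 ↔ ∃ q, qf q = g) := by decide +kernel

section
variable {G : Type*} [Group G] [Finite G]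

def Hyp (p : ℕ) (a : G) (R : Subgroup G) : Prop :=
  a ^ p = 1 ∧ (Nat.card R).Coprime p ∧ a ∈ normalizer (R : Set G) ∧ ∃ r ∈ R, r * a * r⁻¹ ≠ a

def Con (p : ℕ) (a : G) (R : Subgroup G) : Prop :=
  p = 3 ∧ Nonempty (R ≃* QuaternionGroup 2) ∧ Nonempty (↥(R ⊔ zpowers a) ≃* S3)

omit [Finite G] in
theorem Hyp.map {p : ℕ} {a : G} {R : Subgroup G} (h : Hyp p a R) (φ : G →* G)
    (hφ : Function.Injective φ) : Hyp p (φ a) (R.map φ) := by
  obtain ⟨h1, h2, h3, r, hr, h4⟩ := h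
  refine ⟨by rw [← map_pow, h1, map_one], ?_, le_normalizer_map φ ⟨a, h3, rfl⟩, φ r, ⟨r, hr, rfl⟩, ?_⟩
  · rwa [← Nat.card_congr (R.equivMapOfInjective φ hφ).toEquiv]
  · rw [← map_inv, ← map_mul, ← map_mul]; exact fun e => h4 (hφ e)

omit [Finite G] in
theorem Con.of_map {p : ℕ} {a : G} {R : Subgroup G} (φ : G →* G)
    (hφ : Function.Injective φ) (h : Con p (φ a) (R.map φ)) : Con p a R := by
  obtain ⟨h1, ⟨e⟩, ⟨e'⟩⟩ := h
  refine ⟨h1, ⟨(R.equivMapOfInjective φ hφ).trans e⟩,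
    ⟨((R ⊔ zpowers a).equivMapOfInjective φ hφ).trans ((MulEquiv.subgroupCongr ?_).trans e')⟩⟩
  rw [Subgroup.map_sup, MonoidHom.map_zpowers]

theorem Hyp.eq_one {p : ℕ} {a : G} {R : Subgroup G} (h : Hyp p a R) {g : G} (hg : g ∈ R)
    (hp : g ^ p = 1) : g = 1 := by
  have h1 : orderOf g ∣ Nat.card R := orderOf_dvd_natCard _ hg
  exact orderOf_eq_one_iff.1 (Nat.eq_one_of_dvd_coprimes h.2.1 h1 (orderOf_dvd_of_pow_eq_one hp))

theorem Hyp.hom {p : ℕ} [hp : Fact p.Prime] {a : G} {R : Subgroup G} (h : Hyp p a R) :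
    ∃ _ : (R.subgroupOf (R ⊔ zpowers a)).Normal,
      orderOf (QuotientGroup.mk' (R.subgroupOf (R ⊔ zpowers a)) ⟨a, mem_sup_right (mem_zpowers a)⟩) = p ∧
      ∀ g, QuotientGroup.mk' (R.subgroupOf (R ⊔ zpowers a)) g ∈
        zpowers (QuotientGroup.mk' (R.subgroupOf (R ⊔ zpowers a)) ⟨a, mem_sup_right (mem_zpowers a)⟩) := by
  have hN : (R.subgroupOf (R ⊔ zpowers a)).Normal :=
    (normal_subgroupOf_iff_le_normalizer le_sup_left).2
      (sup_le le_normalizer (zpowers_le_of_mem h.2.2.1))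
  refine ⟨hN, ?_, ?_⟩
  · apply orderOf_eq_prime
    · rw [← map_pow]; exact (congrArg _ (Subtype.ext h.1)).trans (map_one _)
    · intro e
      have e' := (QuotientGroup.eq_one_iff (N := R.subgroupOf (R ⊔ zpowers a)) _).1 e
      have : a = 1 := h.eq_one e' h.1
      obtain ⟨r, -, hr⟩ := h.2.2.2
      exact hr (by rw [this]; simp)
  · intro g
    set π := QuotientGroup.mk' (R.subgroupOf (R ⊔ zpowers a))
    set K := (zpowers (π ⟨a, mem_sup_right (mem_zpowers a)⟩)).comap π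
    have : R ⊔ zpowers a ≤ K.map (R ⊔ zpowers a).subtype := by
      refine sup_le (fun r hr => ⟨⟨r, mem_sup_left hr⟩, ?_, rfl⟩)
        (zpowers_le_of_mem ⟨⟨a, mem_sup_right (mem_zpowers a)⟩, mem_zpowers _, rfl⟩)
      have : π ⟨r, mem_sup_left hr⟩ = 1 := (QuotientGroup.eq_one_iff _).2 hr
      refine mem_comap.2 ?_
      rw [this]; exact one_mem _
    obtain ⟨k, hk, e⟩ := this g.2
    rw [← Subtype.ext e]; exact hk
end

variable {F : Type} [Field F] [Fintype F] {p : ℕ} [hp : Fact p.Prime] [CharP F p]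

theorem tr_sq {g : SL2 F} (h : p ∣ orderOf g) : (g : M2 F).trace ^ 2 = 4 := by
  obtain ⟨n, -, hn⟩ := FiniteField.card F p
  have hq : p ∣ Fintype.card F := hn ▸ dvd_pow_self p n.ne_zero
  rcases classify_SL g with hs | hs | ⟨k, hk, hs⟩ | ⟨k, hk, hs⟩
  · rcases isScal_SL_iff.1 hs with rfl | rfl <;> simp <;> norm_num
  · have := h.trans (orderOf_dvd_natCard (cent g) (mem_cent.2 rfl))
    rw [hs.card_cent_SL] at this
    exact absurd ((Nat.dvd_add_right hq).1 this) hp.out.not_dvd_one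
  · have d := det_SL k
    rw [trace_eq_of_isConj_SL hk, Matrix.trace_fin_two]
    obtain ⟨h1, h2, h3⟩ := hs
    rw [h1, ← h2] at d
    rw [← h2]
    linear_combination 4 * d
  · rw [orderOf_eq_of_isConj hk] at h
    have := h.trans (orderOf_dvd_natCard (cent k) (mem_cent.2 rfl))
    rw [hs.card_cent_SL] at this
    have h2 := Nat.dvd_sub hq this
    rw [Nat.sub_sub_self Fintype.card_pos] at h2
    exact absurd h2 hp.out.not_dvd_one

theorem Hyp.tr {a : SL2 F} {R : Subgroup (SL2 F)} (h : Hyp p a R) {x y : SL2 F}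
    (hx : x ∈ R ⊔ zpowers a) (hy : y ∈ R ⊔ zpowers a) (i : ℕ) (hi : ¬ p ∣ i + 1) :
    (((x * a * x⁻¹) ^ i * (y * a * y⁻¹) : SL2 F) : M2 F).trace ^ 2 = 4 := by
  obtain ⟨_, h1, h2⟩ := h.hom
  set π := QuotientGroup.mk' (R.subgroupOf (R ⊔ zpowers a))
  set A : ↥(R ⊔ zpowers a) := ⟨a, mem_sup_right (mem_zpowers a)⟩
  set X : ↥(R ⊔ zpowers a) := ⟨x, hx⟩
  set Y : ↥(R ⊔ zpowers a) := ⟨y, hy⟩
  have h3 : ∀ Z, π (Z * A * Z⁻¹) = π A := fun Z => by
    obtain ⟨k, hk⟩ := h2 Z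
    rw [map_mul, map_mul, map_inv, ← hk]; simp only; group
  apply tr_sq (p := p)
  have e : (x * a * x⁻¹) ^ i * (y * a * y⁻¹) = ((X * A * X⁻¹) ^ i * (Y * A * Y⁻¹)).1 := rfl
  rw [e, Subgroup.orderOf_coe]
  refine dvd_trans ?_ (orderOf_map_dvd π _)
  rw [map_mul, map_pow, h3, h3, ← pow_succ, orderOf_pow, h1,
    ((Nat.Prime.coprime_iff_not_dvd hp.out).2 hi).gcd_eq_one, Nat.div_one]

theorem conj_entries (h : SL2 F) (m : M2 F) (g : SL2 F) (hg : (g : M2 F) = 1 + m) :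
    ((h * g * h⁻¹ : SL2 F) : M2 F) = 1 + (h : M2 F) * m * !![(h : M2 F) 1 1, -(h : M2 F) 0 1; -(h : M2 F) 1 0, (h : M2 F) 0 0] := by
  have : ((h⁻¹ : SL2 F) : M2 F) = !![(h : M2 F) 1 1, -(h : M2 F) 0 1; -(h : M2 F) 1 0, (h : M2 F) 0 0] := by
    rw [Matrix.SpecialLinearGroup.coe_inv, Matrix.adjugate_fin_two]
  rw [← this, Matrix.SpecialLinearGroup.coe_mul, Matrix.SpecialLinearGroup.coe_mul, hg, mul_add,
    add_mul, mul_one, ← Matrix.SpecialLinearGroup.coe_mul, mul_inv_cancel,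
    Matrix.SpecialLinearGroup.coe_one]

def uu (x : F) : SL2 F := ⟨!![1, x; 0, 1], by simp [Matrix.det_fin_two]⟩
def ll : SL2 F := ⟨!![1, 0; -1, 1], by simp [Matrix.det_fin_two]⟩

theorem cu (h : SL2 F) : ((h * uu 1 * h⁻¹ : SL2 F) : M2 F) =
    !![1 - (h : M2 F) 0 0 * (h : M2 F) 1 0, (h : M2 F) 0 0 ^ 2;
      -(h : M2 F) 1 0 ^ 2, 1 + (h : M2 F) 0 0 * (h : M2 F) 1 0] := by
  rw [conj_entries h !![0, 1; 0, 0] _ (by ext i j; fin_cases i <;> fin_cases j <;> simp [uu])]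
  ext i j; fin_cases i <;> fin_cases j <;> simp [Matrix.mul_apply, Fin.sum_univ_two] <;> ring

theorem cl (h : SL2 F) : ((h * ll * h⁻¹ : SL2 F) : M2 F) =
    !![1 - (h : M2 F) 0 1 * (h : M2 F) 1 1, (h : M2 F) 0 1 ^ 2;
      -(h : M2 F) 1 1 ^ 2, 1 + (h : M2 F) 0 1 * (h : M2 F) 1 1] := by
  rw [conj_entries h !![0, 0; -1, 0] _ (by ext i j; fin_cases i <;> fin_cases j <;> simp [ll])]
  ext i j; fin_cases i <;> fin_cases j <;> simp [Matrix.mul_apply, Fin.sum_univ_two] <;> ring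

theorem tr_u (x : F) (B : SL2 F) : ((uu x * B : SL2 F) : M2 F).trace = (B : M2 F).trace + x * (B : M2 F) 1 0 := by
  rw [Matrix.SpecialLinearGroup.coe_mul]
  change (!![1, x; 0, 1] * (B : M2 F)).trace = _
  rw [Matrix.trace_fin_two, mul_apply2, mul_apply2, Matrix.trace_fin_two]; simp; ring

theorem tr_l (B : SL2 F) : ((ll * B : SL2 F) : M2 F).trace = (B : M2 F).trace - (B : M2 F) 0 1 := by
  rw [Matrix.SpecialLinearGroup.coe_mul]
  change (!![1, 0; -1, 1] * (B : M2 F)).trace = _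
  rw [Matrix.trace_fin_two, mul_apply2, mul_apply2, Matrix.trace_fin_two]; simp; ring

theorem uu_mul (x y : F) : uu x * uu y = uu (x + y) := by
  apply Subtype.ext
  change !![1, x; 0, 1] * !![1, y; 0, 1] = !![1, x + y; 0, 1]
  simp [add_comm]

theorem uu_pow (x : F) (n : ℕ) : uu x ^ n = uu (n * x) := by
  induction n with
  | zero =>
    rw [pow_zero]
    apply Subtype.ext
    change 1 = !![1, _; 0, 1]
    simp [Matrix.one_fin_two]
  | succ n ih => rw [pow_succ, ih, uu_mul]; congr 1; push_cast; ring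

theorem uu_zero : uu (0 : F) = 1 := by simpa using (uu_pow (0 : F) 0).symm

theorem core2 [CharP F 3] {R : Subgroup (SL2 F)} (h : Hyp 3 (uu (1 : F)) R) {r : SL2 F} (hr : r ∈ R)
    (e : r * uu 1 * r⁻¹ = ll) : Con 3 (uu (1 : F)) R := by
  haveI : Fact (Nat.Prime 3) := ⟨by norm_num⟩
  have h3 : (3 : F) = 0 := by exact_mod_cast CharP.cast_eq_zero F 3
  let f := ZMod.castHom (dvd_refl 3) F
  let φ : S3 →* SL2 F := Matrix.SpecialLinearGroup.map f
  have hi : Function.Injective φ := fun a b e =>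
    Subtype.ext (Matrix.map_injective f.injective (congrArg Subtype.val e))
  have pu : φ u3 = uu 1 := Subtype.ext (m2_ext (map_one f) (map_one f) (map_zero f) (map_one f))
  have pl : φ l3 = ll := Subtype.ext (m2_ext (map_one f) (map_zero f)
    ((map_neg f 1).trans (congrArg _ (map_one f))) (map_one f))
  have mu : uu 1 ∈ R ⊔ zpowers (uu 1) := mem_sup_right (mem_zpowers _)
  have mr : r ∈ R ⊔ zpowers (uu 1) := mem_sup_left hr
  have ml : ll ∈ R ⊔ zpowers (uu 1) := e ▸ mul_mem (mul_mem mr mu) (inv_mem mr)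
  have rt : ∀ s : F, (2 - s ^ 2) ^ 2 = 4 → ∃ c, f c = s := by
    intro s hs
    have : s * s * (s - 1) * (s + 1) = 0 := by linear_combination hs + s ^ 2 * h3
    simp only [mul_eq_zero, or_self] at this
    rcases this with (h | h) | h
    · exact ⟨0, by simp [h]⟩
    · exact ⟨1, by rw [map_one]; linear_combination -h⟩
    · exact ⟨-1, by rw [map_neg, map_one]; linear_combination -h⟩
  have E : R ⊔ zpowers (uu 1) = φ.range := by
    apply le_antisymm
    · intro x hx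
      have t1 := h.tr (one_mem _) hx 1 (by norm_num)
      have t2 := h.tr mr hx 1 (by norm_num)
      have t3 := h.tr (one_mem _) (mul_mem hx mr) 1 (by norm_num)
      have t4 := h.tr mr (mul_mem hx mr) 1 (by norm_num)
      have e2 : x * r * uu 1 * (x * r)⁻¹ = x * ll * x⁻¹ := by rw [← e]; group
      rw [e2] at t3 t4
      rw [pow_one, e, tr_l] at t2 t4
      rw [pow_one, one_mul, inv_one, mul_one, tr_u] at t1 t3
      rw [cu] at t1 t2
      rw [cl] at t3 t4
      simp [Matrix.trace_fin_two] at t1 t2 t3 t4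
      obtain ⟨c1, e1⟩ := rt ((x : M2 F) 0 0) (by rw [← t2]; ring)
      obtain ⟨c2, e2⟩ := rt ((x : M2 F) 0 1) (by rw [← t4]; ring)
      obtain ⟨c3, e3⟩ := rt ((x : M2 F) 1 0) (by rw [← t1]; ring)
      obtain ⟨c4, e4⟩ := rt ((x : M2 F) 1 1) (by rw [← t3]; ring)
      refine ⟨⟨!![c1, c2; c3, c4], f.injective ?_⟩, ?_⟩
      · rw [Matrix.det_fin_two_of, map_sub, map_mul, map_mul, e1, e2, e3, e4, map_one, det_SL]
      · exact Subtype.ext (m2_ext e1 e2 e3 e4)
    · rintro _ ⟨g, rfl⟩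
      obtain ⟨i, j, k, m, n, rfl⟩ := gen3 g
      simp only [map_mul, map_pow, pu, pl]
      exact mul_mem (mul_mem (mul_mem (mul_mem (pow_mem mu _) (pow_mem ml _)) (pow_mem mu _))
        (pow_mem ml _)) (pow_mem mu _)
  have E2 : R = (φ.comp ψ).range := by
    apply le_antisymm
    · intro x hx
      obtain ⟨g, rfl⟩ := E.le (mem_sup_left hx)
      have : φ g ^ 4 = 1 := h.eq_one (pow_mem hx 4) (by rw [← pow_mul, ← map_pow, (ψ_mem g).1, map_one])
      rw [← map_pow, ← map_one φ] at this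
      obtain ⟨q, hq⟩ := (ψ_mem g).2.1 (hi this)
      exact ⟨q, congrArg φ hq⟩
    · rintro _ ⟨q, rfl⟩
      obtain ⟨_, h1, h2⟩ := h.hom
      set π := QuotientGroup.mk' (R.subgroupOf (R ⊔ zpowers (uu (1 : F))))
      let g : ↥(R ⊔ zpowers (uu (1 : F))) := ⟨φ (ψ q), E.ge ⟨_, rfl⟩⟩
      have a4 : π g ^ 4 = 1 := by
        have : g ^ 4 = 1 := Subtype.ext (by
          change φ (ψ q) ^ 4 = 1
          rw [← map_pow, (ψ_mem (ψ q)).2.2 ⟨q, rfl⟩, map_one])
        rw [← map_pow, this, map_one]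
      have a3 : π g ^ 3 = 1 := by
        obtain ⟨k, hk⟩ := h2 g
        simp only at hk
        rw [← hk, ← _root_.zpow_natCast, ← _root_.zpow_mul, mul_comm, _root_.zpow_mul, _root_.zpow_natCast, ← h1,
          pow_orderOf_eq_one, _root_.one_zpow]
      rw [pow_succ, a3, one_mul] at a4
      exact (QuotientGroup.eq_one_iff g).1 a4
  exact ⟨rfl, ⟨(MulEquiv.subgroupCongr E2).trans (MonoidHom.ofInjective (f := φ.comp ψ)
    (fun _ _ e => ψ_inj (hi e))).symm⟩,
    ⟨(MulEquiv.subgroupCongr E).trans (MonoidHom.ofInjective hi).symm⟩⟩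

theorem core1 (h2 : p ≠ 2) {R : Subgroup (SL2 F)} (h : Hyp p (uu (1 : F)) R) : Con p (uu (1 : F)) R := by
  obtain ⟨r, hr, hne⟩ := h.2.2.2
  have mr : r ∈ R ⊔ zpowers (uu 1) := mem_sup_left hr
  have t2 : (2 : F) ≠ 0 := two_ne_of_char h2
  have c := cu r
  have z0 : (r : M2 F) 1 0 ≠ 0 := by
    intro h0
    have e : r * uu 1 * r⁻¹ = uu ((r : M2 F) 0 0 ^ 2) := by
      apply Subtype.ext
      change ((r * uu 1 * r⁻¹ : SL2 F) : M2 F) = !![1, _; 0, 1]
      rw [c, h0]; simp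
    have m : uu (-1) * (r * uu 1 * r⁻¹) ∈ R := by
      have : (uu (-1) : SL2 F) = (uu 1)⁻¹ := by
        rw [eq_inv_iff_mul_eq_one, uu_mul, neg_add_cancel, uu_zero]
      rw [this, ← mul_assoc, ← mul_assoc]
      exact mul_mem ((mem_normalizer_iff''.1 h.2.2.1 r).1 hr) (inv_mem hr)
    have := h.eq_one m (by rw [e, uu_mul, uu_pow, CharP.cast_eq_zero, zero_mul, uu_zero])
    apply hne
    calc _ = uu 1 * (uu (-1) * (r * uu 1 * r⁻¹)) := by
          rw [← mul_assoc (uu 1), uu_mul, add_neg_cancel, uu_zero, one_mul]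
      _ = _ := by rw [this, mul_one]
  have z2 := pow_ne_zero 2 z0
  have t1 := h.tr (one_mem _) mr 1 (fun e => h2 ((Nat.prime_dvd_prime_iff_eq hp.out Nat.prime_two).1 e))
  rw [pow_one, one_mul, inv_one, mul_one, tr_u, c] at t1
  simp [Matrix.trace_fin_two] at t1
  have z4 : (r : M2 F) 1 0 ^ 2 = 4 := mul_left_cancel₀ z2 (by linear_combination t1)
  have h3 : p = 3 := by
    by_contra h3
    have t3 := h.tr (one_mem _) mr 2 (fun e => h3 ((Nat.prime_dvd_prime_iff_eq hp.out Nat.prime_three).1 e))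
    rw [one_mul, inv_one, mul_one, uu_pow, tr_u, c] at t3
    simp [Matrix.trace_fin_two] at t3
    rw [z4] at t3
    exact pow_ne_zero 5 t2 (by linear_combination t3)
  subst h3
  have h3 : (3 : F) = 0 := by exact_mod_cast CharP.cast_eq_zero F 3
  let s : F := -((r : M2 F) 0 0 * (r : M2 F) 1 0)
  let φ : SL2 F →* SL2 F := (MulAut.conj (uu s)).toMonoidHom
  have hφ : Function.Injective φ := (MulAut.conj (uu s)).injective
  have e1 : φ (uu 1) = uu 1 := by
    change uu s * uu 1 * (uu s)⁻¹ = _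
    rw [mul_inv_eq_iff_eq_mul, uu_mul, uu_mul, add_comm]
  refine Con.of_map φ hφ ?_
  have h' := h.map φ hφ
  rw [e1] at h' ⊢
  refine core2 h' ⟨r, hr, rfl⟩ ?_
  rw [← e1, ← map_inv, ← map_mul, ← map_mul]
  change uu s * _ * (uu s)⁻¹ = _
  rw [mul_inv_eq_iff_eq_mul]
  apply Subtype.ext
  change !![1, s; 0, 1] * ((r * uu 1 * r⁻¹ : SL2 F) : M2 F) = !![1, 0; -1, 1] * !![1, s; 0, 1]
  rw [c]
  have z1 : (r : M2 F) 1 0 ^ 2 = 1 := by rw [z4]; linear_combination h3
  apply m2_ext <;> simp [mul_apply2, z1, s]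
  all_goals first | linear_combination -(r : M2 F) 0 0 ^ 2 * z1 | ring

/-- Let F be a finite field of odd characteristic p and let a be a p-element of SL₂(F) normalizing a subgroup R of order prime to p with [R, a] ≠ 1. Then p = 3, R is a quaternion group of order 8, and R⟨a⟩ is isomorphic to SL₂(3). -/
theorem result (F : Type) [Field F] [Fintype F] {p : ℕ} [Fact p.Prime] [CharP F p] (hp : p ≠ 2) (a : Matrix.SpecialLinearGroup (Fin 2) F) (ha : IsPGroup p ↥(Subgroup.zpowers a)) (R : Subgroup (Matrix.SpecialLinearGroup (Fin 2) F)) (hR : (Nat.card R).Coprime p) (haR : a ∈ Subgroup.normalizer (R : Set (Matrix.SpecialLinearGroup (Fin 2) F))) (hnt : ⁅R, Subgroup.zpowers a⁆ ≠ ⊥) : p = 3 ∧ Nonempty (↥R ≃* QuaternionGroup 2) ∧ Nonempty (↥(R ⊔ Subgroup.zpowers a) ≃* Matrix.SpecialLinearGroup (Fin 2) (ZMod 3)) := by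
  obtain ⟨k, hk⟩ := ha ⟨a, mem_zpowers a⟩
  have hk' : a ^ p ^ k = 1 := congrArg Subtype.val hk
  have hr : ∃ r ∈ R, r * a * r⁻¹ ≠ a := by
    by_contra h
    push Not at h
    apply hnt
    rw [commutator_eq_bot_iff_le_centralizer]
    intro r hr
    rw [mem_centralizer_iff]
    rintro _ ⟨n, rfl⟩
    exact (Commute.zpow_left (mul_inv_eq_iff_eq_mul.1 (h r hr)).symm n).eq
  have a1 : a ≠ 1 := by
    obtain ⟨r, -, hr⟩ := hr
    rintro rfl; simp at hr
  have t2 : (2 : F) ≠ 0 := two_ne_of_char hp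
  have odd : Odd (p ^ k) := ((Fact.out : p.Prime).odd_of_ne_two hp).pow
  have sa : ¬ IsScal (a : M2 F) := by
    intro h
    rcases isScal_SL_iff.1 h with h | h
    · exact a1 h
    · rw [h, odd.neg_one_pow] at hk'; exact neg_one_ne_one_SL t2 hk'
  have ta : (a : M2 F).trace = 2 := by
    have d : p ∣ orderOf a := by
      obtain ⟨j, -, hj⟩ := (Nat.dvd_prime_pow Fact.out).1 (orderOf_dvd_of_pow_eq_one hk')
      rw [hj]
      refine dvd_pow_self p ?_
      rintro rfl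
      exact a1 (orderOf_eq_one_iff.1 hj)
    have t := tr_sq d
    have n : ((a : M2 F) - 1) ^ p ^ k = 0 := by
      rw [sub_pow_char_pow_of_commute p k (Commute.one_right _), ← Matrix.SpecialLinearGroup.coe_pow,
        hk']; simp
    have dz : ((a : M2 F) - 1).det = 0 := by
      have := congrArg Matrix.det n
      rw [Matrix.det_pow, Matrix.det_zero] at this
      exact pow_eq_zero_iff (pow_ne_zero k (Fact.out : p.Prime).ne_zero) |>.1 this
    have := det_SL a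
    rw [Matrix.det_fin_two] at dz
    rw [Matrix.trace_fin_two]
    simp at dz
    linear_combination this - dz
  obtain ⟨c, hc⟩ := exists_conj_of_trace_det sa (m' := (uu (1 : F) : M2 F))
    (by simp [IsScal, uu]) (by rw [ta]; simp [uu, Matrix.trace_fin_two]; norm_num)
    (by rw [a.det_coe, (uu (1 : F)).det_coe])
  have e : cjSL c a = uu 1 := Subtype.ext hc
  have ap : a ^ p = 1 := cjSL_injective c (by
    rw [map_pow, e, uu_pow, CharP.cast_eq_zero, zero_mul, uu_zero, map_one])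
  have H : Hyp p a R := ⟨ap, hR, haR, hr⟩
  refine Con.of_map (cjSL c) (cjSL_injective c) ?_
  have H' := H.map _ (cjSL_injective c)
  rw [e] at H' ⊢
  exact core1 hp H'

end Cfsg.Agent.S3740
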