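import Cfsg.Statements.S3741
import Cfsg.Agent.Lib.PU.Af2

set_option autoImplicit false
open Cfsg

namespace Cfsg.Agent.S3741

/-- Let A and B be subgroups of a finite p-group with [A, B] ≤ A ∩ B and [A, B] of order at most p. Then |A : C_A(B)| = |B : C_B(A)|. -/
theorem result {G : Type*} [Group G] [Finite G] {p : ℕ} [Fact p.Prime] (hG : IsPGroup p G) (A B : Subgroup G) (hAB : ⁅A, B⁆ ≤ A ⊓ B) (hcard : Nat.card ↥⁅A, B⁆ ≤ p) : (A ⊓ Subgroup.centralizer (B : Set G)).relIndex A = (B ⊓ Subgroup.centralizer (A : Set G)).relIndex B := by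
  obtain ⟨hc, hn⟩ := PU.Af.cen_p hG _ hcard
  have hA := fun a ha => hn a (Subgroup.normalizer_commutator_ge_left A B ha)
  have hB := fun b hb => hn b (Subgroup.normalizer_commutator_ge_right A B hb)
  refine le_antisymm (PU.Af.idx_le A B _ (fun a ha b hb => Subgroup.commutator_mem_commutator ha hb) hA hB)
    (PU.Af.idx_le B A _ (fun b hb a ha => ?_) hB hA)
  rw [Subgroup.commutator_comm]
  exact Subgroup.commutator_mem_commutator hb ha

end Cfsg.Agent.S3741
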