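import Cfsg.Statements.S3744
import Cfsg.Agent.Lib.FT.Cor

set_option autoImplicit false
open Cfsg

namespace Cfsg.Agent.S3744

/-- A finite p-soluble group has a p-complement, all its p-complements are conjugate, and every subgroup of order prime to p lies in one of them. Here a p-complement is a subgroup of order prime to p whose index is a power of p. -/
theorem result {G : Type*} [Group G] [Finite G] {p : ℕ} [Fact p.Prime] (hG : Cfsg.IsPSolvable p G) : (∃ H : Subgroup G, (Nat.card H).Coprime p ∧ ∃ n : ℕ, H.index = p ^ n) ∧ (∀ H₁ H₂ : Subgroup G, (Nat.card H₁).Coprime p → (∃ n : ℕ, H₁.index = p ^ n) → (Nat.card H₂).Coprime p → (∃ n : ℕ, H₂.index = p ^ n) → ∃ g : G, H₂ = H₁.map (MulAut.conj g).toMonoidHom) ∧ (∀ U : Subgroup G, (Nat.card U).Coprime p → ∃ H : Subgroup G, (Nat.card H).Coprime p ∧ (∃ n : ℕ, H.index = p ^ n) ∧ ∃ g : G, U.map (MulAut.conj g).toMonoidHom ≤ H) := by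
  open Pointwise commutatorElement Subgroup in
  have h0 : ∀ n, BG.PiN {p}ᶜ n ↔ n.Coprime p := fun n => BG.piN_compl_singleton
  have h1 : ∀ n, n ≠ 0 → (BG.PiN {p}ᶜᶜ n ↔ ∃ k, n = p ^ k) := fun n hn => by rw [compl_compl]; exact BG.piN_singleton hn
  have h2 : ∀ H : Subgroup G, IsPiHall {p}ᶜ H ↔ (Nat.card H).Coprime p ∧ ∃ n : ℕ, H.index = p ^ n := fun H =>
    FTC.isPiHall_iff.trans (and_congr (h0 _) (h1 _ index_ne_zero_of_finite))
  obtain ⟨n, H, a1, a2, a3, a4, a5⟩ := hG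
  have hS : FTC.Sep {p}ᶜ G := FTC.sep_of_chain H a1 a2 a4 fun i => (a5 i).symm.imp (h0 _).2 (h1 _ (index_ne_zero_of_finite (H := subgroupOf _ _))).2
  refine ⟨hS.exists_hall.imp fun H h => (h2 H).1 h, fun H K b1 b2 b3 b4 => ?_, fun U hU => ?_⟩
  · obtain ⟨g, hg⟩ := hS.hall_conj ((h2 H).2 ⟨b1, b2⟩) ((h2 K).2 ⟨b3, b4⟩)
    exact ⟨g, hg.symm⟩
  obtain ⟨K, b1, b2⟩ := hS.exists_hall_ge ((h0 _).2 hU)
  refine ⟨K, ((h2 K).1 b1).1, ((h2 K).1 b1).2, 1, ?_⟩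
  rintro _ ⟨x, hx, rfl⟩
  simpa using b2 hx

end Cfsg.Agent.S3744
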