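import Cfsg.Statements.S3745
import Cfsg.Agent.Lib.FT.Cor

set_option autoImplicit false
open Cfsg

namespace Cfsg.Agent.S3745
section
open Pointwise commutatorElement Subgroup
open Subgroup in
theorem sep_of {G : Type*} [Group G] [Finite G] {π : Set ℕ} (K : Subgroup G) [K.Normal] (hs : Group.IsSolvable K)
    (h : FTC.PiN π K.index) : FTC.Sep π G := by
  intro N L hN hL hlt
  by_cases h1 : L ⊓ K ≤ N
  · exact ⟨L, hL, hlt, le_rfl, .inl (h.of_dvd (by simpa using FTC.relIndex_dvd_of_inf_le h1 le_top))⟩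
  have h2 : Group.IsSolvable ((L ⊓ K).map (QuotientGroup.mk' N)) := by
    haveI : Group.IsSolvable (L ⊓ K : Subgroup G) := solvable_of_solvable_injective (inclusion_injective inf_le_right)
    exact solvable_of_surjective ((QuotientGroup.mk' N).subgroupMap_surjective (L ⊓ K))
  haveI : ((L ⊓ K).map (QuotientGroup.mk' N)).Normal := Normal.map inferInstance _ (QuotientGroup.mk'_surjective N)
  obtain ⟨q, hq, E, a1, a2, a3, a4⟩ := BG.exists_elem_invariant (X := ⊤) le_normalizer_of_normal h2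
    (by rwa [Ne, Subgroup.map_eq_bot_iff, QuotientGroup.ker_mk'])
  haveI : E.Normal := normalizer_eq_top_iff.1 (eq_top_iff.2 a4.nU)
  haveI := Fact.mk hq
  have a5 : N ≤ E.comap (QuotientGroup.mk' N) := QuotientGroup.le_comap_mk' N E
  have a6 : N.relIndex (E.comap (QuotientGroup.mk' N)) = Nat.card E := by
    have := relIndex_comap (⊥ : Subgroup (G ⧸ N)) (QuotientGroup.mk' N) (E.comap (QuotientGroup.mk' N))
    rwa [map_comap_eq_self_of_surjective (QuotientGroup.mk'_surjective N), relIndex_bot_left, MonoidHom.comap_bot,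
      QuotientGroup.ker_mk'] at this
  have a7 : IsPGroup q E := fun x => ⟨1, Subtype.ext (by simpa using a3.2 x x.2)⟩
  refine ⟨E.comap (QuotientGroup.mk' N), inferInstance, lt_of_le_of_ne a5 fun e => a2 ?_, ?_, ?_⟩
  · rw [← map_comap_eq_self_of_surjective (QuotientGroup.mk'_surjective N) E, ← e, Subgroup.map_eq_bot_iff, QuotientGroup.ker_mk']
  · refine (comap_mono a1).trans ?_
    rw [comap_map_eq, QuotientGroup.ker_mk']
    exact sup_le inf_le_left hlt.le
  rw [a6]
  by_cases hp : q ∈ π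
  · exact .inl (BG.isPi_of_isPGroup a7 hp)
  · exact .inr (BG.isPi_of_isPGroup a7 hp)
end

/-- Coprime action on a solvable group and Hall subgroups. Let A and G be subgroups of a finite group with A normalizing G, the orders of A and G coprime, and G solvable, and let π be a set of primes. Then (a) G has an A-invariant Hall π-subgroup; (b) any two A-invariant Hall π-subgroups of G are conjugate by an element of C_G(A); (c) every A-invariant π-subgroup of G lies in an A-invariant Hall π-subgroup of G. -/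
theorem result {X : Type*} [Group X] [Finite X] (A G : Subgroup X) (hAG : A ≤ Subgroup.normalizer (G : Set X)) (hcop : (Nat.card A).Coprime (Nat.card G)) (hsolv : Group.IsSolvable G) (π : Set ℕ) : (∃ H : Subgroup X, Cfsg.IsPiHallOf π H G ∧ A ≤ Subgroup.normalizer (H : Set X)) ∧ (∀ H₁ H₂ : Subgroup X, Cfsg.IsPiHallOf π H₁ G → A ≤ Subgroup.normalizer (H₁ : Set X) → Cfsg.IsPiHallOf π H₂ G → A ≤ Subgroup.normalizer (H₂ : Set X) → ∃ c ∈ G ⊓ Subgroup.centralizer (A : Set X), H₂ = H₁.map (MulAut.conj c).toMonoidHom) ∧ (∀ U : Subgroup X, U ≤ G → A ≤ Subgroup.normalizer (U : Set X) → (∀ p : ℕ, p.Prime → p ∣ Nat.card U → p ∈ π) → ∃ H : Subgroup X, Cfsg.IsPiHallOf π H G ∧ A ≤ Subgroup.normalizer (H : Set X) ∧ U ≤ H) := by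
  open Pointwise commutatorElement Subgroup in
  refine ⟨BG.exists_invariant_hallIn hAG hcop hsolv π, fun H K a1 a2 a3 a4 => ?_, fun U h1 h3 h2 => ?_⟩
  · obtain ⟨c, hc, e⟩ := BG.invariant_hallIn_conj hAG hcop hsolv a1 a3 a2 a4
    exact ⟨c, hc, e.symm⟩
  have b1 : A ⊔ G ≤ normalizer (G : Set X) := sup_le hAG le_normalizer
  haveI : (G.subgroupOf (A ⊔ G)).Normal := (normal_subgroupOf_iff_le_normalizer le_sup_right).2 b1
  have b2 : BG.IsPi (π ∪ BG.primesOf (Nat.card A)) A := BG.PiN.mono (BG.piN_primesOf _) Set.subset_union_right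
  have hS : FTC.Sep (π ∪ BG.primesOf (Nat.card A)) (A ⊔ G : Subgroup X) := sep_of (G.subgroupOf (A ⊔ G))
    (solvable_of_solvable_injective (f := (subgroupOfEquivOfLe le_sup_right).toMonoidHom) (MulEquiv.injective _)) (by
      have := b2.relIndex G
      rwa [← Solv.relIndex_sup_of_le_normalizer hAG] at this)
  obtain ⟨L, c1, c2⟩ := hS.exists_hall_ge (U := (A ⊔ U).subgroupOf (A ⊔ G))
    ((b2.sup (BG.PiN.mono h2 Set.subset_union_left) h3).subgroupOf _)
  have hL := (BG.hallIn_top_iff.2 c1).map (A ⊔ G).subtype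
  rw [Comp.map_subtype_top] at hL
  have hle : A ⊔ U ≤ L.map (A ⊔ G).subtype := by
    rw [← Solv.subgroupOf_map_subtype_of_le (sup_le_sup_left h1 A)]; exact map_mono c2
  refine ⟨L.map (A ⊔ G).subtype ⊓ G, (hL.inf_normal le_sup_right b1).congr fun q hq hd => ?_,
    Solv.le_normalizer_inf ((le_sup_left.trans hle).trans le_normalizer) hAG, le_inf (le_sup_right.trans hle) h1⟩
  exact ⟨fun e => e.resolve_right fun e' => hq.ne_one (Nat.eq_one_of_dvd_coprimes hcop e'.2 hd), Or.inl⟩

end Cfsg.Agent.S3745
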