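import Cfsg.Statements.S3746
import Cfsg.Agent.Lib.Comp.Comp

set_option autoImplicit false
open Cfsg

namespace Cfsg.Agent.S3746

/-- Let Z ≤ Z(G) be a central subgroup of a finite group G and E a subgroup of G containing Z whose image E/Z is a component of G/Z (subnormal and quasisimple). Then the derived subgroup [E, E] is a component of G. -/
theorem result {G : Type*} [Group G] [Finite G] (Z : Subgroup G) (hZ : Z ≤ Subgroup.center G) [Z.Normal] (E : Subgroup G) (hZE : Z ≤ E) (hE : Cfsg.IsComponent (E.map (QuotientGroup.mk' Z))) : Cfsg.IsComponent ⁅E, E⁆ := by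
  open Pointwise commutatorElement Subgroup in
  open Cfsg.Agent.Comp in
  rw [← compIn_top_iff] at hE ⊢
  have hc : E ⊓ (QuotientGroup.mk' Z).ker ≤ centralizer (E : Set G) := by
    rw [QuotientGroup.ker_mk']
    exact inf_le_right.trans (hZ.trans (center_le_centralizer _))
  refine ⟨?_, (QS.of_map_central _ hc hE.qs).1⟩
  have h1 := hE.subn.comap (QuotientGroup.mk' Z)
  rw [comap_map_eq, QuotientGroup.ker_mk', sup_eq_left.2 hZE, comap_top] at h1
  refine SubnIn.trans (SubnIn.of_normalizer (commutator_le_left_of_le_normalizer le_normalizer) ?_) h1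
  exact le_normalizer_commutator le_normalizer le_normalizer

end Cfsg.Agent.S3746
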