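import Cfsg.Statements.S3747
import Cfsg.Agent.Lib.Comp.Comp

set_option autoImplicit false
open Cfsg

namespace Cfsg.Agent.S3747
section
open Pointwise commutatorElement Subgroup
open Cfsg.Agent.Comp
theorem aux {G : Type*} [Group G] [Finite G] (K : Subgroup G) (hK : CompIn K ⊤)
    (hZ : K ⊓ centralizer (K : Set G) = ⊥) (N : Subgroup G) (hN : N.Normal)
    (hle : N ≤ normalClosure (K : Set G)) : N = ⊥ ∨ N = normalClosure (K : Set G) := by
  set M := normalClosure (K : Set G) with hM
  have hcj : ∀ X : Subgroup G, (∀ g : G, cj(g, K) ≤ X) → M ≤ X := by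
    intro X hX
    rw [hM, normalClosure, closure_le]
    intro x hx
    obtain ⟨a, ha, hc⟩ := Group.mem_conjugatesOfSet_iff.1 hx
    obtain ⟨g, rfl⟩ := isConj_iff.1 hc
    exact hX g (conj_mem_cj.2 ha)
  rcases hK.le_or_le_centralizer (SubnIn.of_normal N) with h | h
  · exact Or.inr (le_antisymm hle (normalClosure_le_normal h))
  left
  have h1 : M ≤ centralizer (N : Set G) := by
    refine normalClosure_le_normal (le_centralizer_iff.1 h)
  have hsub : SubnIn M ⊤ := SubnIn.of_normal M
  have h2 : M ≤ Lay M := hcj _ fun g =>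
    ((hK.cj_of_mem (by rw [normalizer_eq_top]; trivial)).of_le
      (cj_le_of_mem le_normalClosure (by rw [normalizer_eq_top]; trivial)) le_top).le_Lay
  have h3 : Lay M = M := le_antisymm (Lay_le _) h2
  have h4 := center_Lay M
  rw [h3] at h4
  have h5 : N ≤ M ⊓ centralizer (M : Set G) := le_inf hle (le_centralizer_iff.1 h1)
  rw [h4] at h5
  refine le_bot_iff.1 (h5.trans (iSup_le fun L => ?_))
  by_cases hL : ∃ g : G, cj(g, K) = L.1
  · obtain ⟨g, hg⟩ := hL
    rw [← hg, ← cj_centralizer, ← cj_inf, hZ, cj_bot]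
  · exfalso
    push Not at hL
    have hL' : CompIn L.1 ⊤ := L.2.trans hsub
    have : M ≤ centralizer (L.1 : Set G) := hcj _ fun g =>
      (hK.cj_of_mem (by rw [normalizer_eq_top]; trivial)).le_centralizer_of_ne hL' (hL g)
    exact L.2.qs.not_le_centralizer (L.2.le.trans this)
end

/-- Let G be a finite group. (a) If K is a component of G with trivial centre, then the normal closure of K in G is a minimal normal subgroup of G. (b) If the Fitting subgroup of G is trivial, then the layer E(G) is generated by the minimal normal subgroups of G. -/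
theorem result {G : Type*} [Group G] [Finite G] : (∀ K : Subgroup G, Cfsg.IsComponent K → Subgroup.center ↥K = ⊥ → (Subgroup.normalClosure (K : Set G) ≠ ⊥ ∧ ∀ N : Subgroup G, N.Normal → N ≤ Subgroup.normalClosure (K : Set G) → N = ⊥ ∨ N = Subgroup.normalClosure (K : Set G))) ∧ (Cfsg.fittingSubgroup G = ⊥ → sSup {N : Subgroup G | N ≠ ⊥ ∧ N.Normal ∧ ∀ N' : Subgroup G, N'.Normal → N' ≤ N → N' = ⊥ ∨ N' = N} = Cfsg.layer G) := by
  open Pointwise commutatorElement Subgroup in
  open Cfsg.Agent.Comp in
  have key : ∀ K : Subgroup G, Cfsg.IsComponent K → Subgroup.center ↥K = ⊥ → (Subgroup.normalClosure (K : Set G) ≠ ⊥ ∧ ∀ N : Subgroup G, N.Normal → N ≤ Subgroup.normalClosure (K : Set G) → N = ⊥ ∨ N = Subgroup.normalClosure (K : Set G)) := by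
    intro K hK hZ
    rw [← compIn_top_iff] at hK
    refine ⟨fun h => hK.qs.ne_bot (le_bot_iff.1 (h ▸ le_normalClosure)), aux K hK ?_⟩
    rw [← map_center_subtype, hZ, Subgroup.map_bot]
  refine ⟨key, fun hF => le_antisymm (sSup_le ?_) ?_⟩
  · rintro N ⟨h0, hN, hmin⟩
    have h1 : Fit N = ⊥ := by
      refine le_bot_iff.1 ((SubnIn.of_normal N).Fit_le.trans ?_)
      rw [Fit_top, hF]
    have h2 : Lay N ≠ ⊥ := by
      intro h
      apply h0
      apply eq_bot_of_Fstar_eq_bot
      rw [Fstar, h, h1, bot_sup_eq]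
    rcases hmin (Lay N) inferInstance (Lay_le N) with h | h
    · exact absurd h h2
    · rw [← h, ← Lay_top]
      exact Lay_mono_subnIn (SubnIn.of_normal N)
  · rw [← Lay_top, Lay_le_iff]
    intro K hK
    have hZ : center K = ⊥ := by
      have : K ⊓ centralizer (K : Set G) ≤ ⊥ := by
        refine (center_le_Fit K).trans (hK.subn.Fit_le.trans ?_)
        rw [Fit_top, hF]
      rw [← map_center_subtype, le_bot_iff, map_eq_bot_iff_of_injective _ K.subtype_injective] at this
      exact this
    obtain ⟨h1, h2⟩ := key K (compIn_top_iff.1 hK) hZ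
    exact le_normalClosure.trans (le_sSup ⟨h1, inferInstance, h2⟩)

end Cfsg.Agent.S3747
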