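import Cfsg.Statements.S3749
import Cfsg.Agent.Lib.BG.Sec1

set_option autoImplicit false
open Cfsg

namespace Cfsg.Agent.S3749

/-- Call a proper subgroup M of G primitive when M = N_G(N) for every non-trivial normal subgroup N of M. Let M be a primitive subgroup of the finite group G, p a prime with O_p(M) ≠ 1, and N a normal subgroup of G with M ∩ N = 1. Then p does not divide the order of N; for every prime q there is exactly one Sylow q-subgroup of N normalized by M; and if the order of N has at least two prime divisors then M is not a maximal subgroup of G. -/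
theorem result {G : Type*} [Group G] [Finite G] (M : Subgroup G) (hM : M ≠ ⊤) (hprim : ∀ N : Subgroup G, N ≤ M → M ≤ Subgroup.normalizer (N : Set G) → N ≠ ⊥ → Subgroup.normalizer (N : Set G) = M) {p : ℕ} [Fact p.Prime] (hOp : Cfsg.pCore p ↥M ≠ ⊥) (N : Subgroup G) [N.Normal] (hMN : M ⊓ N = ⊥) : ¬ p ∣ Nat.card N ∧ (∀ q : ℕ, [Fact q.Prime] → ∃! Q : Sylow q ↥N, M ≤ Subgroup.normalizer ((Q : Subgroup ↥N).map N.subtype : Set G)) ∧ ((∃ q r : ℕ, q.Prime ∧ r.Prime ∧ q ≠ r ∧ q ∣ Nat.card N ∧ r ∣ Nat.card N) → ¬ IsCoatom M) := by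
  open Pointwise commutatorElement Subgroup in
  open Cfsg.Agent.Comp in
  have a0 : Op p M ≠ ⊥ := mt Op_eq_bot_iff.1 hOp
  have a1 := hprim _ (Op_le p M) (le_normalizer_Op_of_le le_rfl) a0
  have a2 : N ⊓ centralizer (Op p M : Set G) = ⊥ := eq_bot_iff.2
    (hMN.le.trans' (le_inf (inf_le_right.trans ((centralizer_le_normalizer _).trans a1.le)) inf_le_left))
  have a3 : ¬ p ∣ Nat.card N := fun h => by
    have := Solv.card_modEq_card_inf_centralizer (K := N) (isPGroup_Op p M) le_normalizer_of_normal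
    rw [a2, card_bot] at this
    exact (Fact.out : p.Prime).ne_one (Nat.dvd_one.1 ((this.dvd_iff dvd_rfl).1 h))
  have a4 : (Nat.card (Op p M)).Coprime (Nat.card N) := by
    obtain ⟨n, hn⟩ := (isPGroup_Op p M).exists_card_eq
    rw [hn]; exact ((Nat.Prime.coprime_iff_not_dvd Fact.out).2 a3).pow_left n
  have a5 : Group.IsSolvable (Op p M) := (have := (isPGroup_Op p M).isNilpotent; inferInstance)
  have a6 : ∀ q : ℕ, [Fact q.Prime] → ∀ P Q, SylIn q P N → SylIn q Q N → Op p M ≤ normalizer (P : Set G) →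
      Op p M ≤ normalizer (Q : Set G) → P = Q := fun q _ P Q b1 b2 b3 b4 => by
    obtain ⟨c, hc, e⟩ := invariant_sylIn_conj le_normalizer_of_normal a4 (.inl a5) b1 b2 b3 b4
    rwa [mem_bot.1 (a2.le hc), cj_one] at e
  have a7 : ∀ q : ℕ, [Fact q.Prime] → ∃ P, SylIn q P N ∧ M ≤ normalizer (P : Set G) := fun q _ => by
    obtain ⟨P, b1, b2⟩ := exists_invariant_sylIn q le_normalizer_of_normal a4 (.inl a5)
    exact ⟨P, b1, fun g hg => cj_eq_self_iff.1 (a6 q _ _ (b1.cj_of_mem (le_normalizer_normal N ⊤ (mem_top g))) b1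
      (le_normalizer_cj (a1.ge hg) b2) b2)⟩
  refine ⟨a3, fun q _ => ?_, fun ⟨q, r, hq, hr, hne, h1, h2⟩ hc => ?_⟩
  · obtain ⟨P, b1, b2⟩ := a7 q
    refine ⟨b1.toSylow, by beta_reduce; rwa [b1.map_toSylow], fun Q hQ => Sylow.ext (map_injective N.subtype_injective ?_)⟩
    rw [b1.map_toSylow]
    exact a6 q _ _ (sylIn_sylow Q) b1 ((Op_le p M).trans hQ) ((Op_le p M).trans b2)
  haveI := Fact.mk hq
  obtain ⟨P, b1, b2⟩ := a7 q
  have b3 : P ⊔ M = ⊤ := hc.2 _ (lt_of_le_of_ne le_sup_right fun e =>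
    mt b1.eq_bot_iff.1 (not_not.2 h1) (eq_bot_iff.2 (hMN.le.trans' (le_inf (le_sup_left.trans e.ge) b1.le))))
  have b4 := sup_inf_of_le_normalizer' b2 b1.le
  rw [b3, hMN, top_inf_eq, sup_bot_eq] at b4
  obtain ⟨n, hn⟩ := b1.isP.exists_card_eq
  rw [b4, hn] at h2
  exact hne ((Nat.prime_dvd_prime_iff_eq hr hq).1 (hr.dvd_of_dvd_pow h2)).symm

end Cfsg.Agent.S3749
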