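import Cfsg.Statements.S3750
import Cfsg.Agent.Lib.BG.Sec1

set_option autoImplicit false
open Cfsg

namespace Cfsg.Agent.S3750

/-- Call a proper subgroup M of G primitive when M = N_G(N) for every non-trivial normal subgroup N of M. Let M be a primitive subgroup of the finite group G and N a normal subgroup of G with M ∩ F*(N) ≠ 1. Then F(G) = 1 and F*(N) = F*(G) = E(G); in particular every minimal normal subgroup of G is contained in N. -/
theorem result {G : Type*} [Group G] [Finite G] (M : Subgroup G) (hM : M ≠ ⊤) (hprim : ∀ N : Subgroup G, N ≤ M → M ≤ Subgroup.normalizer (N : Set G) → N ≠ ⊥ → Subgroup.normalizer (N : Set G) = M) (N : Subgroup G) [N.Normal] (hMF : M ⊓ (Cfsg.generalizedFittingSubgroup ↥N).map N.subtype ≠ ⊥) : Cfsg.fittingSubgroup G = ⊥ ∧ (Cfsg.generalizedFittingSubgroup ↥N).map N.subtype = Cfsg.generalizedFittingSubgroup G ∧ Cfsg.generalizedFittingSubgroup G = Cfsg.layer G ∧ ∀ K : Subgroup G, K.Normal → K ≠ ⊥ → (∀ K' : Subgroup G, K'.Normal → K' ≤ K → K' = ⊥ ∨ K'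 = K) → K ≤ N := by
  open Pointwise commutatorElement Subgroup in
  open Cfsg.Agent.Comp in
  rw [map_fstar] at hMF ⊢
  have a0 : ∀ K : Subgroup G, K.Normal → K ≤ M → K = ⊥ := fun K _ h => by_contra fun h' =>
    hM ((hprim K h le_normalizer_of_normal h').symm.trans (normalizer_eq_top K))
  have a1 : ⊤ ≤ normalizer (Fstar N : Set G) := le_normalizer_Fstar le_normalizer_of_normal
  have a2 : centralizer (Fstar N : Set G) = ⊥ := a0 _ (normal_iff_top_le_normalizer.2 (Comp.le_normalizer_centralizer a1))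
    (((Comp.centralizer_mono inf_le_right).trans (centralizer_le_normalizer _)).trans
      (hprim _ inf_le_left (Comp.le_normalizer_inf le_normalizer (le_top.trans a1)) hMF).le)
  have a3 : Fit N = ⊥ := by_contra fun h => inf_centralizer_ne_bot_of_isNilpotent (isNilpotent_Fit N) le_rfl le_normalizer h
    (eq_bot_iff.2 (a2.le.trans' (by
      rw [Fstar, Comp.centralizer_sup]; exact le_inf (inf_le_left.trans (Fit_le_centralizer_Lay N)) inf_le_right)))
  have a4 : Fstar N = Lay N := by rw [Fstar, a3, sup_bot_eq]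
  have a5 : Fit (⊤ : Subgroup G) = ⊥ := eq_bot_iff.2 (a2.le.trans' (a4 ▸ (Fit_le_centralizer_Lay ⊤).trans
    (Comp.centralizer_mono (Lay_mono_subnIn (.of_normal N)))))
  have a6 : centralizer (N : Set G) = ⊥ := eq_bot_iff.2 (a2.le.trans' (Comp.centralizer_mono (Fstar_le N)))
  have a7 : Lay N = Lay ⊤ := by
    rw [← Lay_sup_LayNot (.of_normal N), eq_bot_iff.2 ((LayNot_le_centralizer (.of_normal N)).trans a6.le), sup_bot_eq]
  have a8 : Fstar (⊤ : Subgroup G) = Lay ⊤ := by rw [Fstar, a5, sup_bot_eq]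
  refine ⟨Fit_top.symm.trans a5, by rw [← Fstar_top, a4, a7, a8], by rw [← Fstar_top, a8, Lay_top], fun K _ h1 h2 => ?_⟩
  exact inf_eq_left.1 ((h2 (K ⊓ N) inferInstance inf_le_left).resolve_left fun h => h1 (eq_bot_iff.2 (a6.le.trans'
    (Solv.le_centralizer_of_inf_eq_bot le_normalizer_of_normal le_normalizer_of_normal h))))

end Cfsg.Agent.S3750
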