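import Cfsg.Statements.S3751
import Cfsg.Agent.Lib.BG.MinNA

set_option autoImplicit false
open Cfsg

namespace Cfsg.Agent.S3751

/-- Two distinct subgroups M₁, M₂ of G form a primitive pair when, for {i, j} = {1, 2}, every non-trivial normal subgroup A of M_i contained in M₁ ∩ M₂ satisfies N_{M_j}(A) = M₁ ∩ M₂; the pair has characteristic p when moreover C_{M_i}(O_p(M_i)) ≤ O_p(M_i) for both i and O_p(M₁)O_p(M₂) ≤ M₁ ∩ M₂. Let G be a finite group, p a prime dividing its order, with O_p(G) = 1 and every p-local subgroup of characteristic p. Then either G has a primitive pair of characteristic p, or every maximal p-local subgroup M of G is strongly p-embedded in G: M is a proper subgroup, p divides its order, and for every g ∉ M the order of M ∩ gMg⁻¹ is prime to p. -/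
theorem result {G : Type*} [Group G] [Finite G] {p : ℕ} [Fact p.Prime] (hloc : Cfsg.IsOfLocalCharacteristic p G) (hOp : Cfsg.pCore p G = ⊥) : (∃ M₁ M₂ : Subgroup G, M₁ ≠ M₂ ∧ (∀ A : Subgroup G, A ≠ ⊥ → A ≤ M₁ ⊓ M₂ → (M₁ ≤ Subgroup.normalizer (A : Set G) → M₂ ⊓ Subgroup.normalizer (A : Set G) = M₁ ⊓ M₂) ∧ (M₂ ≤ Subgroup.normalizer (A : Set G) → M₁ ⊓ Subgroup.normalizer (A : Set G) = M₁ ⊓ M₂)) ∧ Subgroup.centralizer (Cfsg.pCore p ↥M₁ : Set ↥M₁) ≤ Cfsg.pCore p ↥M₁ ∧ Subgroup.centralizer (Cfsg.pCore p ↥M₂ : Set ↥M₂) ≤ Cfsg.pCore p ↥M₂ ∧ (Cfsg.pCore p ↥M₁).map M₁.subtype ⊔ (Cfsg.pCore p ↥M₂).map M₂.subtype ≤ M₁ ⊓ M₂) ∨ (∀ M : Subgroup G, (∃ T : Subgroup G, IsPGroup p T ∧ T ≠ ⊥ ∧ M = Subgroup.normalizer (T : Set G)) → (∀ L : Subgroup G, (∃ T : Subgroup G, IsPGroup p T ∧ T ≠ ⊥ ∧ L = Subgroup.normalizer (T : Set G)) → M ≤ L → L = M) → M ≠ ⊤ ∧ p ∣ Nat.card M ∧ ∀ g : G, g ∉ M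 → ¬ p ∣ Nat.card ↥(M ⊓ M.map (MulAut.conj g).toMonoidHom)) := by
  open Pointwise commutatorElement Subgroup in
  open Cfsg.Agent.Comp Cfsg.Agent.BG Subgroup commutatorElement in
  have hp : p.Prime := Fact.out
  let loc : Subgroup G → Prop := fun M => ∃ T : Subgroup G, IsPGroup p T ∧ T ≠ ⊥ ∧ M = Nm(T)
  let mx : Subgroup G → Prop := fun M => loc M ∧ ∀ L, loc L → M ≤ L → L = M
  have ch : ∀ M, loc M → CharP p M := by
    rintro _ ⟨T, t1, t2, rfl⟩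
    exact charP_iff_subtype.2 (hloc.2 T t1 t2)
  have nb : ∀ M, loc M → M ≠ ⊥ := by
    rintro _ ⟨T, t1, t2, rfl⟩ e
    exact t2 (le_bot_iff.1 (le_normalizer.trans e.le))
  have nm : ∀ M, mx M → ∀ A, A ≠ ⊥ → A ≤ M → M ≤ Nm(A) → Nm(A) ≤ M := fun M h A a1 a2 a3 => by
    have := h.2 _ ⟨Op p A, isPGroup_Op _ _, ((ch M h.1).subnIn (SubnIn.of_normalizer a2 a3)).Op_ne_bot a1, rfl⟩
      (le_normalizer_Op a3)
    exact (le_normalizer_Op le_rfl).trans this.le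
  have mc : ∀ M g, mx M → mx cj(g, M) := by
    have lc : ∀ M g, loc M → loc cj(g, M) := by
      rintro _ g ⟨T, t1, t2, rfl⟩
      exact ⟨cj(g, T), isPGroup_cj_iff.2 t1, mt cj_eq_bot_iff.1 t2, cj_normalizer _ _⟩
    intro M g h
    refine ⟨lc M g h.1, fun L l1 l2 => ?_⟩
    rw [← h.2 _ (lc L g⁻¹ l1) (le_cj_iff.2 (by rwa [inv_inv])), cj_cj_inv]
  have ne : ∀ M g, mx M → g ∉ M → M ≠ cj(g, M) := fun M g h hg e =>
    hg (nm M h M (nb M h.1) le_rfl le_normalizer (cj_eq_self_iff.1 e.symm))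
  refine or_iff_not_imp_right.2 fun h => ?_
  push Not at h
  obtain ⟨M, m1, m2, m3⟩ := h
  obtain ⟨g, g1, g2⟩ := m3 (fun e => (e ▸ ch M m1).Op_ne_bot (e ▸ nb M m1) ((Op_top p).trans hOp))
    ((Comp.dvd_card_of_isPGroup (isPGroup_Op p M) ((ch M m1).Op_ne_bot (nb M m1))).trans (card_dvd_of_le (Op_le p M)))
  obtain ⟨x, x1, x2⟩ := exists_mem_orderOf_eq g2
  obtain ⟨T, t0, ⟨t1, M₁, M₂, t2, t3, t4, t5⟩, t6⟩ := Finite.exists_le_maximal
    (p := fun T : Subgroup G => IsPGroup p T ∧ ∃ M₁ M₂, mx M₁ ∧ mx M₂ ∧ M₁ ≠ M₂ ∧ T ≤ M₁ ⊓ M₂)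
    ⟨isPGroup_zpowers_of_orderOf_eq x2, M, _, ⟨m1, m2⟩, mc M g ⟨m1, m2⟩, ne M g ⟨m1, m2⟩ g1, zpowers_le.2 x1⟩
  have t7 : T ≠ ⊥ := fun e => hp.one_lt.ne' (by rw [← x2, mem_bot.1 (e.le (t0 (mem_zpowers x))), orderOf_one])
  obtain ⟨H, h1, h2, h3⟩ := Finite.exists_le_maximal (p := loc) ⟨T, t1, t7, rfl⟩
  have h4 : mx H := ⟨h2, fun L l1 l2 => le_antisymm (h3 l1 l2) l2⟩
  have sy : ∀ M, mx M → T ≤ M → M ≠ H → SylIn p T M := fun M a b c => SylIn.of_normalizer b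
    ⟨le_inf b le_normalizer, t1, fun Q q1 q2 q3 => le_antisymm (t6 ⟨q1, M, H, a, h4, c, q3.trans (inf_le_inf_left _ h1)⟩ q2) q2⟩
  obtain ⟨A, B, a1, b1, ab, a2, b2⟩ : ∃ A B, mx A ∧ mx B ∧ A ≠ B ∧ SylIn p T A ∧ SylIn p T B := by
    have k : ∀ A B, mx A → mx B → A ≠ B → T ≤ A → T ≤ B → A ≠ H → ∃ A B, mx A ∧ mx B ∧ A ≠ B ∧ SylIn p T A ∧ SylIn p T B := by
      intro A B a b c d e f
      obtain ⟨S, s1, s2⟩ := exists_sylIn_ge t1 e
      rcases s1.eq_or_lt with rfl | s1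
      · exact ⟨A, B, a, b, c, sy A a d f, s2⟩
      obtain ⟨y, y1, y2⟩ := SetLike.exists_of_lt (lt_inf_normalizer_of_isPGroup s2.isP s1)
      refine ⟨A, cj(y, A), a, mc A y a, ne A y a fun u => y2 ?_, sy A a d f, ?_⟩
      · exact (sy A a d f).le_of_normalizer (s2.isP.to_le (zpowers_le.2 y1.1)) (zpowers_le.2 u) (zpowers_le.2 y1.2) (mem_zpowers y)
      · have := (sy A a d f).cj y
        rwa [cj_eq_self_iff.2 y1.2] at this
    by_cases e : M₁ = H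
    · exact k M₂ M₁ t3 t2 t4.symm (t5.trans inf_le_right) (t5.trans inf_le_left) (e ▸ t4.symm)
    · exact k M₁ M₂ t2 t3 t4 (t5.trans inf_le_left) (t5.trans inf_le_right) e
  refine ⟨A, B, ab, fun C c1 c2 => ⟨fun c3 => le_antisymm ?_ ?_, fun c3 => le_antisymm ?_ ?_⟩, charP_iff_subtype.1 (ch A a1.1),
    charP_iff_subtype.1 (ch B b1.1), sup_le (a2.Op_le.trans (le_inf a2.le b2.le)) (b2.Op_le.trans (le_inf a2.le b2.le))⟩
  · exact le_inf (inf_le_right.trans (nm A a1 C c1 (c2.trans inf_le_left) c3)) inf_le_left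
  · exact le_inf inf_le_right (inf_le_left.trans c3)
  · exact le_inf inf_le_left (inf_le_right.trans (nm B b1 C c1 (c2.trans inf_le_right) c3))
  · exact le_inf inf_le_left (inf_le_right.trans c3)

end Cfsg.Agent.S3751
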