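import Cfsg.Statements.S3754
import Cfsg.Agent.Lib.BG.MinNA
import Cfsg.Agent.Lib.Char.ItoP

set_option autoImplicit false
open Cfsg

namespace Cfsg.Agent.S3754
section
open Pointwise commutatorElement Subgroup
universe u
open Cfsg.Agent.Comp Cfsg.Agent.BG Subgroup commutatorElement in
theorem core {M G' : Type u} [Group M] [Finite M] [Group G'] [Finite G'] {p : ℕ} [hp : Fact p.Prime]
    (f : M →* G') (V : Subgroup M) (hk : f.ker = V) (hV : IsPGroup p V) (F : Subgroup G') [F.Normal]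
    (hF : (Nat.card F).Coprime p) (hC : Ct(F) ≤ F) (A : Subgroup M) (hA : IsPGroup p A)
    (hΦ : (frattini ↥A).map A.subtype ≤ V) (hnot : ¬ A ≤ V) :
    ∃ x ∈ F.comap f, x ∈ Res p (A ⊔ cj(x, A)) ∧ Res p (A ⊔ cj(x, A)) ≤ F.comap f ∧
      ⁅Res p (A ⊔ cj(x, A)), A⁆ = Res p (A ⊔ cj(x, A)) ∧
      (A ⊓ Op p (A ⊔ cj(x, A))).relIndex A = p ∧ ⁅A ⊓ Op p (A ⊔ cj(x, A)), A ⊔ cj(x, A)⁆ ≤ V ∨
      ¬ Function.Surjective f := by
  by_cases hsurj : Function.Surjective f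
  swap
  · exact ⟨1, one_mem _, Or.inr hsurj⟩
  haveI hVn : V.Normal := hk ▸ f.normal_ker
  have hpF : ∀ {Q : Subgroup G'}, IsPGroup p Q → ∀ y ∈ Q, y ∈ F → y = 1 := by
    intro Q hQ y h1 h2
    have h3 : IsPGroup p (Q ⊓ F : Subgroup G') := hQ.to_inf_left
    obtain ⟨k, hk⟩ := h3.exists_card_eq
    have h4 : Nat.card (Q ⊓ F : Subgroup G') ∣ Nat.card F := card_dvd_of_le inf_le_right
    have h5 : (Q ⊓ F : Subgroup G') = ⊥ := by
      rw [← card_eq_one]
      have := (Nat.Coprime.coprime_dvd_left h4 hF).pow_right k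
      rw [← hk] at this
      simpa using this
    exact (mem_bot.1 (h5 ▸ mem_inf.2 ⟨h1, h2⟩))
  have hAb : IsElementaryAbelian p (A.map f) := by
    constructor
    · rw [← Subgroup.commutator_self_eq_bot_iff, ← Subgroup.map_commutator, Subgroup.map_eq_bot_iff, hk]
      exact (Solv.commutator_le_map_frattini hA.isNilpotent).trans hΦ
    · rintro _ ⟨a, ha, rfl⟩
      rw [← map_pow, ← MonoidHom.mem_ker, hk]
      exact hΦ (Solv.pow_mem_map_frattini hA ha)
  have hA1 : A.map f ≠ ⊥ := by rwa [Ne, Subgroup.map_eq_bot_iff, hk]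
  have hAp : IsPGroup p (A.map f) := hA.map f
  have hnc : ¬ F ≤ Ct(A.map f) := by
    intro h
    apply hA1
    rw [eq_bot_iff]
    intro y hy
    exact mem_bot.2 (hpF hAp y hy (hC (le_centralizer_iff.1 h hy)))
  obtain ⟨B, hBA, hBi, hB⟩ : ∃ B, B ≤ A.map f ∧ B.relIndex (A.map f) = p ∧ ¬ F ⊓ Ct(B) ≤ Ct(A.map f) := by
    by_contra h
    push Not at h
    exact hnc (le_of_forall_hyperplane hAb hA1 (by rw [normalizer_eq_top]; exact le_top) hF h)
  obtain ⟨x0', ⟨hx0F, hx0B⟩, hx0⟩ := SetLike.not_le_iff_exists.1 hB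
  obtain ⟨x0, rfl⟩ := hsurj x0'
  have hx0p : ¬ IsPGroup p (A ⊔ cj(x0, A) : Subgroup M) := by
    intro h
    apply hx0
    rw [mem_centralizer_iff]
    rintro _ ⟨a, ha, rfl⟩
    have h1 : f (a⁻¹ * (x0 * a * x0⁻¹)) = 1 := by
      refine hpF (h.map f) _ (mem_map_of_mem f (mul_mem (mem_sup_left (inv_mem ha))
        (mem_sup_right (mem_cj.2 (by simpa [mul_assoc] using ha))))) ?_
      have : f (a⁻¹ * (x0 * a * x0⁻¹)) = ((f a)⁻¹ * f x0 * (f a)⁻¹⁻¹) * (f x0)⁻¹ := by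
        simp [mul_assoc]
      rw [this]
      exact F.mul_mem (Normal.conj_mem inferInstance _ hx0F _) (F.inv_mem hx0F)
    simp only [map_mul, map_inv] at h1
    rw [inv_mul_eq_one, eq_mul_inv_iff_mul_eq] at h1
    exact h1
  have hAB : A.map f ≤ Ct(B) := by
    intro y hy
    rw [mem_centralizer_iff]
    intro b hb
    haveI := hAb.1
    exact setLike_mul_comm (hBA hb) hy
  have hLB : ∀ x, f x ∈ Ct(B) → (A ⊔ cj(x, A)).map f ≤ Ct(B) := by
    intro x hx
    rw [Subgroup.map_sup, map_cj]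
    exact sup_le hAB (cj_le_of_mem hAB (le_normalizer hx))
  have hLN : ∀ x ∈ F.comap f, A ⊔ cj(x, A) ≤ F.comap f ⊔ A := by
    intro x hx
    exact sup_le le_sup_right (cj_le_of_mem le_sup_right (le_normalizer (mem_sup_left hx)))
  have hRN : ∀ x ∈ F.comap f, Res p (A ⊔ cj(x, A)) ≤ F.comap f := by
    intro x hx
    exact (ResPi_mono (hLN x hx)).trans (Res_sup_le' (by rw [normalizer_eq_top]; exact le_top) hA)
  obtain ⟨L, -, ⟨x, hxN, hxB, hxp, rfl⟩, hmin⟩ := Finite.exists_le_minimal (p := fun L : Subgroup M =>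
    ∃ x ∈ F.comap f, f x ∈ Ct(B) ∧ ¬ IsPGroup p (A ⊔ cj(x, A) : Subgroup M) ∧ L = A ⊔ cj(x, A))
    ⟨x0, hx0F, hx0B, hx0p, rfl⟩
  obtain ⟨S, hAS, hS⟩ := exists_sylIn_ge hA (le_sup_left : A ≤ A ⊔ cj(x, A))
  have hSV : S ≤ A ⊔ V := by
    intro s hs
    have h1 := hLN x hxN (hS.le hs)
    rw [sup_comm, ← SetLike.mem_coe, mul_normal] at h1
    obtain ⟨a, ha, n, hn, rfl⟩ := h1
    refine mul_mem (mem_sup_left ha) (mem_sup_right ?_)
    rw [← hk, MonoidHom.mem_ker]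
    exact hpF (hS.isP.map f) _ (mem_map_of_mem f ((S.mul_mem_cancel_left (hAS ha)).1 hs)) hn
  obtain ⟨g, hg, hgS⟩ := hS.exists_le_cj (hA.map _) (le_sup_right : cj(x, A) ≤ A ⊔ cj(x, A))
  obtain ⟨r, hr, hrS⟩ : ∃ r ∈ Res p (A ⊔ cj(x, A)), cj(x, A) ≤ cj(r, S) := by
    rw [← hS.Res_sup, Comp.mem_sup_of_le_normalizer' (hS.le.trans ((le_normalizer_ResPi le_normalizer)))] at hg
    obtain ⟨r, hr, s, hs, rfl⟩ := hg
    refine ⟨r, hr, ?_⟩
    rwa [cj_mul, cj_eq_self_of_mem hs] at hgS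
  have hrL : r ∈ A ⊔ cj(x, A) := Res_le _ _ hr
  have hle : A ⊔ cj(r, A) ≤ A ⊔ cj(x, A) := sup_le le_sup_left (cj_le_of_mem le_sup_left (le_normalizer hrL))
  have hrp : ¬ IsPGroup p (A ⊔ cj(r, A) : Subgroup M) := by
    intro h
    apply hxp
    refine (h.to_sup_of_normal_right hV).to_le (sup_le (le_sup_left.trans le_sup_left) (hrS.trans ?_))
    refine (Comp.cj_mono r hSV).trans ?_
    rw [cj_sup, cj_eq_self_of_normal V]
    exact sup_le_sup_right le_sup_right _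
  have hrN := hRN x hxN hr
  have hrB : f r ∈ Ct(B) := hLB x hxB (mem_map_of_mem f hrL)
  have heq : A ⊔ cj(x, A) = A ⊔ cj(r, A) := le_antisymm (hmin ⟨r, hrN, hrB, hrp, rfl⟩ hle) hle
  rw [heq] at hr
  clear hrS hgS hg hSV hS hAS hle hrL heq hmin
  refine ⟨r, hrN, Or.inl ⟨hr, hRN r hrN, ?_, ?_⟩⟩
  · set L := A ⊔ cj(r, A) with hL
    have hAR : A ≤ Nm(Res p L) := le_sup_left.trans (le_normalizer_ResPi le_normalizer)
    refine le_antisymm (commutator_le_left_of_le_normalizer hAR) ?_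
    have h1 : L ≤ ⁅Res p L, A⁆ ⊔ A := by
      refine sup_le le_sup_right (cj_le_iff'.2 fun a ha => ?_)
      have : r * a * r⁻¹ = ⁅r, a⁆ * a := by simp [commutatorElement_def]
      rw [this]
      exact mul_mem (mem_sup_left (commutator_mem_commutator hr ha)) (mem_sup_right ha)
    exact (ResPi_mono h1).trans (Res_sup_le' (le_sup_right.trans (sup_le_normalizer_commutator _ _)) hA)
  · set L := A ⊔ cj(r, A) with hL
    have h1 : A ⊓ B.comap f ≤ A ⊓ Op p L := by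
      refine le_inf inf_le_left (le_Op_of_map_le f (by rw [hk]; exact hV.to_inf_right)
        (inf_le_left.trans le_sup_left) ?_)
      refine (map_mono inf_le_right).trans ((map_comap_le _ _).trans ?_)
      exact le_Op (hBA.trans (map_mono le_sup_left)) ((hLB r hrB).trans (centralizer_le_normalizer _))
        (hAp.to_le hBA)
    have h2 : (A ⊓ B.comap f).relIndex A = p := by
      rw [inf_relIndex_left, relIndex_comap, hBi]
    have h3 : (A ⊓ Op p L).relIndex A ≠ 1 := by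
      rw [Ne, relIndex_eq_one]
      intro h
      have h4 : A ≤ Op p L := h.trans inf_le_right
      refine hrp ((isPGroup_Op p L).to_le (sup_le h4 (cj_le_of_mem h4 ?_)))
      exact le_normalizer_Op_of_le le_rfl (Res_le _ _ hr)
    have h4 := relIndex_mul_relIndex _ _ _ h1 (inf_le_left : A ⊓ Op p L ≤ A)
    rw [h2] at h4
    have h5 : (A ⊓ Op p L).relIndex A = p :=
      ((Nat.dvd_prime hp.out).1 (Dvd.intro_left _ h4)).resolve_left h3
    refine ⟨h5, ?_⟩
    rw [h5] at h4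
    have h6 : A ⊓ Op p L ≤ A ⊓ B.comap f := by
      rw [← relIndex_eq_one]
      exact Nat.eq_of_mul_eq_mul_right hp.out.pos (h4.trans (one_mul p).symm)
    rw [← hk, ← Subgroup.map_eq_bot_iff, Subgroup.map_commutator, commutator_eq_bot_iff_le_centralizer,
      le_centralizer_iff]
    refine (hLB r hrB).trans (centralizer_le (show _ ≤ B from ?_))
    exact (map_mono (h6.trans inf_le_right)).trans (map_comap_le _ _)
end

/-- Let M be a finite p-soluble group and A a p-subgroup of M with Φ(A) ≤ O_p(M) but A ≰ O_p(M). Then there is x ∈ O_{p,p'}(M) such that L = ⟨A, xAx⁻¹⟩ satisfies: x ∈ O^p(L) and O^p(L) ≤ O_{p,p'}(M); [O^p(L), A] = O^p(L); A ∩ O_p(L) has index p in A; and [A ∩ O_p(L), L] ≤ O_p(M). Here O^p(L) is the subgroup generated by the p'-elements of L and O_{p,p'}(M) the preimage of O_{p'}(M/O_p(M)). -/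
theorem result {M : Type*} [Group M] [Finite M] {p : ℕ} [Fact p.Prime] (hM : Cfsg.IsPSolvable p M) (A : Subgroup M) (hA : IsPGroup p A) (hΦ : (frattini ↥A).map A.subtype ≤ Cfsg.pCore p M) (hnot : ¬ A ≤ Cfsg.pCore p M) : ∃ x ∈ (Cfsg.pPrimeCore p (M ⧸ Cfsg.pCore p M)).comap (QuotientGroup.mk' (Cfsg.pCore p M)), x ∈ (Cfsg.pResidual p ↥(A ⊔ A.map (MulAut.conj x).toMonoidHom)).map (A ⊔ A.map (MulAut.conj x).toMonoidHom).subtype ∧ (Cfsg.pResidual p ↥(A ⊔ A.map (MulAut.conj x).toMonoidHom)).map (A ⊔ A.map (MulAut.conj x).toMonoidHom).subtype ≤ (Cfsg.pPrimeCore p (M ⧸ Cfsg.pCore p M)).comap (QuotientGroup.mk' (Cfsg.pCore p M)) ∧ ⁅(Cfsg.pResidual p ↥(A ⊔ A.map (MulAut.conj x).toMonoidHom)).map (A ⊔ A.map (MulAut.conj x).toMonoidHom).subtype, A⁆ = (Cfsg.pResidual p ↥(A ⊔ A.map (MulAut.conj x).toMonoidHom)).map (A ⊔ A.map (MulAut.conj x).toMonoidHom).subtype ∧ (A ⊓ (Cfsg.pCore p ↥(A ⊔ A.map (MulAut.conj x).toMonoidHom)).map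 (A ⊔ A.map (MulAut.conj x).toMonoidHom).subtype).relIndex A = p ∧ ⁅A ⊓ (Cfsg.pCore p ↥(A ⊔ A.map (MulAut.conj x).toMonoidHom)).map (A ⊔ A.map (MulAut.conj x).toMonoidHom).subtype, A ⊔ A.map (MulAut.conj x).toMonoidHom⁆ ≤ Cfsg.pCore p M := by
  open Pointwise commutatorElement Subgroup in
  open Cfsg.Agent.Comp Cfsg.Agent.BG Subgroup commutatorElement in
  have hs := Transfer.psol_surj (QuotientGroup.mk'_surjective (pCore p M)) (pSol_top_of_isPSolvable hM)
  obtain ⟨x, hx, h⟩ := core (p := p) (QuotientGroup.mk' (pCore p M)) (pCore p M) (QuotientGroup.ker_mk' _)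
    (Solv.isPGroup_pCore p M) (pPrimeCore p (M ⧸ pCore p M)) (Solv.coprime_card_pPrimeCore p)
    (Char.psol_centralizer_le hs Solv.pCore_quotient_pCore) A hA hΦ hnot
  refine ⟨x, hx, ?_⟩
  rw [map_pResidual, map_pCore]
  exact h.resolve_right (not_not.2 (QuotientGroup.mk'_surjective _))

end Cfsg.Agent.S3754
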