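import Cfsg.Statements.S3755
import Cfsg.Agent.Lib.BG.MinNA
import Cfsg.Agent.Lib.PU.Ms1
import Cfsg.Agent.Lib.Fusion.Free
import Cfsg.Agent.Lib.FT.Final

set_option autoImplicit false
open Cfsg

namespace Cfsg.Agent.S3755
section
open Pointwise commutatorElement Subgroup
open Cfsg.Agent.Comp Cfsg.Agent.BG Subgroup commutatorElement in
theorem four {G : Type*} [Group G] [Finite G] {W : Subgroup G} (hW : IsPGroup 2 W) {a x : G} (hx : x ∈ Nm(W))
    (hinv : a * x * a⁻¹ = x⁻¹) (h2 : (orderOf x).Coprime 2) (h3 : ¬ 3 ∣ orderOf x) (hf : W ⊓ Ct(zpowers x) = ⊥)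
    (h1 : W ≠ ⊥) (hc : W ≤ Ct(W)) : 4 * Nat.card (W ⊓ C1(a) : Subgroup G) ≤ Nat.card W := by
  haveI : Fact (Nat.Prime 2) := ⟨Nat.prime_two⟩
  have hU : cj(x, W ⊓ C1(a)) ≤ W := cj_le_of_mem inf_le_left hx
  have hd : (W ⊓ C1(a)) ⊓ cj(x, W ⊓ C1(a)) = ⊥ := by
    rw [eq_bot_iff, ← hf]
    intro w ⟨⟨hw, e1⟩, e2⟩
    have e1' : Commute w a := mem_centralizer_singleton_iff.1 e1
    have e3 : w ∈ C1(x * a * x⁻¹) := cj_centralizer_singleton x a ▸ Comp.cj_mono x inf_le_right e2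
    have e4 : Commute w (x * a * x⁻¹) := mem_centralizer_singleton_iff.1 e3
    have e5 : Commute w (x ^ 2) := by
      have : x ^ 2 = (x * a * x⁻¹) * a⁻¹ := by
        calc x ^ 2 = x * (a * x * a⁻¹)⁻¹ := by rw [hinv, inv_inv, sq]
          _ = _ := by group
      rw [this]
      exact e4.mul_right e1'.inv_right
    have e6 : x ∈ C1(w) := Solv.mem_of_pow_mem_of_coprime_orderOf (mem_centralizer_singleton_iff.2 e5.symm) h2
    refine ⟨hw, mem_centralizer_iff.2 fun y hy => ?_⟩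
    exact mem_centralizer_singleton_iff.1 (zpowers_le.2 e6 hy)
  have h4 := Solv.card_sup_of_disjoint ((inf_le_left.trans hc).trans ((centralizer_le (show _ ≤ W from hU)).trans
    (centralizer_le_normalizer _))) hd
  rw [card_cj] at h4
  have h5 : Nat.card (W ⊓ C1(a) : Subgroup G) * Nat.card (W ⊓ C1(a) : Subgroup G) ≤ Nat.card W :=
    h4 ▸ card_le_of_le (sup_le inf_le_left hU)
  obtain ⟨n, hn⟩ := hW.exists_card_eq
  have h6 : 3 ≤ n := by
    obtain ⟨q, j, hq, hq2, hqd, hj, hd⟩ := Transfer.exists_prime_of_not_res_le hn (zpowers_le.2 hx) (by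
      intro h
      apply h1
      rw [BG.res_eq] at h
      rw [← hf, left_eq_inf, le_centralizer_iff]
      exact (le_Res le_rfl (by rwa [Nat.card_zpowers])).trans h)
    by_contra h
    rw [Nat.card_zpowers] at hqd
    have : n - j = 1 ∨ n - j = 2 := by omega
    rcases this with h' | h' <;> rw [h'] at hd
    · exact hq.one_lt.ne' (Nat.dvd_one.1 hd)
    · exact h3 (((Nat.prime_dvd_prime_iff_eq hq Nat.prime_three).1 hd) ▸ hqd)
  have h7 : 2 ^ 3 ≤ Nat.card W := hn ▸ Nat.pow_le_pow_right two_pos h6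
  obtain ⟨m, hm⟩ := (hW.to_inf_left (K := C1(a))).exists_card_eq
  rw [hm] at h5 ⊢
  rcases Nat.lt_or_ge m 2 with h | h
  · have : 2 ^ m ≤ 2 ^ 1 := Nat.pow_le_pow_right two_pos (by omega)
    omega
  · have : 2 ^ 2 ≤ 2 ^ m := Nat.pow_le_pow_right two_pos h
    exact (Nat.mul_le_mul_right _ this).trans h5

open Cfsg.Agent.Comp Cfsg.Agent.BG Subgroup commutatorElement in
theorem main {G ι : Type*} [Group G] [Finite G] [DecidableEq ι] (a x : ι → G) (ha : ∀ i j, Commute (a i) (a j))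
    (ha2 : ∀ i, a i ^ 2 = 1) (hx : ∀ i j, Commute (x i) (x j)) (hax : ∀ i j, i ≠ j → Commute (a i) (x j))
    (hinv : ∀ i, a i * x i * (a i)⁻¹ = (x i)⁻¹) (h2 : ∀ i, (orderOf (x i)).Coprime 2) (h3 : ∀ i, ¬ 3 ∣ orderOf (x i))
    (J : Finset ι) : ∀ V : Subgroup G, IsElementaryAbelian 2 V → (∀ i ∈ J, a i ∈ Nm(V) ∧ x i ∈ Nm(V) ∧ x i ∉ Ct(V)) →
      4 ^ J.card * Nat.card (V ⊓ Ct(closure (a '' J)) : Subgroup G) ≤ Nat.card V := by
  haveI : Fact (Nat.Prime 2) := ⟨Nat.prime_two⟩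
  induction J using Finset.strongInduction with
  | H J ih =>
  intro V hV hJ
  rcases J.eq_empty_or_nonempty with rfl | ⟨k, hk⟩
  · simpa using card_le_of_le inf_le_left
  classical
  have hVp : IsPGroup 2 V := isPGroup_of_forall fun v hv => ⟨1, by simpa using hV.2 v hv⟩
  have hVc : V ≤ Ct(V) := le_centralizer_iff_isMulCommutative.2 hV.1
  have sub : ∀ U, U ≤ V → IsElementaryAbelian 2 U := fun U hU =>
    ⟨le_centralizer_iff_isMulCommutative.1 (hU.trans (hVc.trans (centralizer_le (show U ≤ V from hU)))),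
      fun u hu => hV.2 u (hU hu)⟩
  have hk' := zpowers_le.2 (hJ k hk).2.1
  have cop : ∀ i, (Nat.card (zpowers (x i))).Coprime (Nat.card V) := fun i =>
    (coprime_of_isPGroup hVp (by rw [Nat.card_zpowers]; exact h2 i)).symm
  set W := ⁅V, zpowers (x k)⁆ with hW
  set C := V ⊓ Ct(zpowers (x k)) with hC
  have hWV : W ≤ V := Comp.commutator_le_left_of_le_normalizer hk'
  have hsup : W ⊔ C = V := Solv.coprime_commutator_sup_centralizer hk' (cop k)
    (Or.inl (isSolvable_of_comm fun a b => mul_comm' a b))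
  have hinf : C ⊓ W = ⊥ := Solv.coprime_abelian_inf_eq_bot hV.1 hk' (cop k)
  have nz : ∀ g, Commute g (x k) → g ∈ Nm(zpowers (x k)) := fun g hg => by
    rw [← cj_eq_self_iff, cj_zpowers, hg.eq, mul_inv_cancel_right]
  have na : ∀ i, a i ∈ Nm(zpowers (x k)) := fun i => by
    by_cases h : i = k
    · subst h; exact Transfer.mem_normalizer_zpowers_of_inv (hinv i)
    · exact nz _ (hax i k h)
  have nW : ∀ g ∈ Nm(V), g ∈ Nm(zpowers (x k)) → g ∈ Nm(W) ∧ g ∈ Nm(C) := fun g h1 h2 =>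
    ⟨Comp.le_normalizer_commutator (zpowers_le.2 h1) (zpowers_le.2 h2) (mem_zpowers g),
      by rw [← cj_eq_self_iff, hC, cj_inf, cj_centralizer, cj_eq_self_iff.2 h1, cj_eq_self_iff.2 h2]⟩
  have nU : ∀ g ∈ Nm(W), Commute g (a k) → g ∈ Nm(W ⊓ C1(a k)) := fun g h1 h2 => by
    rw [← cj_eq_self_iff, cj_inf, cj_centralizer_singleton, cj_eq_self_iff.2 h1, h2.eq, mul_inv_cancel_right]
  let J1 := (J.erase k).filter fun i => x i ∉ Ct(W)
  let J2 := (J.erase k).filter fun i => ¬ x i ∉ Ct(W)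
  have hcard : J1.card + J2.card + 1 = J.card := by
    rw [Finset.card_filter_add_card_filter_not, Finset.card_erase_add_one hk]
  have s1 : J1 ⊂ J := (Finset.filter_subset _ _).trans_ssubset (Finset.erase_ssubset hk)
  have s2 : J2 ⊂ J := (Finset.filter_subset _ _).trans_ssubset (Finset.erase_ssubset hk)
  have i1 := ih J1 s1 (W ⊓ C1(a k)) (sub _ (inf_le_left.trans hWV)) fun i hi => by
    obtain ⟨hi1, hi2⟩ := Finset.mem_filter.1 hi
    obtain ⟨hi3, hi4⟩ := Finset.mem_erase.1 hi1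
    have hxW := (nW _ (hJ i hi4).2.1 (nz _ (hx i k))).1
    refine ⟨nU _ (nW _ (hJ i hi4).1 (na i)).1 (ha i k), nU _ hxW (hax k i hi3.symm).symm, fun h => hi2 ?_⟩
    refine Solv.coprime_le_centralizer_of_commutator_le (N := W ⊓ C1(a k))
      ((cop i).coprime_dvd_right (card_dvd_of_le (inf_le_left.trans hWV))) ?_ (zpowers_le.2 h) (mem_zpowers _)
    refine le_inf (Comp.commutator_le_left_of_le_normalizer (zpowers_le.2 hxW)) ?_
    rw [Subgroup.commutator_comm]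
    have hak := (nW _ (hJ k hk).1 (na k)).1
    refine le_trans ?_ (inf_le_right : W ⊓ C1(a k) ≤ _)
    refine commutator_zpowers_left_le (centralizer_le_normalizer _ h) fun w hw => ?_
    have m1 : x i * w * (x i)⁻¹ ∈ W := (mem_normalizer_iff.1 hxW w).1 hw
    have m2 : a k * w * (a k)⁻¹ ∈ W := (mem_normalizer_iff.1 hak w).1 hw
    have cW : ∀ u ∈ W, ∀ v ∈ W, u * v = v * u := fun u hu v hv => mem_centralizer_iff.1 (hVc (hWV hv)) u (hWV hu)
    have e0 : Commute (a k) (x i) := hax k i hi3.symm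
    have m3 : w * (a k * w * (a k)⁻¹) ∈ W ⊓ C1(a k) := by
      refine ⟨W.mul_mem hw m2, mem_centralizer_singleton_iff.2 ?_⟩
      have e1 : a k * a k = 1 := by rw [← sq, ha2]
      calc w * (a k * w * (a k)⁻¹) * a k = (a k * w * (a k)⁻¹) * w * a k := by rw [cW _ hw _ m2]
        _ = a k * (w * ((a k * a k)⁻¹ * a k * w * (a k)⁻¹ * (a k * a k))) := by group
        _ = _ := by rw [e1]; group
    have e2 := mem_centralizer_iff.1 h _ m3
    refine ⟨W.mul_mem m1 (W.inv_mem hw), mem_centralizer_singleton_iff.2 ?_⟩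
    have e3 : (x i * w * (x i)⁻¹) * (a k * (x i * w * (x i)⁻¹) * (a k)⁻¹) = w * (a k * w * (a k)⁻¹) := by
      calc _ = x i * w * (x i)⁻¹ * (a k * x i) * w * (a k * x i)⁻¹ := by group
        _ = x i * (w * (a k * w * (a k)⁻¹)) * (x i)⁻¹ := by rw [e0.eq]; group
        _ = _ := by rw [← e2]; group
    rw [commutatorElement_def]
    generalize x i * w * (x i)⁻¹ = u at m1 e3
    have m4 : a k * u * (a k)⁻¹ ∈ W := (mem_normalizer_iff.1 hak u).1 m1
    have sq1 : ∀ v ∈ W, v⁻¹ = v := fun v hv => inv_eq_of_mul_eq_one_right (by rw [← sq, hV.2 v (hWV hv)])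
    have e4 : a k * (u * w⁻¹) * (a k)⁻¹ = u * w⁻¹ := by
      calc _ = (a k * u * (a k)⁻¹) * (a k * w * (a k)⁻¹)⁻¹ := by group
        _ = u⁻¹ * (u * (a k * u * (a k)⁻¹)) * (a k * w * (a k)⁻¹)⁻¹ := by group
        _ = u⁻¹ * w := by rw [e3]; group
        _ = _ := by rw [sq1 u m1, sq1 w hw]
    rw [← mul_inv_eq_iff_eq_mul.1 e4]
  have i2 := ih J2 s2 C (sub _ inf_le_left) fun i hi => by
    obtain ⟨hi1, hi2⟩ := Finset.mem_filter.1 hi
    obtain ⟨hi3, hi4⟩ := Finset.mem_erase.1 hi1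
    refine ⟨(nW _ (hJ i hi4).1 (na i)).2, (nW _ (hJ i hi4).2.1 (nz _ (hx i k))).2, fun h => (hJ i hi4).2.2 ?_⟩
    rw [← hsup]
    exact le_centralizer_iff.1 (sup_le (le_centralizer_iff.1 (zpowers_le.2 (not_not.1 hi2)))
      (le_centralizer_iff.1 (zpowers_le.2 h))) (mem_zpowers _)
  have i3 := four (hVp.to_le hWV) (nW _ (hJ k hk).2.1 (nz _ (hx k k))).1 (hinv k) (h2 k) (h3 k)
    (by rw [eq_bot_iff, ← hinf]; exact fun w hw => ⟨⟨hWV hw.1, hw.2⟩, hw.1⟩)
    (fun h => (hJ k hk).2.2 (le_centralizer_iff.1 (commutator_eq_bot_iff_le_centralizer.1 h) (mem_zpowers _)))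
    (hWV.trans (hVc.trans (centralizer_le (show W ≤ V from hWV))))
  have nCW : ∀ {A B : Subgroup G}, A ≤ V → B ≤ V → A ≤ Nm(B) := fun h1 h2 =>
    h1.trans (hVc.trans ((centralizer_le (show _ ≤ V from h2)).trans (centralizer_le_normalizer _)))
  have c1 : Nat.card V = Nat.card C * Nat.card W := by
    rw [← Solv.card_sup_of_disjoint (nCW inf_le_left hWV) hinf, sup_comm, hsup]
  have mem : ∀ (I : Finset ι) (g : G), g ∈ Ct(closure (a '' I)) ↔ ∀ i ∈ I, a i * g = g * a i := by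
    intro I g
    rw [centralizer_closure, mem_centralizer_iff]
    simp
  have c2 : V ⊓ Ct(closure (a '' J)) ≤ (C ⊓ Ct(closure (a '' J2))) ⊔ (W ⊓ C1(a k) ⊓ Ct(closure (a '' J1))) := by
    intro v ⟨hv, hv2⟩
    rw [← hsup, sup_comm] at hv
    obtain ⟨c, hc, w, hw, rfl⟩ := (Comp.mem_sup_of_le_normalizer (nCW inf_le_left hWV)).1 hv
    have key : ∀ i ∈ J, a i * c = c * a i ∧ a i * w = w * a i := by
      intro i hi
      have e1 := (mem J _).1 hv2 i hi
      obtain ⟨n1, n2⟩ := nW _ (hJ i hi).1 (na i)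
      have e2 : c⁻¹ * (a i * c * (a i)⁻¹) = w * (a i * w * (a i)⁻¹)⁻¹ := by
        calc _ = c⁻¹ * (a i * (c * w)) * w⁻¹ * (a i)⁻¹ := by group
          _ = _ := by rw [e1]; group
      have e3 : c⁻¹ * (a i * c * (a i)⁻¹) ∈ C ⊓ W := ⟨C.mul_mem (C.inv_mem hc) ((mem_normalizer_iff.1 n2 c).1 hc),
        e2 ▸ W.mul_mem hw (W.inv_mem ((mem_normalizer_iff.1 n1 w).1 hw))⟩
      rw [hinf, mem_bot] at e3
      rw [e3, eq_comm, mul_inv_eq_one, eq_mul_inv_iff_mul_eq] at e2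
      rw [inv_mul_eq_one, eq_mul_inv_iff_mul_eq] at e3
      exact ⟨e3.symm, e2.symm⟩
    exact mul_mem_sup ⟨hc, (mem _ _).2 fun i hi => (key i (s2.1 hi)).1⟩
      ⟨⟨hw, mem_centralizer_singleton_iff.2 (key k hk).2.symm⟩, (mem _ _).2 fun i hi => (key i (s1.1 hi)).2⟩
  have c3 := card_le_of_le c2
  rw [Solv.card_sup_of_disjoint (nCW (inf_le_left.trans inf_le_left) (inf_le_left.trans (inf_le_left.trans hWV)))
    (le_bot_iff.1 (hinf ▸ inf_le_inf inf_le_left (inf_le_left.trans inf_le_left)))] at c3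
  rw [← hcard, c1, pow_succ, pow_add]
  calc _ ≤ 4 ^ J1.card * 4 ^ J2.card * 4 * (Nat.card (C ⊓ Ct(closure (a '' J2)) : Subgroup G) *
        Nat.card (W ⊓ C1(a k) ⊓ Ct(closure (a '' J1)) : Subgroup G)) := Nat.mul_le_mul_left _ c3
    _ = (4 ^ J2.card * Nat.card (C ⊓ Ct(closure (a '' J2)) : Subgroup G)) *
        (4 * (4 ^ J1.card * Nat.card (W ⊓ C1(a k) ⊓ Ct(closure (a '' J1)) : Subgroup G))) := by ring
    _ ≤ _ := Nat.mul_le_mul i2 ((Nat.mul_le_mul_left 4 i1).trans i3)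

open Subgroup in
theorem s3 : Nonempty (Equiv.Perm (Fin 3) ≃* DihedralGroup 3) := by
  have ho : orderOf (finRotate 3) = 3 := orderOf_eq_prime (by decide) (by decide)
  obtain ⟨e⟩ := Solv.nonempty_dihedral_of_gens (a := finRotate 3) (b := Equiv.swap 0 1) (by
    rw [mem_zpowers_iff_mem_range_orderOf, ho]; decide) rfl (by decide) (by decide)
  rw [ho] at e
  have : zpowers (finRotate 3) ⊔ zpowers (Equiv.swap 0 1) = ⊤ := by
    rw [← card_eq_iff_eq_top, Nat.card_congr e.toEquiv, DihedralGroup.nat_card]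
    simp [Nat.card_perm]
    rfl
  rw [this] at e
  exact ⟨topEquiv.symm.trans e⟩
end

/-- Let M and V be subgroups of a finite group with V an elementary abelian 2-group, M normalizing V and acting faithfully on it (M ∩ C(V) = 1), and C_M(O_{2'}(M)) ≤ O_{2'}(M). If some elementary abelian 2-subgroup A of M satisfies |V : C_V(A)| < |A|², then M has a section isomorphic to the symmetric group of degree 3. -/
theorem result {X : Type*} [Group X] [Finite X] (M V : Subgroup X) (hV : Cfsg.IsElementaryAbelian 2 V) (hMV : M ≤ Subgroup.normalizer (V : Set X)) (hfaith : M ⊓ Subgroup.centralizer (V : Set X) = ⊥) (hcon : Subgroup.centralizer (Cfsg.pPrimeCore 2 ↥M : Set ↥M) ≤ Cfsg.pPrimeCore 2 ↥M) (A : Subgroup X) (hAM : A ≤ M) (hA : Cfsg.IsElementaryAbelian 2 A) (hsmall : (V ⊓ Subgroup.centralizer (A : Set X)).relIndex V < Nat.card A ^ 2) : Cfsg.Involves (Equiv.Perm (Fin 3)) ↥M := by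
  open Pointwise commutatorElement Subgroup in
  open Cfsg.Agent.Comp Cfsg.Agent.BG Subgroup commutatorElement in
  haveI : Fact (Nat.Prime 2) := ⟨Nat.prime_two⟩
  by_contra hn
  have hAp : IsPGroup 2 A := isPGroup_of_forall fun v hv => ⟨1, by simpa using hA.2 v hv⟩
  have hodd : Odd (Nat.card (Opp 2 M)) := Nat.coprime_two_right.1 (coprime_Opp 2 M)
  have hf : A ⊓ Ct(Opp 2 M) = ⊥ := by
    refine Comp.eq_bot_of_le_of_coprime inf_le_left (K := Opp 2 M) ?_ (coprime_of_isPGroup hAp (coprime_Opp 2 M))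
    intro g hg
    rw [← map_pPrimeCore]
    refine ⟨⟨g, hAM hg.1⟩, hcon (mem_centralizer_iff.2 fun h hh => Subtype.ext ?_), rfl⟩
    exact mem_centralizer_iff.1 hg.2 h (map_pPrimeCore 2 M ▸ mem_map_of_mem _ hh)
  obtain ⟨B, b1, b2, b3, b4⟩ := PU.ab_faith hA (PF.odd_solvable hodd) hodd (le_normalizer_Opp_of_le hAM) hf
  obtain ⟨d, hd⟩ := hAp.exists_card_eq
  obtain ⟨a, x, h1, h2, h3⟩ := PU.dual_pairs (B := B) hA (fun a ha a1 => by
    by_contra! h
    have := PU.eig_gen (H := C1(a)) hA (hodd.of_dvd_nat (card_dvd_of_le b1)) b3 fun x hx e =>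
      mem_centralizer_singleton_iff.2 (mul_inv_eq_iff_eq_mul.1 (h x hx e)).symm
    exact a1 (mem_bot.1 (b4 ▸ mem_inf.2 ⟨ha, mem_centralizer_iff.2 fun b hb =>
      mem_centralizer_singleton_iff.1 (this hb)⟩))) d A le_rfl hd
  have hxM : ∀ i, x i ∈ M := fun i => Opp_le 2 M (b1 (h1 i).2.1)
  have hinv : ∀ i, a i * x i * (a i)⁻¹ = (x i)⁻¹ := fun i => ((h1 i).2.2.1 _ (h1 i).1).resolve_left (h1 i).2.2.2
  have hco : ∀ i, (orderOf (x i)).Coprime 2 := fun i =>
    (coprime_Opp 2 M).coprime_dvd_left (Transfer.orderOf_dvd_card_of_mem (b1 (h1 i).2.1))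
  have h33 : ∀ i, ¬ 3 ∣ orderOf (x i) := by
    intro i h
    have ho := orderOf_pow_orderOf_div (orderOf_pos (x i)).ne' h
    have hi : a i * x i ^ (orderOf (x i) / 3) * (a i)⁻¹ = (x i ^ (orderOf (x i) / 3))⁻¹ := by
      rw [← conj_pow, hinv, inv_pow]
    have hm : x i ^ (orderOf (x i) / 3) ∈ M := M.pow_mem (hxM i) _
    generalize x i ^ (orderOf (x i) / 3) = y at ho hi hm
    obtain ⟨e⟩ := Solv.nonempty_dihedral_of_gens (a := y) (b := a i) (by
      rintro ⟨k, hk⟩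
      have h5 : y = y⁻¹ := by rw [← hi, ← hk]; group
      have h6 : y ^ 2 = 1 := by rw [sq]; nth_rewrite 1 [h5]; simp
      have := orderOf_dvd_of_pow_eq_one h6
      rw [ho] at this
      exact absurd this (by decide)) rfl (hA.2 _ (h1 i).1) hi
    rw [ho] at e
    obtain ⟨e'⟩ := s3
    have hle : zpowers y ⊔ zpowers (a i) ≤ M := sup_le (zpowers_le.2 hm) (zpowers_le.2 (hAM (h1 i).1))
    exact hn (Fusion.Involves.of_injective Fusion.involves_refl
      ((inclusion hle).comp (e'.trans e.symm).toMonoidHom)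
      ((inclusion_injective hle).comp (e'.trans e.symm).injective))
  have key := main a x (fun i j => haveI := hA.1; setLike_mul_comm (h1 i).1 (h1 j).1) (fun i => hA.2 _ (h1 i).1)
    (fun i j => setLike_mul_comm (h1 i).2.1 (h1 j).2.1) (fun i j h => mul_inv_eq_iff_eq_mul.1 (h2 i j h))
    hinv hco h33 Finset.univ V hV fun i _ => ⟨hMV (hAM (h1 i).1), hMV (hxM i), fun h => (h1 i).2.2.2 (by
      rw [mem_bot.1 (hfaith ▸ mem_inf.2 ⟨hxM i, h⟩ : x i ∈ (⊥ : Subgroup X))]; simp)⟩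
  have h5 : V ⊓ Ct(A) ≤ V ⊓ Ct(closure (a '' (Finset.univ : Finset (Fin d)))) := by
    refine inf_le_inf_left _ (centralizer_le (show _ ≤ A from ?_))
    rw [closure_le]
    rintro _ ⟨i, -, rfl⟩
    exact (h1 i).1
  have h6 := (Nat.mul_le_mul_left _ (card_le_of_le h5)).trans key
  rw [Finset.card_univ, Fintype.card_fin, ← Solv.card_mul_relIndex (inf_le_left : V ⊓ Ct(A) ≤ V), mul_comm] at h6
  have h7 := Nat.le_of_mul_le_mul_left h6 Nat.card_pos
  rw [hd, ← pow_mul, mul_comm, pow_mul] at hsmall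
  exact absurd h7 (not_le.2 hsmall)

end Cfsg.Agent.S3755
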