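import Cfsg.Statements.S3761
import Cfsg.Agent.Lib.Block.Syl1
import Cfsg.Agent.Lib.Solv.PGrp

set_option autoImplicit false
open Cfsg

namespace Cfsg.Agent.S3761

open Cfsg.Agent.Blk
open Cfsg.Agent.Char hiding cj cj_mul cj_inv_cj cj_cj_inv
open Subgroup commutatorElement Cfsg.Agent.Solv

theorem memM {G : Type*} [Group G] (p : ℕ) (a g : G) :
    g ∈ centralizer (Cfsg.powerClosure p 1 (zpowers a) : Set G) ↔ Commute g (a ^ p) := by
  rw [Cfsg.powerClosure, centralizer_closure, mem_centralizer_iff]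
  constructor
  · intro h
    exact (h (a ^ p) ⟨a, mem_zpowers a, by rw [pow_one]⟩).symm
  · rintro h _ ⟨x, ⟨k, rfl⟩, rfl⟩
    simp only [pow_one]
    rw [← zpow_natCast, ← zpow_mul, mul_comm k, zpow_mul, zpow_natCast]
    exact (h.zpow_right k).symm.eq

theorem comm_pow_of {G : Type*} [Group G] {p : ℕ} {a b : G} (h1 : b * a * b⁻¹ * a⁻¹ ∈ zpowers a)
    (h2 : (b * a * b⁻¹ * a⁻¹) ^ p = 1) : Commute b (a ^ p) := by
  have h3 : b * a ^ p * b⁻¹ = a ^ p := by
    rw [← conj_pow, show b * a * b⁻¹ = (b * a * b⁻¹ * a⁻¹) * a by group,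
      (Solv.commute_of_mem_zpowers h1).mul_pow, h2, one_mul]
  rw [Commute, SemiconjBy]
  calc b * a ^ p = b * a ^ p * b⁻¹ * b := by group
    _ = _ := by rw [h3]

theorem relIndex_eq {G : Type*} [Group G] [Finite G] {p m : ℕ} (hp : p.Prime) {a : G}
    (ha : orderOf a = p ^ (m + 2)) (hn : ∀ g : G, g * a * g⁻¹ ∈ zpowers a)
    (hC : ∀ g : G, Commute g a → g ∈ zpowers a) {M : Subgroup G}
    (hM : ∀ g, g ∈ M ↔ Commute g (a ^ p)) {b : G} (hb : b ∈ M) (hba : b ∉ zpowers a) :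
    (zpowers a).relIndex M = p := by
  have hc : ∀ g ∈ M, g * a * g⁻¹ * a⁻¹ ∈ zpowers (a ^ p ^ (m + 1)) := by
    intro g hg
    have h1 : g * a * g⁻¹ * a⁻¹ ∈ zpowers a := mul_mem (hn g) (inv_mem (mem_zpowers a))
    refine mem_zpowers_pow_of_pow_eq_one hp ha h1 ?_
    rw [(Solv.commute_of_mem_zpowers (hn g)).inv_right.mul_pow, conj_pow, ((hM g).1 hg).eq]
    group
  have hz : ∀ g ∈ M, ∀ h ∈ M, Commute g (h * a * h⁻¹ * a⁻¹) := by
    intro g hg h hh
    obtain ⟨k, hk⟩ := hc h hh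
    rw [← hk]
    simp only
    rw [pow_succ', pow_mul]
    exact (((hM g).1 hg).pow_right _).zpow_right k
  let φ : M →* G := MonoidHom.mk' (fun g => g * a * g⁻¹ * a⁻¹) (by
    rintro ⟨g, hg⟩ ⟨h, hh⟩
    have h1 := (hz g hg h hh).eq
    have h2 : Commute (h * a * h⁻¹ * a⁻¹) (g * a * g⁻¹ * a⁻¹) :=
      Commute.of_mem_zpowers (Commute.refl _) (hc h hh) (hc g hg)
    change g * h * a * (g * h)⁻¹ * a⁻¹ = g * a * g⁻¹ * a⁻¹ * (h * a * h⁻¹ * a⁻¹)
    rw [← h2.eq]
    calc g * h * a * (g * h)⁻¹ * a⁻¹ = g * (h * a * h⁻¹ * a⁻¹) * a * g⁻¹ * a⁻¹ := by group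
      _ = _ := by rw [h1]; group)
  have hk : φ.ker = (zpowers a).subgroupOf M := by
    ext ⟨g, hg⟩
    rw [MonoidHom.mem_ker, mem_subgroupOf]
    change g * a * g⁻¹ * a⁻¹ = 1 ↔ g ∈ zpowers a
    constructor
    · intro h
      exact hC g (commutatorElement_eq_one_iff_commute.1 h)
    · intro h
      exact commutatorElement_eq_one_iff_commute.2 (Solv.commute_of_mem_zpowers h)
  have hr : φ.range ≤ zpowers (a ^ p ^ (m + 1)) := by
    rintro _ ⟨⟨g, hg⟩, rfl⟩
    exact hc g hg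
  have hd : (zpowers a).relIndex M ∣ p := by
    rw [relIndex, ← hk, index_ker]
    refine (card_dvd_of_le hr).trans ?_
    rw [Nat.card_zpowers]
    exact orderOf_dvd_of_pow_eq_one (pow_pow_pow_eq_one ha)
  rcases (Nat.dvd_prime hp).1 hd with h | h
  · exact absurd (relIndex_eq_one.1 h hb) hba
  · exact h

theorem omega_eq {G : Type*} [Group G] {p : ℕ} {M E : Subgroup G}
    (h : ∀ x, x ∈ E ↔ x ∈ M ∧ x ^ p = 1) : Cfsg.omegaOne p M = E := by
  rw [Cfsg.omegaOne, show {x : G | x ∈ M ∧ x ^ p = 1} = (E : Set G) from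
    Set.ext fun x => (h x).symm, closure_eq]

theorem char_of_all {G : Type*} [Group G] {p : ℕ} {M E : Subgroup G}
    (h : ∀ x, x ∈ E ↔ x ∈ M ∧ x ^ p = 1) (h2 : ∀ x : G, x ^ p = 1 → x ∈ M) : E.Characteristic := by
  rw [characteristic_iff_le_comap]
  intro φ x hx
  have h3 : φ x ^ p = 1 := by rw [← map_pow, ((h x).1 hx).2, map_one]
  exact (h _).2 ⟨h2 _ h3, h3⟩

theorem commutator_le_of {G : Type*} [Group G] {a : G} (hn : ∀ g : G, g * a * g⁻¹ ∈ zpowers a)
    (hC : ∀ g : G, Commute g a → g ∈ zpowers a) : commutator G ≤ zpowers a := by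
  rw [commutator_def, commutator_le]
  intro g _ h _
  apply hC
  obtain ⟨r, hr⟩ := hn g⁻¹
  obtain ⟨s, hs⟩ := hn h⁻¹
  simp only at hr hs
  have h1 : g⁻¹ * (h⁻¹ * a * h⁻¹⁻¹) * g⁻¹⁻¹ = h⁻¹ * (g⁻¹ * a * g⁻¹⁻¹) * h⁻¹⁻¹ := by
    rw [← hr, ← hs, Transfer.conj_zpow_eq hr.symm, Transfer.conj_zpow_eq hs.symm, mul_comm]
  rw [Commute, SemiconjBy, commutatorElement_def]
  calc g * h * g⁻¹ * h⁻¹ * a = g * h * (g⁻¹ * (h⁻¹ * a * h⁻¹⁻¹) * g⁻¹⁻¹) * g⁻¹ * h⁻¹ := by group
    _ = _ := by rw [h1]; group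

theorem char_of_two {G : Type*} [Group G] {a : G} (hn : ∀ g : G, g * a * g⁻¹ ∈ zpowers a)
    (hC : ∀ g : G, Commute g a → g ∈ zpowers a) {M E : Subgroup G}
    (hM : ∀ g, g ∈ M ↔ Commute g (a ^ 2))
    (h : ∀ x, x ∈ E ↔ x ∈ M ∧ x ^ 2 = 1) (h2 : a ^ 2 ∈ commutator G) : E.Characteristic := by
  have hK := commutator_le_of hn hC
  have hch : ∀ (φ : G ≃* G), ∀ x ∈ commutator G, φ x ∈ commutator G := fun φ x hx =>
    characteristic_iff_le_comap.1 inferInstance φ hx
  have key : ∀ φ : G ≃* G, φ (a ^ 2) ∈ zpowers (a ^ 2) := by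
    intro φ
    by_cases ha : a ∈ commutator G
    · obtain ⟨k, hk⟩ := hK (hch φ a ha)
      simp only at hk
      refine ⟨k, ?_⟩
      simp only
      rw [map_pow, ← hk, ← zpow_natCast, ← zpow_natCast, ← zpow_mul, ← zpow_mul, mul_comm]
    · have h3 := hch φ _ h2
      obtain ⟨k, hk⟩ := hK h3
      simp only at hk
      rcases Int.even_or_odd' k with ⟨j, rfl | rfl⟩
      · refine ⟨j, ?_⟩
        simp only
        rw [← hk, zpow_mul, zpow_ofNat]
      · exfalso
        apply ha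
        rw [← hk] at h3
        have h4 := mul_mem (inv_mem (zpow_mem h2 j)) h3
        rwa [zpow_add_one, zpow_mul, zpow_ofNat, inv_mul_cancel_left] at h4
  rw [characteristic_iff_le_comap]
  intro φ x hx
  have h3 : φ x ^ 2 = 1 := by rw [← map_pow, ((h x).1 hx).2, map_one]
  refine (h _).2 ⟨(hM _).2 ?_, h3⟩
  have h4 : Commute x (φ.symm (a ^ 2)) :=
    Commute.of_mem_zpowers ((hM x).1 ((h x).1 hx).1) (mem_zpowers x) (key φ.symm)
  have h5 := h4.map φ
  rwa [MulEquiv.apply_symm_apply] at h5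

/-- Let G be a finite non-abelian p-group with a cyclic normal subgroup U of order p^n such that C_G(U) = U. Then either p = 2 and G is dihedral, generalized quaternion or semidihedral of order 2^(n+1); or, writing U₁ for the subgroup generated by the p-th powers of elements of U and M = C_G(U₁), the subgroup U has index p in M and the subgroup Ω₁(M) generated by the elements of M of order dividing p is elementary abelian of order p² and characteristic in G. -/
theorem result {G : Type*} [Group G] [Finite G] {p : ℕ} [Fact p.Prime] (hG : IsPGroup p G) (hna : ¬ IsMulCommutative G) (U : Subgroup G) [U.Normal] (hU : IsCyclic U) (n : ℕ) (hUn : Nat.card U = p ^ n) (hC : Subgroup.centralizer (U : Set G) = U) : (p = 2 ∧ Nat.card G = 2 ^ (n + 1) ∧ ((∃ m : ℕ, Nonempty (G ≃* DihedralGroup m)) ∨ (∃ m : ℕ, Nonempty (G ≃* QuaternionGroup m)) ∨ Cfsg.IsQuasiDihedral G)) ∨ (U.relIndex (Subgroup.centralizer (Cfsg.powerClosure p 1 U : Set G)) = p ∧ Cfsg.IsElementaryAbelian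 p (Cfsg.omegaOne p (Subgroup.centralizer (Cfsg.powerClosure p 1 U : Set G))) ∧ Nat.card ↥(Cfsg.omegaOne p (Subgroup.centralizer (Cfsg.powerClosure p 1 U : Set G))) = p ^ 2 ∧ (Cfsg.omegaOne p (Subgroup.centralizer (Cfsg.powerClosure p 1 U : Set G))).Characteristic) := by
  obtain ⟨a, rfl⟩ := (Subgroup.isCyclic_iff_exists_zpowers_eq_top U).1 hU
  have hC' : ∀ g : G, Commute g a → g ∈ zpowers a := by
    intro g hg
    rw [← hC, mem_centralizer_iff]
    intro h hh
    exact (Commute.of_mem_zpowers hg.symm hh (mem_zpowers g)).eq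
  have hn : ∀ g : G, g * a * g⁻¹ ∈ zpowers a := fun g =>
    Normal.conj_mem ‹_› a (mem_zpowers a) g
  have hne : ¬ (⊤ : Subgroup G) ≤ zpowers a := fun h => hna ⟨⟨fun x y =>
    (Commute.of_mem_zpowers (Commute.refl a) (h (mem_top x)) (h (mem_top y))).eq⟩⟩
  rw [Nat.card_zpowers] at hUn
  have hp : p.Prime := Fact.out
  obtain _ | m := n
  · exfalso
    apply hne
    intro g _
    apply hC'
    rw [pow_zero, orderOf_eq_one_iff] at hUn
    rw [hUn]; exact Commute.one_right g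
  have hM := memM p a
  generalize centralizer (Cfsg.powerClosure p 1 (zpowers a) : Set G) = M at hM ⊢
  have hUM : zpowers a ≤ M := zpowers_le.2 ((hM a).2 (Commute.self_pow a p))
  by_cases hp2 : p = 2
  · subst hp2
    have modc : ∀ b : G, b * a * b⁻¹ = a ^ (1 + 2 ^ m) → b ∈ M := by
      intro b hb
      refine (hM b).2 (comm_pow_of (mul_mem (hn b) (inv_mem (mem_zpowers a))) ?_)
      rw [hb, add_comm, pow_succ a, mul_inv_cancel_right]
      exact pow_pow_pow_eq_one hUn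
    have main : (2 ≤ m ∧ ∃ b : G, b ∉ zpowers a ∧ b ^ 2 = 1 ∧ b * a * b⁻¹ = a ^ (1 + 2 ^ m)) →
        (zpowers a).relIndex M = 2 ∧ IsElementaryAbelian 2 (omegaOne 2 M) ∧
          Nat.card (omegaOne 2 M) = 2 ^ 2 ∧ (omegaOne 2 M).Characteristic := by
      rintro ⟨hm, b, hba, hb, hab⟩
      obtain ⟨E, hE1, hE2, hE3⟩ := omega_of_modular_two hm hUn hba hab hb
      have hi : (zpowers a).relIndex M = 2 := by
        obtain ⟨k, rfl⟩ : ∃ k, m = k + 1 := ⟨m - 1, by omega⟩
        exact relIndex_eq hp hUn hn hC' hM (modc b hab) hba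
      rw [sup_zpowers_eq_of_relIndex_prime hUM (hi ▸ hp) (modc b hab) hba] at hE3
      rw [omega_eq hE3]
      refine ⟨hi, ⟨hE2, fun x hx => ((hE3 x).1 hx).2⟩, hE1, ?_⟩
      by_cases hall : ∀ x : G, x ^ 2 = 1 → x ∈ M
      · exact char_of_all hE3 hall
      push Not at hall
      obtain ⟨x, hx, hxM⟩ := hall
      refine char_of_two hn hC' hM hE3 ?_
      have hcm : ∀ g : G, g * a * g⁻¹ * a⁻¹ ∈ commutator G := fun g =>
        commutator_mem_commutator (mem_top g) (mem_top a)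
      rcases conj_cases_two hUn (hn x) (by rw [hx]; exact Commute.one_left a) with h | h | h | h
      · exact absurd (hUM (hC' x h)) hxM
      · have h1 := inv_mem (hcm x)
        rwa [h, mul_inv_rev, inv_inv, ← pow_two] at h1
      · exact absurd (modc x h.2) hxM
      · have h1 := mul_mem (hcm b) (inv_mem (hcm x))
        rw [hab, h.2] at h1
        obtain ⟨t, ht⟩ : ∃ t, 2 ^ m = t + 1 := ⟨2 ^ m - 1, by have := Nat.one_le_two_pow (n := m); omega⟩
        rw [ht, Nat.add_sub_cancel] at h1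
        convert h1 using 1
        group
    rcases index_two_or_modular (S := ⊤) (hG.to_subgroup ⊤) hUn (mem_top a)
      (by rw [normalizer_eq_top]) (fun g _ => hC' g) hne with hi | ⟨hm, b, -, hb⟩
    swap
    · exact .inr (main ⟨hm, b, hb⟩)
    obtain ⟨b, -, hba⟩ := SetLike.not_le_iff_exists.1 hne
    have hb2 : b ^ 2 ∈ zpowers a := by
      have := pow_relIndex_mem (B := ⊤) (C := zpowers a) le_top (by rw [normalizer_eq_top]) (mem_top b)
      rwa [hi] at this
    have hcard : Nat.card G = 2 ^ (m + 1 + 1) := by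
      rw [relIndex_top_right] at hi
      rw [← (zpowers a).card_mul_index, hi, Nat.card_zpowers, hUn, pow_succ _ (m + 1)]
    obtain ⟨x, hx, hcases⟩ := exists_normal_form_two hUn (hn b) hb2 fun h => hba (hC' b h)
    have hxb : x * b ∉ zpowers a := fun h => hba (by simpa using mul_mem (inv_mem hx) h)
    have hconj : x * b * a * (x * b)⁻¹ = b * a * b⁻¹ := by
      have := (Commute.of_mem_zpowers (Commute.refl a) hx (hn b)).eq
      calc x * b * a * (x * b)⁻¹ = x * (b * a * b⁻¹) * x⁻¹ := by group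
        _ = _ := by rw [this]; group
    have hsup : (⊤ : Subgroup G) = zpowers a ⊔ zpowers (x * b) :=
      (sup_zpowers_eq_of_relIndex_prime le_top (hi ▸ hp) (mem_top _) hxb).symm
    rw [← hconj] at hcases
    rcases hcases with ⟨h1, h2⟩ | ⟨h1, h2⟩ | ⟨hm, h1, h2⟩ | ⟨hm, h1, h2⟩
    · obtain ⟨e⟩ := nonempty_dihedral_of_gens hxb hsup h1 h2
      exact .inl ⟨rfl, hcard, .inl ⟨_, ⟨topEquiv.symm.trans e⟩⟩⟩
    · obtain ⟨e⟩ := nonempty_quaternion_of_gens hUn hxb hsup h1 h2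
      exact .inl ⟨rfl, hcard, .inr (.inl ⟨_, ⟨topEquiv.symm.trans e⟩⟩)⟩
    · exact .inr (main ⟨hm, x * b, hxb, h1, h2⟩)
    · refine .inl ⟨rfl, hcard, .inr (.inr ⟨m + 1, by omega, hcard, a, x * b, hUn, ?_, h2⟩)⟩
      exact orderOf_eq_prime h1 fun h => hxb (h ▸ one_mem _)
  · right
    have modc : ∀ b : G, Commute (b ^ p) a → b ∈ M := by
      intro b hb
      refine (hM b).2 (comm_pow_of (mul_mem (hn b) (inv_mem (mem_zpowers a))) ?_)
      exact pow_eq_one_of_mem_zpowers (pow_pow_pow_eq_one hUn) (modular_of_odd hp hp2 hUn (hn b) hb).2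
    obtain ⟨g, -, hga⟩ := SetLike.not_le_iff_exists.1 hne
    obtain ⟨k, hk⟩ := hG g
    obtain ⟨j, hba, hb⟩ := exists_pow_notMem_pow_mem (p := p) (k := k) hga (hk ▸ one_mem _)
    generalize g ^ p ^ j = b at hba hb
    have hbc := Solv.commute_of_mem_zpowers hb
    have hi : (zpowers a).relIndex M = p := by
      obtain _ | m := m
      · have := (modular_of_odd hp hp2 hUn (hn b) hbc).1
        rw [pow_zero, pow_one] at this
        exact absurd (hC' b this) hba
      · exact relIndex_eq hp hUn hn hC' hM (modc b hbc) hba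
    have hnc : ¬ IsCyclic M := fun h => hba (hC' b (by
      have := (h.commGroup).mul_comm ⟨b, modc b hbc⟩ ⟨a, hUM (mem_zpowers a)⟩
      exact congrArg Subtype.val this))
    obtain ⟨E, hE1, hE2, hE3⟩ := omega_of_cyclic_index_odd hp2 (hG.to_subgroup M) hUM hU hi hnc
    rw [omega_eq hE3]
    exact ⟨hi, ⟨hE2, fun x hx => ((hE3 x).1 hx).2⟩, hE1,
      char_of_all hE3 fun x hx => modc x (by rw [hx]; exact Commute.one_left a)⟩

end Cfsg.Agent.S3761
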