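import Cfsg.Statements.S3764
import Cfsg.Agent.Lib.BG.Extra

set_option autoImplicit false
open Cfsg

namespace Cfsg.Agent.S3764

/-- Let p, q, r be distinct primes and let X, Q, V be subgroups of a finite group with X of order r, Q an extraspecial q-group normalized by X with C_Q(X) = Z(Q), and V an elementary abelian p-group normalized by X and Q on which XQ acts faithfully ((X ⊔ Q) ∩ C(V) = 1). If C_V(X) = 1, then q = 2, r = 2^n + 1 for some n, and Q has order 2^(2n+1). -/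
theorem result {G : Type*} [Group G] [Finite G] {p q r : ℕ} (hp : p.Prime) (hq : q.Prime) (hr : r.Prime) (hpq : p ≠ q) (hpr : p ≠ r) (hqr : q ≠ r) (X Q V : Subgroup G) (hX : Nat.card X = r) (hQ : Cfsg.IsExtraspecial q ↥Q) (hXQ : X ≤ Subgroup.normalizer (Q : Set G)) (hCQ : Q ⊓ Subgroup.centralizer (X : Set G) = (Subgroup.center ↥Q).map Q.subtype) (hV : Cfsg.IsElementaryAbelian p V) (hXV : X ≤ Subgroup.normalizer (V : Set G)) (hQV : Q ≤ Subgroup.normalizer (V : Set G)) (hfaith : (X ⊔ Q) ⊓ Subgroup.centralizer (V : Set G) = ⊥) (hCV : V ⊓ Subgroup.centralizer (X : Set G) = ⊥) : q = 2 ∧ ∃ n : ℕ, r = 2 ^ n + 1 ∧ Nat.card Q = 2 ^ (2 * n + 1) := by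
  open Pointwise commutatorElement Subgroup in
  open Cfsg.Agent.BG Cfsg.Agent.Comp in
  haveI := Fact.mk hp
  haveI := Fact.mk hq
  haveI := Fact.mk hr
  obtain ⟨a, b, c⟩ := extraspecial_spec hQ
  obtain ⟨x, hx, rfl⟩ := (el_one_iff.2 hX).exists_zpowers
  rw [map_center_subtype] at hCQ
  have h0 := extraspecial_der_ne_bot hq hQ
  obtain ⟨d, h1, h2⟩ := exists_dim_int (elem_isP hV) (hXQ (mem_zpowers x)) (sup_le hQV hXV)
    (coprime_card_sup hXQ (coprime_of_isPGroup_of_ne hpq.symm a)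
      (hX ▸ (Nat.coprime_primes hr hp).2 hpr.symm)) inf_le_left
    (by rw [centralizer_sup]; exact le_inf inf_le_right (hCQ.ge.trans inf_le_right)) b.le
    (fun e => h0 (eq_bot_iff.2 (hfaith ▸ le_inf ((der_le Q).trans le_sup_right) e)))
    (fun N _ => extraspecial_nondeg hq hQ)
    (fun y hy h => by rw [C1_eq_Ct_of_prime (hX ▸ hr) hy h, hCQ])
    (by rw [hx, c]; exact (Nat.coprime_primes hr hq).2 hqr.symm) (by rwa [← centralizer_zpowers])
  have h3 := Cfsg.Agent.Solv.card_mul_relIndex (inf_le_left : Q ⊓ centralizer (Q : Set G) ≤ Q)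
  have h4 : d ≠ 1 := fun e => h0 (commutator_eq_bot_iff_le.2
    ((relIndex_eq_one.1 (by rw [← h1, e, one_pow])).trans inf_le_right))
  obtain ⟨k, hk⟩ := a.exists_card_eq
  rw [c, ← h1] at h3
  obtain ⟨rfl, n, rfl⟩ := eq_two_of_add_one (k := k) hq hr h4 (hx ▸ h2.resolve_left h4)
    (by rw [← hk, ← h3]; exact (dvd_pow_self d two_ne_zero).mul_left _)
  exact ⟨rfl, n, hx ▸ (h2.resolve_left h4).symm, by rw [← h3]; ring⟩

end Cfsg.Agent.S3764
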