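import Cfsg.Statements.S3766
import Cfsg.Agent.Lib.BG.Sec1

set_option autoImplicit false
open Cfsg

namespace Cfsg.Agent.S3766
section
open Pointwise commutatorElement Subgroup
theorem chief_top_iff {G : Type*} [Group G] {U V : Subgroup G} :
    Cfsg.Agent.BG.Chief ⊤ U V ↔ (U.Normal ∧ V.Normal ∧ V < U ∧
      ∀ W : Subgroup G, W.Normal → V ≤ W → W ≤ U → W = V ∨ W = U) := by
  simp only [Cfsg.Agent.Comp.normal_iff_top_le_normalizer]
  exact ⟨fun h => ⟨h.nU, h.nV, h.lt, h.min⟩, fun h => ⟨h.2.2.1, h.1, h.2.1, h.2.2.2⟩⟩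
end

/-- Let G be a finite solvable group and N a normal subgroup of G. Call a pair V < U of normal subgroups of G a chief factor of G when no normal subgroup of G lies strictly between them; an element g centralizes the chief factor U/V when u g u⁻¹ g⁻¹ ∈ V for all u ∈ U. Then an element of G lies in the Fitting subgroup F(N) if and only if it lies in N and centralizes every chief factor of G; and also if and only if it lies in N and centralizes every chief factor U/V of G with U ≤ F(N). -/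
theorem result {G : Type*} [Group G] [Finite G] (hG : Group.IsSolvable G) (N : Subgroup G) [N.Normal] (g : G) : (g ∈ (Cfsg.fittingSubgroup ↥N).map N.subtype ↔ g ∈ N ∧ ∀ U V : Subgroup G, (U.Normal ∧ V.Normal ∧ V < U ∧ ∀ W : Subgroup G, W.Normal → V ≤ W → W ≤ U → W = V ∨ W = U) → ∀ u ∈ U, u * g * u⁻¹ * g⁻¹ ∈ V) ∧ (g ∈ (Cfsg.fittingSubgroup ↥N).map N.subtype ↔ g ∈ N ∧ ∀ U V : Subgroup G, (U.Normal ∧ V.Normal ∧ V < U ∧ ∀ W : Subgroup G, W.Normal → V ≤ W → W ≤ U → W = V ∨ W = U) → U ≤ (Cfsg.fittingSubgroup ↥N).map N.subtype → ∀ u ∈ U, u * g * u⁻¹ * g⁻¹ ∈ V) := by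
  open Pointwise commutatorElement Subgroup in
  open Cfsg.Agent.BG Cfsg.Agent.Comp in
  simp only [← chief_top_iff, map_fitting]
  have h1 : g ∈ Fit N → g ∈ N ∧ ∀ U V : Subgroup G, Chief ⊤ U V → ∀ u ∈ U, u * g * u⁻¹ * g⁻¹ ∈ V :=
    fun h => ⟨Fit_le N h, fun U V hc u hu => hc.commutator_Fit_le le_top le_top
      le_normalizer_of_normal (commutator_mem_commutator hu h)⟩
  have h2 : (g ∈ N ∧ ∀ U V : Subgroup G, Chief ⊤ U V → U ≤ Fit N → ∀ u ∈ U, u * g * u⁻¹ * g⁻¹ ∈ V) →
      g ∈ Fit N := fun ⟨a, b⟩ => by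
    refine le_Fit_of_chief (X := ⊤) (K := normalClosure {g}) inferInstance le_top le_normalizer_of_normal
      (normalClosure_le_normal (Set.singleton_subset_iff.2 a)) le_normalizer_of_normal
      (fun U V hc hU => ?_) (subset_normalClosure rfl)
    haveI := Cfsg.Agent.Comp.normal_iff_top_le_normalizer.2 hc.nU
    haveI := Cfsg.Agent.Comp.normal_iff_top_le_normalizer.2 hc.nV
    haveI : (actKer V U).Normal := ⟨fun x hx y => ⟨le_normalizer_of_normal (mem_top _), fun u hu => by
      have := Normal.conj_mem inferInstance _ (hx.2 _ (Normal.conj_mem' inferInstance u hu y)) y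
      simp only [commutatorElement_def] at this ⊢
      convert this using 1; group⟩⟩
    rw [commutator_comm]
    refine (le_actKer_iff.1 (normalClosure_le_normal (Set.singleton_subset_iff.2
      ⟨le_normalizer_of_normal (mem_top _), fun u hu => ?_⟩))).2
    have := inv_mem (b U V hc hU u hu)
    simp only [commutatorElement_def]
    convert this using 1; group
  exact ⟨⟨h1, fun h => h2 ⟨h.1, fun U V hc _ => h.2 U V hc⟩⟩,
    fun h => ⟨(h1 h).1, fun U V hc _ => (h1 h).2 U V hc⟩, h2⟩

end Cfsg.Agent.S3766
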