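import Cfsg.Statements.S3767
import Cfsg.Agent.Lib.BG.Extra

set_option autoImplicit false
open Cfsg

namespace Cfsg.Agent.S3767

/-- Let P be an extraspecial p-group of order p^(2n+1) and H a cyclic group of order h prime to p acting on P (inside a common finite group: H normalizes P) so that C_P(x) = Z(P) for every non-identity x ∈ H. Then h divides p^n + 1 or h divides p^n − 1. -/
theorem result {G : Type*} [Group G] [Finite G] {p : ℕ} [Fact p.Prime] (P H : Subgroup G) (hP : Cfsg.IsExtraspecial p ↥P) (n : ℕ) (hn : Nat.card P = p ^ (2 * n + 1)) (hH : IsCyclic H) (hcop : (Nat.card H).Coprime p) (hHP : H ≤ Subgroup.normalizer (P : Set G)) (hfix : ∀ x ∈ H, x ≠ 1 → P ⊓ Subgroup.centralizer {x} = (Subgroup.center ↥P).map P.subtype) : Nat.card H ∣ p ^ n + 1 ∨ Nat.card H ∣ p ^ n - 1 := by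
  open Pointwise commutatorElement Subgroup in
  open Cfsg.Agent.BG Cfsg.Agent.Comp in
  have hp : p.Prime := Fact.out
  obtain ⟨a, b, c⟩ := extraspecial_spec hP
  obtain ⟨x, hx, h1⟩ := Cfsg.Agent.Solv.isCyclic_iff_exists_le_zpowers.1 hH
  obtain rfl : H = zpowers x := le_antisymm h1 (zpowers_le_of_mem hx)
  rw [map_center_subtype] at hfix
  rw [Nat.card_zpowers] at hcop ⊢
  by_cases h0 : x = 1
  · simp [h0]
  obtain ⟨d, e, h2, h3, -⟩ := exists_dim_sub (F := ℂ) rfl (hHP hx)
    (Representation.ofMulAction ℂ (P ⊔ zpowers x : Subgroup G) (P ⊔ zpowers x : Subgroup G))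
    (Nat.cast_ne_zero.2 Nat.card_pos.ne') inf_le_left
    (by rw [centralizer_sup, centralizer_zpowers]
        exact le_inf inf_le_right ((hfix x hx h0).ge.trans inf_le_right)) b.le
    (fun e => extraspecial_der_ne_bot hp hP (eq_bot_iff.2 fun y hy => by
      have := congrArg (· (MonoidAlgebra.single 1 1))
        (MonoidHom.mem_ker.1 (e (x := ⟨y, mem_sup_left (der_le P hy)⟩) hy))
      simp only [Representation.ofMulAction_single, Module.End.one_apply] at this
      exact congrArg Subtype.val ((mul_one _).symm.trans (MonoidAlgebra.single_left_injective one_ne_zero this))))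
    (fun N _ => extraspecial_nondeg hp hP) (fun y hy h => (hfix y hy h).le) (c.symm ▸ hcop)
  have h4 := Cfsg.Agent.Solv.card_mul_relIndex (inf_le_left : P ⊓ centralizer (P : Set G) ≤ P)
  rw [c, ← h2, hn, pow_succ' p, mul_comm 2, pow_mul] at h4
  obtain rfl := Nat.pow_left_injective two_ne_zero (Nat.eq_of_mul_eq_mul_left hp.pos h4)
  exact h3.symm.imp (fun h => ⟨_, h⟩) fun h => ⟨e, by omega⟩

end Cfsg.Agent.S3767
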