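import Cfsg.Statements.S3768
import Cfsg.Agent.Lib.Solv.Schmidt
import Cfsg.Agent.Lib.Solv.Frob3

set_option autoImplicit false
open Cfsg

namespace Cfsg.Agent.S3768

/-- Let G be a finite Frobenius group with Frobenius complement R and Frobenius kernel K (the identity together with the elements in no conjugate of R), and let N be a normal subgroup of G not containing K. Then G/N is a Frobenius group with Frobenius complement RN/N whose Frobenius kernel is the image of K. -/
theorem result {G : Type*} [Group G] [Finite G] (R : Subgroup G) (hR : Cfsg.IsFrobeniusComplement R) (N : Subgroup G) [N.Normal] (hKN : ¬ Cfsg.frobeniusKernel R ⊆ N) : Cfsg.IsFrobeniusComplement (R.map (QuotientGroup.mk' N)) ∧ Cfsg.frobeniusKernel (R.map (QuotientGroup.mk' N)) = QuotientGroup.mk' N '' Cfsg.frobeniusKernel R := by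
  open Pointwise commutatorElement Subgroup Cfsg.Agent.Solv in
  obtain ⟨K, h1, h2, h3, h4, h5⟩ := exists_frobenius_kernel hR
  rw [← h1] at hKN ⊢
  have h6 := (le_or_le_of_fpf h3.sup_eq_top h5 N).resolve_right hKN
  have h7 : K.map (QuotientGroup.mk' N) ⊔ R.map (QuotientGroup.mk' N) = ⊤ := by
    rw [← Subgroup.map_sup, h3.sup_eq_top, map_top_mk]
  refine ⟨isFrobeniusComplement_of_fpf h7 (mt (map_mk_eq_bot_iff N).1 hKN) (fun h => hR.1 ?_) (fpf_map_mk h6 h5),
    frobeniusKernel_eq_of_normal h7 (fpf_map_mk h6 h5)⟩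
  rw [eq_bot_iff, ← IsComplement'.inf_eq_bot h3]
  exact le_inf (((map_mk_eq_bot_iff N).1 h).trans h6) le_rfl

end Cfsg.Agent.S3768
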