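import Cfsg.Statements.S3769
import Cfsg.Agent.Lib.BG.Sec3

set_option autoImplicit false
open Cfsg

namespace Cfsg.Agent.S3769

/-- Let G and V be subgroups of a finite group with G solvable of odd order normalizing V, V an elementary abelian ℓ-group for a prime ℓ not dividing the order of G, and suppose G has a normal Hall subgroup K with a complement R of prime order. If C_V(R) = 1, then [R, K] centralizes V. -/
theorem result {X : Type*} [Group X] [Finite X] (G : Subgroup X) (hsolv : Group.IsSolvable G) (hodd : Odd (Nat.card G)) (V : Subgroup X) {ℓ : ℕ} (hℓ : ℓ.Prime) (hV : Cfsg.IsElementaryAbelian ℓ V) (hℓG : ¬ ℓ ∣ Nat.card G) (hGV : G ≤ Subgroup.normalizer (V : Set X)) (K R : Subgroup X) (hKG : K ≤ G) (hKn : G ≤ Subgroup.normalizer (K : Set X)) (hHall : (Nat.card K).Coprime (K.relIndex G)) (hRG : R ≤ G) (hR : (Nat.card R).Prime) (hKR : K ⊓ R = ⊥) (hKRG : K ⊔ R = G) (hCV : V ⊓ Subgroup.centralizer (R : Set X) = ⊥) : ⁅R, K⁆ ≤ Subgroup.centralizer (V : Set X) := by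
  open Pointwise commutatorElement Subgroup in
  open Cfsg.Agent.BG Cfsg.Agent.Comp in
  haveI := Fact.mk hℓ
  have h1 : K.relIndex G = Nat.card R := by
    rw [← hKRG, sup_comm, relIndex_sup_of_le_normalizer (hRG.trans hKn), ← Subgroup.inf_relIndex_right, hKR,
      Subgroup.relIndex_bot_left]
  rw [Subgroup.commutator_comm]
  exact commutator_le_Ct_of_fpf (isSolvable_of_le hKG hsolv) (hRG.trans hKn) (hKG.trans hGV) (hRG.trans hGV) hR
    (h1 ▸ hHall).symm (coprime_of_isPGroup (elem_isP hV)
      ((coprime_iff_not_dvd.2 hℓG).of_dvd_left (card_dvd_of_le hKG))).symm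
    (odd_of_le hKG hodd) (odd_of_le hRG hodd) hCV

end Cfsg.Agent.S3769
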