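import Cfsg.Statements.S3770
import Cfsg.Agent.Lib.BG.Extra
import Cfsg.Agent.Lib.Solv.Frob3

set_option autoImplicit false
open Cfsg

namespace Cfsg.Agent.S3770

/-- Let G and V be subgroups of a finite group with G a Frobenius group with complement R of prime order and kernel K, G normalizing V, and V an elementary abelian ℓ-group for a prime ℓ not dividing the order of G. If C_V(R) has order ℓ, then the derived subgroup of K centralizes V. -/
theorem result {X : Type*} [Group X] [Finite X] (G : Subgroup X) (V : Subgroup X) {ℓ : ℕ} (hℓ : ℓ.Prime) (hV : Cfsg.IsElementaryAbelian ℓ V) (hℓG : ¬ ℓ ∣ Nat.card G) (hGV : G ≤ Subgroup.normalizer (V : Set X)) (R : Subgroup ↥G) (hR : Cfsg.IsFrobeniusComplement R) (hRp : (Nat.card R).Prime) (hCV : Nat.card ↥(V ⊓ Subgroup.centralizer ((R.map G.subtype : Subgroup X) : Set X)) = ℓ) : ⁅Subgroup.closure (Subtype.val '' Cfsg.frobeniusKernel R), Subgroup.closure (Subtype.val '' Cfsg.frobeniusKernel R)⁆ ≤ Subgroup.centralizer (V : Set X) := by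
  open Pointwise commutatorElement Subgroup Cfsg.Agent.Solv in
  open Cfsg.Agent.BG Cfsg.Agent.Comp in
  haveI := Fact.mk hℓ
  obtain ⟨K, a, b, -, -, c⟩ := exists_frobenius_kernel hR
  have h1 : closure (Subtype.val '' frobeniusKernel R) = K.map G.subtype := by
    rw [← a]; exact closure_eq (K.map G.subtype)
  have h2 : ∀ A : Subgroup G, (Nat.card (A.map G.subtype)).Coprime (Nat.card V) := fun A =>
    (coprime_of_isPGroup (elem_isP hV) ((coprime_iff_not_dvd.2 hℓG).of_dvd_left
      (card_dvd_of_le (map_subtype_le A)))).symm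
  rw [h1]
  refine der_le_Ct_of_isCyclic (isSolvable_of_isPGroup (elem_isP hV))
    (map_le_normalizer _ le_normalizer_of_normal) ((map_subtype_le K).trans hGV)
    ((map_subtype_le R).trans hGV) (by rwa [card_map_subtype]) ?_ (h2 K) (h2 R) (el_one_iff.2 hCV).isCyclic
  obtain ⟨x, d, e⟩ := exists_ne_one_of_ne_bot (ne_bot_of_prime hRp)
  rw [eq_bot_iff]
  rintro _ ⟨⟨y, f, rfl⟩, g⟩
  exact congrArg Subtype.val (eq_one_of_fpf (c x d e) f (Subtype.ext (g x ⟨x, d, rfl⟩)))

end Cfsg.Agent.S3770
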