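import Cfsg.Statements.S3772
import Cfsg.Agent.Lib.BG.ES2

set_option autoImplicit false
open Cfsg

namespace Cfsg.Agent.S3772

/-- Let G be a finite 2-group whose Frattini subgroup Φ(G) has order 2, with |G : Φ(G)| = 2^d, and let j be the number of elements x of G with x² = 1. Then j = 2^d, or j = 2^d + 2^(d−r) or j = 2^d − 2^(d−r) for some positive integer r with 2r ≤ d. Moreover if d = 2r and j is 2^d + 2^r or 2^d − 2^r, then G is extraspecial. -/
theorem result {G : Type*} [Group G] [Finite G] (hG : IsPGroup 2 G) (hΦ : Nat.card (frattini G) = 2) (d : ℕ) (hd : (frattini G).index = 2 ^ d) : (Nat.card {x : G // x ^ 2 = 1} = 2 ^ d ∨ ∃ r : ℕ, 1 ≤ r ∧ 2 * r ≤ d ∧ (Nat.card {x : G // x ^ 2 = 1} = 2 ^ d + 2 ^ (d - r) ∨ Nat.card {x : G // x ^ 2 = 1} + 2 ^ (d - r) = 2 ^ d)) ∧ (∀ r : ℕ, d = 2 * r → (Nat.card {x : G // x ^ 2 = 1} = 2 ^ d + 2 ^ r ∨ Nat.card {x : G // x ^ 2 = 1} + 2 ^ r = 2 ^ d) → Cfsg.IsExtraspecial 2 G) := by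
  open Pointwise commutatorElement Subgroup in
  open Cfsg.Agent.Comp Cfsg.Agent.BG Cfsg.Agent.ES2 Subgroup commutatorElement in
  haveI := Fact.mk Nat.prime_two
  obtain ⟨z, z1, z2⟩ := exists_mem_orderOf_eq hΦ.symm.dvd
  have z3 : zpowers z = frattini G := eq_of_le_of_card_ge (zpowers_le.2 z1) (by rw [hΦ, Nat.card_zpowers, z2])
  have z4 : frattini G ≤ Ct((⊤ : Subgroup G)) :=
    le_Ct_of_card_le (hG.to_subgroup ⊤) (hG.to_subgroup _) le_normalizer_of_normal hΦ.le
  have h : GS z (⊤ : Subgroup G) := ⟨z2, mem_top _, z4 z1, z3 ▸ Solv.commutator_le_frattini_of_isPGroup hG,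
    fun g _ => z3 ▸ Solv.pow_mem_frattini hG g⟩
  obtain ⟨r, r1, r0, r2⟩ := h.main _ rfl
  rw [top_inf_eq, Cls5.Ct_top] at r1 r2
  rw [Cls5.Ct_top] at z4
  have c : Nat.card G = 2 ^ (d + 1) := by rw [← card_mul_index (frattini G), hΦ, hd]; ring
  have t := sm_chi_top (G := G)
  obtain ⟨k, hk⟩ := IsPGroup.iff_card.1 (hG.to_subgroup (center G))
  have k1 : k ≠ 0 := by
    rintro rfl
    have := card_le_of_le z4
    omega
  rw [card_top, c, hk, ← pow_add] at r1
  have k2 := Nat.pow_right_injective (le_refl 2) r1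
  have r3 : sm (⊤ : Subgroup G) chi ≠ 0 → r ≠ 0 := fun e e' => by
    have a := (r0 e').resolve_left e
    have : frattini G = ⊥ := Solv.frattini_eq_bot_of_elementary (p := 2) ⟨⟨fun x y => by
      refine (h.comm (mem_top x) (mem_top y)).elim id fun b => ?_
      have : (center G).index = 1 := by
        have := card_mul_index (center G)
        rw [hk, c, show d + 1 = k by omega] at this
        exact Nat.eq_of_mul_eq_mul_left (by positivity) (this.trans (mul_one _).symm)
      exact mem_center_iff.1 (index_eq_one.1 this ▸ mem_top y) x⟩⟩ fun x => a x (mem_top x)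
    rw [this, card_bot] at hΦ
    omega
  have e1 : ((2 : ℤ) ^ r * (Nat.card (center G) : ℕ)) = 2 * 2 ^ (d - r) := by
    rw [hk]; push_cast; rw [← pow_add, ← pow_succ']; congr 1; omega
  rw [e1] at r2
  rw [c, pow_succ] at t
  push_cast at t
  have p1 : (0 : ℤ) < 2 ^ (d - r) := by positivity
  refine ⟨?_, fun s hs hj => ?_⟩
  · rcases r2 with ⟨a, -⟩ | a | a
    · left; zify; omega
    · exact Or.inr ⟨r, Nat.pos_of_ne_zero (r3 (by omega)), by omega, Or.inl (by zify; omega)⟩
    · exact Or.inr ⟨r, Nat.pos_of_ne_zero (r3 (by omega)), by omega, Or.inr (by zify; omega)⟩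
  · have p2 : (0 : ℤ) < 2 ^ s := by positivity
    have a : (2 : ℤ) ^ (d - r) = 2 ^ s ∧ sm (⊤ : Subgroup G) chi ≠ 0 := by
      zify at hj
      rcases r2 with ⟨a, -⟩ | a | a <;> omega
    have b : d - r = s := Nat.pow_right_injective (le_refl 2) (by exact_mod_cast a.1)
    have := r3 a.2
    obtain rfl : k = 1 := by omega
    have e2 : frattini G = center G := eq_of_le_of_card_ge z4 (by rw [hk, hΦ, pow_one])
    refine ⟨⟨hG, e2, eq_of_le_of_card_ge (e2 ▸ Solv.commutator_le_frattini_of_isPGroup hG) ?_⟩, hk⟩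
    rw [hk]
    refine le_card_of_ne_bot (hG.to_subgroup _) fun e => ?_
    have : center G = ⊤ := by
      rw [eq_top_iff, ← Cls5.Ct_top, ← commutator_eq_bot_iff_le_centralizer]; exact e
    rw [this, card_top, c] at hk
    have := Nat.pow_right_injective (le_refl 2) hk
    omega

end Cfsg.Agent.S3772
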