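import Cfsg.Statements.S3773
import Cfsg.Agent.Lib.BG.RkCnt

set_option autoImplicit false
open Cfsg

namespace Cfsg.Agent.S3773
section
open Pointwise commutatorElement Subgroup
open Cfsg.Agent.Comp Cfsg.Agent.BG Subgroup commutatorElement in
theorem c2 {P : Type*} [Group P] (hpw : ∀ x : P, x ^ 4 = 1) (hcm : ∀ x y : P, ∀ g, g * ⁅x, y⁆ = ⁅x, y⁆ * g) :
    ∀ x y : P, ⁅x, y⁆ ^ 2 = 1 := by
  intro x y
  set c := ⁅x, y⁆ with hc
  have hxy : x * y = c * (y * x) := by rw [hc, commutatorElement_def]; group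
  have cx : Commute c x := (hcm x y x).symm
  have cy : Commute c y := (hcm x y y).symm
  have h4 : c ^ 4 = 1 := hpw c
  have e : ∀ n : ℕ, x ^ n * y = c ^ n * (y * x ^ n) := by
    intro n
    induction n with
    | zero => simp
    | succ n ih =>
      calc x ^ (n + 1) * y = x ^ n * (x * y) := by rw [pow_succ, mul_assoc]
        _ = c * (x ^ n * y) * x := by rw [hxy, ← mul_assoc, ← (cx.pow_right n).eq]; simp only [mul_assoc]
        _ = _ := by rw [ih, pow_succ', pow_succ]; simp only [mul_assoc]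
  have e2 : (y * x) ^ 2 = c * (y ^ 2 * x ^ 2) := by
    calc (y * x) ^ 2 = y * (x * y) * x := by rw [sq]; simp only [mul_assoc]
      _ = (y * c) * (y * x) * x := by rw [hxy]; simp only [mul_assoc]
      _ = _ := by rw [← cy.eq, sq, sq]; simp only [mul_assoc]
  have e3 : x ^ 2 * y ^ 2 = y ^ 2 * x ^ 2 := by
    calc x ^ 2 * y ^ 2 = (x ^ 2 * y) * y := by rw [sq y, mul_assoc]
      _ = c ^ 2 * y * (x ^ 2 * y) := by rw [e 2, mul_assoc (c ^ 2), mul_assoc y, ← mul_assoc (c ^ 2), e 2]
      _ = c ^ 2 * (y * c ^ 2) * (y * x ^ 2) := by rw [e 2]; simp only [mul_assoc]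
      _ = c ^ 4 * (y ^ 2 * x ^ 2) := by
        rw [← (cy.pow_left 2).eq, show (4 : ℕ) = 2 + 2 from rfl, pow_add, sq y]; simp only [mul_assoc]
      _ = _ := by rw [h4, one_mul]
  have e4 := hpw (y * x)
  have cm : Commute c (y ^ 2 * x ^ 2) := (cy.pow_right 2).mul_right (cx.pow_right 2)
  have cm2 : Commute (y ^ 2) (x ^ 2) := e3.symm
  rw [show (4 : ℕ) = 2 * 2 from rfl, pow_mul, e2, cm.mul_pow, cm2.mul_pow, ← pow_mul, ← pow_mul,
    hpw x, hpw y] at e4
  simpa using e4
end

/-- Let G be a finite 2-group of nilpotency class at most 2 and exponent dividing 4 in which the elements x with x² = 1 form a subgroup N. Then |G| ≤ |N|³, and |G| < |N|³ unless G is special. -/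
theorem result {G : Type*} [Group G] [Finite G] (hG : IsPGroup 2 G) (hcl : (⊤ : Subgroup G).lowerCentralSeries 2 = ⊥) (hexp : ∀ x : G, x ^ 4 = 1) (hN : ∀ x y : G, x ^ 2 = 1 → y ^ 2 = 1 → (x * y) ^ 2 = 1) : Nat.card G ≤ Nat.card {x : G // x ^ 2 = 1} ^ 3 ∧ (¬ Cfsg.IsSpecial 2 G → Nat.card G < Nat.card {x : G // x ^ 2 = 1} ^ 3) := by
  open Pointwise commutatorElement Subgroup in
  open Cfsg.Agent.Comp Cfsg.Agent.BG Subgroup commutatorElement in
  haveI : Fact (Nat.Prime 2) := ⟨Nat.prime_two⟩
  haveI : Group.IsNilpotent G := hG.isNilpotent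
  have hcen : _root_.commutator G ≤ center G := by
    rw [← Subgroup.centralizer_univ, ← Subgroup.coe_top, ← Subgroup.commutator_eq_bot_iff_le_centralizer]
    exact hcl
  have hF : _root_.commutator G ≤ frattini G := Solv.commutator_le_frattini
  have hcm : ∀ x y : G, ∀ g, g * ⁅x, y⁆ = ⁅x, y⁆ * g := fun x y =>
    mem_center_iff.1 (hcen (commutator_mem_commutator (mem_top _) (mem_top _)))
  have hc2 := c2 hexp hcm
  have hsq : ∀ x : G, x ^ 2 ∈ center G := by
    intro x
    rw [mem_center_iff]
    intro g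
    have := MinNA.comm_pow_left (a := x) (b := g) (hcm x g x).symm 2
    rw [hc2, commutatorElement_eq_one_iff_mul_comm] at this
    exact this.symm
  have hc : frattini G ≤ center G := Solv.frattini_le_of_commutator_le_of_pow_mem (p := 2) hcen hsq
  let N : Subgroup G :=
    { carrier := {x | x ^ 2 = 1}
      one_mem' := one_pow _
      mul_mem' := fun {a b} ha hb => hN a b ha hb
      inv_mem' := fun {a} ha => by
        show a⁻¹ ^ 2 = 1
        rw [inv_pow, show a ^ 2 = 1 from ha, inv_one] }
  have hNc : Nat.card {x : G // x ^ 2 = 1} = Nat.card N := rfl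
  have hFN : frattini G ≤ N := by
    refine Solv.frattini_le_of_commutator_le_of_pow_mem (p := 2) ?_ (fun x => by
      show (x ^ 2) ^ 2 = 1
      rw [← pow_mul]; exact hexp x)
    rw [_root_.commutator_def, Subgroup.commutator_le]
    intro x _ y _
    exact hc2 x y
  have hel : IsElementaryAbelian 2 (frattini G) := ⟨⟨⟨fun a b => Subtype.ext (mem_center_iff.1 (hc b.2) a)⟩⟩, fun a ha => hFN ha⟩
  obtain ⟨l, hl⟩ := exists_el_of_elem hel
  have hs : ∀ x : G, x ^ 2 ∈ frattini G := Solv.pow_mem_frattini hG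
  have h1 := RkCnt.aniso (B := N) (C := ⊤) hG hc hF hs hl hFN (fun x _ => Iff.rfl)
  rw [relIndex_top_right] at h1
  obtain ⟨i, hi⟩ := hG.index N
  have hi2 : i ≤ 2 * l := by
    rw [hi] at h1
    have := (Nat.pow_lt_pow_iff_right (by norm_num : 1 < 2)).1 h1
    omega
  have h2 : 2 ^ l ≤ Nat.card N := hl.card ▸ Subgroup.card_le_of_le hFN
  have h3 := N.card_mul_index
  have hp : 0 < Nat.card N := Nat.card_pos
  have h4 : N.index ≤ (2 ^ l) ^ 2 := by
    rw [hi, ← pow_mul, mul_comm]; exact Nat.pow_le_pow_right (by norm_num) hi2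
  have h5 : (2 ^ l) ^ 2 ≤ Nat.card N ^ 2 := Nat.pow_le_pow_left h2 2
  rw [hNc, ← h3, pow_succ']
  refine ⟨Nat.mul_le_mul_left _ (h4.trans h5), fun hns => Nat.mul_lt_mul_of_pos_left ?_ hp⟩
  by_contra hge
  push_neg at hge
  have e1 : frattini G = N := by
    refine Subgroup.eq_of_le_of_card_ge hFN ?_
    rw [hl.card]
    exact (Nat.pow_le_pow_iff_left (by norm_num)).1 (hge.trans h4)
  have hbig : ∀ j, l = j + 1 → ¬ N.index < 2 * 2 ^ (2 * j + 1) := by
    rintro j rfl h
    have := h5.trans hge
    rw [← pow_mul] at this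
    rw [← pow_succ'] at h
    have := (Nat.pow_lt_pow_iff_right (by norm_num : 1 < 2)).1 (this.trans_lt h)
    omega
  have sq : ∀ x y : G, (x * y) ^ 2 = x ^ 2 * (⁅x⁻¹, y⁆ * y ^ 2) := by
    intro x y
    rw [commutatorElement_def, sq, sq, sq]; group
  apply hns
  have e2 : center G ≤ frattini G := ?_
  · refine ⟨hG, le_antisymm hc e2, le_antisymm hcen ?_⟩
    · refine e2.trans ?_
      by_contra hn
      obtain ⟨M, m1, m2, m3, -⟩ := exists_relIndex_eq_prime hl.isP (lt_of_le_of_ne hF fun e => hn e.ge)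
      obtain ⟨j, hj⟩ := exists_el_of_elem (p := 2) (A := M) ⟨Solv.isMulCommutative_of_le m2 hel.1, fun a ha => hel.2 a (m2 ha)⟩
      have hjl : l = j + 1 := by
        have := Comp.relIndex_mul_card m2
        rw [m3, hj.card, hl.card, ← pow_succ'] at this
        exact (Nat.pow_right_injective le_rfl this).symm
      have hcM : ∀ x y : G, ⁅x, y⁆ ∈ M := fun x y => m1 (commutator_mem_commutator (mem_top _) (mem_top _))
      let H : Subgroup G :=
        { carrier := {x | x ^ 2 ∈ M}
          one_mem' := by simp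
          mul_mem' := fun {a b} ha hb => by
            show (a * b) ^ 2 ∈ M
            rw [sq]; exact M.mul_mem ha (M.mul_mem (hcM _ _) hb)
          inv_mem' := fun {a} ha => by
            show a⁻¹ ^ 2 ∈ M
            rw [inv_pow]; exact M.inv_mem ha }
      have hNH : N ≤ H := fun x hx => by
        show x ^ 2 ∈ M
        rw [show x ^ 2 = 1 from hx]; exact one_mem _
      have i1 : H.index ≤ 2 := by
        have := RkCnt.idx_le (X := Prop) H (fun g => g ^ 2 ∈ M) (by
          intro g h e
          show (g⁻¹ * h) ^ 2 ∈ M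
          have := mul_mem_iff_of_index_two (H := M.subgroupOf (frattini G)) m3 (a := ⟨_, hs g⁻¹⟩)
            (b := ⟨_, mul_mem (m2 (hcM g⁻¹⁻¹ h)) (hs h)⟩)
          simp only [mem_subgroupOf, coe_mul] at this
          rw [sq, this, inv_pow, inv_mem_iff, M.mul_mem_cancel_left (hcM _ _)]
          exact Iff.of_eq e)
        simpa using this
      have i2 := RkCnt.aniso (G := H) (F := M.subgroupOf H) (B := N.subgroupOf H) (C := ⊤) (hG.to_subgroup H)
        (fun x hx => mem_center_iff.2 fun g => Subtype.ext (mem_center_iff.1 (hc (m2 hx)) g))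
        (by rw [_root_.commutator_def, Subgroup.commutator_le]; intro x _ y _; exact hcM x y)
        (fun x => x.2) (hj.subgroupOf ((m2.trans hFN).trans hNH)) (fun x hx => hFN (m2 hx))
        (fun x _ => ⟨fun h => congrArg Subtype.val h, fun h => Subtype.ext h⟩)
      rw [relIndex_top_right] at i2
      apply hbig j hjl
      rw [← relIndex_mul_index hNH, mul_comm 2]
      exact Nat.mul_lt_mul_of_lt_of_le i2 i1 (by norm_num)
  all_goals
    intro z hz
    by_contra hn
    rw [e1] at hn
    have hz2 : z ^ 2 ≠ 1 := hn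
    have hK := el_one_zpowers' (p := 2) hz2 (hFN (hs z))
    have hKF : zpowers (z ^ 2) ≤ frattini G := zpowers_le.2 (hs z)
    haveI : (zpowers (z ^ 2)).Normal := ⟨fun a ha g => by
      rw [mem_center_iff.1 (hc (hKF ha)) g, mul_inv_cancel_right]; exact ha⟩
    obtain ⟨G', _, _, f, hsurj, hker⟩ : ∃ (G' : Type _) (_ : Group G') (_ : Finite G') (f : G →* G'),
        Function.Surjective f ∧ f.ker = zpowers (z ^ 2) :=
      ⟨G ⧸ zpowers (z ^ 2), inferInstance, inferInstance, QuotientGroup.mk' _, QuotientGroup.mk'_surjective _,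
        QuotientGroup.ker_mk' _⟩
    obtain ⟨j, hj⟩ := exists_el_of_elem (p := 2) (A := (frattini G).map f)
      ⟨by haveI := hel.1; infer_instance, by rintro _ ⟨a, ha, rfl⟩; rw [← map_pow, hel.2 a ha, map_one]⟩
    have hjl : l = j + 1 := by
      have := Comp.relIndex_mul_card hKF
      rw [hK.card, ← hker, Subgroup.relIndex_ker, hj.card, hl.card, ← pow_add] at this
      exact (Nat.pow_right_injective le_rfl this).symm
    haveI hNn : N.Normal := Subgroup.Normal.of_commutator_le G (hF.trans hFN)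
    have i2 := RkCnt.aniso (F := (frattini G).map f) (B := (N ⊔ zpowers z).map f) (C := ⊤) (hG.of_surjective f hsurj)
      (by
        rintro _ ⟨a, ha, rfl⟩
        rw [mem_center_iff]
        intro g
        obtain ⟨g, rfl⟩ := hsurj g
        rw [← map_mul, ← map_mul, mem_center_iff.1 (hc ha) g])
      (by
        rw [_root_.commutator_def, ← Subgroup.map_top_of_surjective f hsurj, ← Subgroup.map_commutator]
        exact Subgroup.map_mono hF)
      (fun x => by obtain ⟨x, rfl⟩ := hsurj x; rw [← map_pow]; exact mem_map_of_mem f (hs x)) hj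
      (Subgroup.map_mono (hFN.trans le_sup_left)) (by
        intro x _
        obtain ⟨x, rfl⟩ := hsurj x
        rw [← map_pow, ← MonoidHom.mem_ker, hker]
        constructor
        · rintro ⟨k, hk⟩
          have cm : Commute x (z ^ k)⁻¹ := mem_center_iff.1 (inv_mem (zpow_mem hz k)) x
          have : x * (z ^ k)⁻¹ ∈ N := by
            show (x * (z ^ k)⁻¹) ^ 2 = 1
            rw [cm.mul_pow, ← hk]
            show (z ^ 2) ^ k * (z ^ k)⁻¹ ^ 2 = 1
            group
          refine mem_map_of_mem f ?_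
          have e : x = x * (z ^ k)⁻¹ * z ^ k := by group
          rw [e]
          exact mul_mem (mem_sup_left this) (mem_sup_right (zpow_mem (mem_zpowers z) k))
        · rintro ⟨y, hy, e⟩
          have h6 : y⁻¹ * x ∈ N := hFN (hKF (by rw [← hker, MonoidHom.mem_ker, map_mul, map_inv, e, inv_mul_cancel]))
          have h7 : x ∈ N ⊔ zpowers z := by
            have := mul_mem hy (mem_sup_left h6 : y⁻¹ * x ∈ N ⊔ zpowers z)
            simpa using this
          rw [← SetLike.mem_coe, Subgroup.normal_mul] at h7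
          obtain ⟨u, hu, _, ⟨k, rfl⟩, rfl⟩ := h7
          have cm : Commute u (z ^ k) := mem_center_iff.1 (zpow_mem hz k) u
          show (u * z ^ k) ^ 2 ∈ _
          rw [cm.mul_pow, show u ^ 2 = 1 from hu, one_mul, show (z ^ k) ^ 2 = (z ^ 2) ^ k by group]
          exact zpow_mem (mem_zpowers _) k)
    rw [relIndex_top_right, Subgroup.index_map_eq _ hsurj (hker.le.trans (hKF.trans (hFN.trans le_sup_left)))] at i2
    apply hbig j hjl
    rw [← relIndex_mul_index (le_sup_left : N ≤ N ⊔ zpowers z),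
      Solv.relIndex_sup_zpowers_of_prime Nat.prime_two (le_normalizer_of_normal (mem_top z)) hn (hFN (hs z))]
    omega

end Cfsg.Agent.S3773
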