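import Cfsg.Statements.S3774
import Cfsg.Agent.Lib.BG.MinNA
import Cfsg.Agent.Lib.Transfer.Count

set_option autoImplicit false
open Cfsg

namespace Cfsg.Agent.S3774
section
open Pointwise commutatorElement Subgroup
open MulAction in
theorem dvd_cnt {A X : Type*} [Group A] [MulAction A X] [Finite X] (p : X → Prop) (h : ∀ (a : A) x, p x → p (a • x)) {n : ℕ}
    (h1 : ∀ x, p x → n ∣ (stabilizer A x).index) : n ∣ Nat.card {x // p x} := by
  classical
  haveI := Fintype.ofFinite (orbitRel.Quotient A X)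
  rw [Transfer.cnt_eq_sum_fiber p (fun x => (Quotient.mk'' x : orbitRel.Quotient A X))]
  refine Finset.dvd_sum fun b _ => ?_
  by_cases e : ∃ x, p x ∧ (Quotient.mk'' x : orbitRel.Quotient A X) = b
  · obtain ⟨x, x1, rfl⟩ := e
    rw [Transfer.cnt_congr (q := fun y => y ∈ orbit A x) fun y => ⟨fun t => Quotient.exact' t.2,
      fun t => ⟨by obtain ⟨a, rfl⟩ := t; exact h a x x1, Quotient.sound' t⟩⟩]
    exact (h1 x x1).trans (index_stabilizer A x).dvd
  · rw [Transfer.cnt_eq_zero fun x t => e ⟨x, t⟩]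
    exact dvd_zero _
end

/-- Let G be a nontrivial finite 2-group whose automorphism group permutes the involutions of G transitively. Then every involution of G is central, so that the involutions together with 1 form the subgroup Ω₁(Z(G)), and if this subgroup has order q then |G| is a power of q. -/
theorem result {G : Type*} [Group G] [Finite G] [Nontrivial G] (hG : IsPGroup 2 G) (htrans : ∀ x y : G, x ≠ 1 → x ^ 2 = 1 → y ≠ 1 → y ^ 2 = 1 → ∃ a : MulAut G, a x = y) : (∀ x : G, x ^ 2 = 1 → x ∈ Subgroup.center G) ∧ ∃ m : ℕ, Nat.card G = Nat.card {z : G // z ^ 2 = 1} ^ m := by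
  open Pointwise commutatorElement Subgroup in
  open Cfsg.Agent.Comp Cfsg.Agent.BG Subgroup MulAction in
  haveI := Fact.mk Nat.prime_two
  haveI := hG.center_nontrivial
  obtain ⟨z, z1, z2⟩ := exists_mem_orderOf_eq (dvd_card_of_isPGroup (hG.to_subgroup (center G)) ((nontrivial_iff_ne_bot _).1 this))
  have z3 : z ≠ 1 := fun e => by simp [e] at z2
  have z4 : z ^ 2 = 1 := z2 ▸ pow_orderOf_eq_one z
  have c : ∀ x : G, x ^ 2 = 1 → x ∈ center G := fun x hx => by
    by_cases e : x = 1
    · exact e ▸ one_mem _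
    obtain ⟨a, rfl⟩ := htrans z x z3 z4 e hx
    refine mem_center_iff.2 fun g => ?_
    obtain ⟨g, rfl⟩ := a.surjective g
    rw [← map_mul, mem_center_iff.1 z1 g, map_mul]
  refine ⟨c, ?_⟩
  let N : Subgroup G := ⟨⟨⟨{x | x ^ 2 = 1}, fun {a b} ha hb => by
    rw [Set.mem_setOf, Commute.mul_pow (mem_center_iff.1 (c b hb) a), ha, hb, one_mul]⟩, one_pow 2⟩,
    fun {a} ha => by rw [Set.mem_setOf, inv_pow, ha, inv_one]⟩
  obtain ⟨n, hn⟩ := IsPGroup.iff_card.1 (hG.to_subgroup N)
  obtain ⟨m, hm⟩ := IsPGroup.iff_card.1 hG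
  have e1 : Nat.card {x : G // x ^ 2 = 1} = 2 ^ n := hn
  have e2 := Transfer.cnt_erase (p := fun x : G => x ^ 2 = 1) (one_pow 2)
  have e3 := Transfer.cnt_erase (p := fun _ : G => True) (a := 1) trivial
  rw [Transfer.cnt_true, hm] at e3
  rw [e1] at e2
  have d := dvd_cnt (A := MulAut G) (fun x : G => True ∧ x ≠ 1) (fun a x hx => ⟨trivial, by simpa using hx.2⟩)
    (n := Nat.card {x : G // x ^ 2 = 1 ∧ x ≠ 1}) fun x hx => by
      obtain ⟨t, t1, t2⟩ := exists_mem_orderOf_eq (dvd_card_of_isPGroup (hG.to_subgroup (zpowers x)) (zpowers_ne_bot.2 hx.2))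
      have t3 : t ≠ 1 := fun e => by simp [e] at t2
      have t4 : t ^ 2 = 1 := t2 ▸ pow_orderOf_eq_one t
      refine dvd_trans ?_ (index_dvd_of_le (H := stabilizer (MulAut G) x) (K := stabilizer (MulAut G) t) fun a ha => ?_)
      · rw [index_stabilizer, ← Nat.card_coe_set_eq]
        refine (Transfer.cnt_congr fun y => ⟨fun h => ?_, ?_⟩).dvd
        · exact htrans t y t3 t4 h.2 h.1
        · rintro ⟨a, rfl⟩
          exact ⟨by simp [← map_pow, t4], by simpa using t3⟩
      · obtain ⟨k, rfl⟩ := mem_zpowers_iff.1 t1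
        have : a x = x := ha
        show a (x ^ k) = x ^ k
        rw [map_zpow, this]
  rw [Nat.eq_sub_of_add_eq e2, Nat.eq_sub_of_add_eq e3] at d
  obtain ⟨k, rfl⟩ : n ∣ m := by
    have a := Nat.gcd_eq_left d
    rw [Nat.pow_sub_one_gcd_pow_sub_one] at a
    have b := Nat.one_le_two_pow (n := n)
    have c := Nat.one_le_two_pow (n := n.gcd m)
    exact Nat.gcd_eq_left_iff_dvd.1 (Nat.pow_right_injective (le_refl 2) (by simp only; omega))
  exact ⟨k, by rw [hm, e1, pow_mul]⟩

end Cfsg.Agent.S3774
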