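import Cfsg.Statements.S3778
import Cfsg.Agent.Lib.BG.MinNA
import Cfsg.Agent.Lib.Transfer.Count

set_option autoImplicit false
open Cfsg

namespace Cfsg.Agent.S3778

/-- If G is a finite p-group in which every conjugacy class has at most p^b elements (every element has centralizer of index at most p^b), then G is abelian when b = 0, and when b ≥ 1 its nilpotency class c satisfies (c − 1)(p − 1) < bp, that is c < bp/(p − 1) + 1, and hence c ≤ 2b. -/
theorem result {G : Type*} [Group G] [Finite G] {p : ℕ} [Fact p.Prime] (hG : IsPGroup p G) (b : ℕ) (hb : ∀ x : G, (Subgroup.centralizer ({x} : Set G)).index ≤ p ^ b) : ∃ c : ℕ, (⊤ : Subgroup G).lowerCentralSeries c = ⊥ ∧ (b ≠ 0 → (c - 1) * (p - 1) < b * p ∧ c ≤ 2 * b) ∧ (b = 0 → c ≤ 1) := by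
  open Pointwise commutatorElement Subgroup in
  open Cfsg.Agent.Comp Cfsg.Agent.BG Subgroup commutatorElement in
  classical
  have hp : p.Prime := Fact.out
  by_cases h0 : b = 0
  · refine ⟨1, commutator_eq_bot_iff_le_centralizer.2 fun x _ y _ => ?_, fun e => absurd h0 e, fun _ => le_rfl⟩
    have := hb x
    rw [h0, pow_zero] at this
    have a : C1(x) = ⊤ := index_eq_one.1 (le_antisymm this (Nat.pos_of_ne_zero index_ne_zero_of_finite))
    exact mem_centralizer_singleton_iff.1 (a ▸ mem_top y)
  haveI := hG.isNilpotent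
  set L := (⊤ : Subgroup G).lowerCentralSeries
  let C : ℕ → Subgroup G := fun i => (centralizer ((L i).map (QuotientGroup.mk' (L (i + 2))) : Set (G ⧸ L (i + 2)))).comap
    (QuotientGroup.mk' (L (i + 2)))
  have c1 : ∀ i x, x ∈ C i ↔ ∀ g ∈ L i, ⁅g, x⁆ ∈ L (i + 2) := fun i x => by
    simp only [C, mem_comap, mem_centralizer_iff, coe_map, Set.forall_mem_image, SetLike.mem_coe]
    refine forall₂_congr fun g _ => ?_
    rw [← commutatorElement_eq_one_iff_mul_comm, ← map_commutatorElement, QuotientGroup.mk'_apply, QuotientGroup.eq_one_iff]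
  have c2 : ∀ x k, p ^ Nat.card {i : Fin k // x ∉ C i} * Nat.card (C1(x) ⊔ L k : Subgroup G) ≤ Nat.card G := fun x k => by
    induction k with
    | zero => simpa using card_le_card_group _
    | succ k ih =>
      have a : C1(x) ⊔ L (k + 1) ≤ C1(x) ⊔ L k := sup_le_sup_left (Subgroup.lowerCentralSeries_antitone _ k.le_succ) _
      rw [Transfer.cnt_eq_sum, Fin.sum_univ_castSucc] at *
      refine le_trans ?_ ih
      rw [pow_add, mul_assoc]
      refine Nat.mul_le_mul_left _ ?_
      split_ifs with e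
      · rw [pow_zero, one_mul]; exact card_le_of_le a
      rw [pow_one]
      refine mul_card_le_of_lt (hG.to_subgroup _) (lt_of_le_of_ne a fun t => e ((c1 k x).2 fun g hg => ?_))
      obtain ⟨c, hc, n, hn, rfl⟩ := mem_sup_of_normal_right.1 (t.ge (mem_sup_right hg))
      have : ⁅c * n, x⁆ = c * ⁅n, x⁆ * c⁻¹ * ⁅c, x⁆ := by simp only [commutatorElement_def]; group
      rw [this, commutatorElement_eq_one_iff_mul_comm.2 (mem_centralizer_singleton_iff.1 hc), mul_one]
      exact Normal.conj_mem inferInstance _ (commutator_mem_commutator hn (mem_top x)) c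
  have c3 : ∀ x k, Nat.card {i : Fin k // x ∉ C i} ≤ b := fun x k => by
    refine (Nat.pow_le_pow_iff_right hp.one_lt).1 (le_trans (Nat.le_of_mul_le_mul_right ?_ (Nat.card_pos (α := C1(x)))) (hb x))
    rw [index_mul_card]
    exact (Nat.mul_le_mul_left _ (card_le_of_le le_sup_left)).trans (c2 x k)
  set c := Group.nilpotencyClass G
  have c4 : ∀ i : Fin (c - 1), (p - 1) * Nat.card G ≤ p * Nat.card {x : G // x ∉ C i} := fun i => by
    have a : C i ≠ ⊤ := fun e => by
      have a1 : L (i + 1) ≠ ⊥ := fun t => by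
        have := Subgroup.lowerCentralSeries_eq_bot_iff_nilpotencyClass_le.1 t
        omega
      exact (commutator_lt_of_isPGroup (hG.to_subgroup ⊤) (hG.to_subgroup _) le_normalizer_of_normal a1).not_ge
        (commutator_le.2 fun g hg x _ => (c1 i x).1 (e ▸ mem_top x) g hg)
    have a2 := mul_card_le_of_lt (hG.to_subgroup ⊤) (lt_top_iff_ne_top.2 a)
    have a3 := Transfer.cnt_split (fun _ : G => True) (· ∈ C i)
    simp only [true_and, Transfer.cnt_true] at a3
    rw [card_top] at a2
    change _ = Nat.card (C i) + _ at a3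
    rw [Nat.sub_mul, one_mul]
    nth_rewrite 1 [a3]
    rw [mul_add]; omega
  haveI := Fintype.ofFinite G
  have c5 := Transfer.cnt_double fun (x : G) (i : Fin (c - 1)) => x ∉ C i
  have c6 := Transfer.sum_cnt_le_mul (p := fun x : G => True ∧ x ≠ 1) (f := fun x => Nat.card {i : Fin (c - 1) // x ∉ C i})
    (fun x _ => c3 x _) fun x hx => Transfer.cnt_eq_zero fun i t => t ((by simpa using hx : x = 1) ▸ one_mem _)
  have c7 := Transfer.cnt_erase (p := fun _ : G => True) (a := 1) trivial
  have c8 := Finset.sum_le_sum fun i (_ : i ∈ Finset.univ) => c4 i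
  rw [Finset.sum_const, ← Finset.mul_sum, ← c5, Finset.card_univ, Fintype.card_fin, smul_eq_mul] at c8
  rw [Transfer.cnt_true] at c7
  have c9 : (c - 1) * (p - 1) < b * p := by
    refine lt_of_mul_lt_mul_right (a := Nat.card G) ?_ (Nat.zero_le _)
    have := Nat.mul_le_mul_left p c6
    have := Nat.mul_pos hp.pos (Nat.pos_of_ne_zero h0)
    rw [mul_assoc, ← c7] at *
    nlinarith
  refine ⟨c, Subgroup.lowerCentralSeries_nilpotencyClass, fun _ => ⟨c9, ?_⟩, fun e => absurd e h0⟩
  obtain ⟨q, rfl⟩ := Nat.exists_eq_add_of_le hp.two_le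
  rw [show 2 + q - 1 = q + 1 by omega] at c9
  by_contra e
  have : 2 * b ≤ c - 1 := by omega
  nlinarith

end Cfsg.Agent.S3778
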