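import Cfsg.Statements.S3780
import Cfsg.Agent.Lib.BG.MinNA
import Cfsg.Agent.S0014

set_option autoImplicit false
open Cfsg

namespace Cfsg.Agent.S3780
section
open Pointwise commutatorElement Subgroup
theorem card_ker_pow {A : Type*} [AddCommGroup A] [Finite A] (f : AddMonoid.End A) (k : ℕ) :
    Nat.card (AddMonoidHom.ker (f ^ k : AddMonoid.End A)) ≤ Nat.card (AddMonoidHom.ker f) ^ k := by
  induction k with
  | zero =>
    rw [pow_zero (Nat.card _), ← AddSubgroup.card_bot (G := A)]
    exact AddSubgroup.card_le_of_le fun x hx => hx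
  | succ k ih =>
    set K := AddMonoidHom.ker (f ^ (k + 1) : AddMonoid.End A)
    let g : K →+ A := AddMonoidHom.comp (f ^ k : AddMonoid.End A) K.subtype
    rw [← AddSubgroup.card_mul_index g.ker, AddSubgroup.index_ker, pow_succ]
    refine Nat.mul_le_mul (le_trans ?_ ih) (AddSubgroup.card_le_of_le ?_)
    · exact Nat.card_le_card_of_injective (fun x => ⟨x.1.1, x.2⟩) fun x y h =>
        Subtype.ext (Subtype.ext (Subtype.mk.inj h))
    · rintro _ ⟨x, rfl⟩
      have : (f ^ (k + 1)) x.1 = 0 := x.2
      rw [pow_succ'] at this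
      exact this
end

/-- Let V be a finite abelian p-group and α an automorphism of V of order p whose fixed-point subgroup has order p^n. Then V can be generated by pn elements: some subset of V with at most pn elements generates V. -/
theorem result {V : Type*} [CommGroup V] [Finite V] {p : ℕ} [Fact p.Prime] (hV : IsPGroup p V) (α : MulAut V) (hα : orderOf α = p) (n : ℕ) (hfix : Nat.card {v : V // α v = v} = p ^ n) : ∃ S : Finset V, S.card ≤ p * n ∧ Subgroup.closure (S : Set V) = ⊤ := by
  open Pointwise commutatorElement Subgroup in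
  open Cfsg.Agent.Comp Cfsg.Agent.BG Subgroup commutatorElement in
  classical
  have hp : p.Prime := Fact.out
  obtain ⟨d, hd⟩ := hV.index (frattini V)
  haveI := Fintype.ofFinite V
  obtain ⟨T, -, t1, t2⟩ := (S0014.result p d hV hd).1 Finset.univ (by simp)
  refine ⟨T, t1 ▸ ?_, t2⟩
  have e1 : (powMonoidHom p : V →* V).range ≤ frattini V := by
    rintro _ ⟨x, rfl⟩
    exact Solv.pow_mem_frattini hV x
  have e2 := index_antitone e1
  rw [hd, index_range] at e2
  let a : AddMonoid.End (Additive V) := MonoidHom.toAdditive α.toMonoidHom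
  have a1 : ∀ (k : ℕ) (v : V), (a ^ k) (Additive.ofMul v) = Additive.ofMul ((α ^ k) v) := fun k => by
    induction k with
    | zero => intro v; rfl
    | succ k ih => intro v; rw [pow_succ, pow_succ]; exact ih (α v)
  obtain ⟨r, hr⟩ := (Commute.one_right (a - 1)).exists_add_pow_prime_eq hp
  have a2 : Nat.card (powMonoidHom p : V →* V).ker ≤ Nat.card (AddMonoidHom.ker ((a - 1) ^ p : AddMonoid.End (Additive V))) := by
    refine Nat.card_le_card_of_injective (fun x => ⟨Additive.ofMul x.1, ?_⟩) fun x y h =>
      Subtype.ext (Subtype.mk.inj h)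
    have b := DFunLike.congr_fun hr (Additive.ofMul x.1)
    have c : p • Additive.ofMul x.1 = 0 := congrArg Additive.ofMul x.2
    rw [sub_add_cancel, a1, show α ^ p = 1 from hα ▸ pow_orderOf_eq_one α, one_pow, mul_assoc, mul_assoc, (Nat.cast_commute p _).eq] at b
    change Additive.ofMul x.1 = ((a - 1) ^ p) (Additive.ofMul x.1) + Additive.ofMul x.1 +
      ((a - 1) * (1 * r)) (p • Additive.ofMul x.1) at b
    rw [c, map_zero, add_zero] at b
    exact right_eq_add.1 b
  have a3 : Nat.card (AddMonoidHom.ker (a - 1 : AddMonoid.End (Additive V))) = p ^ n := by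
    rw [← hfix]
    exact Nat.card_congr (Equiv.subtypeEquiv Additive.toMul fun x => sub_eq_zero)
  have := e2.trans (a2.trans (card_ker_pow _ p))
  rw [a3, ← pow_mul, Nat.pow_le_pow_iff_right hp.one_lt] at this
  exact this.trans (mul_comm n p).le

end Cfsg.Agent.S3780
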