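import Cfsg.Statements.S3782
import Cfsg.Agent.Lib.Fusion.Kr4

set_option autoImplicit false
open Cfsg

namespace Cfsg.Agent.S3782

open Cfsg.Agent.Kr

/-- Alperin's Theorem: for each prime p and each n ≥ 0 there is an integer l such that every finite solvable group admitting an automorphism of order p with exactly p^n fixed points has derived length at most l. -/
theorem result (p : ℕ) (hp : p.Prime) (n : ℕ) : ∃ l : ℕ, ∀ (G : Type) [Group G] [Finite G], Group.IsSolvable G → ∀ α : MulAut G, orderOf α = p → Nat.card {g : G // α g = g} = p ^ n → derivedSeries G l = ⊥ := by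
  haveI : Fact p.Prime := ⟨hp⟩
  set c := ∑ i ∈ Finset.range (2 ^ (p - 1) - 1), (p - 1) ^ i with hc
  have hc0 : 0 < c := by
    have h1 := hp.two_le
    have h2 : 1 < 2 ^ (p - 1) := Nat.one_lt_two_pow (by omega)
    exact Finset.sum_pos (fun i _ => pow_pos (by omega) i) (Finset.nonempty_range_iff.2 (by omega))
  refine ⟨((((p ^ n) ^ (p * 1)).factorial + 1) + (n * (p * (n + (c + 1))) + (c + 1))) + c, ?_⟩
  intro G _ _ hG α hα hfix
  have hf : Nat.card (Fx (α : G →* G)) = p ^ n := hfix
  have h : Ok p (p ^ n) (α : G →* G) := by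
    refine ⟨fun x => ?_, hf.le⟩
    have : ∀ n, (α ^ n) x = (α : G →* G)^[n] x := fun n => by
      induction n with
      | zero => rfl
      | succ n ih => rw [pow_succ', Function.iterate_succ_apply', ← ih]; rfl
    rw [← this, ← hα, pow_orderOf_eq_one]; rfl
  obtain ⟨β, h1, -, h2⟩ := h.sub (Cfsg.pPrimeCore p G) (h.char _)
  obtain ⟨γ, h3, -⟩ := h.quot (Cfsg.pPrimeCore p G) (h.char _)
  refine ds_ext (QuotientGroup.mk' (Cfsg.pPrimeCore p G)) (QuotientGroup.ker_mk' _).le
    (h3.core Cfsg.Agent.Solv.pPrimeCore_quotient_pPrimeCore nil_kk hc0) (eq_bot_iff.2 ((ds_le _ _).trans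
      (Ok.fpf (α := β) ⟨h1.1, le_of_eq ?_⟩ nil_kk).le))
  exact Nat.eq_one_of_dvd_coprimes ((Cfsg.Agent.Solv.coprime_card_pPrimeCore p).pow_right n)
    (Subgroup.card_subgroup_dvd_card _) (hf ▸ h2)

end Cfsg.Agent.S3782
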