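import Cfsg.Statements.S3783
import Cfsg.Agent.Lib.BG.PLen

set_option autoImplicit false
open Cfsg

namespace Cfsg.Agent.S3783

/-- Let G be a finite p-soluble group in which, for every prime q ≠ p, the Sylow q-subgroups are abelian. If the Sylow p-subgroups of G have exponent dividing p^n, then G has p-length at most n. -/
theorem result {G : Type*} [Group G] [Finite G] {p : ℕ} [Fact p.Prime] (hG : Cfsg.IsPSolvable p G) (hab : ∀ (q : ℕ) [Fact q.Prime], q ≠ p → ∀ Q : Sylow q G, IsMulCommutative (Q : Subgroup G)) (n : ℕ) (hexp : ∀ (P : Sylow p G), ∀ x ∈ (P : Subgroup G), x ^ p ^ n = 1) : Cfsg.PLengthLE p n G := by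
  open Pointwise commutatorElement Subgroup in
  refine PL.pl_of_exp _ (Comp.pSol_top_of_isPSolvable hG) (fun n₀ q m a b c d => ?_) (PL.exp_of_sylow hexp)
  haveI := Fact.mk b
  refine ⟨default, hab q ?_ _⟩
  rintro rfl
  have h1 : q ∣ q ^ n₀ - q ^ m := Nat.dvd_sub (dvd_pow_self _ (by omega)) (dvd_pow_self _ (by omega))
  rw [← d, Nat.sub_sub_self (pow_pos b.pos _)] at h1
  exact b.one_lt.ne' (Nat.dvd_one.1 h1)

end Cfsg.Agent.S3783
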