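import Cfsg.Statements.S3784
import Mathlib.NumberTheory.Fermat

set_option autoImplicit false
open Cfsg

namespace Cfsg.Agent.S3784
section
open Pointwise commutatorElement Subgroup
theorem odd_geom (x : ℤ) (hx : Odd x) (n : ℕ) : Odd (∑ i ∈ Finset.range (2 * n + 1), x ^ i) := by
  induction n with
  | zero => simp
  | succ n ih =>
    rw [show 2 * (n + 1) + 1 = 2 * n + 1 + 1 + 1 by ring, Finset.sum_range_succ, Finset.sum_range_succ, add_assoc]
    exact ih.add_even (hx.pow.add_odd hx.pow)
theorem eq_one_of_odd {m k : ℕ} (hm : Odd m) (h : m ∣ 2 ^ k) : m = 1 := by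
  obtain ⟨j, -, rfl⟩ := (Nat.dvd_prime_pow Nat.prime_two).1 h
  rcases j with _ | j
  · rfl
  · exact absurd hm (by rw [Nat.not_odd_iff_even, pow_succ]; exact (even_two).mul_left _)
theorem key (x : ℤ) (hx : Odd x) (n : ℕ) (hn : Odd n) (k : ℕ) (h : (x ^ n - 1).natAbs = 2 ^ k) :
    (x ^ n - 1).natAbs = (x - 1).natAbs := by
  obtain ⟨m, rfl⟩ := hn
  have h1 := geom_sum_mul x (2 * m + 1)
  have h2 := congrArg Int.natAbs h1
  rw [Int.natAbs_mul] at h2
  have h3 : (∑ i ∈ Finset.range (2 * m + 1), x ^ i).natAbs = 1 :=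
    eq_one_of_odd (Int.natAbs_odd.2 (odd_geom x hx m)) ⟨_, by rw [← h, ← h2]⟩
  rw [← h2, h3, one_mul]
end

/-- Let p, q be primes and a, b positive integers with p^a = q^b + 1. Then either p = 2, b = 1, a is prime and q = 2^a − 1; or q = 2, a = 1, b is a power of 2 and p = 2^b + 1; or p^a = 9 and q^b = 8. -/
theorem result (p q a b : ℕ) (hp : p.Prime) (hq : q.Prime) (ha : 1 ≤ a) (hb : 1 ≤ b) (h : p ^ a = q ^ b + 1) : (p = 2 ∧ b = 1 ∧ a.Prime ∧ q + 1 = 2 ^ a) ∨ (q = 2 ∧ a = 1 ∧ (∃ m : ℕ, b = 2 ^ m) ∧ p = 2 ^ b + 1) ∨ (p ^ a = 9 ∧ q ^ b = 8) := by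
  open Pointwise commutatorElement Subgroup in
  rcases hp.eq_two_or_odd' with rfl | hpo
  · left
    have hqo : Odd q := by
      rcases hq.eq_two_or_odd' with rfl | h'
      · exfalso
        obtain ⟨a, rfl⟩ := Nat.exists_eq_add_of_le' ha
        obtain ⟨b, rfl⟩ := Nat.exists_eq_add_of_le' hb
        rw [pow_succ, pow_succ] at h; omega
      · exact h'
    have hq3 : 3 ≤ q := by
      have := hq.two_le
      rcases hqo with ⟨k, rfl⟩; omega
    have hqb : q ≤ q ^ b := Nat.le_self_pow (by omega) q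
    have hbo : Odd b := by
      rw [← Nat.not_even_iff_odd]
      rintro ⟨c, rfl⟩
      obtain ⟨k, hk⟩ := hqo.pow (n := c)
      rw [pow_add, hk] at h hqb
      rcases a with _ | _ | a
      · omega
      · norm_num at h; omega
      · rw [pow_succ, pow_succ] at h
        have : (2 * k + 1) * (2 * k + 1) + 1 = 4 * (k * k + k) + 2 := by ring
        omega
    have hb1 : b = 1 := by
      have e1 : ((-(q : ℤ)) ^ b - 1).natAbs = q ^ b + 1 := by
        rw [hbo.neg_pow, ← neg_add', Int.natAbs_neg]; norm_cast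
      have h1 := key (-q) (by simpa using hqo) b hbo a (by rw [e1, h])
      rw [e1, ← neg_add', Int.natAbs_neg] at h1
      have h2 : q ^ b = q ^ 1 := by rw [pow_one]; omega
      exact Nat.pow_right_injective hq.two_le h2
    subst hb1
    rw [pow_one] at h
    refine ⟨rfl, rfl, ?_, h.symm⟩
    have : q = 2 ^ a - 1 := by omega
    rw [this] at hq
    refine (Nat.prime_of_pow_sub_one_prime ?_ hq).2
    rintro rfl
    omega
  · right
    have hq2 : q = 2 := by
      rcases hq.eq_two_or_odd' with h' | h'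
      · exact h'
      · exfalso
        obtain ⟨k, hk⟩ := hpo.pow (n := a)
        obtain ⟨l, hl⟩ := h'.pow (n := b)
        omega
    subst hq2
    rcases Nat.even_or_odd a with ⟨c, rfl⟩ | hao
    · right
      obtain ⟨k, hk⟩ := hpo.pow (n := c)
      rw [pow_add, hk] at h ⊢
      have e : 2 ^ b = 4 * (k * (k + 1)) := by nlinarith
      have hk0 : k ≠ 0 := by rintro rfl; simp at e
      rcases Nat.even_or_odd k with hk' | hk'
      · exfalso
        have := eq_one_of_odd (m := k + 1) hk'.add_one (k := b) ⟨4 * k, by rw [e]; ring⟩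
        omega
      · have := eq_one_of_odd hk' (k := b) ⟨4 * (k + 1), by rw [e]; ring⟩
        subst this
        omega
    · left
      have e1 : ((p : ℤ) ^ a - 1).natAbs = 2 ^ b := by
        have : (p : ℤ) ^ a = 2 ^ b + 1 := by exact_mod_cast h
        rw [this, add_sub_cancel_right]; norm_cast
      have h1 := key p (by simpa using hpo) a hao b e1
      have h2 : p ^ a = p ^ 1 := by
        have := hp.two_le
        rw [e1] at h1
        rw [pow_one]; omega
      have ha1 : a = 1 := Nat.pow_right_injective hp.two_le h2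
      subst ha1
      rw [pow_one] at h
      refine ⟨rfl, rfl, ?_, h⟩
      rw [h] at hp
      exact Nat.pow_of_pow_add_prime one_lt_two (by omega) hp

end Cfsg.Agent.S3784
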