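import Cfsg.Statements.S3785
import Cfsg.Agent.Lib.BG.PLen2

set_option autoImplicit false
open Cfsg

namespace Cfsg.Agent.S3785

/-- Let G be a finite solvable group whose Fitting subgroup F(G) has odd order. If an element g of G commutes with every element of prime order of F(G), then g ∈ F(G). -/
theorem result {G : Type*} [Group G] [Finite G] (hG : Group.IsSolvable G) (hodd : Odd (Nat.card (Cfsg.fittingSubgroup G))) (g : G) (hg : ∀ x ∈ Cfsg.fittingSubgroup G, (orderOf x).Prime → g * x = x * g) : g ∈ Cfsg.fittingSubgroup G := by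
  open Pointwise commutatorElement Subgroup in
  open Subgroup Cfsg.Agent.Solv in
  let C := centralizer {x : G | x ∈ fittingSubgroup G ∧ (orderOf x).Prime}
  haveI hC : C.Normal := ⟨fun c hc a x hx => by
    have := hc (a⁻¹ * x * a) ⟨Normal.conj_mem' inferInstance _ hx.1 a, by
      rw [show a⁻¹ * x * a = MulAut.conj a⁻¹ x by simp, MulEquiv.orderOf_eq]; exact hx.2⟩
    calc x * (a * c * a⁻¹) = a * (a⁻¹ * x * a * c) * a⁻¹ := by group
      _ = _ := by rw [this]; group⟩
  have h1 : ∀ p : ℕ, p.Prime → ∀ y ∈ C, (orderOf y).Coprime p → y ∈ centralizer (pCore p G : Set G) := by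
    intro p hp y hy hc
    haveI := Fact.mk hp
    rcases eq_or_ne p 2 with rfl | h2
    · rw [eq_bot_of_isPGroup_of_not_dvd (isPGroup_pCore 2 G) fun h =>
        hodd.not_two_dvd_nat (h.trans (card_dvd_of_le pCore_le_fitting))]
      exact fun x hx => by rw [mem_bot.1 hx, one_mul, mul_one]
    refine BG.le_Ct_of_le_Ct_omegaOne h2 (isPGroup_pCore p G) (A := zpowers y) le_normalizer_of_normal
      (by rwa [Nat.card_zpowers]) (zpowers_le.2 ?_) (mem_zpowers y)
    rw [omegaOne, centralizer_closure]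
    intro x hx
    rcases eq_or_ne x 1 with rfl | h3
    · rw [one_mul, mul_one]
    · exact hy x ⟨pCore_le_fitting hx.1, (orderOf_eq_prime hx.2 h3).symm ▸ hp⟩
  have h2 : ∀ q : ℕ, q.Prime → ∀ y ∈ C, ∀ k, y ^ q ^ k = 1 → y ∈ fittingSubgroup G := by
    intro q hq y hy k hk
    haveI := Fact.mk hq
    let D := C ⊓ ⨅ p : {p : ℕ // p.Prime ∧ p ≠ q}, centralizer (pCore p G : Set G)
    haveI : D.Normal := normal_inf_normal _ _ (hK := normal_iInf_normal fun _ => inferInstance)
    have h3 : ∀ x ∈ D, ∃ j, x ^ q ^ j ∈ centralizer (D : Set G) := fun x hx => by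
      obtain ⟨j, hj⟩ := exists_pow_coprime_orderOf hq x
      have h4 : x ^ q ^ j ∈ fittingSubgroup G := centralizer_fitting_le (le_centralizer_iff.1
        (fitting_le_of_forall_pCore fun p hp => le_centralizer_iff.1 (zpowers_le.2 (by
          rcases eq_or_ne p q with rfl | e
          · exact h1 p hp _ (pow_mem hx.1 _) hj
          · exact pow_mem (mem_iInf.1 hx.2 ⟨p, hp, e⟩) _))) (mem_zpowers _))
      have h5 : fittingSubgroup G ≤ pCore q G ⊔ centralizer (D : Set G) := fitting_le_of_forall_pCore fun p hp => by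
        rcases eq_or_ne p q with rfl | e
        · exact le_sup_left
        · exact fun x hx => mem_sup_right fun y hy => (mem_iInf.1 hy.2 ⟨p, hp, e⟩ x hx).symm
      obtain ⟨a, ha, b, hb, e⟩ := mem_sup_of_normal_right.1 (h5 h4)
      obtain ⟨i, hi⟩ := isPGroup_pCore q G ⟨a, ha⟩
      have hi' : a ^ q ^ i = 1 := congrArg Subtype.val hi
      refine ⟨j + i, (QuotientGroup.eq_one_iff _).1 ?_⟩
      rw [pow_add, pow_mul, ← e, QuotientGroup.mk_pow, QuotientGroup.mk_mul, (QuotientGroup.eq_one_iff b).2 hb, mul_one,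
        ← QuotientGroup.mk_pow, hi', QuotientGroup.mk_one]
    have h4 : IsPGroup q (D ⧸ center D) := fun x => by
      obtain ⟨x, rfl⟩ := QuotientGroup.mk_surjective x
      obtain ⟨j, hj⟩ := h3 x x.2
      exact ⟨j, (QuotientGroup.eq_one_iff _).2 (mem_center_iff.2 fun y => Subtype.ext (hj y y.2))⟩
    refine le_fitting (Group.of_quotient_center_nilpotent h4.isNilpotent) (⟨hy, mem_iInf.2 fun p => h1 p p.2.1 y hy ?_⟩ : y ∈ D)
    exact (((Nat.coprime_primes hq p.2.1).2 p.2.2.symm).pow_left k).of_dvd_left (orderOf_dvd_of_pow_eq_one hk)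
  have h3 := Comp.eq_of_forall_sylIn (inf_le_left : C ⊓ fittingSubgroup G ≤ C) fun q hq _ => by
    haveI := Fact.mk hq
    obtain ⟨P, hP⟩ := Comp.exists_sylIn q C
    refine ⟨P, hP, le_inf hP.le fun y hy => ?_⟩
    obtain ⟨k, hk⟩ := hP.isP ⟨y, hy⟩
    exact h2 q hq y (hP.le hy) k (congrArg Subtype.val hk)
  exact (h3.ge fun x hx => (hg x hx.1 hx.2).symm).2

end Cfsg.Agent.S3785
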