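import Cfsg.Statements.S3788
import Cfsg.Agent.Lib.BG.MinNA
import Cfsg.Agent.Lib.Fusion.MP3

set_option autoImplicit false
open Cfsg

namespace Cfsg.Agent.S3788
section
open Pointwise commutatorElement Subgroup
open Cfsg.Agent.Comp Cfsg.Agent.BG Subgroup commutatorElement in
theorem stab {G : Type*} [Group G] [Finite G] {p : ℕ} [Fact p.Prime] {V : Subgroup G} [V.Normal] (hV : IsPGroup p V)
    (hC : Ct(V) ≤ V) (hab : V ≤ Ct(V)) {x y u w : G} (hu : u ∈ V) (hw : w ∈ V) (h1 : ∀ v ∈ V, ⁅x, v⁆ ∈ zpowers u)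
    (h2 : ∀ v ∈ V, ⁅y, v⁆ ∈ zpowers w) (h3 : Commute x u) (h4 : Commute x w) (h5 : Commute y w) :
    IsPGroup p (zpowers x ⊔ zpowers y : Subgroup G) := by
  have hW : zpowers u ⊔ zpowers w ≤ V := sup_le (zpowers_le.2 hu) (zpowers_le.2 hw)
  have c1 : ∀ {a b : G}, Commute a b → zpowers a ≤ Ct(zpowers b) := by
    intro a b h
    rw [zpowers_le]
    rintro _ ⟨k, rfl⟩
    exact (h.zpow_right k).symm
  have nx : ∀ {a c : G} {X : Subgroup G}, X ≤ V → (∀ v ∈ V, ⁅a, v⁆ ∈ zpowers c) → c ∈ X → a ∈ Nm(X) := by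
    intro a c X hX h hc
    refine Comp.mem_normalizer_of_conj_mem fun k hk => ?_
    have := mul_mem (zpowers_le.2 hc (h k (hX hk))) hk
    simpa [commutatorElement_def] using this
  have a1 : ⁅zpowers x ⊔ zpowers y, V⁆ ≤ zpowers u ⊔ zpowers w := by
    have nx1 := nx hW h1 (mem_sup_left (mem_zpowers u))
    have ny1 := nx hW h2 (mem_sup_right (mem_zpowers w))
    exact commutator_sup_left_le (zpowers_le.2 nx1) (zpowers_le.2 ny1)
      (commutator_zpowers_left_le nx1 fun c hc => mem_sup_left (h1 c hc))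
      (commutator_zpowers_left_le ny1 fun c hc => mem_sup_right (h2 c hc))
  have a3 : zpowers x ⊔ zpowers y ≤ Ct(zpowers w) := sup_le (c1 h4) (c1 h5)
  have a2 : ⁅zpowers x ⊔ zpowers y, zpowers u ⊔ zpowers w⁆ ≤ zpowers w := by
    refine commutator_sup_left_le ((c1 h4).trans (centralizer_le_normalizer _))
      ((c1 h5).trans (centralizer_le_normalizer _)) ?_
      (commutator_zpowers_left_le (centralizer_le_normalizer _ (c1 h5 (mem_zpowers y))) fun c hc => h2 c (hW hc))
    have : zpowers x ≤ Ct((zpowers u ⊔ zpowers w : Subgroup G)) := by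
      rw [Subgroup.le_centralizer_iff, sup_le_iff]
      exact ⟨c1 h3.symm, c1 h4.symm⟩
    rw [Subgroup.commutator_eq_bot_iff_le_centralizer.2 this]; exact bot_le
  rw [← Res_eq_bot_iff, Res_eq_closure, closure_eq_bot_iff]
  rintro t ⟨ht, ho⟩
  have hT : zpowers t ≤ zpowers x ⊔ zpowers y := zpowers_le.2 ht
  have hc : (Nat.card (zpowers t)).Coprime (Nat.card V) := by
    rw [Nat.card_zpowers]; exact Solv.coprime_card_of_isPGroup' hV ho
  have e := commutator_commutator_eq (K := V) (A := zpowers t) le_normalizer_of_normal hc (Or.inl inferInstance)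
  have b1 : ⁅V, zpowers t⁆ ≤ zpowers u ⊔ zpowers w := by
    rw [Subgroup.commutator_comm]; exact (commutator_mono hT le_rfl).trans a1
  have b2 : ⁅V, zpowers t⁆ ≤ zpowers w := by
    rw [← e, Subgroup.commutator_comm]; exact (commutator_mono hT b1).trans a2
  have b3 : ⁅V, zpowers t⁆ = ⊥ := by
    rw [← e, Subgroup.commutator_comm, eq_bot_iff]
    exact (commutator_mono hT b2).trans (Subgroup.commutator_eq_bot_iff_le_centralizer.2 a3).le
  have := Solv.inf_eq_bot_of_coprime' hc
  rw [inf_eq_left.2 ((Comp.commutator_eq_bot_iff'.1 b3).trans hC), zpowers_eq_bot] at this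
  exact this

open Cfsg.Agent.Comp Cfsg.Agent.BG Subgroup commutatorElement in
theorem core {G : Type*} [Group G] [Finite G] {p : ℕ} [hp : Fact p.Prime] (hs : PSol p (⊤ : Subgroup G))
    (hC : Ct(pCore p G) ≤ pCore p G) (he : IsElementaryAbelian p (pCore p G)) {a : G} (ha : IsPGroup p (zpowers a))
    (hn : pCore p G ≤ Nm(zpowers a)) (h : p ≠ 2 ∨ ¬ Involves (Equiv.Perm (Fin 4)) G) : a ∈ pCore p G := by
  set V := pCore p G with hV
  have hVp : IsPGroup p V := Solv.isPGroup_pCore p G
  have hab : V ≤ Ct(V) := by haveI := he.1; exact le_centralizer V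
  by_contra hna
  have hZ : ∀ v ∈ V, ⁅a, v⁆ ∈ V ⊓ zpowers a := by
    intro v hv
    constructor
    · exact V.mul_mem ((inferInstance : V.Normal).conj_mem v hv a) (V.inv_mem hv)
    · have := mul_mem (mem_zpowers a) (Comp.conj_mem_of_mem_normalizer (hn hv) (inv_mem (mem_zpowers a)))
      rw [show ⁅a, v⁆ = a * (v * a⁻¹ * v⁻¹) by rw [commutatorElement_def]; group]
      exact this
  obtain ⟨m, hm⟩ := exists_el_of_elem (p := p) (A := V ⊓ zpowers a)
    ⟨Solv.isMulCommutative_of_le inf_le_left he.1, fun x hx => he.2 x hx.1⟩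
  obtain ⟨v₀, hv₀, hu⟩ : ∃ v ∈ V, ⁅a, v⁆ ≠ 1 := by
    by_contra hh
    push_neg at hh
    exact hna (hC fun v hv => (commutatorElement_eq_one_iff_mul_comm.1 (hh v hv)).symm)
  have hm1 : m = 1 := by
    rcases m with _ | _ | m
    · exact absurd (mem_bot.1 (Subgroup.card_eq_one.1 hm.card ▸ hZ v₀ hv₀)) hu
    · rfl
    · exact absurd (BG.isCyclic_of_le inf_le_right inferInstance) (hm.not_isCyclic (by omega))
  subst hm1
  set u := ⁅a, v₀⁆ with hu'
  have huZ := hZ v₀ hv₀
  rw [← hu'] at huZ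
  have eZ := hm.eq_zpowers huZ hu
  have au : Commute a u := le_centralizer (zpowers a) huZ.2 a (mem_zpowers a)
  by_cases h2 : p = 2
  · subst h2
    refine (h.resolve_left (by simp)) (Fusion.Involves.trans Qd.s4_qd ?_)
    obtain ⟨g, hg⟩ : ∃ g, ¬ IsPGroup 2 (zpowers a ⊔ cj(g, zpowers a) : Subgroup G) := by
      by_contra hh
      push_neg at hh
      exact hna (Solv.le_pCore (Transfer.baer_suzuki hh) (le_normalClosure (mem_zpowers a)))
    rw [Comp.cj_zpowers] at hg
    have hw : g * u * g⁻¹ ∈ V := (inferInstance : V.Normal).conj_mem _ huZ.1 g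
    have h1 : ∀ v ∈ V, ⁅a, v⁆ ∈ zpowers u := fun v hv => eZ ▸ hZ v hv
    have h3 : ∀ v ∈ V, ⁅g * a * g⁻¹, v⁆ ∈ zpowers (g * u * g⁻¹) := by
      intro v hv
      rw [← Comp.cj_zpowers, Comp.mem_cj]
      have := h1 _ ((inferInstance : V.Normal).conj_mem' _ hv g)
      convert this using 1
      simp only [commutatorElement_def]; group
    have bw : Commute (g * a * g⁻¹) (g * u * g⁻¹) := by
      show _ = _
      calc _ = g * (a * u) * g⁻¹ := by group
        _ = _ := by rw [au.eq]; group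
    have n1 : ¬ Commute a (g * u * g⁻¹) := fun e => hg (stab hVp hC hab huZ.1 hw h1 h3 au e bw)
    have n2 : ¬ Commute (g * a * g⁻¹) u := fun e => hg (by
      rw [sup_comm]; exact stab hVp hC hab hw huZ.1 h3 h1 bw e au)
    have two : ∀ {x y : G}, x ^ 2 = 1 → y ∈ zpowers x → y ≠ 1 → y = x := by
      rintro x _ hx ⟨k, rfl⟩ h
      rcases Int.even_or_odd' k with ⟨j, rfl | rfl⟩
      · exact absurd (by show x ^ (2 * j) = 1; rw [zpow_mul, zpow_ofNat, hx, one_zpow]) h
      · show x ^ (2 * j + 1) = x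
        rw [zpow_add, zpow_mul, zpow_ofNat, hx, one_zpow, one_mul, zpow_one]
    have u2 := he.2 u huZ.1
    have w2 := he.2 _ hw
    have uw : Commute u (g * u * g⁻¹) := hab hw u huZ.1
    have e1 := two u2 (h1 _ hw) (fun e => n1 (commutatorElement_eq_one_iff_mul_comm.1 e))
    have e2 := two w2 (h3 _ huZ.1) (fun e => n2 (commutatorElement_eq_one_iff_mul_comm.1 e))
    refine Qd.involves_of_pair (u := u) (w := g * u * g⁻¹) (a := a) (b := g * a * g⁻¹) u2 w2 uw ?_
      (by rw [au.eq]; group) (by rw [← mul_inv_eq_iff_eq_mul]; exact e1)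
      (by rw [uw.eq, ← mul_inv_eq_iff_eq_mul]; exact e2) (by rw [bw.eq]; group)
    intro i j hij
    rw [pow_eq_pow_mod i u2, pow_eq_pow_mod j w2] at hij
    rcases Nat.mod_two_eq_zero_or_one i with hi | hi <;> rcases Nat.mod_two_eq_zero_or_one j with hj | hj <;>
      rw [hi, hj] at hij
    · omega
    · rw [pow_zero, pow_one, one_mul] at hij
      exact absurd (hij ▸ Commute.one_right a) n1
    · rw [pow_zero, pow_one, mul_one] at hij
      exact absurd hij hu
    · rw [pow_one, pow_one, mul_eq_one_iff_inv_eq] at hij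
      exact absurd (hij ▸ au.inv_right) n1
  have cZ : ∀ c ∈ V ⊓ zpowers a, Commute c a := fun c hc => (le_centralizer (zpowers a) hc.2 a (mem_zpowers a)).symm
  have hb : a ^ p ∈ V := by
    refine hC fun v hv => ?_
    have := MinNA.comm_pow_left (cZ _ (hZ v hv)) p
    rw [he.2 _ (hZ v hv).1, commutatorElement_eq_one_iff_mul_comm] at this
    exact this.symm
  have hb1 : a ^ p ≠ 1 := by
    intro e
    have := el_one_zpowers' (x := a) (fun e => hna (e ▸ one_mem _)) e
    exact hna ((hm.eq_of_le this inf_le_right).ge (mem_zpowers a)).1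
  have eb := hm.eq_zpowers (x := a ^ p) ⟨hb, pow_mem (mem_zpowers a) p⟩ hb1
  obtain ⟨G', _, _, f, hsurj, hker, hO⟩ : ∃ (G' : Type _) (_ : Group G') (_ : Finite G') (f : G →* G'),
      Function.Surjective f ∧ f.ker = V ∧ pCore p G' = ⊥ :=
    ⟨G ⧸ V, inferInstance, inferInstance, QuotientGroup.mk' _, QuotientGroup.mk'_surjective _,
      QuotientGroup.ker_mk' _, Solv.pCore_quotient_pCore⟩
  set N := (pPrimeCore p G').comap f with hN
  have hVN : V ≤ N := fun x hx => by
    rw [hN, mem_comap, show f x = 1 from hker.ge hx]; exact one_mem _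
  have hidx : V.relIndex N = Nat.card (pPrimeCore p G') := by
    rw [← hker, Subgroup.relIndex_ker, hN, map_comap_eq_self_of_surjective hsurj]
  obtain ⟨K, hK1, hK2, hK3, hK4⟩ := exists_complement_of_coprime hVN le_normalizer_of_normal
    (by rw [hidx]; exact Solv.coprime_card_of_isPGroup hVp Solv.not_dvd_card_pPrimeCore)
  have hcop : (Nat.card K).Coprime (Nat.card V) := by
    rw [hK4, hidx]; exact (Solv.coprime_card_of_isPGroup hVp Solv.not_dvd_card_pPrimeCore).symm
  obtain ⟨v, hv, e⟩ := Solv.sz_conj_internal (A := cj(a, K)) (B := K) (K := V) le_normalizer_of_normal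
    (by rwa [Comp.card_cj]) (Or.inr (by haveI := hVp.isNilpotent; infer_instance)) hK2 (by
      have := congrArg (fun X => cj(a, X)) hK3
      simp only [Comp.cj_sup, Comp.cj_eq_self_of_normal] at this
      rw [this, hK3])
  have hnK : v * a ∈ Nm(K) := by
    rw [← Comp.cj_eq_self_iff, Comp.cj_mul]; exact e
  have hc0 : ⁅a⁻¹, v⁻¹⁆ ∈ V ⊓ zpowers a := by
    constructor
    · rw [show ⁅a⁻¹, v⁻¹⁆ = a⁻¹ * v⁻¹ * a * v by rw [commutatorElement_def]; group]
      exact V.mul_mem ((inferInstance : V.Normal).conj_mem' _ (V.inv_mem hv) a) hv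
    · rw [show ⁅a⁻¹, v⁻¹⁆ = a⁻¹ * (v⁻¹ * a * v) by rw [commutatorElement_def]; group]
      exact (zpowers a).mul_mem ((zpowers a).inv_mem (mem_zpowers a))
        (Comp.conj_mem_of_mem_normalizer' (hn hv) (mem_zpowers a))
  have hpw := mul_pow_of_class2 h2 (x := v) (y := a) (hab hv _ hc0.1) (cZ _ hc0) (he.2 _ hc0.1)
  rw [he.2 v hv, one_mul] at hpw
  have hbK : a ^ p ∈ Ct(K) := Solv.mem_centralizer_of_mem_normalizer le_normalizer_of_normal hK2 hb
    (hpw ▸ pow_mem hnK p)
  have hZK : K ≤ Ct((V ⊓ zpowers a : Subgroup G)) := by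
    rw [eb, Subgroup.le_centralizer_iff, zpowers_le]; exact hbK
  have hnZ : v * a ∈ actKer (V ⊓ zpowers a) V := by
    refine mul_mem ⟨centralizer_le_normalizer _ (centralizer_le (show V ⊓ zpowers a ≤ V from inf_le_left) (hab hv)),
      fun c hc => ?_⟩ ⟨centralizer_le_normalizer _ (fun c hc => (cZ c hc).eq), hZ⟩
    rw [commutatorElement_eq_one_iff_mul_comm.2 (hab hc v hv)]; exact one_mem _
  have hnC : v * a ∈ Ct(K) := by
    intro k hk
    have y1 : ⁅k, v * a⁆ ∈ K := by
      have := mul_mem hk (Comp.conj_mem_of_mem_normalizer hnK (inv_mem hk))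
      rw [commutatorElement_def]; simpa only [mul_assoc] using this
    have y2 : ⁅k, v * a⁆ ∈ actKer (V ⊓ zpowers a) V := by
      rw [commutatorElement_def]
      refine mul_mem ⟨mul_mem (mul_mem (centralizer_le_normalizer _ (hZK hk)) hnZ.1)
        (inv_mem (centralizer_le_normalizer _ (hZK hk))), fun c hc => ?_⟩ (inv_mem hnZ)
      have := Comp.conj_mem_of_mem_normalizer (centralizer_le_normalizer _ (hZK hk))
        (hnZ.2 _ ((inferInstance : V.Normal).conj_mem' _ hc k))
      convert this using 1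
      simp only [commutatorElement_def]; group
    have y3 := Solv.coprime_le_centralizer_of_commutator_le (A := zpowers ⁅k, v * a⁆) (K := V) (N := V ⊓ zpowers a)
      ((hcop.of_dvd_left (Subgroup.card_dvd_of_le (zpowers_le.2 y1))).of_dvd_right
        (Subgroup.card_dvd_of_le inf_le_left))
      (by rw [Subgroup.commutator_comm]; exact (le_actKer_iff.1 (zpowers_le.2 y2)).2) ((zpowers_le.2 y1).trans hZK)
    have : ⁅k, v * a⁆ ∈ V ⊓ K := ⟨hC (y3 (mem_zpowers _)), y1⟩
    rw [hK2, mem_bot, commutatorElement_eq_one_iff_mul_comm] at this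
    exact this
  have fa : f a ∈ pPrimeCore p G' := by
    apply Char.psol_centralizer_le (Transfer.psol_surj hsurj hs) hO
    intro y hy
    obtain ⟨y, rfl⟩ := hsurj y
    have hy2 : y ∈ V ⊔ K := hK3 ▸ hy
    rw [← SetLike.mem_coe, Subgroup.normal_mul] at hy2
    obtain ⟨c, hc, k, hk, rfl⟩ := hy2
    have := congrArg f (hnC k hk)
    simp only [map_mul, show f v = 1 from hker.ge hv, show f c = 1 from hker.ge hc, one_mul] at this ⊢
    exact this
  have := Solv.inf_eq_bot_of_coprime' (Solv.coprime_card_of_isPGroup (ha.map f)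
    (Solv.not_dvd_card_pPrimeCore (p := p) (G := G')))
  rw [MonoidHom.map_zpowers, inf_eq_left.2 (zpowers_le.2 fa), zpowers_eq_bot] at this
  exact hna (hker.le this)

universe u in
open Cfsg.Agent.Comp Cfsg.Agent.BG Subgroup commutatorElement in
theorem main {p : ℕ} [hp : Fact p.Prime] (G : Type u) [Group G] [Finite G] : PSol p (⊤ : Subgroup G) →
    (p ≠ 2 ∨ ¬ Involves (Equiv.Perm (Fin 4)) G) → ∀ (P : Subgroup G) (a : G), SylIn p P ⊤ → a ∈ P → P ≤ Nm(zpowers a) →
    a ∈ PL.U p G 2 := by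
  induction G, ‹Group G›, ‹Finite G› using Solv.card_induction' with | h G ih => ?_
  intro hs h P a hP ha hn
  have step : ∀ (N : Subgroup G) [N.Normal], N ≠ ⊥ → a ∈ (PL.U p (G ⧸ N) 2).comap (QuotientGroup.mk' N) := by
    intro N _ hN
    have hsurj := QuotientGroup.mk'_surjective N
    refine ih (G ⧸ N) (Solv.card_quotient_lt hN) (Transfer.psol_surj hsurj hs)
      (h.imp id fun h1 h2 => h1 (Fusion.Involves.of_surjective h2 _ hsurj)) (P.map (QuotientGroup.mk' N)) _
      (Subgroup.map_top_of_surjective _ hsurj ▸ hP.map _) (mem_map_of_mem _ ha) ?_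
    rw [← MonoidHom.map_zpowers]
    exact map_le_normalizer_map _ hn
  by_cases h1 : pPrimeCore p G = ⊥
  swap
  · exact PL.comap_le_odd (a := 0) _ (by rw [QuotientGroup.ker_mk']; exact PL.U_one.ge) 1 (step _ h1)
  have hVp : IsPGroup p (pCore p G) := Solv.isPGroup_pCore p G
  by_cases h2 : (frattini (pCore p G)).map (pCore p G).subtype = ⊥
  swap
  · exact PL.comap_two_le_of_frattini (hVp.to_le (map_subtype_le _)) (Solv.map_frattini_le_frattini _) (step _ h2)
  rw [PL.U_two, PL.pPrimePCore_eq h1]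
  refine core hs (Transfer.psol_charP hs h1) ⟨?_, fun x hx => ?_⟩ (hP.isP.to_le (zpowers_le.2 ha))
    ((hP.le_of_normalizer' hVp le_top le_normalizer_of_normal).trans hn) h
  · rw [← Subgroup.le_centralizer_iff_isMulCommutative, ← Subgroup.commutator_eq_bot_iff_le_centralizer, eq_bot_iff, ← h2]
    exact Solv.commutator_le_map_frattini hVp.isNilpotent
  · rw [← mem_bot, ← h2]
    exact Solv.pow_mem_map_frattini hVp hx
end

/-- Let G be a finite p-soluble group, P a Sylow p-subgroup of G and A a cyclic normal subgroup of P. If p is odd, or if no section of G is isomorphic to the symmetric group of degree 4, then A ≤ O_{p',p}(G). -/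
theorem result {G : Type*} [Group G] [Finite G] {p : ℕ} [Fact p.Prime] (hG : Cfsg.IsPSolvable p G) (P : Sylow p G) (A : Subgroup G) (hAP : A ≤ (P : Subgroup G)) (hAn : (P : Subgroup G) ≤ Subgroup.normalizer (A : Set G)) (hA : IsCyclic A) (h : p ≠ 2 ∨ ¬ Cfsg.Involves (Equiv.Perm (Fin 4)) G) : A ≤ Cfsg.pPrimePCore p G := by
  open Pointwise commutatorElement Subgroup in
  obtain ⟨a, rfl⟩ := (Subgroup.isCyclic_iff_exists_zpowers_eq_top A).1 hA
  rw [Subgroup.zpowers_le, ← PL.U_two]
  exact main G (Comp.pSol_top_of_isPSolvable hG) h P a (Comp.sylIn_top P) (hAP (Subgroup.mem_zpowers a)) hAn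

end Cfsg.Agent.S3788
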