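import Cfsg.Statements.S3793
import Cfsg.Agent.Lib.Fusion.Sh3

set_option autoImplicit false
open Cfsg

namespace Cfsg.Agent.S3793

open Subgroup Cfsg.Agent.Comp Cfsg.Agent.BG Cfsg.Agent

/-- The Shult–Gross Theorem: let p be an odd prime and G a finite solvable group with an automorphism σ of order p^n fixing only the identity. Then G has Fitting height at most n: G has Fitting height at most m when there is a chain of normal subgroups 1 = F₀ ≤ F₁ ≤ ⋯ ≤ F_m = G with each F_{i+1}/F_i nilpotent. -/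
theorem result {G : Type*} [Group G] [Finite G] (hG : Group.IsSolvable G) {p : ℕ} (hp : p.Prime) (hp2 : p ≠ 2) (σ : MulAut G) (n : ℕ) (hσ : orderOf σ = p ^ n) (hfpf : ∀ g : G, σ g = g → g = 1) : ∃ F : Fin (n + 1) → Subgroup G, F 0 = ⊥ ∧ F (Fin.last n) = ⊤ ∧ Monotone F ∧ (∀ i, (F i).Normal) ∧ ∀ i : Fin n, ∃ k : ℕ, (F i.succ).lowerCentralSeries k ≤ F i.castSucc := by
  haveI : Fact p.Prime := ⟨hp⟩
  obtain ⟨X, _, _, i, j, hX⟩ := exists_act (zpowers σ).subtype
  have := hX.normal
  have h1 : σ ^ p ^ n = 1 := hσ ▸ pow_orderOf_eq_one σ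
  have h2 : IsPGroup p (zpowers σ) := isPGroup_zpowers (n := n) h1
  have ho : (Nat.card G).Coprime p := by
    have := h2.card_modEq_card_fixedPoints G
    rw [show MulAction.fixedPoints (zpowers σ) G = {1} from Set.eq_singleton_iff_unique_mem.2
      ⟨fun a => map_one a.1, fun g hg => hfpf g (hg ⟨σ, mem_zpowers σ⟩)⟩] at this
    refine (hp.coprime_iff_not_dvd.2 fun h => hp.ne_one ?_).symm
    simpa using (this.dvd_iff dvd_rfl).1 h
  have := Sh.shult hp2 n (K := i.range) (s := j ⟨σ, mem_zpowers σ⟩)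
    (by rw [← map_pow]; exact (congrArg _ (Subtype.ext h1)).trans (map_one _))
    (@Group.isSolvable_of_surjective _ _ _ _ _ i.rangeRestrict_surjective hG) (hX.card_range ▸ ho)
    ((eq_bot_iff_forall _).2 (by
      rintro _ ⟨⟨g, rfl⟩, hg⟩
      rw [hfpf g (hX.mem_C1_iff.1 hg), map_one]))
  rw [MonoidHom.range_eq_map, ← Sg.map_LL, map_eq_bot_iff_of_injective _ hX.inj] at this
  exact (Sg.LL_iff_series n).1 this

end Cfsg.Agent.S3793
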