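import Cfsg.Statements.S3794
import Cfsg.Agent.Lib.BG.Sec3
import Cfsg.Agent.Lib.BG.Act
import Cfsg.Agent.Lib.BG.Cls

set_option autoImplicit false
open Cfsg

namespace Cfsg.Agent.S3794
section
open Pointwise commutatorElement Subgroup
universe u

open Subgroup Cfsg.Agent.Comp Cfsg.Agent.BG commutatorElement

variable {G : Type u} [Group G] [Finite G] {p : ℕ} {V K U : Subgroup G} {s : G}

theorem cop (h : s ^ 4 = 1) (k : ℕ) {n : ℕ} (ho : Odd n) : (Nat.card (zpowers (s ^ k))).Coprime n :=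
  (Nat.Coprime.pow_left 2 (Nat.coprime_two_left.2 ho)).coprime_dvd_left (by
    rw [Nat.card_zpowers]; exact (orderOf_pow_dvd k).trans (orderOf_dvd_of_pow_eq_one h))

theorem core [hp : Fact p.Prime] (h : s ^ 4 = 1) (hV : IsPGroup p V) (hs : Group.IsSolvable K) (hn : s ∈ Nm(K)) (hK : K ≤ Nm(V))
    (hR : s ∈ Nm(V)) (hKp : (Nat.card K).Coprime p) (hoK : Odd (Nat.card K)) (hoV : Odd (Nat.card V)) (hf : K ⊓ Ct(V) = ⊥)
    (h0 : V ⊓ C1(s) = ⊥) (h1 : K ⊓ C1(s) = ⊥) : zpowers (s ^ 2) ≤ Ct(K) := by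
  by_contra e
  obtain ⟨L, l1, l2, l3, l4⟩ := exists_min_not_le_Ct (zpowers_le.2 hn) e
  have ho := odd_of_le l1 hoK
  have t1 : zpowers (s ^ 2) ≤ zpowers s := zpowers_le.2 (pow_mem (mem_zpowers s) 2)
  obtain ⟨l5, l6, l7⟩ := min_not_le_Ct (Comp.isSolvable_of_le l1 hs) l2 t1
    (le_normalizer_of_le_centralizer ((comm_iff_le.1 inferInstance).trans (Comp.centralizer_mono t1))) (cop h 2 ho) l3 l4
  have t2 : s ^ 2 * s ^ 2 = 1 := by rw [← pow_add, h]
  have ab : IsMulCommutative L := by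
    obtain ⟨l, a1, a2⟩ := SetLike.not_le_iff_exists.1 (mt le_centralizer_iff.1 l3)
    rw [Comp.centralizer_zpowers, mem_centralizer_singleton_iff, ← commutatorElement_eq_one_iff_mul_comm] at a2
    have x1 : ⁅l, s ^ 2⁆ ∈ L := Comp.commutator_le_left_of_le_normalizer (t1.trans l2) (commutator_mem_commutator a1 (mem_zpowers _))
    have x2 : s ^ 2 * ⁅l, s ^ 2⁆ * (s ^ 2)⁻¹ = ⁅l, s ^ 2⁆⁻¹ := by
      generalize s ^ 2 = t at t2
      rw [commutatorElement_inv, commutatorElement_def, commutatorElement_def, inv_eq_of_mul_eq_one_right t2]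
      calc _ = t * l * t * l⁻¹ * (t * t) := by group
        _ = _ := by rw [t2, mul_one]
    generalize ⁅l, s ^ 2⁆ = x at *
    have y1 := Comp.conj_mem_of_mem_normalizer (l2 (mem_zpowers s)) x1
    have y2 : s * (s * x * s⁻¹) * s⁻¹ = x⁻¹ := by rw [← x2, sq]; group
    have e : zpowers x ⊔ zpowers (s * x * s⁻¹) = L := by
      by_contra e
      have := l4 _ ((sup_le (zpowers_le.2 x1) (zpowers_le.2 y1)).lt_of_ne e) (zpowers_le.2 (cj_eq_self_iff.1 (by
        rw [cj_sup, cj_zpowers, cj_zpowers, y2, zpowers_inv, sup_comm]))) (mem_zpowers _) x (mem_sup_left (mem_zpowers x))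
      rw [← this, mul_inv_cancel_right, eq_inv_iff_mul_eq_one, ← sq] at x2
      exact a2 (orderOf_eq_one_iff.1 (((Nat.coprime_two_right.2 ho).coprime_dvd_left (L.orderOf_dvd_natCard x1)).eq_one_of_dvd
        (orderOf_dvd_of_pow_eq_one x2)))
    have z1 := commutator_mem_commutator x1 y1
    have z2 := l7 ⟨der_le L z1, l6 z1⟩ x x1
    have z3 : ⁅x, s * x * s⁻¹⁆ ∈ K ⊓ C1(s) := ⟨l1 (der_le L z1), mem_centralizer_singleton_iff.2 (by
      rw [eq_comm, ← mul_inv_eq_iff_eq_mul, conjugate_commutatorElement, y2]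
      calc _ = x⁻¹ * (⁅x, s * x * s⁻¹⁆ * x) := by simp only [commutatorElement_def]; group
        _ = _ := by rw [← z2, inv_mul_cancel_left])⟩
    rw [h1, mem_bot, commutatorElement_eq_one_iff_mul_comm] at z3
    rw [comm_iff_le, ← e, Comp.centralizer_sup, Comp.centralizer_zpowers, Comp.centralizer_zpowers]
    simp only [le_inf_iff, sup_le_iff, zpowers_le, mem_centralizer_singleton_iff, z3, and_self]
  have h8 := commutator_inf_Ct_of_comm ab (t1.trans l2) (cop h 2 ho)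
  rw [l5, Comp.centralizer_zpowers] at h8
  have := Solv.frobenius_nilpotent_le_centralizer l2 (fun a ha a1 => by
    obtain ⟨k, rfl⟩ := mem_powers_iff_mem_zpowers.2 ha
    refine le_bot_iff.1 (h8 ▸ inf_le_inf_left _ (C1_le_of_mem_zpowers ?_))
    simp only [pow_eq_pow_mod k h] at a1 ⊢
    have : k % 4 < 4 := Nat.mod_lt _ (by norm_num)
    interval_cases k % 4
    · simp at a1
    · simp
    · exact mem_zpowers _
    · exact mem_powers_iff_mem_zpowers.1 ⟨2, by simp only [← pow_mul]; exact pow_eq_pow_mod _ h⟩) hV.isNilpotent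
    (l1.trans hK) (zpowers_le.2 hR) (coprime_of_isPGroup hV (hKp.of_dvd_left (card_dvd_of_le l1))).symm (pow_one s ▸ cop h 1 hoV)
    (by rwa [Comp.centralizer_zpowers])
  rw [eq_bot_iff.2 (hf ▸ le_inf l1 (le_Ct_comm.1 this) : L ≤ ⊥)] at l3
  exact l3 (le_Ct_comm.1 bot_le)

theorem img_fpf {M N : Subgroup G} (hq : M ≤ Nm(N)) (h : s ^ 4 = 1) (hs : s ∈ M) (h1 : K ≤ M) (hn : s ∈ Nm(K)) (ho : Odd (Nat.card K))
    (h0 : K ⊓ C1(s) = ⊥) : img hq K ⊓ C1(qmap hq ⟨s, hs⟩) = ⊥ := by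
  rw [← img_inf_C1 h1 ⟨s, hs⟩ hn (by simpa using cop h 1 (odd_of_le inf_le_left ho)), h0, img_bot]

theorem core2 [hp : Fact p.Prime] (h : s ^ 4 = 1) (hV : IsPGroup p V) (hs : Group.IsSolvable K) (hn : s ∈ Nm(K)) (hK : K ≤ Nm(V))
    (hR : s ∈ Nm(V)) (hKp : (Nat.card K).Coprime p) (hoK : Odd (Nat.card K)) (hoV : Odd (Nat.card V))
    (h0 : V ⊓ C1(s) = ⊥) (h1 : K ⊓ C1(s) = ⊥) : ⁅zpowers (s ^ 2), K⁆ ≤ Ct(V) := by
  have hq : K ⊔ zpowers s ⊔ V ≤ Nm(K ⊓ Ct(V)) := sup_le (Comp.le_normalizer_inf (sup_le le_normalizer (zpowers_le.2 hn))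
    (Comp.le_normalizer_centralizer (sup_le hK (zpowers_le.2 hR)))) (le_Nm_of_le_Ct' inf_le_right)
  have a1 : K ≤ K ⊔ zpowers s ⊔ V := le_sup_left.trans le_sup_left
  have a2 : s ∈ K ⊔ zpowers s ⊔ V := mem_sup_left (mem_sup_right (mem_zpowers s))
  have a3 : V ⊓ (K ⊓ Ct(V)) = ⊥ := inf_eq_bot_of_isPGroup hV (hKp.of_dvd_left (card_dvd_of_le inf_le_left))
  refine le_trans ?_ (inf_le_right (a := K))
  rw [← img_le_centralizer_iff (h := hq) (zpowers_le.2 (pow_mem a2 2)) a1]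
  have := core (s := qmap hq ⟨s, a2⟩) (by rw [← map_pow]; exact (congrArg _ (Subtype.ext h)).trans (map_one _)) (isPGroup_img hV)
    (isSolvable_img hs) (zpowers_le.1 (img_zpowers (h := hq) _ ▸ img_le_normalizer (zpowers_le.2 hn))) (img_le_normalizer hK)
    (zpowers_le.1 (img_zpowers (h := hq) _ ▸ img_le_normalizer (zpowers_le.2 hR))) (coprime_img_left hKp) (odd_img hoK) (odd_img hoV)
    (img_inf_Ct_eq_bot a1 le_sup_right hK a3 le_rfl) (img_fpf hq h a2 le_sup_right hR hoV h0) (img_fpf hq h a2 a1 hn hoK h1)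
  rwa [← map_pow, ← img_zpowers] at this

theorem chief [hp : Fact p.Prime] (h : s ^ 4 = 1) (c : Chief ⊤ U ⊥) (hU : IsPGroup p U) [hK : K.Normal] (hs : Group.IsSolvable K)
    (hoK : Odd (Nat.card K)) (hoU : Odd (Nat.card U)) (h0 : U ⊓ C1(s) = ⊥) (h1 : K ⊓ C1(s) = ⊥) : ⁅zpowers (s ^ 2), K⁆ ≤ Ct(U) := by
  have hKn : ⊤ ≤ Nm(K) := Comp.normal_iff_top_le_normalizer.1 hK
  have hq : ⊤ ≤ Nm(Ct(U)) := Comp.le_normalizer_centralizer c.nU
  obtain ⟨H, hH, hRH⟩ := exists_invariant_hallIn (le_top.trans hKn) (pow_one s ▸ cop h 1 hoK) hs {p}ᶜ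
  have a := core2 h hU (Comp.isSolvable_of_le hH.le hs) (hRH (mem_zpowers s)) (le_top.trans c.nU) (c.nU trivial)
    (isPi_compl_singleton.1 hH.isPi) (odd_of_le hH.le hoK) hoU h0 (le_bot_iff.1 (h1 ▸ inf_le_inf_right _ hH.le))
  rw [← img_le_centralizer_iff (h := hq) le_top le_top] at a ⊢
  refine le_Ct_of_le_Ct_Fit (isSolvable_img hs) (img_le_normalizer (le_top.trans hKn))
    (coprime_img (cop h 2 hoK)) (a.trans (Comp.centralizer_mono ?_))
  have h2 : Op p (BG.img hq K) = ⊥ := by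
    haveI : (Op p (BG.img hq K)).Normal := Comp.normal_iff_top_le_normalizer.2 (le_normalizer_Op
      (Comp.normal_iff_top_le_normalizer.1 (img_normal hKn)))
    rw [← img_pre (Op p (BG.img hq K)), img_eq_bot_iff le_top]
    refine c.le_Ct_of_res hU le_top (top_le_normalizer_pre _) ?_
    rw [← img_eq_bot_iff (h := hq) le_top, img_Res le_top, img_pre, Res_eq_bot_iff]
    exact isPGroup_Op p _
  refine (Fit_le_Op_sup_Opp (p := p) _).trans ?_
  rw [h2, bot_sup_eq, ← Opi_compl_singleton]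
  exact (hH.img le_top).Opi_le

theorem main (h : s ^ 4 = 1) [K.Normal] (hs : Group.IsSolvable K) (ho : Odd (Nat.card K)) (h0 : K ⊓ C1(s) = ⊥) :
    ⁅K, K⁆ ≤ Fit K := by
  have n : ∀ k, (⊤ : Subgroup G) ⊓ (K ⊔ zpowers s) ≤ Nm(⁅zpowers (s ^ k), K⁆) := fun k => inf_le_right.trans (sup_le
    (le_sup_right.trans (sup_le_normalizer_commutator _ _)) (Comp.le_normalizer_commutator (le_normalizer_of_le_centralizer
      ((comm_iff_le.1 inferInstance).trans (Comp.centralizer_mono (zpowers_le.2 (pow_mem (mem_zpowers s) k))))) le_normalizer_of_normal))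
  simp only [top_inf_eq] at n
  have a : ⁅zpowers (s ^ 2), K⁆ ≤ Fit K := le_Fit_of_chief hs le_sup_left le_normalizer_of_normal (commutator_le_right _ _) (n 2)
    fun U V c d => by
      have hUK := d.trans (Fit_le K)
      have hU : U ≤ K ⊔ zpowers s := hUK.trans le_sup_left
      have a2 : s ∈ K ⊔ zpowers s := mem_sup_right (mem_zpowers s)
      obtain ⟨q, hq, hi⟩ := c.exists_piN (hU.trans c.nV) (Comp.isSolvable_of_le hUK hs)
      haveI := Fact.mk hq
      haveI := img_normal (h := c.nV) (H := K) le_normalizer_of_normal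
      rw [← img_le_centralizer_iff (h := c.nV) hU ((commutator_le_right _ _).trans le_sup_left), le_Ct_comm,
        img_commutator (zpowers_le.2 (pow_mem a2 2)) le_sup_left]
      have := chief (s := qmap c.nV ⟨s, a2⟩) (by rw [← map_pow]; exact (congrArg _ (Subtype.ext h)).trans (map_one _))
        (c.img_bot hU) (c.isPGroup_img hU hi) (isSolvable_img hs) (odd_img ho) (odd_img (odd_of_le hUK ho))
        (img_fpf _ h a2 hU (c.nU a2) (odd_of_le hUK ho) (le_bot_iff.1 (h0 ▸ inf_le_inf_right _ hUK)))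
        (img_fpf _ h a2 le_sup_left (le_normalizer_of_normal a2) ho h0)
      rwa [← map_pow, ← img_zpowers] at this
  have b := commutator_sup_Ct (K := K) le_normalizer_of_normal (cop h 2 ho) (.inr hs)
  have c : IsMulCommutative (K ⊓ Ct(zpowers (s ^ 2)) : Subgroup G) := Solv.isMulCommutative_of_inverts (s := s) fun k hk => by
    obtain ⟨x, x1, x2⟩ := Solv.exists_conj_eq_mul_of_fpf (Comp.le_normalizer_inf le_normalizer_of_normal (Comp.le_normalizer_centralizer
      (le_normalizer_of_le_centralizer ((comm_iff_le.1 inferInstance).trans (Comp.centralizer_mono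
        (zpowers_le.2 (pow_mem (mem_zpowers s) 2)))))) (mem_zpowers s)) (le_bot_iff.1 (h0 ▸ inf_le_inf_right _ inf_le_left)) hk
    have e : (k * s) ^ 2 = s ^ 2 := by rw [← x2, conj_pow, ← x1.2 _ (mem_zpowers _), mul_inv_cancel_right]
    rw [sq, sq] at e
    calc _ = k⁻¹ * (k * s * (k * s)) * s⁻¹ * s⁻¹ := by group
      _ = _ := by rw [e]; group
  rw [Subgroup.commutator_comm] at a
  have d := commutator_sup_le_sup_commutator (N := Fit K) (T := K ⊓ Ct(zpowers (s ^ 2))) (le_normalizer_Fit_of_le inf_le_left)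
  rw [commutator_eq_bot_iff_le_centralizer.2 (comm_iff_le.1 c), sup_bot_eq] at d
  have e : K ≤ Fit K ⊔ K ⊓ Ct(zpowers (s ^ 2)) := b.ge.trans (sup_le_sup_right a _)
  exact (commutator_mono e e).trans d
end

/-- Let G be a finite solvable group with an automorphism σ satisfying σ⁴ = 1 and fixing only the identity. Then the derived subgroup G' is nilpotent. -/
theorem result {G : Type*} [Group G] [Finite G] (hG : Group.IsSolvable G) (σ : MulAut G) (hσ : σ ^ 4 = 1) (hfpf : ∀ g : G, σ g = g → g = 1) : Group.IsNilpotent (commutator G) := by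
  open Pointwise commutatorElement Subgroup in
  open Cfsg.Agent.Comp Cfsg.Agent.BG in
  obtain ⟨X, _, _, i, j, hX⟩ := exists_act (zpowers σ).subtype
  have := hX.normal
  have h2 : IsPGroup 2 (zpowers σ) := isPGroup_zpowers (n := 2) hσ
  have ho : Odd (Nat.card G) := by
    have := h2.card_modEq_card_fixedPoints G
    rw [show MulAction.fixedPoints (zpowers σ) G = {1} from Set.eq_singleton_iff_unique_mem.2 ⟨fun a => map_one a.1, fun g hg =>
      hfpf g (hg ⟨σ, mem_zpowers σ⟩)⟩] at this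
    exact Nat.odd_iff.2 (by simpa [Nat.ModEq] using this)
  have := main (K := i.range) (s := j ⟨σ, mem_zpowers σ⟩) (by rw [← map_pow]; exact (congrArg _ (Subtype.ext hσ)).trans (map_one _))
    (@Group.isSolvable_of_surjective _ _ _ _ _ i.rangeRestrict_surjective hG) (hX.card_range ▸ ho) ((eq_bot_iff_forall _).2 (by
      rintro _ ⟨⟨g, rfl⟩, hg⟩
      rw [hfpf g (hX.mem_C1_iff.1 hg), map_one]))
  rw [MonoidHom.range_eq_map, ← map_commutator, ← Comp.map_Fit_of_injective ⊤ hX.inj, map_le_map_iff_of_injective hX.inj] at this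
  exact Comp.isNilpotent_of_le this (isNilpotent_Fit ⊤)

end Cfsg.Agent.S3794
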