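import Cfsg.Statements.S3796
import Cfsg.Agent.Lib.Fusion.Sh6

set_option autoImplicit false
open Cfsg

namespace Cfsg.Agent.S3796

open Subgroup Cfsg.Agent.Comp Cfsg.Agent.BG Cfsg.Agent

/-- Ward's Theorem: let G be a finite solvable group and A an elementary abelian group of automorphisms of G of order p² (p a prime) with no non-identity common fixed point. Then G has Fitting height at most 2: G has Fitting height at most m when there is a chain of normal subgroups 1 = F₀ ≤ F₁ ≤ ⋯ ≤ F_m = G with each F_{i+1}/F_i nilpotent. -/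
theorem result {G : Type*} [Group G] [Finite G] (hG : Group.IsSolvable G) {p : ℕ} (hp : p.Prime) (A : Subgroup (MulAut G)) (hA : Cfsg.IsElementaryAbelian p A) (hcard : Nat.card A = p ^ 2) (hfpf : ∀ g : G, (∀ a ∈ A, a g = g) → g = 1) : ∃ F : Fin (2 + 1) → Subgroup G, F 0 = ⊥ ∧ F (Fin.last 2) = ⊤ ∧ Monotone F ∧ (∀ i, (F i).Normal) ∧ ∀ i : Fin 2, ∃ k : ℕ, (F i.succ).lowerCentralSeries k ≤ F i.castSucc := by
  haveI : Fact p.Prime := ⟨hp⟩
  obtain ⟨X, _, _, i, j, hX⟩ := exists_act A.subtype
  have := hX.normal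
  have ho : (Nat.card G).Coprime p := by
    have := (elem_isP hA).card_modEq_card_fixedPoints G
    rw [show MulAction.fixedPoints A G = {1} from Set.eq_singleton_iff_unique_mem.2
      ⟨fun a => map_one a.1, fun g hg => hfpf g fun a ha => hg ⟨a, ha⟩⟩] at this
    refine (hp.coprime_iff_not_dvd.2 fun h => hp.ne_one ?_).symm
    simpa using (this.dvd_iff dvd_rfl).1 h
  have := Sh.ward (p := p) (K := i.range) (A := j.range)
    (by rw [MonoidHom.range_eq_map, ← subgroupOf_self]; exact Transfer.elem_map (Transfer.elem_subgroupOf hA A) _)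
    (hX.card_range'.trans hcard)
    (@Group.isSolvable_of_surjective _ _ _ _ _ i.rangeRestrict_surjective hG) (hX.card_range ▸ ho)
    ((eq_bot_iff_forall _).2 (by
      rintro _ ⟨⟨g, rfl⟩, hg⟩
      rw [hfpf g fun a ha => hX.mem_Ct_iff.1 hg ⟨a, ha⟩, map_one]))
  rw [MonoidHom.range_eq_map, ← Sg.map_LL, map_eq_bot_iff_of_injective _ hX.inj] at this
  exact (Sg.LL_iff_series 2).1 this

end Cfsg.Agent.S3796
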