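import Cfsg.Statements.S3803
import Cfsg.Agent.Lib.BG.Crit2

set_option autoImplicit false
open Cfsg

namespace Cfsg.Agent.S3803
section
open Pointwise commutatorElement Subgroup
open Cfsg.Agent.Comp Cfsg.Agent.BG Subgroup commutatorElement in
theorem l1 {X : Type*} [Group X] [Finite X] {H A : Subgroup X} (hH : IsPGroup 2 H) (hA : Odd (Nat.card A))
    (hn : A ≤ Nm(H)) (h : ∀ M, M ≤ H → Nat.card M * 2 = Nat.card H → A ≤ Nm(M)) : A ≤ Ct(H) := by
  haveI : Fact (Nat.Prime 2) := ⟨Nat.prime_two⟩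
  refine Solv.coprime_frattini_le_centralizer
    (Solv.coprime_card_of_isPGroup ((hH.to_subgroup _)) hA.not_two_dvd_nat).symm ?_ hn
  rw [Subgroup.commutator_le]
  intro x hx a ha
  have h1 := Comp.conj_mem_of_mem_normalizer (hn ha) (inv_mem hx)
  have h2 : ⁅x, a⁆ = x * (a * x⁻¹ * a⁻¹) := by rw [commutatorElement_def]; group
  refine ⟨⟨x, hx⟩ * ⟨_, h1⟩, Solv.mem_frattini_iff.2 fun M hM => ?_, h2.symm⟩
  have hi := Solv.index_eq_of_coatom_of_isPGroup hH hM
  have h3 := h (M.map H.subtype) (map_subtype_le _) (by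
    rw [Subgroup.card_map_of_injective H.subtype_injective, ← hi, M.card_mul_index])
  have hmem : ∀ a (ha : a ∈ H), a ∈ M.map H.subtype ↔ (⟨a, ha⟩ : H) ∈ M := by
    intro a ha
    constructor
    · rintro ⟨b, hb, rfl⟩; exact hb
    · intro h; exact ⟨_, h, rfl⟩
  rw [mul_mem_iff_of_index_two hi, ← hmem, ← hmem, ← mem_normalizer_iff.1 (h3 ha), inv_mem_iff]

open Cfsg.Agent.Comp Cfsg.Agent.BG Subgroup commutatorElement in
theorem l2 {X : Type*} [Group X] [Finite X] {H A : Subgroup X} (hH : IsPGroup 2 H) (hA : Odd (Nat.card A))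
    (hn : A ≤ Nm(H)) (h : IsCyclic H) : A ≤ Ct(H) :=
  l1 hH hA hn fun _ hM _ => hn.trans (Solv.normalizer_le_normalizer_of_le_isCyclic h hM)

open Cfsg.Agent.Comp Cfsg.Agent.BG Subgroup commutatorElement in
theorem l3 {X : Type*} [Group X] [Finite X] {H K : Subgroup X} (hH : IsPGroup 2 H) (h : K ≤ H) {m : ℕ}
    (h1 : Nat.card K ≤ 2 ^ m) (h2 : 2 ^ m ≤ Nat.card H) : ∃ L, K ≤ L ∧ L ≤ H ∧ Nat.card L = 2 ^ m := by
  haveI : Fact (Nat.Prime 2) := ⟨Nat.prime_two⟩
  obtain ⟨a, ha⟩ := IsPGroup.iff_card.1 hH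
  obtain ⟨b, hb⟩ := IsPGroup.iff_card.1 (hH.to_le h)
  rw [ha] at h2
  rw [hb] at h1
  obtain ⟨L, h3, h4⟩ := Sylow.exists_subgroup_card_pow_prime_le (G := H) 2 (n := b) (m := m)
    (ha ▸ pow_dvd_pow _ ((Nat.pow_le_pow_iff_right (by norm_num)).1 h2)) (K.subgroupOf H)
    (by rw [← hb]; exact Nat.card_congr (subgroupOfEquivOfLe h).toEquiv) ((Nat.pow_le_pow_iff_right (by norm_num)).1 h1)
  refine ⟨L.map H.subtype, ?_, map_subtype_le _, by rw [Subgroup.card_map_of_injective H.subtype_injective, h3]⟩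
  have := Subgroup.map_mono (f := H.subtype) h4
  rwa [subgroupOf_map_subtype, inf_eq_left.2 h] at this
end

/-- Let P be a 2-subgroup and A a subgroup of odd order of a finite group, with A normalizing P. Let D ≤ P with 1 < |D| < |P|. If every subgroup of P of order |D|, and also every subgroup of P of order 4 in case |D| = 2, is normalized by A, then A centralizes P. -/
theorem result {X : Type*} [Group X] [Finite X] (P A D : Subgroup X) (hP : IsPGroup 2 P) (hA : Odd (Nat.card A))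
    (hAP : A ≤ Subgroup.normalizer (P : Set X)) (hDP : D ≤ P) (hD1 : 1 < Nat.card D) (hD2 : Nat.card D < Nat.card P)
    (hinv : ∀ E : Subgroup X, E ≤ P → (Nat.card E = Nat.card D ∨ (Nat.card D = 2 ∧ Nat.card E = 4)) → A ≤ Subgroup.normalizer (E : Set X)) :
    A ≤ Subgroup.centralizer (P : Set X) := by
  open Pointwise commutatorElement Subgroup in
  open Cfsg.Agent.Comp Cfsg.Agent.BG Subgroup commutatorElement in
  haveI : Fact (Nat.Prime 2) := ⟨Nat.prime_two⟩
  refine Crit2.le_Ct_of_four hP hAP hA fun x hx h4 => ?_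
  have hxP : zpowers x ≤ P := zpowers_le.2 hx
  have ho : orderOf x ∣ 2 ^ 2 := orderOf_dvd_of_pow_eq_one h4
  suffices h : A ≤ Ct(zpowers x) from Subgroup.le_centralizer_iff.1 h (mem_zpowers x)
  obtain ⟨d, hd⟩ := IsPGroup.iff_card.1 (hP.to_le hDP)
  by_cases h2 : Nat.card D = 2
  · refine l2 (hP.to_le hxP) hA ?_ inferInstance
    obtain ⟨k, hk, e⟩ := (Nat.dvd_prime_pow Nat.prime_two).1 ho
    interval_cases k
    · rw [pow_zero, orderOf_eq_one_iff] at e
      rw [e, zpowers_one_eq_bot]; exact le_normalizer_of_normal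
    · exact hinv _ hxP (Or.inl (by rw [Nat.card_zpowers, e, h2]; rfl))
    · exact hinv _ hxP (Or.inr ⟨h2, by rw [Nat.card_zpowers, e]; rfl⟩)
  have hd2 : 2 ≤ d := by
    rw [hd] at hD1 h2
    rcases d with _ | _ | d
    · simp at hD1
    · simp at h2
    · omega
  obtain ⟨m, hm⟩ := IsPGroup.iff_card.1 hP
  have hdm : d + 1 ≤ m := by
    rw [hd, hm] at hD2
    exact (Nat.pow_lt_pow_iff_right (by norm_num)).1 hD2
  obtain ⟨E, h3, h4, h5⟩ := l3 hP hxP (m := d)
    (by rw [Nat.card_zpowers]; exact (Nat.le_of_dvd (by norm_num) ho).trans (Nat.pow_le_pow_right (by norm_num) hd2))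
    (hd ▸ hD2.le)
  obtain ⟨H, h6, h7, h8⟩ := l3 hP h4 (m := d + 1) (by rw [h5]; exact Nat.pow_le_pow_right (by norm_num) (by omega))
    (by rw [hm]; exact Nat.pow_le_pow_right (by norm_num) hdm)
  by_cases hc : IsCyclic H
  · exact (l2 (hP.to_le h4) hA (hinv E h4 (Or.inl (h5.trans hd.symm))) (Subgroup.isCyclic_of_le h6)).trans
      (centralizer_le h3)
  have hM : ∀ M, M ≤ H → Nat.card M * 2 = Nat.card H → A ≤ Nm(M) := by
    intro M h1 h2
    refine hinv M (h1.trans h7) (Or.inl ?_)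
    rw [h8, pow_succ] at h2
    omega
  refine (l1 (hP.to_le h7) hA ?_ hM).trans (centralizer_le (h3.trans h6))
  intro a ha
  refine Comp.mem_normalizer_of_conj_mem fun y hy => ?_
  have h9 : zpowers y < H := lt_of_le_of_ne (zpowers_le.2 hy) fun e => hc (e ▸ inferInstance)
  obtain ⟨M, m1, m2, m3⟩ := l3 (hP.to_le h7) h9.le (m := d) (card_le_pow_of_lt (hP.to_le h7) h9 h8.le)
    (by rw [h8]; exact Nat.pow_le_pow_right (by norm_num) (by omega))
  exact m2 (Comp.conj_mem_of_mem_normalizer (hM M m2 (by rw [m3, h8, pow_succ]) ha) (m1 (mem_zpowers y)))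

end Cfsg.Agent.S3803
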