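import Cfsg.Statements.S3804
import Cfsg.Agent.Lib.Solv.Fact
import Cfsg.Agent.Lib.Comp.Basic

set_option autoImplicit false
open Cfsg

namespace Cfsg.Agent.S3804

/-- Let G and H be subgroups of a finite group with G normalizing H, fix a real number α > 0, and for a subgroup A of G put m(A) = |A|^α · |C_H(A)|. Let A and B be nontrivial subgroups of G at which m attains its maximum over all nontrivial subgroups of G, and assume that A ∩ B ≠ 1 or that this maximum is at least |H|. Then AB = BA is a subgroup at which m is again maximal, C_H(A ∩ B) = C_H(A) C_H(B), and if A ∩ B ≠ 1 then m is maximal at A ∩ B as well. -/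
theorem result {X : Type*} [Group X] [Finite X] (G H : Subgroup X) (hGH : G ≤ Subgroup.normalizer (H : Set X)) (α : ℝ) (hα : 0 < α)
    (A B : Subgroup X) (hA : A ≤ G) (hB : B ≤ G) (hA1 : A ≠ ⊥) (hB1 : B ≠ ⊥)
    (hAmax : ∀ A' : Subgroup X, A' ≤ G → A' ≠ ⊥ → (fun A : Subgroup X => ((Nat.card A : ℝ) ^ α) * (Nat.card ↥(H ⊓ Subgroup.centralizer (A : Set X)) : ℝ)) A' ≤ (fun A : Subgroup X => ((Nat.card A : ℝ) ^ α) * (Nat.card ↥(H ⊓ Subgroup.centralizer (A : Set X)) : ℝ)) A)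
    (hBmax : ∀ A' : Subgroup X, A' ≤ G → A' ≠ ⊥ → (fun A : Subgroup X => ((Nat.card A : ℝ) ^ α) * (Nat.card ↥(H ⊓ Subgroup.centralizer (A : Set X)) : ℝ)) A' ≤ (fun A : Subgroup X => ((Nat.card A : ℝ) ^ α) * (Nat.card ↥(H ⊓ Subgroup.centralizer (A : Set X)) : ℝ)) B)
    (hcase : A ⊓ B ≠ ⊥ ∨ (Nat.card H : ℝ) ≤ (fun A : Subgroup X => ((Nat.card A : ℝ) ^ α) * (Nat.card ↥(H ⊓ Subgroup.centralizer (A : Set X)) : ℝ)) A) :
    (∀ a ∈ A, ∀ b ∈ B, ∃ b' ∈ B, ∃ a' ∈ A, a * b = b' * a') ∧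
    (∀ A' : Subgroup X, A' ≤ G → A' ≠ ⊥ → (fun A : Subgroup X => ((Nat.card A : ℝ) ^ α) * (Nat.card ↥(H ⊓ Subgroup.centralizer (A : Set X)) : ℝ)) A' ≤ (fun A : Subgroup X => ((Nat.card A : ℝ) ^ α) * (Nat.card ↥(H ⊓ Subgroup.centralizer (A : Set X)) : ℝ)) (A ⊔ B)) ∧
    (∀ h ∈ H ⊓ Subgroup.centralizer ((A ⊓ B : Subgroup X) : Set X), ∃ u ∈ H ⊓ Subgroup.centralizer (A : Set X), ∃ v ∈ H ⊓ Subgroup.centralizer (B : Set X), h = u * v) ∧
    (A ⊓ B ≠ ⊥ → ∀ A' : Subgroup X, A' ≤ G → A' ≠ ⊥ → (fun A : Subgroup X => ((Nat.card A : ℝ) ^ α) * (Nat.card ↥(H ⊓ Subgroup.centralizer (A : Set X)) : ℝ)) A' ≤ (fun A : Subgroup X => ((Nat.card A : ℝ) ^ α) * (Nat.card ↥(H ⊓ Subgroup.centralizer (A : Set X)) : ℝ)) (A ⊓ B)) := by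
  open Pointwise commutatorElement Subgroup Cfsg.Agent.Solv in
  set m : Subgroup X → ℝ := fun A : Subgroup X => ((Nat.card A : ℝ) ^ α) * (Nat.card ↥(H ⊓ Subgroup.centralizer (A : Set X)) : ℝ) with hm
  have hpos : ∀ K : Subgroup X, (0 : ℝ) < Nat.card K := fun K => by exact_mod_cast Nat.card_pos
  have hmpos : ∀ K, 0 < m K := fun K => mul_pos (Real.rpow_pos_of_pos (hpos K) _) (hpos _)
  have hAB : m A = m B := le_antisymm (hBmax A hA hA1) (hAmax B hB hB1)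
  have h1 : m (A ⊔ B) ≤ m A := hAmax _ (sup_le hA hB) (fun h => hA1 (le_bot_iff.1 (h ▸ le_sup_left)))
  have h2 : m (A ⊓ B) ≤ m A := by
    by_cases h : A ⊓ B = ⊥
    · rcases hcase with h' | h'
      · exact absurd h h'
      · refine le_trans (le_of_eq ?_) h'
        rw [h, hm]
        simp only [card_bot, Nat.cast_one, Real.one_rpow, one_mul]
        rw [inf_eq_left.2]
        intro x _ y hy
        rw [mem_bot.1 hy]; simp
    · exact hAmax _ (inf_le_left.trans hA) h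
  set CA := H ⊓ centralizer (A : Set X)
  set CB := H ⊓ centralizer (B : Set X)
  set CI := H ⊓ centralizer ((A ⊓ B : Subgroup X) : Set X)
  have hCS : H ⊓ centralizer ((A ⊔ B : Subgroup X) : Set X) = CA ⊓ CB := by
    rw [Cfsg.Agent.Comp.centralizer_sup, inf_inf_distrib_left]
  have hCA : CA ≤ CI := inf_le_inf_left _ (Cfsg.Agent.Comp.centralizer_mono inf_le_left)
  have hCB : CB ≤ CI := inf_le_inf_left _ (Cfsg.Agent.Comp.centralizer_mono inf_le_right)
  have i1 := card_mul_card_le (le_sup_left : A ≤ A ⊔ B) le_sup_right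
  have i2 := card_mul_card_le hCA hCB
  have i1' : (Nat.card A : ℝ) ^ α * (Nat.card B : ℝ) ^ α ≤ (Nat.card (A ⊔ B : Subgroup X) : ℝ) ^ α * (Nat.card (A ⊓ B : Subgroup X) : ℝ) ^ α := by
    rw [← Real.mul_rpow (hpos _).le (hpos _).le, ← Real.mul_rpow (hpos _).le (hpos _).le]
    exact Real.rpow_le_rpow (mul_pos (hpos _) (hpos _)).le (by exact_mod_cast i1) hα.le
  have i2' : (Nat.card CA : ℝ) * Nat.card CB ≤ Nat.card CI * Nat.card (CA ⊓ CB : Subgroup X) := by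
    exact_mod_cast i2
  have e1 : m A * m B = ((Nat.card A : ℝ) ^ α * (Nat.card B : ℝ) ^ α) * ((Nat.card CA : ℝ) * Nat.card CB) := by
    simp only [hm]; ring
  have e2 : m (A ⊔ B) * m (A ⊓ B) = ((Nat.card (A ⊔ B : Subgroup X) : ℝ) ^ α * (Nat.card (A ⊓ B : Subgroup X) : ℝ) ^ α) * (Nat.card CI * Nat.card (CA ⊓ CB : Subgroup X)) := by
    simp only [hm]; rw [hCS]; ring
  have p1 : 0 < (Nat.card A : ℝ) ^ α * (Nat.card B : ℝ) ^ α :=
    mul_pos (Real.rpow_pos_of_pos (hpos _) _) (Real.rpow_pos_of_pos (hpos _) _)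
  have p2 : 0 < (Nat.card CA : ℝ) * Nat.card CB := mul_pos (hpos _) (hpos _)
  have i3 : m (A ⊔ B) * m (A ⊓ B) ≤ m A * m B := by
    rw [← hAB]; exact mul_le_mul h1 h2 (hmpos _).le (hmpos _).le
  have i4 : m A * m B ≤ m (A ⊔ B) * m (A ⊓ B) := by
    rw [e1, e2]; exact mul_le_mul i1' i2' p2.le (p1.le.trans i1')
  have j1 : (Nat.card (A ⊔ B : Subgroup X) : ℝ) ^ α * (Nat.card (A ⊓ B : Subgroup X) : ℝ) ^ α ≤ (Nat.card A : ℝ) ^ α * (Nat.card B : ℝ) ^ α := by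
    by_contra hlt
    push Not at hlt
    rw [e1, e2] at i3
    exact absurd i3 (not_le.2 (mul_lt_mul hlt i2' p2 (p1.trans hlt).le))
  have j2 : (Nat.card CI : ℝ) * Nat.card (CA ⊓ CB : Subgroup X) ≤ (Nat.card CA : ℝ) * Nat.card CB := by
    by_contra hlt
    push Not at hlt
    rw [e1, e2] at i3
    exact absurd i3 (not_le.2 (mul_lt_mul' i1' hlt p2.le (p1.trans_le i1')))
  have k1 : m A ≤ m (A ⊔ B) := by
    by_contra hlt
    push Not at hlt
    rw [← hAB] at i4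
    exact absurd i4 (not_le.2 (mul_lt_mul hlt h2 (hmpos _) (hmpos _).le))
  have k2 : m A ≤ m (A ⊓ B) := by
    by_contra hlt
    push Not at hlt
    rw [← hAB] at i4
    exact absurd i4 (not_le.2 (mul_lt_mul' h1 hlt (hmpos _).le (hmpos _)))
  refine ⟨fun a ha b hb => ?_, fun A' h h' => (hAmax A' h h').trans k1, ?_, fun _ A' h h' => (hAmax A' h h').trans k2⟩
  · rw [← Real.mul_rpow (hpos _).le (hpos _).le, ← Real.mul_rpow (hpos _).le (hpos _).le,
      Real.rpow_le_rpow_iff (mul_pos (hpos _) (hpos _)).le (mul_pos (hpos _) (hpos _)).le hα] at j1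
    exact (isProd_of_card_le (le_sup_left : A ≤ A ⊔ B) le_sup_right (by exact_mod_cast j1)).symm _
      (mul_mem (mem_sup_left ha) (mem_sup_right hb))
  · exact isProd_of_card_le hCA hCB (by exact_mod_cast j2)

end Cfsg.Agent.S3804
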