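import Cfsg.Statements.S3807
import Cfsg.Agent.Lib.BG.ES2
import Cfsg.Agent.Lib.Transfer.Count

set_option autoImplicit false
open Cfsg

namespace Cfsg.Agent.S3807

/-- Let S be a non-abelian finite p-group with an abelian subgroup A of index p. Then [S : Z(S)] = p·#[S,S], and either [S,S] has order p, S/Z(S) is elementary abelian of order p², and S has exactly p + 1 abelian subgroups of index p; or [S,S] has order at least p² and A is the only abelian subgroup of index p in S. -/
theorem result {S : Type*} [Group S] [Finite S] (p : ℕ) [Fact p.Prime] (hS : IsPGroup p S) (hna : ¬ IsMulCommutative S)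
    (A : Subgroup S) (hA : IsMulCommutative ↥A) (hAi : A.index = p) :
    (Subgroup.center S).index = p * Nat.card (commutator S) ∧
      ((Nat.card (commutator S) = p ∧ Cfsg.IsElementaryAbelian p (⊤ : Subgroup (S ⧸ Subgroup.center S)) ∧
          Nat.card (S ⧸ Subgroup.center S) = p ^ 2 ∧
          Nat.card {B : Subgroup S // IsMulCommutative ↥B ∧ B.index = p} = p + 1) ∨
        (p ^ 2 ≤ Nat.card (commutator S) ∧ ∀ B : Subgroup S, IsMulCommutative ↥B → B.index = p → B = A)) := by
  open Pointwise commutatorElement Subgroup in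
  open Cfsg.Agent.Comp Cfsg.Agent.BG Subgroup commutatorElement in
  have hp : p.Prime := Fact.out
  haveI := hS.isNilpotent
  have zb : ∀ B : Subgroup S, IsMulCommutative B → B.index = p → center S ≤ B := fun B h1 h2 => by
    by_contra e
    have := Solv.sup_eq_top_of_not_le_coatom (Solv.isCoatom_of_index_prime (h2 ▸ hp : B.index.Prime)) e
    refine hna ((commutator_eq_bot_iff S).1 ?_)
    rw [_root_.commutator_def, ← this, commutator_sup_central (Subgroup.center_le_centralizer _)
      (Subgroup.center_le_centralizer _), commutator_self_eq_bot_iff.2 h1]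
  have m := Solv.isCoatom_of_index_prime (hAi ▸ hp : A.index.Prime)
  haveI : A.Normal := Solv.coatom_normal_of_nilpotent m
  obtain ⟨x, -, hx⟩ := SetLike.exists_of_lt (lt_top_iff_ne_top.2 m.1)
  have s := Solv.sup_eq_top_of_not_le_coatom m (mt zpowers_le.1 hx)
  have e1 : _root_.commutator S = ⁅A, zpowers x⁆ := le_antisymm
    (by rw [_root_.commutator_def, ← s]; exact Solv.commutator_sup_le_of_abelian hA inferInstance) (commutator_mono le_top le_top)
  have e2 : A ⊓ Ct(zpowers x) = center S := by
    refine le_antisymm ?_ (le_inf (zb A hA hAi) (Subgroup.center_le_centralizer _))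
    rw [← Cls5.Ct_top, ← s, le_centralizer_iff, sup_le_iff]
    exact ⟨le_centralizer_iff.1 (inf_le_left.trans (le_centralizer_iff_isMulCommutative.2 hA)),
      le_centralizer_iff.1 inf_le_right⟩
  have e3 := Transfer.card_commutator_zpowers hA (a := x) (le_normalizer_of_normal (mem_top x))
  rw [← e1, e2] at e3
  have z0 := Nat.card_pos (α := center S)
  have e4 : (center S).index = p * Nat.card (_root_.commutator S) := by
    refine Nat.eq_of_mul_eq_mul_left z0 ?_
    rw [card_mul_index, ← card_mul_index A, hAi, ← e3]; ring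
  refine ⟨e4, ?_⟩
  have d0 : _root_.commutator S ≠ ⊥ := fun e => hna ((commutator_eq_bot_iff S).1 e)
  by_cases h : Nat.card (_root_.commutator S) ≤ p
  · have c := card_eq_of_card_le (hS.to_subgroup _) d0 h
    rw [c, ← pow_two] at e4
    have d1 : _root_.commutator S ≤ center S := Cls5.Ct_top (G := S) ▸
      le_Ct_of_card_le (hS.to_subgroup ⊤) (hS.to_subgroup _) le_normalizer_of_normal h
    have d2 : ∀ a b : S, ⁅a, b⁆ ∈ _root_.commutator S := fun a b => commutator_mem_commutator (mem_top a) (mem_top b)
    refine Or.inl ⟨c, ⟨Solv.isMulCommutative_iff.2 fun a _ b _ => ?_, fun a _ => ?_⟩, e4, ?_⟩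
    · obtain ⟨a, rfl⟩ := QuotientGroup.mk'_surjective _ a
      obtain ⟨b, rfl⟩ := QuotientGroup.mk'_surjective _ b
      exact Cls5.map_comm_iff.2 (d1 (d2 a b))
    · obtain ⟨a, rfl⟩ := QuotientGroup.mk'_surjective _ a
      rw [← map_pow, QuotientGroup.mk'_apply, QuotientGroup.eq_one_iff, mem_center_iff]
      intro b
      refine (commutatorElement_eq_one_iff_mul_comm.1 ?_).symm
      rw [MinNA.comm_pow_left (mem_center_iff.1 (d1 (d2 a b)) a).symm, ← c]
      exact congrArg Subtype.val (pow_card_eq_one' (x := (⟨_, d2 a b⟩ : _root_.commutator S)))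
    · have cS : Nat.card S = p ^ 2 * Nat.card (center S) := by rw [← e4, index_mul_card]
      have cB : ∀ B : Subgroup S, B.index = p → Nat.card B = p * Nat.card (center S) := fun B hB =>
        Nat.eq_of_mul_eq_mul_left hp.pos (by rw [← mul_assoc, ← pow_two, ← cS, ← index_mul_card B, hB])
      have key : ∀ (B : Subgroup S), center S ≤ B → Nat.card {y : S // y ∉ center S ∧ y ∈ B} + Nat.card (center S) = Nat.card B := by
        intro B hB
        have := Transfer.cnt_split (fun y : S => y ∈ B) (fun y => y ∈ center S)
        rw [Transfer.cnt_congr (q := fun y => y ∈ center S) fun y => ⟨And.right, fun e => ⟨hB e, e⟩⟩,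
          Transfer.cnt_congr (q := fun y => y ∉ center S ∧ y ∈ B) fun y => and_comm] at this
        exact (add_comm _ _).trans this.symm
      have k := Transfer.cnt_mul_eq (p := fun B : Subgroup S => IsMulCommutative B ∧ B.index = p) (q := fun y : S => y ∉ center S)
        (fun B y => y ∈ B) (m := (p - 1) * Nat.card (center S)) (n := 1) (fun B hB => by
          have := key B (zb B hB.1 hB.2)
          rw [cB B hB.2] at this
          rw [Nat.sub_mul]; omega) (fun y hy => by
          have a1 : C1(y) ≠ ⊤ := fun e => hy (mem_center_iff.2 fun g => mem_centralizer_singleton_iff.1 (e ▸ mem_top g))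
          have a2 : center S < center S ⊔ zpowers y := left_lt_sup.2 (mt zpowers_le.1 hy)
          have a3 : center S ⊔ zpowers y ≤ C1(y) :=
            sup_le (Cls5.center_le_C1 y) (zpowers_le.2 (mem_centralizer_singleton_iff.2 rfl))
          have a4 := mul_card_le_of_lt (hS.to_subgroup _) a2
          have a5 := mul_card_le_of_lt (hS.to_subgroup ⊤) (lt_top_iff_ne_top.2 a1)
          rw [card_top, cS, pow_two, mul_assoc] at a5
          have a6 := Nat.le_of_mul_le_mul_left a5 hp.pos
          have a7 := eq_of_le_of_card_ge a3 (a6.trans a4)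
          have a8 : C1(y).index = p := Nat.eq_of_mul_eq_mul_right (Nat.card_pos (α := C1(y))) (by
            rw [index_mul_card, cS, le_antisymm a6 (a7 ▸ a4)]; ring)
          rw [Transfer.cnt_congr (q := fun B => B = C1(y)) fun B => ⟨fun ⟨⟨b1, b2⟩, b3⟩ =>
            ((Solv.isCoatom_of_index_prime (b2 ▸ hp : B.index.Prime)).le_iff.1 (fun g hg =>
              mem_centralizer_singleton_iff.2 (Solv.isMulCommutative_iff.1 b1 g hg y b3))).elim (fun e => absurd e a1) Eq.symm,
            fun e => e ▸ ⟨⟨a7 ▸ Solv.isMulCommutative_sup_zpowers inferInstance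
              (le_centralizer_iff.1 (Subgroup.center_le_centralizer _) (mem_top y)), a8⟩,
                mem_centralizer_singleton_iff.2 rfl⟩⟩, Transfer.cnt_eq_one])
      have k2 := key ⊤ le_top
      rw [card_top, cS, Transfer.cnt_congr (q := fun y => y ∉ center S) fun y => and_iff_left (mem_top y), ← mul_one (Nat.card {y // _}),
        ← k] at k2
      obtain ⟨q, rfl⟩ := Nat.exists_eq_succ_of_ne_zero hp.ne_zero
      have q0 : 0 < q := by have := hp.one_lt; omega
      refine Nat.eq_of_mul_eq_mul_right (Nat.mul_pos q0 z0) ?_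
      simp only [Nat.succ_eq_add_one, Nat.add_sub_cancel] at k2 ⊢
      nlinarith
  · refine Or.inr ⟨?_, fun B h1 h2 => ?_⟩
    · obtain ⟨k, hk⟩ := IsPGroup.iff_card.1 (hS.to_subgroup (_root_.commutator S))
      rw [hk] at h ⊢
      refine Nat.pow_le_pow_right hp.pos (by_contra fun e => h ?_)
      exact (Nat.pow_le_pow_right hp.pos (by omega : k ≤ 1)).trans (pow_one p).le
    by_contra e
    have s' := Solv.sup_eq_top_of_not_le_coatom m fun t : B ≤ A =>
      e (((Solv.isCoatom_of_index_prime (h2 ▸ hp : B.index.Prime)).le_iff.1 t).resolve_left m.1).symm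
    have a1 : A ⊓ B ≤ center S := by
      rw [← Cls5.Ct_top, ← s', le_centralizer_iff, sup_le_iff]
      exact ⟨le_centralizer_iff.1 (inf_le_left.trans (le_centralizer_iff_isMulCommutative.2 hA)),
        le_centralizer_iff.1 (inf_le_right.trans (le_centralizer_iff_isMulCommutative.2 h1))⟩
    have a2 := (index_antitone a1).trans index_inf_le
    rw [e4, hAi, h2] at a2
    exact h (Nat.le_of_mul_le_mul_left a2 hp.pos)

end Cfsg.Agent.S3807
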