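import Cfsg.Statements.S3808
import Cfsg.Agent.Lib.BG.ES2
import Cfsg.Agent.Lib.BG.Extra

set_option autoImplicit false
open Cfsg

namespace Cfsg.Agent.S3808

/-- Let S be a finite p-group with an extraspecial subgroup Q of index p. Then either Z(S) = Z(Q), or S = Q·Z(S) and Z(S) has order p². -/
theorem result {S : Type*} [Group S] [Finite S] (p : ℕ) [Fact p.Prime] (hS : IsPGroup p S) (Q : Subgroup S) (hQ : Cfsg.IsExtraspecial p ↥Q) (hQi : Q.index = p) :
    Subgroup.center S = (Subgroup.center ↥Q).map Q.subtype ∨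
      (Q ⊔ Subgroup.center S = ⊤ ∧ Nat.card (Subgroup.center S) = p ^ 2) := by
  open Pointwise commutatorElement Subgroup in
  open Cfsg.Agent.Comp Cfsg.Agent.BG Subgroup commutatorElement in
  have hp : p.Prime := Fact.out
  obtain ⟨h1, h2, h3⟩ := extraspecial_spec hQ
  rw [map_center_subtype Q]
  have a : Q ⊓ center S ≤ Q ⊓ Ct(Q) := inf_le_inf_left _ (Subgroup.center_le_centralizer _)
  have m := Solv.isCoatom_of_index_prime (hQi ▸ hp : Q.index.Prime)
  haveI := hS.isNilpotent
  haveI : Q.Normal := Solv.coatom_normal_of_nilpotent m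
  have b : Q ⊓ Ct(Q) ≤ center S := Cls5.Ct_top (G := S) ▸
    le_Ct_of_card_le (hS.to_subgroup ⊤) (hS.to_subgroup _) le_normalizer_of_normal h3.le
  have c : Q ⊓ center S = Q ⊓ Ct(Q) := le_antisymm a (le_inf inf_le_left b)
  by_cases h : center S ≤ Q
  · exact Or.inl ((inf_eq_right.2 h).symm.trans c)
  have d : Q ⊔ center S = ⊤ := Solv.sup_eq_top_of_not_le_coatom m h
  refine Or.inr ⟨d, ?_⟩
  rw [← Solv.card_inf_mul_relIndex Q, ← relIndex_sup_left, d, c, h3, relIndex_top_right, hQi, pow_two]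

end Cfsg.Agent.S3808
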