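import Cfsg.Statements.S3809
import Cfsg.Agent.Lib.BG.ES2
import Cfsg.Agent.Lib.BG.Extra
import Cfsg.Agent.S0095

set_option autoImplicit false
open Cfsg

namespace Cfsg.Agent.S3809

/-- Let S be a finite p-group with an extraspecial subgroup of index p. Then S has order p^(2+2n) for some n ≥ 1, derived length at most 3, and exponent dividing p³. -/
theorem result {S : Type*} [Group S] [Finite S] (p : ℕ) [Fact p.Prime] (hS : IsPGroup p S) (Q : Subgroup S) (hQ : Cfsg.IsExtraspecial p ↥Q) (hQi : Q.index = p) :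
    (∃ n : ℕ, 1 ≤ n ∧ Nat.card S = p ^ (2 + 2 * n)) ∧ derivedSeries S 3 = ⊥ ∧ ∀ x : S, x ^ (p ^ 3) = 1 := by
  open Pointwise commutatorElement Subgroup in
  open Cfsg.Agent.Comp Cfsg.Agent.BG Subgroup commutatorElement in
  have hp : p.Prime := Fact.out
  obtain ⟨h1, h2, h3⟩ := extraspecial_spec hQ
  have m := Solv.isCoatom_of_index_prime (hQi ▸ hp : Q.index.Prime)
  have f : frattini S ≤ Q := Solv.le_frattini_iff.1 le_rfl Q m
  refine ⟨?_, ?_, fun x => ?_⟩
  · obtain ⟨n, hn, e⟩ := S0095.result hQ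
    exact ⟨n, hn, by rw [← card_mul_index Q, e, hQi]; ring⟩
  · have a : derivedSeries S 1 ≤ Q := (Solv.commutator_le_frattini_of_isPGroup hS).trans f
    have b : derivedSeries S 2 ≤ Q ⊓ Ct(Q) := (commutator_mono a a).trans h2.le
    exact commutator_eq_bot_iff_le_centralizer.2 ((b.trans inf_le_right).trans (centralizer_le (b.trans inf_le_left)))
  · have a := Solv.pow_mem_frattini hQ.1.1 ⟨_, f (Solv.pow_mem_frattini hS x)⟩
    rw [hQ.1.2.1] at a
    have b := congrArg (fun t => ((t.1 : Q) : S)) (pow_card_eq_one' (x := (⟨_, a⟩ : center Q)))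
    rw [hQ.2] at b
    simpa [← pow_mul, pow_succ] using b

end Cfsg.Agent.S3809
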