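import Cfsg.Statements.S3810
import Cfsg.Agent.S3807
import Cfsg.Agent.Lib.BG.Extra
import Cfsg.Agent.S0095

set_option autoImplicit false
open Cfsg

namespace Cfsg.Agent.S3810

/-- Let S be a finite p-group with an extraspecial subgroup of index p. Then S has an abelian subgroup of index p if and only if S has order p⁴. -/
theorem result {S : Type*} [Group S] [Finite S] (p : ℕ) [Fact p.Prime] (hS : IsPGroup p S) (Q : Subgroup S) (hQ : Cfsg.IsExtraspecial p ↥Q) (hQi : Q.index = p) :
    (∃ A : Subgroup S, IsMulCommutative ↥A ∧ A.index = p) ↔ Nat.card S = p ^ 4 := by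
  open Pointwise commutatorElement Subgroup in
  open Cfsg.Agent.Comp Cfsg.Agent.BG Subgroup commutatorElement in
  have hp : p.Prime := Fact.out
  have nq : ¬ IsMulCommutative Q := fun e => extraspecial_der_ne_bot hp hQ (commutator_self_eq_bot_iff.2 e)
  constructor
  · rintro ⟨A, h1, h2⟩
    have a : (A.subgroupOf Q).index = p := by
      haveI := hS.isNilpotent
      haveI : A.Normal := Solv.coatom_normal_of_nilpotent (Solv.isCoatom_of_index_prime (h2 ▸ hp : A.index.Prime))
      refine ((Nat.dvd_prime hp).1 (h2 ▸ relIndex_dvd_index_of_normal A Q)).resolve_left fun e => nq ?_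
      exact le_centralizer_iff_isMulCommutative.1 ((relIndex_eq_one.1 e).trans
        ((le_centralizer_iff_isMulCommutative.2 h1).trans (centralizer_le (relIndex_eq_one.1 e))))
    have b := (S3807.result p hQ.1.1 nq (A.subgroupOf Q) inferInstance a).1
    rw [hQ.1.2.2, hQ.2] at b
    rw [← card_mul_index Q, ← card_mul_index (center Q), b, hQ.2, hQi]; ring
  · intro h
    obtain ⟨N, -, n1, n2⟩ := Solv.exists_normal_card (L := ⊤) (M := ⊤) (hS.to_subgroup ⊤).isNilpotent (hS.to_subgroup ⊤) le_rfl
      le_normalizer 2 (by rw [card_top, h]; exact Nat.pow_le_pow_right hp.pos (by norm_num))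
    have c1 := relIndex_Ct_le (hS.to_subgroup ⊤) (hS.to_subgroup N) n2 n1.le
    have c2 := comm_of_card_le (hS.to_subgroup N) n1.le
    obtain ⟨x, x1, x2⟩ : ∃ x ∈ Ct(N), x ∉ N := by
      by_contra e
      push Not at e
      have a := card_mul_index Ct(N)
      have b := (card_le_of_le e).trans n1.le
      have := Nat.mul_le_mul b (relIndex_top_right Ct(N) ▸ c1)
      rw [a, h, ← pow_succ] at this
      have := (Nat.pow_le_pow_iff_right hp.one_lt).1 this
      omega
    have c3 := Solv.isMulCommutative_sup_zpowers c2 x1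
    refine ⟨_, c3, ?_⟩
    have a := pow_le_card_of_lt (hS.to_subgroup _) (left_lt_sup.2 (mt zpowers_le.1 x2)) n1.ge
    have b := card_le_pow_of_lt (k := 3) (hS.to_subgroup ⊤) (lt_top_iff_ne_top.2 fun e : N ⊔ zpowers x = ⊤ => nq
      (le_centralizer_iff_isMulCommutative.1 (le_top.trans ((le_centralizer_iff_isMulCommutative.2 (e ▸ c3)).trans
        (centralizer_le (Set.subset_univ _)))))) (by rw [card_top, h])
    refine Nat.eq_of_mul_eq_mul_left (pow_pos hp.pos 3) ?_
    rw [← pow_succ, ← h, ← card_mul_index (N ⊔ zpowers x), le_antisymm b a]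

end Cfsg.Agent.S3810
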