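import Cfsg.Statements.S3815
import Cfsg.Agent.Lib.Solv.Cores

set_option autoImplicit false
open Cfsg

namespace Cfsg.Agent.S3815

/-- Let G be a finite group, p a prime and d ∈ G an element of order prime to p. If dg has order prime to p for every element g ∈ G of order prime to p, then d ∈ O_{p'}(G). -/
theorem result {G : Type*} [Group G] [Finite G] {p : ℕ} [Fact p.Prime]
    (d : G) (hd : (orderOf d).Coprime p)
    (h : ∀ g : G, (orderOf g).Coprime p → (orderOf (d * g)).Coprime p) :
    d ∈ Cfsg.pPrimeCore p G := by
  open Pointwise commutatorElement Subgroup Cfsg.Agent.Solv in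
  let D : Subgroup G :=
    { carrier := {d | ∀ g : G, (orderOf g).Coprime p → (orderOf (d * g)).Coprime p}
      one_mem' := fun g hg => by rwa [one_mul]
      mul_mem' := fun {a b} ha hb g hg => by rw [mul_assoc]; exact ha _ (hb g hg)
      inv_mem' := fun {a} ha g hg => by
        have key : ∀ n : ℕ, (orderOf (a ^ n * g)).Coprime p := by
          intro n
          induction n with
          | zero => simpa using hg
          | succ n ih => rw [pow_succ', mul_assoc]; exact ha _ ih
        have : a⁻¹ = a ^ (orderOf a - 1) := by
          rw [inv_eq_iff_mul_eq_one, ← pow_succ', Nat.sub_add_cancel (orderOf_pos a), pow_orderOf_eq_one]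
        rw [this]; exact key _ }
  have hn : D.Normal := ⟨fun a ha x g hg => by
    have h1 : orderOf (x * a * x⁻¹ * g) = orderOf (a * (x⁻¹ * g * x)) := by
      rw [← orderOf_injective (MulAut.conj x).toMonoidHom (MulAut.conj x).injective (a * (x⁻¹ * g * x))]
      congr 1
      simp [mul_assoc]
    rw [h1]
    apply ha
    have h2 : orderOf (x⁻¹ * g * x) = orderOf g := by
      rw [← orderOf_injective (MulAut.conj x⁻¹).toMonoidHom (MulAut.conj x⁻¹).injective g]
      congr 1
      simp [mul_assoc]
    rwa [h2]⟩
  have hD : (Nat.card D).Coprime p := by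
    rw [Nat.coprime_comm, (Fact.out : p.Prime).coprime_iff_not_dvd]
    intro hp
    obtain ⟨x, hx⟩ := exists_prime_orderOf_dvd_card' p hp
    have h1 := x.2 1 (by simp)
    rw [mul_one, Subgroup.orderOf_coe, hx] at h1
    exact (Fact.out : p.Prime).one_lt.ne' (Nat.coprime_self _ |>.1 h1)
  exact le_pPrimeCore hD (show d ∈ D from h)

end Cfsg.Agent.S3815
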