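import Cfsg.Statements.S3821
import Cfsg.Agent.Lib.Comp.Basic

set_option autoImplicit false
open Cfsg

namespace Cfsg.Agent.S3821

/-- Let A be a normal subgroup of the finite group G and H a subgroup of A. Then H is pronormal in G (H and gHg⁻¹ conjugate inside ⟨H, gHg⁻¹⟩ for every g ∈ G) if and only if H is pronormal in A and G = A · N_G(H). -/
theorem result {G : Type*} [Group G] [Finite G] (A H : Subgroup G) [A.Normal] (hHA : H ≤ A) :
    Cfsg.IsPronormal H ↔ (Cfsg.IsPronormal (H.subgroupOf A) ∧ A ⊔ Subgroup.normalizer (H : Set G) = ⊤) := by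
  open Pointwise commutatorElement Subgroup in
  open Cfsg.Agent.Comp in
  have hsub : ∀ (a : A), (cj(a, H.subgroupOf A)).map A.subtype = cj((a : G), H) := by
    intro a
    rw [map_cj, subgroupOf_map_subtype, inf_eq_left.2 hHA]; rfl
  have hsup : ∀ (a : A), (H.subgroupOf A ⊔ cj(a, H.subgroupOf A)).map A.subtype = H ⊔ cj((a : G), H) := by
    intro a
    rw [Subgroup.map_sup, hsub, subgroupOf_map_subtype, inf_eq_left.2 hHA]
  constructor
  · intro h
    have hle : ∀ g : G, H ⊔ cj(g, H) ≤ A := fun g =>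
      sup_le hHA (cj_le_of_mem hHA (by rw [normalizer_eq_top]; trivial))
    refine ⟨fun a => ?_, ?_⟩
    · obtain ⟨x, hx, e⟩ := h a
      refine ⟨⟨x, hle _ hx⟩, ?_, ?_⟩
      · rw [← hsup] at hx
        obtain ⟨y, hy, rfl⟩ := hx
        exact hy
      · apply map_injective A.subtype_injective
        rw [hsub, hsub, e]
    · rw [eq_top_iff]
      intro g _
      obtain ⟨x, hx, e⟩ := h g
      have h1 : x⁻¹ * g ∈ normalizer (H : Set G) := by
        rw [← cj_eq_self_iff, cj_mul, e, cj_inv_cj]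
      rw [← mul_inv_cancel_left x g]
      exact mul_mem (mem_sup_left (hle _ hx)) (mem_sup_right h1)
  · rintro ⟨h1, h2⟩ g
    have : g ∈ A ⊔ normalizer (H : Set G) := h2 ▸ mem_top g
    obtain ⟨a, ha, n, hn, rfl⟩ := (mem_sup_of_le_normalizer' (by rw [normalizer_eq_top A]; exact le_top)).1 this
    have e0 : cj(a * n, H) = cj(a, H) := by rw [cj_mul, cj_eq_self_iff.2 hn]
    obtain ⟨x, hx, e⟩ := h1 ⟨a, ha⟩
    rw [e0]
    refine ⟨x, ?_, ?_⟩
    · have := hsup ⟨a, ha⟩
      rw [← this]
      exact mem_map_of_mem _ hx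
    · have := congrArg (Subgroup.map A.subtype) e
      rwa [hsub, hsub] at this

end Cfsg.Agent.S3821
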