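import Cfsg.Statements.S3824
import Cfsg.Agent.Lib.BG.Kaz

set_option autoImplicit false
open Cfsg

namespace Cfsg.Agent.S3824

/-- Every finite group having an abelian subgroup whose index is a power of 2 is solvable. -/
theorem result {G : Type*} [Group G] [Finite G]
    (A : Subgroup G) (hA : IsMulCommutative A) (hidx : ∃ k : ℕ, A.index = 2 ^ k) : Group.IsSolvable G := by
  open Pointwise commutatorElement Subgroup in
  open Cfsg.Agent.Comp Cfsg.Agent.BG in
  obtain ⟨k, hk⟩ := hidx
  have : (Sol (⊤ : Subgroup G)).Normal := Comp.normal_iff_top_le_normalizer.2 (le_normalizer_Sol_of_le le_rfl)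
  have a : A ≤ Sol ⊤ := fun x hx => by
    obtain ⟨b, -, hb⟩ := (Nat.dvd_prime_pow Nat.prime_two).1
      (hk ▸ index_dvd_of_le (le_centralizer_singleton_iff.2 (comm_iff_le.1 hA hx)))
    exact kazarin Nat.prime_two G x b hb
  obtain ⟨b, -, hb⟩ := (Nat.dvd_prime_pow Nat.prime_two).1 (hk ▸ index_dvd_of_le a)
  have := (IsPGroup.of_card (G := G ⧸ Sol (⊤ : Subgroup G)) hb).isNilpotent
  exact Solv.isSolvable_of_normal_of_quotient _ (isSolvable_Sol ⊤) inferInstance

end Cfsg.Agent.S3824
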