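import Cfsg.Statements.S3825
import Cfsg.Agent.Lib.Solv.PGrp
import Cfsg.Agent.Lib.Transfer.Cyc2
import Mathlib.GroupTheory.FixedPointFree

set_option autoImplicit false
open Cfsg

namespace Cfsg.Agent.S3825

/-- Let U be a subgroup of a finite group H and w an involution of H normalizing U and commuting with exactly two elements of U, the identity and y. If V is a non-cyclic elementary abelian 2-subgroup of U containing y which is normal in U and invariant under w, then V is a Sylow 2-subgroup of U, V has order 4, and U/V is abelian. -/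
theorem result {H : Type*} [Group H] [Finite H] (U : Subgroup H) (w : H) (hw : orderOf w = 2)
    (hwU : w ∈ Subgroup.normalizer (U : Set H)) (y : H) (hy : y ≠ 1) (hyU : y ∈ U)
    (hfix : ∀ u ∈ U, w * u * w⁻¹ = u ↔ (u = 1 ∨ u = y))
    (V : Subgroup H) (hVU : V ≤ U) (hVn : (V.subgroupOf U).Normal) (hVw : ∀ v ∈ V, w * v * w⁻¹ ∈ V)
    (hVe : Cfsg.IsElementaryAbelian 2 V) (hVc : ¬ IsCyclic ↥V) (hyV : y ∈ V) :
    ¬ 2 ∣ V.relIndex U ∧ Nat.card ↥V = 4 ∧ ⁅U, U⁆ ≤ V := by
  open Pointwise commutatorElement Subgroup Cfsg.Agent.Solv in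
  have hww : w * w = 1 := Cfsg.Agent.Transfer.mul_self_of_orderOf hw
  have hc := Solv.isMulCommutative_iff.1 hVe.1
  have hsq : ∀ v ∈ V, v⁻¹ = v := fun v hv => by
    rw [inv_eq_iff_mul_eq_one, ← pow_two]; exact hVe.2 v hv
  have hwi : w⁻¹ = w := inv_eq_iff_mul_eq_one.2 hww
  have hfix' : ∀ v ∈ V, w * v * w⁻¹ * v⁻¹ = 1 ∨ w * v * w⁻¹ * v⁻¹ = y := by
    intro v hv
    refine (hfix _ (hVU (mul_mem (hVw v hv) (inv_mem hv)))).1 ?_
    calc _ = (w * w) * v * (w * w)⁻¹ * (w * v * w⁻¹)⁻¹ := by group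
      _ = _ := by rw [hww, hsq _ (hVw v hv), hsq _ hv, ← hc _ hv _ (hVw v hv)]; simp
  let f : V →* H := MonoidHom.mk' (fun a => w * a * w⁻¹ * (a : H)⁻¹) fun a b => by
    have := hc _ (inv_mem a.2) _ (mul_mem (hVw _ b.2) (inv_mem b.2))
    calc _ = w * a * w⁻¹ * (w * b * w⁻¹ * (b : H)⁻¹ * (a : H)⁻¹) := by push_cast; group
      _ = _ := by rw [← this]; group
  have hy2 : orderOf y = 2 := Cfsg.Agent.Transfer.orderOf_eq_two (by rw [← pow_two]; exact hVe.2 y hyV) hy
  have hyy : y * y = 1 := Cfsg.Agent.Transfer.mul_self_of_orderOf hy2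
  have hker : f.ker = (zpowers y).subgroupOf V := by
    ext a
    rw [MonoidHom.mem_ker, mem_subgroupOf, Cfsg.Agent.Transfer.mem_zpowers_iff_of_sq hyy, ← hfix _ (hVU a.2)]
    exact mul_inv_eq_one
  have hrange : f.range = zpowers y := by
    refine le_antisymm ?_ ?_
    · rintro _ ⟨a, rfl⟩
      exact (Cfsg.Agent.Transfer.mem_zpowers_iff_of_sq hyy).2 (hfix' _ a.2)
    · rw [zpowers_le]
      by_contra h
      apply hVc
      rw [isCyclic_iff_exists_le_zpowers]
      refine ⟨y, hyV, fun v hv => ?_⟩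
      rcases hfix' v hv with h' | h'
      · have : (⟨v, hv⟩ : V) ∈ f.ker := h'
        rwa [hker] at this
      · exact absurd ⟨⟨v, hv⟩, h'⟩ h
  have hcard : Nat.card V = 4 := by
    rw [← index_mul_card f.ker, index_ker, hrange, hker, card_subgroupOf_of_le (zpowers_le.2 hyV),
      Nat.card_zpowers, hy2]
  let φ : U ≃* U := U.normalizerMonoidHom ⟨w, hwU⟩
  have hφ : ∀ u : U, (φ u : H) = w * u * w⁻¹ := fun u => rfl
  let ψ : U ⧸ V.subgroupOf U →* U ⧸ V.subgroupOf U :=
    QuotientGroup.map _ _ φ.toMonoidHom (fun u hu => hVw _ hu)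
  have hinv : Function.Involutive ψ := by
    intro q
    induction q using QuotientGroup.induction_on with
    | H u =>
    change ((φ (φ u) : U) : U ⧸ V.subgroupOf U) = u
    congr 1
    apply Subtype.ext
    rw [hφ, hφ]
    calc _ = (w * w) * u * (w * w)⁻¹ := by group
      _ = _ := by rw [hww]; simp
  have hfpf : MonoidHom.FixedPointFree ψ := by
    intro q hq
    induction q using QuotientGroup.induction_on with
    | H u =>
    change ((φ u : U) : U ⧸ V.subgroupOf U) = u at hq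
    rw [eq_comm, QuotientGroup.eq, mem_subgroupOf] at hq
    rw [QuotientGroup.eq_one_iff, mem_subgroupOf]
    change (u : H)⁻¹ * (w * u * w⁻¹) ∈ V at hq
    set v := (u : H)⁻¹ * (w * u * w⁻¹) with hv
    have e1 : w * v * w⁻¹ = v := by
      rw [← hsq v hq]
      nth_rewrite 1 [hsq v hq]
      calc _ = (w * u * w⁻¹)⁻¹ * ((w * w) * u * (w * w)⁻¹) := by rw [hv]; group
        _ = _ := by rw [hww, hv]; group
    have hV' : ∀ u ∈ U, w * u * w⁻¹ = u → u ∈ V := fun u hu h => by
      rcases (hfix u hu).1 h with rfl | rfl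
      exacts [one_mem _, hyV]
    rcases (hfix v (hVU hq)).1 e1 with h | h
    · exact hV' _ u.2 (inv_mul_eq_one.1 h).symm
    · obtain ⟨a, ha⟩ : y ∈ f.range := hrange ▸ mem_zpowers y
      change w * a * w⁻¹ * (a : H)⁻¹ = y at ha
      refine (mul_mem_cancel_right a.2).1 (hV' _ (mul_mem u.2 (hVU a.2)) ?_)
      calc _ = u * v * (w * a * w⁻¹ * (a : H)⁻¹) * a := by rw [hv]; group
        _ = _ := by rw [h, ha, mul_assoc (u : H), hyy, mul_one]
  refine ⟨?_, hcard, ?_⟩
  · have := hfpf.odd_card_of_involutive hinv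
    exact fun h => (Nat.not_even_iff_odd.2 this) (even_iff_two_dvd.2 h)
  · rw [commutator_le]
    intro a ha b hb
    have := hfpf.commute_all_of_involutive hinv (⟨a, ha⟩ : U) (⟨b, hb⟩ : U)
    rw [← commutatorElement_eq_one_iff_commute] at this
    exact (QuotientGroup.eq_one_iff (⁅(⟨a, ha⟩ : U), (⟨b, hb⟩ : U)⁆)).1 this

end Cfsg.Agent.S3825
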