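import Cfsg.Statements.S5164
import Cfsg.Agent.Lib.Fusion.SimpleA

set_option autoImplicit false
open Cfsg

namespace Cfsg.Agent.S5164

open Subgroup Fusion Fusion.Sym Equiv Sum

theorem key {I J : Type} {p n : ℕ} [Fintype I] [Fintype J] [DecidableEq I] [DecidableEq J] [Fact p.Prime]
    (e : Om p I J ≃ Fin n) (hJ : Fintype.card J < p) (Q : Sylow p (Perm I))
    (S : Sylow p (alternatingGroup (Fin n))) : IsMulCommutative S ↔ ∀ x ∈ W J p Q.1 ⊓ alternatingGroup _,
      ∀ y ∈ W J p Q.1 ⊓ alternatingGroup _, x * y = y * x := by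
  obtain ⟨R, hR⟩ := (sylow_alt hJ Q).exists_sylow
  obtain ⟨φ⟩ := sylow_equiv_of_hom e.altCongrHom.toMonoidHom R (fun x _ h => by simpa using h)
    (by rw [Nat.card_congr e.altCongrHom.toEquiv]) S
  constructor
  · intro h x hx y hy
    have := φ.injective ((map_mul φ ⟨⟨x, hx.2⟩, hR ▸ hx⟩ ⟨⟨y, hy.2⟩, hR ▸ hy⟩).trans
      ((h.is_comm.comm _ _).trans (map_mul φ _ _).symm))
    exact congrArg (fun z => z.1.1) this
  · intro h
    refine ⟨⟨fun x y => ?_⟩⟩
    obtain ⟨x, rfl⟩ := φ.surjective x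
    obtain ⟨y, rfl⟩ := φ.surjective y
    rw [← map_mul, ← map_mul]
    exact congrArg φ (Subtype.ext (Subtype.ext (h _ (mem_subgroupOf.1 (hR ▸ x.2)) _ (mem_subgroupOf.1 (hR ▸ y.2)))))

/-- For n ≥ 6 and a prime p, a nontrivial Sylow p-subgroup of the alternating group of degree n is abelian if and only if n < p². -/
theorem result (n p : ℕ) (hn : 6 ≤ n) [Fact p.Prime] (S : Sylow p (alternatingGroup (Fin n))) (hS : (S : Subgroup (alternatingGroup (Fin n))) ≠ ⊥) : IsMulCommutative S ↔ n < p ^ 2 := by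
  have hp : p.Prime := Fact.out
  have hJ : Fintype.card (Fin (n % p)) < p := by simpa using Nat.mod_lt _ hp.pos
  refine ⟨fun h => lt_of_not_ge fun hnp => ?_, fun h => ?_⟩
  · have h1 : p ≤ n / p := (Nat.le_div_iff_mul_le hp.pos).2 (sq p ▸ hnp)
    have h3 : 3 ≤ n / p := by
      by_cases h2 : p = 2
      · subst h2; omega
      · have := hp.two_le; omega
    have e : Om p (ZMod p ⊕ Fin (n / p - p)) (Fin (n % p)) ≃ Fin n :=
      Fintype.equivOfCardEq (by simp [Nat.add_sub_cancel' h1, Nat.div_add_mod'])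
    obtain ⟨Q, hQ⟩ := IsPGroup.exists_le_sylow (pgroup_zpowers (p := p) (g := tr (I := Fin (n / p - p))
      (1 : ZMod p)) (k := 1) (by rw [pow_one, tr_pow']))
    obtain ⟨k, k1, k2⟩ := exists_third (I := ZMod p ⊕ Fin (n / p - p))
      (by simpa [Nat.add_sub_cancel' h1] using h3) (inl 0) (inl 1)
    have := DFunLike.congr_fun ((key e hJ Q S).1 h _ ⟨bl_mem (zpowers_le.1 hQ),
      bl_mem_alt ⟨1, by rw [pow_one, tr_pow']⟩⟩ _ ⟨bs_mem _, (t_mem (inl 0) k).2⟩) (inl (inl 0, 0))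
    simp [ind, k1.symm, k2.symm] at this
  · have e : Om p (Fin (n / p)) (Fin (n % p)) ≃ Fin n := Fintype.equivOfCardEq (by simp [Nat.div_add_mod'])
    obtain ⟨Q⟩ : Nonempty (Sylow p (Perm (Fin (n / p)))) := inferInstance
    have hQ : Q.1 = ⊥ := by
      rw [← card_eq_one, Q.card_eq_multiplicity, Nat.factorization_eq_zero_of_not_dvd, pow_zero]
      rw [Nat.card_perm, hp.dvd_factorial, not_le, Nat.card_eq_fintype_card, Fintype.card_fin,
        Nat.div_lt_iff_lt_mul hp.pos]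
      exact sq p ▸ h
    refine (key e hJ Q S).2 fun x hx y hy => ?_
    rw [hQ] at hx hy
    obtain ⟨a, rfl⟩ := mem_W_bot.1 hx.1
    obtain ⟨b, rfl⟩ := mem_W_bot.1 hy.1
    rw [← bs_add, ← bs_add, add_comm]

end Cfsg.Agent.S5164
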