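import Cfsg.Statements.S3835
import Mathlib
import Cfsg.Agent.Lib.Fusion.Qd
import Cfsg.Agent.S5164
import Cfsg.Agent.S2231

set_option autoImplicit false
open Cfsg

namespace Cfsg.Agent.S3835

open Subgroup Matrix Cfsg.Agent.Qd Cfsg.Agent.Fusion Cfsg.Agent.Transfer

def act {F : Type*} [Field F] (q : qdOver F) (x : Fin 2 → F) : Fin 2 → F :=
  (lin q).1 *ᵥ x + ![q.1.1 0 2, q.1.1 1 2]

theorem act_mkQ {F : Type*} [Field F] (A : SL2 F) (v x : Fin 2 → F) :
    act (mkQ A v) x = A.1 *ᵥ x + v := by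
  unfold act
  rw [lin_mkQ, coe_mkQ]
  congr 1
  ext i; fin_cases i <;> rfl

@[reducible] def actM (F : Type*) [Field F] : MulAction (qdOver F) (Fin 2 → F) where
  smul := act
  one_smul x := by
    change act 1 x = x
    rw [← mkQ_one, act_mkQ]; simp
  mul_smul a b x := by
    change act (a * b) x = act a (act b x)
    obtain ⟨A, v, rfl⟩ := mkQ_surj a
    obtain ⟨B, w, rfl⟩ := mkQ_surj b
    rw [mkQ_mul, act_mkQ, act_mkQ, act_mkQ, mulVec_add, sl2_mulVec_mulVec]
    abel

theorem exists_inj (F : Type*) [Field F] :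
    ∃ f : qdOver F →* Equiv.Perm (Fin 2 → F), Function.Injective f := by
  letI := actM F
  refine ⟨MulAction.toPermHom _ _, (injective_iff_map_eq_one _).2 fun q hq => ?_⟩
  obtain ⟨A, v, rfl⟩ := mkQ_surj q
  have h : ∀ x, A.1 *ᵥ x + v = x := fun x =>
    (act_mkQ A v x).symm.trans (congrArg (fun σ : Equiv.Perm (Fin 2 → F) => σ x) hq)
  have h0 : v = 0 := by simpa using h 0
  rw [← mkQ_one, mkQ_inj]
  exact ⟨sl2_eq_of_mulVec fun x => by simpa [h0] using h x, h0⟩

theorem sign_triv {p : ℕ} [hp : Fact p.Prime] (h2 : p ≠ 2) (f : qdOver (ZMod p) →* ℤˣ)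
    (q : qdOver (ZMod p)) : f q = 1 := by
  have key : ∀ q : qdOver (ZMod p), q ^ p = 1 → f q = 1 := fun q hq => by
    have h := congrArg f hq
    rw [map_pow, map_one] at h
    rcases Int.units_eq_one_or (f q) with e | e
    · exact e
    · rw [e, (hp.out.odd_of_ne_two h2).neg_one_pow] at h
      exact absurd h (by decide)
  let s : SL2 (ZMod p) →* qdOver (ZMod p) := MonoidHom.mk' (fun A => mkQ A 0) fun A B => by
    rw [mkQ_mul]; simp
  obtain ⟨A, v, rfl⟩ := mkQ_surj q
  have e : mkQ A v = mkQ 1 v * s A := by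
    change _ = mkQ 1 v * mkQ A 0
    rw [mkQ_mul]; simp
  rw [e, map_mul, key _ (by rw [tr_pow, ← mkQ_one]; congr 1; ext i; simp), one_mul]
  refine SL2.transvection_induction (fun A => f (s A) = 1) (fun i j h c => key _ ?_)
    (fun A B hA hB => by simp only [map_mul] at hA hB ⊢; rw [hA, hB, one_mul]) A
  rw [← map_pow]
  have : ∀ n : ℕ, SpecialLinearGroup.transvection h c ^ n = SpecialLinearGroup.transvection h (n * c) := by
    intro n
    induction n with
    | zero => simp
    | succ n ih => rw [pow_succ, ih, ← SpecialLinearGroup.transvection_add]; push_cast; ring_nf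
  rw [this]; simp

open Fusion.Sym Equiv Sum in
theorem syl_comm {n p : ℕ} [Fact p.Prime] (h : n < p ^ 2) (S : Sylow p (alternatingGroup (Fin n))) :
    IsMulCommutative S := by
  have hp : p.Prime := Fact.out
  have hJ : Fintype.card (Fin (n % p)) < p := by simpa using Nat.mod_lt _ hp.pos
  have e : Om p (Fin (n / p)) (Fin (n % p)) ≃ Fin n := Fintype.equivOfCardEq (by simp [Nat.div_add_mod'])
  obtain ⟨Q⟩ : Nonempty (Sylow p (Perm (Fin (n / p)))) := inferInstance
  have hQ : Q.1 = ⊥ := by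
    rw [← card_eq_one, Q.card_eq_multiplicity, Nat.factorization_eq_zero_of_not_dvd, pow_zero]
    rw [Nat.card_perm, hp.dvd_factorial, not_le, Nat.card_eq_fintype_card, Fintype.card_fin,
      Nat.div_lt_iff_lt_mul hp.pos]
    exact sq p ▸ h
  refine (S5164.key e hJ Q S).2 fun x hx y hy => ?_
  rw [hQ] at hx hy
  obtain ⟨a, rfl⟩ := mem_W_bot.1 hx.1
  obtain ⟨b, rfl⟩ := mem_W_bot.1 hy.1
  rw [← bs_add, ← bs_add, add_comm]

theorem no_surj {n p : ℕ} [Fact p.Prime] (h : n < p ^ 2) (H : Subgroup (alternatingGroup (Fin n)))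
    (f : H →* qd p) (hf : Function.Surjective f) : False := by
  obtain ⟨S, hS⟩ := (S2231.pgrp p).exists_le_sylow
  obtain ⟨P, rfl⟩ := Sylow.mapSurjective_surjective hf p S
  obtain ⟨a, ha, ha'⟩ := hS (Subgroup.subset_closure (Set.mem_insert _ _))
  obtain ⟨b, hb, hb'⟩ := hS (Subgroup.subset_closure (Set.mem_insert_of_mem _ rfl))
  obtain ⟨T, hT⟩ := (P.2.map H.subtype).exists_le_sylow
  have hab : a * b = b * a := Subtype.ext (congrArg (fun x : T.1 => x.1)
    ((syl_comm h T).is_comm.comm ⟨a.1, hT ⟨a, ha, rfl⟩⟩ ⟨b.1, hT ⟨b, hb, rfl⟩⟩))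
  apply S2231.noncomm p
  rw [← ha', ← hb', ← map_mul, ← map_mul, hab]

/-- Let p be an odd prime and n a natural number. The alternating group of degree n has a subgroup isomorphic to Qd(p) (the natural semidirect product of an elementary abelian group of order p² by SL₂(p)) if and only if n ≥ p²; and if n < p² then Qd(p) is not even involved in it. -/
theorem result {p : ℕ} [Fact p.Prime] (hp : p ≠ 2) (n : ℕ) : ((∃ H : Subgroup (alternatingGroup (Fin n)), Nonempty (↥H ≃* ↥(Cfsg.qd p))) ↔ p ^ 2 ≤ n) ∧ (n < p ^ 2 → ¬ Cfsg.Involves ↥(Cfsg.qd p) ↥(alternatingGroup (Fin n))) := by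
  refine ⟨⟨?_, fun h => ?_⟩, ?_⟩
  · rintro ⟨H, ⟨e⟩⟩
    by_contra h
    exact no_surj (not_le.1 h) H e.toMonoidHom e.surjective
  · obtain ⟨f, hf⟩ := exists_inj (ZMod p)
    obtain ⟨ι⟩ : Nonempty ((Fin 2 → ZMod p) ↪ Fin n) :=
      Function.Embedding.nonempty_of_card_le (by simpa using h)
    let g := (Equiv.Perm.viaEmbeddingHom ι).comp f
    have hg : Function.Injective g := (Equiv.Perm.viaEmbeddingHom_injective ι).comp hf
    let g' : qdOver (ZMod p) →* alternatingGroup (Fin n) :=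
      g.codRestrict _ fun q => Equiv.Perm.mem_alternatingGroup.2 (sign_triv hp (Equiv.Perm.sign.comp g) q)
    have hg' : Function.Injective g' := fun a b hab => hg (congrArg Subtype.val hab)
    exact ⟨g'.range, ⟨(MonoidHom.ofInjective hg').symm⟩⟩
  · rintro h ⟨H, R, hR, ⟨e⟩⟩
    exact no_surj h H (e.toMonoidHom.comp (QuotientGroup.mk' _))
      (e.surjective.comp (QuotientGroup.mk'_surjective _))

end Cfsg.Agent.S3835
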