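import Cfsg.Statements.S3836
import Cfsg.Agent.Lib.Solv.Cores
import Cfsg.Agent.Lib.Comp.Basic

set_option autoImplicit false
open Cfsg

namespace Cfsg.Agent.S3836

/-- Let G be a finite group that is p-stable in the normalizer form: for every p-subgroup Q and every x ∈ N_G(Q) with [Q, x, x] = 1, the image of x in N_G(Q)/C_G(Q) lies in O_p(N_G(Q)/C_G(Q)). Then every subgroup of G is p-stable in the same sense. -/
theorem result {G : Type*} [Group G] [Finite G] {p : ℕ} [Fact p.Prime] (hst : Cfsg.IsNormalizerPStable p G) (H : Subgroup G) : Cfsg.IsNormalizerPStable p ↥H := by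
  open Pointwise commutatorElement Subgroup Cfsg.Agent.Solv in
  intro P hP g hg h
  have hP' : IsPGroup p (P.map H.subtype) := hP.map _
  have hmem : ∀ x : normalizer (P : Set H), (x : G) ∈ normalizer ((P.map H.subtype : Subgroup G) : Set G) := by
    intro x
    have : (x : G) ∈ (normalizer (P : Set H)).map H.subtype := mem_map_of_mem _ x.2
    rw [Cfsg.Agent.Comp.map_subtype_normalizer] at this
    exact this.2
  have h' : ⁅⁅P.map H.subtype, zpowers (g : G)⁆, zpowers (g : G)⁆ = ⊥ := by
    have := congrArg (Subgroup.map H.subtype) h
    rwa [Subgroup.map_commutator, Subgroup.map_commutator, MonoidHom.map_zpowers, Subgroup.map_bot] at this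
  have h1 := hst _ hP' g (hmem ⟨g, hg⟩) h'
  let f : normalizer (P : Set H) →* normalizer ((P.map H.subtype : Subgroup G) : Set G) :=
    (H.subtype.comp (normalizer (P : Set H)).subtype).codRestrict _ hmem
  have hk : ∀ x : normalizer (P : Set H), x ∈ (centralizer (P : Set H)).subgroupOf (normalizer (P : Set H)) ↔
      f x ∈ (centralizer ((P.map H.subtype : Subgroup G) : Set G)).subgroupOf (normalizer ((P.map H.subtype : Subgroup G) : Set G)) := by
    intro x
    rw [mem_subgroupOf, mem_subgroupOf, mem_centralizer_iff, mem_centralizer_iff]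
    constructor
    · rintro h _ ⟨y, hy, rfl⟩
      exact congrArg Subtype.val (h y hy)
    · intro h y hy
      exact Subtype.ext (h y (mem_map_of_mem _ hy))
  let F := QuotientGroup.map _ ((centralizer ((P.map H.subtype : Subgroup G) : Set G)).subgroupOf (normalizer ((P.map H.subtype : Subgroup G) : Set G))) f (fun x hx => (hk x).1 hx)
  have hF : Function.Injective F := by
    rw [injective_iff_map_eq_one]
    intro q hq
    induction q using QuotientGroup.induction_on with
    | H x =>
    rw [QuotientGroup.eq_one_iff, hk]
    exact (QuotientGroup.eq_one_iff _).1 hq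
  exact le_pCore ((isPGroup_pCore p _).comap_of_injective F hF) h1

end Cfsg.Agent.S3836
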