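import Cfsg.Statements.S3838
import Cfsg.Agent.Lib.Solv.Schmidt
import Cfsg.Agent.Lib.Solv.SZ
import Cfsg.Agent.Lib.Transfer.NPC

set_option autoImplicit false
open Cfsg

namespace Cfsg.Agent.S3838
section
open Pointwise commutatorElement Subgroup Cfsg.Agent.Solv
open Cfsg.Agent.Transfer
theorem hasNPC_of_le_frattini {G : Type*} [Group G] [Finite G] {p : ℕ} [hp : Fact p.Prime] {Q : Subgroup G} [Q.Normal]
    (hQ : IsPGroup p Q) (h1 : Q ≤ frattini G) (h2 : HasNormalPComplement p (G ⧸ Q)) : HasNormalPComplement p G := by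
  set K := (pResidual p (G ⧸ Q)).comap (QuotientGroup.mk' Q)
  have hQK : Q ≤ K := le_comap_mk _ _
  have h3 : Q.relIndex K = Nat.card (pResidual p (G ⧸ Q)) := by rw [← card_map_mk_eq_relIndex, map_comap_mk]
  have h4 : (Nat.card Q).Coprime (Q.relIndex K) := coprime_card_of_isPGroup hQ (h3 ▸ hasNPC_iff_not_dvd.1 h2)
  obtain ⟨L', hL⟩ := exists_right_complement'_of_coprime (N := Q.subgroupOf K) (by rwa [card_subgroupOf_of_le hQK])
  set L := L'.map K.subtype
  have h5 : Nat.card L = Q.relIndex K := by rw [card_subtype, IsComplement'.card_eq_index hL]; rfl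
  have h6 : Q ⊔ L = K := by
    have := congrArg (map K.subtype) hL.sup_eq_top
    rwa [Subgroup.map_sup, subgroupOf_map_subtype_of_le hQK, Comp.map_subtype_top] at this
  have h7 : L.Normal := normalizer_eq_top_iff.1 (eq_top_of_sup_le_frattini h1 (eq_top_iff.2 fun g _ => by
    obtain ⟨k, hk, h7⟩ := sz_conj_internal (A := L) (B := MulAut.conj g • L) (K := Q) le_normalizer_of_normal
      (h5 ▸ h4.symm) (.inr (have := hQ.isNilpotent; inferInstance)) (inf_eq_bot_of_coprime' (by rwa [card_conj_smul, h5])) (by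
        rw [h6, ← conj_smul_eq_self_iff.2 (le_normalizer_of_normal (H := Q) (mem_top g)), ← smul_sup, h6,
          conj_smul_eq_self_iff.2 (le_normalizer_of_normal (mem_top g))])
    rw [← eq_inv_smul_iff, ← map_inv, conj_smul_conj_smul, eq_comm, conj_smul_eq_self_iff] at h7
    exact (mul_mem_cancel_left (mem_sup_right (inv_mem hk))).1 (mem_sup_left h7)))
  obtain ⟨a, ha⟩ := hQ.exists_card_eq
  obtain ⟨b, hb⟩ := index_pResidual (p := p) (G := G ⧸ Q)
  refine hasNPC_of_normal (N := L) (h5 ▸ h3 ▸ hasNPC_iff_not_dvd.1 h2) (n := a + b) ?_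
  rw [pow_add, ← ha, ← hb, ← index_comap_mk, ← relIndex_mul_index (h6 ▸ le_sup_right : L ≤ K)]
  congr 1
  refine Nat.eq_of_mul_eq_mul_left (Nat.card_pos (α := L)) ?_
  rw [Solv.card_mul_relIndex (h6 ▸ le_sup_right : L ≤ K), h5, mul_comm, Solv.card_mul_relIndex hQK]
end

/-- Let G be a finite group with Sylow p-subgroup P such that N_G(P) has a normal p-complement. Then N_G(Q) has a normal p-complement for every subgroup Q with [P, P] ≤ Q ≤ Φ(P). -/
theorem result {G : Type*} [Group G] [Finite G] {p : ℕ} [Fact p.Prime] (P : Sylow p G) (hN : Cfsg.HasNormalPComplement p ↥(Subgroup.normalizer ((P : Subgroup G) : Set G))) (Q : Subgroup G) (h1 : (commutator ↥(P : Subgroup G)).map (P : Subgroup G).subtype ≤ Q) (h2 : Q ≤ (frattini ↥(P : Subgroup G)).map (P : Subgroup G).subtype) : Cfsg.HasNormalPComplement p ↥(Subgroup.normalizer (Q : Set G)) := by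
  open Pointwise commutatorElement Subgroup Cfsg.Agent.Solv in
  open Cfsg.Agent.Transfer in
  rw [map_subtype_commutator] at h1
  have hQP : Q ≤ P := h2.trans (map_subtype_le _)
  have hPH : (P : Subgroup G) ≤ normalizer (Q : Set G) :=
    le_normalizer_of_commutator_le_of_le ((commutator_mono hQP le_rfl).trans h1) le_rfl
  set H := normalizer (Q : Set G)
  haveI : (Q.subgroupOf H).Normal := normal_in_normalizer
  have hS := (isSylowIn_of_le P hPH).subgroupOf le_rfl
  refine hasNPC_of_le_frattini (Q := Q.subgroupOf H) (isPGroup_subgroupOf (P.2.to_le hQP) _)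
    (le_frattini_of_normal_le_map_frattini (H := (P : Subgroup G).subgroupOf H) ?_) ?_
  · rw [← map_subtype_le_map_subtype, subgroupOf_map_subtype_of_le le_normalizer, map_map]
    refine h2.trans ?_
    rw [← map_frattini_eq_of_isPGroup hS.isPGroup (f := (subgroupOfEquivOfLe hPH).toMonoidHom) (subgroupOfEquivOfLe hPH).surjective,
      map_map]
    rfl
  rw [subgroupOf_self] at hS
  have h3 := (hS.map (QuotientGroup.mk' (Q.subgroupOf H))).toSyl
  rw [map_top_mk] at h3
  refine hasNPC_top.1 (h3.hasNPC_of_le_centralizer ?_)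
  intro x hx
  obtain ⟨x, rfl⟩ := QuotientGroup.mk_surjective x
  have h4 : (x : G) ∈ normalizer ((P : Subgroup G) : Set G) := Solv.mem_normalizer_of_conj_mem fun y hy => by
    have := (map_mk_le_map_mk_iff _).1 ((MonoidHom.map_zpowers _ (x * ⟨y, hPH hy⟩ * x⁻¹)).le.trans
      (zpowers_le.2 (Solv.conj_mem_of_mem_normalizer hx.2 (mem_map_of_mem (QuotientGroup.mk' _)
        (show (⟨y, hPH hy⟩ : H) ∈ (P : Subgroup G).subgroupOf H from hy))))) (mem_zpowers _)
    rw [sup_eq_left.2 (subgroupOf_mono _ hQP)] at this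
    exact this
  obtain ⟨a, ha, s, hs, h5⟩ := ((isSyl_top P).mono le_normalizer le_top).exists_res_mul h4
  rw [mem_centralizer_iff]
  rintro _ ⟨y, hy, rfl⟩
  rw [← commutatorElement_eq_one_iff_mul_comm, QuotientGroup.mk'_apply, ← QuotientGroup.mk'_apply,
    ← QuotientGroup.mk'_apply, ← map_commutatorElement, QuotientGroup.mk'_apply, QuotientGroup.eq_one_iff, mem_subgroupOf]
  have h6 := res_normalizer_le_of_hasNPC P.2 hN ha
  show ⁅(y : G), (x : G)⁆ ∈ Q
  rw [h5, show ⁅(y : G), a * s⁆ = ⁅(y : G), a⁆ * (a * ⁅(y : G), s⁆ * a⁻¹) by simp only [commutatorElement_def]; group,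
    commutatorElement_eq_one_iff_mul_comm.2 (mem_centralizer_iff.1 h6 y hy), one_mul,
    ← mem_centralizer_iff.1 h6 ⁅(y : G), s⁆ (commutator_le_left_of_le_normalizer le_normalizer (commutator_mem_commutator hy hs)), mul_inv_cancel_right]
  exact h1 (commutator_mem_commutator hy hs)

end Cfsg.Agent.S3838
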