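import Cfsg.Statements.S3839
import Cfsg.Agent.Lib.Solv.Schmidt
import Cfsg.Agent.Lib.Solv.PGrp
import Cfsg.Agent.Lib.Transfer.NPC

set_option autoImplicit false
open Cfsg

namespace Cfsg.Agent.S3839

/-- A Frobenius normal p-complement criterion relative to a strongly closed subgroup. Let G be a finite group, S a Sylow p-subgroup and D a subgroup of S strongly closed in S with respect to G. Then G has a normal p-complement if and only if N_G(U) has a normal p-complement for every subgroup U of D with C_D(U) ≤ U. -/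
theorem result {G : Type*} [Group G] [Finite G] {p : ℕ} [Fact p.Prime] (S : Sylow p G) (D : Subgroup G) (hD : Cfsg.IsStronglyClosed D (S : Subgroup G)) : Cfsg.HasNormalPComplement p G ↔ ∀ U : Subgroup G, U ≤ D → D ⊓ Subgroup.centralizer (U : Set G) ≤ U → Cfsg.HasNormalPComplement p ↥(Subgroup.normalizer (U : Set G)) := by
  open Pointwise commutatorElement Subgroup Cfsg.Agent.Solv in
  open Cfsg.Agent.Transfer in
  refine ⟨fun h U _ _ => hasNPC_subgroup h _, fun h => ?_⟩
  have h1 : ∀ B ≤ (S : Subgroup G), normalizer (B : Set G) ≤ normalizer ((B ⊓ D : Subgroup G) : Set G) := fun B hB g hg =>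
    Solv.mem_normalizer_of_conj_mem fun x hx => mem_inf.2 ⟨Solv.conj_mem_of_mem_normalizer hg hx.1,
      hD.2 x hx.2 g (hB (Solv.conj_mem_of_mem_normalizer hg hx.1))⟩
  have h2 : ∀ B ≤ (S : Subgroup G), D ⊓ centralizer ((B ⊓ D : Subgroup G) : Set G) ≤ B →
      res p (normalizer (B : Set G)) ≤ centralizer (B : Set G) := fun B hB h2 => res_normalizer_le_of_hasNPC (S.2.to_le hB)
    (hasNPC_mono (h _ inf_le_right (le_inf h2 inf_le_left)) (h1 B hB))
  have hSD : (S : Subgroup G) ≤ normalizer (D : Set G) := by simpa [inf_eq_right.2 hD.1] using le_normalizer.trans (h1 S le_rfl)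
  refine hasNPC_of_controls_self S fun x hx g hg => ?_
  refine (controls_of_centric S S ?_ ?_ (zpowers x) g (zpowers_le.2 hx)
    (by rw [cj_zpowers]; exact zpowers_le.2 hg)).imp fun v hv => ⟨hv.1, hv.2 x (mem_zpowers x)⟩
  · intro k hk
    obtain ⟨s, hs, a, ha, rfl⟩ := ((isSyl_top S).mono le_normalizer le_top).exists_mul_res hk
    refine ⟨s, hs, fun b hb => ?_⟩
    rw [mul_assoc s a b, ← mem_centralizer_iff.1 (h2 S le_rfl (inf_le_left.trans hD.1) ha) b hb]
    group
  intro B a1 a2 a3 a4 a5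
  refine absurd (h2 B a1.le ?_) a4
  have h3 := h1 B a1.le
  generalize hU : B ⊓ D = U at h3
  have hUB : U ≤ B := hU ▸ inf_le_left
  obtain ⟨W, hW⟩ : ∃ W : Subgroup G, ∀ x, x ∈ W ↔ x ∈ normalizer (B : Set G) ∧ x ∈ centralizer (U : Set G) ∧
      x ∈ centralMod B U := ⟨normalizer (B : Set G) ⊓ (centralizer (U : Set G) ⊓ centralMod B U), fun _ => Iff.rfl⟩
  have b1 : normalizer (B : Set G) ≤ normalizer (W : Set G) := by
    refine le_normalizer_of_conj_mem fun k hk y hy => ?_
    rw [hW] at hy ⊢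
    refine ⟨Solv.conj_mem_of_mem_normalizer (le_normalizer hk) hy.1, Solv.conj_mem_of_mem_normalizer
      (Solv.le_normalizer_centralizer h3 hk) hy.2.1, Solv.conj_mem_of_mem_normalizer (le_normalizer (h3 hk)) hy.2.2.1,
        fun b hb => ?_⟩
    convert Solv.conj_mem_of_mem_normalizer (h3 hk) (hy.2.2.2 _ (conj_mem_of_mem_normalizer' hk hb)) using 1
    simp only [commutatorElement_def]; group
  have b2 : res p W ≤ centralizer (B : Set G) := res_le_iff.2 fun y hy h3 => zpowers_le.1
    (coprime_le_centralizer_of_commutator_le (N := U) (coprime_card_of_isPGroup' (S.2.to_le (hUB.trans a1.le))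
      (by rwa [Nat.card_zpowers])) (by
        rw [commutator_comm]
        exact (commutator_mono (zpowers_le.2 ((hW y).1 hy).2.2) le_rfl).trans commutator_centralMod_le)
          (zpowers_le.2 ((hW y).1 hy).2.1))
  have b3 := a2.inf_of_le_normalizer (fun y hy => ((hW y).1 hy).1) b1
  have b4 : (S : Subgroup G) ⊓ normalizer (B : Set G) ⊓ W ≤ B := by
    by_contra b4
    refine a5 (B ⊔ (S : Subgroup G) ⊓ normalizer (B : Set G) ⊓ W) (left_lt_sup.2 b4)
      (sup_le (le_inf a1.le le_normalizer) inf_le_left) ?_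
    have : B ⊔ (S : Subgroup G) ⊓ normalizer (B : Set G) ⊓ W ⊔ centralizer (B : Set G) = B ⊔ W := by
      refine le_antisymm (sup_le (sup_le_sup_left inf_le_right _) (le_sup_of_le_right fun y hy => (hW y).2
        ⟨centralizer_le_normalizer _ hy, Solv.centralizer_anti hUB hy, centralizer_le_normalizer _ (Solv.centralizer_anti hUB hy),
          fun b hb => ?_⟩)) (sup_le (le_sup_of_le_left le_sup_left) (b3.res_sup.ge.trans
            (sup_le (le_sup_of_le_right b2) (le_sup_of_le_left le_sup_right))))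
      rw [commutatorElement_eq_one_iff_mul_comm.2 (mem_centralizer_iff.1 hy b hb).symm]
      exact one_mem _
    rw [this]
    exact Solv.le_normalizer_sup le_rfl b1
  by_contra b5
  have b6 : B ≤ normalizer ((D ⊓ centralizer (U : Set G) : Subgroup G) : Set G) :=
    Solv.le_normalizer_inf (a1.le.trans hSD) (Solv.le_normalizer_centralizer (le_normalizer.trans h3))
  obtain ⟨y, c1, c2, c3⟩ := exists_mem_normalizer_notMem (S.2.to_le (sup_le a1.le (inf_le_left.trans hD.1))) (left_lt_sup.2 b5)
  obtain ⟨b, hb, c, hc, rfl⟩ := (mem_sup_of_le_normalizer b6).1 c1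
  replace c2 := (mul_mem_cancel_left (le_normalizer hb)).1 c2
  refine c3 (mul_mem hb (b4 ⟨⟨hD.1 hc.1, c2⟩, (hW c).2 ⟨c2, hc.2, h3 c2, fun z hz => hU ▸ mem_inf.2 ⟨?_, ?_⟩⟩⟩))
  · exact mul_mem (Solv.conj_mem_of_mem_normalizer c2 hz) (inv_mem hz)
  · rw [commutatorElement_def, mul_assoc, mul_assoc, ← mul_assoc z]
    exact mul_mem hc.1 (Solv.conj_mem_of_mem_normalizer (hSD (a1.le hz)) (inv_mem (mem_inf.1 hc).1))

end Cfsg.Agent.S3839
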