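import Cfsg.Statements.S3858
import Cfsg.Agent.Lib.Comp.SylIn
import Cfsg.Agent.Lib.Solv.SylowIn

set_option autoImplicit false
open Cfsg

namespace Cfsg.Agent.S3858
section
open Pointwise commutatorElement Subgroup Cfsg.Agent.Solv
open Cfsg.Agent.Comp
theorem aux {G : Type*} [Group G] [Finite G] (T : Subgroup G) [T.Normal] (hT : IsSimpleGroup T) (hna : ¬ IsMulCommutative T)
    {r : ℕ} [Fact r.Prime] (R : Sylow r G) (hR0 : (R : Subgroup G) ⊓ T ≠ ⊥) :
    normalizer (((R : Subgroup G) ⊓ T : Subgroup G) : Set G) ≠ ⊤ := by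
  intro h
  rw [normalizer_eq_top_iff] at h
  rcases (inferInstance : (((R : Subgroup G) ⊓ T).subgroupOf T).Normal).eq_bot_or_eq_top with h1 | h1
  · exact hR0 (by rwa [subgroupOf_eq_bot, disjoint_iff, inf_assoc, inf_idem] at h1)
  · rw [subgroupOf_eq_top] at h1
    haveI := (R.isPGroup'.to_le (h1.trans inf_le_left)).isNilpotent
    exact hna ⟨⟨IsSimpleGroup.comm_iff_isSolvable.2 inferInstance⟩⟩
end

/-- Let G be a finite group with a normal non-abelian simple subgroup T whose centralizer is trivial (G almost simple with socle T), r a prime and R a Sylow r-subgroup of G meeting T nontrivially. Then R lies in exactly one maximal subgroup of G if and only if G has exactly one conjugacy class of maximal subgroups whose index is prime to r. -/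
theorem result {G : Type*} [Group G] [Finite G] (T : Subgroup G) [T.Normal] (hT : IsSimpleGroup T) (hna : ¬ IsMulCommutative T)
    (hC : Subgroup.centralizer (T : Set G) = ⊥) {r : ℕ} [Fact r.Prime] (R : Sylow r G) (hR0 : (R : Subgroup G) ⊓ T ≠ ⊥) :
    (∃! M : Subgroup G, IsCoatom M ∧ (R : Subgroup G) ≤ M) ↔
      ((∃ M : Subgroup G, IsCoatom M ∧ ¬ r ∣ M.index) ∧
        ∀ M₁ M₂ : Subgroup G, IsCoatom M₁ → ¬ r ∣ M₁.index → IsCoatom M₂ → ¬ r ∣ M₂.index → ∃ g : G, M₂ = M₁.map (MulAut.conj g).toMonoidHom) := by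
  open Pointwise commutatorElement Subgroup Cfsg.Agent.Solv in
  open Cfsg.Agent.Comp in
  have h1 : ∀ M : Subgroup G, (R : Subgroup G) ≤ M → ¬ r ∣ M.index := fun M hM h =>
    R.not_dvd_index (h.trans (index_dvd_of_le hM))
  have h2 : ∀ M : Subgroup G, ¬ r ∣ M.index → ∃ g : G, (R : Subgroup G) ≤ cj(g, M) := by
    intro M hM
    obtain ⟨S, hS⟩ := exists_sylIn r M
    obtain ⟨g, -, e⟩ := (hS.trans_of_not_dvd le_top (by rwa [relIndex_top_right])).exists_cj_eq (sylIn_top R)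
    exact ⟨g, e ▸ cj_mono g hS.le⟩
  have h3 : ∀ (M : Subgroup G) (g : G), IsCoatom M → IsCoatom cj(g, M) := fun M g h =>
    ((MulAut.conj g).mapSubgroup.isCoatom_iff M).2 h
  constructor
  · rintro ⟨M, ⟨hM, hR⟩, hu⟩
    refine ⟨⟨M, hM, h1 M hR⟩, fun M₁ M₂ a1 b1 a2 b2 => ?_⟩
    obtain ⟨g₁, e1⟩ := h2 _ b1
    obtain ⟨g₂, e2⟩ := h2 _ b2
    refine ⟨g₂⁻¹ * g₁, ?_⟩
    rw [cj_mul, hu _ ⟨h3 _ _ a1, e1⟩, ← hu _ ⟨h3 _ _ a2, e2⟩, cj_inv_cj]
  · rintro ⟨-, h⟩
    obtain ⟨M, hM, hN⟩ := exists_coatom_ge (aux T hT hna R hR0)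
    have hN' : normalizer ((R : Subgroup G) : Set G) ≤ M :=
      (Solv.le_normalizer_inf le_rfl le_normalizer_of_normal).trans hN
    have hR := le_normalizer.trans hN'
    refine ⟨M, ⟨hM, hR⟩, fun M' ⟨hM', hR'⟩ => ?_⟩
    obtain ⟨g, rfl⟩ := h M M' hM (h1 _ hR) hM' (h1 _ hR')
    obtain ⟨m, hm, e⟩ := (sylIn_of_sylow_le R hR).exists_le_cj (isPGroup_cj_iff.2 R.isPGroup') (le_cj_iff.1 hR')
    have h4 : m⁻¹ * g⁻¹ ∈ normalizer ((R : Subgroup G) : Set G) := by
      rw [← cj_eq_self_iff]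
      exact eq_of_le_of_card_le (by rw [cj_mul]; exact le_cj_iff.1 e) (card_cj _ _).ge
    have h5 : g ∈ M := by
      have := mul_mem hm (hN' h4)
      simpa using this
    exact cj_eq_self_of_mem h5

end Cfsg.Agent.S3858
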