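import Cfsg.Statements.S3859
import Cfsg.Agent.S3858
import Cfsg.Agent.Lib.Solv.Frattini

set_option autoImplicit false
open Cfsg

namespace Cfsg.Agent.S3859

/-- Let G be a finite group with a normal non-abelian simple subgroup T whose centralizer is trivial (G almost simple with socle T), r a prime and R a Sylow r-subgroup of G meeting T nontrivially. If R lies in exactly one maximal subgroup of G, then G/T is an r-group. -/
theorem result {G : Type*} [Group G] [Finite G] (T : Subgroup G) [T.Normal] (hT : IsSimpleGroup T) (hna : ¬ IsMulCommutative T)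
    (hC : Subgroup.centralizer (T : Set G) = ⊥) {r : ℕ} [Fact r.Prime] (R : Sylow r G) (hR0 : (R : Subgroup G) ⊓ T ≠ ⊥)
    (huniq : ∃! M : Subgroup G, IsCoatom M ∧ (R : Subgroup G) ≤ M) : IsPGroup r (G ⧸ T) := by
  open Pointwise commutatorElement Subgroup Cfsg.Agent.Solv in
  obtain ⟨M, -, hu⟩ := huniq
  obtain ⟨M₁, hM₁, hN⟩ := exists_coatom_ge (S3858.aux T hT hna R hR0)
  have hR : (R : Subgroup G) ≤ M₁ := (le_normalizer_inf le_normalizer le_normalizer_of_normal).trans hN
  have h1 : (R : Subgroup G) ⊔ T = ⊤ := by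
    by_contra h
    obtain ⟨M₂, hM₂, h2⟩ := exists_coatom_ge h
    have e : M₂ = M₁ := (hu _ ⟨hM₂, le_sup_left.trans h2⟩).trans (hu _ ⟨hM₁, hR⟩).symm
    have := ((isSylowIn_top R).inf_normal le_top (N := T) le_normalizer_of_normal).frattini_top
    exact hM₁.1 (eq_top_iff.2 (this ▸ sup_le (e ▸ le_sup_right.trans h2) hN))
  have h2 := R.isPGroup'.map (QuotientGroup.mk' T)
  have h3 : (R : Subgroup G).map (QuotientGroup.mk' T) = ⊤ := by
    rw [← index_eq_one, index_map_mk, h1, index_top]
  rw [h3] at h2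
  exact h2.of_equiv topEquiv

end Cfsg.Agent.S3859
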