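import Cfsg.Statements.S3863
import Cfsg.Agent.Lib.Transfer.Cyc2
import Cfsg.Agent.Lib.Solv.Basic

set_option autoImplicit false
open Cfsg

namespace Cfsg.Agent.S3863

/-- Let x be an element of the finite group G that is conjugate to its inverse. Then some 2-element conjugates x to its inverse; if the conjugacy class of x has odd size then x ^ 2 = 1; and x lies in, and is conjugate to its inverse inside, every normal subgroup of odd index. -/
theorem result {G : Type*} [Group G] [Finite G] (x : G) (hx : IsConj x x⁻¹) : (∃ t : G, (∃ j : ℕ, orderOf t = 2 ^ j) ∧ t * x * t⁻¹ = x⁻¹) ∧ (Odd (Subgroup.centralizer ({x} : Set G)).index → x ^ 2 = 1) ∧ ∀ (N : Subgroup G) [N.Normal], Odd N.index → ∃ hxN : x ∈ N, IsConj (⟨x, hxN⟩ : N) (⟨x, hxN⟩ : N)⁻¹ := by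
  open Pointwise commutatorElement Subgroup Cfsg.Agent.Solv in
  have h1 : ∃ t : G, (∃ j : ℕ, orderOf t = 2 ^ j) ∧ t * x * t⁻¹ = x⁻¹ := by
    obtain ⟨t, ht⟩ := isConj_iff.1 hx
    obtain ⟨j, m, hm, e⟩ := Nat.exists_eq_two_pow_mul_odd (orderOf_pos t).ne'
    refine ⟨t ^ m, ⟨j, ?_⟩, ?_⟩
    · rw [orderOf_pow_of_dvd hm.pos.ne' ⟨2 ^ j, by rw [e, mul_comm]⟩, e, Nat.mul_div_cancel _ hm.pos]
    · obtain ⟨k, rfl⟩ := hm
      have h2 : Commute (t ^ 2) x := by
        have : t * x⁻¹ * t⁻¹ = x := by rw [← inv_inj]; simpa [mul_assoc] using ht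
        have h3 : t ^ 2 * x * (t ^ 2)⁻¹ = x := by
          calc _ = t * (t * x * t⁻¹) * t⁻¹ := by simp [pow_two, mul_assoc]
            _ = x := by rw [ht, this]
        exact mul_inv_eq_iff_eq_mul.1 h3
      have h4 := (h2.pow_left k).eq
      rw [pow_succ', pow_mul, mul_assoc t, h4, mul_inv_rev, ← ht]
      group
  refine ⟨h1, fun ho => ?_, fun N _ ho => ?_⟩
  · obtain ⟨t, -, ht⟩ := h1
    by_contra hne
    have ht' : t * x⁻¹ * t⁻¹ = x := by rw [← inv_inj]; simpa [mul_assoc] using ht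
    have hn : t ∈ normalizer (centralizer ({x} : Set G) : Set G) := by
      apply mem_normalizer_of_conj_mem
      intro c hc
      rw [mem_centralizer_singleton_iff] at hc ⊢
      have : c * x⁻¹ = x⁻¹ * c := (Commute.inv_right hc).eq
      calc t * c * t⁻¹ * x = t * c * t⁻¹ * (t * x⁻¹ * t⁻¹) := by rw [ht']
        _ = t * (c * x⁻¹) * t⁻¹ := by group
        _ = (t * x⁻¹ * t⁻¹) * (t * c * t⁻¹) := by rw [this]; group
        _ = _ := by rw [ht']
    have h2 : t ^ 2 ∈ centralizer ({x} : Set G) := by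
      rw [mem_centralizer_singleton_iff]
      have h3 : t ^ 2 * x * (t ^ 2)⁻¹ = x := by
        calc _ = t * (t * x * t⁻¹) * t⁻¹ := by simp [pow_two, mul_assoc]
          _ = x := by rw [ht, ht']
      exact mul_inv_eq_iff_eq_mul.1 h3
    have h3 : t ∉ centralizer ({x} : Set G) := by
      rw [mem_centralizer_singleton_iff]
      intro h
      rw [h, mul_inv_cancel_right] at ht
      exact hne (by rw [pow_two]; exact mul_eq_one_iff_eq_inv.2 ht)
    have h4 := Cfsg.Agent.Transfer.relIndex_sup_zpowers hn h2 h3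
    have h5 := relIndex_dvd_index_of_le (le_sup_left : centralizer ({x} : Set G) ≤ _ ⊔ zpowers t)
    rw [h4] at h5
    exact (Nat.not_even_iff_odd.2 ho) (even_iff_two_dvd.2 h5)
  · obtain ⟨t, ⟨j, hj⟩, ht⟩ := h1
    have key : ∀ (y : G) (k : ℕ), y ^ 2 ^ k ∈ N → y ∈ N := by
      intro y k hy
      rw [← QuotientGroup.eq_one_iff] at hy ⊢
      rw [QuotientGroup.mk_pow] at hy
      rw [← orderOf_eq_one_iff]
      refine Nat.eq_one_of_dvd_coprimes (Nat.Coprime.pow_left k (Nat.coprime_two_left.2 ho)) (orderOf_dvd_of_pow_eq_one hy) (orderOf_dvd_natCard _)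
    have htN : t ∈ N := key t j (by rw [← hj, pow_orderOf_eq_one]; exact one_mem N)
    have hxN : x ∈ N := by
      refine key x 1 ?_
      have : x ^ 2 ^ 1 = x * t * x⁻¹ * t⁻¹ := by
        rw [pow_one, pow_two, mul_assoc, mul_assoc]
        congr 1
        rw [← inv_inj]; simpa [mul_assoc] using ht.symm
      rw [this]
      exact mul_mem (‹N.Normal›.conj_mem _ htN _) (inv_mem htN)
    exact ⟨hxN, isConj_iff.2 ⟨⟨t, htN⟩, Subtype.ext ht⟩⟩

end Cfsg.Agent.S3863
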