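import Cfsg.Statements.S3864
import Cfsg.Agent.Lib.Block.Syl2

set_option autoImplicit false
open Cfsg

namespace Cfsg.Agent.S3864

open Cfsg.Agent.Blk
open Cfsg.Agent.Char hiding cj cj_mul cj_inv_cj cj_cj_inv
open Subgroup Cfsg.Agent.Transfer

/-- Let G be a finite group whose Sylow 2-subgroups are dihedral of order 2 ^ n with n ≥ 3, and count the conjugacy classes of involutions of G. Then exactly one of the following holds: there is one class of involutions and no normal subgroup of index 2; there are two classes of involutions, a normal subgroup of index 2 and none of index 4; there are three classes of involutions and G has a normal 2-complement. -/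
theorem result {G : Type*} [Group G] [Finite G] (P : Sylow 2 G) (n : ℕ) (hn : 3 ≤ n) (hdih : Nonempty (↥(P : Subgroup G) ≃* DihedralGroup (2 ^ (n - 1)))) : (Nat.card {C : ConjClasses G // ∃ g : G, ConjClasses.mk g = C ∧ orderOf g = 2} = 1 ∧ ∀ N : Subgroup G, N.Normal → N.index ≠ 2) ∨ (Nat.card {C : ConjClasses G // ∃ g : G, ConjClasses.mk g = C ∧ orderOf g = 2} = 2 ∧ (∃ N : Subgroup G, N.Normal ∧ N.index = 2) ∧ ∀ N : Subgroup G, N.Normal → N.index ≠ 4) ∨ (Nat.card {C : ConjClasses G // ∃ g : G, ConjClasses.mk g = C ∧ orderOf g = 2} = 3 ∧ Cfsg.HasNormalPComplement 2 G) := by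
  obtain ⟨e⟩ := hdih
  obtain ⟨a, b, m, h⟩ := dh_of P.isPGroup' (show 2 ≤ 2 ^ (n - 1) from
    (pow_one 2).symm.le.trans (Nat.pow_le_pow_right (by norm_num) (by omega))) e
  have hm : 1 ≤ m := by
    have h1 : 2 ^ (m + 2) = 2 ^ (n - 1 + 1) := by
      rw [← h.card, Nat.card_congr e.toEquiv, DihedralGroup.nat_card, pow_succ']
    have := Nat.pow_right_injective le_rfl h1
    omega
  simp only [and_comm (b := orderOf _ = 2)]
  have two : ∀ b c, DH (P : Subgroup G) a b m → DH (P : Subgroup G) a c m →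
      (∀ t, orderOf t = 2 → IsConj (a ^ 2 ^ m) t ∨ IsConj b t ∨ IsConj c t) → Ess (Xk a m b) →
      ¬ Ess (Xk a m c) → Nat.card {C : ConjClasses G // ∃ g : G, orderOf g = 2 ∧ ConjClasses.mk g = C} = 2 ∧
        (∃ N : Subgroup G, N.Normal ∧ N.index = 2) ∧ ∀ N : Subgroup G, N.Normal → N.index ≠ 4 := by
    intro b c hb hc h1 h2 h3
    refine ⟨classes_eq_two hb.ord_z hc.ord_b (mt hc.ess_of_conj h3) fun t ht =>
      (h1 t ht).elim .inl fun k => k.imp_left (hb.isConj_zb h2).trans, ?_, fun N hN k => ?_⟩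
    · obtain ⟨N, hN⟩ := not_forall.1 (mt pResidual_two_eq_top_iff.2 fun e =>
        h3 (hc.ess_of_res (e ▸ mem_top _)))
      exact ⟨N, normal_of_index_eq_two (not_not.1 hN), not_not.1 hN⟩
    · have a1 : b ∈ N := pResidual_le_of_index (n := 2) k (hb.X_le_res h2 (hb.b_mem_X m))
      have a2 : Xk a 1 b ≤ N := sup_le (zpowers_le.2 (by
        have := mul_mem (hN.conj_mem _ a1 a) (inv_mem a1)
        rwa [mul_assoc, mul_assoc, ← mul_assoc b, ← conj_inv, hb.inv, inv_inv, ← sq] at this))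
        (zpowers_le.2 a1)
      have a3 := index_dvd_of_le a2
      rw [k, ← relIndex_mul_index (hb.ix2_M hm).le, (hb.ix2_M hm).idx] at a3
      exact P.not_dvd_index (Nat.dvd_of_mul_dvd_mul_left (by norm_num : 0 < 2) a3)
  by_cases h1 : Ess (Xk a m b) <;> by_cases h2 : Ess (Xk a m (a * b))
  · exact .inl ⟨classes_eq_one h.ord_z fun t => h.isConj_z h1 h2,
      fun N _ => no_two_of_le P (h.le_res h1 h2) N⟩
  · exact .inr (.inl (two b _ h h.dh' (fun t => h.invol') h1 h2))
  · exact .inr (.inl (two _ b h.dh' h (fun t ht => (h.invol' ht).imp_right Or.symm) h2 h1))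
  have h3 : HasNormalPComplement 2 G := npc_ess P fun B hB _ he => by
    obtain ⟨u, -, rfl | rfl⟩ := h.klein' hB (h.ess' hB he)
    exacts [h1 (ess_cj.1 he), h2 (ess_cj.1 he)]
  refine .inr (.inr ⟨classes_eq_three h.ord_z h.ord_b h.dh'.ord_b (mt h.ess_of_conj h1)
    (mt h.dh'.ess_of_conj h2) (fun k => ?_) fun t => h.invol', h3⟩)
  obtain ⟨g, hg⟩ := isConj_iff.1 k
  obtain ⟨s, hs, h4⟩ := (Transfer.isSyl_top P).exists_conj_of_hasNPC (hasNPC_top.2 h3) (mem_top g)
  refine h.ab_notMem hm ?_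
  rw [← hg, ← h4 b h.mem_b (hg ▸ h.mem_ab)]
  exact conj_mem_of_mem_normalizer ((h.ix2_M hm).nn hs) (h.b_mem_X 1)

end Cfsg.Agent.S3864
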