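import Cfsg.Statements.S3866
import Cfsg.Agent.Lib.Solv.Basic
import Cfsg.Agent.Lib.Comp.Basic

set_option autoImplicit false
open Cfsg

namespace Cfsg.Agent.S3866

/-- Let A be a commutative normal subgroup of the finite group G with G generated by A and an element x. Then a ↦ x a x⁻¹ a⁻¹ is a surjective homomorphism from A onto the commutator subgroup of G whose kernel is the centralizer of x in A; in particular the commutator subgroup has order equal to the index in A of that centralizer. -/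
theorem result {G : Type*} [Group G] [Finite G] (A : Subgroup G) [A.Normal] (hA : IsMulCommutative A) (x : G) (hgen : A ⊔ Subgroup.zpowers x = ⊤) : (∀ a ∈ A, x * a * x⁻¹ * a⁻¹ ∈ commutator G) ∧ (∀ c ∈ commutator G, ∃ a ∈ A, x * a * x⁻¹ * a⁻¹ = c) ∧ (∀ a ∈ A, ∀ b ∈ A, x * (a * b) * x⁻¹ * (a * b)⁻¹ = (x * a * x⁻¹ * a⁻¹) * (x * b * x⁻¹ * b⁻¹)) ∧ Nat.card (commutator G) * Nat.card ↥(A ⊓ Subgroup.centralizer ({x} : Set G)) = Nat.card A := by
  open Pointwise commutatorElement Subgroup Cfsg.Agent.Solv in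
  have hc := Solv.isMulCommutative_iff.1 hA
  have hn : A.Normal := inferInstance
  have hmem : ∀ a ∈ A, x * a * x⁻¹ * a⁻¹ ∈ A := fun a ha => mul_mem (hn.conj_mem _ ha _) (inv_mem ha)
  have h3 : ∀ a ∈ A, ∀ b ∈ A, x * (a * b) * x⁻¹ * (a * b)⁻¹ = (x * a * x⁻¹ * a⁻¹) * (x * b * x⁻¹ * b⁻¹) := by
    intro a ha b hb
    have := hc _ (inv_mem ha) _ (hmem b hb)
    calc _ = x * a * x⁻¹ * (x * b * x⁻¹ * b⁻¹ * a⁻¹) := by group
      _ = _ := by rw [← this]; group
  let f : A →* G := MonoidHom.mk' (fun a => x * a * x⁻¹ * (a : G)⁻¹) fun a b => h3 _ a.2 _ b.2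
  have h1 : ∀ a ∈ A, x * a * x⁻¹ * a⁻¹ ∈ commutator G := fun a _ =>
    commutator_mem_commutator (mem_top x) (mem_top a)
  have hle : f.range ≤ A := by rintro _ ⟨a, rfl⟩; exact hmem _ a.2
  have hN : ⊤ ≤ normalizer (f.range : Set G) := by
    rw [← hgen]
    refine sup_le ?_ ?_
    · intro a ha
      refine mem_normalizer_of_conj_mem fun y hy => ?_
      rwa [hc _ ha _ (hle hy), mul_inv_cancel_right]
    · rw [zpowers_le]
      refine mem_normalizer_of_conj_mem ?_
      rintro _ ⟨a, rfl⟩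
      exact ⟨⟨x * a * x⁻¹, hn.conj_mem _ a.2 _⟩, by simp [f, mul_assoc]⟩
  have hr : f.range = commutator G := by
    refine le_antisymm (by rintro _ ⟨a, rfl⟩; exact h1 _ a.2) ?_
    have hxA : ⁅zpowers x, A⁆ ≤ f.range :=
      Cfsg.Agent.Comp.commutator_zpowers_left_le (hN trivial) fun c hc => ⟨⟨c, hc⟩, rfl⟩
    have hb : ∀ B : Subgroup G, IsMulCommutative B → ⁅B, B⁆ ≤ f.range := by
      intro B hB
      rw [commutator_le]
      intro a ha b hb
      rw [commutatorElement_def, Solv.isMulCommutative_iff.1 hB a ha b hb]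
      simp
    rw [_root_.commutator_def, ← hgen]
    refine Cfsg.Agent.Comp.commutator_sup_left_le (le_top.trans hN) (le_top.trans hN) ?_ ?_
    · exact Cfsg.Agent.Comp.commutator_sup_right_le (le_top.trans hN) (le_top.trans hN) (hb A hA)
        (by rw [commutator_comm]; exact hxA)
    · exact Cfsg.Agent.Comp.commutator_sup_right_le (le_top.trans hN) (le_top.trans hN) hxA
        (hb _ inferInstance)
  refine ⟨h1, fun c hc => ?_, h3, ?_⟩
  · rw [← hr] at hc
    obtain ⟨a, rfl⟩ := hc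
    exact ⟨a, a.2, rfl⟩
  · have hk : f.ker = (centralizer ({x} : Set G)).subgroupOf A := by
      ext a
      rw [MonoidHom.mem_ker, mem_subgroupOf, mem_centralizer_singleton_iff]
      change x * a * x⁻¹ * (a : G)⁻¹ = 1 ↔ _
      rw [mul_inv_eq_one, mul_inv_eq_iff_eq_mul, eq_comm]
    rw [← hr, inf_comm, ← card_subgroupOf, ← hk, ← index_ker, index_mul_card]

end Cfsg.Agent.S3866
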