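import Cfsg.Statements.S3868
import Cfsg.Agent.Lib.BG.Irr

set_option autoImplicit false
open Cfsg

namespace Cfsg.Agent.S3868

/-- Structure of the non-simple minimal non-p-closed groups. Call a finite group p-closed when its Sylow p-subgroups are normal, and minimal non-p-closed when it is not p-closed but every proper subgroup and every proper quotient is. If such a group G is not simple, then there is a prime q ≠ p such that G has order p · q^e, where e is the multiplicative order of q modulo p, and G has a normal subgroup A of order q^e that is elementary abelian and is a minimal normal subgroup of G (so G is the semidirect product of A by a group of order p acting irreducibly). -/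
theorem result {G : Type*} [Group G] [Finite G] {p : ℕ} [Fact p.Prime]
    (hnc : ¬ Cfsg.IsPClosed p G) (hsub : ∀ H : Subgroup G, H ≠ ⊤ → Cfsg.IsPClosed p ↥H)
    (hquo : ∀ (N : Subgroup G) [N.Normal], N ≠ ⊥ → Cfsg.IsPClosed p (G ⧸ N)) (hns : ¬ IsSimpleGroup G) :
    ∃ q : ℕ, q.Prime ∧ q ≠ p ∧ Nat.card G = p * q ^ orderOf (q : ZMod p) ∧
      ∃ A : Subgroup G, A.Normal ∧ Nat.card ↥A = q ^ orderOf (q : ZMod p) ∧ Cfsg.IsElementaryAbelian q A ∧
        ∀ B : Subgroup G, B.Normal → B ≤ A → B = ⊥ ∨ B = A := by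
  open Pointwise commutatorElement Subgroup in
  open Cfsg.Agent.Comp Cfsg.Agent.BG Subgroup commutatorElement in
  have q0 : ∀ (N : Subgroup G) [N.Normal], IsPGroup p N → N = ⊥ := fun N _ h => by_contra fun e => hnc (pClosed_top_iff.1
    (.of_map (QuotientGroup.mk' N) (map_top_of_surjective _ (QuotientGroup.mk'_surjective N) ▸ pClosed_top_iff.2 (hquo N e))
      (by rwa [QuotientGroup.ker_mk', top_inf_eq])))
  have : Nontrivial G := by
    by_contra e
    rw [not_nontrivial_iff_subsingleton] at e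
    exact hnc fun P => Subsingleton.elim ⊥ (P : Subgroup G) ▸ inferInstance
  obtain ⟨M, m1, m2⟩ : ∃ M : Subgroup G, M.Normal ∧ ¬ (M = ⊥ ∨ M = ⊤) := by
    by_contra e
    exact hns ⟨fun M h => by_contra fun e' => e ⟨M, h, e'⟩⟩
  rw [not_or] at m2
  obtain ⟨N, n1, n2, n3, n4⟩ := Solv.exists_minimal_normal_le M m2.1
  have hc := (pClosed_iff.2 (hsub N fun e => m2.2 (top_le_iff.1 (e ▸ n1)))).coprime
    (q0 _ (isPGroup_Op p N))
  have h1 : ∀ x, IsPGroup p (zpowers x) → ∀ H : Subgroup G, H ≠ ⊤ → x ∈ H → x ∈ Ct((H ⊓ N : Subgroup G)) := fun x hx H a b =>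
    le_Ct_of_coprime (le_normalizer_inf ((Op_le p H).trans le_normalizer) le_normalizer_of_normal)
      (le_normalizer_Op (inf_le_left.trans le_normalizer)) ((isPi_singleton.2 (isPGroup_Op p H)).coprime
        ((isPi_compl_singleton.2 hc).of_le inf_le_right)) ((pClosed_iff.2 (hsub H a)).le_Op (zpowers_le.2 b) hx (mem_zpowers x))
  obtain ⟨P, hP⟩ := exists_sylIn p (⊤ : Subgroup G)
  have h2 : ∀ H : Subgroup G, P ≤ H → H.Normal → H ≠ ⊤ → False := fun H a b c => hnc (pClosed_top_iff.1 (hP.pClosed (by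
    rw [(pClosed_iff.2 (hsub H c)).eq_Op (hP.of_le a le_top)]; exact le_normalizer_of_normal)))
  have h3 : P ⊔ N = ⊤ := by_contra (h2 _ le_sup_left (by
    rw [← Solv.comap_map_mk]
    exact .comap (normal_iff_top_le_normalizer.2 ((pClosed_top_iff.2 (hquo N n3)).le_normalizer
      (map_top_of_surjective _ (QuotientGroup.mk'_surjective N) ▸ hP.map _))) _))
  obtain ⟨x, x1, x2⟩ : ∃ x ∈ P, x ∉ Ct(N) := by
    by_contra e
    push Not at e
    exact hnc (pClosed_top_iff.1 (hP.pClosed (h3.ge.trans (sup_le le_normalizer (le_Nm_of_le_Ct' e)))))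
  have x3 := Solv.isPGroup_zpowers_of_mem hP.isP x1
  refine Irr.core hc n4 ?_ x2 (h1 x x3)
  have x4 : zpowers x ⊔ N = ⊤ := by_contra fun e =>
    x2 (centralizer_mono (le_inf le_sup_right le_rfl) (h1 x x3 _ e (mem_sup_left (mem_zpowers x))))
  have x5 := x3.to_le (zpowers_le.2 (pow_mem (mem_zpowers x) p))
  have x6 : zpowers (x ^ p) ⊔ N ≠ ⊤ := fun e => by
    have := sup_inf_of_le_normalizer (le_normalizer_of_normal (H := N)) (zpowers_le.2 (pow_mem (mem_zpowers x) p))
    rw [e, top_inf_eq, (isPi_compl_singleton.2 hc).inf_eq_bot (by rw [compl_compl]; exact isPi_singleton.2 x3), sup_bot_eq] at this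
    obtain ⟨k, hk⟩ := IsPGroup.exists_pow_eq_one x3 (mem_zpowers x)
    have := congrArg (fun H : Subgroup G => Nat.card H) this
    simp only [Nat.card_zpowers] at this
    rw [orderOf_pow_of_dvd (Fact.out : p.Prime).ne_zero (dvd_card_of_isPGroup x3 (by
      rw [Ne, zpowers_eq_bot]; rintro rfl; exact x2 (one_mem _)) |>.trans (Nat.card_zpowers x).dvd)] at this
    exact (Nat.div_lt_self (orderOf_pos x) (Fact.out : p.Prime).one_lt).ne' this
  have := normal_iff_top_le_normalizer.2 (x4.ge.trans (sup_le (le_Nm_of_le_Ct' (zpowers_le.2 (le_centralizer (zpowers x)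
    (pow_mem (mem_zpowers x) p)))) (le_Nm_of_le_Ct' (zpowers_le.2 (centralizer_mono (le_inf le_sup_right le_rfl)
      (h1 _ x5 _ x6 (mem_sup_left (mem_zpowers _))))))))
  exact zpowers_eq_bot.1 (q0 _ x5)

end Cfsg.Agent.S3868
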