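import Cfsg.Statements.S3869
import Cfsg.Agent.Lib.BG.Irr

set_option autoImplicit false
open Cfsg

namespace Cfsg.Agent.S3869

/-- Let p and q be distinct primes and G a finite non-abelian group with a normal elementary abelian q-subgroup A that is a minimal normal subgroup of G and has index p. Then A has order q^e with e the multiplicative order of q modulo p, and G is minimal non-p-closed: its Sylow p-subgroups are not normal, while in every proper subgroup and in every proper quotient of G the Sylow p-subgroups are normal. -/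
theorem result {G : Type*} [Group G] [Finite G] {p q : ℕ} [Fact p.Prime] (hq : q.Prime) (hpq : q ≠ p)
    (hna : ¬ IsMulCommutative G) (A : Subgroup G) [A.Normal] (hA : Cfsg.IsElementaryAbelian q A) (hidx : A.index = p)
    (hmin : ∀ B : Subgroup G, B.Normal → B ≤ A → B = ⊥ ∨ B = A) :
    Nat.card ↥A = q ^ orderOf (q : ZMod p) ∧ ¬ Cfsg.IsPClosed p G ∧ (∀ H : Subgroup G, H ≠ ⊤ → Cfsg.IsPClosed p ↥H) ∧
      ∀ (N : Subgroup G) [N.Normal], N ≠ ⊥ → Cfsg.IsPClosed p (G ⧸ N) := by
  open Pointwise commutatorElement Subgroup in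
  open Cfsg.Agent.Comp Cfsg.Agent.BG Subgroup commutatorElement in
  have := Fact.mk hq
  have hp : p.Prime := Fact.out
  have a1 : IsPGroup q A := Solv.isPGroup_of_pow_eq_one hA.2
  have a2 := coprime_of_isPGroup_of_ne hpq a1
  have a3 : ∀ H : Subgroup G, ¬ H ≤ A → H ⊔ A = ⊤ := fun H h => index_eq_one.1 (((Nat.dvd_prime hp).1 (hidx ▸ index_dvd_of_le
    le_sup_right)).resolve_right fun e => h (le_sup_left.trans (Solv.eq_of_le_of_card_le le_sup_right (Nat.le_of_mul_le_mul_right
      (by rw [← e, card_mul_index, e, ← hidx, card_mul_index]) hp.pos)).ge))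
  have a4 : ∀ U x, U ≤ A → x ∉ A → x ∈ Nm(U) → U = ⊥ ∨ U = A := fun U x u1 x1 u2 => hmin U (normal_iff_top_le_normalizer.2
    ((a3 _ (zpowers_le.not.2 x1)).ge.trans (sup_le (zpowers_le.2 u2)
      (le_normalizer_of_le_centralizer ((comm_iff_le.1 hA.1).trans (centralizer_mono u1)))))) u1
  have a5 : ∀ x, x ∉ A → x ∉ Ct(A) := fun x h e => hna (by
    have h1 : (⊤ : Subgroup G) ≤ Ct((⊤ : Subgroup G)) := by
      rw [← a3 _ (zpowers_le.not.2 h), centralizer_sup]
      exact le_inf (sup_le (le_centralizer _) (le_Ct_comm.1 (zpowers_le.2 e))) (sup_le (zpowers_le.2 e) (comm_iff_le.1 hA.1))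
    exact ⟨⟨fun a b => mem_Ct.1 (h1 (mem_top b)) a (mem_top a)⟩⟩)
  obtain ⟨x, x1⟩ : ∃ x, x ∉ A := by
    by_contra e
    push Not at e
    exact hp.one_lt.ne' (hidx ▸ index_eq_one.2 (eq_top_iff.2 fun x _ => e x))
  have a6 : ∀ H : Subgroup G, H ⊓ A = ⊥ → IsPGroup p H := fun H h => .of_card_dvd_pow (n := 1) (by
    rw [pow_one, ← hidx, ← Solv.card_map_mk A H, h, card_bot, mul_one]
    exact card_subgroup_dvd_card _)
  have a7 : ¬ PClosed p (⊤ : Subgroup G) := fun h => by
    have h1 : ¬ Op p ⊤ ≤ A := fun e => h.sylIn.not_dvd_relIndex_of_le e le_top (by rw [relIndex_top_right, hidx])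
    obtain ⟨y, y1, y2⟩ := SetLike.not_le_iff_exists.1 h1
    exact a5 y y2 (le_Ct_of_coprime le_normalizer_of_normal le_normalizer_of_normal ((isPi_singleton.2 (isPGroup_Op p ⊤)).coprime
      (isPi_compl_singleton.2 a2)) y1)
  refine ⟨Irr.card_irr hq hpq hA (le_normalizer_of_normal (mem_top x)) (comm_iff_le.1 hA.1 (hidx ▸ pow_index_mem A x)) (a5 x x1)
    fun U u => a4 U x u x1, pClosed_top_iff.not.1 a7, fun H h => pClosed_iff.1 ?_, fun N _ h => pClosed_top_iff.1 ?_⟩
  · by_cases e : H ≤ A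
    · exact pClosed_of_coprime (a2.coprime_dvd_left (card_dvd_of_le e))
    obtain ⟨y, y1, y2⟩ := SetLike.not_le_iff_exists.1 e
    exact pClosed_of_isPGroup (a6 H ((a4 _ y inf_le_right y2 (le_normalizer_inf le_normalizer le_normalizer_of_normal y1)).resolve_right
      fun e' => h (by rw [← a3 H e, sup_eq_left.2 (inf_eq_right.1 e')])))
  · rcases hmin (N ⊓ A) inferInstance inf_le_right with e | e
    · exact absurd (.of_map (QuotientGroup.mk' N) (pClosed_of_coprime (by
        rw [← a3 N fun e' => h (by rw [← e, inf_eq_left.2 e']), Subgroup.map_sup, (Solv.map_mk_eq_bot_iff N).2 le_rfl, bot_sup_eq]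
        exact a2.coprime_dvd_left (card_map_dvd _ _))) (by rw [QuotientGroup.ker_mk', top_inf_eq]; exact a6 N e)) a7
    · exact pClosed_of_isPGroup (.of_card_dvd_pow (n := 1) (by
        rw [pow_one, card_top, ← hidx]; exact index_dvd_of_le (inf_eq_right.1 e)))

end Cfsg.Agent.S3869
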