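import Cfsg.Statements.S3870
import Cfsg.Agent.Lib.Comp.SylIn

set_option autoImplicit false
open Cfsg

namespace Cfsg.Agent.S3870

/-- Let G be a finite simple group whose Sylow p-subgroups are not normal but such that every proper subgroup of G has a normal Sylow p-subgroup. Then any two distinct Sylow p-subgroups of G intersect trivially, and for every Sylow p-subgroup P the normalizer of every non-identity subgroup of P lies in the normalizer of P. -/
theorem result {G : Type*} [Group G] [Finite G] [IsSimpleGroup G] {p : ℕ} [Fact p.Prime]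
    (hnc : ¬ Cfsg.IsPClosed p G) (hsub : ∀ H : Subgroup G, H ≠ ⊤ → Cfsg.IsPClosed p ↥H) :
    (∀ P Q : Sylow p G, P ≠ Q → (P : Subgroup G) ⊓ (Q : Subgroup G) = ⊥) ∧
      ∀ (P : Sylow p G) (R : Subgroup G), R ≤ P → R ≠ ⊥ →
        Subgroup.normalizer (R : Set G) ≤ Subgroup.normalizer ((P : Subgroup G) : Set G) := by
  open Pointwise commutatorElement Subgroup in
  open Cfsg.Agent.Comp in
  have key : ∀ D : Subgroup G, ∀ P Q : Sylow p G, D ≠ ⊥ → D = (P : Subgroup G) ⊓ Q → P = Q := by
    intro D
    induction D using subgroup_induction_gt with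
    | h D ih =>
    intro P Q h0 hD
    by_contra hne
    have hlt : ∀ P Q : Sylow p G, P ≠ Q → (P : Subgroup G) ⊓ Q < P := by
      intro P Q h
      refine lt_of_le_of_ne inf_le_left fun e => h ?_
      exact Sylow.ext (P.is_maximal' Q.isPGroup' (inf_eq_left.1 e)).symm
    have hP : D < P := hD ▸ hlt P Q hne
    have hQ : D < Q := by rw [hD, inf_comm]; exact hlt Q P (Ne.symm hne)
    have hN : normalizer (D : Set G) ≠ ⊤ := by
      intro h
      rw [normalizer_eq_top_iff] at h
      rcases h.eq_bot_or_eq_top with h | h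
      · exact h0 h
      · exact not_top_lt (h ▸ hP)
    obtain ⟨S⟩ := (inferInstance : Nonempty (Sylow p (normalizer (D : Set G))))
    have hS := hsub _ hN S
    have hS1 := sylIn_sylow S
    have hS2 := (normal_iff_map_subtype _).1 hS
    obtain ⟨T, hT⟩ := hS1.isP.exists_le_sylow
    have aux : ∀ P : Sylow p G, D < P → P = T := by
      intro P hP
      have h1 := lt_inf_normalizer_of_isPGroup P.isPGroup' hP
      have h2 : (P : Subgroup G) ⊓ normalizer (D : Set G) ≤ T :=
        (hS1.le_of_normalizer (P.isPGroup'.to_inf_left) inf_le_right (inf_le_right.trans hS2)).trans hT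
      have h3 : D < (P : Subgroup G) ⊓ T := h1.trans_le (le_inf inf_le_left h2)
      exact ih _ h3 P T (ne_bot_of_gt h3) rfl
    exact hne ((aux P hP).trans (aux Q hQ).symm)
  refine ⟨fun P Q hne => by_contra fun h => hne (key _ P Q h rfl), fun P R hR h0 g hg => ?_⟩
  have : P = g • P := by
    refine key _ P (g • P) (fun h => h0 (le_bot_iff.1 (h ▸ le_inf hR ?_))) rfl
    rw [Sylow.coe_subgroup_smul, ← cj_smul, ← cj_eq_self_iff.2 hg]
    exact cj_mono _ hR
  exact Sylow.smul_eq_iff_mem_normalizer.1 this.symm

end Cfsg.Agent.S3870
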