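import Cfsg.Statements.S3872
import Cfsg.Agent.Lib.BG.MinNA
import Cfsg.Agent.Lib.BG.Reg
import Cfsg.Agent.Lib.Solv.MaxCl

set_option autoImplicit false
open Cfsg

namespace Cfsg.Agent.S3872

/-- Say that a finite group is p-exponent closed when its elements of order dividing p form a subgroup. Let G be a finite p-group that is not p-exponent closed, but all of whose proper subgroups and proper quotients are. Then G is generated by two elements, has nilpotency class at least p, has exponent p², has cyclic center, and has order at least p^(p+1). -/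
theorem result {G : Type*} [Group G] [Finite G] {p : ℕ} [Fact p.Prime] (hG : IsPGroup p G)
    (hnc : ¬ (∃ H : Subgroup G, (H : Set G) = {g : G | g ^ p = 1})) (hsub : ∀ K : Subgroup G, K ≠ ⊤ → (∃ H : Subgroup ↥K, (H : Set ↥K) = {g : ↥K | g ^ p = 1}))
    (hquo : ∀ (N : Subgroup G) [N.Normal], N ≠ ⊥ → (∃ H : Subgroup (G ⧸ N), (H : Set (G ⧸ N)) = {g : (G ⧸ N) | g ^ p = 1})) :
    (∃ x y : G, Subgroup.closure ({x, y} : Set G) = ⊤) ∧ (⊤ : Subgroup G).lowerCentralSeries (p - 1) ≠ ⊥ ∧
      Monoid.exponent G = p ^ 2 ∧ IsCyclic ↥(Subgroup.center G) ∧ p ^ (p + 1) ≤ Nat.card G := by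
  open Pointwise commutatorElement Subgroup Cfsg.Agent.Solv in
  open Cfsg.Agent.Comp Cfsg.Agent.BG Subgroup commutatorElement in
  have hp : p.Prime := Fact.out
  obtain ⟨x, y, hx, hy, hxy⟩ : ∃ x y : G, x ^ p = 1 ∧ y ^ p = 1 ∧ (x * y) ^ p ≠ 1 := by
    by_contra e
    push Not at e
    exact hnc ⟨⟨⟨⟨{g | g ^ p = 1}, fun {a b} ha hb => e a b ha hb⟩, one_pow p⟩,
      fun {a} ha => by rw [Set.mem_setOf, inv_pow, ha, inv_one]⟩, rfl⟩
  have h1 : closure ({x, y} : Set G) = ⊤ := by
    by_contra e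
    obtain ⟨H, hH⟩ := hsub _ e
    have a : (⟨x, subset_closure (by simp)⟩ : closure ({x, y} : Set G)) ∈ (H : Set _) := hH ▸ Subtype.ext hx
    have b : (⟨y, subset_closure (by simp)⟩ : closure ({x, y} : Set G)) ∈ (H : Set _) := hH ▸ Subtype.ext hy
    have c := SetLike.mem_coe.2 (H.mul_mem a b)
    rw [hH] at c
    exact hxy (congrArg Subtype.val c)
  have h2 : (⊤ : Subgroup G).lowerCentralSeries (p - 1) ≠ ⊥ := fun e => by
    have w := Reg.W_of_lcs hG fun a b => (lowerCentralSeries_mono _ le_top).trans (e.le.trans bot_le)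
    exact hxy (w.om1.mul_mem hx hy)
  have h3 : ∀ z ∈ center G, z ≠ 1 → ∀ g : G, g ^ p ∈ zpowers z := fun z z1 z2 g => by
    haveI : (zpowers z).Normal := ⟨fun a ha g => by
      rw [mem_center_iff.1 (zpowers_le.2 z1 ha) g, mul_inv_cancel_right]; exact ha⟩
    obtain ⟨H, hH⟩ := hquo (zpowers z) (zpowers_ne_bot.2 z2)
    have : closure ({x, y} : Set G) ≤ H.comap (QuotientGroup.mk' _) := by
      rw [closure_le]
      rintro a (rfl | rfl) <;> rw [SetLike.mem_coe, mem_comap, ← SetLike.mem_coe, hH, Set.mem_setOf, ← map_pow]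
      · rw [hx, map_one]
      · rw [hy, map_one]
    have a := SetLike.mem_coe.2 (mem_comap.1 (this (h1 ▸ mem_top g)))
    rw [hH, Set.mem_setOf, ← map_pow] at a
    exact (QuotientGroup.eq_one_iff _).1 a
  haveI : Nontrivial G := ⟨⟨_, _, hxy⟩⟩
  haveI := hG.center_nontrivial
  obtain ⟨z, z1, z2⟩ := exists_mem_orderOf_eq (Comp.dvd_card_of_isPGroup (hG.to_subgroup (center G)) ((nontrivial_iff_ne_bot _).1 this))
  have h4 : ∀ g : G, g ^ p ^ 2 = 1 := fun g => by
    obtain ⟨k, hk⟩ := mem_zpowers_iff.1 (h3 z z1 (fun e => hp.one_lt.ne' (by rw [← z2, e, orderOf_one])) g)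
    rw [pow_two, pow_mul, ← hk, ← zpow_natCast, ← zpow_mul, mul_comm, zpow_mul, zpow_natCast, ← z2, pow_orderOf_eq_one, one_zpow]
  refine ⟨⟨x, y, h1⟩, h2, ?_, ?_, ?_⟩
  · obtain ⟨k, k1, k2⟩ := (Nat.dvd_prime_pow hp).1 (Monoid.exponent_dvd_of_forall_pow_eq_one h4)
    rw [k2]
    congr 1
    by_contra e
    exact hxy (Monoid.exponent_dvd_iff_forall_pow_eq_one.1 (k2 ▸ (pow_dvd_pow p (by omega : k ≤ 1)).trans (pow_one p).dvd) _)
  · by_contra e
    obtain ⟨q, hq, E, e1, e2⟩ := Solv.exists_elementary_sq_of_not_isCyclic inferInstance e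
    obtain rfl : q = p := by
      obtain ⟨k, hk⟩ := IsPGroup.iff_card.1 ((hG.to_subgroup _).to_subgroup E)
      exact (Nat.prime_dvd_prime_iff_eq hq hp).1 (hq.dvd_of_dvd_pow (hk ▸ e1 ▸ dvd_pow_self q two_ne_zero))
    have c : Nat.card (zpowers ((x * y) ^ q)) = q := by
      rw [Nat.card_zpowers]; exact orderOf_eq_prime (by rw [← pow_mul, ← pow_two, h4]) hxy
    have a : E.map (center G).subtype ≤ zpowers ((x * y) ^ q) := by
      rintro _ ⟨t, t1, rfl⟩
      by_cases t2 : (t : G) = 1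
      · exact (show (center G).subtype t = 1 from t2) ▸ one_mem _
      rw [eq_of_le_of_card_ge (zpowers_le.2 (h3 t t.2 t2 (x * y))) (by
        rw [c, Nat.card_zpowers]; exact orderOf_le_of_pow_eq_one hq.pos (congrArg Subtype.val (e2 t t1)))]
      exact mem_zpowers _
    have := card_le_of_le a
    rw [card_map_of_injective (subtype_injective _), e1, c] at this
    nlinarith [hq.one_lt]
  · obtain ⟨k, rfl⟩ := Nat.exists_eq_add_of_le hp.two_le
    have a := Solv.pow_le_card_lcs hG k 1 (by rwa [show 1 + k = 2 + k - 1 by omega])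
    have b := Nat.le_of_dvd (Nat.pos_of_ne_zero index_ne_zero_of_finite) (Solv.sq_dvd_index_commutator hG fun e => hxy (by
      rw [Commute.mul_pow (e.isMulCommutative.is_comm.comm x y), hx, hy, one_mul]))
    rw [← card_mul_index (_root_.commutator G), show 2 + k + 1 = k + 1 + 2 by omega, pow_add]
    exact Nat.mul_le_mul a b

end Cfsg.Agent.S3872
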