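import Cfsg.Statements.S3873
import Cfsg.Agent.Lib.BG.Irr

set_option autoImplicit false
open Cfsg

namespace Cfsg.Agent.S3873
section
open Pointwise commutatorElement Subgroup
open Cfsg.Agent.Comp Cfsg.Agent.BG Subgroup commutatorElement in
theorem key {X : Type*} [Group X] {p : ℕ} : (∃ H : Subgroup X, (H : Set X) = {g : X | g ^ p = 1}) ↔
    ∀ a b : X, a ^ p = 1 → b ^ p = 1 → (a * b) ^ p = 1 :=
  ⟨fun ⟨H, h⟩ a b x y => (Set.ext_iff.1 h _).1 (mul_mem ((Set.ext_iff.1 h a).2 x) ((Set.ext_iff.1 h b).2 y)),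
    fun h => ⟨⟨⟨⟨_, fun {a b} => h a b⟩, one_pow p⟩, fun {a} (x : a ^ p = 1) => show a⁻¹ ^ p = 1 by rw [inv_pow, x, inv_one]⟩, rfl⟩⟩
end

/-- Say that a finite group is p-exponent closed when its elements of order dividing p form a subgroup. Let G be a finite group that is not p-exponent closed, but all of whose proper subgroups and proper quotients are, and suppose G is neither simple nor a p-group. Then there is a prime q ≠ p such that G has order p · q^e, where e is the multiplicative order of q modulo p, and G has a normal elementary abelian subgroup of order q^e that is a minimal normal subgroup of G. -/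
theorem result {G : Type*} [Group G] [Finite G] {p : ℕ} [Fact p.Prime]
    (hnc : ¬ (∃ H : Subgroup G, (H : Set G) = {g : G | g ^ p = 1})) (hsub : ∀ K : Subgroup G, K ≠ ⊤ → (∃ H : Subgroup ↥K, (H : Set ↥K) = {g : ↥K | g ^ p = 1}))
    (hquo : ∀ (N : Subgroup G) [N.Normal], N ≠ ⊥ → (∃ H : Subgroup (G ⧸ N), (H : Set (G ⧸ N)) = {g : (G ⧸ N) | g ^ p = 1}))
    (hns : ¬ IsSimpleGroup G) (hnp : ¬ IsPGroup p G) :
    ∃ q : ℕ, q.Prime ∧ q ≠ p ∧ Nat.card G = p * q ^ orderOf (q : ZMod p) ∧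
      ∃ A : Subgroup G, A.Normal ∧ Nat.card ↥A = q ^ orderOf (q : ZMod p) ∧ Cfsg.IsElementaryAbelian q A ∧
        ∀ B : Subgroup G, B.Normal → B ≤ A → B = ⊥ ∨ B = A := by
  open Pointwise commutatorElement Subgroup in
  open Cfsg.Agent.Comp Cfsg.Agent.BG Subgroup commutatorElement in
  have hp : p.Prime := Fact.out
  have s1 : ∀ K : Subgroup G, K ≠ ⊤ → ∀ a ∈ K, ∀ b ∈ K, a ^ p = 1 → b ^ p = 1 → (a * b) ^ p = 1 := fun K h a x b y u v =>
    congrArg Subtype.val (key.1 (hsub K h) ⟨a, x⟩ ⟨b, y⟩ (Subtype.ext u) (Subtype.ext v))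
  rw [key] at hnc
  have s2 : closure {g : G | g ^ p = 1} = ⊤ := by_contra fun e =>
    hnc fun a b u v => s1 _ e a (subset_closure u) b (subset_closure v) u v
  have : Nontrivial G := by
    by_contra e
    rw [not_nontrivial_iff_subsingleton] at e
    exact hnc fun _ _ _ _ => Subsingleton.elim _ _
  obtain ⟨M, m1, m2⟩ : ∃ M : Subgroup G, M.Normal ∧ ¬ (M = ⊥ ∨ M = ⊤) := by
    by_contra e
    exact hns ⟨fun M h => by_contra fun e' => e ⟨M, h, e'⟩⟩
  rw [not_or] at m2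
  obtain ⟨N, n1, n2, n3, n4⟩ := Solv.exists_minimal_normal_le M m2.1
  have n5 : N ≠ ⊤ := fun e => m2.2 (top_le_iff.1 (e ▸ n1))
  have n6 : ∀ g : G, g ^ p ∈ N := fun g => by
    obtain ⟨H, h⟩ := hquo N n3
    have : ⊤ ≤ H.comap (QuotientGroup.mk' N) := s2.ge.trans ((closure_le _).2 fun x (hx : x ^ p = 1) =>
      (Set.ext_iff.1 h _).2 (show (QuotientGroup.mk' N x) ^ p = 1 by rw [← map_pow, hx, map_one]))
    exact (QuotientGroup.eq_one_iff _).1 ((Set.ext_iff.1 h _).1 (this (mem_top g)))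
  let E : Subgroup G := ⟨⟨⟨{g | g ∈ N ∧ g ^ p = 1}, fun a b => ⟨mul_mem a.1 b.1, s1 N n5 _ a.1 _ b.1 a.2 b.2⟩⟩, one_mem _, one_pow p⟩,
    fun a => ⟨inv_mem a.1, by rw [inv_pow, a.2, inv_one]⟩⟩
  have e1 : E = ⊥ := (n4 E ⟨fun x h g => ⟨n2.conj_mem _ h.1 g, by rw [conj_pow, h.2, mul_one, mul_inv_cancel]⟩⟩
    fun _ h => h.1).resolve_right fun e => hnp fun g => ⟨2, by rw [sq, pow_mul]; exact (e.ge (n6 g)).2⟩
  have e2 : ∀ g ∈ N, g ^ p = 1 → g = 1 := fun g a b => mem_bot.1 (e1.le ⟨a, b⟩)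
  have hc : (Nat.card N).Coprime p := coprime_iff_not_dvd.2 fun h => by
    obtain ⟨x, x1, x2⟩ := exists_mem_orderOf_eq h
    rw [e2 x x1 (x2 ▸ pow_orderOf_eq_one x), orderOf_one] at x2
    exact hp.one_lt.ne x2
  obtain ⟨x, x1, x2⟩ : ∃ x : G, x ^ p = 1 ∧ x ∉ Ct(N) := by
    by_contra e
    push Not at e
    have e3 : ⊤ ≤ Ct(N) := s2.ge.trans ((closure_le _).2 e)
    obtain ⟨P, hP⟩ := exists_sylIn p (⊤ : Subgroup G)
    have e4 : P ⊔ N = ⊤ := by
      have := hP.map (QuotientGroup.mk' N)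
      rw [map_top_of_surjective _ (QuotientGroup.mk'_surjective N)] at this
      rw [← Solv.comap_map_mk, ← this.max ⊤ (Solv.isPGroup_of_pow_eq_one fun x _ => by
          obtain ⟨x, rfl⟩ := QuotientGroup.mk'_surjective N x
          rw [← map_pow]; exact (QuotientGroup.eq_one_iff _).2 (n6 x)) le_top le_rfl, comap_top]
    have e5 := hP.pClosed (e4.ge.trans (sup_le le_normalizer (le_Nm_of_le_Ct' (le_top.trans e3))))
    have e6 : ∀ a : G, a ^ p = 1 → a ∈ Op p ⊤ := fun a h => e5.le_Op le_top (isPGroup_zpowers (n := 1) (by rwa [pow_one])) (mem_zpowers a)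
    exact hnc fun a b u v => mem_bot.1 (((isPi_singleton.2 (isPGroup_Op p ⊤)).inf_eq_bot (isPi_compl_singleton.2 hc)).le
      ⟨pow_mem (mul_mem (e6 a u) (e6 b v)) p, n6 _⟩)
  refine Irr.core hc n4 x1 x2 fun H h hx => mem_Ct.2 fun n hn => commutatorElement_eq_one_iff_mul_comm.1 (e2 _
    (commutator_le_left N ⊤ (commutator_mem_commutator hn.2 (mem_top x))) ?_)
  exact s1 H h _ (mul_mem (mul_mem hn.1 hx) (inv_mem hn.1)) _ (inv_mem hx) (by rw [conj_pow, x1, mul_one, mul_inv_cancel])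
    (by rw [inv_pow, x1, inv_one])

end Cfsg.Agent.S3873
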