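import Cfsg.Statements.S3881
import Cfsg.Agent.Lib.BG.MetaOdd

set_option autoImplicit false
open Cfsg

namespace Cfsg.Agent.S3881

/-- Let p be an odd prime and G a finite metacyclic p-group (G has a cyclic normal subgroup with cyclic quotient). Suppose G is non-abelian with |G'| = p^n. Then for 1 ≤ i ≤ n the number of elements of G whose conjugacy class has exactly p^i elements is |Z(G)| · (p^(2i) − p^(2i−2)). -/
theorem result {G : Type*} [Group G] [Finite G] {p : ℕ} [Fact p.Prime] (hp : p ≠ 2) (hG : IsPGroup p G) (hmc : Cfsg.IsMetacyclic G) (n : ℕ) (hn : n ≠ 0) (hGn : Nat.card ↥(commutator G) = p ^ n) (i : ℕ) (hi : 1 ≤ i) (hin : i ≤ n) :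
    Nat.card {g : G // (Subgroup.centralizer ({g} : Set G)).index = p ^ i} =
      Nat.card ↥(Subgroup.center G) * (p ^ (2 * i) - p ^ (2 * i - 2)) := by
  open Pointwise commutatorElement Subgroup in
  open Cfsg.Agent.Reg in
  have h := MC_of hp hG hmc
  have hp1 : 1 < p := (Fact.out : p.Prime).one_lt
  have h1 : {g : G | (Subgroup.centralizer ({g} : Set G)).index = p ^ i} =
      (mho p (n - i) G : Set G) \ mho p (n - i + 1) G := by
    ext g
    simp only [Set.mem_setOf_eq, Set.mem_diff, SetLike.mem_coe]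
    refine ⟨fun e => ?_, fun e => by rw [h.index_C1 hGn (Nat.sub_le _ _) e.1 e.2, Nat.sub_sub_self hin]⟩
    rw [h.mem_iff_index hGn (Nat.sub_le _ _), h.mem_iff_index hGn (by omega), e,
      Nat.pow_le_pow_iff_right hp1, Nat.pow_le_pow_iff_right hp1]
    omega
  change Nat.card {g : G | (Subgroup.centralizer ({g} : Set G)).index = p ^ i} = _
  rw [h1, Nat.card_coe_set_eq, Set.ncard_diff (mho_anti (by omega)), ← Nat.card_coe_set_eq, ← Nat.card_coe_set_eq]
  change Nat.card (mho p (n - i) G) - Nat.card (mho p (n - i + 1) G) = _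
  rw [h.card_mho hGn (Nat.sub_le _ _), h.card_mho hGn (by omega), Nat.mul_sub]
  congr 3 <;> omega

end Cfsg.Agent.S3881
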