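import Cfsg.Statements.S3883
import Cfsg.Agent.Lib.BG.MetaOdd

set_option autoImplicit false
open Cfsg

namespace Cfsg.Agent.S3883

/-- Let p be an odd prime and G a finite metacyclic p-group (G has a cyclic normal subgroup with cyclic quotient). Suppose G is non-abelian. Then an element g of G lies outside the Frattini subgroup if and only if its centralizer C_G(g) is abelian. -/
theorem result {G : Type*} [Group G] [Finite G] {p : ℕ} [Fact p.Prime] (hp : p ≠ 2) (hG : IsPGroup p G) (hmc : Cfsg.IsMetacyclic G) (hna : ¬ IsMulCommutative G) (g : G) :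
    g ∉ frattini G ↔ IsMulCommutative ↥(Subgroup.centralizer ({g} : Set G)) := by
  open Pointwise commutatorElement Subgroup in
  open Cfsg.Agent.Reg in
  have h := MC_of hp hG hmc
  have hp1 : 1 < p := (Fact.out : p.Prime).one_lt
  obtain ⟨n, hn⟩ := IsPGroup.iff_card.1 (hG.to_subgroup (_root_.commutator G))
  have h0 : n ≠ 0 := by
    rintro rfl
    have := der_eq_bot_iff.1 hn
    exact hna ⟨⟨fun a b => congrArg Subtype.val (this.1.1 ⟨a, trivial⟩ ⟨b, trivial⟩)⟩⟩
  have h1 : frattini G = mho p 1 G := le_antisymm
    (Solv.frattini_le_of_commutator_le_of_pow_mem h.pw fun x => by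
      simpa using pow_mem_pc (p := p) (n := 1) (mem_top x))
    (pc_le.2 fun x _ => by rw [pow_one]; exact Solv.pow_mem_frattini hG x)
  rw [h1, h.mem_iff_index hn (by omega), abel_iff hp hG hmc]
  have h2 := (centralizer {g}).card_mul_index
  have h3 := (_root_.commutator G).card_mul_index
  obtain ⟨k, hk⟩ := hG.index (centralizer {g})
  have h4 : 0 < p ^ k := by positivity
  have h5 : 0 < (_root_.commutator G).index := Nat.pos_of_ne_zero FiniteIndex.index_ne_zero
  rw [← Nat.mul_le_mul_right_iff (n := Nat.card (centralizer ({g} : Set G))) h4, ← hk, h2, ← h3, hn, hk,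
    mul_comm, Nat.mul_le_mul_left_iff h5,
    Nat.pow_le_pow_iff_right hp1, Nat.pow_le_pow_iff_right hp1]
  omega

end Cfsg.Agent.S3883
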