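import Cfsg.Statements.S3884
import Cfsg.Agent.Lib.BG.MetaOdd

set_option autoImplicit false
open Cfsg

namespace Cfsg.Agent.S3884

/-- Let p be an odd prime and G a finite metacyclic p-group (G has a cyclic normal subgroup with cyclic quotient). Then G is the product of two cyclic subgroups with trivial intersection: there are cyclic subgroups A and B with A ∩ B = 1 and |A| · |B| = |G|. -/
theorem result {G : Type*} [Group G] [Finite G] {p : ℕ} [Fact p.Prime] (hp : p ≠ 2) (hG : IsPGroup p G) (hmc : Cfsg.IsMetacyclic G) : ∃ A B : Subgroup G, IsCyclic ↥A ∧ IsCyclic ↥B ∧ A ⊓ B = ⊥ ∧ Nat.card ↥A * Nat.card ↥B = Nat.card G := by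
  open Pointwise commutatorElement Subgroup in
  open Cfsg.Agent.Reg in
  have h := MC_of hp hG hmc
  have hp' : p.Prime := Fact.out
  obtain ⟨a, ha⟩ := Finite.exists_max (fun g : G => orderOf g)
  by_cases h1 : a = 1
  · haveI : Subsingleton G := ⟨fun x y => by
      have : ∀ x : G, x = 1 := fun x => orderOf_eq_one_iff.1 (le_antisymm (by simpa [h1] using ha x) (orderOf_pos x))
      rw [this x, this y]⟩
    exact ⟨⊥, ⊥, inferInstance, inferInstance, by simp, by simp⟩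
  obtain ⟨b0, hb0⟩ := h.exists_gen (h := a) fun h2 => by
    obtain ⟨w, -, rfl⟩ := h.w.B _ h2
    have h3 := ha w
    obtain ⟨k, hk⟩ := IsPGroup.iff_orderOf.1 hG w
    rcases k with _ | k
    · rw [pow_zero, orderOf_eq_one_iff] at hk; simp [hk] at h1
    rw [pow_one, orderOf_pow, hk, Nat.gcd_eq_right (dvd_pow_self p k.succ_ne_zero), pow_succ,
      Nat.mul_div_cancel _ hp'.pos] at h3
    have := hp'.one_lt
    have : 0 < p ^ k := by positivity
    nlinarith
  haveI : Nonempty {b // cl2 a b = ⊤} := ⟨⟨b0, hb0⟩⟩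
  obtain ⟨⟨b, hb⟩, hmin⟩ := Finite.exists_min (fun b : {b // cl2 a b = ⊤} => orderOf b.1)
  have hd : zpowers a ⊓ zpowers b = ⊥ := by
    by_contra hne
    obtain ⟨t, ht⟩ := exists_pow_mem_iff hG (zpowers a) b
    obtain ⟨k, hk⟩ := IsPGroup.iff_orderOf.1 hG b
    obtain ⟨e, he⟩ := IsPGroup.iff_orderOf.1 hG a
    have hke : k ≤ e := by
      have := ha b
      simp only [hk, he] at this
      exact (Nat.pow_le_pow_iff_right hp'.one_lt).1 this
    have htk : t < k := by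
      by_contra h2
      refine hne (eq_bot_iff.2 ?_)
      rintro _ ⟨h3, j, rfl⟩
      exact orderOf_dvd_iff_zpow_eq_one.1 ((Int.natCast_dvd_natCast.2
        (hk ▸ pow_dvd_pow p (by omega))).trans ((ht j).1 h3))
    obtain ⟨k, rfl⟩ : ∃ k', k = k' + 1 := ⟨k - 1, by omega⟩
    obtain ⟨i, hi⟩ := (ht (p ^ k : ℕ)).2 (Int.natCast_dvd_natCast.2 (pow_dvd_pow p (by omega)))
    simp only [zpow_natCast] at hi
    have h3 : ((p ^ (k + 1) : ℕ) : ℤ) ∣ i * (p ^ 1 : ℕ) := by
      refine (Int.natCast_dvd_natCast.2 (pow_dvd_pow p hke)).trans ?_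
      rw [← he, orderOf_dvd_iff_zpow_eq_one, zpow_mul, hi, zpow_natCast, ← pow_mul, ← pow_add, ← hk,
        pow_orderOf_eq_one]
    obtain ⟨u, rfl⟩ := (pp_dvd' (by omega)).1 h3
    rw [Nat.add_sub_cancel, mul_comm, zpow_mul, zpow_natCast] at hi
    have h4 := orderOf_dvd_of_pow_eq_one ((W.A k h.w _ _).1 hi)
    have h5 := hmin ⟨(a ^ u)⁻¹ * b, top_le_iff.1 (hb.ge.trans (cl2_le.2 ⟨left_mem _ _, by
      simpa using mul_mem (zpow_mem (left_mem a ((a ^ u)⁻¹ * b)) u) (right_mem _ _)⟩))⟩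
    simp only [hk] at h5
    have := (Nat.pow_le_pow_iff_right hp'.one_lt).1 (h5.trans (Nat.le_of_dvd (pow_pos hp'.pos _) h4))
    omega
  refine ⟨zpowers a, zpowers b, inferInstance, inferInstance, hd, ?_⟩
  rw [← Nat.card_prod]
  refine Nat.card_eq_of_bijective (fun x => x.1.1 * x.2.1) ⟨mul_injective_of_disjoint (disjoint_iff.2 hd), fun g => ?_⟩
  obtain ⟨i, j, rfl⟩ := h.prod hb g
  exact ⟨(⟨_, i, rfl⟩, ⟨_, j, rfl⟩), rfl⟩

end Cfsg.Agent.S3884
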