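import Cfsg.Statements.S3885
import Cfsg.Agent.Lib.BG.MetaOdd

set_option autoImplicit false
open Cfsg

namespace Cfsg.Agent.S3885

/-- Let p be an odd prime and G a finite metacyclic p-group (G has a cyclic normal subgroup with cyclic quotient). Then every abelian subgroup K of G containing the center of G is the center of its own centralizer: K = Z(C_G(K)). -/
theorem result {G : Type*} [Group G] [Finite G] {p : ℕ} [Fact p.Prime] (hp : p ≠ 2) (hG : IsPGroup p G) (hmc : Cfsg.IsMetacyclic G) (K : Subgroup G) (hK : IsMulCommutative ↥K) (hZ : Subgroup.center G ≤ K) :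
    K = Subgroup.centralizer (K : Set G) ⊓ Subgroup.centralizer (Subgroup.centralizer (K : Set G) : Set G) := by
  open Pointwise commutatorElement Subgroup in
  open Cfsg.Agent.Reg in
  have h := MC_of hp hG hmc
  obtain ⟨n, hn⟩ := IsPGroup.iff_card.1 (hG.to_subgroup (_root_.commutator G))
  have h1 := h.card_mul_Ct hn hZ
  rw [← h.card_mul_Ct hn (center_le_centralizer (K : Set G)), mul_comm] at h1
  have h2 := eq_of_le_of_card_ge (le_centralizer_iff.1 (le_refl (centralizer (K : Set G))))
    (mul_left_cancel₀ Nat.card_pos.ne' h1).ge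
  rw [← h2, eq_comm, inf_eq_right]
  exact le_centralizer_iff_isMulCommutative.2 hK

end Cfsg.Agent.S3885
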