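import Cfsg.Statements.S3886
import Cfsg.Agent.Lib.BG.MetaOdd

set_option autoImplicit false
open Cfsg

namespace Cfsg.Agent.S3886

/-- Let p be an odd prime and G a finite metacyclic p-group (G has a cyclic normal subgroup with cyclic quotient). Then the largest value of |R| · |Z(R)| over subgroups R of G is |G : G'|², and the subgroups attaining it (the centrally large subgroups) are exactly the non-abelian subgroups together with the maximal abelian subgroups of G. -/
theorem result {G : Type*} [Group G] [Finite G] {p : ℕ} [Fact p.Prime] (hp : p ≠ 2) (hG : IsPGroup p G) (hmc : Cfsg.IsMetacyclic G) : Cfsg.maxCentralProduct G = (commutator G).index ^ 2 ∧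
    ∀ R : Subgroup G, Cfsg.IsCentrallyLarge R ↔ (¬ IsMulCommutative ↥R ∨ Maximal (fun K : Subgroup G => IsMulCommutative ↥K) R) := by
  open Pointwise commutatorElement Subgroup in
  open Cfsg.Agent.Reg in
  have key : ∀ R : Subgroup G, Nat.card R * Nat.card (center R) ≤ (_root_.commutator G).index ^ 2 ∧
      (Nat.card R * Nat.card (center R) = (_root_.commutator G).index ^ 2 ↔
        (¬ IsMulCommutative R ∨ Maximal (fun K : Subgroup G => IsMulCommutative K) R)) := by
    intro R
    have h1 := (MC_of hp (hG.to_subgroup R) (meta_inj _ R.subtype_injective hmc)).index_center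
    have h2 := (center R).card_mul_index
    rw [h1, ← card_map_of_injective R.subtype_injective (K := _root_.commutator R), map_subtype_commutator] at h2
    obtain ⟨h3, h4⟩ := card_sub hp hG hmc R
    have h5 : 0 < Nat.card (⁅R, R⁆ : Subgroup G) ^ 2 := pow_pos Nat.card_pos _
    refine ⟨Nat.le_of_mul_le_mul_right ?_ h5, fun h => ?_, fun h => mul_right_cancel₀ h5.ne' ?_⟩
    · rw [mul_assoc, h2, ← mul_pow, ← pow_two]; exact Nat.pow_le_pow_left h3 2
    · refine or_iff_not_imp_left.2 fun h6 => ?_
      rw [der_eq_bot_iff.2 (not_not.1 h6), one_pow, mul_one] at h2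
      rw [h2, ← pow_two] at h
      exact (maxabel_iff hp hG hmc R).2 (Nat.pow_left_injective two_ne_zero h)
    · rw [mul_assoc, h2, ← mul_pow, ← pow_two, h4 h]
  have h1 : maxCentralProduct G = (_root_.commutator G).index ^ 2 := by
    obtain ⟨R, -, hR⟩ := Finite.exists_le_maximal (p := fun K : Subgroup G => IsMulCommutative K) (a := ⊥) inferInstance
    exact IsGreatest.csSup_eq ⟨⟨R, (key R).2.2 (Or.inr hR)⟩, by rintro _ ⟨R, rfl⟩; exact (key R).1⟩
  exact ⟨h1, fun R => by rw [IsCentrallyLarge, h1]; exact (key R).2⟩

end Cfsg.Agent.S3886
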