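import Cfsg.Statements.S3887
import Cfsg.Agent.Lib.BG.MetaOdd

set_option autoImplicit false
open Cfsg

namespace Cfsg.Agent.S3887

/-- Let p be an odd prime and G a finite metacyclic p-group (G has a cyclic normal subgroup with cyclic quotient). Then a subgroup R of G maximizes |R| · |C_G(R)| over all subgroups of G if and only if R contains the center of G. -/
theorem result {G : Type*} [Group G] [Finite G] {p : ℕ} [Fact p.Prime] (hp : p ≠ 2) (hG : IsPGroup p G) (hmc : Cfsg.IsMetacyclic G) (R : Subgroup G) : Cfsg.IsCentralizerLarge R ↔ Subgroup.center G ≤ R := by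
  open Pointwise commutatorElement Subgroup in
  open Cfsg.Agent.Reg in
  have h := MC_of hp hG hmc
  obtain ⟨n, hn⟩ := IsPGroup.iff_card.1 (hG.to_subgroup (_root_.commutator G))
  have key : ∀ R : Subgroup G, Nat.card (R ⊔ center G : Subgroup G) * Nat.card (centralizer (R : Set G)) =
      Nat.card G * Nat.card (center G) := fun R => by
    rw [← h.card_mul_Ct hn (R := R ⊔ center G) le_sup_right, Comp.centralizer_sup,
      centralizer_eq_top_iff_subset.2 subset_rfl, inf_top_eq]
  have h1 : maxCentralizerProduct G = Nat.card G * Nat.card (center G) :=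
    IsGreatest.csSup_eq ⟨⟨center G, h.card_mul_Ct hn le_rfl⟩, by
      rintro _ ⟨R, rfl⟩; rw [← key R]; exact Nat.mul_le_mul_right _ (card_le_of_le le_sup_left)⟩
  rw [IsCentralizerLarge, h1]
  refine ⟨fun e => ?_, h.card_mul_Ct hn⟩
  rw [← key R] at e
  exact le_sup_right.trans (eq_of_le_of_card_ge le_sup_left (mul_right_cancel₀ Nat.card_pos.ne' e).ge).ge

end Cfsg.Agent.S3887
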