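import Cfsg.Statements.S3889

set_option autoImplicit false
open Cfsg

namespace Cfsg.Agent.S3889

/-- A finite abelian group that is the union of a family of proper subgroups any two of which intersect trivially is elementary abelian: its exponent is a prime. -/
theorem result {G : Type*} [CommGroup G] [Finite G] (𝓑 : Set (Subgroup G)) (hprop : ∀ B ∈ 𝓑, B ≠ ⊤)
    (hcov : ∀ g : G, ∃ B ∈ 𝓑, g ∈ B) (hdisj : ∀ B ∈ 𝓑, ∀ C ∈ 𝓑, B ≠ C → B ⊓ C = ⊥) :
    (Monoid.exponent G).Prime := by
  open Pointwise commutatorElement Subgroup in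
  have hnt : Nontrivial G := by
    by_contra h
    rw [not_nontrivial_iff_subsingleton] at h
    obtain ⟨B, hB, -⟩ := hcov 1
    exact hprop B hB (Subsingleton.elim _ _)
  obtain ⟨p, hp, hd⟩ := Nat.exists_prime_and_dvd (Finite.one_lt_card (α := G)).ne'
  haveI := Fact.mk hp
  obtain ⟨u, hu⟩ := exists_prime_orderOf_dvd_card' p hd
  have key : ∀ B ∈ 𝓑, ∀ x ∈ B, x ^ p ≠ 1 → ∀ y : G, y ^ p = 1 → y ∈ B := by
    intro B hB x hx hxp y hy
    obtain ⟨C, hC, hxy⟩ := hcov (x * y)
    by_cases h : B = C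
    · subst h
      exact (mul_mem_cancel_left hx).1 hxy
    · exfalso
      apply hxp
      rw [← mem_bot, ← hdisj B hB C hC h]
      refine ⟨pow_mem hx p, ?_⟩
      have := pow_mem hxy p
      rwa [mul_pow, hy, mul_one] at this
  have hall : ∀ x : G, x ^ p = 1 := by
    intro x
    by_contra hx
    obtain ⟨B, hB, hxB⟩ := hcov x
    obtain ⟨z, hz⟩ : ∃ z, z ∉ B := by
      by_contra h
      push Not at h
      exact hprop B hB (eq_top_iff.2 fun z _ => h z)
    have hzp : z ^ p ≠ 1 := fun h => hz (key B hB x hxB hx z h)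
    obtain ⟨C, hC, hzC⟩ := hcov z
    have hup : u ^ p = 1 := by rw [← hu, pow_orderOf_eq_one]
    have h1 : u ∈ B ⊓ C := ⟨key B hB x hxB hx u hup, key C hC z hzC hzp u hup⟩
    rw [hdisj B hB C hC (fun h => hz (h ▸ hzC)), mem_bot] at h1
    rw [h1, orderOf_one] at hu
    exact hp.one_lt.ne hu
  have h1 : Monoid.exponent G ∣ p := Monoid.exponent_dvd_of_forall_pow_eq_one hall
  have h2 : p ∣ Monoid.exponent G := hu ▸ Monoid.order_dvd_exponent u
  rwa [Nat.dvd_antisymm h1 h2]

end Cfsg.Agent.S3889
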