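import Cfsg.Statements.S3890
import Cfsg.Agent.Lib.BG.Cover

set_option autoImplicit false
open Cfsg

namespace Cfsg.Agent.S3890

/-- A cover of a group is a finite set of proper subgroups whose union is the whole group; it is minimal when no cover has fewer members, and nilpotent when all its members are nilpotent. Let G be a finite group with trivial center admitting a nilpotent minimal cover 𝓐, and let P be an abelian Sylow p-subgroup of G that is not normal. Then either P is elementary abelian of order greater than p, or P is a Sylow p-subgroup of some member A of 𝓐, the normalizer N of P is a maximal subgroup of G, N meets each of its conjugates by elements outside N in a subgroup of order prime to p, and the centralizer of P equals A. -/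
theorem result {G : Type*} [Group G] [Finite G] (hZ : Subgroup.center G = ⊥) (𝓐 : Finset (Subgroup G))
    (h𝓐 : ((∀ A ∈ 𝓐, A ≠ ⊤) ∧ (∀ g : G, ∃ A ∈ 𝓐, g ∈ A)) ∧ (∀ 𝓑 : Finset (Subgroup G), (∀ A ∈ 𝓑, A ≠ ⊤) ∧ (∀ g : G, ∃ A ∈ 𝓑, g ∈ A) → 𝓐.card ≤ 𝓑.card) ∧ (∀ A ∈ 𝓐, Group.IsNilpotent ↥A)) {p : ℕ} [Fact p.Prime] (P : Sylow p G) (hab : IsMulCommutative ↥(P : Subgroup G))
    (hnn : ¬ (P : Subgroup G).Normal) :
    (Cfsg.IsElementaryAbelian p (P : Subgroup G) ∧ p < Nat.card ↥(P : Subgroup G)) ∨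
    (∃ A ∈ 𝓐, (P : Subgroup G) ≤ A ∧ ¬ p ∣ ((P : Subgroup G).subgroupOf A).index ∧
      IsCoatom (Subgroup.normalizer ((P : Subgroup G) : Set G)) ∧
      (∀ g : G, g ∉ Subgroup.normalizer ((P : Subgroup G) : Set G) →
        ¬ p ∣ Nat.card ↥(Subgroup.normalizer ((P : Subgroup G) : Set G) ⊓
          (Subgroup.normalizer ((P : Subgroup G) : Set G)).map (MulAut.conj g).toMonoidHom)) ∧
      Subgroup.centralizer ((P : Subgroup G) : Set G) = A) := by
  open Pointwise commutatorElement Subgroup in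
  open Cfsg.Agent.Comp Cfsg.Agent.BG Cfsg.Agent.Cover Subgroup commutatorElement in
  refine or_iff_not_imp_left.2 fun he => ?_
  have s := sylIn_top P
  have h0 : (P : Subgroup G) ≠ ⊥ := fun e => hnn (e ▸ inferInstance)
  have a : (P : Subgroup G) ≤ Ct((P : Subgroup G)) := le_centralizer_iff_isMulCommutative.2 hab
  refine ⟨_, NC.main h𝓐 hZ s hab h0 he, a, (s.of_le a le_top).not_dvd_relIndex, (NC.max h𝓐 hZ s hab hnn he).1, fun g hg e => hg ?_, rfl⟩
  obtain ⟨y, ⟨y1, y2⟩, y3⟩ := exists_mem_orderOf_eq e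
  have q := isPGroup_zpowers_of_orderOf_eq y3
  refine mem_Nm s hab (NC.eq_of_mem h𝓐 hZ s hab (NC.main h𝓐 hZ s hab h0 he) (NC.cj h𝓐 hZ s hab h0 he g)
    (fun t => (Fact.out : p.Prime).one_lt.ne' (by rw [← y3, t, orderOf_one]))
    (a (s.le_of_normalizer q le_top (zpowers_le.2 y1) (mem_zpowers y))) (cj_mono g a ?_) q)
  exact (s.cj_of_mem (le_normalizer (mem_top g))).le_of_normalizer q le_top (zpowers_le.2 (cj_normalizer g _ ▸ y2)) (mem_zpowers y)

end Cfsg.Agent.S3890
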