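import Cfsg.Statements.S3891
import Cfsg.Agent.Lib.BG.Cover

set_option autoImplicit false
open Cfsg

namespace Cfsg.Agent.S3891

/-- A cover of a group is a finite set of proper subgroups whose union is the whole group; it is minimal when no cover has fewer members, and nilpotent when all its members are nilpotent. Let G be a finite group with trivial center admitting a nilpotent minimal cover, and let P be a non-normal Sylow p-subgroup of G that is cyclic, or abelian but not elementary abelian. Then the centralizer of P is nilpotent and the normalizer of P is the unique maximal subgroup of G containing the centralizer of P. -/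
theorem result {G : Type*} [Group G] [Finite G] (hZ : Subgroup.center G = ⊥) (𝓐 : Finset (Subgroup G))
    (h𝓐 : ((∀ A ∈ 𝓐, A ≠ ⊤) ∧ (∀ g : G, ∃ A ∈ 𝓐, g ∈ A)) ∧ (∀ 𝓑 : Finset (Subgroup G), (∀ A ∈ 𝓑, A ≠ ⊤) ∧ (∀ g : G, ∃ A ∈ 𝓑, g ∈ A) → 𝓐.card ≤ 𝓑.card) ∧ (∀ A ∈ 𝓐, Group.IsNilpotent ↥A)) {p : ℕ} [Fact p.Prime] (P : Sylow p G)
    (hP : IsCyclic ↥(P : Subgroup G) ∨ (IsMulCommutative ↥(P : Subgroup G) ∧ ¬ Cfsg.IsElementaryAbelian p (P : Subgroup G)))
    (hnn : ¬ (P : Subgroup G).Normal) :
    Group.IsNilpotent ↥(Subgroup.centralizer ((P : Subgroup G) : Set G)) ∧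
      IsCoatom (Subgroup.normalizer ((P : Subgroup G) : Set G)) ∧
      ∀ M : Subgroup G, IsCoatom M → Subgroup.centralizer ((P : Subgroup G) : Set G) ≤ M →
        M = Subgroup.normalizer ((P : Subgroup G) : Set G) := by
  open Pointwise commutatorElement Subgroup in
  open Cfsg.Agent.Comp Cfsg.Agent.BG Cfsg.Agent.Cover Subgroup commutatorElement in
  have hc : IsMulCommutative (P : Subgroup G) := hP.elim comm_of_isCyclic And.left
  have he : ¬ (IsElementaryAbelian p (P : Subgroup G) ∧ p < Nat.card P) := fun ⟨a, b⟩ => hP.elim (fun e => by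
    obtain ⟨x, x1, x2⟩ := Solv.isCyclic_iff_exists_le_zpowers.1 e
    have := card_le_of_le x2
    rw [Nat.card_zpowers] at this
    exact b.not_ge (this.trans (orderOf_le_of_pow_eq_one (Fact.out : p.Prime).pos (a.2 x x1)))) fun e => e.2 a
  exact ⟨h𝓐.2.2 _ (NC.main h𝓐 hZ (sylIn_top P) hc (fun e => hnn (e ▸ inferInstance)) he), NC.max h𝓐 hZ (sylIn_top P) hc hnn he⟩

end Cfsg.Agent.S3891
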