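import Cfsg.Statements.S3892
import Cfsg.Agent.Lib.BG.Cover

set_option autoImplicit false
open Cfsg

namespace Cfsg.Agent.S3892
section
open Pointwise commutatorElement Subgroup
open Cfsg.Agent.Comp Cfsg.Agent.BG Subgroup commutatorElement in
theorem core {X : Type*} [Group X] [Finite X] (hZ : center X = ⊥) {p : ℕ} (hp : p.Prime) {c h : X}
    (hc : orderOf c = p) (h2 : ¬ p ^ 2 ∣ Nat.card X) {H : Subgroup X} (hH : H ≠ ⊤)
    (h3 : ∀ g, g * c = c * g → g ∈ H) (h4 : h ∈ H) (h5 : h * c * h⁻¹ * c ≠ c * (h * c * h⁻¹))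
    (𝓐 : Finset (Subgroup X)) : ¬ Cover.NC 𝓐 := by
  intro hn
  haveI : Fact p.Prime := ⟨hp⟩
  have hel := el_one_zpowers hc
  have hP : SylIn p (zpowers c) ⊤ := by
    refine sylIn_of_not_dvd le_top hel.isP fun hd => h2 ?_
    rw [relIndex_top_right] at hd
    rw [← (zpowers c).card_mul_index, hel.card_one, sq]
    exact Nat.mul_dvd_mul_left _ hd
  have he : ¬ (IsElementaryAbelian p (zpowers c) ∧ p < Nat.card (zpowers c)) := fun h => by
    have := h.2; rw [hel.card_one] at this; omega
  have h6 : Ct(zpowers c) ≤ H := fun g hg => h3 g (hg c (mem_zpowers c)).symm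
  have h7 := hn.eq (hn.main hZ hP hel.comm hel.ne_bot he) (hn.cj hZ hP hel.comm hel.ne_bot he h)
    (fun e => hH (eq_top_iff.2 (e ▸ sup_le h6 (Comp.cj_le_of_mem h6 (le_normalizer h4)))))
  have h8 := Comp.conj_mem_of_mem_normalizer (Cover.mem_Nm hP hel.comm h7) (mem_zpowers c)
  exact h5 (le_centralizer _ (mem_zpowers c) _ h8)

open Equiv Equiv.Perm in
theorem cen {α : Type*} [Fintype α] [DecidableEq α] (h : 3 ≤ Fintype.card α) : Subgroup.center (Perm α) = ⊥ := by
  rw [eq_bot_iff]
  intro z hz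
  rw [Subgroup.mem_bot]
  ext a
  by_contra hn
  replace hn : z a ≠ a := by
    intro e; apply hn; rw [e]; rfl
  obtain ⟨b, hb⟩ : ∃ b, b ∉ ({a, z a} : Finset α) := by
    by_contra hh
    push_neg at hh
    have := Finset.card_le_card (fun x _ => hh x : Finset.univ ⊆ {a, z a})
    have h2 : ({a, z a} : Finset α).card ≤ 2 := Finset.card_le_two
    rw [Finset.card_univ] at this
    omega
  simp only [Finset.mem_insert, Finset.mem_singleton, not_or] at hb
  have := congrArg (fun σ : Perm α => σ a) (Subgroup.mem_center_iff.1 hz (swap (z a) b))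
  simp only [Perm.mul_apply, swap_apply_left] at this
  rw [swap_apply_of_ne_of_ne (Ne.symm hn) (Ne.symm hb.1)] at this
  exact hb.2 this

open Equiv Equiv.Perm Subgroup in
theorem big {X : Type*} [Group X] [Finite X] (hZ : center X = ⊥) {n : ℕ} (hn : 6 ≤ n) (f : X →* Perm (Fin n))
    (hf : Function.Injective f) (ha : alternatingGroup (Fin n) ≤ f.range) (𝓐 : Finset (Subgroup X)) :
    ¬ Cover.NC 𝓐 := by
  obtain ⟨p, hp, p1, p2⟩ := Nat.exists_prime_lt_and_le_two_mul (n / 2) (by omega)
  have hodd := hp.eq_two_or_odd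
  have p5 : 5 ≤ p := by omega
  have pn : p < n := by omega
  haveI : Fact p.Prime := ⟨hp⟩
  obtain ⟨c, hc⟩ := exists_prime_orderOf_dvd_card (G := Perm (Fin n)) p (by
    rw [Fintype.card_perm, Fintype.card_fin]; exact Nat.dvd_factorial hp.pos pn.le)
  have hcy : c.IsCycle := isCycle_of_prime_order' (hc ▸ hp) (by rw [Fintype.card_fin, hc]; omega)
  have hsup : c.support.card = p := by rw [← hcy.orderOf, hc]
  obtain ⟨c₀, rfl⟩ := ha (show c ∈ alternatingGroup (Fin n) by
    rw [mem_alternatingGroup, hcy.sign, hsup, Odd.neg_one_pow (Nat.odd_iff.2 (by omega)), neg_neg])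
  set c := f c₀ with hc0
  let H : Subgroup X :=
    { carrier := {g | ∀ x, c (f g x) = f g x ↔ c x = x}
      one_mem' := by intro x; simp
      mul_mem' := fun {a b} h1 h2 x => by rw [map_mul, Perm.mul_apply, h1, h2]
      inv_mem' := fun {a} h1 x => by
        have := h1 (f a⁻¹ x)
        rw [← Perm.mul_apply (f a), ← map_mul, mul_inv_cancel, map_one, Perm.one_apply] at this
        exact this.symm }
  obtain ⟨x, hx, -⟩ := hcy
  have hcy : c.IsCycle := isCycle_of_prime_order' (hc ▸ hp) (by rw [Fintype.card_fin, hc]; omega)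
  have ne : ∀ i, 0 < i → i < 5 → (c ^ i) x ≠ x := by
    intro i h1 h2 e
    have := orderOf_dvd_of_pow_eq_one ((hcy.pow_eq_one_iff' hx).2 e)
    rw [hc] at this
    have := Nat.le_of_dvd h1 this
    omega
  have n1 : c x ≠ x := hx
  have n2 : c (c x) ≠ x := ne 2 (by omega) (by omega)
  have n3 : c (c (c x)) ≠ x := ne 3 (by omega) (by omega)
  have n4 : c (c (c (c x))) ≠ x := ne 4 (by omega) (by omega)
  have inj : ∀ {a b}, a ≠ b → c a ≠ c b := fun h e => h (c.injective e)
  obtain ⟨b, hb⟩ : ∃ b, c b = b := by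
    by_contra hh
    push_neg at hh
    have : c.support = Finset.univ := Finset.eq_univ_of_forall fun y => mem_support.2 (hh y)
    rw [this, Finset.card_univ, Fintype.card_fin] at hsup
    omega
  have bx : x ≠ b := fun e => n1 (e ▸ hb)
  have bcx : b ≠ c x := fun e => inj n1 (e ▸ hb)
  obtain ⟨t, ht⟩ := ha (isThreeCycle_swap_mul_swap_same bx n1.symm bcx).mem_alternatingGroup
  obtain ⟨h, hh⟩ := ha (isThreeCycle_swap_mul_swap_same (inj (inj n2)).symm (inj (inj n1)).symm
    (inj (inj (inj n1)))).mem_alternatingGroup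
  have fx : f h x = x := by
    rw [hh, Perm.mul_apply, swap_apply_of_ne_of_ne n2.symm n3.symm, swap_apply_of_ne_of_ne n2.symm n4.symm]
  have fcx : f h (c x) = c x := by
    rw [hh, Perm.mul_apply, swap_apply_of_ne_of_ne (inj n1).symm (inj n2).symm,
      swap_apply_of_ne_of_ne (inj n1).symm (inj n3).symm]
  have fu : f h (c (c x)) = c (c (c x)) := by
    rw [hh, Perm.mul_apply, swap_apply_left, swap_apply_of_ne_of_ne (inj (inj n1)) (inj (inj (inj n1))).symm]
  refine core hZ hp (c := c₀) (h := h) (H := H) (by rw [← hc, hc0, orderOf_injective f hf]) ?_ ?_ ?_ ?_ ?_ 𝓐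
  · intro hd
    have h1 : p ^ 2 ∣ n.factorial := by
      have := hd.trans (Subgroup.card_dvd_of_injective f hf)
      rwa [Nat.card_perm, Nat.card_fin] at this
    rw [Nat.Prime.pow_dvd_factorial_iff hp (b := 2) (Nat.log_lt_of_lt_pow (by omega) (by
      have : n < 2 * p := by omega
      nlinarith))] at h1
    have : n / p < 2 := Nat.div_lt_of_lt_mul (by omega)
    simp at h1
    omega
  · intro e
    have : t ∈ H := e ▸ mem_top t
    have := this (c x)
    rw [ht, Perm.mul_apply, swap_apply_right, swap_apply_left] at this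
    exact inj n1 (this.1 hb)
  · intro g hg y
    have := congrArg (fun σ => f σ y) hg
    simp only [map_mul, Perm.mul_apply] at this
    rw [← hc0] at this
    rw [← this]
    exact (f g).injective.eq_iff
  · intro y
    by_cases e1 : y = c (c x)
    · rw [e1, fu]; exact iff_of_false (inj (inj (inj n1))) (inj (inj n1))
    by_cases e2 : y = c (c (c x))
    · rw [e2, hh, Perm.mul_apply, swap_apply_right, swap_apply_left]
      exact iff_of_false (inj (inj (inj (inj n1)))) (inj (inj (inj n1)))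
    by_cases e3 : y = c (c (c (c x)))
    · rw [e3, hh, Perm.mul_apply, swap_apply_of_ne_of_ne (inj (inj n2)) (inj (inj (inj n1))), swap_apply_right]
      exact iff_of_false (inj (inj n1)) (inj (inj (inj (inj n1))))
    rw [hh, Perm.mul_apply, swap_apply_of_ne_of_ne e1 e2, swap_apply_of_ne_of_ne e1 e3]
  · intro e
    have := congrArg (fun σ => f σ x) e
    simp only [map_mul, map_inv, Perm.mul_apply] at this
    rw [← hc0, Perm.inv_eq_iff_eq.2 fx.symm, Perm.inv_eq_iff_eq.2 fcx.symm, fu, fcx] at this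
    exact inj (inj n1) this

open Equiv Equiv.Perm Subgroup in
theorem s4 (𝓐 : Finset (Subgroup (Perm (Fin 4)))) : ¬ Cover.NC 𝓐 := by
  refine core (cen (by simp)) Nat.prime_three (c := swap 0 1 * swap 0 2) (h := swap 0 1 * swap 0 3)
    (H := alternatingGroup (Fin 4)) (isThreeCycle_swap_mul_swap_same (by decide) (by decide) (by decide)).orderOf
    (by rw [Nat.card_perm, Nat.card_fin]; decide) ?_ ?_ (by rw [mem_alternatingGroup]; decide) (by decide) 𝓐
  · intro e
    have : swap (0 : Fin 4) 1 ∈ alternatingGroup (Fin 4) := e ▸ mem_top _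
    rw [mem_alternatingGroup] at this
    revert this; decide
  · simp only [mem_alternatingGroup]; decide +kernel

open Equiv Equiv.Perm Subgroup in
theorem s5 (𝓐 : Finset (Subgroup (Perm (Fin 5)))) : ¬ Cover.NC 𝓐 := by
  haveI : Fact (Nat.Prime 5) := ⟨by norm_num⟩
  refine core (cen (by simp)) (p := 5) (by norm_num) (c := swap 0 1 * swap 0 2 * swap 0 3 * swap 0 4)
    (h := swap 0 1 * swap 0 3)
    (H := alternatingGroup (Fin 5)) (orderOf_eq_prime (by decide) (by decide))
    (by rw [Nat.card_perm, Nat.card_fin]; decide) ?_ ?_ (by rw [mem_alternatingGroup]; decide) (by decide) 𝓐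
  · intro e
    have : swap (0 : Fin 5) 1 ∈ alternatingGroup (Fin 5) := e ▸ mem_top _
    rw [mem_alternatingGroup] at this
    revert this; decide
  · simp only [mem_alternatingGroup]; decide +kernel

open Equiv Equiv.Perm Subgroup in
theorem a5 (𝓐 : Finset (Subgroup (alternatingGroup (Fin 5)))) : ¬ Cover.NC 𝓐 := by
  haveI : Fact (Nat.Prime 3) := ⟨by norm_num⟩
  refine core (alternatingGroup.center_eq_bot (by simp)) Nat.prime_three
    (c := ⟨swap 0 1 * swap 0 2, by rw [mem_alternatingGroup]; decide⟩)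
    (h := ⟨swap 0 1 * swap 0 3, by rw [mem_alternatingGroup]; decide⟩)
    (H := MulAction.stabilizer _ (4 : Fin 5)) (orderOf_eq_prime (by decide) (by decide)) ?_ ?_ ?_ ?_ (by decide) 𝓐
  · intro hd
    have := hd.trans (card_subgroup_dvd_card _)
    rw [Nat.card_perm, Nat.card_fin] at this
    revert this; decide
  · intro e
    have : (⟨swap 0 1 * swap 0 4, by rw [mem_alternatingGroup]; decide⟩ : alternatingGroup (Fin 5)) ∈
      MulAction.stabilizer (alternatingGroup (Fin 5)) (4 : Fin 5) := e ▸ mem_top _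
    rw [MulAction.mem_stabilizer_iff] at this
    revert this; decide
  · have : ∀ g : Perm (Fin 5), sign g = 1 → g * (swap 0 1 * swap 0 2) = (swap 0 1 * swap 0 2) * g → g 4 = 4 := by
      decide +kernel
    intro g hg
    exact this g g.2 (congrArg Subtype.val hg)
  · rw [MulAction.mem_stabilizer_iff]; decide
end

/-- A cover of a group is a finite set of proper subgroups whose union is the whole group; it is minimal when no cover has fewer members, and nilpotent when all its members are nilpotent. The alternating groups of degree at least 5 and the symmetric groups of degree at least 4 have no nilpotent minimal cover. -/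
theorem result (n : ℕ) :
    (5 ≤ n → ¬ ∃ 𝓐 : Finset (Subgroup ↥(alternatingGroup (Fin n))), ((∀ A ∈ 𝓐, A ≠ ⊤) ∧ (∀ g : ↥(alternatingGroup (Fin n)), ∃ A ∈ 𝓐, g ∈ A)) ∧ (∀ 𝓑 : Finset (Subgroup ↥(alternatingGroup (Fin n))), (∀ A ∈ 𝓑, A ≠ ⊤) ∧ (∀ g : ↥(alternatingGroup (Fin n)), ∃ A ∈ 𝓑, g ∈ A) → 𝓐.card ≤ 𝓑.card) ∧ (∀ A ∈ 𝓐, Group.IsNilpotent ↥A)) ∧
    (4 ≤ n → ¬ ∃ 𝓐 : Finset (Subgroup (Equiv.Perm (Fin n))), ((∀ A ∈ 𝓐, A ≠ ⊤) ∧ (∀ g : (Equiv.Perm (Fin n)), ∃ A ∈ 𝓐, g ∈ A)) ∧ (∀ 𝓑 : Finset (Subgroup (Equiv.Perm (Fin n))), (∀ A ∈ 𝓑, A ≠ ⊤) ∧ (∀ g : (Equiv.Perm (Fin n)), ∃ A ∈ 𝓑, g ∈ A) → 𝓐.card ≤ 𝓑.card) ∧ (∀ A ∈ 𝓐, Group.IsNilpotent ↥A)) := by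
  open Pointwise commutatorElement Subgroup in
  constructor
  · rintro hn ⟨𝓐, h⟩
    by_cases e : n = 5
    · subst e; exact a5 𝓐 h
    · exact big (alternatingGroup.center_eq_bot (by simp; omega)) (by omega) (Subgroup.subtype _)
        (Subgroup.subtype_injective _) (by rw [Subgroup.range_subtype]) 𝓐 h
  · rintro hn ⟨𝓐, h⟩
    by_cases e : n = 4
    · subst e; exact s4 𝓐 h
    by_cases e : n = 5
    · subst e; exact s5 𝓐 h
    exact big (cen (by simp; omega)) (by omega) (MonoidHom.id _) Function.injective_id (fun x _ => ⟨x, rfl⟩) 𝓐 h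

end Cfsg.Agent.S3892
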