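import Cfsg.Statements.S3895
import Cfsg.Agent.Lib.Fusion.Kc5

set_option autoImplicit false
open Cfsg

namespace Cfsg.Agent.S3895

/-- Let G be a finite group with Sylow 2-subgroup P, and write k₂(G) for the number of conjugacy classes of G consisting of 2-elements (elements of 2-power order, the identity included). Then k₂(G) > |P|/2 if and only if G has a normal 2-complement and P has more than |P|/2 conjugacy classes. -/
theorem result {G : Type*} [Group G] [Finite G] (P : Sylow 2 G) :
    Nat.card ↥(P : Subgroup G) < 2 * Nat.card {c : ConjClasses G // ∀ x ∈ c.carrier, ∃ k : ℕ, orderOf x = 2 ^ k} ↔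
      Cfsg.HasNormalPComplement 2 G ∧ Nat.card ↥(P : Subgroup G) < 2 * Nat.card (ConjClasses ↥(P : Subgroup G)) := by
  open Subgroup Cfsg.Agent.Kc Cfsg.Agent.Transfer in
  rw [card_eq_cl P, ← cl_self]
  have hP := isSyl_top P
  constructor
  · intro h
    refine ⟨by_contra fun h1 => ?_, h.trans_le (Nat.mul_le_mul_left _ (cl_anti le_top _))⟩
    have h2 := cl_syl_two hP h1
    have h' : (Nat.card (P : Subgroup G) : ℚ) < 2 * cl ⊤ ((P : Subgroup G) : Set G) := by
      exact_mod_cast h
    linarith
  · rintro ⟨h1, h2⟩
    rwa [cl_eq_of_npc hP h1]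

end Cfsg.Agent.S3895
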