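import Cfsg.Statements.S3897
import Cfsg.Agent.Lib.Fusion.Kc5

set_option autoImplicit false
open Cfsg

namespace Cfsg.Agent.S3897

/-- Let p be an odd prime and G a finite group with Sylow p-subgroup P, and write k_p(G) for the number of conjugacy classes of G consisting of p-elements (elements of p-power order, the identity included). Then k_p(G) > (p + 1)|P|/(2p) if and only if G has a normal p-complement and P is abelian. -/
theorem result {G : Type*} [Group G] [Finite G] {p : ℕ} [Fact p.Prime] (hp : p ≠ 2) (P : Sylow p G) :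
    (p + 1) * Nat.card ↥(P : Subgroup G) < 2 * p * Nat.card {c : ConjClasses G // ∀ x ∈ c.carrier, ∃ k : ℕ, orderOf x = p ^ k} ↔
      Cfsg.HasNormalPComplement p G ∧ IsMulCommutative ↥(P : Subgroup G) := by
  open Subgroup Cfsg.Agent.Kc Cfsg.Agent.Transfer in
  rw [card_eq_cl P]
  have hP := isSyl_top P
  have h3 : 3 ≤ p := by have := (Fact.out : p.Prime).two_le; omega
  have h3' : (3 : ℚ) ≤ p := by exact_mod_cast h3
  have h0 : (0 : ℚ) < Nat.card (P : Subgroup G) := by exact_mod_cast Nat.card_pos
  constructor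
  · intro h
    have h' : ((p : ℚ) + 1) * Nat.card (P : Subgroup G) < 2 * p * cl ⊤ ((P : Subgroup G) : Set G) := by
      exact_mod_cast h
    refine ⟨by_contra fun h1 => ?_, le_centralizer_iff_isMulCommutative.1 (by_contra fun h1 => ?_)⟩
    · have := cl_syl hP h1
      linarith
    · have h2 := cl_noncomm (by omega : 0 < p) (prime_pgroup P.2) h1
      have h4 : (cl ⊤ ((P : Subgroup G) : Set G) : ℚ) ≤ cl P ((P : Subgroup G) : Set G) := by
        exact_mod_cast cl_anti le_top _
      have h5 := mul_le_mul_of_nonneg_left h4 (by positivity : (0 : ℚ) ≤ 2 * p ^ 3)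
      have h6 := mul_lt_mul_of_pos_left h' (by positivity : (0 : ℚ) < p ^ 2)
      have h7 : (0 : ℚ) ≤ (p ^ 2 * (p - 3) + 2 * (p * (p - 1)) + 2) * Nat.card (P : Subgroup G) :=
        mul_nonneg (by have : (0 : ℚ) ≤ p - 3 := by linarith
                       have : (0 : ℚ) ≤ p - 1 := by linarith
                       positivity) h0.le
      nlinarith
  · rintro ⟨h1, h2⟩
    rw [cl_eq_of_npc hP h1, cl_eq_ncard]
    · exact Nat.mul_lt_mul_of_pos_right (by omega) (Nat.card_pos (α := (P : Subgroup G)))
    · rintro x hx _ - ⟨s, hs, rfl⟩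
      rw [← le_centralizer_iff_isMulCommutative.2 h2 hs x hx, mul_inv_cancel_right]

end Cfsg.Agent.S3897
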