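import Cfsg.Statements.S3898
import Cfsg.Agent.Lib.Fusion.Kc5

set_option autoImplicit false
open Cfsg

namespace Cfsg.Agent.S3898

/-- Let π be a finite set of primes containing 2 and G a finite group. Write k_π(G) for the number of conjugacy classes of G consisting of π-elements (elements all of whose order's prime divisors lie in π) and |G|_π for the π-part of the order of G. If k_π(G) > |G|_π/2, then G has a normal π-complement (a normal subgroup of order prime to π whose index is a π-number) and an abelian Hall subgroup for the set of odd primes in π. -/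
theorem result {G : Type*} [Group G] [Finite G] (π : Finset ℕ) (hπ : ∀ r ∈ π, r.Prime) (h2 : 2 ∈ π)
    (hk : π.prod (fun r => r ^ (Nat.card G).factorization r) < 2 * Nat.card {c : ConjClasses G // ∀ x ∈ c.carrier, ∀ r : ℕ, r.Prime → r ∣ orderOf x → r ∈ π}) :
    (∃ N : Subgroup G, N.Normal ∧ (∀ r : ℕ, r.Prime → r ∣ Nat.card ↥N → r ∉ π) ∧ ∀ r : ℕ, r.Prime → r ∣ N.index → r ∈ π) ∧ ∃ H : Subgroup G, Cfsg.IsPiHall ((↑π : Set ℕ) \ {2}) H ∧ IsMulCommutative ↥H := by
  open Subgroup Cfsg.Agent.Kc Cfsg.Agent.Transfer in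
  replace hk := hk.trans_eq (congrArg _ (card_eq_kp (G := G) (π : Set ℕ)))
  change pt π (Nat.card G) < _ at hk
  have hs : ∀ r ∈ π.erase 2, r.Prime := fun r hr => hπ r (Finset.mem_of_mem_erase hr)
  have hσ : ∀ r ∈ π.erase 2, 2 < r := fun r hr =>
    lt_of_le_of_ne (hs r hr).two_le (Finset.ne_of_mem_erase hr).symm
  have hπ' : ∀ q ∈ (π : Set ℕ), q ≠ 2 → q ∈ π.erase 2 := fun q hq h => Finset.mem_erase.2 ⟨h, hq⟩
  have he : pt π (Nat.card G) = 2 ^ (Nat.card G).factorization 2 * pt (π.erase 2) (Nat.card G) := by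
    rw [← pt_insert (Finset.notMem_erase 2 π), Finset.insert_erase h2]
  rw [he] at hk
  have hN := npc_two hs hπ' hk
  have hk' : pt (π.erase 2) (Nat.card (⊤ : Subgroup G)) < 2 * kp (π.erase 2 : Finset ℕ) (⊤ : Subgroup G) := by
    simpa using kp_sigma hs hπ' (a := 1) (b := 2) (by simpa using hk)
  obtain ⟨H, hH, hc⟩ := (main _ hs).ab hs hσ (⊤ : Subgroup G) hk'
  obtain ⟨P, hP, hPH⟩ := step_npc hs hπ' hσ hH hc hN hk
  refine ⟨?_, H, by simpa using isPiHall_of hs hH, le_centralizer_iff_isMulCommutative.1 hc⟩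
  rcases hH.dich hs hc with ⟨n, hn1, hn2, hn3⟩ | ⟨K, -, hK2, -, hK4⟩
  · exfalso
    have h1 : (centralizer (H : Set G)).relIndex (normalizer (H : Set G)) ≠ 1 :=
      mt relIndex_eq_one.1 fun h => hn3 (h hn2)
    obtain ⟨r, hr1, hr2⟩ := Nat.exists_prime_and_dvd h1
    haveI := Fact.mk hr1
    have hr3 : r ∉ π.erase 2 := fun h =>
      (hH.mono hs le_normalizer le_top).not_dvd hs h (hr2.trans (relIndex_dvd_of_le_left _ hc))
    have hr4 : 3 ≤ r := by
      refine lt_of_le_of_ne hr1.two_le ?_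
      rintro rfl
      exact (hP.mono (hPH.trans (centralizer_le_normalizer _)) le_top).not_dvd
        (hr2.trans (relIndex_dvd_of_le_left _ hPH))
    obtain ⟨E, hE⟩ := exists_isSyl r (normalizer (H : Set G))
    have h3 : ¬ E ≤ centralizer (H : Set G) := fun h3 =>
      hE.not_dvd (hr2.trans (relIndex_dvd_of_le_left _ h3))
    have h4 := card_modEq_card_inf_centralizer hE.pgroup hE.le
    have h5 := (cl_act (D := ⊤) (n := 3) le_top hE.le (by norm_num) fun q hq h =>
      hr4.trans (prime_pgroup hE.pgroup q hq h)).1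
    set F := H ⊓ centralizer (E : Set G) with hF
    have h6 : 4 * Nat.card F ≤ Nat.card H := by
      have h7 := Transfer.card_mul_relIndex (inf_le_left : F ≤ H)
      have h8 : F.relIndex H ≠ 1 := mt relIndex_eq_one.1 fun h => h3 (le_centralizer_iff.1 (h.trans inf_le_right))
      have h9 := relIndex_pos F H
      have h10 : r ∣ Nat.card F * (F.relIndex H - 1) := by
        rw [Nat.mul_sub, mul_one, h7]
        exact (Nat.modEq_iff_dvd' (card_le_of_le inf_le_left)).1 h4.symm
      have h11 := Nat.le_of_dvd (by omega) (((Nat.Prime.dvd_mul hr1).1 h10).resolve_left fun h =>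
        hr3 (hH.mem hs hr1 (h.trans (card_dvd_of_le inf_le_left))))
      have h12 : 4 ≤ F.relIndex H := by omega
      rw [← h7, mul_comm]
      exact Nat.mul_le_mul_left _ h12
    have h7 : (4 : ℚ) * Nat.card F ≤ Nat.card H := by exact_mod_cast h6
    have h8 : (Nat.card H : ℚ) < 2 * cl ⊤ (H : Set G) := by
      rw [hH.card]
      exact_mod_cast hk'.trans_le (Nat.mul_le_mul_left _ (kp_le_cl hs hH (nil_of_comm hs hc)))
    rw [Nat.cast_ofNat] at h5
    linarith
  · haveI : K.Normal := normalizer_eq_top_iff.1 (top_le_iff.1 hK2)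
    obtain ⟨h1, h3⟩ := compl_of hs hH hK4
    refine ⟨K ⊓ pResidual 2 G, inferInstance, fun r hr h hr' => ?_, fun r hr h => ?_⟩
    · by_cases h4 : r = 2
      · subst h4
        exact hasNPC_iff_not_dvd.1 hN (h.trans (card_dvd_of_le inf_le_right))
      · exact h1 r hr (h.trans (card_dvd_of_le inf_le_left)) (hπ' r hr' h4)
    · rw [← relIndex_mul_index (inf_le_right : K ⊓ pResidual 2 G ≤ _), inf_relIndex_right] at h
      rcases (Nat.Prime.dvd_mul hr).1 h with h4 | h4
      · exact Finset.mem_of_mem_erase (h3 r hr (h4.trans (relIndex_dvd_index_of_normal _ _)))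
      · obtain ⟨n, hn⟩ := index_pResidual (p := 2) (G := G)
        rw [hn] at h4
        rwa [(Nat.prime_dvd_prime_iff_eq hr Nat.prime_two).1 (hr.dvd_of_dvd_pow h4)]

end Cfsg.Agent.S3898
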