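import Cfsg.Statements.S3899
import Cfsg.Agent.Lib.Fusion.Kc5

set_option autoImplicit false
open Cfsg

namespace Cfsg.Agent.S3899

/-- Let π be a finite non-empty set of odd primes with smallest member p and G a finite group. Write k_π(G) for the number of conjugacy classes of G consisting of π-elements (elements all of whose order's prime divisors lie in π) and |G|_π for the π-part of the order of G. If k_π(G) > (p + 1)|G|_π/(2p), then G has a normal π-complement (a normal subgroup of order prime to π whose index is a π-number) and an abelian Hall π-subgroup. -/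
theorem result {G : Type*} [Group G] [Finite G] (π : Finset ℕ) (hπ : ∀ r ∈ π, r.Prime) (h2 : 2 ∉ π) (p : ℕ) (hp : p ∈ π)
    (hmin : ∀ r ∈ π, p ≤ r) (hk : (p + 1) * π.prod (fun r => r ^ (Nat.card G).factorization r) < 2 * p * Nat.card {c : ConjClasses G // ∀ x ∈ c.carrier, ∀ r : ℕ, r.Prime → r ∣ orderOf x → r ∈ π}) :
    (∃ N : Subgroup G, N.Normal ∧ (∀ r : ℕ, r.Prime → r ∣ Nat.card ↥N → r ∉ π) ∧ ∀ r : ℕ, r.Prime → r ∣ N.index → r ∈ π) ∧ ∃ H : Subgroup G, Cfsg.IsPiHall (↑π : Set ℕ) H ∧ IsMulCommutative ↥H := by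
  open Subgroup Cfsg.Agent.Kc Cfsg.Agent.Transfer in
  replace hk := hk.trans_eq (congrArg _ (card_eq_kp (G := G) (π : Set ℕ)))
  change (p + 1) * pt π (Nat.card G) < _ at hk
  have hp2 := (hπ p hp).two_le
  have hp2' : (2 : ℚ) ≤ p := by exact_mod_cast hp2
  obtain ⟨H, h5, h6⟩ := main _ hπ G p hmin (by nlinarith)
  have h7 : Nat.card H = pt π (Nat.card G) := by rw [h5.card, card_top]
  have h0 : (0 : ℚ) < Nat.card H := by exact_mod_cast Nat.card_pos
  have h' : ((p : ℚ) + 1) * Nat.card H < 2 * p * cl ⊤ (H : Set G) := by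
    rw [h7]
    exact_mod_cast hk.trans_le (Nat.mul_le_mul_left _ (kp_le_cl hπ h5 h6))
  have hc : H ≤ centralizer (H : Set G) := by
    by_contra h1
    have h2 := cl_noncomm (by omega : 0 < p) (fun r hr h => hmin r (h5.mem hπ hr h)) h1
    have h4 : (cl ⊤ (H : Set G) : ℚ) ≤ cl H (H : Set G) := by
      exact_mod_cast cl_anti le_top _
    have h5 := mul_le_mul_of_nonneg_left h4 (by positivity : (0 : ℚ) ≤ 2 * p ^ 3)
    have h6 := mul_lt_mul_of_pos_left h' (by positivity : (0 : ℚ) < p ^ 2)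
    have h7 : (0 : ℚ) ≤ (p ^ 2 * (p - 2) + p * (p - 2) + 2) * Nat.card H :=
      mul_nonneg (by have : (0 : ℚ) ≤ p - 2 := by linarith
                     positivity) h0.le
    nlinarith
  refine ⟨?_, H, isPiHall_of hπ h5, le_centralizer_iff_isMulCommutative.1 hc⟩
  rcases h5.dich hπ hc with ⟨n, hn1, hn2, hn3⟩ | ⟨K, -, hK2, -, hK4⟩
  · exfalso
    have h6 := (cl_act (zpowers_le.2 hn1) (zpowers_le.2 hn2) two_pos fun r hr _ => hr.two_le).1
    have h8 : (p : ℚ) * Nat.card (H ⊓ centralizer (zpowers n : Set G) : Subgroup G) ≤ Nat.card H := by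
      exact_mod_cast mul_card_le_of_lt inf_le_left (fun h => hn3 (le_centralizer_iff.1
        (inf_eq_left.1 h) (mem_zpowers n))) fun r hr h => hmin r (h5.mem hπ hr h)
    rw [Nat.cast_ofNat] at h6
    have := mul_le_mul_of_nonneg_left h6 (by positivity : (0 : ℚ) ≤ 2 * p)
    nlinarith
  · exact ⟨K, normalizer_eq_top_iff.1 (top_le_iff.1 hK2), compl_of hπ h5 hK4⟩

end Cfsg.Agent.S3899
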