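import Cfsg.Statements.S3901
import Cfsg.Agent.Lib.Ez.C3
import Cfsg.Agent.Lib.Solv.Schmidt
import Cfsg.Agent.Lib.Solv.Frattini

set_option autoImplicit false
open Cfsg

namespace Cfsg.Agent.S3901

open Subgroup Cfsg.Agent.Comp Cfsg.Agent.Ez

/-- Let N be a non-trivial normal subgroup of the finite group G such that every element of G outside N has prime power order. If N is not solvable, then G/N is solvable. -/
theorem result {G : Type*} [Group G] [Finite G] (N : Subgroup G) [N.Normal] (hN : N ≠ ⊥) (hns : ¬ Group.IsSolvable ↥N)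
    (h : ∀ x : G, x ∉ N → IsPrimePow (orderOf x)) : Group.IsSolvable (G ⧸ N) := by
  by_contra hq
  have f := QuotientGroup.mk'_surjective N
  obtain ⟨p, hp, p1, p2⟩ : ∃ p : ℕ, p.Prime ∧ p ∣ Nat.card N ∧ p ≠ 2 := by
    by_contra e
    have := (Solv.isPGroup_of_forall_prime_dvd (G := N) (p := 2) fun q a b =>
      by_contra fun c => e ⟨q, a, b, c⟩).isNilpotent
    exact hns inferInstance
  have := Fact.mk hp
  obtain ⟨P, hP⟩ := exists_sylIn p N
  obtain ⟨H, h1, h2⟩ := Finite.exists_le_minimal (p := fun K : Subgroup G => K ⊔ N = ⊤)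
    ((sup_comm _ _).trans (hP.frattini le_top le_normalizer_of_normal))
  have h3 : Group.IsNilpotent (H ⊓ N : Subgroup G) := by
    exact isNilpotent_of_le (Solv.inf_le_map_frattini_of_minimal h2.1
      fun K a b => le_antisymm b (h2.2 a b)) (isNilpotent_map _ frattini_nilpotent)
  have h4 : H ≤ normalizer ((H ⊓ N : Subgroup G) : Set G) :=
    le_normalizer_inf le_normalizer le_normalizer_of_normal
  have h5 : H.map (QuotientGroup.mk' N) = ⊤ := by
    rw [← map_top_of_surjective _ f, ← h2.1, Subgroup.map_sup, QuotientGroup.map_mk'_self, sup_bot_eq]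
  obtain ⟨K, r, k1, k2, k3, k4, hr, k5, k6⟩ : ∃ (K : Subgroup G) (r : ℕ), Group.IsNilpotent K ∧ K ≤ N ∧
      H ⊓ N ≤ K ∧ H ≤ normalizer (K : Set G) ∧ r.Prime ∧ r ∣ Nat.card K ∧ r ≠ 2 := by
    by_contra e
    have a : IsPGroup 2 (H ⊓ N : Subgroup G) := Solv.isPGroup_of_forall_prime_dvd fun q a b =>
      by_contra fun c => e ⟨_, q, h3, inf_le_right, le_rfl, h4, a, b, c⟩
    obtain ⟨q, q1, q2⟩ := Finset.exists_mem_notMem_of_card_lt_card (s := {2, p}) (Finset.card_le_two.trans_lt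
      (not_le.1 (mt Solv.isSolvable_of_card_primeFactors_le_two hq)))
    have hq := Fact.mk (Nat.prime_of_mem_primeFactors q1)
    simp only [Finset.mem_insert, Finset.mem_singleton, not_or] at q2
    obtain ⟨y, y1, y2⟩ := exists_mem_orderOf_eq (H := H) ((Nat.dvd_of_mem_primeFactors q1).trans
      (by rw [← card_top, ← h5]; exact card_map_dvd _ _))
    have b := h1.trans inf_le_right
    have c := sup_le hP.le (inf_le_right : H ⊓ N ≤ N)
    have d := le_normalizer_sup b h4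
    obtain ⟨m, hm⟩ := a.exists_card_eq
    obtain ⟨n, hn⟩ := hP.isP.exists_card_eq
    have g : q.Coprime (Nat.card (H ⊓ N : Subgroup G)) := by
      rw [hm]; exact ((Nat.coprime_primes hq.1 Nat.prime_two).2 q2.1).pow_right m
    have g' : q.Coprime (Nat.card (P ⊔ H ⊓ N : Subgroup G)) := by
      rw [sup_comm]
      refine (g.mul_right ?_).coprime_dvd_right (card_sup_dvd (inf_le_left.trans b))
      rw [hn]; exact ((Nat.coprime_primes hq.1 hp).2 q2.2).pow_right n
    refine e ⟨_, p, Solv.thompson_fpf (zpowers_le.2 (d y1)) (fun e => hq.1.one_lt.ne' (by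
      rw [← y2, zpowers_eq_bot.1 e, orderOf_one])) fun u u1 u2 => eq_bot_iff.2 fun x hx => ?_, c,
      le_sup_right, d, hp, (dvd_card_of_isPGroup hP.isP (mt hP.eq_bot_iff.1 (not_not.2 p1))).trans
        (card_dvd_of_le le_sup_left), p2⟩
    have u3 : orderOf u = q := ((Nat.dvd_prime hq.1).1 (y2 ▸ orderOf_dvd_of_mem_zpowers u1)).resolve_left
      (mt orderOf_eq_one_iff.1 u2)
    refine eq_one_of_out h (fun e => hq.1.one_lt.ne' (g.eq_one_of_dvd ?_)) (mem_C1.1 hx.2) ?_
    · rw [← u3]; exact Solv.orderOf_dvd_card_of_mem (H := H ⊓ N) ⟨zpowers_le.2 y1 u1, e⟩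
    · rw [u3]; exact g'.coprime_dvd_right (Solv.orderOf_dvd_card_of_mem hx.1)
  have := Fact.mk hr
  have w1 := sylIn_Op_of_isNilpotent (p := r) k1
  have w2 : H ≤ normalizer (Op r K : Set G) := le_normalizer_Op k4
  obtain ⟨n, hn⟩ := w1.isP.exists_card_eq
  have w3 : ∀ w ∈ Op r K, Odd (orderOf w) := fun w => odd_orderOf_of_mem (hn ▸ (hr.odd_of_ne_two k6).pow)
  obtain ⟨T, hT⟩ := exists_sylIn 2 H
  have w4 : ∀ t ∈ T, ∀ w ∈ Op r K, (orderOf t).Coprime (orderOf w) := fun t a w b => by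
    obtain ⟨k, hk⟩ := IsPGroup.exists_pow_eq_one hT.isP a
    exact ((Nat.coprime_two_left.2 (w3 w b)).pow_left k).coprime_dvd_left (orderOf_dvd_of_pow_eq_one hk)
  obtain ⟨w, ⟨w5, w6⟩, w7⟩ := (bot_or_exists_ne_one _).resolve_left
    (inf_centralizer_ne_bot_of_isNilpotent w1.isP.isNilpotent le_rfl le_normalizer
      (mt w1.eq_bot_iff.1 (not_not.2 k5)))
  have key : ∀ a ∈ T, a ∉ N → a * a ∈ N → ∀ w ∈ Op r K, w ∈ centralizer (Op r K : Set G) →
      a * w * a⁻¹ = w⁻¹ := fun a a1 a2 a3 w b c => by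
    have d := conj_mem_of_mem_normalizer (w2 (hT.le a1)) b
    have e := Solv.commute_of_nilpotent_of_coprime k1 (k3 ⟨hT.le (mul_mem a1 a1), a3⟩) (w1.le b)
      (w4 _ (mul_mem a1 a1) w b)
    refine eq_inv_of_mul_eq_one_right (eq_one_of_out h a2 ?_ (w4 a a1 _ (mul_mem b d)))
    rw [Commute, SemiconjBy, show a * (w * (a * w * a⁻¹)) = a * w * a⁻¹ * (a * a * w) * a⁻¹ by group,
      e.eq, ← c _ d]; group
  have hX := hT.map (QuotientGroup.mk' N)
  rw [h5] at hX
  have u1 : ∀ a ∈ T.map (QuotientGroup.mk' N), ∀ b ∈ T.map (QuotientGroup.mk' N), orderOf a = 2 →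
      orderOf b = 2 → a = b := by
    rintro _ ⟨a, a1, rfl⟩ _ ⟨b, b1, rfl⟩ a2 b2
    have a3 := fun {a : G} (e : orderOf (QuotientGroup.mk' N a) = 2) (a1 : a ∈ T) => key a a1
      (mt (QuotientGroup.eq_one_iff a).2 (ne_one_of_ord e)) ((QuotientGroup.eq_one_iff _).1
        (mul_self_of_ord e)) w w5 w6
    refine QuotientGroup.eq.2 (by_contra fun e => w7 (eq_one_of_out h e ?_
      (w4 _ (mul_mem (inv_mem a1) b1) w w5)))
    rw [Commute, SemiconjBy, mul_assoc, mul_inv_eq_iff_eq_mul.1 (a3 b2 b1), ← a3 a2 a1]; group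
  obtain ⟨z, z1, z2⟩ := Transfer.exists_invol_mem (H := T.map (QuotientGroup.mk' N)) (by
    have := hX.toSylowTop.dvd_card_of_dvd_card (Nat.not_odd_iff_even.1 (mt S0205.result hq)).two_dvd
    exact even_iff_two_dvd.2 this)
  have u2 := Transfer.zstar_sup (Transfer.isolated_of_sylow hX.toSylowTop z2 fun g e =>
    u1 _ e z z1 ((ord_conj g z).trans z2) z2)
  have u3 := (pg_cent_of_out (N := ⊥) (fun x a => by
    obtain ⟨x, rfl⟩ := f x
    obtain ⟨p, k, a1, a2, a3⟩ := h x (mt (QuotientGroup.eq_one_iff x).2 a)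
    obtain ⟨j, -, a4⟩ := (Nat.dvd_prime_pow a1.nat_prime).1 (a3 ▸ orderOf_map_dvd (QuotientGroup.mk' N) x)
    exact ⟨p, j, a1, Nat.pos_of_ne_zero fun e => a (orderOf_eq_one_iff.1 (by rw [a4, e, pow_zero])),
      a4.symm⟩) (ne_one_of_ord z2) (k := 1) Nat.prime_two z2).isNilpotent
  have := isSolvable_sup (H := centralizer {z}) le_normalizer_of_normal inferInstance
    (S0205.result Transfer.odd_card_oddCore)
  rw [u2] at this
  exact hq (solvable_of_surjective (f := (⊤ : Subgroup (G ⧸ N)).subtype) fun x => ⟨⟨x, trivial⟩, rfl⟩)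

end Cfsg.Agent.S3901
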