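import Cfsg.Statements.S4040
import Cfsg.Agent.Lib.Transfer.NPC
import Cfsg.Agent.Lib.Transfer.Hall
import Cfsg.Agent.Lib.Transfer.Invol
import Cfsg.Agent.Lib.Solv.Coprime
import Cfsg.Agent.Lib.Solv.Cores

set_option autoImplicit false
open Cfsg

namespace Cfsg.Agent.S4040

open Cfsg.Agent.Char

open Subgroup Cfsg.Agent.Solv in
theorem aux (G : Type*) [Group G] [Finite G] : ∀ (M : Subgroup G), IsCoatom M → Group.IsNilpotent M →
    Odd (Nat.card M) → Group.IsSolvable G := by
  induction G, ‹Group G›, ‹Finite G› using card_induction' with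
  | h G ih =>
  intro M hmax hnil hodd
  have hMs : Group.IsSolvable M := inferInstance
  by_cases h : ∃ N : Subgroup G, N.Normal ∧ N ≠ ⊥ ∧ N ≤ M
  · obtain ⟨N, hN, h0, hle⟩ := h
    refine isSolvable_of_normal_of_quotient N (isSolvable_of_le hle hMs) (ih _ (card_quotient_lt h0)
      (M.map (QuotientGroup.mk' N)) ?_ (isNilpotent_map _ hnil) (hodd.of_dvd_nat (card_map_dvd _ _)))
    constructor
    · intro e
      have := congrArg (comap (QuotientGroup.mk' N)) e
      rw [comap_map_mk, sup_eq_left.2 hle, comap_top] at this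
      exact hmax.1 this
    · intro K hK
      have : M < K.comap (QuotientGroup.mk' N) := by
        rw [← comap_lt_comap_of_surjective (QuotientGroup.mk'_surjective N), comap_map_mk,
          sup_eq_left.2 hle] at hK
        exact hK
      rw [← map_comap_mk N K, hmax.2 _ this]
      exact map_top_of_surjective _ (QuotientGroup.mk'_surjective N)
  have hnorm : ∀ Z : Subgroup G, Z ≠ ⊥ → Z ≤ M → M ≤ normalizer (Z : Set G) →
      normalizer (Z : Set G) = M := by
    intro Z h0 h1 h2
    by_contra hne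
    exact h ⟨Z, normalizer_eq_top_iff.1 (hmax.2 _ (lt_of_le_of_ne h2 (Ne.symm hne))), h0, h1⟩
  have hsyl : ∀ p : ℕ, p.Prime → p ∣ Nat.card M → ¬ p ∣ M.index ∧ HasNormalPComplement p G := by
    intro p hp hd
    have := Fact.mk hp
    obtain ⟨P, hP⟩ := Transfer.exists_isSyl p M
    have hP0 : P ≠ ⊥ := fun e => hP.eq_bot_iff.1 e hd
    have hPn : M ≤ normalizer (P : Set G) := le_normalizer_of_nilpotent hnil ⟨hP.1, hP.2, hP.3⟩
    have hT := hP.top_of_normalizer_le (hnorm P hP0 hP.1 hPn).le
    obtain ⟨S, rfl⟩ := hT.exists_sylow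
    refine ⟨fun h => S.not_dvd_index (h.trans (index_dvd_of_le hP.1)), ?_⟩
    have h2 : p ≠ 2 := by rintro rfl; exact (Nat.not_even_iff_odd.2 hodd) (even_iff_two_dvd.2 hd)
    refine Transfer.glauberman_thompson h2 (Or.inl rfl) S ?_
    rw [hnorm _ (Transfer.ZJ_ne_bot (Or.inl rfl) S.isPGroup' hP0) ((Transfer.ZJ_le _).trans hP.1)
      (hPn.trans (Transfer.normalizer_le_normalizer_ZJ _))]
    exact Transfer.hasNPC_of_nilpotent
  have hHall : (Nat.card M).Coprime M.index :=
    Nat.coprime_of_dvd fun p hp h1 h2 => (hsyl p hp h1).1 h2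
  obtain ⟨K, hK, hc⟩ := Transfer.exists_normal_complement_of_forall_hasNPC hHall
    fun p hp h1 => (hsyl p hp h1).2
  have hcard : Nat.card K = M.index := IsComplement'.card_eq_index hc.symm
  have hK0 : K ≠ ⊥ := by
    rintro rfl
    rw [card_bot, eq_comm, index_eq_one] at hcard
    exact hmax.1 hcard
  obtain ⟨q, hq, hd⟩ := exists_prime_dvd_card hK0
  have := Fact.mk hq
  obtain ⟨Q, hQ, hQn⟩ := coprime_exists_sylowIn (A := M) (K := K) le_normalizer_of_normal
    (by rwa [hcard]) (Or.inl hMs) q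
  have : M ⊔ Q = ⊤ := by
    refine hmax.2 _ (lt_of_le_of_ne le_sup_left fun e => hQ.ne_bot hd ?_)
    rw [eq_bot_iff, ← IsComplement'.inf_eq_bot hc]
    exact le_inf hQ.1 (e ▸ le_sup_right)
  rw [← isSolvable_top_iff, ← this]
  have := hQ.2.isNilpotent
  exact isSolvable_sup hQn hMs inferInstance

/-- A finite group possessing a maximal subgroup that is nilpotent of odd order is solvable. -/
theorem result {G : Type*} [Group G] [Finite G]
    (M : Subgroup G) (hmax : IsCoatom M) (hnil : Group.IsNilpotent M) (hodd : Odd (Nat.card M)) :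
    Group.IsSolvable G := by
  exact aux G M hmax hnil hodd

end Cfsg.Agent.S4040
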