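import Cfsg.Statements.S3903
import Cfsg.Agent.Lib.Ez.C2
import Cfsg.Agent.S4040
import Cfsg.Agent.S0556

set_option autoImplicit false
open Cfsg

namespace Cfsg.Agent.S3903

open Subgroup Cfsg.Agent.Comp Cfsg.Agent.Ez

/-- Let N be a proper normal subgroup of the finite group G such that every element x of G outside N has prime power order and has centralizer C_G(x) a maximal subgroup of G. Then N is solvable. -/
theorem result {G : Type*} [Group G] [Finite G] (N : Subgroup G) [N.Normal] (hN : N ≠ ⊤)
    (h : ∀ x : G, x ∉ N → IsPrimePow (orderOf x) ∧ IsCoatom (Subgroup.centralizer ({x} : Set G))) : Group.IsSolvable ↥N := by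
  by_contra hns
  have hG : ¬ Group.IsSolvable G := fun e => hns inferInstance
  have key : ∀ x ∉ N, ∃ T : Sylow 2 G, centralizer {x} = (T : Subgroup G) := fun x hx => by
    obtain ⟨⟨p, k, hp, hk, h1⟩, h2⟩ := h x hx
    have hp := hp.nat_prime
    have := Fact.mk hp
    have h3 := pg_cent_of_out (fun x a => (h x a).1) hx hp h1.symm
    obtain rfl : p = 2 := by
      by_contra e
      obtain ⟨n, hn⟩ := h3.exists_card_eq
      exact hG (S4040.result _ h2 h3.isNilpotent (hn ▸ (hp.odd_of_ne_two e).pow))
    obtain ⟨T, hT⟩ := h3.exists_le_sylow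
    refine ⟨T, (hT.eq_or_lt.resolve_right fun e => hG ?_)⟩
    have := (T.2.of_equiv ((MulEquiv.subgroupCongr (h2.2 _ e)).trans topEquiv)).isNilpotent
    infer_instance
  obtain ⟨x, -, hx⟩ := SetLike.exists_of_lt (lt_top_iff_ne_top.2 hN)
  obtain ⟨S, hS⟩ := key x hx
  classical
  have := Fintype.ofFinite G
  have := Fintype.ofFinite (G ⧸ (S : Subgroup G))
  let A : Finset G := {z | z ∈ (S : Subgroup G) ∧ z ∉ N}
  let B : Finset G := {z | z ∈ A ∧ z ∈ centralizer (S : Set G)}
  have h1 : Finset.card ({y | y ∉ N} : Finset G) ≤ (S : Subgroup G).index * B.card := by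
    rw [index, Nat.card_eq_fintype_card, ← Finset.card_univ, ← Finset.card_product]
    refine Finset.card_le_card_of_surjOn (fun a => a.1.out * a.2 * a.1.out⁻¹) fun y hy => ?_
    obtain ⟨T, hT⟩ := key y (by simpa using hy)
    obtain ⟨g, rfl⟩ := MulAction.exists_smul_eq G S T
    obtain ⟨s, hs⟩ := QuotientGroup.mk_out_eq_mul (S : Subgroup G) g
    have a : ∀ u ∈ (S : Subgroup G), u * (g⁻¹ * y * g) = g⁻¹ * y * g * u := fun u hu => by
      have := mem_C1.1 (hT.ge (smul_mem_pointwise_smul u (MulAut.conj g) _ hu))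
      rw [MulAut.smul_def, MulAut.conj_apply] at this
      rw [show g⁻¹ * y * g * u = g⁻¹ * (y * (g * u * g⁻¹)) * g by group, this]; group
    refine ⟨⟨g, g⁻¹ * y * g⟩, by
      simp only [A, B, Finset.coe_product, Finset.coe_univ, Finset.coe_filter, Finset.mem_filter,
        Finset.mem_univ, true_and, Set.mem_prod, Set.mem_univ, Set.mem_setOf_eq]
      refine ⟨⟨?_, fun e => (by simpa using hy : y ∉ N) (by
        simpa [mul_assoc] using ‹N.Normal›.conj_mem _ e g)⟩, a⟩
      have := hT.le (mem_C1.2 rfl)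
      simpa [Sylow.coe_subgroup_smul, mem_pointwise_smul_iff_inv_smul_mem] using this, ?_⟩
    simp only [hs]
    rw [mul_assoc g, a s s.2]; group
  have h2 : ∀ H : Subgroup G, Finset.card ({y | y ∈ H ∧ y ∉ N} : Finset G) + Nat.card (N ⊓ H : Subgroup G) =
      Nat.card H := fun H => by
    rw [Nat.card_eq_fintype_card, Nat.card_eq_fintype_card, Fintype.card_subtype, Fintype.card_subtype,
      ← Finset.card_filter_add_card_filter_not (s := {y | y ∈ H}) (· ∈ N), add_comm]
    simp only [Finset.filter_filter, mem_inf, and_comm]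
  have h3 := h2 ⊤
  have h4 := h2 S
  rw [card_top, inf_top_eq] at h3
  simp only [mem_top, true_and] at h3
  have h5 := Transfer.card_mul_relIndex (inf_le_left : N ⊓ S ≤ N)
  rw [inf_comm N, inf_relIndex_right, inf_comm] at h5
  have h6 := Nat.mul_le_mul_left (Nat.card (N ⊓ S : Subgroup G))
    (relIndex_le_of_le_right (H := S) (le_top (a := N)) (by simpa using index_ne_zero_of_finite))
  rw [relIndex_top_right] at h6
  have h7 := (S : Subgroup G).index_mul_card
  have h8 : B = A := Finset.eq_of_subset_of_card_le (fun z a => (Finset.mem_filter.1 a).2.1) (by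
    have := Nat.pos_of_ne_zero (index_ne_zero_of_finite (H := (S : Subgroup G)))
    nlinarith)
  have h9 : ∀ z ∈ (S : Subgroup G), z ∉ N → z ∈ centralizer (S : Set G) := fun z a b => by
    have : z ∈ B := h8 ▸ by simp [A, a, b]
    exact (Finset.mem_filter.1 this).2.2
  have hx' : x ∈ (S : Subgroup G) := hS ▸ mem_C1.2 rfl
  have : IsMulCommutative (S : Subgroup G) := le_centralizer_iff_isMulCommutative.1 fun z a => by
    by_cases b : z ∈ N
    · simpa using mul_mem (h9 _ (mul_mem a hx') (by rwa [N.mul_mem_cancel_left b])) (inv_mem (h9 x hx' hx))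
    · exact h9 z a b
  exact hG ⟨⟨3, S0556.result _ (hS ▸ (h x hx).2)⟩⟩

end Cfsg.Agent.S3903
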