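import Cfsg.Statements.S3904
import Cfsg.Agent.Lib.BG.MaxCent

set_option autoImplicit false
open Cfsg

namespace Cfsg.Agent.S3904

/-- Let G be a non-abelian finite group in which the centralizer of every non-central element is a maximal subgroup. Then G/Z(G) is either an elementary abelian p-group for some prime p, or a minimal non-abelian group (non-abelian with all proper subgroups abelian) of order p^a · q for distinct primes p, q with a normal Sylow p-subgroup. -/
theorem result {G : Type*} [Group G] [Finite G] (hna : ¬ IsMulCommutative G)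
    (h : ∀ x : G, x ∉ Subgroup.center G → IsCoatom (Subgroup.centralizer ({x} : Set G))) :
    (∃ p : ℕ, p.Prime ∧ Cfsg.IsElementaryAbelian p (⊤ : Subgroup (G ⧸ Subgroup.center G))) ∨
    (¬ IsMulCommutative (G ⧸ Subgroup.center G) ∧ (∀ H : Subgroup (G ⧸ Subgroup.center G), H ≠ ⊤ → IsMulCommutative ↥H) ∧
      ∃ p q a : ℕ, p.Prime ∧ q.Prime ∧ p ≠ q ∧ Nat.card (G ⧸ Subgroup.center G) = p ^ a * q ∧
        ∀ P : Subgroup (G ⧸ Subgroup.center G), Nat.card ↥P = p ^ a → P.Normal) := by
  open Pointwise commutatorElement Subgroup in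
  open Cfsg.Agent.Comp Cfsg.Agent.BG Subgroup commutatorElement in
  have hf : Function.Surjective ((QuotientGroup.mk' (center G)).comp (⊤ : Subgroup G).subtype) :=
    (QuotientGroup.mk'_surjective _).comp topEquiv.surjective
  refine (MC.quot (N := ⊤) (fun x _ e => h x (by rwa [coe_top, centralizer_univ] at e)) _ hf fun x =>
    (QuotientGroup.eq_one_iff _).trans (by rw [coe_top, centralizer_univ]; rfl)).imp_right ?_
  rintro ⟨p, V, U, t, hp, h1, hU, _, h2, h3, h4, h5, _, -, h6⟩
  haveI := Fact.mk hp
  rw [← Subgroup.map_map, subgroupOf_map_subtype, inf_top_eq] at hU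
  have t1 : t ≠ 1 := fun e => by rw [e, orderOf_one] at h1; exact Nat.not_prime_one h1
  have hP := IsElementaryAbelian.isPGroup h3
  obtain ⟨a, ha⟩ := hP.exists_card_eq
  have h7 := Solv.inf_eq_bot_of_fpf h5
  have h8 : U.index = orderOf t := by
    rw [← relIndex_top_right, ← h4, relIndex_sup_left, ← inf_relIndex_right, h7, relIndex_bot_left, Nat.card_zpowers]
  have h9 : p ≠ orderOf t := fun e => by
    have := Solv.coprime_of_fpf le_normalizer_of_normal h5
    rw [Nat.card_zpowers, ← e] at this
    exact coprime_iff_not_dvd.1 this.symm (dvd_card_of_isPGroup hP h2)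
  have hS : SylIn p U ⊤ := sylIn_of_not_dvd le_top hP (by
    rw [relIndex_top_right, h8]; exact mt (Nat.prime_dvd_prime_iff_eq hp h1).1 h9)
  refine ⟨fun e => h2 ((inf_eq_left.2 fun x _ => mem_C1.2 (e.1.1 t x)).symm.trans (h5 t (mem_zpowers t) t1)), fun K hK => ?_,
    p, _, a, hp, h1, h9, by rw [← card_mul_index U, ha, h8], fun P hP => ?_⟩
  · by_cases e : K ≤ U
    · exact comm_iff_le.2 (e.trans ((comm_iff_le.1 h3.1).trans (centralizer_le e)))
    have k1 : U ⊔ K = ⊤ := by
      have := relIndex_mul_index (le_sup_left : U ≤ U ⊔ K)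
      rw [h8] at this
      refine index_eq_one.1 (((Nat.dvd_prime h1).1 (Dvd.intro_left _ this)).resolve_right fun f => e ?_)
      rw [f, mul_eq_right₀ h1.ne_zero, relIndex_eq_one] at this
      exact le_sup_right.trans this
    haveI : (U ⊓ K).Normal := MC.normal_of (k1.ge.trans (sup_le (le_Nm_of_le_Ct' (inf_le_left.trans (comm_iff_le.1 h3.1)))
      (le_normalizer_inf le_normalizer_of_normal le_normalizer)))
    obtain f | f := h6 ((U ⊓ K).comap (QuotientGroup.mk' _) ⊓ V) inferInstance inf_le_right
    · have k2 : U ⊓ K = ⊥ := (eq_bot_iff_forall _).2 fun x hx => by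
        obtain ⟨v, hv, rfl⟩ := hU.le (mem_inf.1 hx).1
        rw [(eq_bot_iff_forall _).1 f v (mem_inf.2 ⟨hx, hv⟩), map_one]
      have k3 : Nat.card K = orderOf t := by
        rw [← h8, ← relIndex_top_right, ← k1, relIndex_sup_left, ← inf_relIndex_right, k2, relIndex_bot_left]
      haveI := Fact.mk h1
      haveI := isCyclic_of_prime_card k3
      infer_instance
    · refine (hK ?_).elim
      rw [← k1, right_eq_sup, hU, map_le_iff_le_comap]
      exact f.ge.trans (inf_le_left.trans (comap_mono inf_le_right))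
  · rw [eq_of_le_of_card_eq (hS.le_of_normalizer (IsPGroup.of_card hP) le_top le_normalizer_of_normal) (hP.trans ha.symm)]
    infer_instance

end Cfsg.Agent.S3904
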