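import Cfsg.Statements.S3905
import Cfsg.Agent.Lib.BG.MaxCent

set_option autoImplicit false
open Cfsg

namespace Cfsg.Agent.S3905

/-- Let N be a normal subgroup of the finite group G such that for every element x of N outside the center of N the centralizer C_G(x) is a maximal subgroup of G. Then N/Z(N) is either an elementary abelian p-group for some prime p, or a Frobenius group whose kernel is an elementary abelian normal subgroup and whose complement has prime order. -/
theorem result {G : Type*} [Group G] [Finite G] (N : Subgroup G) [N.Normal]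
    (h : ∀ x : G, x ∈ N → x ∉ Subgroup.centralizer (N : Set G) → IsCoatom (Subgroup.centralizer ({x} : Set G))) :
    (∃ p : ℕ, p.Prime ∧ Cfsg.IsElementaryAbelian p (⊤ : Subgroup (↥N ⧸ Subgroup.center ↥N))) ∨
    (∃ (Q K : Subgroup (↥N ⧸ Subgroup.center ↥N)) (p : ℕ), p.Prime ∧ Cfsg.IsFrobeniusComplement Q ∧ (Nat.card ↥Q).Prime ∧
      K.Normal ∧ (K : Set (↥N ⧸ Subgroup.center ↥N)) = Cfsg.frobeniusKernel Q ∧ Cfsg.IsElementaryAbelian p K) := by
  open Pointwise commutatorElement Subgroup in
  open Cfsg.Agent.Comp Cfsg.Agent.BG Subgroup commutatorElement in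
  refine (MC.quot h (QuotientGroup.mk' (center N)) (QuotientGroup.mk'_surjective _) fun x =>
    (QuotientGroup.eq_one_iff _).trans ⟨fun e => mem_Ct.2 fun y hy => congrArg Subtype.val (mem_center_iff.1 e ⟨y, hy⟩),
      fun e => mem_center_iff.2 fun y => Subtype.ext (mem_Ct.1 e y y.2)⟩).imp_right ?_
  rintro ⟨p, V, U, t, hp, h1, -, _, h2, h3, h4, h5, -⟩
  exact ⟨zpowers t, U, p, hp, Solv.isFrobeniusComplement_of_fpf h4 h2 (fun e => by
    rw [zpowers_eq_bot.1 e, orderOf_one] at h1; exact Nat.not_prime_one h1) h5, by rwa [Nat.card_zpowers], ‹_›,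
    (Solv.frobeniusKernel_eq_of_normal h4 h5).symm, h3⟩

end Cfsg.Agent.S3905
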