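import Cfsg.Statements.S3908
import Cfsg.Agent.Lib.PU.Af9

set_option autoImplicit false
open Cfsg

namespace Cfsg.Agent.S3908

/-- Let G be a finite group in which any two abelian subgroups of the same order are conjugate. Then a Sylow 2-subgroup of G is cyclic, elementary abelian or generalized quaternion, and for an odd prime p a Sylow p-subgroup of G is cyclic or has exponent dividing p. -/
theorem result {G : Type*} [Group G] [Finite G] (hB : ∀ A B : Subgroup G, IsMulCommutative ↥A → IsMulCommutative ↥B → Nat.card ↥A = Nat.card ↥B → ∃ g : G, B = A.map (MulAut.conj g).toMonoidHom) :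
    (∀ P : Sylow 2 G, IsCyclic ↥(P : Subgroup G) ∨ Cfsg.IsElementaryAbelian 2 (P : Subgroup G) ∨ ∃ k : ℕ, Nonempty (↥(P : Subgroup G) ≃* QuaternionGroup (2 ^ k))) ∧
    ∀ (p : ℕ) [Fact p.Prime], p ≠ 2 → ∀ P : Sylow p G, IsCyclic ↥(P : Subgroup G) ∨ ∀ x ∈ (P : Subgroup G), x ^ p = 1 := by
  have key : ∀ (p : ℕ) [Fact p.Prime] (P : Sylow p G), (∀ x : (P : Subgroup G), x ^ p = 1) ∨
      IsCyclic (P : Subgroup G) ∨ (p = 2 ∧ ∃ n : ℕ, Nonempty ((P : Subgroup G) ≃* QuaternionGroup (2 ^ n))) := by
    intro p _ P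
    refine (PU.Af.exp_or_uniq P.2 fun H K hH hK h => ?_).imp_right (S0016.result p P.2)
    obtain ⟨g, hg⟩ := hB (H.map (P : Subgroup G).subtype) (K.map (P : Subgroup G).subtype) inferInstance inferInstance
      (by rw [Subgroup.card_map_of_injective (Subgroup.subtype_injective _),
        Subgroup.card_map_of_injective (Subgroup.subtype_injective _), h])
    exact PU.Af.iso_of_conj g hg
  refine ⟨fun P => ?_, fun p _ hp P => ?_⟩
  · rcases key 2 P with h | h | ⟨-, h⟩
    · exact .inr (.inl ⟨PU.Af.comm_of_sq h, fun a ha => congrArg Subtype.val (h ⟨a, ha⟩)⟩)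
    · exact .inl h
    · exact .inr (.inr h)
  · rcases key p P with h | h | ⟨h, -⟩
    · exact .inr fun a ha => congrArg Subtype.val (h ⟨a, ha⟩)
    · exact .inl h
    · exact absurd h hp

end Cfsg.Agent.S3908
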