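import Cfsg.Statements.S3909
import Cfsg.Agent.Lib.Solv.PGrp
import Cfsg.Agent.Lib.Comp.SylIn

set_option autoImplicit false
open Cfsg

namespace Cfsg.Agent.S3909

/-- Let G be a finite group in which any two abelian subgroups of the same order are conjugate. Let M be a normal subgroup of G. If M contains an element of the same order as a ∈ G, then a ∈ M; and if M is elementary abelian of order p^t with p prime and t ≥ 2, then M is the unique Sylow p-subgroup of G. -/
theorem result {G : Type*} [Group G] [Finite G] (hB : ∀ A B : Subgroup G, IsMulCommutative ↥A → IsMulCommutative ↥B → Nat.card ↥A = Nat.card ↥B → ∃ g : G, B = A.map (MulAut.conj g).toMonoidHom) (M : Subgroup G) [M.Normal] :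
    (∀ a : G, (∃ m ∈ M, orderOf m = orderOf a) → a ∈ M) ∧
    ∀ (p t : ℕ) [Fact p.Prime], 2 ≤ t → Nat.card ↥M = p ^ t → Cfsg.IsElementaryAbelian p M → ∀ P : Sylow p G, (P : Subgroup G) = M := by
  open Pointwise commutatorElement Subgroup Cfsg.Agent.Solv in
  have h1 : ∀ a : G, (∃ m ∈ M, orderOf m = orderOf a) → a ∈ M := by
    rintro a ⟨m, hm, e⟩
    obtain ⟨g, hg⟩ := hB (zpowers m) (zpowers a) inferInstance inferInstance
      (by rw [Nat.card_zpowers, Nat.card_zpowers, e])
    have : zpowers a ≤ M := by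
      rw [hg]
      exact Cfsg.Agent.Comp.cj_le_of_mem (zpowers_le.2 hm) (by rw [normalizer_eq_top]; trivial)
    exact this (mem_zpowers a)
  refine ⟨h1, fun p t hp ht hc hM P => ?_⟩
  have hMp : IsPGroup p M := isPGroup_of_pow_eq_one hM.2
  refine le_antisymm (fun x hx => ?_) ((le_pCore hMp).trans (pCore_le_sylow P))
  obtain ⟨k, hk⟩ := exists_orderOf_eq_pow P.isPGroup' hx
  obtain ⟨E, hE⟩ := Sylow.exists_subgroup_card_pow_prime (G := M) p (n := 2) (hc ▸ pow_dvd_pow p ht)
  rcases k with _ | _ | k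
  · rw [pow_zero, orderOf_eq_one_iff] at hk
    rw [hk]; exact one_mem _
  · obtain ⟨m, hm, e⟩ := Cfsg.Agent.Comp.exists_mem_orderOf_eq (H := M) (p := p)
      (hc ▸ dvd_pow_self p (by omega))
    exact h1 x ⟨m, hm, by rw [e, hk]; simp⟩
  · exfalso
    have ho : orderOf (x ^ p ^ k) = p ^ 2 := by
      rw [orderOf_pow_of_dvd (pow_pos hp.out.pos k).ne' (hk ▸ pow_dvd_pow p (by omega)), hk,
        Nat.pow_div (by omega) hp.out.pos]
      congr 1; omega
    obtain ⟨g, hg⟩ := hB (E.map M.subtype) (zpowers (x ^ p ^ k))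
      (isMulCommutative_of_le (map_subtype_le _) hM.1) inferInstance
      (by rw [Nat.card_zpowers, ho, Cfsg.Agent.Comp.card_map_subtype, hE])
    have : zpowers (x ^ p ^ k) ≤ M := by
      rw [hg]
      exact Cfsg.Agent.Comp.cj_le_of_mem (map_subtype_le _) (by rw [normalizer_eq_top]; trivial)
    have h2 := orderOf_dvd_of_pow_eq_one (hM.2 _ (this (mem_zpowers _)))
    rw [ho] at h2
    have := Nat.le_of_dvd hp.out.pos h2
    have := hp.out.two_le
    nlinarith

end Cfsg.Agent.S3909
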