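import Cfsg.Statements.S3910
import Cfsg.Agent.Lib.Solv.PGrp
import Cfsg.Agent.Lib.Solv.Schmidt
import Cfsg.Agent.Lib.Comp.SylIn

set_option autoImplicit false
open Cfsg

namespace Cfsg.Agent.S3910

/-- A finite nilpotent group in which any two abelian subgroups of the same order are conjugate is cyclic. -/
theorem result {G : Type*} [Group G] [Finite G] (hB : ∀ A B : Subgroup G, IsMulCommutative ↥A → IsMulCommutative ↥B → Nat.card ↥A = Nat.card ↥B → ∃ g : G, B = A.map (MulAut.conj g).toMonoidHom) (hnil : Group.IsNilpotent G) : IsCyclic G := by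
  open Pointwise commutatorElement Subgroup Cfsg.Agent.Solv in
  haveI : IsZGroup G := by
    refine ⟨fun p hp P => ?_⟩
    haveI := Fact.mk hp
    have hT : Group.IsNilpotent (⊤ : Subgroup G) := isNilpotent_top_iff.2 hnil
    have hPn : (P : Subgroup G).Normal := (isSylowIn_top P).normal_of_nilpotent hT
    obtain ⟨A, -, hAP, hA, hAn, hC⟩ := exists_abelian_self_centralizing (A₀ := ⊥) hT
      (le_top : (P : Subgroup G) ≤ ⊤) le_normalizer_of_normal bot_le inferInstance le_normalizer_of_normal
    have hAp : IsPGroup p A := P.isPGroup'.to_le hAP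
    have key : ∀ k : ℕ, p ^ k ≤ Nat.card A → ∃ K ≤ A, ∀ B : Subgroup G, IsMulCommutative B → Nat.card B = p ^ k → B = K := by
      intro k hk
      obtain ⟨K, h1, h2, h3⟩ := exists_normal_card hT hAp le_top hAn k hk
      refine ⟨K, h1, fun B hB1 hB2 => ?_⟩
      obtain ⟨g, hg⟩ := hB K B (isMulCommutative_of_le h1 hA) hB1 (h2.trans hB2.symm)
      rw [hg, Cfsg.Agent.Comp.cj_eq_self_iff.2 (h3 trivial)]
    have hPA : (P : Subgroup G) ≤ A := by
      intro x hx
      obtain ⟨k, hk⟩ := exists_orderOf_eq_pow P.isPGroup' hx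
      obtain ⟨a, ha⟩ := IsPGroup.iff_card.1 hAp
      rcases le_total k a with h | h
      · obtain ⟨K, h1, h2⟩ := key k (ha ▸ Nat.pow_le_pow_right hp.pos h)
        rw [← h2 (zpowers x) inferInstance (by rw [Nat.card_zpowers, hk])] at h1
        exact h1 (mem_zpowers x)
      · obtain ⟨K, h1, h2⟩ := key a ha.ge
        have ho : orderOf (x ^ p ^ (k - a)) = p ^ a := by
          rw [orderOf_pow_of_dvd (pow_pos hp.pos _).ne' (hk ▸ pow_dvd_pow p (by omega)), hk,
            Nat.pow_div (by omega) hp.pos]
          congr 1; omega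
        have e1 := h2 _ inferInstance ((Nat.card_zpowers _).trans ho)
        have e2 := h2 A hA ha
        refine hC ⟨hx, ?_⟩
        rw [e2, ← e1, centralizer_zpowers]
        exact mem_centralizer_singleton_iff.2 ((Commute.refl x).pow_right _).eq
    by_contra hnc
    have hc : IsMulCommutative (P : Subgroup G) := isMulCommutative_of_le hPA hA
    have h1 := sq_le_card_omegaAb hc P.isPGroup' hnc
    obtain ⟨E, hE1, hE2, -, hE3, -⟩ := exists_normal_elementary_sq_of_abelian hT hc P.isPGroup' le_top le_normalizer_of_normal hnc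
    obtain ⟨H, hH, K, hK, c1, c2, hne⟩ := exists_two_subgroups_of_card_sq hp hE2 hE3
    obtain ⟨L, -, h2⟩ := key 1 (by rw [pow_one, ← c1]; exact card_le_of_le (hH.trans (hE1.trans hPA)))
    exact hne ((h2 H (isMulCommutative_of_le (hH.trans hE1) hc) (by rw [c1, pow_one])).trans
      (h2 K (isMulCommutative_of_le (hK.trans hE1) hc) (by rw [c2, pow_one])).symm)
  infer_instance

end Cfsg.Agent.S3910
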