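import Cfsg.Statements.S3917
import Cfsg.Agent.Lib.Solv.PGrp
import Cfsg.Agent.Lib.Solv.Gen

set_option autoImplicit false
open Cfsg

namespace Cfsg.Agent.S3917

/-- Say that a group has self-centralizing non-cyclic subgroups when every non-cyclic subgroup H satisfies C_G(H) ≤ H. A finite abelian group with self-centralizing non-cyclic subgroups is cyclic or elementary abelian of order p² for a prime p. -/
theorem result {G : Type*} [CommGroup G] [Finite G] (hX : (∀ H : Subgroup G, ¬ IsCyclic ↥H → Subgroup.centralizer (H : Set G) ≤ H)) :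
    IsCyclic G ∨ ∃ p : ℕ, p.Prime ∧ Nat.card G = p ^ 2 ∧ Monoid.exponent G = p := by
  open Pointwise commutatorElement Subgroup Cfsg.Agent.Solv in
  by_cases hc : IsCyclic G
  · exact Or.inl hc
  right
  obtain ⟨p, hp, E, hE, hexp⟩ := exists_elementary_sq_of_not_isCyclic (A := G) inferInstance hc
  have h1 := hX E (not_isCyclic_of_card_sq hp hE hexp)
  have h2 : E = ⊤ := eq_top_iff.2 fun x _ => h1 fun y _ => mul_comm y x
  subst h2
  rw [card_top] at hE
  refine ⟨p, hp, hE, ?_⟩
  have h3 : Monoid.exponent G ∣ p := Monoid.exponent_dvd_of_forall_pow_eq_one fun g => hexp g trivial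
  rcases (Nat.dvd_prime hp).1 h3 with h | h
  · exfalso
    have : Subsingleton G := Monoid.exp_eq_one_iff.1 h
    exact hc inferInstance
  · exact h

end Cfsg.Agent.S3917
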