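import Cfsg.Statements.S3918
import Cfsg.Agent.Lib.BG.Pgp

set_option autoImplicit false
open Cfsg

namespace Cfsg.Agent.S3918

/-- Say that a group has self-centralizing non-cyclic subgroups when every non-cyclic subgroup H satisfies C_G(H) ≤ H. For an odd prime p, a finite non-abelian p-group has self-centralizing non-cyclic subgroups if and only if it has order p³. -/
theorem result {G : Type*} [Group G] [Finite G] {p : ℕ} [Fact p.Prime] (hp : p ≠ 2) (hG : IsPGroup p G) (hna : ¬ IsMulCommutative G) :
    (∀ H : Subgroup G, ¬ IsCyclic ↥H → Subgroup.centralizer (H : Set G) ≤ H) ↔ Nat.card G = p ^ 3 := by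
  open Pointwise commutatorElement Subgroup in
  open Cfsg.Agent.Solv in
  have hT : IsPGroup p (⊤ : Subgroup G) := hG.to_subgroup _
  have hpp : p.Prime := Fact.out
  have hna' : ¬ IsMulCommutative (⊤ : Subgroup G) := fun h =>
    hna ⟨⟨fun a b => Solv.isMulCommutative_iff.1 h a trivial b trivial⟩⟩
  constructor
  · intro h
    have hnc : ¬ IsCyclic (⊤ : Subgroup G) := fun h => hna' inferInstance
    obtain ⟨E, -, hE, hc, hexp, hn⟩ := exists_normal_elementary_sq hp hT.isNilpotent hT le_rfl le_normalizer hnc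
    have h1 := h E (not_isCyclic_of_card_sq hpp hE hexp)
    have h2 := BG.relIndex_Ct_le hT (hG.to_subgroup E) hn hE.le
    rw [relIndex_top_right] at h2
    have h3 : Nat.card G ≤ p ^ 3 := by
      rw [← index_mul_card (centralizer (E : Set G)), pow_succ']
      exact Nat.mul_le_mul h2 (hE ▸ card_le_of_le h1)
    rw [← card_top] at h3 ⊢
    exact BG.card_eq_pow_of_le hT h3 fun h4 => hna' (BG.comm_of_card_le hT h4)
  · intro h H hnc
    by_contra hC
    have hH := hG.to_subgroup H
    have h1 : ¬ Nat.card H ≤ p := fun h1 => by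
      by_cases h0 : H = ⊥
      · exact hnc (h0 ▸ inferInstance)
      · exact hnc (isCyclic_of_prime_card (BG.card_eq_of_card_le hH h0 h1))
    have hne : H < ⊤ := lt_top_iff_ne_top.2 fun e => hC (e ▸ le_top)
    have h2 : Nat.card H ≤ p ^ 2 := BG.card_le_pow_of_lt hT hne (by rw [card_top, h])
    have h3 : Nat.card H = p ^ 2 := BG.card_eq_pow_of_le hH h2 (by rwa [pow_one])
    obtain ⟨c, hc, hcH⟩ := SetLike.not_le_iff_exists.1 hC
    have h4 := BG.sup_zpowers_eq_of_card_le (k := 2) hT (by rw [card_top, h]) (le_top : H ≤ ⊤) h3.ge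
      (mem_top c) hcH
    exact hna' (h4 ▸ isMulCommutative_sup_zpowers (BG.comm_of_card_le hH h2) hc)

end Cfsg.Agent.S3918
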