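import Cfsg.Statements.S3919
import Cfsg.Agent.Lib.Solv.MaxCl

set_option autoImplicit false
open Cfsg

namespace Cfsg.Agent.S3919

/-- Say that a group has self-centralizing non-cyclic subgroups when every non-cyclic subgroup H satisfies C_G(H) ≤ H. A finite non-abelian 2-group G of order 2^n has self-centralizing non-cyclic subgroups if and only if G has nilpotency class n − 1 (that is, G is dihedral, semidihedral or generalized quaternion). -/
theorem result {G : Type*} [Group G] [Finite G] (hna : ¬ IsMulCommutative G) (n : ℕ) (hG : Nat.card G = 2 ^ n) :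
    (∀ H : Subgroup G, ¬ IsCyclic ↥H → Subgroup.centralizer (H : Set G) ≤ H) ↔ (⊤ : Subgroup G).lowerCentralSeries (n - 2) ≠ ⊥ := by
  open Pointwise commutatorElement Subgroup Cfsg.Agent.Solv in
  open Cfsg.Agent.Transfer in
  haveI := Fact.mk Nat.prime_two
  have hG' := IsPGroup.of_card hG
  haveI := hG'.isNilpotent
  have hn : 3 ≤ n := le_of_not_gt fun h => hna ⟨⟨fun x y => commutatorElement_eq_one_iff_mul_comm.1
    (BG.der_le_of_relIndex_le (N := ⊥) (hG'.to_subgroup ⊤) (BG.le_Nm_bot _) (by
      rw [relIndex_bot_left, card_top, hG]; exact Nat.pow_le_pow_right two_pos (by omega))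
      (commutator_mem_commutator trivial trivial))⟩⟩
  have h1 : (⊤ : Subgroup G).lowerCentralSeries (n - 2) ≠ ⊥ ↔ Group.nilpotencyClass G = n - 1 := by
    rw [show n - 1 = n - 2 + 1 by omega, nilpotencyClass_eq_iff, and_iff_right]
    exact Subgroup.lowerCentralSeries_eq_bot_iff_nilpotencyClass_le.2 ((S0063.result 2 _ hG (by omega)).trans (by omega))
  rw [h1]
  refine ⟨fun h => ?_, fun h H hH c hc => ?_⟩
  · by_cases h2 : ∀ E ≤ (⊤ : Subgroup G), Nat.card E = 2 ^ 2 → IsMulCommutative E → (∀ x ∈ E, x ^ 2 = 1) → False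
    · rcases isCyclic_or_quaternion (hG'.to_subgroup ⊤) h2 with h3 | ⟨-, a, b, m, a1, a2, a3, -, a4, a5⟩
      · exact (hna (isCyclic_top_iff.1 h3).isMulCommutative).elim
      rw [card_top] at a4
      rw [NF2.nilpotencyClass ⟨a1, a2, a4, a3, .inr (.inl a5)⟩, Nat.pow_right_injective le_rfl (hG.symm.trans a4)]
    · push Not at h2
      obtain ⟨E, -, a1, -, a2, -⟩ := h2
      exact maxClass_of_centralizer G n hG E a1 (h E (not_isCyclic_of_card_sq Nat.prime_two a1 a2))
  obtain ⟨a, b, h2⟩ := nf2_of_maxClass hG h hn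
  obtain ⟨d, hd, hd'⟩ := SetLike.not_le_iff_exists.1 fun h : H ≤ zpowers a => hH (isCyclic_of_le h)
  have h3 : center G ≤ H := by
    have h4 : H ⊓ zpowers a ≠ ⊥ := fun h4 => by
      haveI := normal_of_index_eq_two h2.index
      have h5 := relIndex_dvd_index_of_normal (zpowers a) H
      rw [h2.index, ← inf_relIndex_left, h4, relIndex_bot_left] at h5
      exact hH (isCyclic_of_card_dvd_prime h5)
    obtain ⟨x, hx⟩ := exists_prime_orderOf_dvd_card' 2 (Solv.dvd_card_of_isPGroup (hG'.to_subgroup _) h4)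
    rw [eq_of_isCyclic_of_card_eq (H := center G) (isCyclic_zpowers a) (h2.center_eq ▸ zpowers_le.2 (pow_mem (mem_zpowers a) _))
      (zpowers_le.2 (mem_inf.1 x.2).2) (by rw [h2.card_center, Nat.card_zpowers, orderOf_coe, hx])]
    exact zpowers_le.2 (mem_inf.1 x.2).1
  have h4 : ∀ y ∈ zpowers a, d * y = y * d → y ∈ H := fun y hy h5 => h3 (by
    rw [← centralizer_univ, ← coe_top, ← sup_eq_top_of_not_le_coatom (isCoatom_of_index_prime (h2.index ▸ Nat.prime_two))
      (mt zpowers_le.1 hd'), Comp.centralizer_sup, Solv.centralizer_zpowers, Solv.centralizer_zpowers]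
    exact ⟨mem_centralizer_singleton.2 (commute_of_mem_zpowers' hy), mem_centralizer_singleton.2 h5⟩)
  have h5 := mem_centralizer_iff.1 hc d hd
  by_cases h6 : c ∈ zpowers a
  · exact h4 c h6 h5
  · exact (mul_mem_cancel_right hd).1 (h4 _ ((mul_mem_iff_of_index_two h2.index).2 (by simp [h6, hd']))
      (by rw [← mul_assoc, h5]))

end Cfsg.Agent.S3919
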