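import Cfsg.Statements.S3921
import Cfsg.Agent.Lib.Ez.B3

set_option autoImplicit false
open Cfsg

namespace Cfsg.Agent.S3921

/-- Say that a group has self-centralizing non-cyclic subgroups when every non-cyclic subgroup H satisfies C_G(H) ≤ H. A non-abelian finite simple group has self-centralizing non-cyclic subgroups if and only if it is isomorphic to PSL₂(q) with q = 4, q = 9, or q a prime of the form 2^k + 1 or 2^k − 1. -/
theorem result {G : Type*} [Group G] [Finite G] [IsSimpleGroup G] (hna : ¬ IsMulCommutative G) :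
    (∀ H : Subgroup G, ¬ IsCyclic ↥H → Subgroup.centralizer (H : Set G) ≤ H) ↔ ∃ (F : Type) (_ : Field F) (_ : Fintype F),
      (Fintype.card F = 4 ∨ Fintype.card F = 9 ∨ ((Fintype.card F).Prime ∧ ∃ k : ℕ, Fintype.card F = 2 ^ k + 1 ∨ Fintype.card F = 2 ^ k - 1)) ∧
      Nonempty (G ≃* Matrix.ProjectiveSpecialLinearGroup (Fin 2) F) := by
  refine ⟨fun hH => ?_, fun ⟨F, _, _, hq, ⟨e⟩⟩ H => ?_⟩
  · obtain ⟨F, _, _, k, h1, ⟨e⟩⟩ := Ez.sc_psl hH hna
    have h := Ez.l2_of_equiv e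
    obtain ⟨f, hf, h2⟩ := h.pw
    have h3 : ringChar F ≠ 2 := fun a => by
      have := dvd_pow_self 2 hf.ne'
      rw [a] at h2
      rw [pow_succ] at h1; omega
    refine ⟨F, inferInstance, inferInstance, .inr ?_, ⟨e⟩⟩
    exact (h2 ▸ Ez.prime_or_nine h.pp h3 hf (h2 ▸ h1)).imp_right (⟨·, k + 2, by omega⟩)
  have h := Ez.l2_of_equiv e
  obtain ⟨f, hf, h2⟩ := h.pw
  have h3 : ∀ r : ℕ, r.Prime → Fintype.card F ∣ r ^ 2 → Fintype.card F ∣ ringChar F ^ 2 :=
    fun r a b => by rwa [(Nat.prime_dvd_prime_iff_eq h.pp a).1 (h.pp.dvd_of_dvd_pow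
      ((h2 ▸ dvd_pow_self _ hf.ne').trans b))]
  rcases hq with a | a | ⟨a, k, b⟩
  · exact h.sc (h3 2 Nat.prime_two (by rw [a]; rfl)) (.inl a)
  · exact h.sc (h3 3 Nat.prime_three (by rw [a]; rfl)) (.inr ⟨3, .inl a⟩)
  · exact h.sc (h3 _ a (dvd_pow_self _ two_ne_zero)) (.inr ⟨k, by have := a.pos; omega⟩)

end Cfsg.Agent.S3921
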