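import Cfsg.Statements.S3927
import Cfsg.Agent.Lib.BG.Zip2

set_option autoImplicit false
open Cfsg

namespace Cfsg.Agent.S3927

/-- Let G be a finite group and α an automorphism of G with [G, α] = G, that is, the elements g·α(g)⁻¹ generate G. Then for every k ≥ 1 the iterated commutators [g, α, …, α] with k entries α — the values of the k-th iterate of the map c ↦ c·α(c)⁻¹ — also generate G. -/
theorem result {G : Type*} [Group G] [Finite G] (α : MulAut G) (hG : Subgroup.closure (Set.range (fun c : G => c * (α c)⁻¹)) = ⊤) (k : ℕ) (hk : 1 ≤ k) :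
    Subgroup.closure (Set.range ((fun c : G => c * (α c)⁻¹)^[k])) = ⊤ := by
  open Pointwise commutatorElement Subgroup in
  open Cfsg.Agent.Comp Cfsg.Agent.BG Cfsg.Agent.Zip2 Subgroup commutatorElement SemidirectProduct in
  let X := G ⋊[(zpowers α).subtype] zpowers α
  haveI : Finite X := Finite.of_equiv _ SemidirectProduct.equivProd.symm
  let a : X := inr ⟨α, mem_zpowers α⟩
  have h1 : ∀ x : X, ⁅x, a⁆ = inl (x.left * (α x.left)⁻¹) := fun x => by
    have : x.right * ⟨α, mem_zpowers α⟩ * x.right⁻¹ = ⟨α, mem_zpowers α⟩ := by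
      rw [mul_inv_eq_iff_eq_mul]; exact (IsCyclic.commGroup (α := zpowers α)).mul_comm _ _
    rw [commutatorElement_def, ← inl_left_mul_inr_right x, mul_inv_rev, ← map_inv, ← map_inv, mul_assoc (inl _), ← map_mul,
      ← mul_assoc, mul_assoc (inl _), ← map_mul, this, mul_assoc, mul_assoc, ← map_inv inr, ← mul_assoc (inr _), ← inl_aut, ← map_mul]
    simp
  have h2 : Full (zpowers a) ⊤ := (full_iff le_top).2 fun x _ => by
    rw [← inl_left_mul_inr_right x]
    refine mul_mem (mem_sup_right ?_) (mem_sup_left ?_)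
    · have : (closure (Set.range fun c : G => c * (α c)⁻¹)).map (inl : G →* X) ≤ ⁅zpowers a, ⊤⁆ := by
        rw [MonoidHom.map_closure, closure_le]
        rintro _ ⟨_, ⟨c, rfl⟩, rfl⟩
        rw [Subgroup.commutator_comm]
        exact h1 (inl c) ▸ commutator_mem_commutator (mem_top _) (mem_zpowers a)
      exact this ⟨_, hG ▸ mem_top _, rfl⟩
    · obtain ⟨n, hn⟩ := x.right.2
      exact ⟨n, by simp only [a, ← map_zpow]; exact congrArg _ (Subtype.ext hn)⟩
  set E := closure (Set.range ((fun c : G => c * (α c)⁻¹)^[k]))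
  have h3 : ∀ n : ℕ, ∀ e ∈ E, (α ^ n) e ∈ E := fun n => by
    induction n with
    | zero => exact fun _ h => h
    | succ n ih =>
      have : E.map α.toMonoidHom ≤ E := by
        rw [MonoidHom.map_closure, closure_le]
        rintro _ ⟨_, ⟨c, rfl⟩, rfl⟩
        exact subset_closure ⟨α c, (Function.Semiconj.iterate_right (f := α) (ga := fun c : G => c * (α c)⁻¹)
          (gb := fun c : G => c * (α c)⁻¹) (fun x => by simp) k c).symm⟩
      exact fun e he => by rw [pow_succ', MulAut.mul_apply]; exact this ⟨_, ih e he, rfl⟩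
  have h4 : ∀ β : zpowers α, ∀ e ∈ E, β.1 e ∈ E := fun β e he => by
    obtain ⟨n, hn⟩ := mem_powers_iff_mem_zpowers.2 β.2
    exact hn ▸ h3 n e he
  let S : Subgroup X := ⟨⟨⟨{x | x.left ∈ E}, fun a b => mul_mem a (h4 _ _ b)⟩, one_mem E⟩, fun {x} a => h4 x.right⁻¹ _ (inv_mem a)⟩
  have h5 : ⊤ ≤ S := (engel_gen k X a h2).ge.trans (sup_le (zpowers_le.2 (one_mem E)) ((closure_le _).2 (by
    rintro _ ⟨x, rfl⟩
    refine subset_closure ⟨x.left, ?_⟩
    exact (Function.Semiconj.iterate_right (f := SemidirectProduct.left) (ga := fun x : X => ⁅x, a⁆)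
      (gb := fun c : G => c * (α c)⁻¹) (fun x => congrArg SemidirectProduct.left (h1 x)) k x).symm)))
  exact eq_top_iff.2 fun g _ => h5 (mem_top (inl g))

end Cfsg.Agent.S3927
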