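import Cfsg.Statements.S3937
import Cfsg.Agent.Lib.BG.Zip2

set_option autoImplicit false
open Cfsg

namespace Cfsg.Agent.S3937

/-- Baer's characterization of the Fitting subgroup: in a finite group G, an element g lies in the Fitting subgroup if and only if g is a left Engel element, that is, for every x there is n with [x, g, g, …, g] = 1 (n entries g, [a, b] = aba⁻¹b⁻¹). -/
theorem result {G : Type*} [Group G] [Finite G] (g : G) :
    g ∈ Cfsg.fittingSubgroup G ↔ ∀ x : G, ∃ n : ℕ, (List.replicate n g).foldl (fun a b => a * b * a⁻¹ * b⁻¹) x = 1 := by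
  open Pointwise commutatorElement Subgroup in
  open Cfsg.Agent.Comp Cfsg.Agent.BG Cfsg.Agent.Zip2 Subgroup commutatorElement in
  constructor
  · intro hg x
    obtain ⟨n, hn⟩ := (isNilpotent_iff_lowerCentralSeries _).1 (Solv.isNilpotent_fitting G)
    have h1 : ∀ k m y, y ∈ (fittingSubgroup G).lowerCentralSeries m → (List.replicate k g).foldl
        (fun a b => a * b * a⁻¹ * b⁻¹) y ∈ (fittingSubgroup G).lowerCentralSeries (m + k) := fun k => by
      induction k with
      | zero => exact fun _ _ h => h
      | succ k ih =>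
        intro m y h
        rw [← add_assoc, add_right_comm]; exact ih (m + 1) _ (commutator_mem_commutator h hg)
    refine ⟨n + 1, mem_bot.1 ?_⟩
    have := h1 n 0 _ (mul_mem ((Solv.instNormalFitting G).conj_mem _ hg x) (inv_mem hg))
    rwa [zero_add, hn] at this
  · intro h
    refine Solv.le_fitting_of_isSubnormal (subnIn_of_zip (A := zpowers g) ⊤ le_top
      fun M K _ k1 k2 _ _ k5 => k2.not_ge fun x hx => ?_).isSubnormal (@CommGroup.isNilpotent _ IsCyclic.commGroup) (mem_zpowers g)
    have g1 := k1 (mem_zpowers g)
    have h1 : ∀ k y, y ∈ M → (List.replicate k g).foldl (fun a b => a * b * a⁻¹ * b⁻¹) y ∈ K → y ∈ K := fun k => by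
      induction k with
      | zero => exact fun _ _ h => h
      | succ k ih =>
        refine fun y hy h => k5 y hy ?_
        rw [cj_zpowers, zpowers_le]
        simpa only [inv_mul_cancel_right] using mul_mem (ih _ (mul_mem (mul_mem (mul_mem hy (k2.le g1)) (inv_mem hy))
          (inv_mem (k2.le g1))) h) g1
    obtain ⟨n, hn⟩ := h x
    exact h1 n x hx (hn ▸ one_mem _)

end Cfsg.Agent.S3937
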