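import Cfsg.Statements.S3939
import Cfsg.Agent.Lib.Solv.Schmidt
import Cfsg.Agent.Lib.Transfer.Hall

set_option autoImplicit false
open Cfsg

namespace Cfsg.Agent.S3939
section
open Pointwise commutatorElement Subgroup Cfsg.Agent.Solv
universe u
open Cfsg.Agent.Transfer
theorem mem_iff {G : Type*} [Group G] {g : G} : g ∈ ⨆ n : ℕ, Subgroup.upperCentralSeries G n ↔ ∃ n, g ∈ Subgroup.upperCentralSeries G n :=
  mem_iSup_of_directed (Subgroup.upperCentralSeries_mono G).directed_le
theorem mem_ucs {G : Type*} [Group G] (H : Subgroup G) (n : ℕ) : ∀ x : H, (x : G) ∈ Subgroup.upperCentralSeries G n →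
    x ∈ Subgroup.upperCentralSeries H n := by
  induction n with
  | zero => exact fun x h => Subtype.ext h
  | succ n ih => exact fun x h => Subgroup.mem_upperCentralSeries_succ_iff.2 fun y => ih _ (Subgroup.mem_upperCentralSeries_succ_iff.1 h y)
theorem aux (G : Type u) [Group G] [Finite G] : ∀ g : G, (∀ x : G, Group.IsNilpotent (closure ({x, g} : Set G))) →
    ∃ n, g ∈ Subgroup.upperCentralSeries G n := by
  revert G
  refine card_induction fun G _ _ ih g h => ?_
  by_cases h1 : center G = ⊥
  · refine ⟨0, by_contra fun h2 => ?_⟩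
    obtain ⟨p, hp, a2⟩ := exists_prime_dvd_card (zpowers_ne_bot.2 (show g ≠ 1 from h2))
    haveI := Fact.mk hp
    obtain ⟨y, hy⟩ := exists_prime_orderOf_dvd_card' p a2
    have h3 : (y : G) ∈ centralizer (pResidual p G : Set G) := by
      rw [← zpowers_le, Subgroup.le_centralizer_iff, ← res_top, res_le_iff]
      intro x _ hx
      rw [Solv.centralizer_zpowers, Solv.mem_centralizer_singleton]
      exact (commute_of_nilpotent_of_coprime (h x) (subset_closure (by simp))
        (zpowers_le.2 (subset_closure (by simp)) y.2) (by simpa [hy] using hx)).symm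
    obtain ⟨P⟩ : Nonempty (Sylow p G) := inferInstance
    have h4 := isSyl_inf_normal P (centralizer (pResidual p G : Set G))
    refine Solv.inf_centralizer_ne_bot_of_nilpotent P.2.isNilpotent inf_le_left
      (Solv.le_normalizer_inf le_normalizer le_normalizer_of_normal) (mt h4.eq_bot_iff.1 (not_not.2 ?_)) ?_
    · simpa [hy] using Solv.orderOf_dvd_card_of_mem h3
    rw [eq_bot_iff, ← h1, ← centralizer_univ, ← coe_top, ← pResidual_sup_sylow P, Comp.centralizer_sup]
    exact inf_le_inf_right _ inf_le_right
  obtain ⟨n, hn⟩ := ih (G ⧸ center G) (card_quotient_lt h1) g fun x => by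
    obtain ⟨x, rfl⟩ := QuotientGroup.mk_surjective x
    have := isNilpotent_map (QuotientGroup.mk' (center G)) (h x)
    rwa [MonoidHom.map_closure, Set.image_pair] at this
  exact ⟨n + 1, by rw [← Subgroup.comap_upperCentralSeries_quotient_center]; exact hn⟩
theorem aux2 (n : ℕ) : ∀ (G : Type u) [Group G] (x g : G), closure {x, g} = ⊤ → g ∈ Subgroup.upperCentralSeries G n →
    Group.IsNilpotent G := by
  induction n with
  | zero =>
    intro G _ x g h1 h2
    rw [Subgroup.upperCentralSeries_zero, mem_bot] at h2
    subst h2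
    rw [Set.pair_comm, closure_insert_one, ← zpowers_eq_closure] at h1
    exact isNilpotent_top_iff.1 (h1 ▸ isNilpotent_of_isMulCommutative inferInstance)
  | succ n ih =>
    intro G _ x g h1 h2
    rw [← Subgroup.comap_upperCentralSeries_quotient_center] at h2
    refine of_quotient_center_nilpotent (ih _ x g ?_ h2)
    have := congrArg (map (QuotientGroup.mk' (center G))) h1
    rwa [MonoidHom.map_closure, Set.image_pair, map_top_mk] at this
end

/-- In a finite group G the set of elements g such that the subgroup generated by g and x is nilpotent for every x ∈ G is exactly the hypercenter of G (the last term of the upper central series). -/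
theorem result {G : Type*} [Group G] [Finite G] (g : G) :
    (∀ x : G, Group.IsNilpotent ↥(Subgroup.closure ({x, g} : Set G))) ↔ g ∈ ⨆ n : ℕ, Subgroup.upperCentralSeries G n := by
  open Pointwise commutatorElement Subgroup Cfsg.Agent.Solv in
  rw [mem_iff]
  refine ⟨aux G g, fun ⟨n, hn⟩ x => aux2 n _ ⟨x, subset_closure (by simp)⟩ ⟨g, subset_closure (by simp)⟩ ?_ ?_⟩
  · rw [← map_subtype_inj, MonoidHom.map_closure, Set.image_pair, Comp.map_subtype_top]; rfl
  · exact mem_ucs _ n _ hn

end Cfsg.Agent.S3939
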