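import Cfsg.Statements.S3941
import Cfsg.Agent.Lib.Block.Syl1

set_option autoImplicit false
open Cfsg

namespace Cfsg.Agent.S3941

open Cfsg.Agent.Blk
open Cfsg.Agent.Char hiding cj cj_mul cj_inv_cj cj_cj_inv
open Subgroup
theorem key : ∀ x : Equiv.Perm (Fin 4), x ≠ 1 → x ^ 3 = 1 → ∃ y : Equiv.Perm (Fin 4), Equiv.Perm.sign y = 1 ∧
    x⁻¹ * (y * x * y⁻¹) ≠ 1 ∧ (x⁻¹ * (y * x * y⁻¹)) ^ 2 = 1 := by decide +kernel

/-- Let n ≥ 5 and p an odd prime with p ≤ n, and suppose that every proper subgroup of the alternating group of degree n whose order is divisible by p has a normal Sylow p-subgroup. Then n = p. -/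
theorem result (n p : ℕ) (hn : 5 ≤ n) [Fact p.Prime] (hp : p ≠ 2) (hpn : p ≤ n)
    (h : ∀ H : Subgroup ↥(alternatingGroup (Fin n)), H ≠ ⊤ → p ∣ Nat.card ↥H → Cfsg.IsPClosed p ↥H) : n = p := by
  classical
  have hpp : p.Prime := Fact.out
  by_contra hne
  obtain ⟨m, rfl⟩ : ∃ m, n = m + 1 := ⟨n - 1, by omega⟩
  have hpm : p ≤ m := by omega
  have hm : 4 ≤ m := by omega
  let f : Fin m ≃ {x : Fin (m + 1) // x ∈ Set.range (Fin.castSucc (n := m))} :=
    Equiv.ofInjective _ (Fin.castSucc_injective m)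
  let φ : alternatingGroup (Fin m) →* alternatingGroup (Fin (m + 1)) :=
    ((Equiv.Perm.extendDomainHom f).comp (alternatingGroup (Fin m)).subtype).codRestrict _ fun x => by
      have := x.2
      rw [Equiv.Perm.mem_alternatingGroup] at this ⊢
      simpa using this
  have hφ : Function.Injective φ := fun x y h =>
    Subtype.ext (Equiv.Perm.extendDomainHom_injective f (congrArg Subtype.val h))
  let e := MonoidHom.ofInjective hφ
  haveI : Nontrivial (Fin m) := Fin.nontrivial_iff_two_le.2 (by omega)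
  haveI : Nontrivial (Fin (m + 1)) := Fin.nontrivial_iff_two_le.2 (by omega)
  have c1 : 2 * Nat.card (alternatingGroup (Fin m)) = m.factorial := by
    rw [two_mul_nat_card_alternatingGroup, Nat.card_perm]; simp
  have c2 : 2 * Nat.card (alternatingGroup (Fin (m + 1))) = (m + 1).factorial := by
    rw [two_mul_nat_card_alternatingGroup, Nat.card_perm]; simp
  have c3 : Nat.card φ.range = Nat.card (alternatingGroup (Fin m)) := (Nat.card_congr e.toEquiv).symm
  have hd : p ∣ Nat.card (alternatingGroup (Fin m)) := by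
    have : p ∣ 2 * Nat.card (alternatingGroup (Fin m)) := c1 ▸ (hpp.dvd_factorial).2 hpm
    exact ((Nat.coprime_primes hpp Nat.prime_two).2 hp).dvd_of_dvd_mul_left this
  have hc := h φ.range (fun ht => by
    rw [ht, card_top] at c3
    have := Nat.factorial_lt (n := m) (m := m + 1) (by omega)
    omega) (c3 ▸ hd)
  obtain ⟨P⟩ := (inferInstance : Nonempty (Sylow p φ.range))
  have hN : ((P : Subgroup φ.range).comap e.toMonoidHom).Normal := (hc P).comap _
  have hNp : IsPGroup p ((P : Subgroup φ.range).comap e.toMonoidHom) := P.2.comap_of_injective _ e.injective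
  have hP0 : (P : Subgroup φ.range) ≠ ⊥ := P.ne_bot_of_dvd_card (c3 ▸ hd)
  have hN0 : (P : Subgroup φ.range).comap e.toMonoidHom ≠ ⊥ := by
    intro h0
    apply hP0
    rw [← map_comap_eq_self_of_surjective e.surjective (P : Subgroup φ.range)]
    exact (congrArg _ h0).trans (Subgroup.map_bot _)
  generalize (P : Subgroup φ.range).comap e.toMonoidHom = N at hN hNp hN0
  obtain ⟨k, hk⟩ := IsPGroup.iff_card.1 hNp
  have hodd : ¬ 2 ∣ Nat.card N := fun h2 =>
    hp ((Nat.prime_dvd_prime_iff_eq Nat.prime_two hpp).1 (Nat.prime_two.dvd_of_dvd_pow (hk ▸ h2))).symm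
  rcases hm.lt_or_eq with h5 | rfl
  · haveI := alternatingGroup.isSimpleGroup (α := Fin m) (by rw [Nat.card_eq_fintype_card, Fintype.card_fin]; omega)
    rcases hN.eq_bot_or_eq_top with h0 | h0
    · exact hN0 h0
    · rw [h0, card_top] at hodd
      have : (4).factorial ∣ m.factorial := Nat.factorial_dvd_factorial hm
      rw [← c1] at this
      have h24 : (4 : ℕ).factorial = 24 := rfl
      rw [h24] at this
      exact hodd (Nat.dvd_of_mul_dvd_mul_left two_pos (Dvd.dvd.trans (by norm_num) this))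
  · have hp3 : p = 3 := by
      have := hpp.two_le
      have h4 : p ≠ 4 := by rintro rfl; exact absurd hpp (by decide)
      omega
    subst hp3
    have h3 : 3 ∣ Nat.card N := by
      rcases k with _ | k
      · exact absurd (card_eq_one.1 (by simpa using hk)) hN0
      · rw [hk]; exact dvd_pow_self 3 (Nat.succ_ne_zero k)
    obtain ⟨⟨x, hx⟩, ho⟩ := exists_prime_orderOf_dvd_card' 3 h3
    have ho' : orderOf (x : Equiv.Perm (Fin 4)) = 3 := by rw [orderOf_coe]; exact (orderOf_coe (⟨x, hx⟩ : N)).trans ho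
    obtain ⟨y, hy, h1, h2⟩ := key x (fun h => by rw [h, orderOf_one] at ho'; omega)
      (ho' ▸ pow_orderOf_eq_one _)
    have hz := mul_mem (inv_mem hx) (hN.conj_mem x hx ⟨y, hy⟩)
    apply hodd
    have : orderOf (x⁻¹ * (⟨y, hy⟩ * x * ⟨y, hy⟩⁻¹) : alternatingGroup (Fin 4)) = 2 := by
      rw [← orderOf_coe]; exact orderOf_eq_prime h2 h1
    exact this ▸ orderOf_dvd_natCard N hz

end Cfsg.Agent.S3941
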