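import Cfsg.Statements.S4240
import Cfsg.Agent.Lib.BG.Act
import Cfsg.Agent.Lib.BG.Rank
import Cfsg.Agent.Lib.BG.Quo
import Cfsg.Agent.Lib.Transfer.NPC
import Cfsg.Agent.Lib.FT.Cor

set_option autoImplicit false
universe u
open Cfsg

namespace Cfsg.Agent.S4240
section
open Pointwise commutatorElement Subgroup
open Cfsg.Agent.Comp Cfsg.Agent.BG in
theorem gt {X : Type*} [Group X] [Finite X] {p : ℕ} [Fact p.Prime] (h2 : p ≠ 2) {P G : Subgroup X} (h : SylIn p P G)
    (e : HasNormalPComplement p (G ⊓ Nm(centerThompsonOf p P) : Subgroup X)) : HasNormalPComplement p G :=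
  Transfer.glauberman_thompson h2 (Or.inl rfl) h.toSylow (Transfer.hasNPC_of_map_subtype_le
    (by rw [map_subtype_normalizer, Transfer.map_ZJ (by simp), h.map_toSylow]) e)

open Cfsg.Agent.Comp Cfsg.Agent.BG in
theorem exists_Res_lt {X : Type*} [Group X] [Finite X] {G : Subgroup X} (h : ⁅G, G⁆ ≠ G) : ∃ p : ℕ, p.Prime ∧ Res p G < G := by
  have a : G ≤ Nm(⁅G, G⁆) := Comp.le_normalizer_commutator le_normalizer le_normalizer
  obtain ⟨p, hp, hd⟩ := Solv.exists_prime_dvd_card (mt (img_eq_bot_iff (h := a) le_rfl).1 fun e => h (le_antisymm (commutator_le_self G) e))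
  have := Fact.mk hp
  have := isNilpotent_of_le_centralizer (comm_iff_le.1 ((comm_img_iff (h := a) le_rfl).2 le_rfl))
  refine ⟨p, hp, lt_of_le_of_ne (BG.Res_le p G) fun e => coprime_iff_not_dvd.1 ?_ hd⟩
  have := hasNPC_iff_coprime.1 (Transfer.hasNPC_of_nilpotent (p := p) (G := img a G))
  rwa [← img_Res le_rfl, e] at this

open Cfsg.Agent.Comp Cfsg.Agent.BG in
theorem solv (n : ℕ) : ∀ {X : Type u} [Group X] [Finite X] (A G : Subgroup X), Nat.card G = n → G.Normal → A ⊔ G = ⊤ →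
    (Nat.card A).Coprime (Nat.card G) → (∀ H, H < G → A ≤ Nm(H) → Group.IsNilpotent H) → Group.IsSolvable G := by
  induction n using Nat.strong_induction_on with | h n ih => ?_
  intro X _ _ A G hn hG hT hc hm
  subst hn
  have key : ∀ N : Subgroup X, A ≤ Nm(N) → G ≤ Nm(N) → N ≠ ⊥ → N ≤ G → Group.IsSolvable N → Group.IsSolvable G := fun N a b n2 n3 n4 => by
    have n1 : N.Normal := Comp.normal_iff_top_le_normalizer.2 (hT.ge.trans (sup_le a b))
    have f := QuotientGroup.mk'_surjective N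
    have l : Nat.card (G.map (QuotientGroup.mk' N)) < Nat.card G := by
      rw [← Solv.card_map_mk N G, inf_eq_right.2 n3]
      exact lt_mul_of_one_lt_right Nat.card_pos (one_lt_card_iff_ne_bot _ |>.2 n2)
    refine Comp.isSolvable_of_map _ (ih _ l (A.map (QuotientGroup.mk' N)) (G.map (QuotientGroup.mk' N)) rfl (hG.map _ f)
      (by rw [← Subgroup.map_sup, hT, map_top_of_surjective _ f])
      ((hc.coprime_dvd_left (card_map_dvd _ _)).coprime_dvd_right (card_map_dvd _ _)) fun H h1 h2 => ?_)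
      (by rw [QuotientGroup.ker_mk']; exact Solv.isSolvable_of_le inf_le_right n4)
    rw [← map_comap_eq_self_of_surjective f H]
    refine Solv.isNilpotent_map _ (hm _ ?_ ((map_le_iff_le_comap.1 h2).trans (le_normalizer_comap _)))
    rwa [← comap_lt_comap_of_surjective f, comap_map_eq, QuotientGroup.ker_mk', sup_eq_left.2 n3] at h1
  by_cases h2 : IsPGroup 2 G
  · have := h2.isNilpotent; infer_instance
  obtain ⟨q, hq, h3, h4⟩ : ∃ q : ℕ, q.Prime ∧ q ∣ Nat.card G ∧ q ≠ 2 := by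
    by_contra hc
    push Not at hc
    exact h2 (Solv.isPGroup_of_forall_prime_dvd hc)
  have := Fact.mk hq
  obtain ⟨Q, q1, q2⟩ := exists_invariant_sylIn q (le_normalizer_of_normal (K := A)) hc (FTC.solv_or hc)
  have b := q2.trans (Transfer.normalizer_le_normalizer_ZJ (n := q) Q)
  by_cases h5 : G ≤ Nm(centerThompsonOf q Q)
  · have := (q1.isP.to_le (Transfer.ZJ_le (n := q) Q)).isNilpotent
    exact key _ b h5 (Transfer.ZJ_ne_bot (Or.inl rfl) q1.isP fun e => q1.eq_bot_iff.1 e h3) ((Transfer.ZJ_le Q).trans q1.le) inferInstance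
  have := hm _ (inf_lt_left.2 h5) (Comp.le_normalizer_inf le_normalizer_of_normal (le_normalizer_normalizer b))
  have := q1.isP.isNilpotent
  have := hm _ (lt_of_le_of_ne (Opp_le q G) fun e => coprime_iff_not_dvd.1 (coprime_Opp q G) (e.symm ▸ h3))
    (le_normalizer_Opp le_normalizer_of_normal)
  rw [← (hasNPC_iff_sup q1).1 (gt h4 q1 Transfer.hasNPC_of_nilpotent), sup_comm]
  exact Comp.isSolvable_sup (le_normalizer_Opp_of_le q1.le) inferInstance inferInstance

open Cfsg.Agent.Comp Cfsg.Agent.BG in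
theorem two {X : Type u} [Group X] [Finite X] {A G : Subgroup X} (hG : A ≤ Nm(G)) (hc : (Nat.card A).Coprime (Nat.card G))
    (hm : ∀ H, H < G → A ≤ Nm(H) → Group.IsNilpotent H) (hs : Group.IsSolvable G) (hn : ¬ Group.IsNilpotent G) :
    ∃ p q : ℕ, ∃ P Q : Subgroup X, p.Prime ∧ q.Prime ∧ p ≠ q ∧ IsPGroup p P ∧ IsPGroup q Q ∧ G ≤ Nm(Q) ∧ Q ⊔ P = G ∧ A ≤ Nm(P) ∧ A ≤ Nm(Q) := by
  obtain ⟨p, hp, h⟩ := exists_Res_lt (commutator_lt_of_isSolvable hs fun e => hn (e ▸ inferInstance)).ne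
  have := Fact.mk hp
  obtain ⟨P, p1, p2⟩ := exists_invariant_sylIn p hG hc (.inr hs)
  have k0 : A ≤ Nm(Res p G) := le_normalizer_ResPi hG
  have k1 := hm _ h k0
  have k2 : G ≤ Nm(Res p G) := le_normalizer_ResPi le_normalizer
  by_contra e
  refine hn (p1.Res_sup ▸ Solv.isNilpotent_sup k1 p1.isP.isNilpotent (le_of_isNilpotent_of_Op_le k1 fun q hq _ => ?_) (p1.le.trans k2))
  have := Fact.mk hq
  have a := (Op_le q _).trans h.le
  have b : G ≤ Nm(Op q (Res p G)) := le_normalizer_Op k2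
  by_cases c : p = q
  · subst c; exact (p1.le_of_normalizer' (isPGroup_Op _ _) a (p1.le.trans b)).trans le_normalizer
  have d := hm _ (lt_of_le_of_ne (sup_le a p1.le) fun f => e ⟨p, q, P, _, hp, hq, c, p1.isP, isPGroup_Op _ _, b, f, p2,
    le_normalizer_Op k0⟩) (Comp.le_normalizer_sup (le_normalizer_Op k0) p2)
  rw [(p1.of_le le_sup_right (sup_le a p1.le)).eq_of_le (sylIn_Op_of_isNilpotent d)
    (le_Op_of_isNilpotent d le_sup_right p1.isP)]
  exact le_normalizer_Op_of_le le_sup_left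
end

/-- Let a finite group A act by automorphisms on a finite group G of order coprime to that of A. Suppose every maximal A-invariant proper subgroup of G is nilpotent while G is not. Then G is solvable, the order of G has the form p^a·q^b for two distinct primes p and q, and G has a normal A-invariant Sylow subgroup for some prime dividing its order. -/
theorem result {A G : Type*} [Group A] [Group G] [Finite A] [Finite G] [MulDistribMulAction A G]
    (hcop : (Nat.card A).Coprime (Nat.card G))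
    (hmax : ∀ H : Subgroup G, H ≠ ⊤ → (∀ a : A, ∀ x ∈ H, a • x ∈ H) →
      (∀ K : Subgroup G, H < K → (∀ a : A, ∀ x ∈ K, a • x ∈ K) → K = ⊤) → Group.IsNilpotent H)
    (hG : ¬ Group.IsNilpotent G) :
    Group.IsSolvable G ∧
      (∃ p q a b : ℕ, p.Prime ∧ q.Prime ∧ p ≠ q ∧ Nat.card G = p ^ a * q ^ b) ∧
      ∃ (p : ℕ) (P : Sylow p G), p.Prime ∧ p ∣ Nat.card G ∧ (P : Subgroup G).Normal ∧ (∀ a : A, ∀ x ∈ (P : Subgroup G), a • x ∈ (P : Subgroup G)) := by
  open Pointwise commutatorElement Subgroup in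
  open Cfsg.Agent.Comp Cfsg.Agent.BG in
  obtain ⟨X, _, _, i, j, h⟩ := exists_act (MulDistribMulAction.toMulAut A G)
  have hc : (Nat.card j.range).Coprime (Nat.card i.range) := by rwa [h.card_range, h.card_range']
  have hm : ∀ H, H < i.range → j.range ≤ Nm(H) → Group.IsNilpotent H := fun H a b => by
    obtain ⟨K, rfl⟩ := Act.exists_map a.le
    obtain ⟨L, l1, l2, l3⟩ := exists_maximal_subgroup (P := fun L : Subgroup G => L ≠ ⊤ ∧ ∀ a : A, ∀ x ∈ L, a • x ∈ L)
      (A := K) ⟨fun e => a.ne (h.map_eq_range.2 e), h.le_normalizer_iff.1 b⟩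
    exact Solv.isNilpotent_map _ (Comp.isNilpotent_of_le l1
      (hmax L l2.1 l2.2 fun M m1 m2 => by_contra fun e => m1.ne' (l3 M ⟨e, m2⟩ m1.le)))
  have := h.normal
  have hs := solv _ _ _ rfl this h.sup hc hm
  obtain ⟨p, q, P, Q, hp, hq, h1, h2, h3, h4, h5, -, h6⟩ := two le_normalizer_of_normal hc hm hs (mt h.isNilpotent hG)
  have := Fact.mk hp
  have := Fact.mk hq
  obtain ⟨a, ha⟩ := h2.exists_card_eq
  obtain ⟨b, hb⟩ := h3.exists_card_eq
  have e : Nat.card G = p ^ a * q ^ b := by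
    rw [← h.card_range, ← h5, sup_comm, Solv.card_sup_of_disjoint ((le_sup_right.trans h5.le).trans h4)
      (Transfer.inf_eq_bot_of_isPGroup h1 h2 h3), ha, hb]
  refine ⟨h.isSolvable hs, ⟨p, q, a, b, hp, hq, h1, e⟩, ?_⟩
  obtain ⟨R, rfl⟩ := Act.exists_map (le_sup_left.trans h5.le)
  rw [h.card_map] at hb
  have r : R.index = p ^ a := by
    have := R.index_mul_card
    rw [e, hb] at this
    exact mul_right_cancel₀ (pow_pos hq.pos b).ne' this
  refine ⟨q, (IsPGroup.of_card hb).toSylow (r ▸ fun d => h1 ((Nat.prime_dvd_prime_iff_eq hq hp).1 (hq.dvd_of_dvd_pow d)).symm), hq,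
    (dvd_card_of_isPGroup (IsPGroup.of_card hb) fun f => hG (h.isNilpotent ?_)).trans (card_subgroup_dvd_card R),
    ⟨fun x hx g => (mem_map_iff_mem h.inj).1 ?_⟩, h.le_normalizer_iff.1 h6⟩
  · rw [← h5, f, Subgroup.map_bot, bot_sup_eq]; exact h2.isNilpotent
  · rw [map_mul, map_mul, map_inv]; exact conj_mem_of_le_normalizer h4 ⟨g, rfl⟩ (mem_map_of_mem _ hx)

end Cfsg.Agent.S4240
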