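import Cfsg.Statements.S3946
import Cfsg.Agent.S4240
import Cfsg.Agent.Lib.Transfer.Hol

set_option autoImplicit false
universe u
open Cfsg

namespace Cfsg.Agent.S3946
section
open Pointwise commutatorElement Subgroup
open Cfsg.Agent.Comp Cfsg.Agent.BG in
theorem key {X : Type*} [Group X] [Finite X] {p : ℕ} (hp : p.Prime) {V R : Subgroup X} {y : X} (hV : IsMulCommutative V)
    (h1 : R ≤ Nm(V)) (h2 : y ∈ Nm(V)) (h3 : y ∈ Nm(R)) (h : ∀ v ∈ V, ∀ r ∈ R, (v * (r * y)) ^ p = 1)
    (hc : (Nat.card R).Coprime (Nat.card V)) : V ≤ Ct(R) := by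
  classical
  let _ : CommGroup V := { (inferInstance : Group V) with mul_comm := hV.1.1 }
  have := Fintype.ofFinite R
  let φ := V.normalizerMonoidHom
  have a : ∀ (g : Nm(V)) (v : V) (n : ℕ), ((∏ i ∈ Finset.range n, φ (g ^ i) v : V) : X) * (g : X) ^ n = (v * g : X) ^ n :=
    fun g v n => by
      induction n with
      | zero => simp
      | succ n ih =>
        rw [Finset.prod_range_succ, pow_succ, pow_succ, ← ih, coe_mul,
          show (φ (g ^ n) v : X) = (g : X) ^ n * v * ((g : X) ^ n)⁻¹ from rfl]; group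
  have h0 : ∀ r ∈ R, (r * y) ^ p = 1 := fun r hr => by simpa using h 1 (one_mem _) r hr
  have b : ∀ (r : R) (n : ℕ), ((r : X) * y) ^ n * (y ^ n)⁻¹ ∈ R := fun r n => by
    induction n with
    | zero => simp
    | succ n ih =>
      have := mul_mem ih (conj_mem_of_mem_normalizer (pow_mem h3 n) r.2)
      convert this using 1; rw [pow_succ, pow_succ]; group
  intro v hv s hs
  let L : Subgroup V := (Ct(R)).subgroupOf V
  have c : ∀ i ∈ Finset.range (p - 1), (∏ r : R, φ ((⟨r * y, mul_mem (h1 r.2) h2⟩ : Nm(V)) ^ (i + 1)) ⟨v, hv⟩) ∈ L := fun i hi => by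
    have c1 : (i + 1).Coprime p := (Nat.coprime_of_lt_prime i.succ_ne_zero (by have := Finset.mem_range.1 hi; omega) hp).symm
    have c2 : Function.Bijective fun r : R => (⟨_, b r (i + 1)⟩ : R) := Finite.injective_iff_bijective.1 fun r t e => by
      obtain ⟨m, hm⟩ := Nat.exists_mul_mod_eq_one_of_coprime c1 hp.one_lt
      have e' := congrArg (· ^ m) (mul_right_cancel (congrArg Subtype.val e))
      simp only [← pow_mul] at e'
      rw [pow_eq_pow_mod _ (h0 r r.2), pow_eq_pow_mod _ (h0 t t.2), hm.2, pow_one, pow_one] at e'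
      exact Subtype.ext (mul_right_cancel e')
    rw [Fintype.prod_bijective _ c2 _ (fun r => φ ⟨r, h1 r.2⟩ (φ (⟨y, h2⟩ ^ (i + 1)) ⟨v, hv⟩)) fun r => by
      rw [← MulAut.mul_apply, ← map_mul]; congr 2; ext; simp]
    intro t ht
    have c3 := Solv.trace_fixed (φ.comp (inclusion h1)) ⊤ (φ (⟨y, h2⟩ ^ (i + 1)) ⟨v, hv⟩) (mem_top (⟨t, ht⟩ : R))
    rw [Finset.filter_true_of_mem fun _ _ => mem_top _] at c3
    exact mul_inv_eq_iff_eq_mul.1 (congrArg Subtype.val c3)
  have d : (∏ r : R, ∏ i ∈ Finset.range p, φ ((⟨r * y, mul_mem (h1 r.2) h2⟩ : Nm(V)) ^ i) ⟨v, hv⟩) = 1 :=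
    Finset.prod_eq_one fun r _ => Subtype.ext (by
      have := a ⟨r * y, mul_mem (h1 r.2) h2⟩ ⟨v, hv⟩ p
      rwa [h0 r r.2, h v hv r r.2, mul_one] at this)
  rw [Finset.prod_comm, ← Nat.sub_add_cancel hp.one_le, Finset.prod_range_succ', mul_eq_one_iff_inv_eq] at d
  simp only [pow_zero, map_one, MulAut.one_apply, Finset.prod_const, Finset.card_univ, ← Nat.card_eq_fintype_card] at d
  exact Solv.mem_of_pow_mem_of_coprime (L := L) (d ▸ inv_mem (prod_mem c)) hc s hs

open Cfsg.Agent.Comp Cfsg.Agent.BG in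
theorem frat {X : Type*} [Group X] [Finite X] {q : ℕ} [Fact q.Prime] {Q H : Subgroup X} {x : X} (h : SylIn q Q H) (hx : x ∈ Nm(H)) :
    ∃ l ∈ H, l * x ∈ Nm(Q) := by
  obtain ⟨l, l1, l2⟩ := (h.cj_of_mem hx).exists_cj_eq h
  exact ⟨l, l1, cj_eq_self_iff.1 (cj_mul l x Q ▸ l2)⟩

open Cfsg.Agent.Comp Cfsg.Agent.BG in
theorem kegel {p : ℕ} (hp : p.Prime) (n : ℕ) : ∀ {X : Type u} [Group X] [Finite X] (H : Subgroup X) (x : X), Nat.card H = n →
    x ∈ Nm(H) → (∀ h ∈ H, (h * x) ^ p = 1) → Group.IsNilpotent H := by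
  induction n using Nat.strong_induction_on with | h n ih => ?_
  intro X _ _ H x hn hx h
  subst hn
  have sub : ∀ L, L < H → ∀ l ∈ H, l * x ∈ Nm(L) → Group.IsNilpotent L := fun L a l b c =>
    ih _ (Comp.card_lt_of_lt a) L (l * x) rfl c fun k hk => mul_assoc k l x ▸ h _ (mul_mem (a.le hk) b)
  by_cases h0 : H = ⊥
  · rw [h0]; infer_instance
  have hs : Group.IsSolvable H ∨ ∃ N, N ≤ H ∧ N ≠ ⊥ ∧ H ⊔ zpowers x ≤ Nm(N) ∧ N ≤ Ct(N) := by
    by_cases h2 : IsPGroup 2 H
    · have := h2.isNilpotent; exact .inl inferInstance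
    obtain ⟨q, hq, h3, h4⟩ : ∃ q : ℕ, q.Prime ∧ q ∣ Nat.card H ∧ q ≠ 2 := by
      by_contra hc
      push Not at hc
      exact h2 (Solv.isPGroup_of_forall_prime_dvd hc)
    have := Fact.mk hq
    obtain ⟨Q, q1⟩ := exists_sylIn q H
    obtain ⟨l, l1, l2⟩ := frat q1 hx
    have b := Transfer.normalizer_le_normalizer_ZJ (n := q) Q l2
    by_cases h5 : H ≤ Nm(centerThompsonOf q Q)
    · exact .inr ⟨_, (Transfer.ZJ_le Q).trans q1.le, Transfer.ZJ_ne_bot (Or.inl rfl) q1.isP fun e => q1.eq_bot_iff.1 e h3,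
        sup_le h5 (zpowers_le.2 ((mul_mem_cancel_left (h5 l1)).1 b)), comm_iff_le.1 (Transfer.comm_ZJ Q)⟩
    have := sub _ (inf_lt_left.2 h5) l l1 (zpowers_le.1 (Comp.le_normalizer_inf (zpowers_le.2 (mul_mem (le_normalizer l1) hx))
      (le_normalizer_normalizer (zpowers_le.2 b))))
    have := q1.isP.isNilpotent
    have := sub _ (lt_of_le_of_ne (Opp_le q H) fun e => coprime_iff_not_dvd.1 (coprime_Opp q H) (e.symm ▸ h3)) 1 (one_mem _)
      (le_normalizer_Opp le_rfl (by rwa [one_mul]))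
    rw [← (hasNPC_iff_sup q1).1 (S4240.gt h4 q1 Transfer.hasNPC_of_nilpotent), sup_comm]
    exact .inl (Comp.isSolvable_sup (le_normalizer_Opp_of_le q1.le) inferInstance inferInstance)
  obtain ⟨N, n1, n2, n3, n4⟩ := hs.elim (fun e => exists_abelian_normal e h0 (sup_le le_normalizer (zpowers_le.2 hx))) id
  obtain ⟨r, hr, hd⟩ := Solv.exists_prime_dvd_card n2
  have := Fact.mk hr
  have v0 := sylIn_Op_of_isNilpotent (p := r) (isNilpotent_of_le_centralizer n4)
  have v1 : H ⊔ zpowers x ≤ Nm(Op r N) := le_normalizer_Op n3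
  have v2 : Op r N ≠ ⊥ := fun e => v0.eq_bot_iff.1 e hd
  have v3 : IsMulCommutative (Op r N) := comm_iff_le.2 ((v0.le.trans n4).trans (Comp.centralizer_mono v0.le))
  have v4 := v0.le.trans n1
  have v5 := v0.isP
  generalize Op r N = V at v1 v2 v3 v4 v5
  have x1 : x ∈ H ⊔ zpowers x := mem_sup_right (mem_zpowers x)
  have hq' := ih _ (by
      rw [← card_img_mul (h := v1) le_sup_left, inf_eq_right.2 v4]
      exact lt_mul_of_one_lt_right Nat.card_pos (one_lt_card_iff_ne_bot _ |>.2 v2)) (img v1 H) (qmap v1 ⟨x, x1⟩) rfl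
    (img_le_normalizer le_rfl (qmap_mem_img hx)) fun k hk => by
      obtain ⟨k, k1, rfl⟩ := mem_img.1 hk
      rw [← map_mul, ← map_pow, show (k * ⟨x, x1⟩) ^ p = 1 from Subtype.ext (h k k1), map_one]
  refine isNilpotent_of_forall_sylIn fun q hq _ => ?_
  have := Fact.mk hq
  obtain ⟨R, r1⟩ := exists_sylIn q H
  obtain ⟨l, l1, l2⟩ := frat r1 hx
  have r2 : H ≤ Nm(R ⊔ V) := le_normalizer_of_img (h := v1) le_sup_left ((sup_le r1.le v4).trans le_sup_left) le_sup_right (by
    have a := r1.img (h := v1) le_sup_left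
    rw [img_sup_ker (r1.le.trans le_sup_left) (v4.trans le_sup_left),
      a.eq_of_le (sylIn_Op_of_isNilpotent hq') (le_Op_of_isNilpotent hq' a.le a.isP)]
    exact le_normalizer_Op_of_le le_rfl)
  refine ⟨R, r1, r2.trans ((r1.of_le le_sup_left (sup_le r1.le v4)).normalizer_le (sup_le le_normalizer ?_))⟩
  have r3 := (r1.le.trans le_sup_left).trans v1
  by_cases e : q = r
  · subst e; exact (r1.le_of_normalizer' v5 v4 r3).trans le_normalizer
  exact (key hp v3 r3 (v1 (mul_mem (mem_sup_left l1) x1)) l2 (fun v hv s hs => by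
    rw [← mul_assoc, ← mul_assoc]; exact h _ (mul_mem (mul_mem (v4 hv) (r1.le hs)) l1))
    (Solv.coprime_card_of_isPGroup_ne e r1.isP v5)).trans (centralizer_le_normalizer _)
end

/-- Call an automorphism α of order n of a group G splitting when x · α(x) · α²(x) ⋯ α^(n−1)(x) = 1 for every x ∈ G. A finite group admitting a splitting automorphism of prime order is nilpotent (this contains the case of a fixed-point-free automorphism of prime order). -/
theorem result {G : Type*} [Group G] [Finite G] (α : MulAut G) (hp : (orderOf α).Prime)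
    (hsplit : ∀ x : G, (((List.range (orderOf α)).map (fun i : ℕ => (α ^ i) x)).prod = 1)) : Group.IsNilpotent G := by
  open Pointwise commutatorElement Subgroup in
  open Cfsg.Agent.Comp Cfsg.Agent.BG in
  obtain ⟨X, _, _, i, j, h⟩ := exists_act (MonoidHom.id (MulAut G))
  have := h.normal
  refine h.isNilpotent (kegel hp _ i.range (j α) rfl (le_normalizer_of_normal (mem_top _)) ?_)
  rintro _ ⟨g, rfl⟩
  have a : ∀ n : ℕ, (i g * j α) ^ n = i ((List.range n).map fun k : ℕ => (α ^ k) g).prod * j (α ^ n) := fun n => by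
    induction n with
    | zero => simp
    | succ n ih =>
      have := h.conj (α ^ n) g
      rw [List.range_succ, List.map_append, List.prod_append, pow_succ, ih, map_mul, List.map_singleton, List.prod_singleton,
        ← MonoidHom.id_apply _ (α ^ n), ← this, pow_succ, map_mul, MonoidHom.id_apply]
      group
  rw [a, hsplit, pow_orderOf_eq_one, map_one, map_one, one_mul]

end Cfsg.Agent.S3946
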