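import Cfsg.Statements.S3979
import Mathlib.GroupTheory.SpecificGroups.Cyclic

set_option autoImplicit false
open Cfsg

namespace Cfsg.Agent.S3979

/-- A finite cyclic group has trivial Schur multiplier: every finite stem extension of it is an isomorphism, said through `HasCyclicSchurMultiplier G 1`. -/
theorem result {G : Type*} [Group G] [Finite G] [IsCyclic G] : Cfsg.HasCyclicSchurMultiplier G 1 := by
  open Pointwise commutatorElement Subgroup in
  haveI : Subsingleton (Multiplicative (ZMod 1)) := inferInstanceAs (Subsingleton (ZMod 1))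
  refine ⟨⟨G, inferInstance, inferInstance, MonoidHom.id G, ⟨Function.surjective_id, ?_, ?_⟩, ?_⟩, ?_⟩
  · rw [MonoidHom.ker_id]; exact bot_le
  · rw [MonoidHom.ker_id]; exact bot_le
  · rw [MonoidHom.ker_id]; exact ⟨MulEquiv.ofUnique⟩
  · intro Γ _ _ σ hσ
    have h1 := commutative_of_cyclic_center_quotient σ hσ.2.1
    have h2 : σ.ker = ⊥ := by
      refine le_bot_iff.1 (hσ.2.2.trans ?_)
      rw [_root_.commutator_def, commutator_le]
      intro a _ b _
      rw [mem_bot, commutatorElement_eq_one_iff_mul_comm, h1]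
    refine ⟨1, fun x => ⟨1, Subtype.ext ?_⟩⟩
    exact (mem_bot.1 (h2.le x.2)).symm

end Cfsg.Agent.S3979
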