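import Cfsg.Statements.S3950
import Cfsg.Agent.Lib.Schur.Meta
import Cfsg.Agent.S3979

set_option autoImplicit false
open Cfsg

namespace Cfsg.Agent.S3950

/-- A finite abelian group has trivial Schur multiplier if and only if it is cyclic. -/
theorem result {G : Type*} [CommGroup G] [Finite G] : Cfsg.HasCyclicSchurMultiplier G 1 ↔ IsCyclic G := by
  open Pointwise commutatorElement Subgroup in
  open Cfsg.Agent.Schur in
  classical
  refine ⟨fun h => ?_, fun h => S3979.result⟩
  obtain ⟨ι, _, n, hn, ⟨e⟩⟩ := CommGroup.equiv_prod_multiplicative_zmod_of_finite G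
  by_cases hc : Pairwise (Function.onFun Nat.Coprime n)
  · have e2 : Multiplicative (ZMod (∏ i, n i)) ≃* ((i : ι) → Multiplicative (ZMod (n i))) :=
      (AddEquiv.toMultiplicative (ZMod.prodEquivPi n hc).toAddEquiv).trans (MulEquiv.piMultiplicative _)
    exact isCyclic_of_surjective (e2.trans e.symm) (e2.trans e.symm).surjective
  exfalso
  simp only [Pairwise, Function.onFun, not_forall] at hc
  obtain ⟨i, j, hij, hc⟩ := hc
  obtain ⟨p, hp, h1, h2⟩ := Nat.Prime.not_coprime_iff_dvd.1 hc
  haveI : Fact p.Prime := ⟨hp⟩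
  let f : ZMod (n i) →+* ZMod p := ZMod.castHom h1 (ZMod p)
  let g : ZMod (n j) →+* ZMod p := ZMod.castHom h2 (ZMod p)
  let β : G →* G →* Multiplicative (ZMod p) :=
    MonoidHom.mk' (fun x => MonoidHom.mk' (fun y => Multiplicative.ofAdd (f (e x i).toAdd * g (e y j).toAdd))
      (fun y z => by simp [mul_add, ofAdd_add])) (fun x y => by ext z; simp [add_mul, ofAdd_add])
  have h5 := BExt.inl_mem (c := β) (mul_comm (e.symm (Pi.mulSingle i (Multiplicative.ofAdd 1)))
    (e.symm (Pi.mulSingle j (Multiplicative.ofAdd 1))))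
  have h6 := mem_bot.1 ((MM_eq_bot (hasSchur_one_iff.1 h) BExt.proj_CE).le ⟨rfl, h5⟩)
  have h7 := congrArg BExt.a h6
  simp [β, Pi.mulSingle_eq_of_ne hij] at h7

end Cfsg.Agent.S3950
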