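import Cfsg.Statements.S3951
import Cfsg.Agent.Lib.Schur.Meta

set_option autoImplicit false
open Cfsg

namespace Cfsg.Agent.S3951

/-- For positive integers `m` and `n` with `n` dividing `m`, the Schur multiplier of the abelian group `ZMod m × ZMod n` (written multiplicatively) is cyclic of order `n`. In particular the elementary abelian group of order `p ^ 2` has multiplier of order `p`. -/
theorem result (m n : ℕ) [NeZero m] [NeZero n] (hnm : n ∣ m) : Cfsg.HasCyclicSchurMultiplier (Multiplicative (ZMod m × ZMod n)) n := by
  open Pointwise commutatorElement Subgroup in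
  open Cfsg.Agent.Schur in
  let a : Multiplicative (ZMod m × ZMod n) := Multiplicative.ofAdd (1, 0)
  let b : Multiplicative (ZMod m × ZMod n) := Multiplicative.ofAdd (0, 1)
  have hgen : Subgroup.closure {b, a} = ⊤ := by
    rw [eq_top_iff]
    rintro x -
    have : x = a ^ x.toAdd.1.val * b ^ x.toAdd.2.val := by
      apply Multiplicative.toAdd.injective
      simp [a, b]
    rw [this]
    exact mul_mem (pow_mem (Subgroup.subset_closure (by simp)) _) (pow_mem (Subgroup.subset_closure (by simp)) _)
  obtain ⟨c, h1, h2, h3, -⟩ := meta_upper (uπ_CE _) hgen (r := 1) (by simp [mul_comm a b])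
  have h4 : c ^ n = 1 := by
    exact_mod_cast h3 n 0 (by apply Multiplicative.toAdd.injective; simp [b])
  let f : ZMod m →+* ZMod n := ZMod.castHom hnm (ZMod n)
  let β : Multiplicative (ZMod m × ZMod n) →* Multiplicative (ZMod m × ZMod n) →* Multiplicative (ZMod n) :=
    MonoidHom.mk' (fun x => MonoidHom.mk' (fun y => Multiplicative.ofAdd (f x.toAdd.1 * y.toAdd.2))
      (fun y z => by simp [mul_add, ofAdd_add])) (fun x y => by ext z; simp [add_mul, ofAdd_add])
  have h5 := BExt.inl_mem (c := β) (mul_comm a b)
  refine hasCyclic_of (NeZero.ne n) (inf_le_right.trans h1.le) h4 BExt.proj_CE ⟨rfl, h5⟩ ?_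
  rw [orderOf_injective _ BExt.inl_inj]
  simp [β, a, b]

end Cfsg.Agent.S3951
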