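import Cfsg.Statements.S3952
import Cfsg.Agent.Lib.Schur.Two

set_option autoImplicit false
open Cfsg

namespace Cfsg.Agent.S3952

/-- If `A` is the Schur multiplier of the finite group `Q`, then the square of the exponent of `A` divides the order of `Q`. -/
theorem result {Q : Type*} [Group Q] [Finite Q] {A : Type*} [CommGroup A] (hA : Cfsg.HasSchurMultiplier Q A) : Monoid.exponent A ^ 2 ∣ Nat.card Q := by
  open Pointwise commutatorElement Subgroup in
  open Cfsg.Agent.Schur in
  classical
  obtain ⟨⟨Γ, _, _, σ, hσ, ⟨e⟩⟩, -⟩ := hA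
  rw [← Monoid.exponent_eq_of_mulEquiv e]
  letI : CommGroup σ.ker := { (inferInstance : Group _) with
    mul_comm := fun a b => Subtype.ext (cent_comm hσ.2.1 b.2 _) }
  haveI : NeZero ((Monoid.exponent σ.ker : ℕ) : ℂ) := ⟨by exact_mod_cast Monoid.exponent_ne_zero_of_finite⟩
  haveI := Fintype.ofFinite σ.ker
  obtain ⟨e1⟩ := CommGroup.monoidHom_mulEquiv_of_hasEnoughRootsOfUnity σ.ker ℂ
  obtain ⟨a0, ha0⟩ := Monoid.exists_orderOf_eq_exponent (G := σ.ker) Monoid.ExponentExists.of_finite
  set lam := e1.symm a0 with hlam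
  have ho : orderOf lam = Monoid.exponent σ.ker := by rw [hlam, MulEquiv.orderOf_eq, ha0]
  have key : ∀ χ : IrrCharacter Γ, ∃ k : ℕ, ∑ a : σ.ker, χ.1 1 * χ.1 a * (lam a : ℂ)⁻¹ =
      Nat.card σ.ker * ((Monoid.exponent σ.ker ^ 2 * k : ℕ) : ℂ) := by
    rintro ⟨χ, hc⟩
    have hc' := hc
    obtain ⟨n, ρ, hρ, rfl⟩ := hc'
    have h1 : ρ.character 1 = n := by simp
    obtain ⟨mu, hmu⟩ := hc.isCharacter.exists_units_of_le_charCenter hc.apply_one_ne_zero
      (hσ.2.1.trans hc.center_le_charCenter)
    have h2 : ∀ a : σ.ker, ρ.character a = mu a * n := fun a => by rw [← h1, ← hmu, mul_one]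
    by_cases hm : mu = lam
    · have h3 : lam ^ n = 1 := by
        ext a
        have h4 := Char.rep_eq_smul_of_character_eq (ρ.comp σ.ker.subtype)
          ((Units.coeHom ℂ).comp mu) (fun g => by
            simp only [Module.finrank_fin_fun, mul_comm (n : ℂ)]; exact h2 g) a
        have h5 := Abelianization.commutator_subset_ker (LinearMap.det.comp ρ).toHomUnits (hσ.2.2 a.2)
        have h6 : LinearMap.det (ρ a) = 1 := congrArg Units.val h5
        change ρ a = _ at h4
        rw [h4, LinearMap.det_smul, LinearMap.det_id, Module.finrank_fin_fun, hm] at h6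
        simpa using h6
      obtain ⟨k, rfl⟩ := ho ▸ orderOf_dvd_of_pow_eq_one h3
      refine ⟨k ^ 2, ?_⟩
      simp only [h1, h2, hm]
      rw [Finset.sum_congr rfl (g := fun _ => ((Monoid.exponent σ.ker * k : ℕ) : ℂ) ^ 2) (fun a _ => by
        field_simp)]
      rw [Finset.sum_const, Finset.card_univ, Nat.card_eq_fintype_card]; push_cast; ring
    · refine ⟨0, ?_⟩
      have h3 := sum_hom_units_eq_zero ((Units.coeHom ℂ).comp (mu * lam⁻¹)) (fun h => hm (by
        ext a
        have := DFunLike.congr_fun h a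
        simp only [MonoidHom.comp_apply, MonoidHom.mul_apply, MonoidHom.inv_apply, Units.coeHom_apply,
          MonoidHom.one_apply, Units.val_eq_one, mul_inv_eq_one] at this
        rw [this]))
      simp only [h1, h2]
      rw [Finset.sum_congr rfl (g := fun a => (n : ℂ) ^ 2 * ((Units.coeHom ℂ).comp (mu * lam⁻¹)) a)
        (fun a _ => by simp; ring), ← Finset.mul_sum, h3]
      simp
  choose k hk using key
  have h1 : ∑ χ : IrrCharacter Γ, ∑ a : σ.ker, χ.1 1 * χ.1 a * (lam a : ℂ)⁻¹ = Nat.card Γ := by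
    rw [Finset.sum_comm]
    simp only [← Finset.sum_mul, Char.sum_degree_mul]
    rw [Finset.sum_eq_single 1 (fun a _ ha => by
      rw [Char.regChar_of_ne (fun h => ha (Subtype.ext h)), zero_mul]) (by simp)]
    simp [Char.regChar_one]
  simp only [hk, ← Finset.mul_sum] at h1
  rw [← σ.ker.card_mul_index, index_ker, MonoidHom.range_eq_top.2 hσ.1, card_top, Nat.cast_mul,
    ← Nat.cast_sum, ← Finset.mul_sum] at h1
  have h2 := mul_left_cancel₀ (by exact_mod_cast Nat.card_pos.ne') h1
  exact ⟨_, by exact_mod_cast h2.symm⟩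

end Cfsg.Agent.S3952
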