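import Cfsg.Statements.S3953
import Cfsg.Agent.Lib.Schur.Two

set_option autoImplicit false
open Cfsg

namespace Cfsg.Agent.S3953
section
open Pointwise commutatorElement Subgroup
open Cfsg.Agent.Schur

theorem alg {A B : Type*} [CommGroup A] [CommGroup B] [Finite A] (p : ℕ) [Fact p.Prime] (f : A →* B)
    (g : B →* A) {m : ℕ} (hm : ¬ p ∣ m) (h : ∀ a, g (f a) = a ^ m) :
    ∃ C D : Subgroup B, C ⊓ D = ⊥ ∧ C ⊔ D = ⊤ ∧ Nonempty (CommGroup.primaryComponent A p ≃* C) := by
  have hp : p.Prime := Fact.out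
  obtain ⟨e, k, hk, hek⟩ := Nat.exists_eq_pow_mul_and_not_dvd (Nat.card_pos (α := A)).ne' p hp.ne_one
  let S := CommGroup.primaryComponent A p
  have h1 : ∀ a ∈ S, a ^ (m * k) = 1 → a = 1 := by
    rintro a ⟨n, hn⟩ ha
    rw [← orderOf_eq_one_iff]
    refine Nat.Coprime.eq_one_of_dvd ?_ (orderOf_dvd_of_pow_eq_one ha)
    have : Nat.Coprime (p ^ n) (m * k) :=
      Nat.Coprime.pow_left _ ((Nat.Prime.coprime_iff_not_dvd hp).2 (hp.not_dvd_mul hm hk))
    exact this.coprime_dvd_left (orderOf_dvd_of_pow_eq_one hn)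
  have h2 : ∀ a : A, a ^ k ∈ S := fun a => ⟨e, by rw [← pow_mul, mul_comm, ← hek, pow_card_eq_one']⟩
  have h3 : Function.Surjective (powMonoidHom (m * k) : S →* S) :=
    Finite.injective_iff_surjective.1 ((injective_iff_map_eq_one _).2 fun a ha =>
      Subtype.ext (h1 a a.2 (congrArg Subtype.val ha)))
  refine ⟨(f.comp S.subtype).range, ((powMonoidHom k).comp g).ker, eq_bot_iff.2 ?_, eq_top_iff.2 fun b _ => ?_,
    ⟨MonoidHom.ofInjective ((injective_iff_map_eq_one _).2 fun a ha => Subtype.ext (h1 a a.2 ?_))⟩⟩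
  · rintro _ ⟨⟨a, rfl⟩, ha⟩
    have : (a : A) = 1 := h1 a a.2 (by simpa [h, pow_mul] using ha)
    simp [this]
  · obtain ⟨a, ha⟩ := h3 ⟨_, h2 (g b)⟩
    have ha' : (a : A) ^ (m * k) = g b ^ k := congrArg Subtype.val ha
    refine mem_sup.2 ⟨f a, ⟨a, rfl⟩, (f a)⁻¹ * b, ?_, by simp⟩
    simp [MonoidHom.mem_ker, h, mul_pow, ← pow_mul, ha']
  · rw [pow_mul, ← h, show f a = 1 from ha]; simp

theorem res {G : Type*} [Group G] [Finite G] (U : Subgroup G) :
    ∃ (f : SM G →* SM U) (g : SM U →* SM G), ∀ a, g (f a) = a ^ U.index := by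
  let π := fπ G
  let H := U.comap π
  have hi : H.index = U.index := index_comap_of_surjective _ (fπ_surj G)
  haveI : H.FiniteIndex := ⟨by rw [hi]; exact FiniteIndex.index_ne_zero⟩
  letI := H.fintypeQuotientOfFiniteIndex
  let πU := resCE π U
  have hs : Function.Surjective πU := fun q => by
    obtain ⟨e, he⟩ := fπ_surj G q
    exact ⟨⟨e, show π e ∈ U from he ▸ q.2⟩, Subtype.ext he⟩
  obtain ⟨η, hη⟩ := u_lift (cπ_CE hs)
  let eU := MulEquiv.ofBijective _ (mul_equiv_free hs hη)
  letI : CommGroup (cπ πU).ker := { (inferInstance : Group _) with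
    mul_comm := fun a b => Subtype.ext (cent_comm (cπ_CE hs).cent b.2 _) }
  letI : CommGroup (uπ G).ker := { (inferInstance : Group _) with
    mul_comm := fun a b => Subtype.ext (cent_comm (uπ_CE G).cent b.2 _) }
  have hRH : π.ker ≤ H := fun x hx => by rw [mem_comap, show π x = 1 from hx]; exact one_mem _
  let κ : π.ker →* (cπ πU).ker := ((QuotientGroup.mk' _).comp (inclusion hRH)).codRestrict _
    (fun x => Subtype.ext x.2)
  let ρ : π.ker →* (uπ G).ker := ((QuotientGroup.mk' _).comp π.ker.subtype).codRestrict _ (fun x => x.2)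
  have hρ : Function.Surjective ρ := fun z => by
    obtain ⟨x, hx⟩ := QuotientGroup.mk_surjective z.1
    exact ⟨⟨x, by have := z.2; rw [← hx] at this; exact this⟩, Subtype.ext hx⟩
  let cj : FreeGroup G → π.ker →* π.ker := fun x => (MulAut.conjNormal x⁻¹).toMonoidHom
  have hcj : ∀ x r, (cj x r : FreeGroup G) = x⁻¹ * r * x := fun x r => by simp [cj]
  have k1 : ∀ (x y : FreeGroup G) r, (x : FreeGroup G ⧸ H) = y → κ (cj x r) = κ (cj y r) := by
    intro x y r hxy
    have h1 := QuotientGroup.eq.1 hxy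
    apply Subtype.ext
    have := cent_comm (cπ_CE hs).cent (κ (cj x r)).2 (QuotientGroup.mk' _ ⟨_, h1⟩)
    rw [eq_comm, ← mul_left_inj (QuotientGroup.mk' _ ⟨_, h1⟩)⁻¹, ← mul_right_inj (QuotientGroup.mk' _ ⟨_, h1⟩),
      ← mul_assoc, ← mul_assoc, this, mul_inv_cancel_right]
    change QuotientGroup.mk' _ _ * QuotientGroup.mk' _ _ * _ = QuotientGroup.mk' _ _
    rw [← map_inv, ← map_mul, ← map_mul]
    congr 1
    apply Subtype.ext
    simp only [coe_mul, coe_inv, coe_inclusion, hcj]; group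
  let T0 : π.ker →* (cπ πU).ker := ∏ q : FreeGroup G ⧸ H, κ.comp (cj q.out)
  have hT0 : ∀ r, T0 r = ∏ q : FreeGroup G ⧸ H, κ (cj q.out r) := fun r => by
    simp only [T0, MonoidHom.finset_prod_apply, MonoidHom.comp_apply]
  have k2 : ∀ x r, T0 (cj x r) = T0 r := fun x r => by
    rw [hT0, hT0]
    refine Fintype.prod_equiv (MulAction.toPerm x) _ _ fun q => ?_
    rw [← k1 (x * q.out) _ r (by simp [← smul_eq_mul, MulAction.Quotient.coe_smul_out])]
    congr 1
    apply Subtype.ext
    simp only [hcj]; group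
  have k3 : ρ.ker ≤ T0.ker := by
    intro r hr
    have h1 : (r : FreeGroup G) ∈ ⁅π.ker, (⊤ : Subgroup _)⁆ :=
      (QuotientGroup.eq_one_iff _).1 (congrArg Subtype.val hr)
    have h2 : ⁅π.ker, (⊤ : Subgroup _)⁆ ≤ T0.ker.map π.ker.subtype := by
      rw [commutator_le]
      intro a ha b _
      refine ⟨⟨a, ha⟩ * cj b⁻¹ ⟨a, ha⟩⁻¹, ?_, by simp [hcj, commutatorElement_def, mul_assoc]⟩
      show T0 _ = 1
      rw [map_mul, k2, map_inv, mul_inv_cancel]
    obtain ⟨y, hy, h3⟩ := h2 h1
    rwa [← show y = r from Subtype.ext h3]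
  let T1 := ρ.liftOfSurjective hρ ⟨T0, k3⟩
  have hT1 : ∀ r, T1 (ρ r) = T0 r := fun r => by simp [T1]
  have k4 : ∀ z : SM G, (T1 ⟨z, z.2.1⟩ : cq πU) ∈ _root_.commutator (cq πU) := by
    intro z
    obtain ⟨r, hr⟩ := hρ ⟨z, z.2.1⟩
    rw [← hr, hT1]
    have h1 : (r : FreeGroup G) ∈ _root_.commutator (FreeGroup G) := by
      rw [← Abelianization.ker_of]
      have := (uab_ker G).ge z.2.2
      rw [← show (ρ r : UU G) = z from congrArg Subtype.val hr] at this
      exact this
    let φ : H →* Abelianization (cq πU) := Abelianization.of.comp (QuotientGroup.mk' _)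
    have h2 := Abelianization.commutator_subset_ker (MonoidHom.transfer φ) h1
    rw [MonoidHom.mem_ker, MonoidHom.transfer_def φ default] at h2
    rw [← Abelianization.ker_of, MonoidHom.mem_ker, ← h2, hT0]
    have h3 := map_prod (Abelianization.of.comp (cπ πU).ker.subtype) (fun q : FreeGroup G ⧸ H => κ (cj q.out r))
      Finset.univ
    refine h3.trans (Finset.prod_congr rfl fun q _ => ?_)
    rw [k1 q.out ((default : H.LeftTransversal).2.leftQuotientEquiv q) r (by
      rw [QuotientGroup.out_eq']; exact ((default : H.LeftTransversal).2.leftQuotientEquiv.symm_apply_apply q).symm)]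
    change φ _ = φ _
    congr 1
    apply Subtype.ext
    simp only [coe_inclusion, hcj, smul_apply_eq_smul_apply_inv_smul, smul_eq_mul, mul_assoc]
    congr 4
    induction q using QuotientGroup.induction_on with | _ x => ?_
    rw [MulAction.Quotient.smul_mk, QuotientGroup.eq]
    apply hRH
    simpa [mul_assoc] using (MonoidHom.normal_ker π).conj_mem _ (inv_mem r.2) x⁻¹
  let j : cq πU →* UU G := QuotientGroup.map _ _ H.subtype (by
    rw [← map_le_iff_le_comap, Subgroup.map_commutator]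
    refine commutator_mono ?_ le_top
    rintro _ ⟨x, hx, rfl⟩; exact congrArg Subtype.val hx)
  have hj : ∀ e, uπ G (j e) = cπ πU e := fun e => by
    obtain ⟨x, rfl⟩ := QuotientGroup.mk_surjective e; rfl
  let j' : (cπ πU).ker →* (uπ G).ker := (j.comp (cπ πU).ker.subtype).codRestrict _ (fun x => by
    rw [MonoidHom.mem_ker, MonoidHom.comp_apply, hj, show cπ πU ((cπ πU).ker.subtype x) = 1 from x.2]; rfl)
  have k5 : ∀ z, j' (T1 z) = z ^ U.index := fun z => by
    obtain ⟨r, rfl⟩ := hρ z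
    rw [hT1, hT0, map_prod, Finset.prod_congr rfl (g := fun _ => ρ r) (fun q _ => Subtype.ext (by
      show QuotientGroup.mk' _ (cj q.out r : FreeGroup G) = (ρ r : UU G)
      rw [hcj, map_mul, map_mul, map_inv, mul_assoc]
      change _ * ((ρ r : UU G) * _) = _
      rw [← cent_comm (uπ_CE G).cent (ρ r).2, inv_mul_cancel_left])), Finset.prod_const, ← hi,
      Finset.card_univ, index_eq_card, Nat.card_eq_fintype_card]
  let f : SM G →* MM (cπ πU) := (((cπ πU).ker.subtype.comp T1).comp (inclusion inf_le_left)).codRestrict _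
    (fun z => ⟨(T1 _).2, k4 z⟩)
  let g : MM (cπ πU) →* SM G := (j.comp (MM _).subtype).codRestrict _ (fun z => ⟨(j' ⟨z, z.2.1⟩).2, by
    have : (_root_.commutator _).map j ≤ _root_.commutator _ := by
      rw [map_commutator_eq]; exact commutator_mono le_top le_top
    exact this ⟨z, z.2.2, rfl⟩⟩)
  refine ⟨eU.symm.toMonoidHom.comp f, g.comp eU.toMonoidHom, fun a => ?_⟩
  simp only [MonoidHom.comp_apply, MulEquiv.coe_toMonoidHom, MulEquiv.apply_symm_apply]
  have := congrArg Subtype.val (k5 ⟨a, a.2.1⟩)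
  exact Subtype.ext this
end

/-- Let `P` be a Sylow `p`-subgroup of the finite group `G`, let `A` be the Schur multiplier of `G` and `B` that of `P`. Then the `p`-primary component of `A` is isomorphic to a direct factor of `B`: there are subgroups `C` and `D` of `B` meeting trivially and generating `B`, with `C` isomorphic to the `p`-primary component of `A`. -/
theorem result {G : Type*} [Group G] [Finite G] (p : ℕ) [Fact p.Prime] (P : Sylow p G) {A B : Type*} [CommGroup A] [CommGroup B] (hA : Cfsg.HasSchurMultiplier G A) (hB : Cfsg.HasSchurMultiplier P B) : ∃ C D : Subgroup B, C ⊓ D = ⊥ ∧ C ⊔ D = ⊤ ∧ Nonempty (CommGroup.primaryComponent A p ≃* C) := by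
  open Pointwise commutatorElement Subgroup in
  open Cfsg.Agent.Schur in
  obtain ⟨eA⟩ := hasSchur_iff.1 hA
  obtain ⟨eB⟩ := hasSchur_iff.1 hB
  haveI : Finite A := Finite.of_equiv _ eA.toEquiv
  obtain ⟨f, g, h⟩ := res (P : Subgroup G)
  exact alg p (eB.toMonoidHom.comp (f.comp eA.symm.toMonoidHom)) (eA.toMonoidHom.comp (g.comp eB.symm.toMonoidHom))
    P.not_dvd_index (fun a => by simp [h])

end Cfsg.Agent.S3953
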