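import Cfsg.Statements.S3954
import Cfsg.Agent.Lib.Schur.Two

set_option autoImplicit false
open Cfsg

namespace Cfsg.Agent.S3954

/-- Let `U` be a subgroup of index `m` in the finite group `G`, let `A` be the Schur multiplier of `G` and `B` that of `U`. Then the subgroup of `m`-th powers of `A` is isomorphic to a subgroup of `B`. -/
theorem result {G : Type*} [Group G] [Finite G] (U : Subgroup G) {A B : Type*} [CommGroup A] [CommGroup B] (hA : Cfsg.HasSchurMultiplier G A) (hB : Cfsg.HasSchurMultiplier U B) : ∃ C : Subgroup B, Nonempty ((powMonoidHom U.index : A →* A).range ≃* C) := by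
  open Pointwise commutatorElement Subgroup in
  open Cfsg.Agent.Schur in
  obtain ⟨eA⟩ := hasSchur_iff.1 hA
  obtain ⟨eB⟩ := hasSchur_iff.1 hB
  haveI : Finite B := Finite.of_equiv _ eB.toEquiv
  obtain ⟨f, hf⟩ := exists_mul_surj (res_CE (uπ_CE G) U)
  let g : MM (resCE (uπ G) U) →* SM G := ((U.comap (uπ G)).subtype.comp (MM _).subtype).codRestrict _
    (fun x => by
      have := (map_MM_res (uπ G) U).le ⟨x, x.2, rfl⟩
      exact ⟨this.1, commutator_mono le_top le_top this.2⟩)
  let k : B →* A := eA.toMonoidHom.comp (g.comp (f.comp eB.symm.toMonoidHom))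
  have hle : (powMonoidHom U.index : A →* A).range ≤ k.range := by
    rintro _ ⟨a, rfl⟩
    obtain ⟨z, rfl⟩ := eA.surjective a
    have hi : (U.comap (uπ G)).index = U.index := index_comap_of_surjective _ (uπ_CE G).surj
    haveI : (U.comap (uπ G)).FiniteIndex := ⟨by rw [hi]; exact FiniteIndex.index_ne_zero⟩
    have h1 := pow_index_mem (H := U.comap (uπ G)) (z := z) (by
      rw [mem_comap, show uπ G z = 1 from z.2.1]; exact one_mem _) ((uπ_CE G).cent z.2.1) z.2.2
    rw [hi] at h1
    obtain ⟨y, hy, h2⟩ := (map_MM_res (uπ G) U).ge ⟨pow_mem z.2.1 _, h1⟩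
    obtain ⟨b, hb⟩ := hf ⟨y, hy⟩
    refine ⟨eB b, ?_⟩
    simp only [k, MonoidHom.comp_apply, MulEquiv.coe_toMonoidHom, MulEquiv.symm_apply_apply, hb,
      powMonoidHom_apply, ← map_pow]
    congr 1
    exact Subtype.ext h2
  obtain ⟨j, hj⟩ := exists_sub_of_surj k.rangeRestrict_surjective
  exact ⟨(j.comp (inclusion hle)).range, ⟨MonoidHom.ofInjective (hj.comp (inclusion_injective hle))⟩⟩

end Cfsg.Agent.S3954
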