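import Cfsg.Statements.S3957
import Cfsg.Agent.Lib.Schur.Basic

set_option autoImplicit false
universe u v
open Cfsg

namespace Cfsg.Agent.S3957

/-- Let `Q` be a finite group with Schur multiplier `A` and let `τ : Δ →* Q` be a finite stem extension, `Δ` in the universe of `Q`. Then there is a finite stem extension `σ : Γ →* Q` with kernel isomorphic to `A` (a Schur covering group) and a surjective homomorphism `β : Γ →* Δ` with `τ ∘ β = σ`. -/
theorem result {Q : Type u} [Group Q] [Finite Q] {A : Type v} [CommGroup A] (hA : Cfsg.HasSchurMultiplier Q A) {Δ : Type u} [Group Δ] [Finite Δ] (τ : Δ →* Q) (hτ : Cfsg.IsStemExtension τ) : ∃ (Γ : Type u) (_ : Group Γ) (_ : Finite Γ) (σ : Γ →* Q), Cfsg.IsStemExtension σ ∧ Nonempty (σ.ker ≃* A) ∧ ∃ β : Γ →* Δ, Function.Surjective β ∧ τ.comp β = σ := by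
  open Pointwise commutatorElement Subgroup in
  open Cfsg.Agent.Schur in
  obtain ⟨e⟩ := hasSchur_iff.1 hA
  obtain ⟨η, hη⟩ := u_lift (stem_CE hτ)
  have hk : η.ker ≤ (uπ Q).ker := fun x hx => by
    rw [MonoidHom.mem_ker, ← hη, show η x = 1 from hx, map_one]
  obtain ⟨S, hS, h1, h2⟩ := exists_compl (K := η.ker) hk (by
    intro x hx
    have h3 : η x ∈ MM τ := by rw [stem_MM hτ]; exact (hη x).trans hx
    obtain ⟨y, hy, hxy⟩ := (map_MM (uπ_CE Q).surj hτ.2.1 hη).ge h3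
    have : x = (x * y⁻¹) * y := by group
    rw [this]
    exact mul_mem_sup (by simp [MonoidHom.mem_ker, hxy]) hy)
  obtain ⟨Γ, i1, i2, σ, β, h, hβ⟩ := exists_cover_of h1 h2
  obtain ⟨e0⟩ := h.equiv
  refine ⟨Γ, i1, i2, σ, h.stem, ⟨e0.symm.trans e⟩, β.liftOfSurjective h.surj ⟨η, hβ ▸ hS⟩, ?_, ?_⟩
  · intro d
    obtain ⟨x, rfl⟩ := surj_of_stem (uπ_CE Q).surj hτ hη d
    exact ⟨β x, by simp⟩
  · ext g
    obtain ⟨x, rfl⟩ := h.surj g
    simp [hη, h.over]

end Cfsg.Agent.S3957
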