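import Cfsg.Statements.S3959
import Cfsg.Agent.Lib.Schur.Two

set_option autoImplicit false
universe u v w
open Cfsg

namespace Cfsg.Agent.S3959
section
open Pointwise commutatorElement Subgroup
open Cfsg.Agent.Schur

abbrev TT (Q₁ Q₂ : Type*) [Group Q₁] [Group Q₂] :=
  Multiplicative (TensorProduct ℤ (Additive (Abelianization Q₁)) (Additive (Abelianization Q₂)))

def tm {Q₁ Q₂ : Type*} [Group Q₁] [Group Q₂] (x : Q₁) (y : Q₂) : TT Q₁ Q₂ :=
  Multiplicative.ofAdd (Additive.ofMul (Abelianization.of x) ⊗ₜ Additive.ofMul (Abelianization.of y))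

theorem tm_mul_left {Q₁ Q₂ : Type*} [Group Q₁] [Group Q₂] (x x' : Q₁) (y : Q₂) :
    tm (x * x') y = tm x y * tm x' y := by simp [tm, TensorProduct.add_tmul]

theorem tm_mul_right {Q₁ Q₂ : Type*} [Group Q₁] [Group Q₂] (x : Q₁) (y y' : Q₂) :
    tm x (y * y') = tm x y * tm x y' := by simp [tm, TensorProduct.tmul_add]

theorem tm_one_left {Q₁ Q₂ : Type*} [Group Q₁] [Group Q₂] (y : Q₂) : tm (1 : Q₁) y = 1 := by simp [tm]
theorem tm_one_right {Q₁ Q₂ : Type*} [Group Q₁] [Group Q₂] (x : Q₁) : tm x (1 : Q₂) = 1 := by simp [tm]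

theorem tm_gen {Q₁ Q₂ : Type*} [Group Q₁] [Group Q₂] {K : Subgroup (TT Q₁ Q₂)}
    (h : ∀ x y, tm x y ∈ K) (t : TT Q₁ Q₂) : t ∈ K := by
  obtain ⟨t, rfl⟩ := Multiplicative.ofAdd.surjective t
  induction t using TensorProduct.induction_on with
  | zero => exact one_mem _
  | tmul x y =>
    obtain ⟨x, rfl⟩ := (QuotientGroup.mk_surjective (s := _root_.commutator Q₁)) x
    obtain ⟨y, rfl⟩ := (QuotientGroup.mk_surjective (s := _root_.commutator Q₂)) y
    exact h x y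
  | add x y hx hy => exact mul_mem hx hy

theorem tm_lift {Q₁ Q₂ K : Type*} [Group Q₁] [Group Q₂] [CommGroup K] (b : Q₁ →* Q₂ →* K) :
    ∃ f : TT Q₁ Q₂ →* K, ∀ x y, f (tm x y) = b x y := by
  let b1 : Abelianization Q₂ →* Abelianization Q₁ →* K := Abelianization.lift (Abelianization.lift b).flip
  let b2 : Additive (Abelianization Q₁) →+ Additive (Abelianization Q₂) →+ Additive K :=
    AddMonoidHom.mk' (fun x => MonoidHom.toAdditive (b1.flip x.toMul)) (fun x y => by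
      ext z; simp)
  refine ⟨AddMonoidHom.toMultiplicativeLeft (TensorProduct.liftAddHom b2 (fun r m n => by simp)), fun x y => ?_⟩
  simp [tm, b2, b1]

theorem finite_TT {Q₁ Q₂ : Type*} [Group Q₁] [Group Q₂] [Finite Q₁] [Finite Q₂] : Finite (TT Q₁ Q₂) := by
  have : Finite (TensorProduct ℤ (Additive (Abelianization Q₁)) (Additive (Abelianization Q₂))) := by
    haveI : Module.Finite ℤ (Additive (Abelianization Q₁)) := Module.Finite.of_finite
    haveI : Module.Finite ℤ (Additive (Abelianization Q₂)) := Module.Finite.of_finite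
    refine @Module.finite_of_fg_torsion _ _ _ (Module.Finite.tensorProduct _ _ _) (fun t => ⟨⟨Nat.card (Additive (Abelianization Q₁)),
      mem_nonZeroDivisors_of_ne_zero (by exact_mod_cast Nat.card_pos.ne')⟩, ?_⟩)
    show (Nat.card (Additive (Abelianization Q₁)) : ℤ) • t = 0
    induction t using TensorProduct.induction_on with
    | zero => simp
    | tmul x y => rw [TensorProduct.smul_tmul', natCast_zsmul, card_nsmul_eq_zero', TensorProduct.zero_tmul]
    | add x y hx hy => rw [smul_add, hx, hy, add_zero]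
  exact inferInstanceAs (Finite (Multiplicative _))
end

/-- Let `Q₁` and `Q₂` be finite groups with Schur multipliers `A` and `B`. Then the Schur multiplier of `Q₁ × Q₂` is isomorphic to `A × B × (Q₁ᵃᵇ ⊗ Q₂ᵃᵇ)`, the last factor being the tensor product over the integers of the commutator quotients, written multiplicatively. -/
theorem result {Q₁ : Type u} {Q₂ : Type v} [Group Q₁] [Group Q₂] [Finite Q₁] [Finite Q₂] {A B : Type w} [CommGroup A] [CommGroup B] (hA : Cfsg.HasSchurMultiplier Q₁ A) (hB : Cfsg.HasSchurMultiplier Q₂ B) : Cfsg.HasSchurMultiplier (Q₁ × Q₂) (A × B × Multiplicative (TensorProduct ℤ (Additive (Abelianization Q₁)) (Additive (Abelianization Q₂)))) := by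
  open Pointwise commutatorElement Subgroup in
  open Cfsg.Agent.Schur in
  haveI := finite_TT (Q₁ := Q₁) (Q₂ := Q₂)
  obtain ⟨eA⟩ := hasSchur_iff.1 hA
  obtain ⟨eB⟩ := hasSchur_iff.1 hB
  constructor
  · obtain ⟨⟨Γ₁, _, _, σ₁, h₁, ⟨e₁⟩⟩, -⟩ := hA
    obtain ⟨⟨Γ₂, _, _, σ₂, h₂, ⟨e₂⟩⟩, -⟩ := hB
    let c : Γ₁ × Γ₂ →* Γ₁ × Γ₂ →* TT Q₁ Q₂ := MonoidHom.mk' (fun x => MonoidHom.mk'
      (fun y => tm (σ₁ x.1) (σ₂ y.2)) (fun y z => by simp [tm_mul_right])) (fun x y => by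
        ext z : 1; simp [tm_mul_left])
    have hc : ∀ x y, c x y = tm (σ₁ x.1) (σ₂ y.2) := fun _ _ => rfl
    let σ : BExt c →* Q₁ × Q₂ := (σ₁.prodMap σ₂).comp (BExt.proj c)
    have hk : ∀ z : σ.ker, σ₁ z.1.q.1 = 1 ∧ σ₂ z.1.q.2 = 1 := fun z =>
      ⟨congrArg Prod.fst z.2, congrArg Prod.snd z.2⟩
    refine ⟨BExt c, inferInstance, inferInstance, σ, ⟨?_, fun z hz => ?_, fun z hz => ?_⟩, ⟨?_⟩⟩
    · exact (h₁.1.prodMap h₂.1).comp BExt.proj_CE.surj
    · obtain ⟨k1, k2⟩ := hk ⟨z, hz⟩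
      rw [mem_center_iff]; intro g
      ext
      · simp [hc, k1, k2, tm_one_left, tm_one_right, mul_comm]
      · exact cent_comm h₁.2.1 k1 _
      · exact cent_comm h₂.2.1 k2 _
    · obtain ⟨k1, k2⟩ := hk ⟨z, hz⟩
      have h1 : (_root_.commutator (BExt c)).map (BExt.proj c) = _root_.commutator (Γ₁ × Γ₂) := by
        rw [map_commutator_eq, MonoidHom.range_eq_top.2 BExt.proj_CE.surj]; rfl
      have h2 : z.q ∈ _root_.commutator (Γ₁ × Γ₂) := by
        rw [_root_.commutator_def, ← top_prod_top, commutator_prod_prod]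
        exact ⟨h₁.2.2 k1, h₂.2.2 k2⟩
      obtain ⟨y, hy, hyz⟩ := h1.ge h2
      obtain ⟨t, ht⟩ := (BExt.range_inl (c := c)).ge (show y⁻¹ * z ∈ (BExt.proj c).ker by
        rw [MonoidHom.mem_ker, map_mul, map_inv, hyz]; simp)
      have h3 : t ∈ (_root_.commutator (BExt c)).comap (BExt.inl c) := tm_gen (fun x y => by
        obtain ⟨x, rfl⟩ := h₁.1 x
        obtain ⟨y, rfl⟩ := h₂.1 y
        have := BExt.inl_mem (c := c) (x := (x, 1)) (y := (1, y)) (by simp)
        simpa [hc, tm_one_left] using this) t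
      have : z = y * BExt.inl c t := by rw [ht]; group
      rw [this]; exact mul_mem hy h3
    · refine MulEquiv.ofBijective (MonoidHom.mk' (fun z => (e₁ ⟨z.1.q.1, (hk z).1⟩, e₂ ⟨z.1.q.2, (hk z).2⟩, z.1.a))
        (fun x y => ?_)) ⟨fun x y h => ?_, fun ⟨a, b, t⟩ => ?_⟩
      · simp only [Prod.mk_mul_mk, ← map_mul, Prod.mk.injEq]
        refine ⟨rfl, rfl, ?_⟩
        simp [hc, (hk x).1, tm_one_left]
      · simp only [MonoidHom.mk'_apply, Prod.mk.injEq, EmbeddingLike.apply_eq_iff_eq, Subtype.mk.injEq] at h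
        exact Subtype.ext (BExt.ext h.2.2 (Prod.ext (congrArg Subtype.val h.1) (congrArg Subtype.val h.2.1)))
      · exact ⟨⟨⟨t, (e₁.symm a, e₂.symm b)⟩, Prod.ext (e₁.symm a).2 (e₂.symm b).2⟩,
          Prod.ext (e₁.apply_symm_apply a) (Prod.ext (e₂.apply_symm_apply b) rfl)⟩
  · intro Γ _ _ τ hτ
    letI : CommGroup τ.ker := { (inferInstance : Group _) with
      mul_comm := fun a b => Subtype.ext (cent_comm hτ.2.1 b.2 _) }
    obtain ⟨η₁, h₁⟩ := u_lift' (stem_CE hτ) (MonoidHom.inl Q₁ Q₂)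
    obtain ⟨η₂, h₂⟩ := u_lift' (stem_CE hτ) (MonoidHom.inr Q₁ Q₂)
    choose s hs using hτ.1
    have hk : ∀ x y, τ ⁅s (x, 1), s (1, y)⁆ = 1 := fun x y => by
      rw [map_commutatorElement, hs, hs]; simp [commutatorElement_def]
    let b : Q₁ →* Q₂ →* τ.ker := MonoidHom.mk' (fun x => MonoidHom.mk'
      (fun y => ⟨⁅s (x, 1), s (1, y)⁆, hk x y⟩) (fun y z => Subtype.ext (by
        show ⁅s (x, 1), s (1, y * z)⁆ = ⁅s (x, 1), s (1, y)⁆ * ⁅s (x, 1), s (1, z)⁆
        rw [comm_congr hτ.2.1 rfl (b' := s (1, y) * s (1, z)) (by simp [hs])]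
        have := cent_comm hτ.2.1 (hk x z) (s (1, y))
        calc _ = ⁅s (x, 1), s (1, y)⁆ * (s (1, y) * ⁅s (x, 1), s (1, z)⁆) * (s (1, y))⁻¹ := by
              simp only [commutatorElement_def]; group
          _ = _ := by rw [this]; group))) (fun x y => by
        ext z
        show ⁅s (x * y, 1), s (1, z)⁆ = ⁅s (x, 1), s (1, z)⁆ * ⁅s (y, 1), s (1, z)⁆
        rw [comm_congr hτ.2.1 (a' := s (x, 1) * s (y, 1)) (by simp [hs]) rfl, cent_comm hτ.2.1 (hk y z)]
        have := cent_comm hτ.2.1 (hk y z) (s (x, 1))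
        calc _ = (s (x, 1) * ⁅s (y, 1), s (1, z)⁆) * (s (x, 1))⁻¹ * ⁅s (x, 1), s (1, z)⁆ := by
              simp only [commutatorElement_def]; group
          _ = _ := by rw [this]; group)
    obtain ⟨f, hf⟩ := tm_lift b
    let f₁ : A →* τ.ker := ((η₁.comp (SM Q₁).subtype).codRestrict _ (fun e => by
      rw [MonoidHom.mem_ker, MonoidHom.comp_apply, h₁, show uπ Q₁ ((SM Q₁).subtype e) = 1 from e.2.1, map_one])).comp
        eA.symm.toMonoidHom
    let f₂ : B →* τ.ker := ((η₂.comp (SM Q₂).subtype).codRestrict _ (fun e => by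
      rw [MonoidHom.mem_ker, MonoidHom.comp_apply, h₂, show uπ Q₂ ((SM Q₂).subtype e) = 1 from e.2.1, map_one])).comp
        eB.symm.toMonoidHom
    let Φ := f₁.coprod (f₂.coprod f)
    refine ⟨Φ, ?_⟩
    let I := Φ.range.map τ.ker.subtype
    have hI : I ≤ τ.ker := map_subtype_le _
    haveI : I.Normal := ⟨fun z hz g => by rw [cent_comm hτ.2.1 (hI hz) g]; simpa using hz⟩
    let τ' : Γ ⧸ I →* Q₁ × Q₂ := QuotientGroup.lift _ τ hI
    have hc : τ'.ker ≤ center _ := fun z hz => by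
      obtain ⟨z, rfl⟩ := QuotientGroup.mk'_surjective I z
      rw [mem_center_iff]; intro g
      obtain ⟨g, rfl⟩ := QuotientGroup.mk'_surjective I g
      rw [← map_mul, ← map_mul, cent_comm hτ.2.1 hz]
    let θ : UU Q₁ × UU Q₂ →* Γ ⧸ I := ((QuotientGroup.mk' I).comp η₁).noncommCoprod
      ((QuotientGroup.mk' I).comp η₂) (fun x y => by
        rw [← commutatorElement_eq_one_iff_commute, MonoidHom.comp_apply, MonoidHom.comp_apply,
          ← map_commutatorElement, comm_congr hτ.2.1 (a' := s (uπ _ x, 1)) (b' := s (1, uπ _ y))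
            (by simp [h₁, hs]) (by simp [h₂, hs])]
        exact (QuotientGroup.eq_one_iff _).2 ⟨b (uπ _ x) (uπ _ y), ⟨(1, 1, tm (uπ _ x) (uπ _ y)), by simp [Φ, hf]⟩, rfl⟩)
    have hθ : ∀ e, τ' (θ e) = ((uπ Q₁).prodMap (uπ Q₂)) e := fun e => by
      simp [θ, τ', h₁, h₂, Prod.map]
    have := map_MM ((uπ_CE Q₁).surj.prodMap (uπ_CE Q₂).surj) hc hθ
    intro z
    obtain ⟨e, he, h3⟩ := this.ge (show (QuotientGroup.mk' I z) ∈ MM τ' from ⟨z.2, by
      have : (_root_.commutator Γ).map (QuotientGroup.mk' I) ≤ _root_.commutator _ := by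
        rw [map_commutator_eq]; exact commutator_mono le_top le_top
      exact this ⟨z, hτ.2.2 z.2, rfl⟩⟩)
    have h4 := he.2
    rw [_root_.commutator_def, ← top_prod_top, commutator_prod_prod] at h4
    have m1 : e.1 ∈ SM Q₁ := ⟨congrArg Prod.fst he.1, h4.1⟩
    have m2 : e.2 ∈ SM Q₂ := ⟨congrArg Prod.snd he.1, h4.2⟩
    have h5 : θ e = 1 := (QuotientGroup.eq_one_iff (η₁ e.1 * η₂ e.2)).2
      ⟨_, ⟨(eA ⟨_, m1⟩, eB ⟨_, m2⟩, 1), rfl⟩, by simp [Φ, f₁, f₂]⟩
    obtain ⟨y, ⟨x, rfl⟩, hy⟩ := (QuotientGroup.eq_one_iff (N := I) z.1).1 (h3.symm.trans h5)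
    exact ⟨x, Subtype.ext hy⟩

end Cfsg.Agent.S3959
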