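import Cfsg.Statements.S3960
import Cfsg.Agent.Lib.Schur.Basic

set_option autoImplicit false
universe u
open Cfsg

namespace Cfsg.Agent.S3960

/-- A finite perfect group `Q` has a universal central extension: a finite perfect group `G` in the universe of `Q` and a surjective homomorphism `π : G →* Q` with central kernel such that for every group `X` in that universe and every surjective homomorphism `ξ : X →* Q` with central kernel there is exactly one homomorphism `η : G →* X` with `ξ ∘ η = π`. -/
theorem result {Q : Type u} [Group Q] [Finite Q] (hQ : Group.IsPerfect Q) : ∃ (G : Type u) (_ : Group G) (_ : Finite G) (π : G →* Q), Group.IsPerfect G ∧ Function.Surjective π ∧ π.ker ≤ Subgroup.center G ∧ ∀ (X : Type u) [Group X] (ξ : X →* Q), Function.Surjective ξ → ξ.ker ≤ Subgroup.center X → ∃! η : G →* X, ξ.comp η = π := by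
  open Pointwise commutatorElement Subgroup in
  open Cfsg.Agent.Schur in
  obtain ⟨Γ, i1, i2, σ, β, h⟩ := exists_cover Q
  have hQ' : _root_.commutator Q = ⊤ := hQ.commutator_eq_top
  have hp : _root_.commutator Γ = ⊤ := by
    rw [eq_top_iff]; intro g _
    have h1 : (_root_.commutator Γ).map σ = ⊤ := by
      rw [map_commutator_eq, MonoidHom.range_eq_top.2 h.stem.1]; exact hQ'
    obtain ⟨y, hy, hyg⟩ := h1.ge (mem_top (σ g))
    have : g = y * (y⁻¹ * g) := by group
    rw [this]
    exact mul_mem hy (h.stem.2.2 (by simp [MonoidHom.mem_ker, hyg]))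
  refine ⟨Γ, i1, i2, σ, ⟨hp⟩, h.stem.1, h.stem.2.1, fun X _ ξ h1 h2 => ?_⟩
  obtain ⟨η, hη⟩ := u_lift (⟨h1, h2⟩ : CE ξ)
  let β' := β.comp (_root_.commutator (UU Q)).subtype
  have hb : Function.Bijective β' := by
    refine ⟨(injective_iff_map_eq_one _).2 fun e he => Subtype.ext (h.inj_comm e.2 he), fun g => ?_⟩
    obtain ⟨e, he, rfl⟩ := (map_comm h.stem.2.1 (over_surj (uπ_CE Q).surj h.over)).ge (hp.ge (mem_top g))
    exact ⟨⟨e, he⟩, rfl⟩
  let e := MulEquiv.ofBijective β' hb
  have key : ξ.comp ((η.comp (_root_.commutator (UU Q)).subtype).comp e.symm.toMonoidHom) = σ := by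
    ext g
    obtain ⟨x, rfl⟩ := e.surjective g
    simp only [MonoidHom.comp_apply, MulEquiv.coe_toMonoidHom, MulEquiv.symm_apply_apply, hη]
    exact (h.over x).symm
  refine ⟨_, key, fun η' hη' => ?_⟩
  ext g
  exact eqOn_comm h2 (fun x => DFunLike.congr_fun (hη'.trans key.symm) x) (hp.ge (mem_top g))

end Cfsg.Agent.S3960
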