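import Cfsg.Statements.S3961
import Cfsg.Agent.Lib.Schur.Two

set_option autoImplicit false
universe u v
open Cfsg

namespace Cfsg.Agent.S3961

/-- Let `π : G →* Q` be a surjective homomorphism with central kernel from a finite perfect group `G` (a perfect cover of `Q`). Then `π` is universal, in the sense that every surjective homomorphism `ξ : X →* Q` with central kernel from a group `X` in the universe of `G` admits a homomorphism `η : G →* X` with `ξ ∘ η = π`, if and only if `G` has trivial Schur multiplier. -/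
theorem result {G : Type u} {Q : Type v} [Group G] [Group Q] [Finite G] (hG : Group.IsPerfect G) (π : G →* Q) (hπ : Function.Surjective π) (hker : π.ker ≤ Subgroup.center G) : (∀ (X : Type u) [Group X] (ξ : X →* Q), Function.Surjective ξ → ξ.ker ≤ Subgroup.center X → ∃ η : G →* X, ξ.comp η = π) ↔ Cfsg.HasCyclicSchurMultiplier G 1 := by
  open Pointwise commutatorElement Subgroup in
  open Cfsg.Agent.Schur in
  have hG' : _root_.commutator G = ⊤ := hG.commutator_eq_top
  constructor
  · intro h
    refine hasSchur_one_of fun Δ _ _ τ hτ => ?_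
    have hp : _root_.commutator Δ = ⊤ := by
      rw [eq_top_iff]; intro g _
      have h1 : (_root_.commutator Δ).map τ = ⊤ := by
        rw [map_commutator_eq, MonoidHom.range_eq_top.2 hτ.1]; exact hG'
      obtain ⟨y, hy, hyg⟩ := h1.ge (mem_top (τ g))
      have : g = y * (y⁻¹ * g) := by group
      rw [this]
      exact mul_mem hy (hτ.2.2 (by simp [MonoidHom.mem_ker, hyg]))
    have hc : (π.comp τ).ker ≤ center Δ := by
      intro z hz
      have h1 : ∀ g : Δ, τ ⁅g, z⁆ = 1 := fun g => by
        rw [map_commutatorElement, commutatorElement_eq_one_iff_mul_comm]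
        exact cent_comm hker hz _
      let f : Δ →* center Δ := MonoidHom.mk' (fun g => ⟨⁅g, z⁆, hτ.2.1 (h1 g)⟩) (fun a b => Subtype.ext (by
        have := cent_comm hτ.2.1 (h1 b) a⁻¹
        show ⁅a * b, z⁆ = ⁅a, z⁆ * ⁅b, z⁆
        have h3 := cent_comm hτ.2.1 (h1 b) a
        have h4 := cent_comm hτ.2.1 (h1 b) ⁅a, z⁆
        calc ⁅a * b, z⁆ = a * ⁅b, z⁆ * a⁻¹ * ⁅a, z⁆ := by simp only [commutatorElement_def]; group
          _ = ⁅a, z⁆ * ⁅b, z⁆ := by rw [h3, h4]; group))
      rw [mem_center_iff]; intro g
      letI : CommGroup (center Δ) := { (inferInstance : Group _) with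
        mul_comm := fun a b => Subtype.ext (mem_center_iff.1 b.2 a) }
      have : f g = 1 := Abelianization.commutator_subset_ker f (hp.ge (mem_top g))
      exact commutatorElement_eq_one_iff_mul_comm.1 (congrArg Subtype.val this)
    obtain ⟨η, hη⟩ := h Δ (π.comp τ) (hπ.comp hτ.1) hc
    have h1 : ∀ g, τ (η g) = g := fun g =>
      eqOn_comm hker (η := τ.comp η) (η' := MonoidHom.id G) (fun x => DFunLike.congr_fun hη x)
        (hG'.ge (mem_top g))
    rw [eq_bot_iff]; intro z hz
    obtain ⟨g, rfl⟩ := surj_of_stem (ε := MonoidHom.id G) Function.surjective_id hτ h1 z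
    have : g = 1 := (h1 g).symm.trans hz
    rw [this, map_one]; exact one_mem _
  · intro h X _ ξ h1 h2
    have h0 := hasSchur_one_iff.1 h
    obtain ⟨η, hη⟩ := u_lift' (Q := G) (⟨h1, h2⟩ : CE ξ) π
    let β' := (uπ G).comp (_root_.commutator (UU G)).subtype
    have hb : Function.Bijective β' := by
      refine ⟨(injective_iff_map_eq_one _).2 fun e he => Subtype.ext (mem_bot.1 (h0.le ⟨he, e.2⟩)), fun g => ?_⟩
      have h1 : (_root_.commutator (UU G)).map (uπ G) = ⊤ := by
        rw [map_commutator_eq, MonoidHom.range_eq_top.2 (uπ_CE G).surj]; exact hG'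
      obtain ⟨e, he, rfl⟩ := h1.ge (mem_top g)
      exact ⟨⟨e, he⟩, rfl⟩
    let e := MulEquiv.ofBijective β' hb
    refine ⟨(η.comp (_root_.commutator (UU G)).subtype).comp e.symm.toMonoidHom, ?_⟩
    ext g
    obtain ⟨x, rfl⟩ := e.surjective g
    simp only [MonoidHom.comp_apply, MulEquiv.coe_toMonoidHom, MulEquiv.symm_apply_apply, hη]
    rfl

end Cfsg.Agent.S3961
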