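import Cfsg.Statements.S3962
import Cfsg.Agent.Lib.Comp.Basic

set_option autoImplicit false
open Cfsg

namespace Cfsg.Agent.S3962

/-- Let `G` be a perfect group and `π : G →* Q` a surjective homomorphism whose kernel is central. Then `π` maps the centre of `G` onto the centre of `Q`. Taking `π` to be the map to `G ⧸ Z(G)` shows that the central quotient of a perfect group has trivial centre. -/
theorem result {G Q : Type*} [Group G] [Group Q] (hG : Group.IsPerfect G) (π : G →* Q) (hπ : Function.Surjective π) (hker : π.ker ≤ Subgroup.center G) : (Subgroup.center G).map π = Subgroup.center Q := by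
  open Pointwise commutatorElement Subgroup in
  open Cfsg.Agent.Comp in
  refine le_antisymm ?_ fun y hy => ?_
  · rintro _ ⟨x, hx, rfl⟩
    rw [mem_center_iff]
    intro q
    obtain ⟨g, rfl⟩ := hπ q
    rw [← map_mul, ← map_mul, mem_center_iff.1 hx g]
  · obtain ⟨x, rfl⟩ := hπ y
    refine mem_map_of_mem _ ?_
    have h1 : ⁅zpowers x, (⊤ : Subgroup G)⁆ ≤ π.ker := by
      refine commutator_zpowers_left_le (by rw [normalizer_eq_top]; trivial) fun c _ => ?_
      rw [MonoidHom.mem_ker, map_commutatorElement, commutatorElement_eq_one_iff_mul_comm]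
      exact (mem_center_iff.1 hy _).symm
    have h2 : ⁅zpowers x, (⊤ : Subgroup G)⁆ = ⊥ := by
      refine commutator_eq_bot_of_perfect hG.commutator_eq_top ?_
      rw [commutator_eq_bot_iff_le_centralizer]
      exact h1.trans (hker.trans (center_le_centralizer _))
    rw [commutator_eq_bot_iff_le_centralizer, coe_top, centralizer_univ] at h2
    exact h2 (mem_zpowers x)

end Cfsg.Agent.S3962
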