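import Cfsg.Statements.S3964
import Cfsg.Agent.Lib.Schur.Meta

set_option autoImplicit false
open Cfsg

namespace Cfsg.Agent.S3964

/-- For odd `n` the dihedral group of order `2 n` has trivial Schur multiplier. -/
theorem result (n : ℕ) (hn : Odd n) : Cfsg.HasCyclicSchurMultiplier (DihedralGroup n) 1 := by
  open Pointwise commutatorElement Subgroup in
  open Cfsg.Agent.Schur DihedralGroup in
  haveI : NeZero n := ⟨by rintro rfl; simp at hn⟩
  have hgen : closure {(r 1 : DihedralGroup n), sr 0} = ⊤ := by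
    rw [eq_top_iff]
    have h1 : ∀ i : ZMod n, r i ∈ closure {(r 1 : DihedralGroup n), sr 0} := fun i => by
      have := pow_mem (subset_closure (k := {(r 1 : DihedralGroup n), sr 0}) (Or.inl rfl)) i.val
      simpa using this
    rintro (i | i) _
    · exact h1 i
    · have := mul_mem (subset_closure (k := {(r 1 : DihedralGroup n), sr 0}) (Or.inr rfl)) (h1 i)
      simpa using this
  obtain ⟨c, h1, h2, h3, -⟩ := meta_upper (uπ_CE (DihedralGroup n)) hgen (r := -1) (by simp)
  rw [hasSchur_one_iff, eq_bot_iff]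
  refine (SM_le h1).trans ?_
  have h4 : c ^ n = 1 := by exact_mod_cast h3 n 0 (by simp)
  have h5 : n ∣ orderOf (uπ (DihedralGroup n) c) := by
    have h6 := pow_orderOf_eq_one (uπ (DihedralGroup n) c)
    generalize orderOf (uπ (DihedralGroup n) c) = k at h6
    rw [h2, ← zpow_natCast, ← zpow_mul, ← orderOf_dvd_iff_zpow_eq_one, orderOf_r_one] at h6
    have h7 : (n : ℤ) ∣ ((2 * k : ℕ) : ℤ) := by
      rw [← dvd_neg]; push_cast at h6 ⊢; exact (dvd_iff_dvd_of_dvd_sub (by ring_nf; simp)).1 h6
    exact (Nat.coprime_two_right.2 hn).dvd_of_dvd_mul_left (Int.natCast_dvd_natCast.1 h7)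
  obtain ⟨j, hj⟩ := h5
  rw [hj, pow_mul, h4, one_pow, zpowers_one_eq_bot]

end Cfsg.Agent.S3964
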