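import Cfsg.Statements.S3966
import Mathlib.Tactic.LinearCombination

set_option autoImplicit false
open Cfsg

namespace Cfsg.Agent.S3966

/-- For even `n ≥ 2` the dicyclic group of order `4 n` is a stem extension of the dihedral group of order `2 n` with kernel of order `2`: there is a surjective homomorphism `QuaternionGroup n →* DihedralGroup n` whose kernel is central, lies in the commutator subgroup and has two elements. Together with the order of the multiplier this exhibits the dicyclic group as a Schur covering group of the dihedral group. -/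
theorem result (n : ℕ) [NeZero n] (hn : Even n) : ∃ σ : QuaternionGroup n →* DihedralGroup n, Cfsg.IsStemExtension σ ∧ Nat.card σ.ker = 2 := by
  open Pointwise commutatorElement Subgroup in
  open QuaternionGroup in
  let c : ZMod (2 * n) →+* ZMod n := ZMod.castHom (dvd_mul_left n 2) (ZMod n)
  have hc0 : c n = 0 := by simp [c]
  let σ : QuaternionGroup n →* DihedralGroup n := MonoidHom.mk'
    (fun x => match x with | a i => DihedralGroup.r (c i) | xa i => DihedralGroup.sr (c i)) (by
      rintro (i | i) (j | j) <;> simp [hc0])
  have hs : Function.Surjective c := ZMod.castHom_surjective _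
  have hn0 : (n : ZMod (2 * n)) ≠ 0 := by
    rw [Ne, ZMod.natCast_eq_zero_iff]
    have := NeZero.pos n
    intro h
    have := Nat.le_of_dvd this h
    omega
  have hk : ∀ x, x ∈ σ.ker ↔ x = 1 ∨ x = a n := by
    rintro (i | i)
    · rw [MonoidHom.mem_ker]
      change DihedralGroup.r (c i) = DihedralGroup.r 0 ↔ a i = a 0 ∨ _
      simp only [DihedralGroup.r.injEq, a.injEq]
      constructor
      · intro h
        obtain ⟨k, rfl⟩ := ZMod.natCast_zmod_surjective i
        rw [map_natCast, ZMod.natCast_eq_zero_iff] at h
        obtain ⟨m, rfl⟩ := h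
        have h2 : ((2 * n : ℕ) : ZMod (2 * n)) = 0 := ZMod.natCast_self _
        push_cast at h2 ⊢
        rcases Nat.even_or_odd' m with ⟨l, rfl | rfl⟩
        · left; push_cast; linear_combination (l : ZMod (2 * n)) * h2
        · right; push_cast; linear_combination (l : ZMod (2 * n)) * h2
      · rintro (rfl | rfl)
        · simp
        · exact hc0
    · rw [MonoidHom.mem_ker]
      change DihedralGroup.sr (c i) = DihedralGroup.r 0 ↔ xa i = a 0 ∨ _
      exact ⟨fun h => (by cases h), fun h => (by rcases h with h | h <;> cases h)⟩
  have h2 : ((2 * n : ℕ) : ZMod (2 * n)) = 0 := ZMod.natCast_self _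
  push_cast at h2
  refine ⟨σ, ⟨?_, ?_, ?_⟩, ?_⟩
  · rintro (i | i)
    · obtain ⟨j, rfl⟩ := hs i; exact ⟨a j, rfl⟩
    · obtain ⟨j, rfl⟩ := hs i; exact ⟨xa j, rfl⟩
  · intro x hx
    rcases (hk x).1 hx with rfl | rfl
    · exact one_mem _
    · rw [mem_center_iff]
      rintro (j | j)
      · simp [add_comm]
      · simp only [xa_mul_a, a_mul_xa, xa.injEq]; linear_combination h2
  · intro x hx
    rcases (hk x).1 hx with rfl | rfl
    · exact one_mem _
    · obtain ⟨m, hm⟩ := hn
      have : (a n : QuaternionGroup n) = ⁅a (m : ZMod (2 * n)), xa 0⁆ := by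
        rw [commutatorElement_def, eq_mul_inv_iff_mul_eq, eq_mul_inv_iff_mul_eq]
        simp only [xa_mul_a, a_mul_xa, xa.injEq]
        have : (n : ZMod (2 * n)) = m + m := by rw [← Nat.cast_add, ← hm]
        linear_combination (-1 : ZMod (2 * n)) * this
      rw [this]
      exact commutator_mem_commutator trivial trivial
  · have : (σ.ker : Set (QuaternionGroup n)) = {1, a n} := by
      ext x; simpa using hk x
    rw [← SetLike.coe_sort_coe, this, Nat.card_coe_set_eq, Set.ncard_pair]
    intro h
    exact hn0 (a.inj h).symm

end Cfsg.Agent.S3966
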