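import Cfsg.Statements.S3965
import Cfsg.Agent.Lib.Schur.Meta
import Cfsg.Agent.S3966

set_option autoImplicit false
open Cfsg

namespace Cfsg.Agent.S3965

/-- For even `n ≥ 2` the dihedral group of order `2 n` has Schur multiplier cyclic of order `2`. -/
theorem result (n : ℕ) [NeZero n] (hn : Even n) : Cfsg.HasCyclicSchurMultiplier (DihedralGroup n) 2 := by
  open Pointwise commutatorElement Subgroup in
  open Cfsg.Agent.Schur DihedralGroup in
  have hgen : closure {(r 1 : DihedralGroup n), sr 0} = ⊤ := by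
    rw [eq_top_iff]
    have h1 : ∀ i : ZMod n, r i ∈ closure {(r 1 : DihedralGroup n), sr 0} := fun i => by
      have := pow_mem (subset_closure (k := {(r 1 : DihedralGroup n), sr 0}) (Or.inl rfl)) i.val
      simpa using this
    rintro (i | i) _
    · exact h1 i
    · have := mul_mem (subset_closure (k := {(r 1 : DihedralGroup n), sr 0}) (Or.inr rfl)) (h1 i)
      simpa using this
  obtain ⟨c, h1, h2, h3, -⟩ := meta_upper (uπ_CE (DihedralGroup n)) hgen (r := -1) (by simp)
  have h4 : c ^ n = 1 := by exact_mod_cast h3 n 0 (by simp)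
  have h5 : n ∣ orderOf (uπ (DihedralGroup n) c) * 2 := by
    have h6 := pow_orderOf_eq_one (uπ (DihedralGroup n) c)
    generalize orderOf (uπ (DihedralGroup n) c) = k at h6
    rw [h2, ← zpow_natCast, ← zpow_mul, ← orderOf_dvd_iff_zpow_eq_one, orderOf_r_one] at h6
    have h7 : (n : ℤ) ∣ ((k * 2 : ℕ) : ℤ) := by
      rw [← dvd_neg]; push_cast at h6 ⊢; exact (dvd_iff_dvd_of_dvd_sub (by ring_nf; simp)).1 h6
    exact Int.natCast_dvd_natCast.1 h7
  obtain ⟨σ, hσ, hk⟩ := S3966.result n hn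
  haveI : Fact (Nat.Prime 2) := ⟨Nat.prime_two⟩
  obtain ⟨x, hx⟩ := exists_prime_orderOf_dvd_card' (G := σ.ker) 2 (hk ▸ dvd_rfl)
  refine hasCyclic_of two_ne_zero (SM_le h1) ?_ (stem_CE hσ) (x := x) ((stem_MM hσ).ge x.2) (by rw [orderOf_coe, hx])
  obtain ⟨j, hj⟩ := h5
  rw [← pow_mul, hj, pow_mul, h4, one_pow]

end Cfsg.Agent.S3965
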