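import Cfsg.Statements.S3967
import Cfsg.Agent.Lib.Schur.Meta

set_option autoImplicit false
open Cfsg

namespace Cfsg.Agent.S3967
section
open Pointwise commutatorElement Subgroup
open Cfsg.Agent.Schur

abbrev rels (m n r t : ℕ) : Set (FreeGroup Bool) := {FreeGroup.of true ^ m, (FreeGroup.of false) ^ n * (FreeGroup.of true ^ t)⁻¹, FreeGroup.of false * FreeGroup.of true * (FreeGroup.of false)⁻¹ * (FreeGroup.of true ^ r)⁻¹}

theorem model (m n r t : ℕ) {H : Type} [Group H] {α β w : H} (h1 : α * w = w * α) (h2 : β * w = w * β)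
    (r1 : α ^ m ∈ zpowers w) (r2 : β ^ n * (α ^ t)⁻¹ ∈ zpowers w)
    (r3 : β * α * β⁻¹ * (α ^ r)⁻¹ ∈ zpowers w) :
    ∃ (X : Type) (_ : Group X) (ξ : X →* PresentedGroup (rels m n r t)) (θ : X →* H) (x y : X),
      CE ξ ∧ ξ x = PresentedGroup.of true ∧ ξ y = PresentedGroup.of false ∧ θ x = α ∧ θ y = β ∧
      ∀ z, ξ z = 1 → θ z ∈ zpowers w := by
  let C := centralizer {w}
  let W := (zpowers w).subgroupOf C
  have hW : W ≤ center C := by
    rintro z ⟨k, hk⟩
    rw [mem_center_iff]; intro g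
    apply Subtype.ext
    have : (z : H) = w ^ k := hk.symm
    simp only [coe_mul, this]
    exact (Commute.zpow_right (mem_centralizer_singleton_iff.1 g.2) k).eq
  haveI : W.Normal := ⟨fun z hz g => by rw [mem_center_iff.1 (hW hz) g]; simpa using hz⟩
  let α' : C := ⟨α, mem_centralizer_singleton_iff.2 h1⟩
  let β' : C := ⟨β, mem_centralizer_singleton_iff.2 h2⟩
  let f : Bool → C ⧸ W := fun b => QuotientGroup.mk' W (if b then α' else β')
  let ψ : PresentedGroup (rels m n r t) →* C ⧸ W := PresentedGroup.toGroup (f := f) (by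
    rintro _ (rfl | rfl | rfl) <;>
      simp only [map_mul, map_pow, map_inv, FreeGroup.lift_apply_of, f, if_true, Bool.false_eq_true, if_false] <;>
      simp only [← map_mul, ← map_pow, ← map_inv] <;> apply (QuotientGroup.eq_one_iff _).2
    exacts [r1, r2, r3])
  have hce : CE (QuotientGroup.mk' W) := ⟨QuotientGroup.mk'_surjective _, by rwa [QuotientGroup.ker_mk']⟩
  have hψ : ∀ b, ψ (PresentedGroup.of b) = f b := fun b => by simp only [ψ, PresentedGroup.toGroup.of]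
  refine ⟨pb (QuotientGroup.mk' W) ψ, inferInstance, pb1 _ _, C.subtype.comp (pb2 _ _),
    ⟨(PresentedGroup.of true, α'), hψ true⟩,
    ⟨(PresentedGroup.of false, β'), hψ false⟩, pb_CE hce _, rfl, rfl, rfl, rfl,
    fun z hz => ?_⟩
  have := pb_comm _ _ z
  rw [hz, map_one] at this
  exact (QuotientGroup.eq_one_iff (N := W) _).1 this

theorem dvd_of_pow (m n r t : ℕ) (hn : 0 < n) (hrn : r ^ n ≡ 1 [MOD m]) (ht : (t : ZMod m) * r = t) (k : ℕ)
    (hk : (PresentedGroup.of true : PresentedGroup (rels m n r t)) ^ k = 1) : m ∣ k := by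
  have h0 : (r : ZMod m) ^ n = 1 := by exact_mod_cast (ZMod.natCast_eq_natCast_iff _ _ _).2 hrn
  let u : (ZMod m)ˣ := Units.ofPowEqOne _ n h0 hn.ne'
  let T : Multiplicative (ZMod m) →* Equiv.Perm (ZMod m) := MulAction.toPermHom _ _
  have hT : ∀ v x, T v x = v.toAdd + x := fun _ _ => rfl
  let M : (ZMod m)ˣ →* Equiv.Perm (ZMod m) := MulAction.toPermHom _ _
  have hM : ∀ v x, M v x = v * x := fun _ _ => rfl
  have hu : (u : ZMod m) = r := rfl
  have hun : u ^ n = 1 := Units.ext (by simp [hu, h0])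
  obtain ⟨X, _, ξ, θ, x, y, -, h1, -, h2, -, h3⟩ := model m n r t
    (H := Equiv.Perm (ZMod m) × Multiplicative ℤ) (α := (T (.ofAdd 1), 1)) (β := (M u, .ofAdd 1))
    (w := (T (.ofAdd (-t)), .ofAdd n))
    (by ext x <;> simp [← map_inv, hT, add_left_comm])
    (by ext x <;> simp [← map_inv, hT, hM, hu, add_comm, add_mul, mul_comm (r : ZMod m), ht])
    (by
      have : ((T (.ofAdd 1), 1) : Equiv.Perm (ZMod m) × Multiplicative ℤ) ^ m = 1 := by
        ext x <;> simp [← map_pow, hT]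
      rw [this]; exact one_mem _)
    ⟨1, by ext x <;> simp [← map_pow, ← map_inv, hT, hun]⟩
    (by
      have : ((M u, .ofAdd 1) : Equiv.Perm (ZMod m) × Multiplicative ℤ) * (T (.ofAdd 1), 1) =
          (T (.ofAdd 1), 1) ^ r * (M u, .ofAdd 1) := by
        ext x <;> simp [← map_pow, hT, hM, hu, mul_add]
      rw [this, mul_inv_cancel_right, mul_inv_cancel]; exact one_mem _)
  obtain ⟨j, hj⟩ := h3 (x ^ k) (by rw [map_pow, h1, hk])
  rw [map_pow, h2] at hj
  have h4 := congrArg (fun p => Multiplicative.toAdd p.2) hj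
  have h5 : j = 0 := by simpa [hn.ne'] using h4
  subst h5
  have h6 := congrArg (fun p => p.1 0) hj
  simp [← map_pow, hT] at h6
  exact (ZMod.natCast_eq_zero_iff _ _).1 h6.symm

theorem lower (m n r t g : ℕ) (hn : 0 < n) (hrn : r ^ n ≡ 1 [MOD m]) (h1 : g ∣ m) (h2 : g ∣ t)
    (h3 : g ∣ ∑ i ∈ Finset.range n, r ^ i) :
    ∃ (X : Type) (_ : Group X) (ξ : X →* PresentedGroup (rels m n r t)) (x y : X),
      CE ξ ∧ ξ x = PresentedGroup.of true ∧ ξ y = PresentedGroup.of false ∧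
      ∀ k : ℕ, ⁅y, x⁆ ^ k = 1 → g ∣ k := by
  have h0 : (r : ZMod g) ^ n = 1 := by exact_mod_cast (ZMod.natCast_eq_natCast_iff _ _ _).2 (hrn.of_dvd h1)
  let u : (ZMod g)ˣ := Units.ofPowEqOne _ n h0 hn.ne'
  have hu : (u : ZMod g) = r := rfl
  let T : Multiplicative (ZMod g × ZMod g) →* Equiv.Perm (ZMod g × ZMod g) := MulAction.toPermHom _ _
  have hT : ∀ v x, T v x = v.toAdd + x := fun _ _ => rfl
  let φ : Equiv.Perm (ZMod g × ZMod g) := ⟨fun p => (p.1, p.1 + u * p.2), fun p => (p.1, u⁻¹ * (p.2 - p.1)),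
    fun p => by simp, fun p => by simp⟩
  have hφ : ∀ p, φ p = (p.1, p.1 + r * p.2) := fun _ => rfl
  have hφk : ∀ (k : ℕ) p, (φ ^ k) p = (p.1, ((∑ i ∈ Finset.range k, r ^ i : ℕ) : ZMod g) * p.1 + r ^ k * p.2) := by
    intro k
    induction k with
    | zero => simp
    | succ k ih => intro p; rw [pow_succ, Equiv.Perm.mul_apply, ih, hφ, Finset.sum_range_succ]; push_cast; ring_nf
  have hφn : φ ^ n = 1 := by
    ext p : 1; rw [hφk, (ZMod.natCast_eq_zero_iff _ _).2 h3, h0]; simp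
  have hc : φ * T (.ofAdd (1, 0)) = T (.ofAdd (1, 1)) * φ := by
    ext p <;> simp [hT, hφ, add_assoc]
  have hp : ∀ k : ℕ, g ∣ k → T (.ofAdd (1, 0)) ^ k = 1 := fun k hk => by
    ext p <;> simp [← map_pow, hT, (ZMod.natCast_eq_zero_iff _ _).2 hk]
  obtain ⟨X, _, ξ, θ, x, y, hce, e1, e2, e3, e4, -⟩ := model m n r t
    (α := T (.ofAdd (1, 0))) (β := φ) (w := T (.ofAdd (1 - r, 1)))
    (by rw [← T.map_mul, ← T.map_mul, mul_comm]) (by ext p <;> simp [hT, hφ]; ring)
    (by rw [hp m h1]; exact one_mem _) (by rw [hφn, hp t h2]; simp)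
    ⟨1, by rw [hc]; ext p <;> simp [← map_pow, ← map_inv, hT]; ring⟩
  refine ⟨X, inferInstance, ξ, x, y, hce, e1, e2, fun k hk => ?_⟩
  have h5 := congrArg θ hk
  rw [map_pow, map_commutatorElement, e3, e4, commutatorElement_def, hc, mul_inv_cancel_right,
    ← T.map_inv, ← T.map_mul, ← T.map_pow, map_one] at h5
  have := congrArg (fun z => (z 0).2) h5
  simp only [hT] at this
  simpa [ZMod.natCast_eq_zero_iff] using this
end

/-- Let `m, n ≥ 1`, `r ≥ 1` with `r ^ n ≡ 1 (mod m)`, and `l` a natural number; put `d = gcd(m, r - 1)`, `t = m l / d` and `h = d · gcd(m, 1 + r + ⋯ + r^(n-1)) / m`. The group presented by generators `a, b` and relations `a ^ m = 1`, `b ^ n = a ^ t`, `b a b⁻¹ = a ^ r` (a metacyclic group of order `m n`) has Schur multiplier cyclic of order `gcd(l, h)`. -/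
theorem result (m n r l : ℕ) (hm : 0 < m) (hn : 0 < n) (hr : 0 < r) (hrn : r ^ n ≡ 1 [MOD m]) : Cfsg.HasCyclicSchurMultiplier (PresentedGroup ({FreeGroup.of true ^ m, (FreeGroup.of false) ^ n * (FreeGroup.of true ^ (m * l / Nat.gcd m (r - 1)))⁻¹, FreeGroup.of false * FreeGroup.of true * (FreeGroup.of false)⁻¹ * (FreeGroup.of true ^ r)⁻¹} : Set (FreeGroup Bool))) (Nat.gcd l (Nat.gcd m (r - 1) * Nat.gcd m (∑ i ∈ Finset.range n, r ^ i) / m)) := by
  open Pointwise commutatorElement Subgroup in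
  open Cfsg.Agent.Schur in
  set d := Nat.gcd m (r - 1) with hd
  set s := ∑ i ∈ Finset.range n, r ^ i with hs
  have hd0 : 0 < d := Nat.gcd_pos_of_pos_left _ hm
  have hco := Nat.coprime_div_gcd_div_gcd (m := m) (n := r - 1) hd0
  obtain ⟨e, he⟩ : d ∣ m := Nat.gcd_dvd_left _ _
  obtain ⟨f, hf⟩ : d ∣ r - 1 := Nat.gcd_dvd_right _ _
  rw [← hd] at hco
  have hco' : Nat.Coprime e f := by
    have h1 : m / d = e := by rw [he]; exact Nat.mul_div_cancel_left _ hd0
    have h2 : (r - 1) / d = f := by rw [hf]; exact Nat.mul_div_cancel_left _ hd0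
    rwa [h1, h2] at hco
  have key : ∀ k, m ∣ (r - 1) * k → e ∣ k := fun k hk => by
    rw [hf, mul_assoc] at hk
    nth_rewrite 1 [he] at hk
    exact hco'.dvd_of_dvd_mul_left (Nat.dvd_of_mul_dvd_mul_left hd0 hk)
  have hes : e ∣ s := key s (by

    have h2 : (r - 1) * s = r ^ n - 1 := by
      obtain ⟨r, rfl⟩ : ∃ r', r = r' + 1 := ⟨r - 1, by omega⟩

      have h3 := geom_sum_mul_add r n
      rw [Nat.add_sub_cancel, hs, mul_comm]; omega
    rw [h2]; exact (Nat.modEq_iff_dvd' (Nat.one_le_pow _ _ hr)).1 hrn.symm)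
  obtain ⟨h, hh⟩ : e ∣ Nat.gcd m s := Nat.dvd_gcd ⟨d, by rw [he, mul_comm]⟩ hes
  have ht : m * l / d = e * l := by
    rw [he, mul_assoc]; exact Nat.mul_div_cancel_left _ hd0
  have hh' : d * Nat.gcd m s / m = h := by
    rw [hh, ← mul_assoc, ← he]; exact Nat.mul_div_cancel_left _ hm
  rw [ht, hh']
  change HasCyclicSchurMultiplier (PresentedGroup (rels m n r (e * l))) _
  set a : PresentedGroup (rels m n r (e * l)) := PresentedGroup.of true with ha
  set b : PresentedGroup (rels m n r (e * l)) := PresentedGroup.of false with hb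
  have r1 : a ^ m = 1 := PresentedGroup.one_of_mem (rels := rels m n r (e * l)) (Or.inl rfl)
  have r2 : b ^ n = a ^ (e * l) := mul_inv_eq_one.1
    (PresentedGroup.one_of_mem (rels := rels m n r (e * l)) (Or.inr (Or.inl rfl)))
  have r3 : b * a * b⁻¹ = a ^ r := mul_inv_eq_one.1
    (PresentedGroup.one_of_mem (rels := rels m n r (e * l)) (Or.inr (Or.inr rfl)))
  have hgen : Subgroup.closure {a, b} = ⊤ := by
    rw [← PresentedGroup.closure_range_of]; congr 1
    ext x; simp [ha, hb, eq_comm, or_comm]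
  haveI : Finite (PresentedGroup (rels m n r (e * l))) := by
    have fa : IsOfFinOrder a := isOfFinOrder_iff_pow_eq_one.2 ⟨m, hm, r1⟩
    have fb : IsOfFinOrder b := isOfFinOrder_iff_pow_eq_one.2 ⟨n * m, by positivity, by
      rw [pow_mul, r2, ← pow_mul, pow_mul', r1, one_pow]⟩
    haveI : Finite (zpowers a) := fa.finite_zpowers
    haveI : (zpowers a).Normal := by
      rw [← normalizer_eq_top_iff, eq_top_iff, ← hgen, closure_le]
      rintro _ (rfl | rfl)
      · exact le_normalizer (mem_zpowers _)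
      · refine mem_normalizer_fintype ?_
        rintro _ ⟨k, rfl⟩
        exact ⟨r * k, by simp only [← conj_zpow, r3, zpow_mul, zpow_natCast]⟩
    have h1 : zpowers a ⊔ zpowers b = ⊤ := by
      rw [eq_top_iff, ← hgen, closure_le]
      rintro _ (rfl | rfl)
      exacts [mem_sup_left (mem_zpowers _), mem_sup_right (mem_zpowers _)]
    have h2 := fa.finite_zpowers.mul fb.finite_zpowers
    rw [← normal_mul, h1] at h2
    exact Set.finite_univ_iff.1 h2
  obtain ⟨c, h1, h2, h3, h4⟩ := meta_upper (uπ_CE _) hgen (r := r) (by rw [r3, zpow_natCast])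
  have hr1 : (r : ℤ) - 1 = ((r - 1 : ℕ) : ℤ) := by omega
  rw [hr1, zpow_natCast] at h2
  have c1 : c ^ m = 1 := by exact_mod_cast h3 m 0 (by simp [r1])
  have c2 : c ^ (e * l) = 1 := by exact_mod_cast h3 (e * l : ℕ) n (by rw [zpow_natCast, zpow_natCast, r2])
  have c3 : c ^ s = 1 := by exact_mod_cast h4 n (e * l : ℕ) (by rw [zpow_natCast, r2])
  have c4 : c ^ (e * Nat.gcd l h) = 1 := by
    rw [← Nat.gcd_mul_left, ← hh]; exact pow_gcd_eq_one.2 ⟨c2, pow_gcd_eq_one.2 ⟨c1, c3⟩⟩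
  have h0 : 0 < h := Nat.pos_of_mul_pos_left (hh ▸ Nat.gcd_pos_of_pos_left _ hm)
  have hg : e * Nat.gcd l h ∣ Nat.gcd m s := by rw [hh]; exact Nat.mul_dvd_mul_left _ (Nat.gcd_dvd_right _ _)
  obtain ⟨X, _, ξ, x, y, hce, e1, e2, e3⟩ := lower m n r (e * l) (e * Nat.gcd l h) hn hrn
    (hg.trans (Nat.gcd_dvd_left _ _)) (Nat.mul_dvd_mul_left _ (Nat.gcd_dvd_left _ _))
    (hg.trans (Nat.gcd_dvd_right _ _))
  refine hasCyclic_of (Nat.gcd_pos_of_pos_right _ h0).ne' (SM_le h1) ?_ hce (x := ⁅y, x⁆ ^ e)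
    ⟨?_, pow_mem (commutator_mem_commutator (mem_top _) (mem_top _)) _⟩ ?_
  · obtain ⟨j, hj⟩ := key (orderOf (uπ _ c)) (dvd_of_pow m n r (e * l) hn hrn (by
      have : ((e * l * (r - 1) : ℕ) : ZMod m) = 0 := (ZMod.natCast_eq_zero_iff _ _).2
        ⟨l * f, by rw [hf]; nth_rewrite 1 [he]; ring⟩
      rw [Nat.cast_mul, Nat.cast_sub hr] at this
      linear_combination this) _ (by rw [pow_mul, ← h2, pow_orderOf_eq_one]))
    rw [hj, ← pow_mul, mul_right_comm, pow_mul, c4, one_pow]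
  · show ξ _ = 1
    rw [map_pow, map_commutatorElement, e1, e2, commutatorElement_def, r3, ← zpow_natCast a r, ← zpow_sub_one,
      hr1, zpow_natCast, ← pow_mul, hf, mul_right_comm, ← he, pow_mul, r1, one_pow]
  · have := e3 _ (by rw [pow_mul]; exact pow_orderOf_eq_one (⁅y, x⁆ ^ e))
    exact Nat.dvd_of_mul_dvd_mul_left (Nat.pos_of_mul_pos_left (he ▸ hm)) this

end Cfsg.Agent.S3967
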