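import Cfsg.Statements.S3969
import Cfsg.Agent.Lib.Solv.PGrp
import Cfsg.Agent.Lib.Transfer.Hall

set_option autoImplicit false
open Cfsg

namespace Cfsg.Agent.S3969

/-- Let `P` be an abelian Sylow `p`-subgroup of the finite group `G`, generated by `d` elements (`d` its minimal number of generators). If the order of `G` is coprime to `(p - 1)(p ^ 2 - 1) ⋯ (p ^ d - 1)`, then `G` has a normal `p`-complement. (The classical statement needs only the largest number of cyclic factors of `P` of equal order in place of `d`; the form here follows from it.) -/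
theorem result {G : Type*} [Group G] [Finite G] (p : ℕ) [Fact p.Prime] (P : Sylow p G) (hab : IsMulCommutative (P : Subgroup G)) (hcop : Nat.Coprime (Nat.card G) (∏ i ∈ Finset.Icc 1 (Group.rank (P : Subgroup G)), (p ^ i - 1))) : Cfsg.HasNormalPComplement p G := by
  open Pointwise commutatorElement Subgroup Cfsg.Agent.Solv in
  open Cfsg.Agent.Transfer in
  have hp : p.Prime := Fact.out
  refine hasNPC_of_abelian_sylow P hab (res_le_iff.2 fun g hg h1 => ?_)
  obtain ⟨n, hn⟩ := (isPGroup_of_pow_eq_one (H := omegaAb p (P : Subgroup G) hab) fun x hx => hx.2).exists_card_eq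
  have h2 : n ≤ Group.rank (P : Subgroup G) := by
    letI : CommGroup (P : Subgroup G) := IsMulCommutative.instCommGroup
    have h2 := card_dvd_exponent_pow_rank' (G := (P : Subgroup G) ⧸ (powMonoidHom p).range) (n := p) fun x => by
      obtain ⟨x, rfl⟩ := QuotientGroup.mk_surjective x
      exact (QuotientGroup.eq_one_iff _).2 ⟨x, rfl⟩
    have h3 : Nat.card ((P : Subgroup G) ⧸ (powMonoidHom p).range) = p ^ n := by
      have h4 := (powMonoidHom p : (P : Subgroup G) →* _).range.card_mul_index
      rw [← index_ker, ← (powMonoidHom p : (P : Subgroup G) →* _).ker.card_mul_index, mul_comm] at h4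
      rw [← hn, ← card_subgroupOf_of_le (K := (P : Subgroup G)) (H := omegaAb p (P : Subgroup G) hab) fun x hx => hx.1]
      exact (Nat.eq_of_mul_eq_mul_right (Nat.pos_of_ne_zero index_ne_zero_of_finite) h4).trans (by
        congr 2; ext x; simp [mem_subgroupOf, mem_omegaAb, Subtype.ext_iff])
    rw [h3, Nat.pow_dvd_pow_iff_le_right hp.one_lt] at h2
    exact h2.trans (Group.rank_le_of_surjective _ (QuotientGroup.mk'_surjective _))
  have h3 : res p (normalizer ((P : Subgroup G) : Set G)) ≤ centralizer (omegaAb p (P : Subgroup G) hab : Set G) := by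
    by_contra h3
    obtain ⟨q, j, a1, -, a2, a3, a4⟩ := exists_prime_of_not_res_le hn (le_normalizer_of_omega le_rfl fun x => mem_omegaAb) h3
    exact a1.ne_one (Nat.eq_one_of_dvd_coprimes hcop (a2.trans (card_subgroup_dvd_card _))
      (a4.trans (Finset.dvd_prod_of_mem (fun i => p ^ i - 1) (Finset.mem_Icc.2 ⟨by omega, by omega⟩))))
  refine zpowers_le.1 (coprime_abelian_le_centralizer hab (zpowers_le.2 hg)
    (coprime_card_of_isPGroup' P.2 (by rwa [Nat.card_zpowers])) fun v hv h4 a ha => ?_)
  refine (mem_centralizer_iff.1 (zpowers_le.2 (h3 (mem_res hg h1)) ha) v ⟨hv, ?_⟩).symm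
  rw [← eq_of_isPGroup_of_dvd P.2 h4 (Solv.orderOf_dvd_card_of_mem hv), pow_orderOf_eq_one]

end Cfsg.Agent.S3969
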