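import Cfsg.Statements.S3970
import Cfsg.Agent.Lib.FT.Final
import Cfsg.Agent.Lib.Transfer.Hall
import Cfsg.Agent.Lib.Solv.PGrp
import Cfsg.Agent.Lib.Solv.Coprime
import Cfsg.Agent.Lib.Solv.Frattini
import Cfsg.Agent.S0014

set_option autoImplicit false
open Cfsg

namespace Cfsg.Agent.S3970

open Subgroup Cfsg.Agent.Transfer Cfsg.Agent.Solv

theorem solv_of_npc {G : Type*} [Group G] [Finite G] (h : HasNormalPComplement 2 G) :
    Group.IsSolvable G := by
  obtain ⟨P, N, hN, hc⟩ := h
  have h1 : Odd (Nat.card N) := by rw [← hc.index_eq_card]; exact odd_index_sylow_two P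
  have h2 := PF.odd_solvable h1
  obtain ⟨k, hk⟩ := IsPGroup.iff_card.1 P.isPGroup'
  have h3 : IsPGroup 2 (G ⧸ N) := IsPGroup.of_card (n := k) (by
    rw [← hk, ← hc.symm.index_eq_card]; rfl)
  have h4 := h3.isNilpotent
  exact Group.isSolvable_of_ker_le_range N.subtype (QuotientGroup.mk' N) (by simp)

theorem card_omega {P : Type*} [CommGroup P] [Finite P] (hP : IsPGroup 2 P) (hr : Group.rank P ≤ 2) :
    Nat.card {x : P // x ^ 2 = 1} ∣ 2 ^ 2 := by
  obtain ⟨n, hn⟩ := (hP.to_quotient (frattini P)).exists_card_eq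
  obtain ⟨S, hS, hS'⟩ := Group.rank_spec P
  have h1 := (S0014.result 2 n hP hn).2 S hS'
  have h2 : frattini P ≤ (powMonoidHom 2 : P →* P).range :=
    frattini_le_of_commutator_le_of_pow_mem (p := 2)
      (by rw [commutator_eq_bot]; exact bot_le) fun x => ⟨x, rfl⟩
  have h3 : Nat.card {x : P // x ^ 2 = 1} = (powMonoidHom 2 : P →* P).range.index := by
    have h4 := (powMonoidHom 2 : P →* P).range.card_mul_index
    have h5 := (powMonoidHom 2 : P →* P).ker.card_mul_index
    rw [index_ker, mul_comm, ← h4] at h5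
    exact Nat.eq_of_mul_eq_mul_left Nat.card_pos h5
  rw [h3]
  exact (index_dvd_of_le h2).trans (by rw [show (frattini P).index = 2 ^ n from hn]; exact pow_dvd_pow _ (by omega))

/-- Let `G` be a finite group such that for every prime `p` dividing its order, other than the largest such prime, the Sylow `p`-subgroups are abelian and generated by at most two elements, and suppose `12` does not divide the order of `G`. Then `G` is solvable. In particular a group of cube-free order not divisible by `12` is solvable. -/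
theorem result {G : Type*} [Group G] [Finite G] (h : ∀ p : ℕ, p.Prime → p ∣ Nat.card G → (∃ q : ℕ, q.Prime ∧ q ∣ Nat.card G ∧ p < q) → ∀ P : Sylow p G, IsMulCommutative (P : Subgroup G) ∧ Group.rank (P : Subgroup G) ≤ 2) (h12 : ¬ 12 ∣ Nat.card G) : Group.IsSolvable G := by
  by_cases h2 : 2 ∣ Nat.card G
  swap
  · exact PF.odd_solvable (Nat.odd_iff.2 (by omega))
  apply solv_of_npc
  by_cases hq : ∃ q : ℕ, q.Prime ∧ q ∣ Nat.card G ∧ 2 < q
  swap
  · apply hasNPC_of_isPGroup
    rw [IsPGroup.iff_card]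
    refine ⟨_, Nat.eq_prime_pow_of_unique_prime_dvd Nat.card_pos.ne' fun {q} hq' hd => ?_⟩
    by_contra hne
    exact hq ⟨q, hq', hd, lt_of_le_of_ne hq'.two_le (Ne.symm hne)⟩
  obtain ⟨P⟩ : Nonempty (Sylow 2 G) := inferInstance
  obtain ⟨hab, hr⟩ := h 2 Nat.prime_two h2 hq P
  refine hasNPC_of_abelian_sylow P hab ?_
  by_cases h3 : 3 ∣ Nat.card G
  · obtain ⟨n, hn⟩ := P.isPGroup'.exists_card_eq
    have h4 : n ≤ 1 := by
      by_contra h5
      have h6 : 2 ^ 2 ∣ Nat.card G :=
        (pow_dvd_pow 2 (by omega)).trans (hn ▸ card_subgroup_dvd_card (P : Subgroup G))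
      omega
    by_contra h5
    obtain ⟨q, j, hq, -, -, hj, hdvd⟩ := exists_prime_of_not_res_le hn le_rfl h5
    rw [show n - j = 1 by omega] at hdvd
    exact hq.one_lt.ne' (by simpa using hdvd)
  · have hB : Nat.card (omegaAb 2 (P : Subgroup G) hab) ∣ 2 ^ 2 := by
      letI : CommGroup (P : Subgroup G) := { mul_comm := hab.is_comm.comm }
      have := card_omega (P := (P : Subgroup G)) P.isPGroup' hr
      rwa [show Nat.card (omegaAb 2 (P : Subgroup G) hab) =
          Nat.card {x : (P : Subgroup G) // x ^ 2 = 1} from Nat.card_congr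
        { toFun := fun x => ⟨⟨x.1, x.2.1⟩, Subtype.ext x.2.2⟩
          invFun := fun x => ⟨x.1.1, x.1.2, congrArg Subtype.val x.2⟩
          left_inv := fun _ => rfl
          right_inv := fun _ => rfl }]
    obtain ⟨n, hn2, hn⟩ := (Nat.dvd_prime_pow Nat.prime_two).1 hB
    have h5 : res 2 (normalizer ((P : Subgroup G) : Set G)) ≤
        centralizer (omegaAb 2 (P : Subgroup G) hab : Set G) := by
      by_contra h5
      obtain ⟨q, j, hq, -, hd, hj, hdvd⟩ := exists_prime_of_not_res_le hn
        (le_normalizer_of_omega (p := 2) le_rfl fun x => mem_omegaAb) h5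
      have hqG : q ∣ Nat.card G := hd.trans (card_subgroup_dvd_card _)
      have h6 : n - j = 1 ∨ n - j = 2 := by omega
      rcases h6 with h6 | h6 <;> rw [h6] at hdvd
      · exact hq.one_lt.ne' (by simpa using hdvd)
      · have : q = 3 := (Nat.prime_dvd_prime_iff_eq hq Nat.prime_three).1 (by simpa using hdvd)
        exact h3 (this ▸ hqG)
    rw [res_le_iff]
    intro g hg hc
    rw [← zpowers_le_centralizer_iff]
    obtain ⟨k, hk⟩ := P.isPGroup'.exists_card_eq
    refine coprime_abelian_le_centralizer hab (zpowers_le.2 hg)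
      (by rw [Nat.card_zpowers, hk]; exact hc.pow_right _) fun v hv hp a ha => ?_
    have h6 : orderOf v = 2 := by
      have h7 := Transfer.orderOf_dvd_card_of_mem hv
      rw [hk] at h7
      exact (Nat.prime_dvd_prime_iff_eq hp Nat.prime_two).1 (hp.dvd_of_dvd_pow h7)
    have h7 : a ∈ centralizer (omegaAb 2 (P : Subgroup G) hab : Set G) :=
      (zpowers_le.2 (h5 (mem_res hg hc))) ha
    exact (h7 v (mem_omegaAb.2 ⟨hv, by rw [← h6, pow_orderOf_eq_one]⟩)).symm

end Cfsg.Agent.S3970
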