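import Cfsg.Statements.S3971
import Cfsg.Agent.Lib.BG.MinNA

set_option autoImplicit false
open Cfsg

namespace Cfsg.Agent.S3971

/-- Let `G` be a finite group of order `2 ^ a * n` with `n` odd and not divisible by `3`, and suppose `G` has an element of order `2 ^ (a - 1)` (so a Sylow `2`-subgroup has a cyclic subgroup of index at most `2`). Then `G` has a normal subgroup of order `n`. -/
theorem result {G : Type*} [Group G] [Finite G] (a n : ℕ) (hG : Nat.card G = 2 ^ a * n) (hn : Odd n) (h3 : ¬ 3 ∣ n) (hx : ∃ x : G, orderOf x = 2 ^ (a - 1)) : ∃ N : Subgroup G, N.Normal ∧ Nat.card N = n := by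
  open Pointwise commutatorElement Subgroup in
  open Cfsg.Agent.Comp Cfsg.Agent.BG Subgroup commutatorElement in
  haveI := Fact.mk Nat.prime_two
  obtain ⟨x, hx⟩ := hx
  obtain ⟨P, p1, p2⟩ := exists_sylIn_ge (isPGroup_zpowers_of_orderOf hx) le_top
  have c1 : Nat.card P = 2 ^ a := by
    rw [p2.card_eq, card_top, hG, Nat.factorization_mul (by positivity) hn.pos.ne', Finsupp.add_apply,
      Nat.factorization_eq_zero_of_not_dvd hn.not_two_dvd_nat, Nat.Prime.factorization_pow Nat.prime_two]
    simp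
  have h : HasNormalPComplement 2 G := by
    by_contra e
    obtain ⟨p, hp, p3, Q, g, q1, q2, q3, q4⟩ := Solv.exists_pair_of_not_hasNPC e
    haveI := Fact.mk hp
    have g1 : p ∣ n := by
      have := (dvd_card_of_isPGroup q2 fun e => q4 (zpowers_eq_bot.1 e ▸ one_mem _)).trans (card_subgroup_dvd_card _)
      rw [hG] at this
      exact ((Nat.coprime_primes hp Nat.prime_two).2 p3).pow_right a |>.dvd_of_dvd_mul_left this
    have g2 : 5 ≤ p := hp.five_le_of_ne_two_of_ne_three p3 (by rintro rfl; exact h3 g1)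
    obtain ⟨k, -, k1⟩ := p2.exists_le_cj q1 le_top
    have d1 : (cj(k, zpowers x) ⊓ Q).relIndex Q ≤ 2 := by
      rw [inf_relIndex_right]
      refine (relIndex_le_of_le_right k1 index_ne_zero_of_finite).trans ?_
      rw [relIndex_cj]
      refine Nat.le_of_mul_le_mul_left ?_ (Nat.card_pos (α := zpowers x))
      rw [Solv.card_mul_relIndex p1, c1, Nat.card_zpowers, hx, ← pow_succ]
      exact Nat.pow_le_pow_right (by norm_num) (by omega)
    obtain ⟨d, d2, d3⟩ := Solv.isCyclic_iff_exists_le_zpowers.1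
      (isCyclic_of_le (inf_le_left : cj(k, zpowers x) ⊓ Q ≤ _) (isCyclic_cj.2 inferInstance))
    set F := (frattini Q).map Q.subtype
    have f1 : F ≤ Q := map_subtype_le _
    have hq : zpowers g ⊔ Q ≤ Nm(F) := (sup_le (zpowers_le.2 q3) le_normalizer).trans
      (Solv.normalizer_le_normalizer_map_of_characteristic Q _)
    have d4 : (d : G) ∈ zpowers g ⊔ Q := mem_sup_right d2.2
    have d5 : Nat.card (img hq (zpowers d ⊔ F)) ≤ 2 := by
      rw [img_sup_ker (zpowers_le.2 d4) (f1.trans le_sup_right), img_zpowers (h := hq) ⟨d, d4⟩, Nat.card_zpowers]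
      refine orderOf_le_of_pow_eq_one two_pos ?_
      rw [← map_pow, qmap_eq_one]
      exact Solv.pow_mem_map_frattini q1 d2.2
    have d6 : Nat.card (img hq Q) ≤ 4 := by
      have d7 : zpowers d ⊔ F ≤ Q := sup_le (zpowers_le.2 d2.2) f1
      rw [← Solv.card_mul_relIndex (img_mono d7), relIndex_img (d7.trans le_sup_right) le_sup_right le_sup_right]
      exact Nat.mul_le_mul d5 ((relIndex_le_of_le_left (d3.trans le_sup_left) index_ne_zero_of_finite).trans d1)
    refine q4 (zpowers_le.1 (Solv.coprime_frattini_le_centralizer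
      ((Solv.coprime_card_of_isPGroup_ne p3 q2 q1).coprime_dvd_right (card_subgroup_dvd_card _)) ?_ (zpowers_le.2 q3)))
    rw [Subgroup.commutator_comm, ← img_le_centralizer_iff (h := hq) le_sup_left le_sup_right]
    intro y hy z hz
    by_cases e : z = 1
    · rw [e, one_mul, mul_one]
    have a1 := Cls5.relIndex_C1_lt (img_le_normalizer (h := hq) (zpowers_le.2 q3)) hz e
    obtain ⟨j, hj⟩ := relIndex_eq_pow (isPGroup_img (h := hq) q2) C1(z)
    obtain rfl : j = 0 := by
      by_contra t
      have := Nat.le_self_pow t p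
      omega
    exact (mem_centralizer_singleton_iff.1 (relIndex_eq_one.1 hj hy)).symm
  obtain ⟨N, n1, n2⟩ := (Transfer.hasNPC_iff_sylow p2.toSylowTop).1 h
  refine ⟨N, n1, Nat.eq_of_mul_eq_mul_right (pow_pos two_pos a) ?_⟩
  rw [mul_comm n, ← hG, ← n2.card_mul, ← c1]
  rfl

end Cfsg.Agent.S3971
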