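import Cfsg.Statements.S3973
import Cfsg.Agent.Lib.Schur.Two

set_option autoImplicit false
open Cfsg

namespace Cfsg.Agent.S3973
section
open Pointwise commutatorElement Subgroup
open Cfsg.Agent.Schur

theorem rank_bound {K L ι : Type*} [CommGroup K] [AddCommGroup L] [Module.Free ℤ L] [Module.Finite ℤ L]
    [Fintype ι] (φ : K →* Multiplicative L) {m : ℕ} (hm : m ≠ 0) (hfi : ∀ x, x ^ m ∈ φ.range) (v : ι → K)
    (hv : Subgroup.closure (Set.range v) = ⊤) [Group.FG φ.ker] :
    Group.rank φ.ker ≤ Fintype.card ι - Module.finrank ℤ L := by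
  classical
  let g : (ι → ℤ) →ₗ[ℤ] Additive K := Fintype.linearCombination ℤ (fun i => Additive.ofMul (v i))
  have hg : Function.Surjective g := fun x => by
    have : Subgroup.closure (Set.range v) ≤ AddSubgroup.toSubgroup' (LinearMap.range g).toAddSubgroup := by
      rw [closure_le]; rintro _ ⟨i, rfl⟩
      exact ⟨Pi.single i 1, by simp [g]; rfl⟩
    exact this (hv.ge (mem_top x.toMul))
  let φ' : Additive K →ₗ[ℤ] L := (MonoidHom.toAdditiveLeft φ).toIntLinearMap
  let f := φ'.comp g
  have h1 : Module.finrank ℤ (LinearMap.range f) = Module.finrank ℤ L := by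
    refine le_antisymm (Submodule.finrank_le _) ?_
    rw [← (DistribSMul.toLinearMap ℤ L m).finrank_range_of_inj
      (AddSubgroup.distribSMulToLinearMap_injective_of_isTorsionFree hm)]
    refine Submodule.finrank_mono ?_
    rintro _ ⟨x, rfl⟩
    obtain ⟨y, hy⟩ := hfi (Multiplicative.ofAdd x)
    obtain ⟨z, hz⟩ := hg (Additive.ofMul y)
    exact ⟨z, by simp only [f, LinearMap.comp_apply, hz]; exact congrArg Multiplicative.toAdd hy⟩
  have h2 := (LinearMap.ker f).finrank_quotient_add_finrank
  rw [f.quotKerEquivRange.finrank_eq, h1, Module.finrank_fintype_fun_eq_card] at h2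
  let b := Module.finBasis ℤ (LinearMap.ker f)
  let k : LinearMap.ker f →ₗ[ℤ] Additive φ.ker := AddMonoidHom.toIntLinearMap
    (AddMonoidHom.mk' (fun x => Additive.ofMul ⟨(g x).toMul, congrArg Multiplicative.ofAdd x.2⟩)
      (fun x y => congrArg Additive.ofMul (Subtype.ext (by simp))))
  refine (Group.rank_le (S := Finset.univ.image (fun i => (k (b i)).toMul)) ?_).trans ?_
  · rw [eq_top_iff]
    rintro x -
    obtain ⟨z, hz⟩ := hg (Additive.ofMul x.1)
    have hz' : z ∈ LinearMap.ker f := by
      simp only [f, LinearMap.mem_ker, LinearMap.comp_apply, hz]; exact congrArg Multiplicative.toAdd x.2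
    have h3 : x = (k ⟨z, hz'⟩).toMul := Subtype.ext (congrArg Additive.toMul hz).symm
    rw [h3, ← b.sum_repr ⟨z, hz'⟩, map_sum, toMul_sum]
    refine prod_mem fun i _ => ?_
    rw [map_smul, toMul_zsmul]
    exact zpow_mem (Subgroup.subset_closure (by simp)) _
  · refine Finset.card_image_le.trans ?_
    rw [Finset.card_univ, Fintype.card_fin]; omega
end

/-- If a finite group is presented by `n` generators and a finite set of `r` relators, then its Schur multiplier can be generated by `r - n` elements. In particular a finite group with a presentation having as many relators as generators has trivial Schur multiplier. -/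
theorem result (n : ℕ) (rels : Finset (FreeGroup (Fin n))) [Finite (PresentedGroup (rels : Set (FreeGroup (Fin n))))] {A : Type*} [CommGroup A] [Finite A] (hA : Cfsg.HasSchurMultiplier (PresentedGroup (rels : Set (FreeGroup (Fin n)))) A) : Group.rank A ≤ rels.card - n := by
  open Pointwise commutatorElement Subgroup in
  open Cfsg.Agent.Schur in
  obtain ⟨eA⟩ := hasSchur_iff.1 hA
  let π := PresentedGroup.mk (rels : Set (FreeGroup (Fin n)))
  have hs : Function.Surjective π := PresentedGroup.mk_surjective _
  obtain ⟨η, hη⟩ := u_lift (cπ_CE hs)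
  let eU := MulEquiv.ofBijective _ (mul_equiv_free hs hη)
  letI : CommGroup (cπ π).ker := { (inferInstance : Group _) with
    mul_comm := fun a b => Subtype.ext (cent_comm (cπ_CE hs).cent b.2 _) }
  let ab : cq π →* Multiplicative (FreeAbelianGroup (Fin n)) :=
    QuotientGroup.lift _ (Abelianization.of : FreeGroup (Fin n) →* Abelianization (FreeGroup (Fin n)))
      ((commutator_mono le_top le_top).trans (Abelianization.commutator_subset_ker _))
  have hab : ab.ker = _root_.commutator (cq π) := by
    have h1 : (_root_.commutator (FreeGroup (Fin n))).map (QuotientGroup.mk' _) = _root_.commutator (cq π) := by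
      rw [map_commutator_eq, MonoidHom.range_eq_top.2 (QuotientGroup.mk'_surjective _)]; rfl
    apply le_antisymm
    · intro z hz
      obtain ⟨z, rfl⟩ := QuotientGroup.mk_surjective z
      have : z ∈ _root_.commutator (FreeGroup (Fin n)) := by rw [← Abelianization.ker_of]; exact hz
      exact h1.le ⟨z, this, rfl⟩
    · exact Abelianization.commutator_subset_ker _
  let φ := ab.comp (cπ π).ker.subtype
  have e2 : MM (cπ π) ≃* φ.ker := (subgroupOfEquivOfLe (inf_le_left : MM (cπ π) ≤ _)).symm.trans
    (MulEquiv.subgroupCongr (by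
      ext x; rw [mem_subgroupOf, mem_inf, ← hab]; exact and_iff_right x.2))
  haveI : Finite φ.ker := Finite.of_equiv _ (eU.trans e2).toEquiv
  rw [Group.rank_congr (eA.symm.trans (eU.trans e2))]
  have := rank_bound φ (m := Nat.card (PresentedGroup (rels : Set (FreeGroup (Fin n))))) Nat.card_pos.ne'
    (fun x => by
      obtain ⟨y, rfl⟩ : ∃ y, ab y = x := by
        obtain ⟨x, hx⟩ := QuotientGroup.mk_surjective (s := _root_.commutator (FreeGroup (Fin n))) x
        exact ⟨x, hx⟩
      exact ⟨⟨y ^ _, by rw [MonoidHom.mem_ker, map_pow, pow_card_eq_one']⟩, map_pow ab _ _⟩)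
    (fun r : rels => ⟨QuotientGroup.mk' _ r.1, PresentedGroup.one_of_mem r.2⟩) (by
      rw [eq_top_iff]
      rintro ⟨x, hx⟩ -
      obtain ⟨x, rfl⟩ := QuotientGroup.mk'_surjective _ x
      set W := Subgroup.closure (Set.range (fun r : rels =>
        (⟨QuotientGroup.mk' _ r.1, PresentedGroup.one_of_mem r.2⟩ : (cπ π).ker)))
      haveI : (W.map (cπ π).ker.subtype).Normal := ⟨fun z hz g => by
        rw [cent_comm (cπ_CE hs).cent (map_subtype_le _ hz) g]; simpa using hz⟩
      have h1 : normalClosure (rels : Set (FreeGroup (Fin n))) ≤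
          (W.map (cπ π).ker.subtype).comap (QuotientGroup.mk' _) :=
        normalClosure_le_normal fun r hr => ⟨_, Subgroup.subset_closure ⟨⟨r, hr⟩, rfl⟩, rfl⟩
      obtain ⟨y, hy, h2⟩ := h1 (PresentedGroup.mk_eq_one_iff.1 hx)
      rwa [← show y = ⟨_, hx⟩ from Subtype.ext h2])
  rwa [(FreeAbelianGroup.equivFinsupp (Fin n)).toIntLinearEquiv.finrank_eq, Module.finrank_finsupp_self,
    Fintype.card_fin, Fintype.card_coe] at this

end Cfsg.Agent.S3973
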