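import Cfsg.Statements.S3974
import Cfsg.Agent.Lib.Schur.Two

set_option autoImplicit false
universe u v
open Cfsg

namespace Cfsg.Agent.S3974

/-- Let `Q` be a finite group with Schur multiplier `A`. Any two Schur covering groups of `Q` (finite stem extensions `σ₁ : Γ₁ →* Q`, `σ₂ : Γ₂ →* Q` with kernels isomorphic to `A`, `Γ₁, Γ₂` in the universe of `Q`) are isomorphic over `Q` — there is a group isomorphism `e : Γ₁ ≃* Γ₂` with `σ₂ ∘ e = σ₁` — if and only if the order of the commutator quotient of `Q` is coprime to the order of `A`. In particular a finite perfect group has a unique Schur covering group up to isomorphism over it. -/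
theorem result {Q : Type u} [Group Q] [Finite Q] {A : Type v} [CommGroup A] (hA : Cfsg.HasSchurMultiplier Q A) : (∀ (Γ₁ Γ₂ : Type u) [Group Γ₁] [Finite Γ₁] [Group Γ₂] [Finite Γ₂] (σ₁ : Γ₁ →* Q) (σ₂ : Γ₂ →* Q), Cfsg.IsStemExtension σ₁ → Cfsg.IsStemExtension σ₂ → Nonempty (σ₁.ker ≃* A) → Nonempty (σ₂.ker ≃* A) → ∃ e : Γ₁ ≃* Γ₂, σ₂.comp e.toMonoidHom = σ₁) ↔ Nat.Coprime (Nat.card (Abelianization Q)) (Nat.card A) := by
  open Pointwise commutatorElement Subgroup in
  open Cfsg.Agent.Schur in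
  obtain ⟨eA⟩ := hasSchur_iff.1 hA
  have hsup : ∀ {Γ : Type u} [Group Γ] {σ : Γ →* Q} {β : UU Q →* Γ}, Cover σ β →
      ∀ x, uπ Q x = 1 → ∃ s ∈ β.ker, ∃ m ∈ SM Q, x = s * m := by
    intro Γ _ σ β h x hx
    obtain ⟨m, hm, h1⟩ := (map_MM (uπ_CE Q).surj h.stem.2.1 h.over).ge
      (show β x ∈ MM σ by rw [stem_MM h.stem]; exact (h.over x).trans hx)
    exact ⟨x * m⁻¹, by simp [MonoidHom.mem_ker, h1], m, hm, by simp⟩
  letI : CommGroup (uπ Q).ker := { (inferInstance : Group _) with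
    mul_comm := fun a b => Subtype.ext (cent_comm (uπ_CE Q).cent b.2 _) }
  constructor
  · intro h
    by_contra hc
    obtain ⟨p, hp, hp1, hp2⟩ := Nat.Prime.not_coprime_iff_dvd.1 hc
    haveI : Fact p.Prime := ⟨hp⟩
    letI : CommGroup (SM Q) := { (inferInstance : Group _) with
      mul_comm := fun a b => Subtype.ext (cent_comm (uπ_CE Q).cent b.2.1 _) }
    rw [← Nat.card_congr eA.toEquiv] at hp2
    obtain ⟨m0, hm0⟩ : ∃ m0 : SM Q, m0 ∉ (powMonoidHom p : SM Q →* SM Q).range := by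
      by_contra hcon
      push Not at hcon
      obtain ⟨y, hy⟩ := exists_prime_orderOf_dvd_card' p hp2
      have := (injective_iff_map_eq_one _).1 (Finite.injective_iff_surjective.2 hcon) y
        (by rw [powMonoidHom_apply, ← hy, pow_orderOf_eq_one])
      rw [this, orderOf_one] at hy; exact hp.one_lt.ne hy
    obtain ⟨Γ₁, i1, i2, σ₁, β₁, h₁⟩ := exists_cover Q
    -- the lattice
    let f : Additive (uπ Q).ker →ₗ[ℤ] FreeAbelianGroup Q :=
      (MonoidHom.toAdditiveLeft ((uab Q).comp (uπ Q).ker.subtype)).toIntLinearMap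
    let b := Module.finBasis ℤ (LinearMap.range f)
    obtain ⟨y, hy⟩ := exists_prime_orderOf_dvd_card' p hp1
    obtain ⟨y, rfl⟩ := (QuotientGroup.mk_surjective (s := _root_.commutator Q)) y
    obtain ⟨x, rfl⟩ := (uπ_CE Q).surj y
    have hmap : (_root_.commutator (UU Q)).map (uπ Q) = _root_.commutator Q := by
      rw [map_commutator_eq, MonoidHom.range_eq_top.2 (uπ_CE Q).surj]; rfl
    have hx1 : uπ Q (x ^ p) ∈ _root_.commutator Q := by
      rw [← Abelianization.ker_of, MonoidHom.mem_ker, map_pow, map_pow, ← hy]; exact pow_orderOf_eq_one _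
    obtain ⟨c, hc, hc2⟩ := hmap.ge hx1
    let z : (uπ Q).ker := ⟨x ^ p * c⁻¹, by rw [MonoidHom.mem_ker, map_mul, map_inv, hc2, mul_inv_cancel]⟩
    have hz : uab Q z = uab Q x ^ p := by
      simp [z, show uab Q c = 1 from (uab_ker Q).ge hc]
    obtain ⟨i, hi⟩ : ∃ i, ¬ (p : ℤ) ∣ b.repr (f.rangeRestrict (Additive.ofMul z)) i := by
      by_contra hcon
      push Not at hcon
      choose k hk using hcon
      obtain ⟨w, hw⟩ := f.surjective_rangeRestrict (∑ i, k i • b i)
      have h1 : f.rangeRestrict (Additive.ofMul z) = (p : ℤ) • f.rangeRestrict w := by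
        rw [hw, ← b.sum_repr (f.rangeRestrict (Additive.ofMul z)), Finset.smul_sum]
        simp only [hk, mul_smul]
      have h2 : (p : ℤ) • (uab Q x).toAdd = (p : ℤ) • f w := by
        rw [natCast_zsmul, ← toAdd_pow, ← hz]; exact congrArg Subtype.val h1
      have h3 := smul_right_injective _ (by exact_mod_cast hp.ne_zero) h2
      have h4 : x * (w.toMul : UU Q)⁻¹ ∈ _root_.commutator (UU Q) := by
        rw [← uab_ker, MonoidHom.mem_ker, map_mul, map_inv, mul_inv_eq_one]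
        exact Multiplicative.toAdd.injective h3
      have h5 := hmap.le ⟨_, h4, rfl⟩
      rw [map_mul, map_inv, show uπ Q w.toMul = 1 from w.toMul.2, inv_one, mul_one,
        ← QuotientGroup.eq_one_iff] at h5
      rw [h5] at hy
      exact hp.one_lt.ne (orderOf_one.symm.trans hy)
    let g : (uπ Q).ker →* SM Q := MonoidHom.mk' (fun a => m0 ^ (b.repr (f.rangeRestrict (Additive.ofMul a)) i))
      (fun a a' => by simp [zpow_add])
    have hg : ∀ a : (uπ Q).ker, (a : UU Q) ∈ SM Q → g a = 1 := fun a ha => by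
      have : f.rangeRestrict (Additive.ofMul a) = 0 :=
        Subtype.ext (congrArg Multiplicative.toAdd ((uab_ker Q).ge ha.2))
      simp [g, this]
    let j : SM Q →* (uπ Q).ker := inclusion inf_le_left
    let t : (uπ Q).ker →* (uπ Q).ker := MonoidHom.id _ * (j.comp g)⁻¹
    have ht : ∀ a, (t a : UU Q) = a * (g a : UU Q)⁻¹ := fun _ => rfl
    let S := ((β₁.ker.subgroupOf (uπ Q).ker).map t).map (uπ Q).ker.subtype
    obtain ⟨Γ₂, j1, j2, σ₂, β₂, h₂, hk₂⟩ := exists_cover_of (S := S) (by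
      rw [eq_bot_iff]
      rintro _ ⟨⟨_, ⟨a, ha, rfl⟩, rfl⟩, h2⟩
      have h3 : (a : UU Q) ∈ SM Q := by
        simpa [ht] using mul_mem h2 (g a).2
      have h4 : a = 1 := Subtype.ext (h₁.inj a h3 ha)
      simp [h4]) (by
      refine le_antisymm (sup_le (map_subtype_le _) inf_le_left) fun x hx => ?_
      obtain ⟨s, hs, m, hm, rfl⟩ := hsup h₁ x hx
      have : s * m = t ⟨s, h₁.ker_le hs⟩ * (g ⟨s, h₁.ker_le hs⟩ * m) := by simp [ht]
      rw [this]
      exact mul_mem_sup ⟨_, ⟨_, hs, rfl⟩, rfl⟩ (mul_mem (g _).2 hm))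
    obtain ⟨e₁⟩ := h₁.equiv
    obtain ⟨e₂⟩ := h₂.equiv
    obtain ⟨e, he⟩ := h Γ₁ Γ₂ σ₁ σ₂ h₁.stem h₂.stem ⟨e₁.symm.trans eA⟩ ⟨e₂.symm.trans eA⟩
    have he' : ∀ y, σ₂ (e (β₁ y)) = σ₂ (β₂ y) := fun y => by
      rw [h₂.over, ← h₁.over]; exact DFunLike.congr_fun he _
    obtain ⟨s, hs, m, hm, hsm⟩ := hsup h₁ z z.2
    obtain ⟨m', hm', h5⟩ := (map_MM (uπ_CE Q).surj h₂.stem.2.1 h₂.over).ge
      (show (e (β₁ x))⁻¹ * β₂ x ∈ MM σ₂ by
        rw [stem_MM h₂.stem, MonoidHom.mem_ker, map_mul, map_inv, he', inv_mul_cancel])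
    have h6 := fun y hy => eqOn_comm h₂.stem.2.1 (η := e.toMonoidHom.comp β₁) (η' := β₂) he' (e := y) hy
    simp only [MonoidHom.comp_apply, MulEquiv.coe_toMonoidHom] at h6
    have h7 : β₂ s = β₂ (g ⟨s, h₁.ker_le hs⟩) := by
      have : β₂ (t ⟨s, h₁.ker_le hs⟩) = 1 := hk₂.ge ⟨_, ⟨_, hs, rfl⟩, rfl⟩
      rwa [ht, map_mul, map_inv, mul_inv_eq_one] at this
    have h8 : g ⟨s, h₁.ker_le hs⟩ = g z := by
      have : z = ⟨s, h₁.ker_le hs⟩ * ⟨m, hm.1⟩ := Subtype.ext hsm
      rw [this, map_mul, hg ⟨m, hm.1⟩ hm, mul_one]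
    have h9 : β₂ s = β₂ m' ^ p := by
      have e1 : s = x ^ p * (c⁻¹ * m⁻¹) := by rw [← mul_assoc, eq_mul_inv_iff_mul_eq]; exact hsm.symm
      have e2 : β₂ x = e (β₁ x) * β₂ m' := by rw [h5]; group
      have e3 := congrArg (fun y => e (β₁ y)) e1
      simp only [show β₁ s = 1 from hs, map_one] at e3
      rw [map_mul, map_mul, h6 _ (mul_mem (inv_mem hc) (inv_mem hm.2)), map_pow, map_pow] at e3
      have cm : ∀ y, Commute y (β₂ m') := cent_comm h₂.stem.2.1 ((h₂.over _).trans hm'.1)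
      rw [e1, map_mul, map_pow, e2, (cm _).mul_pow, mul_assoc, ← ((cm _).pow_right p).eq, ← mul_assoc, ← e3,
        one_mul]
    have h10 : g z = ⟨m', hm'⟩ ^ p := by
      rw [← mul_inv_eq_one]
      apply Subtype.ext
      refine h₂.inj _ (g z * ((⟨m', hm'⟩ : SM Q) ^ p)⁻¹).2 ?_
      simp [← h8, ← h7, h9]
    apply hm0
    obtain ⟨k, l, hkl⟩ := (Int.prime_iff_natAbs_prime.2 (by simpa using hp)).coprime_iff_not_dvd.2 hi
    refine ⟨m0 ^ k * ⟨m', hm'⟩ ^ l, ?_⟩
    rw [powMonoidHom_apply, mul_pow, ← zpow_natCast, ← zpow_natCast, ← zpow_mul, ← zpow_mul, mul_comm l,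
      zpow_mul _ _ l, zpow_natCast, ← h10]
    change m0 ^ _ * (m0 ^ (b.repr (f.rangeRestrict (Additive.ofMul z)) i)) ^ l = _
    rw [← zpow_mul, ← zpow_add, mul_comm _ l, hkl, zpow_one]
  · intro hc Γ₁ Γ₂ _ _ _ _ σ₁ σ₂ s₁ s₂ k₁ k₂
    obtain ⟨β₁, h₁⟩ := exists_cover' hA s₁ k₁
    obtain ⟨ρ, hρ⟩ := h₁.lift_of (stem_CE s₂) (MonoidHom.id Q) (fun f => by
      letI : CommGroup σ₂.ker := { (inferInstance : Group _) with
        mul_comm := fun a b => Subtype.ext (cent_comm s₂.2.1 b.2 _) }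
      obtain ⟨e₂⟩ := k₂
      rw [← Nat.card_congr e₂.toEquiv] at hc
      obtain ⟨l, hl⟩ : ∃ l : ℕ, ∀ y : σ₂.ker, (y ^ Nat.card (Abelianization Q)) ^ l = y := by
        haveI : NeZero (Nat.card σ₂.ker) := ⟨Nat.card_pos.ne'⟩
        refine ⟨((Nat.card (Abelianization Q) : ZMod (Nat.card σ₂.ker))⁻¹).val, fun y => ?_⟩
        have := ZMod.mul_val_inv hc
        rw [← Nat.cast_mul, ← Nat.cast_one (R := ZMod _), ZMod.natCast_eq_natCast_iff] at this
        rw [← pow_mul, pow_eq_pow_iff_modEq.2 (this.of_dvd (orderOf_dvd_natCard y)), pow_one]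
      let i : β₁.ker →* Abelianization (UU Q) := Abelianization.of.comp β₁.ker.subtype
      have hi : Function.Injective i := (injective_iff_map_eq_one _).2 fun s hs =>
        Subtype.ext (h₁.inj_comm ((Abelianization.ker_of _).le hs) s.2)
      have hk : ∀ y : Abelianization (UU Q), y ^ Nat.card (Abelianization Q) ∈ i.range := by
        intro y
        obtain ⟨x, rfl⟩ : ∃ x, Abelianization.of x = y := QuotientGroup.mk_surjective y
        have hmap : (_root_.commutator (UU Q)).map (uπ Q) = _root_.commutator Q := by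
          rw [map_commutator_eq, MonoidHom.range_eq_top.2 (uπ_CE Q).surj]; rfl
        obtain ⟨c, hc, hc2⟩ := hmap.ge (show uπ Q (x ^ Nat.card (Abelianization Q)) ∈ _ by
          rw [← Abelianization.ker_of, MonoidHom.mem_ker, map_pow, map_pow, pow_card_eq_one'])
        obtain ⟨s, hs, m, hm, hsm⟩ := hsup h₁ (x ^ Nat.card (Abelianization Q) * c⁻¹)
          (by rw [map_mul, map_inv, hc2, mul_inv_cancel])
        refine ⟨⟨s, hs⟩, ?_⟩
        have := congrArg Abelianization.of hsm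
        rw [map_mul, map_mul, map_inv, show Abelianization.of c = 1 from (Abelianization.ker_of _).ge hc,
          show Abelianization.of m = 1 from (Abelianization.ker_of _).ge hm.2] at this
        simpa [i] using this.symm
      let r : Abelianization (UU Q) →* β₁.ker := (MonoidHom.ofInjective hi).symm.toMonoidHom.comp
        ((powMonoidHom (Nat.card (Abelianization Q))).codRestrict _ hk)
      refine ⟨(powMonoidHom l).comp (f.comp (r.comp Abelianization.of)), fun s => ?_⟩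
      have : r (Abelianization.of s.1) = s ^ Nat.card (Abelianization Q) := by
        apply hi
        rw [map_pow]
        exact MonoidHom.apply_ofInjective_symm hi _
      simp only [MonoidHom.comp_apply, this]
      rw [map_pow f, powMonoidHom_apply, hl])
    have hs := surj_of_stem s₁.1 s₂ hρ
    have hcard : ∀ {Γ : Type u} [Group Γ] {σ : Γ →* Q}, IsStemExtension σ → Nonempty (σ.ker ≃* A) →
        Nat.card Γ = Nat.card A * Nat.card Q := by
      rintro Γ _ σ s ⟨e⟩
      rw [← σ.ker.card_mul_index, index_ker, MonoidHom.range_eq_top.2 s.1, card_top, Nat.card_congr e.toEquiv]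
    exact ⟨MulEquiv.ofBijective ρ (hs.bijective_of_nat_card_le (by rw [hcard s₁ k₁, hcard s₂ k₂])),
      MonoidHom.ext hρ⟩

end Cfsg.Agent.S3974
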