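import Cfsg.Statements.S3977
import Cfsg.Agent.Lib.Solv.SubCount

set_option autoImplicit false
open Cfsg

namespace Cfsg.Agent.S3977

/-- Let `p` be a prime and `G` a group of order `p ^ m` which has exactly one subgroup of order `p ^ s`, where `1 ≤ s < m`, and where `s ≥ 2` if `p = 2`. Then `G` is cyclic. (For `p = 2` and `s = 1` the generalized quaternion groups also occur; that case is the classical criterion for a unique involution.) -/
theorem result {G : Type*} [Group G] [Finite G] (p m s : ℕ) (hp : p.Prime) (hG : Nat.card G = p ^ m) (hs : 1 ≤ s) (hsm : s < m) (h2 : p ≠ 2 ∨ 2 ≤ s) (huniq : ∀ H K : Subgroup G, Nat.card H = p ^ s → Nat.card K = p ^ s → H = K) : IsCyclic G := by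
  open Pointwise commutatorElement Subgroup Cfsg.Agent.Solv in
  haveI := Fact.mk hp
  have h1 : ∀ j ≤ m, p ^ j ∣ Nat.card G := fun j hj => hG ▸ pow_dvd_pow p hj
  obtain ⟨U, hU⟩ := Sylow.exists_subgroup_card_pow_prime p (h1 s hsm.le)
  have h3 : ∀ (H : Subgroup G) j, Nat.card H = p ^ j → j ≤ s → H ≤ U := fun H j h4 h5 => by
    obtain ⟨K, h6, h7⟩ := Sylow.exists_subgroup_card_pow_prime_le p (h1 s hsm.le) H h4 h5
    exact huniq K U h6 hU ▸ h7
  have hG' := IsPGroup.of_card hG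
  have h4 : IsCyclic U := by
    obtain ⟨K, h6, h7⟩ := Sylow.exists_subgroup_card_pow_prime_le p (h1 (s + 1) hsm) U hU (Nat.le_succ s)
    obtain ⟨x, hx, h8⟩ := SetLike.exists_of_lt (lt_of_le_of_ne h7 fun h =>
      (Nat.pow_lt_pow_right hp.one_lt (Nat.lt_succ_self s)).ne (by rw [← hU, h, h6]))
    obtain ⟨j, hj, h9⟩ := (Nat.dvd_prime_pow hp).1 (h6 ▸ card_dvd_of_le (zpowers_le.2 hx))
    rcases hj.lt_or_eq with hj | rfl
    · exact absurd (h3 _ j h9 (Nat.le_of_lt_succ hj) (mem_zpowers x)) h8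
    · exact isCyclic_of_le (h7.trans (Solv.eq_of_le_of_card_le (zpowers_le.2 hx) (by rw [h6, h9])).ge)
  rcases isCyclic_or_quaternion (hG'.to_subgroup ⊤) (fun E _ h5 _ h6 => by
    obtain ⟨H, -, K, -, a1, a2, a3⟩ := exists_two_subgroups_of_card_sq hp h5 h6
    exact a3 (eq_of_isCyclic_of_card_eq h4 (h3 H 1 (by simpa using a1) hs) (h3 K 1 (by simpa using a2) hs)
      (a1.trans a2.symm))) with h | ⟨rfl, a, b, k, h5, h6, h7, -, h8, h9, -⟩
  · exact isCyclic_top_iff.1 h
  have h10 : 2 ≤ s := h2.resolve_left (by simp)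
  rw [card_top, hG] at h8
  obtain rfl := Nat.pow_right_injective le_rfl h8
  have h11 : b ^ 2 ^ 2 = 1 := by rw [pow_two 2, pow_mul, h9, ← pow_mul, ← pow_succ, ← h6, pow_orderOf_eq_one]
  obtain ⟨j, hj, h12⟩ := (Nat.dvd_prime_pow hp).1 (orderOf_dvd_of_pow_eq_one h11)
  obtain ⟨V, h13⟩ := Sylow.exists_subgroup_card_pow_prime (G := zpowers a) 2 (n := s)
    (by rw [Nat.card_zpowers, h6]; exact pow_dvd_pow _ (by omega))
  have h14 := h3 (zpowers b) j (by rw [Nat.card_zpowers, h12]) (hj.trans h10) (mem_zpowers b)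
  rw [← huniq (V.map (zpowers a).subtype) U (by rw [Comp.card_map_subtype, h13]) hU] at h14
  exact absurd (map_subtype_le _ h14) h7

end Cfsg.Agent.S3977
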