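import Cfsg.Statements.S3978
import Cfsg.Agent.Lib.Schur.Two

set_option autoImplicit false
open Cfsg

namespace Cfsg.Agent.S3978

/-- A finite group `Q` has trivial Schur multiplier if and only if, for every `n`, every homomorphism from `Q` to the projective general linear group (the quotient of `GL n ℂ` by its centre) lifts to a homomorphism into `GL n ℂ`. -/
theorem result {Q : Type*} [Group Q] [Finite Q] : Cfsg.HasCyclicSchurMultiplier Q 1 ↔ ∀ (n : ℕ) (γ : Q →* (GL (Fin n) ℂ ⧸ Subgroup.center (GL (Fin n) ℂ))), ∃ ρ : Q →* GL (Fin n) ℂ, (QuotientGroup.mk' (Subgroup.center (GL (Fin n) ℂ))).comp ρ = γ := by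
  open Pointwise commutatorElement Subgroup in
  open Cfsg.Agent.Schur in
  have hs : IsStemExtension (MonoidHom.id Q) :=
    ⟨Function.surjective_id, by rw [MonoidHom.ker_id]; exact bot_le, by rw [MonoidHom.ker_id]; exact bot_le⟩
  rw [hasSchur_one_iff]
  constructor
  · intro h n γ
    have hc : Cover (MonoidHom.id Q) (uπ Q) := ⟨hs, fun _ => rfl, fun e he _ => mem_bot.1 (h.le he)⟩
    exact hc.lift_pgl n γ
  · intro h
    obtain ⟨β, hc⟩ := cover_of_lift hs h
    exact eq_bot_iff.2 fun e he => hc.inj e he ((hc.over e).trans he.1)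

end Cfsg.Agent.S3978
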