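import Cfsg.Statements.S3980
import Cfsg.Agent.S3959

set_option autoImplicit false
universe u v w
open Cfsg

namespace Cfsg.Agent.S3980

/-- Let `Q₁` and `Q₂` be finite groups whose commutator quotients have coprime orders, with Schur multipliers `A` and `B`. Then the Schur multiplier of `Q₁ × Q₂` is isomorphic to `A × B`. -/
theorem result {Q₁ : Type u} {Q₂ : Type v} [Group Q₁] [Group Q₂] [Finite Q₁] [Finite Q₂] {A B : Type w} [CommGroup A] [CommGroup B] (hA : Cfsg.HasSchurMultiplier Q₁ A) (hB : Cfsg.HasSchurMultiplier Q₂ B) (hcop : Nat.Coprime (Nat.card (Abelianization Q₁)) (Nat.card (Abelianization Q₂))) : Cfsg.HasSchurMultiplier (Q₁ × Q₂) (A × B) := by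
  open Pointwise commutatorElement Subgroup in
  open Cfsg.Agent.Schur in
  obtain ⟨e⟩ := hasSchur_iff.1 (S3959.result hA hB)
  haveI : Unique (S3959.TT Q₁ Q₂) := ⟨⟨1⟩, fun t => mem_bot.1 (S3959.tm_gen (fun x y => by
    rw [mem_bot, ← orderOf_eq_one_iff]
    have h1 : S3959.tm x y ^ Nat.card (Abelianization Q₁) = 1 := by
      apply Multiplicative.toAdd.injective
      simp only [S3959.tm, toAdd_pow, toAdd_ofAdd, toAdd_one, TensorProduct.smul_tmul', ← ofMul_pow,
        pow_card_eq_one', ofMul_one, TensorProduct.zero_tmul]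
    have h2 : S3959.tm x y ^ Nat.card (Abelianization Q₂) = 1 := by
      apply Multiplicative.toAdd.injective
      simp only [S3959.tm, toAdd_pow, toAdd_ofAdd, toAdd_one, ← TensorProduct.tmul_smul, ← ofMul_pow,
        pow_card_eq_one', ofMul_one, TensorProduct.tmul_zero]
    exact Nat.dvd_one.1 (hcop ▸ Nat.dvd_gcd (orderOf_dvd_of_pow_eq_one h1) (orderOf_dvd_of_pow_eq_one h2))) t)⟩
  exact hasSchur_iff.2 ⟨e.trans ((MulEquiv.refl A).prodCongr MulEquiv.prodUnique)⟩

end Cfsg.Agent.S3980
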