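import Cfsg.Statements.S3981
import Cfsg.Agent.Lib.Solv.PGrp
import Cfsg.Agent.Lib.Comp.Basic
import Cfsg.Agent.Lib.Transfer.Cyc2
import Cfsg.Agent.Lib.Solv.Schmidt

set_option autoImplicit false
open Cfsg

namespace Cfsg.Agent.S3981

/-- Let p be an odd prime, Q a p-subgroup of the finite group G and y an involution normalizing Q. Then Q is maximal among the p-subgroups of G normalized by y if and only if the image of y in N_G(Q) ⧸ Q neither inverts nor centralizes any element of order p there; the latter is phrased inside N_G(Q): for every x in N_G(Q) outside Q with x ^ p ∈ Q, neither y x y⁻¹ x nor y x y⁻¹ x⁻¹ lies in Q. -/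
theorem result {G : Type*} [Group G] [Finite G] (p : ℕ) [Fact p.Prime] (hp2 : p ≠ 2) (Q : Subgroup G) (hQ : IsPGroup p ↥Q) (y : G) (hy : orderOf y = 2) (hyQ : y ∈ Subgroup.normalizer (Q : Set G)) : (∀ R : Subgroup G, IsPGroup p ↥R → Q ≤ R → y ∈ Subgroup.normalizer (R : Set G) → R = Q) ↔ ∀ x : G, x ∈ Subgroup.normalizer (Q : Set G) → x ∉ Q → x ^ p ∈ Q → (y * x * y⁻¹ * x ∉ Q ∧ y * x * y⁻¹ * x⁻¹ ∉ Q) := by
  open Pointwise commutatorElement Subgroup Cfsg.Agent.Solv in
  have hyy : y * y = 1 := Cfsg.Agent.Transfer.mul_self_of_orderOf hy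
  constructor
  · intro h x hx hxQ hxp
    have hR : IsPGroup p (Q ⊔ zpowers x : Subgroup G) := by
      rw [sup_comm]
      refine isPGroup_sup ?_ hQ (zpowers_le.2 hx)
      obtain ⟨k, hk⟩ := isPGroup_iff_forall_mem.1 hQ _ hxp
      refine isPGroup_iff_forall_mem.2 fun z hz => ⟨k + 1, ?_⟩
      rw [← pow_mul, ← pow_succ'] at hk
      exact pow_eq_one_of_mem_zpowers hk hz
    have key : y * x * y⁻¹ ∈ Q ⊔ zpowers x → False := by
      intro h1
      have := h _ hR le_sup_left (by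
        rw [← conj_smul_eq_self_iff]
        refine eq_of_le_of_card_le ?_ (card_conj_smul _ _).ge
        rw [Subgroup.smul_sup, conj_smul_eq_self_iff.2 hyQ]
        refine sup_le le_sup_left ?_
        rw [← Cfsg.Agent.Comp.cj_smul, Cfsg.Agent.Comp.cj_zpowers, zpowers_le]
        exact h1)
      exact hxQ (this ▸ mem_sup_right (mem_zpowers x))
    refine ⟨fun h1 => key ?_, fun h1 => key ?_⟩
    · exact (mul_mem_cancel_right (mem_sup_right (mem_zpowers x))).1 (mem_sup_left h1)
    · exact (mul_mem_cancel_right (inv_mem (mem_sup_right (mem_zpowers x)))).1 (mem_sup_left h1)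
  · intro h R hR hQR hyR
    by_contra hne
    obtain ⟨u, ⟨hu1, hu2⟩, hu⟩ := SetLike.exists_of_lt (lt_normalizer_inf_of_isPGroup hR (lt_of_le_of_ne hQR (Ne.symm hne)))
    have hy1 := mem_normalizer_normalizer_of_mem hyQ
    by_cases hw : y * u * y⁻¹ * u⁻¹ ∈ Q
    · obtain ⟨k, hk⟩ := isPGroup_iff_forall_mem.1 hR _ hu2
      obtain ⟨j, h1, h2⟩ := exists_pow_notMem_pow_mem (p := p) (k := k) hu (hk ▸ one_mem Q)
      refine (h _ (pow_mem hu1 _) h1 h2).2 ?_
      generalize p ^ j = m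
      induction m with
      | zero => simp
      | succ m ih =>
        have : y * u ^ (m + 1) * y⁻¹ * (u ^ (m + 1))⁻¹ =
            (y * u ^ m * y⁻¹) * (y * u * y⁻¹ * u⁻¹) * (y * u ^ m * y⁻¹)⁻¹ * (y * u ^ m * y⁻¹ * (u ^ m)⁻¹) := by
          rw [pow_succ]; group
        rw [this]
        exact mul_mem (conj_mem_of_mem_normalizer (conj_mem_of_mem_normalizer hy1 (pow_mem hu1 _)) hw) ih
    · set w := y * u * y⁻¹ * u⁻¹ with hwd
      have hw1 : w ∈ normalizer (Q : Set G) := mul_mem (conj_mem_of_mem_normalizer hy1 hu1) (inv_mem hu1)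
      have hw2 : w ∈ R := mul_mem (conj_mem_of_mem_normalizer hyR hu2) (inv_mem hu2)
      have hinv : y * w * y⁻¹ = w⁻¹ := by
        calc _ = (y * y) * u * (y * y)⁻¹ * (y * u * y⁻¹)⁻¹ := by rw [hwd]; group
          _ = _ := by rw [hyy, hwd]; group
      obtain ⟨k, hk⟩ := isPGroup_iff_forall_mem.1 hR _ hw2
      obtain ⟨j, h1, h2⟩ := exists_pow_notMem_pow_mem (p := p) (k := k) hw (hk ▸ one_mem Q)
      refine (h _ (pow_mem hw1 _) h1 h2).1 ?_
      rw [Cfsg.Agent.Transfer.conj_pow_of_inverts hinv, inv_mul_cancel]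
      exact one_mem _

end Cfsg.Agent.S3981
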