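import Cfsg.Statements.S3982
import Cfsg.Agent.S3981
import Cfsg.Agent.Lib.Solv.Frob2
import Cfsg.Agent.Lib.Comp.SylIn

set_option autoImplicit false
open Cfsg

namespace Cfsg.Agent.S3982

/-- Let p be an odd prime and G a finite group of even order divisible by p in which the centralizer of every non-identity p-element has odd order. If some nontrivial p-subgroup of G has a normalizer of even order, then the normalizer of every Sylow p-subgroup of G has even order. -/
theorem result {G : Type*} [Group G] [Finite G] (p : ℕ) [Fact p.Prime] (hp2 : p ≠ 2) (hpG : p ∣ Nat.card G) (h2G : 2 ∣ Nat.card G) (hC : ∀ g : G, g ≠ 1 → (∃ k : ℕ, orderOf g = p ^ k) → Odd (Nat.card ↥(Subgroup.centralizer ({g} : Set G)))) (Q : Subgroup G) (hQ : IsPGroup p ↥Q) (hQ1 : Q ≠ ⊥) (hev : Even (Nat.card ↥(Subgroup.normalizer (Q : Set G)))) (P : Sylow p G) : Even (Nat.card ↥(Subgroup.normalizer ((P : Subgroup G) : Set G))) := by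
  open Pointwise commutatorElement Subgroup Cfsg.Agent.Solv in
  open Cfsg.Agent.Comp in
  obtain ⟨y, hyQ, hy⟩ := Transfer.exists_invol_mem hev
  have hyy := Transfer.mul_self_of_orderOf hy
  obtain ⟨R, hQR, ⟨hR, hyR⟩, hmax⟩ := exists_maximal_ge
    (P := fun R : Subgroup G => IsPGroup p R ∧ y ∈ normalizer (R : Set G)) ⟨hQ, hyQ⟩
  have hR0 : R ≠ ⊥ := fun h => hQ1 (le_bot_iff.1 (h ▸ hQR))
  have hf : R ⊓ centralizer {y} = ⊥ := by
    rw [fpf_iff]
    intro k hk hc
    by_contra h1
    have := hC k h1 (exists_orderOf_eq_pow hR hk)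
    exact Transfer.odd_card_iff.1 this y (mem_centralizer_singleton_iff.2 hc) hy
  have hinv := fun k (hk : k ∈ R) => inverts_of_fpf hyR hf hyy hk
  obtain ⟨r, hr, hr1⟩ := exists_ne_one_of_ne_bot hR0
  have hCo : Odd (Nat.card (centralizer (R : Set G))) :=
    (hC r hr1 (exists_orderOf_eq_pow hR hr)).of_dvd_nat
      (card_dvd_of_le (centralizer_le (Set.singleton_subset_iff.2 hr)))
  obtain ⟨S, hRS, hS⟩ := exists_sylIn_ge hR (le_normalizer : R ≤ normalizer (R : Set G))
  have hSC : S ≤ normalizer (centralizer (R : Set G) : Set G) :=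
    hS.le.trans (Solv.normalizer_le_normalizer_centralizer R)
  have hcomm : ∀ s ∈ normalizer (R : Set G), y * s * y⁻¹ * s⁻¹ ∈ centralizer (R : Set G) := by
    intro s hs k hk
    have h1 := hinv _ (Solv.conj_mem_of_mem_normalizer' hs hk)
    have h2 := hinv k hk
    have hyi : y⁻¹ = y := inv_eq_of_mul_eq_one_right hyy
    have h3 : y⁻¹ * (s⁻¹ * k * s) * y = (s⁻¹ * k * s)⁻¹ := by rw [← h1, hyi]
    symm
    calc y * s * y⁻¹ * s⁻¹ * k = y * s * (y⁻¹ * (s⁻¹ * k * s) * y) * y⁻¹ * s⁻¹ := by group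
      _ = y * k⁻¹ * y⁻¹ * (y * s * y⁻¹ * s⁻¹) := by rw [h3]; group
      _ = _ := by rw [hinv _ (inv_mem hk), inv_inv]
  have hyK : zpowers y ≤ normalizer ((S ⊔ centralizer (R : Set G) : Subgroup G) : Set G) := by
    rw [zpowers_le]
    refine Solv.mem_normalizer_of_conj_mem fun x hx => ?_
    have hx' : x ∈ normalizer (R : Set G) := (sup_le hS.le (centralizer_le_normalizer _)) hx
    exact (mul_mem_cancel_right (inv_mem hx)).1 (mem_sup_right (hcomm x hx'))
  have hodd : (Nat.card (zpowers y)).Coprime (Nat.card (S ⊔ centralizer (R : Set G) : Subgroup G)) := by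
    rw [Nat.card_zpowers, hy]
    refine Nat.Coprime.coprime_dvd_right (Solv.card_sup_dvd hSC) (Nat.Coprime.mul_right ?_ (Nat.coprime_two_left.2 hCo))
    exact coprime_card_of_isPGroup' hS.isP ((Nat.coprime_primes Nat.prime_two Fact.out).2 hp2.symm)
  obtain ⟨T, hT, hRT, hyT⟩ := coprime_exists_sylowIn_ge hyK hodd (Or.inl (isSolvable_zpowers y))
    (hRS.trans le_sup_left) hR (zpowers_le.2 hyR)
  have e := hmax T ⟨hT.isPGroup, zpowers_le.1 hyT⟩ hRT
  subst e
  have h1 : S ≤ T := hT.le_of_le_normalizer' hS.isP le_sup_left hS.le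
  have h2 : SylIn p T ⊤ := SylIn.of_normalizer le_top (by rw [top_inf_eq, ← le_antisymm h1 hRS]; rwa [← le_antisymm h1 hRS] at hS)
  obtain ⟨g, -, hg⟩ := h2.exists_cj_eq (sylIn_top P)
  rw [← hg, ← cj_normalizer, card_cj]
  exact Transfer.even_card_of_invol_mem hy hyR

end Cfsg.Agent.S3982
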