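import Cfsg.Statements.S3983
import Cfsg.Agent.Lib.Comp.SylIn
import Cfsg.Agent.Lib.Solv.Basic

set_option autoImplicit false
open scoped Pointwise
open Cfsg

namespace Cfsg.Agent.S3983
section
open Pointwise commutatorElement Subgroup Cfsg.Agent.Solv
open Cfsg.Agent.Comp
theorem ti_of {G : Type*} [Group G] [Finite G] {p : ℕ} [Fact p.Prime] (P : Sylow p G) (hTI : ∀ g : G, g ∉ Subgroup.normalizer ((P : Subgroup G) : Set G) → (P : Subgroup G) ⊓ (MulAut.conj g • (P : Subgroup G)) = ⊥) (S T : Sylow p G) (h : (S : Subgroup G) ⊓ T ≠ ⊥) : S = T := by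
  obtain ⟨a, rfl⟩ := MulAction.exists_smul_eq G P S
  obtain ⟨b, rfl⟩ := MulAction.exists_smul_eq G (a • P) T
  by_contra hne
  apply h
  have h1 : a⁻¹ * b * a ∉ normalizer ((P : Subgroup G) : Set G) := by
    intro h2
    apply hne
    have h3 := Sylow.smul_eq_iff_mem_normalizer.2 h2
    calc a • P = a • (a⁻¹ * b * a) • P := by rw [h3]
      _ = _ := by rw [smul_smul, smul_smul]; congr 1; group
  have h2 := hTI _ h1
  rw [smul_smul, Sylow.coe_subgroup_smul, Sylow.coe_subgroup_smul, ← cj_smul, ← cj_smul,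
    show b * a = a * (a⁻¹ * b * a) by group, cj_mul, ← cj_inf, cj_eq_bot_iff, cj_smul, h2]
theorem of_ti {G : Type*} [Group G] [Finite G] {p : ℕ} [Fact p.Prime] (h : ∀ S T : Sylow p G, (S : Subgroup G) ⊓ T ≠ ⊥ → S = T) (P : Sylow p G) : ∀ g : G, g ∉ Subgroup.normalizer ((P : Subgroup G) : Set G) → (P : Subgroup G) ⊓ (MulAut.conj g • (P : Subgroup G)) = ⊥ := by
  intro g hg
  by_contra hne
  exact hg (Sylow.smul_eq_iff_mem_normalizer.1 (h P (g • P) hne).symm)
end

/-- Let P be a Sylow p-subgroup of the finite group G that meets each conjugate g P g⁻¹ with g outside N_G(P) trivially, and let U be a subgroup of G of order divisible by p. Then a Sylow p-subgroup Q of U has the same property inside U: Q meets each conjugate u Q u⁻¹ with u ∈ U outside N_U(Q) trivially. -/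
theorem result {G : Type*} [Group G] [Finite G] (p : ℕ) [Fact p.Prime] (P : Sylow p G) (hTI : ∀ g : G, g ∉ Subgroup.normalizer ((P : Subgroup G) : Set G) → (P : Subgroup G) ⊓ (MulAut.conj g • (P : Subgroup G)) = ⊥) (U : Subgroup G) (hU : p ∣ Nat.card ↥U) (Q : Sylow p ↥U) : ∀ u : ↥U, u ∉ Subgroup.normalizer ((Q : Subgroup ↥U) : Set ↥U) → (Q : Subgroup ↥U) ⊓ (MulAut.conj u • (Q : Subgroup ↥U)) = ⊥ := by
  open Pointwise commutatorElement Subgroup Cfsg.Agent.Solv in
  open Cfsg.Agent.Comp in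
  refine of_ti (fun S T h => ?_) Q
  obtain ⟨S', hS⟩ := (sylIn_sylow S).isP.exists_le_sylow
  obtain ⟨T', hT⟩ := (sylIn_sylow T).isP.exists_le_sylow
  have e : S' = T' := ti_of P hTI _ _ fun h' => h (by
    rw [← map_eq_bot_iff_of_injective _ U.subtype_injective, map_inf _ _ _ U.subtype_injective]
    exact le_bot_iff.1 (h' ▸ inf_le_inf hS hT))
  subst e
  apply Sylow.ext
  apply map_injective U.subtype_injective
  rw [← (sylIn_sylow S).max _ (S'.isPGroup'.to_inf_left (K := U)) (le_inf hS (map_subtype_le _)) inf_le_right,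
    ← (sylIn_sylow T).max _ (S'.isPGroup'.to_inf_left (K := U)) (le_inf hT (map_subtype_le _)) inf_le_right]

end Cfsg.Agent.S3983
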