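import Cfsg.Statements.S3984
import Cfsg.Agent.S3983
import Cfsg.Agent.Lib.Solv.Cores

set_option autoImplicit false
open scoped Pointwise
open Cfsg

namespace Cfsg.Agent.S3984

/-- Let P be a Sylow p-subgroup of the finite group G that meets each conjugate g P g⁻¹ with g outside N_G(P) trivially, and let N be a normal subgroup of G of order prime to p. Then every Sylow p-subgroup Q of G ⧸ N meets each conjugate x Q x⁻¹ with x outside its normalizer trivially. -/
theorem result {G : Type*} [Group G] [Finite G] (p : ℕ) [Fact p.Prime] (P : Sylow p G) (hTI : ∀ g : G, g ∉ Subgroup.normalizer ((P : Subgroup G) : Set G) → (P : Subgroup G) ⊓ (MulAut.conj g • (P : Subgroup G)) = ⊥) (N : Subgroup G) [N.Normal] (hN : (Nat.card ↥N).Coprime p) (Q : Sylow p (G ⧸ N)) : ∀ x : G ⧸ N, x ∉ Subgroup.normalizer ((Q : Subgroup (G ⧸ N)) : Set (G ⧸ N)) → (Q : Subgroup (G ⧸ N)) ⊓ (MulAut.conj x • (Q : Subgroup (G ⧸ N))) = ⊥ := by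
  open Pointwise commutatorElement Subgroup Cfsg.Agent.Solv in
  open Cfsg.Agent.Comp in
  refine S3983.of_ti (fun S T h => ?_) Q
  have hk : ¬ p ∣ Nat.card N := Cfsg.Agent.Comp.coprime_iff_not_dvd.1 hN
  have key : ∀ (S : Sylow p (G ⧸ N)) (D : Subgroup G), IsPGroup p D → D ≤ (S : Subgroup (G ⧸ N)).comap (QuotientGroup.mk' N) →
      ∃ S' : Sylow p G, D ≤ S' ∧ (S' : Subgroup G).map (QuotientGroup.mk' N) = S := by
    intro S D hD hle
    obtain ⟨R, h1, h2⟩ := exists_sylIn_ge hD hle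
    have h3 : SylIn p R ⊤ := h2.trans_of_not_dvd le_top (by
      rw [relIndex_top_right, index_comap_mk]; exact S.not_dvd_index)
    refine ⟨h3.toSylowTop, h1, ?_⟩
    have h4 := h2.map (QuotientGroup.mk' N)
    rw [map_comap_mk] at h4
    exact ((sylIn_self S.isPGroup').eq_of_le h4 (h4.max _ S.isPGroup' h4.le le_rfl).le).symm
  obtain ⟨D, hD⟩ := exists_sylIn p (((S : Subgroup (G ⧸ N)) ⊓ T).comap (QuotientGroup.mk' N))
  have hD0 : D ≠ ⊥ := by
    rw [Ne, hD.eq_bot_iff, not_not, card_comap_mk]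
    exact (Cfsg.Agent.Comp.dvd_card_of_isPGroup S.isPGroup'.to_inf_left h).mul_right _
  obtain ⟨S', h1, h2⟩ := key S D hD.isP (hD.le.trans (comap_mono inf_le_left))
  obtain ⟨T', h3, h4⟩ := key T D hD.isP (hD.le.trans (comap_mono inf_le_right))
  have e : S' = T' := S3983.ti_of P hTI _ _ fun h' => hD0 (le_bot_iff.1 (h' ▸ le_inf h1 h3))
  subst e
  exact Sylow.ext (h2.symm.trans h4)

end Cfsg.Agent.S3984
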