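import Cfsg.Statements.S3985
import Cfsg.Agent.S3983
import Cfsg.Agent.Lib.Solv.Coprime
import Cfsg.Agent.Lib.Solv.PGrp
import Cfsg.Agent.Lib.Solv.Super

set_option autoImplicit false
open scoped Pointwise
open Cfsg

namespace Cfsg.Agent.S3985

/-- Let P be a cyclic Sylow p-subgroup of the finite group G. Then P meets each conjugate g P g⁻¹ with g outside N_G(P) trivially if and only if P is weakly self-centralizing: C_G(x) = C_G(P) for every non-identity x ∈ P. -/
theorem result {G : Type*} [Group G] [Finite G] (p : ℕ) [Fact p.Prime] (P : Sylow p G) (hcyc : IsCyclic ↥(P : Subgroup G)) : (∀ g : G, g ∉ Subgroup.normalizer ((P : Subgroup G) : Set G) → (P : Subgroup G) ⊓ (MulAut.conj g • (P : Subgroup G)) = ⊥) ↔ ∀ x : G, x ∈ (P : Subgroup G) → x ≠ 1 → Subgroup.centralizer ({x} : Set G) = Subgroup.centralizer ((P : Subgroup G) : Set G) := by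
  open Pointwise commutatorElement Subgroup Cfsg.Agent.Solv in
  open Cfsg.Agent.Comp in
  have hc : IsMulCommutative (P : Subgroup G) := inferInstance
  have hPC : (P : Subgroup G) ≤ centralizer ((P : Subgroup G) : Set G) := le_centralizer _
  constructor
  · intro hTI x hx h1
    refine le_antisymm (fun c hc' => ?_) (centralizer_le (Set.singleton_subset_iff.2 hx))
    rw [mem_centralizer_singleton_iff] at hc'
    have hn : c ∈ normalizer ((P : Subgroup G) : Set G) := by
      by_contra h
      have : x ∈ (P : Subgroup G) ⊓ (MulAut.conj c • (P : Subgroup G)) :=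
        ⟨hx, mem_conj_smul.2 (by rwa [mul_assoc, ← hc', inv_mul_cancel_left])⟩
      rw [hTI c h] at this
      exact h1 this
    obtain ⟨k, hk⟩ := exists_pow_coprime_orderOf (Fact.out : p.Prime) c
    have h2 : zpowers (c ^ p ^ k) ≤ centralizer ((P : Subgroup G) : Set G) := by
      refine coprime_abelian_le_centralizer hc (zpowers_le.2 (pow_mem hn _))
        (coprime_card_of_isPGroup' P.isPGroup' (by rwa [Nat.card_zpowers])) fun v hv hvp a ha => ?_
      have hv1 : orderOf v = p := eq_of_isPGroup_of_dvd P.isPGroup' hvp (orderOf_dvd_card_of_mem hv)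
      have hv2 : v ∈ zpowers x := by
        refine mem_of_isCyclic_of_pow_card hcyc (zpowers_le.2 hx) hv ?_
        rw [← orderOf_dvd_iff_pow_eq_one, hv1]
        exact Solv.dvd_card_of_isPGroup (P.isPGroup'.to_le (zpowers_le.2 hx)) (by simpa using h1)
      exact (Solv.Commute.of_mem_zpowers (Commute.pow_left hc' _) ha hv2).eq
    have h3 : ¬ p ∣ (centralizer ((P : Subgroup G) : Set G)).relIndex (normalizer ((P : Subgroup G) : Set G)) :=
      (sylIn_of_sylow_le P le_normalizer).not_dvd_relIndex_of_le hPC (centralizer_le_normalizer _)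
    have h4 := pow_relIndex_mem (centralizer_le_normalizer _) (Solv.normalizer_le_normalizer_centralizer _) hn
    have h5 := zpowers_le.1 h2
    have h6 := Nat.Coprime.pow_left k ((Nat.Prime.coprime_iff_not_dvd Fact.out).2 h3)
    have := Nat.gcd_eq_gcd_ab (p ^ k) ((centralizer ((P : Subgroup G) : Set G)).relIndex (normalizer ((P : Subgroup G) : Set G)))
    rw [h6] at this
    rw [← zpow_one c, ← Nat.cast_one, this, zpow_add, zpow_mul, zpow_mul, zpow_natCast, zpow_natCast]
    exact mul_mem (zpow_mem h5 _) (zpow_mem h4 _)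
  · intro h g hg
    by_contra hne
    obtain ⟨x, ⟨hx1, hx2⟩, h1⟩ := exists_ne_one_of_ne_bot hne
    have hy := mem_conj_smul.1 hx2
    have e1 := h x hx1 h1
    have e2 := h _ hy (fun e => h1 (by simpa [mul_eq_one_iff_eq_inv, mul_assoc] using e))
    have e3 : cj(g, centralizer ((P : Subgroup G) : Set G)) = centralizer ((P : Subgroup G) : Set G) := by
      rw [← e2, cj_centralizer_singleton, e2, ← e1]
      congr 2; group
    apply hg
    rw [← cj_eq_self_iff]
    refine eq_of_le_of_card_le ?_ (card_cj _ _).ge
    refine (sylIn_top P).le_of_normalizer (isPGroup_cj_iff.2 P.isPGroup') le_top ?_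
    exact ((cj_mono g hPC).trans e3.le).trans (centralizer_le_normalizer _)

end Cfsg.Agent.S3985
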