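import Cfsg.Statements.S3986
import Cfsg.Agent.Lib.Solv.Schmidt
import Cfsg.Agent.Lib.Solv.Super
import Cfsg.Agent.Lib.Comp.SylIn

set_option autoImplicit false
open Cfsg

namespace Cfsg.Agent.S3986

/-- Let p be a prime and G a finite group. Then some Sylow p-subgroup of G is a direct factor of G (it is normal and has a normal complement) if and only if every element of p-power order commutes with every element whose order is a power of a prime other than p. -/
theorem result {G : Type*} [Group G] [Finite G] (p : ℕ) [Fact p.Prime] : (∃ (P : Sylow p G) (K : Subgroup G), (P : Subgroup G).Normal ∧ K.Normal ∧ (P : Subgroup G) ⊓ K = ⊥ ∧ (P : Subgroup G) ⊔ K = ⊤) ↔ ∀ x y : G, (∃ a : ℕ, orderOf x = p ^ a) → (∃ q b : ℕ, q.Prime ∧ q ≠ p ∧ orderOf y = q ^ b) → x * y = y * x := by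
  open Pointwise commutatorElement Subgroup Cfsg.Agent.Solv in
  open Cfsg.Agent.Comp in
  constructor
  · rintro ⟨P, K, hP, hK, h1, h2⟩ x y ⟨a, ha⟩ ⟨q, b, hq, hqp, hb⟩
    have hx : x ∈ (P : Subgroup G) :=
      mem_of_pow_mem_normal_sylow (isSylowIn_top P) (k := a) (by rw [← ha, pow_orderOf_eq_one]; exact one_mem _)
    have hy : y ∈ K := by
      refine zpowers_le.1 (le_of_coprime_index ?_)
      have := (isComplement'_of_inf_eq_bot_of_sup_eq_top (N := K) (by rw [inf_comm, h1]) (by rw [sup_comm, h2]))
      rw [← Solv.IsComplement'.card_eq_index this, Nat.card_zpowers, hb]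
      exact coprime_card_of_isPGroup' P.isPGroup' (Nat.Coprime.pow_left _ ((Nat.coprime_primes hq Fact.out).2 hqp))
    exact (le_centralizer_of_inf_eq_bot le_normalizer_of_normal le_normalizer_of_normal h1 hx y hy).symm
  · intro h
    obtain ⟨P⟩ := (inferInstance : Nonempty (Sylow p G))
    have key : ∀ y : G, (orderOf y).Coprime p → y ∈ centralizer ((P : Subgroup G) : Set G) := by
      intro y hy
      by_contra hn
      obtain ⟨q, hq, hd, z, -, hz, hzn⟩ := exists_prime_pow_notMem hn
      haveI := Fact.mk hq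
      refine hzn fun x hx => h x z (exists_orderOf_eq_pow P.isPGroup' hx) ⟨q, ?_⟩
      obtain ⟨b, hb⟩ := exists_orderOf_eq_pow hz (mem_zpowers z)
      refine ⟨b, hq, ?_, hb⟩
      rintro rfl
      exact Cfsg.Agent.Comp.coprime_iff_not_dvd.1 hy hd
    have hP : (P : Subgroup G).Normal := by
      rw [← normalizer_eq_top_iff]
      refine eq_of_forall_sylIn le_top fun q hq _ => ?_
      haveI := Fact.mk hq
      by_cases hqp : q = p
      · subst hqp; exact ⟨P, sylIn_top P, le_normalizer⟩
      · obtain ⟨Q, hQ⟩ := exists_sylIn q (⊤ : Subgroup G)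
        refine ⟨Q, hQ, fun y hy => centralizer_le_normalizer _ (key y ?_)⟩
        exact (coprime_of_isPGroup_of_ne hqp hQ.isP).coprime_dvd_left (orderOf_dvd_card_of_mem hy)
    obtain ⟨K, hK⟩ := Subgroup.exists_right_complement'_of_coprime P.card_coprime_index
    refine ⟨P, K, hP, ?_, Solv.IsComplement'.inf_eq_bot hK, hK.sup_eq_top⟩
    rw [← normalizer_eq_top_iff, eq_top_iff, ← hK.sup_eq_top]
    refine sup_le (le_normalizer_of_le_centralizer (le_centralizer_iff.1 fun y hy => key y ?_)) le_normalizer
    refine Nat.Coprime.coprime_dvd_left (orderOf_dvd_card_of_mem hy) ?_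
    rw [Solv.IsComplement'.card_eq_index hK]
    exact Cfsg.Agent.Comp.coprime_iff_not_dvd.2 P.not_dvd_index

end Cfsg.Agent.S3986
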