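import Cfsg.Statements.S3987
import Cfsg.Agent.S3986
import Cfsg.Agent.Lib.Solv.Fact

set_option autoImplicit false
open Cfsg

namespace Cfsg.Agent.S3987

/-- Let p be a prime and G a finite group. Then some Sylow p-subgroup of G is a direct factor of G (normal with a normal complement) if and only if for every element x of p-power order and every element y whose order is a power of a prime other than p, the conjugacy class of x y has as many elements as the product of the sizes of the classes of x and of y. -/
theorem result {G : Type*} [Group G] [Finite G] (p : ℕ) [Fact p.Prime] : (∃ (P : Sylow p G) (K : Subgroup G), (P : Subgroup G).Normal ∧ K.Normal ∧ (P : Subgroup G) ⊓ K = ⊥ ∧ (P : Subgroup G) ⊔ K = ⊤) ↔ ∀ x y : G, (∃ a : ℕ, orderOf x = p ^ a) → (∃ q b : ℕ, q.Prime ∧ q ≠ p ∧ orderOf y = q ^ b) → (Subgroup.centralizer ({x * y} : Set G)).index = (Subgroup.centralizer ({x} : Set G)).index * (Subgroup.centralizer ({y} : Set G)).index := by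
  open Pointwise commutatorElement Subgroup in
  open Cfsg.Agent.Solv in
  rw [S3986.result p]
  constructor
  · intro h x y hx hy
    obtain ⟨P, K, hP, hK, h1, h2⟩ := (S3986.result p).2 h
    have hxy := h x y hx hy
    obtain ⟨a, ha⟩ := hx
    obtain ⟨q, b, hq, hqp, hb⟩ := hy
    have hx : x ∈ (P : Subgroup G) :=
      mem_of_pow_mem_normal_sylow (isSylowIn_top P) (k := a) (by rw [← ha, pow_orderOf_eq_one]; exact one_mem _)
    have hcop : (orderOf x).Coprime (orderOf y) := by
      rw [ha, hb]; exact Nat.Coprime.pow _ _ ((Nat.coprime_primes Fact.out hq).2 hqp.symm)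
    have e : centralizer ({x * y} : Set G) = centralizer {x} ⊓ centralizer {y} := by
      ext c
      simp only [mem_inf, mem_centralizer_singleton_iff]
      refine ⟨fun hc => ?_, fun hc => Commute.mul_right hc.1 hc.2⟩
      have hm : x ∈ zpowers (x * y) := by
        refine mem_of_pow_mem_of_coprime_orderOf (n := orderOf y) ?_ hcop
        have := pow_mem (mem_zpowers (x * y)) (orderOf y)
        rwa [Commute.mul_pow hxy, pow_orderOf_eq_one, mul_one] at this
      have h3 : Commute c x := Solv.Commute.of_mem_zpowers hc (mem_zpowers c) hm
      refine ⟨h3, ?_⟩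
      have := (Commute.mul_right h3.inv_right hc)
      rwa [inv_mul_cancel_left] at this
    rw [e]
    suffices hs : (centralizer ({x} : Set G)).index.Coprime (centralizer ({y} : Set G)).index by
      rw [inf_comm, ← relIndex_mul_index (inf_le_right : _ ⊓ centralizer ({x} : Set G) ≤ _), inf_relIndex_right,
        (isProd_top_of_coprime hs).relIndex_eq_index, mul_comm]
    have i1 : (centralizer ({x} : Set G)).index ∣ Nat.card P := by
      rw [Solv.IsComplement'.card_eq_index (isComplement'_of_inf_eq_bot_of_sup_eq_top (N := K) (by rw [inf_comm, h1]) (by rw [sup_comm, h2]))]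
      refine index_dvd_of_le fun k hk => ?_
      exact mem_centralizer_singleton_iff.2
        (le_centralizer_of_inf_eq_bot le_normalizer_of_normal le_normalizer_of_normal h1 hx k hk)
    have i2 : (centralizer ({y} : Set G)).index ∣ (P : Subgroup G).index :=
      index_dvd_of_le fun k hk => mem_centralizer_singleton_iff.2
        (h k y (exists_orderOf_eq_pow P.isPGroup' hk) ⟨q, b, hq, hqp, hb⟩)
    exact (P.card_coprime_index.coprime_dvd_left i1).coprime_dvd_right i2
  · intro h x y hx hy
    have h1 : centralizer ({x} : Set G) ⊓ centralizer {y} ≤ centralizer {x * y} := fun c hc =>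
      mem_centralizer_singleton_iff.2 (Commute.mul_right (mem_centralizer_singleton_iff.1 hc.1)
        (mem_centralizer_singleton_iff.1 hc.2))
    have h2 := index_inf_le (H := centralizer ({x} : Set G)) (K := centralizer {y})
    rw [← h x y hx hy] at h2
    have h3 : centralizer ({x} : Set G) ⊓ centralizer {y} = centralizer {x * y} := by
      refine eq_of_le_of_card_le h1 ?_
      by_contra hlt
      push Not at hlt
      have e1 := index_mul_card (centralizer ({x} : Set G) ⊓ centralizer {y})
      have e2 := index_mul_card (centralizer ({x * y} : Set G))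
      have := Nat.mul_lt_mul_of_le_of_lt h2 hlt (Nat.pos_of_ne_zero index_ne_zero_of_finite)
      omega
    have h4 : x * y ∈ centralizer ({x} : Set G) ⊓ centralizer {y} := by
      rw [h3]; exact mem_centralizer_singleton_iff.2 rfl
    have := mem_centralizer_singleton_iff.1 h4.2
    exact mul_right_cancel (this.trans (mul_assoc _ _ _).symm)

end Cfsg.Agent.S3987
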