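import Cfsg.Statements.S3994
import Cfsg.Agent.Lib.Solv.FrobCount

set_option autoImplicit false
open Cfsg

namespace Cfsg.Agent.S3994

/-- Let G be a finite group and n a positive integer. The number of elements of G whose order is divisible by n is either 0 or divisible by the largest divisor of the order of G that is coprime to n. -/
theorem result {G : Type*} [Group G] [Finite G] (n : ℕ) (hn : 0 < n) :
    Nat.card {g : G // n ∣ orderOf g} = 0 ∨
      (Nat.card G / Nat.gcd (Nat.card G) (n ^ Nat.card G)) ∣ Nat.card {g : G // n ∣ orderOf g} := by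
  open Pointwise commutatorElement Subgroup Cfsg.Agent.Solv in
  open Cfsg.Agent.Transfer in
  right
  have h0 : Nat.card G ≠ 0 := Nat.card_pos.ne'
  set d := Nat.card G / Nat.gcd (Nat.card G) (n ^ Nat.card G) with hd
  have h1 : Nat.gcd (Nat.card G) (n ^ Nat.card G) * d = Nat.card G := Nat.mul_div_cancel' (Nat.gcd_dvd_left _ _)
  have h2 : ∀ q : ℕ, q.Prime → q ∣ d → q ∈ {q | ¬ q ∣ n} := fun q hq h3 h4 => by
    have h5 : q ^ (Nat.card G).factorization q ∣ Nat.gcd (Nat.card G) (n ^ Nat.card G) :=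
      Nat.dvd_gcd (Nat.ordProj_dvd _ _) ((pow_dvd_pow _ (Nat.factorization_lt q h0).le).trans (pow_dvd_pow_of_dvd h4 _))
    refine Nat.pow_succ_factorization_not_dvd h0 hq ?_
    conv_rhs => rw [← h1]
    rw [pow_succ]
    exact Nat.mul_dvd_mul h5 h3
  refine dvd_cnt_of_parts {q | ¬ q ∣ n} ⊤ (fun k _ x hx => by rwa [Transfer.orderOf_conj]) fun v hv => ?_
  have h3 : ∀ u : G, PiE {q | ¬ q ∣ n} u → Commute u v → (n ∣ orderOf (u * v) ↔ n ∣ orderOf v) := fun u hu hc => by
    rw [hc.orderOf_mul_eq_mul_orderOf_of_coprime (hu.coprime hv)]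
    exact Nat.Coprime.dvd_mul_left (Nat.coprime_of_dvd fun q hq h4 h5 => hu q hq h5 h4)
  by_cases h4 : n ∣ orderOf v
  · refine dvd_mul_of_gcd_dvd (b := Nat.card (⊤ ⊓ centralizer {v} : Subgroup G))
      (by rw [relIndex_mul_card_inf', card_top]; exact Dvd.intro_left _ h1) ?_
    refine (dvd_cnt_piE {q | ¬ q ∣ n} _ _ (fun q hq h5 => h2 q hq (h5.trans (Nat.gcd_dvd_left _ _)))
      (Nat.gcd_dvd_right _ _)).trans (dvd_of_eq (cnt_congr fun u => ⟨fun h5 => ?_, fun h5 => ?_⟩))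
    · have h6 : Commute u v := mem_centralizer_singleton_iff.1 h5.1.2
      exact ⟨h5.2, h6, (h3 u h5.2 h6).2 h4⟩
    · exact ⟨mem_inf.2 ⟨trivial, mem_centralizer_singleton_iff.2 h5.2.1⟩, h5.1⟩
  · rw [cnt_eq_zero fun u hu => h4 ((h3 u hu.1 hu.2.1).1 hu.2.2)]; simp

end Cfsg.Agent.S3994
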