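import Cfsg.Statements.S4377
import Mathlib.GroupTheory.OrderOfElement
import Mathlib.NumberTheory.Divisors

set_option autoImplicit false
open Cfsg

namespace Cfsg.Agent.S4377
section
open Pointwise commutatorElement Subgroup
theorem card_pow_eq (G : Type*) [Group G] [Finite G] (n : ℕ) (hn : n ≠ 0) :
    Nat.card {g : G // g ^ n = 1} = ∑ d ∈ n.divisors, Nat.card {g : G // orderOf g = d} := by
  classical
  have := Fintype.ofFinite G
  simp only [Nat.card_eq_fintype_card, Fintype.card_subtype]
  convert (sum_card_orderOf_eq_card_pow_eq_one (G := G) hn).symm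
theorem card_pow_all (G : Type*) [Group G] [Finite G] (n : ℕ) (hn : Nat.card G ∣ n) :
    Nat.card {g : G // g ^ n = 1} = Nat.card G :=
  Nat.card_congr (Equiv.subtypeUnivEquiv fun g => orderOf_dvd_iff_pow_eq_one.1 ((orderOf_dvd_natCard g).trans hn))
end

/-- Two finite groups have the same number of elements of each order if and only if, for every n, they have the same number of elements g with gⁿ = 1. -/
theorem result {G H : Type*} [Group G] [Finite G] [Group H] [Finite H] :
    (∀ n : ℕ, Nat.card {g : G // orderOf g = n} = Nat.card {h : H // orderOf h = n}) ↔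
      ∀ n : ℕ, Nat.card {g : G // g ^ n = 1} = Nat.card {h : H // h ^ n = 1} := by
  open Pointwise commutatorElement Subgroup in
  constructor
  · intro h n
    have key : ∀ n ≠ 0, Nat.card {g : G // g ^ n = 1} = Nat.card {h : H // h ^ n = 1} := fun n hn => by
      rw [card_pow_eq G n hn, card_pow_eq H n hn]
      exact Finset.sum_congr rfl fun d _ => h d
    rcases eq_or_ne n 0 with rfl | hn
    · rw [card_pow_all G 0 (dvd_zero _), card_pow_all H 0 (dvd_zero _)]
      refine (card_pow_all G _ (dvd_mul_right _ (Nat.card H))).symm.trans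
        (Eq.trans ?_ (card_pow_all H _ (dvd_mul_left _ (Nat.card G))))
      exact key _ (mul_ne_zero (Nat.card_pos (α := G)).ne' (Nat.card_pos (α := H)).ne')
    · exact key n hn
  · intro h n
    induction n using Nat.strong_induction_on with
    | h n ih =>
    rcases eq_or_ne n 0 with rfl | hn
    · haveI : IsEmpty {g : G // orderOf g = 0} := ⟨fun g => (orderOf_pos g.1).ne' g.2⟩
      haveI : IsEmpty {g : H // orderOf g = 0} := ⟨fun g => (orderOf_pos g.1).ne' g.2⟩
      rw [Nat.card_of_isEmpty, Nat.card_of_isEmpty]
    · have := h n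
      rw [card_pow_eq G n hn, card_pow_eq H n hn, ← Nat.cons_self_properDivisors hn, Finset.sum_cons,
        Finset.sum_cons, Finset.sum_congr rfl fun d hd => ih d (Nat.mem_properDivisors.1 hd).2] at this
      omega

end Cfsg.Agent.S4377
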