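import Cfsg.Statements.S3997
import Cfsg.Agent.S4377
import Cfsg.Agent.Lib.Solv.Cores
import Cfsg.Agent.Lib.Transfer.Count

set_option autoImplicit false
open Cfsg

namespace Cfsg.Agent.S3997

/-- Let G and H be finite groups with the same order type: for every m they have the same number of elements of order m. If G is nilpotent then so is H. -/
theorem result {G H : Type*} [Group G] [Finite G] [Group H] [Finite H] (hT : (∀ m : ℕ, Nat.card {g : G // orderOf g = m} = Nat.card {h : H // orderOf h = m})) (hG : Group.IsNilpotent G) :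
    Group.IsNilpotent H := by
  open Pointwise commutatorElement Subgroup Cfsg.Agent.Solv in
  have h1 := S4377.result.1 hT
  have h0 : Nat.card G = Nat.card H := by
    have := h1 0
    rwa [S4377.card_pow_all G 0 (dvd_zero _), S4377.card_pow_all H 0 (dvd_zero _)] at this
  refine isNilpotent_of_forall_sylow fun p hp _ => ?_
  haveI := Fact.mk hp
  obtain ⟨P⟩ := (inferInstance : Nonempty (Sylow p G))
  obtain ⟨Q⟩ := (inferInstance : Nonempty (Sylow p H))
  have hc : Nat.card P = Nat.card Q := by rw [P.card_eq_multiplicity, Q.card_eq_multiplicity, h0]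
  have h2 : Nat.card {g : G // g ^ Nat.card P = 1} = Nat.card P := by
    refine Transfer.cnt_congr fun g => ⟨fun h => ?_, fun h => ?_⟩
    · rw [P.card_eq_multiplicity] at h
      obtain ⟨a, ha⟩ := Transfer.exists_conj_mem_sylow P h
      have := (inferInstance : (P : Subgroup G).Normal).conj_mem _ ha a⁻¹
      simpa [mul_assoc] using this
    · exact orderOf_dvd_iff_pow_eq_one.1 (orderOf_dvd_natCard _ h)
  rw [h1, hc] at h2
  have h3 : ∀ h : H, h ^ Nat.card Q = 1 → h ∈ (Q : Subgroup H) := by
    intro h hh
    by_contra hn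
    have e1 := Transfer.cnt_insert (p := fun x => x ∈ (Q : Subgroup H)) hn
    have e2 := Transfer.cnt_mono (p := fun x => x ∈ (Q : Subgroup H) ∨ x = h) (q := fun x => x ^ Nat.card Q = 1) (by
      rintro x (hx | rfl)
      · exact orderOf_dvd_iff_pow_eq_one.1 (orderOf_dvd_natCard _ hx)
      · exact hh)
    rw [e1, h2] at e2
    exact absurd e2 (Nat.not_succ_le_self _)
  refine ⟨Q, ⟨fun x hx g => h3 _ ?_⟩⟩
  rw [conj_pow, orderOf_dvd_iff_pow_eq_one.1 (orderOf_dvd_natCard _ hx)]; simp

end Cfsg.Agent.S3997
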