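import Cfsg.Statements.S3999
import Cfsg.Agent.Lib.Ez.E6
import Cfsg.Agent.Lib.Transfer.FC5
import Cfsg.Agent.Lib.Solv.Schmidt

set_option autoImplicit false
open Cfsg

namespace Cfsg.Agent.S3999

open Subgroup Cfsg.Agent.Comp Cfsg.Agent.BG Cfsg.Agent.Ez in
theorem sol_iff {G : Type*} [Group G] [Finite G] {K C : Subgroup G} [K.Normal]
    (hc : K.IsComplement' C) (hK : K ≠ ⊥) (hC : C ≠ ⊥)
    (hf : ∀ h ∈ C, h ≠ 1 → K ⊓ centralizer {h} = ⊥) :
    Group.IsSolvable G ↔ (15 ∣ Nat.card C → ∃ x : G, orderOf x = 15) := by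
  refine ⟨fun h h1 => ?_, fun h => ?_⟩
  · obtain ⟨H, h2⟩ := exists_hallIn (M := C) inferInstance {3, 5}
    have h3 := h2.dvd_card Nat.prime_three (by simp) (.trans (by norm_num) h1)
    have h5 := h2.dvd_card Nat.prime_five (by simp) (.trans (by norm_num) h1)
    obtain ⟨x, x1, x2, x3⟩ := Solv.exists_central_of_fpf (K := K) (H := H) le_normalizer_of_normal
      (Solv.fpf_mono le_rfl h2.le hf) hK (ne_bot_of_dvd Nat.prime_three h3)
    rcases h2.isPi.orderOf x1 _ x2 dvd_rfl with e | e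
    · obtain ⟨y, y1, y2⟩ := Solv.exists_subgroup_card_prime Nat.prime_five h5
      exact ⟨y * x, by rw [Commute.orderOf_mul_eq_mul_orderOf_of_coprime (x3 y y1)
        (by rw [y2, e]; norm_num), y2, e]⟩
    · obtain ⟨y, y1, y2⟩ := Solv.exists_subgroup_card_prime Nat.prime_three h3
      exact ⟨y * x, by rw [Commute.orderOf_mul_eq_mul_orderOf_of_coprime (x3 y y1)
        (by rw [y2, e]; norm_num), y2, e]⟩
  have := Solv.thompson_fpf le_normalizer_of_normal hC hf
  suffices Group.IsSolvable C by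
    have : Group.IsSolvable (⊤ : Subgroup G) := hc.symm.sup_eq_top ▸
      Solv.isSolvable_sup le_normalizer_of_normal this IsNilpotent.to_isSolvable
    exact Group.isSolvable_of_surjective (f := (⊤ : Subgroup G).subtype) fun x => ⟨⟨x, trivial⟩, rfl⟩
  by_contra hn
  obtain ⟨S, φ, h1⟩ := (Transfer.FC.FR.of_frob (Solv.isFrobeniusComplement_of_fpf hc.sup_eq_top hK hC hf)
    (MulEquiv.refl C)).ns hn
  have h2 : 15 ∣ Nat.card C := .trans (by rw [h1.card]; norm_num) (card_subgroup_dvd_card S)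
  obtain ⟨x, hx⟩ := h h2
  obtain ⟨k, -, hk⟩ := Solv.exists_mem_conj_of_notMem_kernel hc.sup_eq_top hf (x := x) fun e => by
    have := Nat.eq_one_of_dvd_coprimes (Solv.coprime_of_fpf le_normalizer_of_normal hf) h2
      (hx ▸ K.orderOf_dvd_natCard e)
    omega
  obtain ⟨y, hy⟩ : ∃ y : C, orderOf y = 15 := ⟨⟨_, hk⟩, by
    rw [← orderOf_coe, ← hx]; simpa using (MulAut.conj k⁻¹).orderOf_eq x⟩
  have key : ∀ z : Equiv.Perm (Fin 5), z ^ 15 = 1 → z ^ 3 = 1 ∨ z ^ 5 = 1 := by decide +kernel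
  rcases key (φ y) (by rw [← map_pow, ← hy, pow_orderOf_eq_one, map_one]) with e | e
  · obtain ⟨s, s1, s2⟩ := h1.exists_ord (n := 5) (by simp)
    refine h1.not_dvd (c := y ^ 3) (h1.ker.le (by simpa using e)) s1 (fun e => ?_) (by
      rw [orderOf_pow_of_dvd (by norm_num) (by rw [hy]; norm_num), hy, s2])
    exact absurd (s2 ▸ orderOf_dvd_of_pow_eq_one ((sq s).trans e)) (by norm_num)
  · obtain ⟨s, s1, s2⟩ := h1.exists_ord (n := 3) (by simp)
    refine h1.not_dvd (c := y ^ 5) (h1.ker.le (by simpa using e)) s1 (fun e => ?_) (by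
      rw [orderOf_pow_of_dvd (by norm_num) (by rw [hy]; norm_num), hy, s2])
    exact absurd (s2 ▸ orderOf_dvd_of_pow_eq_one ((sq s).trans e)) (by norm_num)

/-- Let F be a finite Frobenius group (it has a Frobenius complement) and G a finite group with the same order type as F (for every m the same number of elements of order m). Then G is a Frobenius group; moreover G is solvable if and only if F is. -/
theorem result {F G : Type*} [Group F] [Finite F] [Group G] [Finite G] (hF : (∃ C : Subgroup F, Cfsg.IsFrobeniusComplement C)) (hT : (∀ m : ℕ, Nat.card {g : F // orderOf g = m} = Nat.card {h : G // orderOf h = m})) :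
    (∃ C : Subgroup G, Cfsg.IsFrobeniusComplement C) ∧ (Group.IsSolvable G ↔ Group.IsSolvable F) := by
  open Subgroup Cfsg.Agent.Comp Cfsg.Agent.BG Cfsg.Agent.Ez in
  obtain ⟨C, hC⟩ := hF
  obtain ⟨K, -, hn, hc, hK, hf⟩ := Solv.exists_frobenius_kernel hC
  obtain ⟨σ, h⟩ := exists_ord_equiv hT
  have hcop := Solv.coprime_of_fpf le_normalizer_of_normal hf
  have hnil := Solv.thompson_fpf le_normalizer_of_normal hC.1 hf
  have h1 : HallIn (primesOf (Nat.card K)) K ⊤ := hallIn_mk le_top (piN_primesOf _)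
    (by rw [relIndex_top_right, hc.symm.index_eq_card]; exact piN_compl_primesOf.2 hcop)
  set K' := Opi (primesOf (Nat.card K)) (⊤ : Subgroup G)
  have hn' : K'.Normal := normalizer_eq_top_iff.1 (top_unique (le_normalizer_Opi_of_le le_rfl))
  have h2 : HallIn (primesOf (Nat.card K)) K' ⊤ := hallIn_mk le_top (isPi_Opi _ _) fun p hp hd hm => by
    have := Fact.mk hp
    obtain ⟨P⟩ : Nonempty (Sylow p F) := inferInstance
    obtain ⟨Q⟩ : Nonempty (Sylow p G) := inferInstance
    have k1 : HallIn {p} (P : Subgroup F) ⊤ := hallIn_mk le_top (isPi_singleton.2 P.2)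
      (by rw [relIndex_top_right]; exact piN_compl_singleton'.2 P.not_dvd_index)
    have k2 := k1.of_le (h1.le_of_normalizer le_top (isPi_of_isPGroup P.2 hm) le_normalizer_of_normal)
      le_top
    have k3 : (P : Subgroup F).Normal := normalizer_eq_top_iff.1 (top_unique
      (le_normalizer_of_normal.trans (k2.normalizer_le (k2.le_normalizer_of_isNilpotent hnil))))
    have k4 : (Q : Subgroup G).Normal := normal_of_cnt (Q := PiN {p})
      (fun x => (isPi_singleton.2 Q.2).orderOf) (by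
        rw [← cnt_ord_equiv h, cnt_normal_hall k1, P.card_eq_multiplicity, Q.card_eq_multiplicity,
          Nat.card_congr σ])
    rw [relIndex_top_right] at hd
    exact Q.not_dvd_index (hd.trans (index_dvd_of_le
      (le_Opi le_top le_normalizer_of_normal (isPi_of_isPGroup Q.2 hm))))
  have h3 : Nat.card K' = Nat.card K := by
    rw [← cnt_normal_hall h1, ← cnt_normal_hall h2, cnt_ord_equiv h]
  obtain ⟨C', hc'⟩ := exists_right_complement'_of_coprime (N := K') (relIndex_top_right K' ▸ h2.coprime)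
  have h4 : Nat.card C' = Nat.card C := Nat.eq_of_mul_eq_mul_left (Nat.card_pos (α := K))
    (by rw [hc.card_mul, Nat.card_congr σ, ← hc'.card_mul, h3])
  have hK' : K' ≠ ⊥ := fun e => hK (card_eq_one.1 (by rw [← h3, e, card_bot]))
  have hC' : C' ≠ ⊥ := fun e => hC.1 (card_eq_one.1 (by rw [← h4, e, card_bot]))
  have hf' : ∀ x ∈ C', x ≠ 1 → K' ⊓ centralizer {x} = ⊥ := fun x hx x1 => Solv.fpf_iff.2 fun y hy e => by
    have a := h4 ▸ C'.orderOf_dvd_natCard hx
    have b := h3 ▸ K'.orderOf_dvd_natCard hy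
    obtain ⟨z, hz⟩ := σ.surjective (x * y)
    have c := h z
    rw [hz, Commute.orderOf_mul_eq_mul_orderOf_of_coprime e (Nat.Coprime.of_dvd a b hcop)] at c
    by_cases d : z ∈ K
    · exact absurd (orderOf_eq_one_iff.1 (Nat.eq_one_of_dvd_coprimes hcop a
        ((c ▸ dvd_mul_right _ _ : _ ∣ orderOf z).trans (K.orderOf_dvd_natCard d)))) x1
    obtain ⟨k, -, hk⟩ := Solv.exists_mem_conj_of_notMem_kernel hc.sup_eq_top hf d
    have d := C.orderOf_dvd_natCard hk
    rw [show orderOf (k⁻¹ * z * k) = orderOf z by simpa using (MulAut.conj k⁻¹).orderOf_eq z] at d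
    exact orderOf_eq_one_iff.1 (Nat.eq_one_of_dvd_coprimes hcop
      ((c ▸ dvd_mul_left _ _ : _ ∣ orderOf z).trans d) b)
  refine ⟨⟨C', Solv.isFrobeniusComplement_of_fpf hc'.sup_eq_top hK' hC' hf'⟩, ?_⟩
  rw [sol_iff hc hK hC.1 hf, sol_iff hc' hK' hC' hf', h4]
  exact imp_congr_right fun _ => ⟨fun ⟨x, hx⟩ => ⟨σ.symm x, by rw [← h, σ.apply_symm_apply, hx]⟩,
    fun ⟨x, hx⟩ => ⟨σ x, by rw [h, hx]⟩⟩

end Cfsg.Agent.S3999
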