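import Cfsg.Statements.S4002
import Cfsg.Agent.Lib.BG.MinNA

set_option autoImplicit false
open Cfsg

namespace Cfsg.Agent.S4002
section
open Pointwise commutatorElement Subgroup
open Cfsg.Agent.Comp Cfsg.Agent.BG Subgroup commutatorElement in
theorem exOp {G : Type*} [Group G] [Finite G] {H : Subgroup G} (hs : Group.IsSolvable H) (h : H ≠ ⊥) :
    ∃ s : ℕ, s.Prime ∧ s ∣ Nat.card H ∧ Op s H ≠ ⊥ := by
  by_contra hn
  push_neg at hn
  apply Fit_ne_bot hs h
  rw [eq_bot_iff]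
  refine le_of_isNilpotent_of_Op_le (isNilpotent_Fit H) fun q hq hd => ?_
  haveI : Fact q.Prime := ⟨hq⟩
  rw [← hn q hq (hd.trans (Subgroup.card_dvd_of_le (Fit_le H)))]
  exact Op_le_Op_of_normal (Fit_le H) (le_normalizer_Fit le_normalizer)

open Cfsg.Agent.Comp Cfsg.Agent.BG Subgroup commutatorElement in
theorem lemB {G : Type*} [Group G] [Finite G] {N K : Subgroup G} {q r : ℕ} (hq : q.Prime) (hr : r.Prime) (hqr : q ≠ r)
    (hn : K ≤ Nm(N)) (hf : ∀ h ∈ K, h ≠ 1 → N ⊓ C1(h) = ⊥) (hN : N ≠ ⊥) (hd : r ∣ Nat.card K) (h : Op q K ≠ ⊥) :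
    ∃ g : G, orderOf g = q * r := by
  haveI : Fact q.Prime := ⟨hq⟩
  haveI : Fact r.Prime := ⟨hr⟩
  have hZK : OmZ q (Op q K) ≤ K := (OmZ_le _ _).trans (Op_le q K)
  have hel := isElementaryAbelian_OmZ q (Op q K)
  have hc := Solv.isCyclic_of_fpf_of_abelian (hZK.trans hn) (fun h hh => hf h (hZK hh)) hN hel.1
  obtain ⟨m, hm⟩ := exists_el_of_elem hel
  have hm1 : m = 1 := by
    rcases m with _ | _ | m
    · exact absurd (Subgroup.card_eq_one.1 hm.card) (OmZ_ne_bot (isPGroup_Op q K) h)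
    · rfl
    · exact absurd hc (hm.not_isCyclic (by omega))
  subst hm1
  obtain ⟨y, hy, ho⟩ := exists_mem_orderOf_eq hd
  have h1 : zpowers y ≤ Nm(OmZ q (Op q K)) :=
    (zpowers_le.2 hy).trans (le_normalizer_OmZ (le_normalizer_Op le_normalizer))
  have hle : zpowers y ⊔ OmZ q (Op q K) ≤ K := sup_le (zpowers_le.2 hy) hZK
  have hcard : Nat.card (zpowers y ⊔ OmZ q (Op q K) : Subgroup G) = r * q := by
    have := Comp.card_sup_mul_card_inf h1
    rwa [Solv.inf_eq_bot_of_coprime' (by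
      rw [Nat.card_zpowers, ho, hm.card_one]; exact (Nat.coprime_primes hr hq).2 hqr.symm), card_bot, mul_one,
      Nat.card_zpowers, ho, hm.card_one] at this
  have := Solv.isCyclic_of_fpf_of_card_mul_primes (hle.trans hn) (fun h hh => hf h (hle hh)) hN hr hq hcard
  obtain ⟨g, hg⟩ := this.exists_ofOrder_eq_natCard
  exact ⟨g, by rw [Subgroup.orderOf_coe, hg, hcard, mul_comm]⟩

open Cfsg.Agent.Comp Cfsg.Agent.BG Subgroup commutatorElement in
theorem lemA {G : Type*} [Group G] [Finite G] {H : Subgroup G} (hs : Group.IsSolvable H) {p q r : ℕ}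
    (hp : p.Prime) (hq : q.Prime) (hr : r.Prime) (hpq : p ≠ q) (hpr : p ≠ r) (hqr : q ≠ r)
    (dq : q ∣ Nat.card H) (dr : r ∣ Nat.card H) (h : Op p H ≠ ⊥) :
    ∃ g : G, orderOf g = p * q ∨ orderOf g = p * r ∨ orderOf g = q * r := by
  haveI : Fact p.Prime := ⟨hp⟩
  by_contra hno
  push_neg at hno
  obtain ⟨K, hK⟩ := exists_hallIn hs {q, r}
  have hf : ∀ h ∈ K, h ≠ 1 → Op p H ⊓ C1(h) = ⊥ := by
    intro h hh h1
    by_contra hb
    obtain ⟨X, hX, hXel⟩ := exists_el_one_of_isPGroup (isPGroup_Op p H).to_inf_left hb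
    obtain ⟨x, hx, rfl⟩ := hXel.exists_zpowers
    obtain ⟨y, hy, hyp⟩ := exists_prime_order_mem (H := zpowers h) (by rwa [Ne, zpowers_eq_bot])
    have cm : Commute x y := by
      obtain ⟨k, rfl⟩ := hy
      exact Commute.zpow_right (mem_centralizer_singleton_iff.1 (hX (mem_zpowers x)).2) k
    have hm := hK.isPi.orderOf (zpowers_le.2 hh hy) _ hyp dvd_rfl
    rcases hm with e | e
    · exact (hno _).1 (by rw [cm.orderOf_mul_eq_mul_orderOf_of_coprime (by
        rw [hx, e]; exact (Nat.coprime_primes hp hq).2 hpq), hx, e])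
    · exact (hno _).2.1 (by rw [cm.orderOf_mul_eq_mul_orderOf_of_coprime (by
        rw [hx, e]; exact (Nat.coprime_primes hp hr).2 hpr), hx, e])
  have hn : K ≤ Nm(Op p H) := hK.le.trans (le_normalizer_Op le_normalizer)
  have kq := hK.dvd_card hq (Or.inl rfl) dq
  have kr := hK.dvd_card hr (Or.inr rfl) dr
  obtain ⟨s, hs1, hs2, hs3⟩ := exOp (Comp.isSolvable_of_le hK.le hs) (ne_bot_of_dvd hq kq)
  rcases hK.isPi s hs1 hs2 with e | e
  · obtain ⟨g, hg⟩ := lemB hq hr hqr hn hf h kr (e ▸ hs3)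
    exact (hno g).2.2 hg
  · obtain ⟨g, hg⟩ := lemB hr hq hqr.symm hn hf h kq ((show s = r from e) ▸ hs3)
    exact (hno g).2.2 (hg.trans (mul_comm _ _))

open Cfsg.Agent.Comp Cfsg.Agent.BG Subgroup commutatorElement in
theorem three {G : Type*} [Group G] [Finite G] (hs : Group.IsSolvable G) {p q r : ℕ}
    (hp : p.Prime) (hq : q.Prime) (hr : r.Prime) (hpq : p ≠ q) (hpr : p ≠ r) (hqr : q ≠ r)
    (dp : p ∣ Nat.card G) (dq : q ∣ Nat.card G) (dr : r ∣ Nat.card G) :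
    ∃ g : G, orderOf g = p * q ∨ orderOf g = p * r ∨ orderOf g = q * r := by
  obtain ⟨H, hH⟩ := exists_hallIn (M := (⊤ : Subgroup G)) inferInstance {p, q, r}
  rw [← Subgroup.card_top] at dp dq dr
  have kp := hH.dvd_card hp (Or.inl rfl) dp
  have kq := hH.dvd_card hq (Or.inr (Or.inl rfl)) dq
  have kr := hH.dvd_card hr (Or.inr (Or.inr rfl)) dr
  obtain ⟨s, hs1, hs2, hs3⟩ := exOp (H := H) inferInstance (ne_bot_of_dvd hq kq)
  rcases hH.isPi s hs1 hs2 with e | e | e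
  · exact lemA inferInstance hp hq hr hpq hpr hqr kq kr (e ▸ hs3)
  · obtain ⟨g, hg⟩ := lemA inferInstance hq hp hr hpq.symm hqr hpr kp kr (e ▸ hs3)
    refine ⟨g, ?_⟩
    rw [mul_comm q p] at hg
    tauto
  · obtain ⟨g, hg⟩ := lemA inferInstance hr hp hq hpr.symm hqr.symm hpq kp kq ((show s = r from e) ▸ hs3)
    refine ⟨g, ?_⟩
    rw [mul_comm r p, mul_comm r q] at hg
    tauto

theorem primes (n : ℕ) (hn : 7 ≤ n) : ∃ p q r : ℕ, p.Prime ∧ q.Prime ∧ r.Prime ∧ p < q ∧ q < r ∧ r ≤ n ∧ n < p * q := by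
  by_cases h1 : n < 10
  · exact ⟨2, 5, 7, by norm_num, by norm_num, by norm_num, by omega, by omega, by omega, by omega⟩
  by_cases h2 : n < 15
  · exact ⟨3, 5, 7, by norm_num, by norm_num, by norm_num, by omega, by omega, by omega, by omega⟩
  by_cases h3 : n < 77
  · exact ⟨7, 11, 13, by norm_num, by norm_num, by norm_num, by omega, by omega, by omega, by omega⟩
  obtain ⟨p, hp, p1, p2⟩ := Nat.exists_prime_lt_and_le_two_mul (n / 8) (by omega)
  obtain ⟨q, hq, q1, q2⟩ := Nat.exists_prime_lt_and_le_two_mul (n / 4) (by omega)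
  obtain ⟨r, hr, r1, r2⟩ := Nat.exists_prime_lt_and_le_two_mul (n / 2) (by omega)
  refine ⟨p, q, r, hp, hq, hr, by omega, by omega, by omega, ?_⟩
  have : 9 ≤ p := by omega
  have : n < 4 * q := by omega
  nlinarith
end

/-- If the set of element orders of a finite group G is {1, 2, …, n} with n ≥ 7, then G is not solvable. -/
theorem result {G : Type*} [Group G] [Finite G] (n : ℕ) (hn : 7 ≤ n) (h : Set.range (orderOf : G → ℕ) = {k : ℕ | 1 ≤ k ∧ k ≤ n}) : ¬ Group.IsSolvable G := by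
  open Pointwise commutatorElement Subgroup in
  intro hs
  obtain ⟨p, q, r, hp, hq, hr, h1, h2, h3, h4⟩ := primes n hn
  have dv : ∀ k, 1 ≤ k → k ≤ n → k ∣ Nat.card G := by
    intro k a b
    obtain ⟨g, rfl⟩ : k ∈ Set.range (orderOf : G → ℕ) := h ▸ ⟨a, b⟩
    exact orderOf_dvd_natCard g
  obtain ⟨g, hg⟩ := three hs hp hq hr h1.ne (h1.trans h2).ne h2.ne (dv p hp.pos (by omega)) (dv q hq.pos (by omega))
    (dv r hr.pos h3)
  have : orderOf g ∈ {k : ℕ | 1 ≤ k ∧ k ≤ n} := h ▸ ⟨g, rfl⟩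
  have h5 := this.2
  rcases hg with e | e | e <;> rw [e] at h5 <;> nlinarith

end Cfsg.Agent.S4002
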