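import Cfsg.Statements.S4003
import Cfsg.Agent.Lib.Solv.FrobCount
import Cfsg.Agent.Lib.BG.Pgp
import Cfsg.Agent.Lib.Solv.PGrp

set_option autoImplicit false
open Cfsg

namespace Cfsg.Agent.S4003
section
open Pointwise commutatorElement Subgroup Cfsg.Agent.Solv
open Cfsg.Agent.Transfer
theorem auxP {G : Type*} [Group G] [Finite G] {p : ℕ} [hp : Fact p.Prime] (h2 : p ≠ 2) {S : Subgroup G}
    (hS : IsPGroup p S) (hc : ¬ IsCyclic S) {s : ℕ} :
    p ^ (s + 2) ∣ Nat.card {u // u ∈ S ∧ orderOf u = p ^ (s + 2)} := by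
  obtain ⟨E, h1, h3, h4, h5, h6⟩ := exists_normal_elementary_sq h2 hS.isNilpotent hS le_rfl le_normalizer hc
  have hE : IsPGroup p E := hS.to_le h1
  have h7 := BG.commutator_le_Ct_of_card_le hS hE h6 h3.le
  have h8 : ∀ e ∈ E, ∀ x ∈ S, (e * x) ^ p = x ^ p := fun e he x hx => by
    have h9 : ⁅x⁻¹, e⁻¹⁆ ∈ ⁅E, S⁆ := by
      rw [commutator_comm]; exact commutator_mem_commutator (inv_mem hx) (inv_mem he)
    rw [BG.mul_pow_of_class2 h2 (BG.commute_of_mem_Ct (h7 h9) (h1 he)) (BG.commute_of_mem_Ct (h7 h9) hx)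
      (h5 _ (Comp.commutator_le_left_of_le_normalizer h6 h9)), h5 e he, one_mul]
  have h9 : ∀ u : G, orderOf u = p ^ (s + 2) ↔ orderOf (u ^ p) = p ^ (s + 1) := fun u => by
    constructor
    · intro h
      rw [orderOf_pow_of_dvd hp.out.ne_zero (h ▸ dvd_pow_self _ (by omega)), h, pow_succ,
        Nat.mul_div_cancel _ hp.out.pos]
    · intro h
      have := orderOf_eq_mul_of_pow (b := 1) (w := u) hp.out ((piE_singleton hp.out).2 ⟨s + 1, by rw [pow_one, h]⟩)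
        (by
          rw [pow_one, Ne, ← orderOf_eq_one_iff, h]
          exact (Nat.one_lt_pow (by omega) hp.out.one_lt).ne')
      rw [this, pow_one, h]; ring
  refine dvd_cnt_of_fiber (fun u => zpowers (u ^ p)) fun u hu => ?_
  have h10 : zpowers (u ^ p) ≤ S := zpowers_le.2 (pow_mem hu.1 _)
  refine Dvd.dvd.trans ?_ (card_dvd_cnt_of_mul (E ⊔ zpowers (u ^ p)) fun a ha w hw => ?_)
  · have h11 := Solv.card_sup_mul_card_inf (h10.trans h6)
    rw [h3, Nat.card_zpowers, (h9 u).1 hu.2, sup_comm] at h11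
    obtain ⟨i, hi, h12⟩ := (Nat.dvd_prime_pow hp.out).1 (h3 ▸ card_dvd_of_le (inf_le_right : zpowers (u ^ p) ⊓ E ≤ E))
    have h13 : i ≠ 2 := by
      rintro rfl
      have := Solv.eq_of_le_of_card_le (inf_le_right : zpowers (u ^ p) ⊓ E ≤ E) (by rw [h12, h3])
      exact not_isCyclic_of_card_sq hp.out h3 h5 (isCyclic_of_le (this ▸ inf_le_left : E ≤ zpowers (u ^ p)))
    refine Nat.dvd_of_mul_dvd_mul_right (pow_pos hp.out.pos i) ?_
    rw [← h12, h11, h12, ← pow_add, ← pow_add]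
    exact pow_dvd_pow _ (by omega)
  · rw [← hw.2] at ha
    obtain ⟨e, he, _, ⟨k, rfl⟩, rfl⟩ := (Solv.mem_sup_of_le_normalizer' ((zpowers_le.2 (pow_mem hw.1.1 _)).trans h6)).1 ha
    have h11 : (w ^ p) ^ k * w ∈ S := mul_mem (zpow_mem (pow_mem hw.1.1 _) _) hw.1.1
    have h12 : (e * (w ^ p) ^ k * w) ^ p = (w ^ p) ^ (p * k + 1 : ℤ) := by
      rw [mul_assoc, h8 e he _ h11, ← zpow_natCast w, ← zpow_mul, ← zpow_add_one, ← zpow_natCast, ← zpow_mul,
        ← zpow_mul, mul_comm]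
    have h13 : zpowers ((w ^ p) ^ (p * k + 1 : ℤ)) = zpowers (w ^ p) := by
      refine le_antisymm (zpowers_le.2 (zpow_mem (mem_zpowers _) _)) (zpowers_le.2 ?_)
      refine mem_zpowers_zpow_iff.2 ?_
      rw [(h9 w).1 hw.1.2, Nat.cast_pow, ← Int.isCoprime_iff_gcd_eq_one]
      exact IsCoprime.pow_right ⟨1, -k, by ring⟩
    simp only
    refine ⟨⟨by rw [mul_assoc]; exact mul_mem (h1 he) h11, (h9 _).2 ?_⟩, by rw [h12, h13, hw.2]⟩
    rw [← Nat.card_zpowers, h12, h13, Nat.card_zpowers, (h9 w).1 hw.1.2]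
theorem auxK {G : Type*} [Group G] [Finite G] {p : ℕ} [hp : Fact p.Prime] (h2 : p ≠ 2) {S K : Subgroup G}
    (hS : IsSylowIn p S K) (hc : ¬ IsCyclic S) {s : ℕ} :
    p ^ (s + 2) ∣ Nat.card {u // u ∈ K ∧ orderOf u = p ^ (s + 2)} := by
  rw [cnt_split _ (· ∈ S)]
  refine dvd_add ((auxP h2 hS.isPGroup hc).trans (dvd_of_eq (cnt_congr fun u =>
    ⟨fun h => ⟨⟨hS.le h.1, h.2⟩, h.1⟩, fun h => ⟨h.2, h.1.2⟩⟩))) ?_
  rw [cnt_eq_cnt_zpowers_mul (n := p ^ (s + 2)) (fun u hu => hu.1.2), Nat.totient_prime_pow_succ hp.out]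
  · refine (dvd_of_eq (pow_succ' _ _)).trans (Nat.mul_dvd_mul ?_ (dvd_mul_right _ _))
    refine dvd_cnt_of_conj S ?_ ?_
    · rintro g hg _ ⟨u, hu, rfl⟩
      refine ⟨g * u * g⁻¹, ⟨⟨mul_mem (mul_mem (hS.le hg) hu.1.1) (inv_mem (hS.le hg)), by
        rw [Transfer.orderOf_conj, hu.1.2]⟩, fun h => hu.2 ?_⟩, (Comp.cj_zpowers g u).symm⟩
      simpa [mul_assoc] using mul_mem (mul_mem (inv_mem hg) h) hg
    · rintro _ ⟨u, hu, rfl⟩
      exact prime_dvd_relIndex hS.isPGroup fun h => hu.2 (hS.le_of_le_normalizer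
        (isPGroup_zpowers_of_orderOf hu.1.2) (zpowers_le.2 hu.1.1) h (mem_zpowers u))
  · intro u w h hu
    refine ⟨⟨zpowers_le.1 (h ▸ zpowers_le.2 hu.1.1), by rw [← Nat.card_zpowers, h, Nat.card_zpowers, hu.1.2]⟩,
      fun h3 => hu.2 (zpowers_le.1 (h ▸ zpowers_le.2 h3))⟩
end

/-- Let G be a finite group, p an odd prime dividing the order of G whose Sylow p-subgroups are not cyclic, and n = p^s·m with s > 1 and m coprime to p. Then the number of elements of G of order n is a multiple of p^s. -/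
theorem result {G : Type*} [Group G] [Finite G] (p : ℕ) [Fact p.Prime] (hodd : p ≠ 2) (hpG : p ∣ Nat.card G)
    (P : Sylow p G) (hP : ¬ IsCyclic ↥(P : Subgroup G)) (s m : ℕ) (hs : 1 < s) (hm : Nat.Coprime p m) :
    p ^ s ∣ Nat.card {g : G // orderOf g = p ^ s * m} := by
  open Pointwise commutatorElement Subgroup Cfsg.Agent.Solv in
  open Cfsg.Agent.Transfer in
  have hp : p.Prime := Fact.out
  obtain ⟨s, rfl⟩ : ∃ t, s = t + 2 := ⟨s - 2, by omega⟩
  refine dvd_cnt_of_parts {p} ⊤ (fun k _ x hx => by rwa [Transfer.orderOf_conj]) fun v hv => ?_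
  by_cases h1 : orderOf v = m
  swap
  · rw [cnt_eq_zero]
    · simp
    rintro u ⟨h2, h3, h4⟩
    obtain ⟨k, hk⟩ := (piE_singleton hp).1 h2
    rw [h3.orderOf_mul_eq_mul_orderOf_of_coprime (h2.coprime hv), hk] at h4
    have h5 := (hp.coprime_iff_not_dvd).2 ((piE_compl_singleton hp).1 hv)
    exact h1 (Nat.dvd_antisymm ((h5.symm.pow_right _).dvd_of_dvd_mul_left (h4 ▸ dvd_mul_left _ _))
      ((hm.symm.pow_right _).dvd_of_dvd_mul_left (h4.symm ▸ dvd_mul_left _ _ : m ∣ p ^ k * orderOf v)))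
  rw [cnt_congr (q := fun u => u ∈ centralizer {v} ∧ orderOf u = p ^ (s + 2))]
  · by_cases h2 : p ∣ (centralizer ({v} : Set G)).relIndex ⊤
    · refine (dvd_of_eq (pow_succ' _ _)).trans (Nat.mul_dvd_mul h2 (Dvd.dvd.trans ?_ (totient_dvd_cnt (n := p ^ (s + 2)) (fun u hu => hu.2) fun u w h hu =>
        ⟨zpowers_le.1 (h ▸ zpowers_le.2 hu.1), by rw [← Nat.card_zpowers, h, Nat.card_zpowers, hu.2]⟩)))
      rw [Nat.totient_prime_pow_succ hp]
      exact dvd_mul_right _ _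
    · obtain ⟨S, hS⟩ := exists_isSylowIn p (centralizer ({v} : Set G))
      refine (auxK hodd hS fun hc => hP ?_).mul_left _
      obtain ⟨Q, hQ⟩ := (hS.toSyl.trans le_top h2).exists_sylow
      haveI : IsCyclic Q := hQ ▸ hc
      exact isCyclic_of_surjective _ (Q.equiv P).surjective
  · intro u
    constructor
    · rintro ⟨h2, h3, h4⟩
      rw [h3.orderOf_mul_eq_mul_orderOf_of_coprime (h2.coprime hv), h1] at h4
      exact ⟨mem_centralizer_singleton_iff.2 h3, Nat.eq_of_mul_eq_mul_right (h1 ▸ orderOf_pos v) h4⟩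
    · rintro ⟨h2, h3⟩
      have h4 := (piE_singleton hp).2 ⟨_, h3⟩
      have h5 : Commute u v := mem_centralizer_singleton_iff.1 h2
      exact ⟨h4, h5, by rw [h5.orderOf_mul_eq_mul_orderOf_of_coprime (h4.coprime hv), h1, h3]⟩

end Cfsg.Agent.S4003
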