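import Cfsg.Statements.S4013
import Cfsg.Agent.Lib.Transfer.Count
import Cfsg.Agent.Lib.BG.Pgp

set_option autoImplicit false
open Cfsg

namespace Cfsg.Agent.S4013

/-- Let G be a finite p-group (p prime) and N < M normal subgroups of G such that for some g ∈ M ∖ N the conjugacy class of g is exactly M ∖ N. Then p = 2 and N has index 2 in M. -/
theorem result {G : Type*} [Group G] [Finite G] (p : ℕ) [Fact p.Prime] (hG : IsPGroup p G) (N M : Subgroup G) [N.Normal] [M.Normal] (hNM : N < M) (g : G) (hgM : g ∈ M) (hgN : g ∉ N) (hcl : {h : G | IsConj g h} = (M : Set G) \ (N : Set G)) : p = 2 ∧ N.relIndex M = 2 := by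
  open Pointwise commutatorElement Subgroup in
  open Cfsg.Agent.Solv in
  have h1 : Nat.card {h : G | IsConj g h} = (centralizer ({g} : Set G)).index :=
    Transfer.card_isConj_eq_index g
  have h2 : Nat.card {h : G | IsConj g h} + Nat.card N = Nat.card M := by
    rw [hcl, Nat.card_coe_set_eq, ← SetLike.coe_sort_coe, ← SetLike.coe_sort_coe, Nat.card_coe_set_eq,
      Nat.card_coe_set_eq]
    exact Set.ncard_diff_add_ncard_of_subset hNM.le
  obtain ⟨k, hk⟩ := hG.index (centralizer ({g} : Set G))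
  obtain ⟨j, hj⟩ := BG.relIndex_eq_pow (hG.to_subgroup M) N
  have h3 := card_mul_relIndex hNM.le
  have hp : p.Prime := Fact.out
  rcases j with _ | j
  · rw [pow_zero, relIndex_eq_one] at hj
    exact absurd hj hNM.not_ge
  rw [h1, hk, ← h3, hj] at h2
  have h4 : p ^ (j + 1) - 1 ∣ p ^ k := ⟨Nat.card N, by rw [Nat.sub_mul, mul_comm, ← h2]; simp⟩
  obtain ⟨i, -, hi⟩ := (Nat.dvd_prime_pow hp).1 h4
  have h5 : 1 ≤ p ^ (j + 1) := Nat.one_le_pow _ _ hp.pos
  rcases i with _ | i
  · have h6 : p ^ (j + 1) = 2 := by rw [pow_zero] at hi; omega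
    refine ⟨?_, hj.trans h6⟩
    exact (Nat.prime_dvd_prime_iff_eq hp Nat.prime_two).1 (h6 ▸ dvd_pow_self p (by omega))
  · exfalso
    have h6 : p ^ (j + 1) = p ^ (i + 1) + 1 := by omega
    have : p ∣ 1 := (Nat.dvd_add_right (dvd_pow_self p (by omega))).1 (h6 ▸ dvd_pow_self p (by omega))
    exact hp.one_lt.ne' (Nat.dvd_one.1 this)

end Cfsg.Agent.S4013
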