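import Cfsg.Statements.S4014
import Cfsg.Agent.Lib.Fusion.SymSyl

set_option autoImplicit false
open Cfsg

namespace Cfsg.Agent.S4014

open Subgroup Fusion Fusion.Sym Equiv RegularWreathProduct
open scoped commutatorElement

/-- derived series of a subgroup -/
def D {G : Type*} [Group G] (H : Subgroup G) : ℕ → Subgroup G
  | 0 => H
  | k + 1 => ⁅D H k, D H k⁆

theorem D_eq {G : Type*} [Group G] (H : Subgroup G) (k : ℕ) : (derivedSeries H k).map H.subtype = D H k := by
  induction k with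
  | zero => simp [D, ← MonoidHom.range_eq_map]
  | succ k ih => rw [derivedSeries_succ, map_commutator, ih]; rfl

theorem D_map {G G' : Type*} [Group G] [Group G'] (f : G →* G') (H : Subgroup G) (k : ℕ) :
    (D H k).map f = D (H.map f) k := by
  induction k with
  | zero => rfl
  | succ k ih => rw [D, map_commutator, ih]; rfl

theorem D_W {I J : Type} {p : ℕ} (H : Subgroup (Perm I)) (k : ℕ) : D (W J p H) k ≤ W J p (D H k) := by
  have m : ∀ a b σ τ, (bs a * bl σ * (bs b * bl τ) : Perm (Om p I J)) = bs (a + b ∘ σ.symm) * bl (σ * τ) :=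
    fun a b σ τ => by rw [bs_add, map_mul, mul_assoc, ← mul_assoc (bl σ), bl_bs]; simp only [mul_assoc]
  have i : ∀ a σ, (bs a * bl σ : Perm (Om p I J))⁻¹ = bs ((-a) ∘ σ) * bl σ⁻¹ := fun a σ => by
    rw [mul_inv_rev, ← map_inv, ← bs_neg, bl_bs]; rfl
  induction k with
  | zero => rfl
  | succ k ih =>
    refine (commutator_mono ih ih).trans (commutator_le.2 ?_)
    rintro _ ⟨a, σ, h, rfl⟩ _ ⟨b, τ, h', rfl⟩
    exact ⟨_, _, commutator_mem_commutator h h', by rw [commutatorElement_def, i, i, m, m, m]; rfl⟩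

theorem upper {p : ℕ} [hp : Fact p.Prime] (n : ℕ) : ∀ (Ω : Type) [Fintype Ω] [DecidableEq Ω],
    Fintype.card Ω = n → ∀ P : Sylow p (Perm Ω), D P.1 (Nat.log p n) = ⊥ := by
  induction n using Nat.strong_induction_on with
  | _ n ih =>
  intro Ω _ _ hn P
  rcases lt_or_ge n p with h | h
  · rw [Nat.log_of_lt h, D, ← card_eq_one, P.card_eq_multiplicity, Nat.factorization_eq_zero_of_not_dvd, pow_zero]
    rwa [Nat.card_perm, hp.out.dvd_factorial, not_le, Nat.card_eq_fintype_card, hn]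
  obtain ⟨Q⟩ : Nonempty (Sylow p (Perm (Fin (n / p)))) := inferInstance
  obtain ⟨e, he⟩ := exists_model (J := Fin (n % p)) P (by simp [hn, Nat.div_add_mod])
    (by simpa using Nat.mod_lt _ hp.out.pos) Q
  have h1 : P.1.map e.permCongrHom.toMonoidHom = W _ p Q.1 := by
    ext g
    rw [mem_map_equiv, he]
    exact iff_of_eq (congrArg (· ∈ _) (e.permCongrHom.apply_symm_apply g))
  have h2 := D_W (J := Fin (n % p)) (p := p) Q.1 (Nat.log p (n / p))
  rw [ih _ (Nat.div_lt_self (hp.out.pos.trans_le h) hp.out.one_lt) _ (by simp) Q] at h2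
  rw [← map_eq_bot_iff_of_injective (f := e.permCongrHom.toMonoidHom) _ e.permCongrHom.injective, D_map, h1,
    Nat.log_of_one_lt_of_le hp.out.one_lt h, D, eq_bot_iff]
  refine (commutator_mono h2 h2).trans (commutator_le.2 fun x hx y hy => ?_)
  obtain ⟨a, rfl⟩ := mem_W_bot.1 hx
  obtain ⟨b, rfl⟩ := mem_W_bot.1 hy
  rw [mem_bot, commutatorElement_eq_one_iff_mul_comm, ← bs_add, ← bs_add, add_comm]

theorem wr {A Q : Type*} [Group A] [Group Q] [Nontrivial Q] (k : ℕ) : ∀ d ∈ derivedSeries A k,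
    ∃ w ∈ derivedSeries (A ≀ᵣ Q) (k + 1), w.right = 1 ∧ w.left 1 = d := by
  classical
  let ρ : (rightHom : A ≀ᵣ Q →* Q).ker →* A :=
    ⟨⟨fun w => w.1.left 1, rfl⟩, fun x y => by simp [show x.1.right = 1 from x.2]⟩
  suffices h : derivedSeries A k ≤ ((derivedSeries (A ≀ᵣ Q) (k + 1)).subgroupOf _).map ρ from
    fun d hd => (h hd).elim fun w hw => ⟨w, hw.1, w.2, hw.2⟩
  induction k with
  | zero =>
    intro d _
    obtain ⟨q, hq⟩ := exists_ne (1 : Q)
    refine ⟨⟨⁅(⟨Pi.mulSingle 1 d, 1⟩ : A ≀ᵣ Q), inl q⁆, by simp [commutatorElement_def]⟩,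
      commutator_mem_commutator (mem_top _) (mem_top _), ?_⟩
    simp [ρ, commutatorElement_def, hq]
  | succ k ih =>
    refine commutator_le.2 fun x hx y hy => ?_
    obtain ⟨x, hx', rfl⟩ := ih hx
    obtain ⟨y, hy', rfl⟩ := ih hy
    exact ⟨⁅x, y⁆, commutator_mem_commutator hx' hy', map_commutatorElement _ _ _⟩

theorem lower {G : Type} [Group G] [Nontrivial G] (k : ℕ) :
    derivedSeries (IteratedWreathProduct G (k + 1)) k ≠ ⊥ := by
  induction k with
  | zero =>
    intro h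
    obtain ⟨q, hq⟩ := exists_ne (1 : G)
    exact hq (congrArg RegularWreathProduct.right (mem_bot.1 (h.le (mem_top (inl q : PUnit ≀ᵣ G)))))
  | succ k ih =>
    intro h
    refine ih (eq_bot_iff.2 fun d hd => ?_)
    obtain ⟨w, hw, -, rfl⟩ := wr (Q := G) k d hd
    rw [mem_bot.1 (h.le hw)]
    rfl

/-- Let p be a prime, n ≥ 1, and P a Sylow p-subgroup of the symmetric group on n letters. Then the derived length of P is exactly k = ⌊log_p n⌋ (the largest k with p^k ≤ n): the k-th derived subgroup of P is trivial and, when k ≥ 1, the (k−1)-st is not. -/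
theorem result (p : ℕ) [Fact p.Prime] (n : ℕ) (hn : 1 ≤ n) (P : Sylow p (Equiv.Perm (Fin n))) : derivedSeries ↥(P : Subgroup (Equiv.Perm (Fin n))) (Nat.log p n) = ⊥ ∧ (1 ≤ Nat.log p n → derivedSeries ↥(P : Subgroup (Equiv.Perm (Fin n))) (Nat.log p n - 1) ≠ ⊥) := by
  have hp : p.Prime := Fact.out
  refine ⟨?_, fun h => ?_⟩
  · rw [← map_eq_bot_iff_of_injective _ P.1.subtype_injective, D_eq, upper n _ (by simp)]
  obtain ⟨k, hk⟩ : ∃ k, Nat.log p n = k + 1 := ⟨_, (Nat.sub_add_cancel h).symm⟩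
  have h1 : p ^ (k + 1) ≤ n := hk ▸ Nat.pow_log_le_self p (by omega)
  obtain ⟨R⟩ : Nonempty (Sylow p (Perm (Fin (p ^ (k + 1))))) := inferInstance
  have φ := Sylow.mulEquivIteratedWreathProduct p (k + 1) (Fin (p ^ (k + 1))) (by simp)
    (Multiplicative (ZMod p)) (by simp) R
  obtain ⟨R', hR⟩ := (R.2.map (Perm.viaEmbeddingHom (Fin.castLEEmb h1))).exists_le_sylow
  let f := (R'.equiv P).toMonoidHom.comp ((((Perm.viaEmbeddingHom (Fin.castLEEmb h1)).comp R.1.subtype).codRestrict
    R'.1 fun x => hR ⟨x, x.2, rfl⟩).comp φ.symm.toMonoidHom)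
  have hf : Function.Injective f := fun x y e => φ.symm.injective (Subtype.ext (Perm.viaEmbeddingHom_injective _
    (congrArg Subtype.val ((R'.equiv P).injective e))))
  intro e
  rw [hk, Nat.add_sub_cancel] at e
  exact lower k ((map_eq_bot_iff_of_injective _ hf).1 (eq_bot_iff.2 (e ▸ map_derivedSeries_le_derivedSeries f k)))

end Cfsg.Agent.S4014
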