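import Cfsg.Statements.S4018
import Cfsg.Agent.Lib.Ez.C3

set_option autoImplicit false
open Cfsg

namespace Cfsg.Agent.S4018

open Subgroup Cfsg.Agent.Comp Cfsg.Agent.Ez

/-- Let G be a finite group with an abelian Sylow 3-subgroup P such that the normalizer of P has order 4·#P, the centralizer C of P has order 2·#P, C meets each of its conjugates by elements outside its normalizer trivially, and every proper subgroup of G of even order has order dividing 4·#P. Then G is not simple. -/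
theorem result {G : Type*} [Group G] [Finite G]
    (P : Sylow 3 G) (hab : IsMulCommutative P)
    (hN : Nat.card (Subgroup.normalizer ((P : Subgroup G) : Set G)) = 4 * Nat.card P)
    (hC : Nat.card (Subgroup.centralizer (P : Set G)) = 2 * Nat.card P)
    (hTI : Cfsg.IsTISubset (Subgroup.centralizer (P : Set G) : Set G))
    (heven : ∀ H : Subgroup G, H ≠ ⊤ → 2 ∣ Nat.card H → Nat.card H ∣ 4 * Nat.card P) :
    ¬ IsSimpleGroup G := by
  intro hs
  change Nat.card (centralizer ((P : Subgroup G) : Set G)) = 2 * Nat.card (P : Subgroup G) at hC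
  change Nat.card _ = 4 * Nat.card (P : Subgroup G) at hN
  change IsTISubset (centralizer ((P : Subgroup G) : Set G) : Set G) at hTI
  change ∀ H : Subgroup G, H ≠ ⊤ → 2 ∣ Nat.card H → Nat.card H ∣ 4 * Nat.card (P : Subgroup G) at heven
  obtain ⟨k, hk⟩ := P.2.exists_card_eq
  have ho : Odd (Nat.card (P : Subgroup G)) := hk ▸ Odd.pow (by decide)
  have hpos : 0 < Nat.card (P : Subgroup G) := Nat.card_pos
  have hP : SylIn 3 (P : Subgroup G) ⊤ := sylIn_top P
  have hab : (P : Subgroup G) ≤ centralizer ((P : Subgroup G) : Set G) :=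
    le_centralizer_iff_isMulCommutative.2 hab
  generalize (P : Subgroup G) = P at *
  generalize hK : centralizer (P : Set G) = K at *
  have hKN : K ≤ normalizer (P : Set G) := hK ▸ centralizer_le_normalizer _
  have hna : ¬ IsMulCommutative G := fun e => by
    have := card_le_of_le (show normalizer (P : Set G) ≤ K from hK ▸ fun x _ y _ => e.1.1 y x)
    omega
  obtain ⟨h1, -⟩ := simple_facts (G := G) fun e => hna
    (isCyclic_of_prime_card (p := 2) e).isMulCommutative
  have hpr : ∀ A H : Subgroup G, IsMulCommutative A → A ≠ ⊥ → H ≤ normalizer (A : Set G) → H ≠ ⊤ := by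
    rintro A _ a b c rfl
    obtain rfl := (normal_iff_top_le_normalizer.2 c).eq_bot_or_eq_top.resolve_left b
    exact hna ⟨⟨fun x y => congrArg Subtype.val (a.1.1 ⟨x, trivial⟩ ⟨y, trivial⟩)⟩⟩
  have hnn : ∀ H, K ≤ H → H ≤ normalizer (K : Set G) → H ≤ normalizer (P : Set G) := fun H a b g hg =>
    cj_eq_self_iff.1 (((hP.of_le hab le_top).cj_of_mem (b hg)).eq_of_le (hP.of_le hab le_top)
      ((hP.of_le hab le_top).le_of_normalizer (isPGroup_cj_iff.2 hP.isP) (cj_le_of_mem hab (b hg))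
        ((cj_le_of_mem hab (b hg)).trans hKN)))
  obtain ⟨t, t1, ht⟩ := exists_mem_orderOf_eq (p := 2) (H := K) ⟨_, hC⟩
  have i1 := Transfer.ix2_of_card hab hC
  have t2 : t ∉ P := fun e => by
    have := odd_orderOf_of_mem ho e; rw [ht] at this; exact absurd this (by decide)
  have hKt : K ≤ centralizer {t} := i1.le_of t1 t2 (fun x hx => mem_C1.2 ((hK ▸ t1) x hx).symm)
    (mem_C1.2 rfl)
  have hKab : K ≤ centralizer (K : Set G) := i1.le_of t1 t2 (le_centralizer_iff.1 hK.ge)
    (fun x hx => (mem_C1.1 (hKt hx)).symm)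
  have hcz : ∀ x : G, x ≠ 1 → centralizer {x} ≠ ⊤ := fun x hx =>
    hpr (zpowers x) _ inferInstance (mt zpowers_eq_bot.1 hx)
      ((centralizer_zpowers x).ge.trans (centralizer_le_normalizer _))
  obtain ⟨S, hS⟩ := (isPGroup_zpowers_of_orderOf_eq ht).exists_le_sylow
  have s1 : Nat.card (S : Subgroup G) = 2 ^ 2 := by
    obtain ⟨n, hn⟩ := S.2.exists_card_eq
    have a : 2 ^ 2 ∣ 2 ^ n := hn ▸ S.pow_dvd_card_of_pow_dvd_card ((Dvd.intro _ hN.symm).trans
      (card_subgroup_dvd_card _))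
    have b := heven S (fun e => by
      have := (S.2.of_equiv ((MulEquiv.subgroupCongr e).trans topEquiv)).isNilpotent
      exact hna ⟨⟨IsSimpleGroup.comm_iff_isSolvable.2 inferInstance⟩⟩) (hn ▸ (dvd_pow_self 2 two_ne_zero).trans a)
    rw [hn] at b ⊢
    exact Nat.dvd_antisymm (((Nat.coprime_two_left.2 ho).pow_left n).dvd_of_dvd_mul_right b) a
  have s2 : (S : Subgroup G) ≤ centralizer {t} := fun x hx => mem_C1.2 (congrArg Subtype.val
    ((IsPGroup.isMulCommutative_of_card_eq_prime_sq s1).1.1 ⟨t, hS (mem_zpowers t)⟩ ⟨x, hx⟩))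
  have c1 : Nat.card (centralizer ({t} : Set G)) = 2 * Nat.card K := by
    rw [hC, ← mul_assoc]
    exact Nat.dvd_antisymm (heven _ (hcz t (ne_one_of_ord ht)) ((Dvd.intro _ hC.symm).trans (card_dvd_of_le hKt)))
      (((Nat.coprime_two_left.2 ho).pow_left 2).mul_dvd_of_dvd_of_dvd (s1 ▸ card_dvd_of_le s2)
        (card_dvd_of_le (hab.trans hKt)))
  have i2 := Transfer.ix2_of_card hKt c1
  have c2 : centralizer {t} = normalizer (P : Set G) :=
    eq_of_le_of_card_ge (hnn _ hKt i2.nn) (by omega)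
  have hti : ∀ g, g ∉ centralizer {t} → K ⊓ cj(g, K) = ⊥ := fun g hg => eq_bot_iff.2 fun x hx => by
    have := hTI g (fun e => hg (c2 ▸ hnn _ le_normalizer le_rfl e)) _ (mem_cj.1 hx.2)
      (by simpa [mul_assoc] using hx.1)
    exact conj_eq_one_iff.1 (by rwa [inv_inv])
  have i3 := Transfer.ix2_of_card hS (by rw [s1, Nat.card_zpowers, ht]; rfl)
  have one := fun x y : G => one_class_of_cyc (u := x) (v := y) h1 S i3.idx
  have h4 : ∀ y ∈ K, y * y = 1 → y ∈ zpowers t := fun y a b => by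
    by_contra e
    have := card_dvd_of_le (sup_le (zpowers_le.2 t1) (zpowers_le.2 a))
    rw [card_four ht (ord_of_mul_self b fun d => e (d ▸ one_mem _)) (fun d => e (d ▸ mem_zpowers _))
      (mem_C1.1 (hKt a)), hC] at this
    obtain ⟨j, hj⟩ := ho; omega
  obtain ⟨s, a1, a2⟩ := i3.exists_out
  have a3 : orderOf s = 2 := by
    have a := orderOf_dvd_natCard (⟨s, a1⟩ : (S : Subgroup G))
    rw [s1, Nat.dvd_prime_pow Nat.prime_two] at a
    obtain ⟨_ | _ | j, b, c⟩ := a
    · exact absurd ((show s = 1 from congrArg Subtype.val (orderOf_eq_one_iff.1 c)) ▸ one_mem _) a2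
    · exact (orderOf_mk _ _).symm.trans c
    · exact absurd (Transfer.hasNPC_two_of_isCyclic S (isCyclic_of_orderOf_eq_card _
        (by rw [c, s1, show j = 0 by omega]))) (not_npc_of_simple hna)
  have a4 : s ∉ K := fun e => a2 (h4 s e (mul_self_of_ord a3))
  have a5 : K ⊓ centralizer {s} = zpowers t := le_antisymm (fun y hy => h4 y hy.1 (by
    obtain ⟨g, rfl⟩ := isConj_iff.1 (one t s ht a3)
    refine mem_bot.1 ((hti g fun e => a4 (conj_mem_of_mem_normalizer (i2.nn e) t1)).le ⟨mul_mem hy.1 hy.1, (i2.cj g).sq_mem ?_⟩)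
    exact (cj_centralizer_singleton g t).ge hy.2)) (zpowers_le.2 ⟨t1, mem_C1.2 (mem_C1.1 (s2 a1)).symm⟩)
  have a6 : ∀ x ∈ P, s * x * s⁻¹ = x⁻¹ := fun x hx => by
    have b := conj_mem_of_mem_normalizer (c2.le (s2 a1)) hx
    have c := a5.le ⟨hab (mul_mem hx b), mem_C1.2 (by
      rw [show s * (x * (s * x * s⁻¹)) = s * x * s⁻¹ * (s * s * x) * s⁻¹ by group, mul_self_of_ord a3,
        one_mul, hKab (hab hx) _ (hab b), inv_eq_of_mul_eq_one_right (mul_self_of_ord a3)])⟩
    rcases (Transfer.mem_zpowers_iff_of_sq (mul_self_of_ord ht)).1 c with d | d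
    exacts [eq_inv_of_mul_eq_one_right d, absurd (d ▸ mul_mem hx b) t2]
  obtain ⟨F, _, _, f1, ⟨e⟩⟩ := BSW.psl (t := t) (s := s) (K := K) ⟨ht,
    le_centralizer_iff_isMulCommutative.1 hKab, hKt, t1, a3, s2 a1, a4, (i2.eq_sup (s2 a1) a4).symm,
    a5, fun x hx => by
      rcases i1.cases t1 t2 hx with b | ⟨u, b, rfl⟩
      · exact a6 x b
      · rw [← conj_mul, a6 u b, ← mem_C1.1 (s2 a1), mul_inv_cancel_right, hKab t1 u (hab b), mul_inv_rev,
          inv_eq_of_mul_eq_one_right (mul_self_of_ord ht)], hti, one⟩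
  have h := l2_of_equiv e
  have key : ∀ m, m ≠ 1 → m.Coprime (4 * Nat.card P) → m.Coprime (ringChar F) → ¬ m ∣ Nat.card G :=
    fun m m1 m2 m3 m4 => by
    obtain ⟨r, r1, r2⟩ := Nat.exists_prime_and_dvd m1
    have := Fact.mk r1
    obtain ⟨x, hx⟩ := exists_prime_orderOf_dvd_card' r (r2.trans m4)
    obtain ⟨u, v, -, b, c, d, f, -⟩ := h.tor x fun e => r1.one_lt.ne'
      (Nat.eq_one_of_dvd_coprimes m3 r2 (hx ▸ orderOf_dvd_of_pow_eq_one e))
    have g := Transfer.mem_normalizer_zpowers_of_inv (Transfer.inverts_of_mem_zpowers c b)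
    refine r1.one_lt.ne' (Nat.eq_one_of_dvd_coprimes m2 r2 (hx ▸ (Solv.orderOf_dvd_card_of_mem (mem_sup_left
      (mem_zpowers x))).trans (heven (zpowers x ⊔ zpowers v) (hpr (zpowers x) _ inferInstance
        (fun e => r1.one_lt.ne' (by rw [← hx, zpowers_eq_bot.1 e, orderOf_one]))
        (sup_le le_normalizer (zpowers_le.2 g))) ?_)))
    exact orderOf_eq_prime d (fun e => f (e ▸ one_mem _)) ▸ Solv.orderOf_dvd_card_of_mem
      (mem_sup_right (mem_zpowers v))
  have h5 := h.card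
  have h6 := h.coprime
  have h7 : Nat.card P ≠ 1 := fun e => by
    obtain rfl := card_eq_one.1 e
    have := card_le_of_le (show normalizer ((⊥ : Subgroup G) : Set G) ≤ K from
      hK ▸ fun x _ y hy => by rw [mem_bot.1 hy, one_mul, mul_one])
    omega
  have h8 : ∀ m n : ℕ, m.Coprime n → Odd m → m.Coprime (4 * n) := fun m n a b =>
    ((Nat.coprime_two_right.2 b).pow_right 2).mul_right a
  rw [hC] at f1
  generalize Nat.card P = m at *
  obtain ⟨m, rfl⟩ : ∃ n, m = n + 1 := ⟨m - 1, by omega⟩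
  rcases f1 with a | a
  · rw [a, Nat.add_sub_cancel, Nat.gcd_mul_right_right] at h5
    exact key (2 * (m + 1) + 1) (by omega) (h8 _ _ (by simp) ⟨_, rfl⟩) (h6.1.symm.coprime_dvd_left
      ⟨2, by omega⟩) ⟨(4 * m + 5) * (4 * m + 4), by linarith⟩
  · rw [show Fintype.card F = 2 * (2 * m + 1) + 1 by omega, Nat.add_sub_cancel] at h5 h6
    rw [Nat.gcd_mul_right_right] at h5
    exact key (2 * m + 1) (by omega) (h8 _ _ (by
      rw [show 2 * m + 1 = m + (m + 1) by omega, Nat.coprime_add_self_left]; simp) ⟨_, rfl⟩)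
      (h6.2.symm.coprime_dvd_left ⟨2, by omega⟩) ⟨(4 * m + 3) * (4 * m + 4), by linarith⟩

end Cfsg.Agent.S4018
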