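import Cfsg.Statements.S4023
import Cfsg.Agent.Lib.PU.Af9

set_option autoImplicit false
open Cfsg

namespace Cfsg.Agent.S4023

/-- Let p be a prime and G a finite group in which any two p-subgroups of the same order are conjugate, with Sylow p-subgroup P. Then P is cyclic, or elementary abelian, or p = 2 and P is a quaternion group of order 8, or p is odd and P is non-abelian of order p³ and exponent p. -/
theorem result {G : Type*} [Group G] [Finite G]
    {p : ℕ} [Fact p.Prime] (hC : ∀ H K : Subgroup G, IsPGroup p H → IsPGroup p K → Nat.card H = Nat.card K →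
      ∃ g : G, K = H.map (MulAut.conj g).toMonoidHom) (P : Sylow p G) :
    IsCyclic P ∨ Cfsg.IsElementaryAbelian p (P : Subgroup G) ∨
      (p = 2 ∧ Nonempty ((P : Subgroup G) ≃* QuaternionGroup 2)) ∨
      (p ≠ 2 ∧ ¬ IsMulCommutative P ∧ Nat.card P = p ^ 3 ∧ Monoid.exponent P = p) := by
  have hI : ∀ H K : Subgroup (P : Subgroup G), Nat.card H = Nat.card K → Nonempty (H ≃* K) := fun H K h => by
    obtain ⟨g, hg⟩ := hC (H.map (P : Subgroup G).subtype) (K.map (P : Subgroup G).subtype) ((P.2.to_subgroup H).map _)
      ((P.2.to_subgroup K).map _) (by rw [Subgroup.card_map_of_injective (Subgroup.subtype_injective _),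
        Subgroup.card_map_of_injective (Subgroup.subtype_injective _), h])
    exact PU.Af.iso_of_conj g hg
  rcases PU.Af.exp_or_uniq P.2 (fun H K _ _ => hI H K) with h | h
  · by_cases hc : IsMulCommutative (P : Subgroup G)
    · exact .inr (.inl ⟨hc, fun a ha => congrArg Subtype.val (h ⟨a, ha⟩)⟩)
    · refine .inr (.inr (.inr ⟨?_, hc, PU.Af.cube_of P.2 h hc hI, ?_⟩))
      · rintro rfl; exact hc (PU.Af.comm_of_sq h)
      · refine ((Nat.dvd_prime Fact.out).1 (Monoid.exponent_dvd_of_forall_pow_eq_one h)).resolve_left fun e => ?_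
        haveI := Monoid.exp_eq_one_iff.1 e
        exact hc ⟨⟨fun a b => Subsingleton.elim _ _⟩⟩
  · rcases S0016.result p P.2 h with h | ⟨h2, n, ⟨e⟩⟩
    · exact .inl h
    have hn := PU.Af.quat_small n fun H K h => by
      obtain ⟨f⟩ := hI (H.map e.symm.toMonoidHom) (K.map e.symm.toMonoidHom) (by
        rw [Subgroup.card_map_of_injective e.symm.injective, Subgroup.card_map_of_injective e.symm.injective, h])
      exact ⟨((H.equivMapOfInjective _ e.symm.injective).trans f).trans (K.equivMapOfInjective _ e.symm.injective).symm⟩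
    interval_cases n
    · haveI : IsCyclic (QuaternionGroup (2 ^ 0)) := QuaternionGroup.quaternionGroup_one_isCyclic
      exact .inl (isCyclic_of_surjective e.symm e.symm.surjective)
    · exact .inr (.inr (.inl ⟨h2, ⟨e⟩⟩))

end Cfsg.Agent.S4023
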