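import Cfsg.Statements.S4024
import Cfsg.Agent.S4023
import Cfsg.Agent.Lib.Solv.Cores

set_option autoImplicit false
open Cfsg

namespace Cfsg.Agent.S4024

set_option linter.style.haveILetI false
open Subgroup
open scoped commutatorElement

theorem exists_sec {H : Type*} [Group H] [Finite H] {p : ℕ} [hp : Fact p.Prime] (h : IsPSolvable p H)
    (hd : p ∣ Nat.card H) : ∃ A B : Subgroup H, A.Normal ∧ B.Normal ∧ (Nat.card A).Coprime p ∧ p ∣ Nat.card B ∧
      ∃ m, A.relIndex B = p ^ m := by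
  obtain ⟨n, S, h0, h1, h2, h3, h4⟩ := h
  by_contra! hc
  have : ∀ i, (Nat.card (S i)).Coprime p := by
    intro i
    induction i using Fin.induction with
    | zero => simp [h0]
    | succ i ih =>
      rcases h4 i with ⟨m, hm⟩ | hm
      · exact ((Nat.Prime.coprime_iff_not_dvd hp.out).2 fun e => hc _ _ (h3 _) (h3 _) ih e m hm).symm
      · rw [← Solv.card_mul_relIndex (h2 (Fin.castSucc_le_succ i))]
        exact Nat.Coprime.mul_left ih hm
  have h5 := this (Fin.last n)
  rw [h1, card_top] at h5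
  exact (Nat.Prime.coprime_iff_not_dvd hp.out).1 h5.symm hd

/-- Let p be an odd prime and G a finite group in which any two p-subgroups of the same order are conjugate, with Sylow p-subgroup P. If H is a normal p-solvable subgroup of G whose order is divisible by p, then P is abelian, and either P ≤ H or P is cyclic. -/
theorem result {G : Type*} [Group G] [Finite G]
    {p : ℕ} [Fact p.Prime] (hp : p ≠ 2) (hC : ∀ H K : Subgroup G, IsPGroup p H → IsPGroup p K → Nat.card H = Nat.card K →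
      ∃ g : G, K = H.map (MulAut.conj g).toMonoidHom) (P : Sylow p G)
    (H : Subgroup G) [H.Normal] (hsolv : Cfsg.IsPSolvable p H) (hdiv : p ∣ Nat.card H) :
    IsMulCommutative P ∧ ((P : Subgroup G) ≤ H ∨ IsCyclic P) := by
  have hcj : ∀ x y : G, orderOf x = p → orderOf y = p → ∃ (g : G) (k : ℤ), y = g * x ^ k * g⁻¹ := by
    intro x y hx hy
    obtain ⟨g, hg⟩ := hC (zpowers x) (zpowers y) (IsPGroup.of_card (n := 1) (by rw [Nat.card_zpowers, hx, pow_one]))
      (IsPGroup.of_card (n := 1) (by rw [Nat.card_zpowers, hy, pow_one])) (by rw [Nat.card_zpowers, Nat.card_zpowers, hx, hy])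
    obtain ⟨_, ⟨k, rfl⟩, h⟩ := hg ▸ mem_zpowers y
    exact ⟨g, k, h.symm⟩
  obtain ⟨A, B, hA, hB, cA, cB, m, hm⟩ := exists_sec hsolv hdiv
  obtain ⟨x, hx⟩ := exists_prime_orderOf_dvd_card' p cB
  have hx' : orderOf (x.1.1 : G) = p := by simpa using hx
  have hin : ∀ {G' : Type _} [Group G'] (f : G →* G') (M : Subgroup G') [M.Normal], f x.1.1 ∈ M →
      (∀ y ∈ (P : Subgroup G), y ^ p = 1) → ∀ y ∈ (P : Subgroup G), f y ∈ M := by
    intro G' _ f M hM h he y hy
    by_cases h1 : y = 1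
    · rw [h1, map_one]; exact one_mem _
    obtain ⟨g, k, rfl⟩ := hcj _ y hx' (orderOf_eq_prime (he y hy) h1)
    rw [map_mul, map_mul, map_inv, map_zpow]
    exact hM.conj_mem _ (zpow_mem h k) _
  rcases S4023.result hC P with h | h | h | ⟨-, hna, -, he⟩
  · exact ⟨inferInstance, .inr h⟩
  · exact ⟨h.1, .inl (hin (MonoidHom.id G) H x.1.2 h.2)⟩
  · exact absurd h.1 hp
  exfalso
  have he' : ∀ y ∈ (P : Subgroup G), y ^ p = 1 := fun y hy =>
    congrArg Subtype.val (he ▸ Monoid.pow_exponent_eq_one (⟨y, hy⟩ : (P : Subgroup G)))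
  haveI : (pPrimeCore p G).Normal := inferInstance
  let f := QuotientGroup.mk' (pPrimeCore p G)
  have hf : Function.Surjective f := QuotientGroup.mk'_surjective _
  have hH : H.IsSubnormal := Subgroup.Normal.isSubnormal inferInstance
  have h1 : A.map H.subtype ≤ pPrimeCore p G := Solv.le_pPrimeCore_of_isSubnormal (hA.isSubnormal.trans' hH)
    (by rwa [card_map_of_injective H.subtype_injective])
  have h2 : (B.map H.subtype).map f ≤ pCore p _ := Solv.le_pCore_of_isSubnormal ((hB.isSubnormal.trans' hH).map hf) (by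
    rintro ⟨_, _, ⟨b, hb, rfl⟩, rfl⟩
    refine ⟨m, Subtype.ext ?_⟩
    have h3 : b ^ p ^ m ∈ A := hm ▸ (A.subgroupOf B).pow_index_mem ⟨b, hb⟩
    rw [coe_pow, ← map_pow, ← map_pow]
    exact (QuotientGroup.eq_one_iff _).2 (h1 ⟨_, h3, rfl⟩))
  have h3 := hin f (pCore p _) (h2 ⟨_, ⟨x.1, x.2, rfl⟩, rfl⟩) he'
  have h4 : pCore p _ = (P : Subgroup G).map f := (P.mapSurjective hf).is_maximal' (Solv.isPGroup_pCore p _) (by
    rintro _ ⟨y, hy, rfl⟩; exact h3 y hy)
  have hinj : ∀ y ∈ (P : Subgroup G), f y = 1 → y = 1 := fun y hy h => by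
    have a1 := orderOf_dvd_of_pow_eq_one (he' y hy)
    have a2 := orderOf_dvd_natCard (⟨y, (QuotientGroup.eq_one_iff _).1 h⟩ : pPrimeCore p G)
    rw [orderOf_mk] at a2
    exact orderOf_eq_one_iff.1 (Nat.eq_one_of_dvd_coprimes (Solv.coprime_card_pPrimeCore p) a2 a1)
  obtain ⟨a, b, hab⟩ : ∃ a b : (P : Subgroup G), a * b ≠ b * a := by
    by_contra! h; exact hna ⟨⟨h⟩⟩
  haveI : Nontrivial (P : Subgroup G) := ⟨a * b, b * a, hab⟩
  haveI := P.2.center_nontrivial
  obtain ⟨z, hz⟩ := exists_ne (1 : center (P : Subgroup G))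
  obtain ⟨g, k, hg⟩ := hcj z.1.1 a (orderOf_eq_prime (he' _ z.1.2) fun e => hz (Subtype.ext (Subtype.ext e)))
    (orderOf_eq_prime (he' _ a.2) fun e => hab (by rw [show a = 1 from Subtype.ext e]; simp))
  obtain ⟨c, hc, hcb⟩ : (f g)⁻¹ * f b * (f g)⁻¹⁻¹ ∈ (P : Subgroup G).map f :=
    h4 ▸ (inferInstance : (pCore p _).Normal).conj_mem _ (h3 _ b.2) _
  have h5 : Commute c (z.1.1 ^ k) := Commute.zpow_right (congrArg Subtype.val (mem_center_iff.1 z.2 ⟨c, hc⟩)) k
  have h6 : Commute (f a) (f b) := by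
    have h7 : f b = f g * f c * (f g)⁻¹ := by rw [hcb]; group
    rw [hg, h7, map_mul, map_mul, map_inv]
    exact (h5.map f).symm.conj _
  refine hab (Subtype.ext (commutatorElement_eq_one_iff_mul_comm.1 (hinj _ (⁅a, b⁆).2 ?_)))
  exact (map_commutatorElement f _ _).trans (commutatorElement_eq_one_iff_commute.2 h6)

end Cfsg.Agent.S4024
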