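import Cfsg.Statements.S4032
import Cfsg.Agent.Lib.Solv.Coprime
import Cfsg.Agent.Lib.Solv.Hall

set_option autoImplicit false
open Cfsg

namespace Cfsg.Agent.S4032
section
open Pointwise commutatorElement Subgroup Cfsg.Agent.Solv
theorem exists_lift {G : Type*} [Group G] [Finite G] (π : Set ℕ) (N : Subgroup G) [N.Normal]
    (y : G ⧸ N) (hy : ∀ r : ℕ, r.Prime → r ∣ orderOf y → r ∈ π) :
    ∃ x : G, (x : G ⧸ N) = y ∧ ∀ r : ℕ, r.Prime → r ∣ orderOf x → r ∈ π := by
  classical
  obtain ⟨x, hx, hmin⟩ := WellFounded.has_min (InvImage.wf (fun x : G => orderOf x) Nat.lt_wfRel.wf)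
    {x : G | (x : G ⧸ N) = y} (QuotientGroup.mk_surjective y)
  refine ⟨x, hx, fun r hr hd => ?_⟩
  by_contra hn
  have h1 : ¬ r ∣ orderOf y := fun h => hn (hy r hr h)
  obtain ⟨m, hm⟩ := exists_pow_eq_self_of_coprime (x := y) (n := r) ((hr.coprime_iff_not_dvd).2 h1)
  refine hmin ((x ^ r) ^ m) (show (((x ^ r) ^ m : G) : G ⧸ N) = y by
    rw [QuotientGroup.mk_pow, QuotientGroup.mk_pow, hx, hm]) ?_
  refine lt_of_le_of_lt (Nat.le_of_dvd (orderOf_pos _) (orderOf_pow_dvd _)) ?_
  rw [orderOf_pow_of_dvd hr.ne_zero hd]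
  exact Nat.div_lt_self (orderOf_pos x) hr.one_lt
end

/-- Let π be a set of primes and G a finite group in which N_G(⟨x⟩) = C_G(x) for every π-element x. If N is a normal subgroup of G whose order is divisible by no prime of π, then G/N has the same property: N_{G/N}(⟨y⟩) = C_{G/N}(y) for every π-element y of G/N. -/
theorem result {G : Type*} [Group G] [Finite G] (π : Set ℕ)
    (hirr : ∀ x : G, (∀ r : ℕ, r.Prime → r ∣ orderOf x → r ∈ π) →
      Subgroup.normalizer ((Subgroup.zpowers x : Subgroup G) : Set G) ≤ Subgroup.centralizer {x})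
    (N : Subgroup G) [N.Normal] (hN : ∀ r : ℕ, r.Prime → r ∣ Nat.card N → r ∉ π) :
    ∀ y : G ⧸ N, (∀ r : ℕ, r.Prime → r ∣ orderOf y → r ∈ π) →
      Subgroup.normalizer ((Subgroup.zpowers y : Subgroup (G ⧸ N)) : Set (G ⧸ N)) ≤ Subgroup.centralizer {y} := by
  open Pointwise commutatorElement Subgroup Cfsg.Agent.Solv in
  intro y hy a ha
  obtain ⟨x, rfl, hx⟩ := exists_lift π N y hy
  have h1 := coprime_map_mk_normalizer (A := zpowers x) (N := N)
    (coprime_of_pi (π := π) (by rwa [Nat.card_zpowers]) fun q hq h1 h2 => hN q hq h2 h1)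
    (Or.inl (isSolvable_zpowers x))
  rw [MonoidHom.map_zpowers, QuotientGroup.mk'_apply] at h1
  rw [← h1] at ha
  obtain ⟨b, hb, rfl⟩ := ha
  have := mem_centralizer_singleton_iff.1 (hirr x hx hb)
  rw [mem_centralizer_singleton_iff, QuotientGroup.mk'_apply, ← QuotientGroup.mk_mul, this, QuotientGroup.mk_mul]

end Cfsg.Agent.S4032
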