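import Cfsg.Statements.S4049
import Cfsg.Agent.Lib.Solv.Schmidt
import Cfsg.Agent.Lib.Transfer.Invol
import Cfsg.Agent.S4032

set_option autoImplicit false
open Cfsg

namespace Cfsg.Agent.S4049
section
open Pointwise commutatorElement Subgroup Cfsg.Agent.Solv
universe u
open Cfsg.Agent.Transfer
theorem aux (G : Type u) [Group G] [Finite G] : (∀ x t : G, Odd (orderOf x) → IsPGroup 2 (zpowers t) →
    t ∈ normalizer (zpowers x : Set G) → t ∈ centralizer (zpowers x : Set G)) → ∀ P : Sylow 2 G, (P : Subgroup G).Normal := by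
  haveI := Fact.mk Nat.prime_two
  revert G
  refine card_induction fun G _ _ ih h P => ?_
  by_cases h1 : pCore 2 G = ⊥
  · rw [show (P : Subgroup G) = ⊥ from by_contra fun h2 => ?_]
    · infer_instance
    obtain ⟨t, ht⟩ := exists_prime_orderOf_dvd_card' 2 (dvd_card_of_isPGroup P.2 h2)
    rw [← orderOf_coe] at ht
    have h3 : (t : G) * t = 1 := by rw [← pow_two, ← orderOf_dvd_iff_pow_eq_one, ht]
    obtain ⟨a, a1, a2, a3⟩ := exists_inverts_odd_of_not_isPGroup h3 fun h4 => by
      have := le_pCore h4 (subset_normalClosure rfl)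
      rw [h1, mem_bot] at this
      simp [this] at ht
    have := commute_iff_conj.1 (mem_centralizer_zpowers.1 (h a t a2 (isPGroup_zpowers_of_orderOf (k := 1) ht)
      (Solv.mem_normalizer_zpowers (a3 ▸ inv_mem (mem_zpowers a)))))
    exact a1 (eq_one_of_odd_of_mul_self a2 (by rw [← eq_inv_iff_mul_eq_one, ← a3, this]))
  obtain ⟨Q, hQ⟩ := (((isSyl_top P).map (QuotientGroup.mk' (pCore 2 G))).mono le_top (map_top_mk _).ge).exists_sylow
  have := ih (G ⧸ pCore 2 G) (card_quotient_lt h1) (fun x t hx ht h2 => ?_) Q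
  · rw [← sup_eq_left.2 (pCore_le_sylow P), ← comap_map_mk, ← hQ]
    infer_instance
  obtain ⟨x, rfl, h3⟩ := S4032.exists_lift {2}ᶜ _ x fun r _ h3 h4 => by
    subst h4; exact (Nat.not_even_iff_odd.2 hx) (even_iff_two_dvd.2 h3)
  have h4 : Odd (orderOf x) := Nat.not_even_iff_odd.1 fun h4 => h3 2 Nat.prime_two (even_iff_two_dvd.1 h4) rfl
  have h5 : (Nat.card (zpowers x)).Coprime (Nat.card (pCore 2 G)) :=
    coprime_card_of_isPGroup' (isPGroup_pCore 2 G) (by rwa [Nat.card_zpowers, ← odd_iff_coprime_two])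
  rw [show zpowers (x : G ⧸ pCore 2 G) = (zpowers x).map (QuotientGroup.mk' _) from (MonoidHom.map_zpowers (QuotientGroup.mk' _) x).symm] at h2 ⊢
  rw [← coprime_map_mk_normalizer h5 (.inl (isSolvable_zpowers x))] at h2
  rw [← coprime_map_mk_centralizer h5 (.inl (isSolvable_zpowers x))]
  obtain ⟨t, h6, rfl⟩ := h2
  refine mem_map_of_mem _ (h x t h4 ((isPGroup_comap_mk (isPGroup_pCore 2 G) ht).to_le (zpowers_le.2 (mem_zpowers _))) h6)
end

/-- Let G be a finite group such that N_G(H)/C_G(H) has odd order for every nontrivial subgroup H of odd order. Then the Sylow 2-subgroups of G are normal. -/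
theorem result {G : Type*} [Group G] [Finite G]
    (hhom : ∀ H : Subgroup G, H ≠ ⊥ → ¬ 2 ∣ Nat.card ↥H →
        ¬ 2 ∣ (Subgroup.centralizer (H : Set G)).relIndex (Subgroup.normalizer (H : Set G))) (P : Sylow 2 G) :
    (P : Subgroup G).Normal := by
  open Pointwise commutatorElement Subgroup Cfsg.Agent.Solv in
  open Cfsg.Agent.Transfer in
  haveI := Fact.mk Nat.prime_two
  refine aux G (fun x t hx ht h => ?_) P
  by_cases h1 : zpowers x = ⊥
  · rw [h1]
    exact fun y hy => by simp [mem_bot.1 hy]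
  have h2 := hhom _ h1 (by rwa [Nat.card_zpowers, ← even_iff_two_dvd, Nat.not_even_iff_odd])
  haveI : ((centralizer (zpowers x : Set G)).subgroupOf (normalizer (zpowers x : Set G))).Normal :=
    (normal_subgroupOf_iff_le_normalizer (centralizer_le_normalizer _)).2 (Solv.normalizer_le_normalizer_centralizer _)
  have := le_of_coprime_index (H := (zpowers t).subgroupOf (normalizer (zpowers x : Set G)))
    (N := (centralizer (zpowers x : Set G)).subgroupOf _) (coprime_card_of_isPGroup (isPGroup_subgroupOf ht _) h2)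
  exact this (x := ⟨t, h⟩) (mem_zpowers t)

end Cfsg.Agent.S4049
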