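import Cfsg.Statements.S4028
import Cfsg.Agent.Lib.Solv.Schmidt
import Cfsg.Agent.Lib.Solv.Super
import Cfsg.Agent.Lib.Comp.SylIn
import Cfsg.Agent.Lib.Solv.PCyc

set_option autoImplicit false
open Cfsg

namespace Cfsg.Agent.S4028

/-- Let G be a finite group with Sylow 2-subgroup P. Then N_G(⟨x⟩) = C_G(x) holds for every 2-element x of G if and only if N_P(⟨y⟩) = C_P(y) holds for every y ∈ P (computed inside P). -/
theorem result {G : Type*} [Group G] [Finite G] (P : Sylow 2 G) :
    (∀ x : G, (∀ r : ℕ, r.Prime → r ∣ orderOf x → r = 2) →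
      Subgroup.normalizer ((Subgroup.zpowers x : Subgroup G) : Set G) ≤ Subgroup.centralizer {x}) ↔
    (∀ y : ↥(P : Subgroup G), Subgroup.normalizer ((Subgroup.zpowers y : Subgroup ↥(P : Subgroup G)) : Set ↥(P : Subgroup G)) ≤
        Subgroup.centralizer {y}) := by
  open Pointwise commutatorElement Subgroup Cfsg.Agent.Solv in
  open Cfsg.Agent.Comp in
  constructor
  · intro h y n hn
    have h1 : (n : G) ∈ normalizer (zpowers (y : G) : Set G) := by
      have : (n : G) ∈ (normalizer (zpowers y : Set P)).map (P : Subgroup G).subtype := mem_map_of_mem _ hn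
      rw [map_subtype_normalizer, MonoidHom.map_zpowers] at this
      exact this.2
    have := h y (fun r hr hd => eq_of_isPGroup_of_dvd P.isPGroup' hr (hd.trans (orderOf_dvd_card_of_mem y.2))) h1
    rw [mem_centralizer_singleton_iff] at this ⊢
    exact Subtype.ext this
  · intro h x hx a ha
    by_contra hn
    have hxp : IsPGroup 2 (zpowers x) := isPGroup_of_forall_prime_dvd (by rwa [Nat.card_zpowers])
    obtain ⟨q, hq, -, b, hb, hbq, hbn⟩ := exists_prime_pow_notMem hn
    have hb' : b ∈ normalizer (zpowers x : Set G) := zpowers_le.2 ha hb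
    apply hbn
    by_cases h2 : q = 2
    · subst h2
      obtain ⟨g, -, hg⟩ := (sylIn_top P).exists_cj_le (isPGroup_sup hbq hxp (zpowers_le.2 hb')) le_top
      have m1 : g * x * g⁻¹ ∈ (P : Subgroup G) := hg (conj_mem_cj.2 (mem_sup_right (mem_zpowers x)))
      have m2 : g * b * g⁻¹ ∈ (P : Subgroup G) := hg (conj_mem_cj.2 (mem_sup_left (mem_zpowers b)))
      have m3 : (⟨_, m2⟩ : P) ∈ normalizer (zpowers (⟨_, m1⟩ : P) : Set P) := by
        have : g * b * g⁻¹ ∈ (normalizer (zpowers (⟨_, m1⟩ : P) : Set P)).map (P : Subgroup G).subtype := by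
          rw [map_subtype_normalizer, MonoidHom.map_zpowers]
          refine ⟨m2, ?_⟩
          change _ ∈ normalizer ((zpowers (g * x * g⁻¹) : Subgroup G) : Set G)
          rw [← cj_zpowers, ← cj_normalizer]
          exact conj_mem_cj.2 hb'
        obtain ⟨y, hy, e⟩ := this
        exact (Subtype.ext e : y = ⟨_, m2⟩) ▸ hy
      have m4 := congrArg Subtype.val (mem_centralizer_singleton_iff.1 (h _ m3))
      rw [mem_centralizer_singleton_iff]
      simpa using m4
    · rw [← Solv.centralizer_zpowers]
      haveI := Fact.mk hq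
      refine mem_of_pow_mem_of_coprime_orderOf (pow_card_mulAut_mem_centralizer hb') ?_
      obtain ⟨k, hk⟩ := IsPGroup.iff_card.1 hxp
      obtain ⟨m, hm⟩ := exists_orderOf_eq_pow hbq (mem_zpowers b)
      rw [IsCyclic.card_mulAut, hk, hm]
      refine Nat.Coprime.pow_left _ ?_
      rcases k with _ | k
      · simp
      · rw [Nat.totient_prime_pow_succ Nat.prime_two]
        simpa using Nat.Coprime.pow_right _ ((Nat.coprime_primes hq Nat.prime_two).2 h2)

end Cfsg.Agent.S4028
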