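import Cfsg.Statements.S4035
import Cfsg.Agent.Lib.Solv.Frob3
import Cfsg.Agent.Lib.Transfer.Count
import Cfsg.Agent.S4387

set_option autoImplicit false
open Cfsg

namespace Cfsg.Agent.S4035

/-- Let G be a finite group and p a prime such that p divides the size of no conjugacy class of p-regular elements (elements of order prime to p). Then G is the internal direct product of a Sylow p-subgroup P and a normal subgroup H of order prime to p: P is normal, P ⊓ H = 1 and PH = G. -/
theorem result {G : Type*} [Group G] [Finite G] {p : ℕ} [Fact p.Prime]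
    (h : ∀ x : G, (orderOf x).Coprime p → ¬ p ∣ (ConjClasses.mk x).carrier.ncard) (P : Sylow p G) :
    (P : Subgroup G).Normal ∧ ∃ H : Subgroup G, H.Normal ∧ ¬ p ∣ Nat.card H ∧
      (P : Subgroup G) ⊓ H = ⊥ ∧ (P : Subgroup G) ⊔ H = ⊤ := by
  open Pointwise commutatorElement Subgroup Cfsg.Agent.Solv in
  open Cfsg.Agent.Transfer in
  have h1 : ∀ x : G, (orderOf x).Coprime p → ∀ U ≤ centralizer ({x} : Set G), IsPGroup p U →
      ∃ g : G, U ≤ MulAut.conj g • (P : Subgroup G) ∧ x ∈ centralizer ((MulAut.conj g • (P : Subgroup G) : Subgroup G) : Set G) := by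
    intro x hx U a1 a2
    obtain ⟨Q, b1, b2⟩ := exists_isSyl_ge a2 a1
    have b3 := h x hx
    rw [← Nat.card_coe_set_eq, show Nat.card (ConjClasses.mk x).carrier = Nat.card {y // IsConj x y} from
      cnt_congr fun y => by rw [ConjClasses.mem_carrier_iff_mk_eq, ConjClasses.mk_eq_mk_iff_isConj, isConj_comm],
      card_isConj_eq_index] at b3
    obtain ⟨g, -, hg⟩ := (b1.trans le_top (by rwa [relIndex_top_right])).exists_cj_eq (isSyl_top P)
    rw [cj_eq_smul] at hg
    exact ⟨g, hg ▸ b2, hg ▸ mem_centralizer_iff.2 fun y hy => (mem_centralizer_singleton.1 (b1.le hy)).symm⟩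
  have hP : (P : Subgroup G).Normal := normalizer_eq_top_iff.1 (by_contra fun h2 => by
    obtain ⟨x, hx⟩ := S4387.exists_notMem_conj h2
    obtain ⟨a, ha, b, hb, rfl, ⟨k, hk⟩, h3⟩ := exists_pPart p x
    obtain ⟨g, a1, a2⟩ := h1 b h3 (zpowers a) (zpowers_le.2 (mem_centralizer_singleton.2
      (Solv.isMulCommutative_iff.1 inferInstance b hb a ha))) (isPGroup_zpowers hk)
    exact hx g (normalizer_conj_smul g _ ▸ mul_mem (le_normalizer (zpowers_le.1 a1)) (centralizer_le_normalizer _ a2)))
  have h2 : HasNormalPComplement p G := hasNPC_of_res_normalizer_le P fun B hB _ => res_le_iff.2 fun x _ hx => by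
    obtain ⟨g, -, hg⟩ := h1 x hx ⊥ bot_le IsPGroup.of_bot
    rw [conj_smul_eq_self_iff.2 (le_normalizer_of_normal (mem_top g))] at hg
    exact Subgroup.centralizer_le hB hg
  exact ⟨hP, pResidual p G, inferInstance, hasNPC_iff_not_dvd.1 h2, (hasNPC_iff_inf_eq_bot P).1 h2,
    (sup_comm _ _).trans (pResidual_sup_sylow P)⟩

end Cfsg.Agent.S4035
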