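import Cfsg.Statements.S4034
import Cfsg.Agent.Lib.Comp.PMin
import Cfsg.Agent.Lib.Char.Integral
import Cfsg.Agent.Lib.BG.Sec1
import Cfsg.Agent.Lib.Solv.FrobCount
import Cfsg.Agent.S4032
import Cfsg.Agent.S4035

set_option autoImplicit false
universe u
open Cfsg

namespace Cfsg.Agent.S4034
section
open Pointwise commutatorElement Subgroup Cfsg.Agent.Solv
open Cfsg.Agent.Solv Cfsg.Agent.Transfer in
theorem ncard_eq {G : Type*} [Group G] [Finite G] (x : G) :
    (ConjClasses.mk x).carrier.ncard = (Subgroup.centralizer {x}).index := by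
  rw [← Nat.card_coe_set_eq, show Nat.card (ConjClasses.mk x).carrier = Nat.card {y // IsConj x y} from
    cnt_congr fun y => by rw [ConjClasses.mem_carrier_iff_mk_eq, ConjClasses.mk_eq_mk_iff_isConj, isConj_comm],
    card_isConj_eq_index]

open Subgroup in
theorem solv {p : ℕ} (hp : p.Prime) (G : Type u) [Group G] [Finite G] :
    (∀ q : ℕ, q.Prime → q ≠ p → ∀ x : G, Solv.PiE {q} x → BG.PiN {p} (centralizer {x}).index) → Group.IsSolvable G := by
  revert G; refine Solv.card_induction fun G _ _ ih h => ?_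
  haveI := Fact.mk hp
  by_cases hN : ∃ N : Subgroup G, N.Normal ∧ N ≠ ⊥ ∧ N ≠ ⊤
  · obtain ⟨N, _, h1, h2⟩ := hN
    refine Solv.isSolvable_of_normal_of_quotient N (ih N (Solv.card_lt_of_ne_top h2) fun q hq e x hx => ?_)
      (ih _ (Solv.card_quotient_lt h1) fun q hq e y hy => ?_)
    · refine (h q hq e x (Solv.piE_coe.2 hx)).of_dvd (Dvd.dvd.trans (dvd_of_eq ?_) (Solv.relIndex_dvd_index_of_normal' _ N))
      rw [relIndex]; congr 1; ext; simp [mem_subgroupOf, mem_centralizer_singleton_iff, Subtype.ext_iff]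
    obtain ⟨x, rfl, hx⟩ := S4032.exists_lift {q} N y hy
    refine (h q hq e x hx).of_dvd ((index_dvd_of_le ?_).trans (index_map_dvd _ (QuotientGroup.mk'_surjective N)))
    rintro _ ⟨z, hz, rfl⟩
    exact mem_centralizer_singleton_iff.2 (congrArg (QuotientGroup.mk' N) (mem_centralizer_singleton_iff.1 hz))
  by_cases hG : IsPGroup p G
  · have := hG.isNilpotent; infer_instance
  obtain ⟨q, hq, h1, h2⟩ : ∃ q : ℕ, q.Prime ∧ q ∣ Nat.card G ∧ q ≠ p := by
    by_contra hc; push Not at hc
    exact hG (.of_card (Nat.eq_prime_pow_of_unique_prime_dvd Nat.card_pos.ne' fun {d} => hc d))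
  haveI := Fact.mk hq
  obtain ⟨x, hx⟩ := exists_prime_orderOf_dvd_card' q h1
  have h3 : x ≠ 1 := Comp.ne_one_of_orderOf_eq hx
  haveI : Nontrivial G := ⟨x, 1, h3⟩
  haveI : IsSimpleGroup G := ⟨fun N h => by_contra fun h' => hN ⟨N, h, not_or.1 h'⟩⟩
  obtain ⟨k, hk⟩ := (BG.piN_singleton index_ne_zero_of_finite).1 (h q hq h2 x ((Solv.piE_singleton hq).2 ⟨1, by simpa using hx⟩))
  haveI := Fact.mk (Char.prime_card_of_simple_of_class_prime_pow hp h3 hk)
  haveI := isCyclic_of_prime_card (α := G) rfl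
  infer_instance
end

/-- Let G be a finite group and p a prime. Every conjugacy class of p-regular elements of G (elements of order prime to p) has p-power size if and only if G has an abelian p-complement, i.e. an abelian subgroup of order prime to p and p-power index. -/
theorem result {G : Type*} [Group G] [Finite G] {p : ℕ} (hp : p.Prime) :
    (∀ x : G, (orderOf x).Coprime p → ∃ k : ℕ, (ConjClasses.mk x).carrier.ncard = p ^ k) ↔
    (∃ H : Subgroup G, IsMulCommutative H ∧ ¬ p ∣ Nat.card H ∧ ∃ k : ℕ, H.index = p ^ k) := by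
  open Pointwise commutatorElement Subgroup Cfsg.Agent.Solv in
  open Cfsg.Agent.Comp in
  haveI := Fact.mk hp
  simp only [ncard_eq]
  refine ⟨fun h => ?_, fun ⟨H, a1, a2, k, a3⟩ x hx => ?_⟩
  · have hs := solv hp G fun q hq e x hx => by
      obtain ⟨k, hk⟩ := (piE_singleton hq).1 hx
      exact (BG.piN_singleton index_ne_zero_of_finite).2 (h x (hk ▸ ((Nat.coprime_primes hq hp).2 e).pow_left k))
    obtain ⟨H, hH⟩ := BG.exists_hallIn (M := (⊤ : Subgroup G)) inferInstance {p}ᶜ
    have a0 := BG.piN_compl_singleton.1 hH.isPi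
    refine ⟨H, BG.comm_of_commutator_eq_bot (eq_bot_iff.2 ((Comp.inf_eq_bot_of_isPGroup (isPGroup_Op p ⊤) a0).le.trans'
      (le_inf ?_ (commutator_le_self H)))), coprime_iff_not_dvd.1 a0, (BG.piN_singleton index_ne_zero_of_finite).1 (by simpa using hH.index)⟩
    obtain ⟨f, hf⟩ : ∃ f, f = QuotientGroup.mk' (pCore p G) := ⟨_, rfl⟩
    have f1 : Function.Surjective f := hf ▸ QuotientGroup.mk'_surjective _
    have b1 := Comp.coprime_Fit (p := p) (M := (⊤ : Subgroup (G ⧸ pCore p G))) ((Op_top p).trans pCore_quotient)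
    have b2 : H.map f ≤ centralizer (Fit (⊤ : Subgroup (G ⧸ pCore p G)) : Set (G ⧸ pCore p G)) := by
      rintro _ ⟨x, hx, rfl⟩
      obtain ⟨k, hk⟩ := h x (a0.coprime_dvd_left (Solv.orderOf_dvd_card_of_mem hx))
      haveI : (Fit (⊤ : Subgroup (G ⧸ pCore p G))).Normal := Comp.normal_iff_top_le_normalizer.2 (le_normalizer_Fit_of_le le_rfl)
      refine le_centralizer_singleton_iff.1 (relIndex_eq_one.1 (Nat.eq_one_of_dvd_coprimes (b1.pow_right k) (relIndex_dvd_card _ _)
        ((relIndex_dvd_index_of_normal' _ _).trans ((index_dvd_of_le ?_).trans ((index_map_dvd _ f1).trans hk.dvd)))))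
      rintro _ ⟨z, hz, rfl⟩
      exact mem_centralizer_singleton_iff.2 (by simpa using congrArg f (mem_centralizer_singleton_iff.1 hz))
    rw [Op_top, ← QuotientGroup.ker_mk' (pCore p G), ← hf, ← Subgroup.map_eq_bot_iff, map_commutator, BG.commutator_eq_bot_iff_le]
    exact b2.trans (Comp.centralizer_mono ((le_inf le_top b2).trans (inf_centralizer_Fit_le_of_isSolvable inferInstance)))
  have hH : BG.HallIn {p}ᶜ H ⊤ := BG.hallIn_mk le_top (BG.piN_compl_singleton'.2 a2) (by
    rw [compl_compl, relIndex_top_right, a3]; exact BG.piN_pow_prime hp (Set.mem_singleton p) k)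
  have h1 : ∀ x : G, ∀ g : G, x ∈ cj(g, H) → ∃ n, (centralizer {x}).index = p ^ n := fun x g hx => by
    have : (centralizer {x}).index ∣ p ^ k := by
      rw [← a3, ← relIndex_top_right H, ← BG.relIndex_cj g, cj_top, relIndex_top_right]
      exact index_dvd_of_le (le_centralizer_singleton_iff.2 (BG.comm_iff_le.1 (BG.comm_cj.2 a1) hx))
    exact ((Nat.dvd_prime_pow hp).1 this).imp fun _ h => h.2
  have hs := solv hp G fun q hq e x hx => by
    haveI := Fact.mk hq
    obtain ⟨S, hS⟩ := exists_sylIn q H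
    obtain ⟨n, hn⟩ := (piE_singleton hq).1 hx
    obtain ⟨g, -, hg⟩ := (hH.sylIn e hS).exists_le_cj (Comp.isPGroup_zpowers_of_orderOf hn) le_top
    exact (BG.piN_singleton index_ne_zero_of_finite).2 (h1 x g (cj_mono g hS.le (hg (mem_zpowers x))))
  obtain ⟨g, -, hg⟩ := hH.exists_le_cj inferInstance le_top (BG.isPi_zpowers.2 (BG.piN_compl_singleton.2 hx))
  exact h1 x g (hg (mem_zpowers x))

end Cfsg.Agent.S4034
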