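import Cfsg.Statements.S4036
import Cfsg.Agent.Lib.Comp.SylIn
import Mathlib.GroupTheory.Perm.Cycle.Type

set_option autoImplicit false
open Cfsg

namespace Cfsg.Agent.S4036

/-- Let P be a finite abelian p-group and K a group of automorphisms of P (a subgroup of Aut P) whose order is divisible by p. If all non-identity elements of K have the same fixed-point subgroup on P, then K has no non-trivial normal subgroup of order prime to p. -/
theorem result {P : Type*} [CommGroup P] [Finite P] {p : ℕ}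
    [Fact p.Prime] (hP : IsPGroup p P) (K : Subgroup (MulAut P)) (hK : p ∣ Nat.card K)
    (hfix : ∀ x y : MulAut P, x ∈ K → y ∈ K → x ≠ 1 → y ≠ 1 → ∀ v : P, x v = v ↔ y v = v) :
    ∀ N : Subgroup ↥K, N.Normal → ¬ p ∣ Nat.card N → N = ⊥ := by
  open Pointwise commutatorElement Subgroup in
  classical
  intro N hN hd
  by_contra h0
  have := Fintype.ofFinite N
  obtain ⟨x, hx⟩ := exists_prime_orderOf_dvd_card' p hK
  obtain ⟨⟨y, hyN⟩, hy⟩ := ne_bot_iff_exists_ne_one.1 h0
  have hy1 : (y : MulAut P) ≠ 1 := fun h => hy (Subtype.ext (Subtype.ext h))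
  have hx1 : (x : MulAut P) ≠ 1 := fun h => by
    rw [show x = 1 from Subtype.ext h, orderOf_one] at hx
    exact (Fact.out : p.Prime).one_lt.ne hx
  let T : P →* P := ∏ n : N, ((n : K) : MulAut P).toMonoidHom
  have hT : ∀ v, T v = ∏ n : N, ((n : K) : MulAut P) v := fun v => MonoidHom.finset_prod_apply _ _ _
  have hTy : ∀ v, T ((y : MulAut P) v) = T v := by
    intro v
    rw [hT, hT]
    exact Fintype.prod_equiv (Equiv.mulRight (⟨y, hyN⟩ : N)) _ _ fun n => rfl
  have hTx : ∀ (k : K) v, T v = 1 → T ((k : MulAut P) v) = 1 := by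
    intro k v hv
    rw [← map_one (k : MulAut P), ← hv, hT, hT, map_prod]
    refine Fintype.prod_equiv (MulAut.conjNormal k⁻¹).toEquiv _ _ fun n => ?_
    simp
  let σ : Equiv.Perm T.ker := Equiv.Perm.subtypePerm (x : MulAut P).toEquiv fun v =>
    ⟨fun h => by simpa using hTx x⁻¹ _ h, hTx x v⟩
  have hσ : ∀ (k : ℕ) (v : T.ker), ((σ ^ k) v : P) = ((x : MulAut P) ^ k) v := by
    intro k
    induction k with
    | zero => intro v; rfl
    | succ k ih => intro v; rw [pow_succ, pow_succ, Equiv.Perm.mul_apply, ih]; rfl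
  have hσp : σ ^ p ^ 1 = 1 := by
    ext v
    rw [hσ, pow_one, ← Subgroup.coe_pow, ← hx, pow_orderOf_eq_one]; rfl
  have hW : T.ker ≠ ⊥ := by
    intro h
    apply hy1
    ext v
    have : v⁻¹ * (y : MulAut P) v ∈ T.ker := by
      rw [MonoidHom.mem_ker, map_mul, hTy, map_inv, inv_mul_cancel]
    rw [h, mem_bot, inv_mul_eq_one] at this
    exact this.symm
  have := Fintype.ofFinite T.ker
  obtain ⟨b, hb, hb1⟩ := Equiv.Perm.exists_fixed_point_of_prime' (p := p) (n := 1)
    (by rw [← Nat.card_eq_fintype_card]; exact Comp.dvd_card_of_isPGroup (hP.to_subgroup _) hW) hσp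
    (a := 1) (Subtype.ext (map_one (x : MulAut P)))
  have hb2 : (x : MulAut P) b = b := congrArg Subtype.val hb
  have hb3 : T b = (b : P) ^ Nat.card N := by
    rw [hT, Nat.card_eq_fintype_card, ← Finset.card_univ, ← Finset.prod_const]
    refine Finset.prod_congr rfl fun n _ => ?_
    by_cases hn : ((n : K) : MulAut P) = 1
    · rw [hn]; rfl
    · exact (hfix _ _ x.2 (n : K).2 hx1 hn b).1 hb2
  rw [b.2] at hb3
  obtain ⟨k, hk⟩ := IsPGroup.iff_orderOf.1 hP (b : P)
  have h1 := orderOf_dvd_of_pow_eq_one hb3.symm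
  have h2 : orderOf (b : P) = 1 := Nat.eq_one_of_dvd_coprimes
    (Nat.Coprime.pow_left k ((Nat.Prime.coprime_iff_not_dvd Fact.out).2 hd)) hk.dvd h1
  exact hb1 (Subtype.ext (orderOf_eq_one_iff.1 h2))

end Cfsg.Agent.S4036
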