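import Cfsg.Statements.S4038
import Cfsg.Agent.Lib.BG.Janko
import Cfsg.Agent.Lib.BG.Act

set_option autoImplicit false
open Cfsg

namespace Cfsg.Agent.S4038

/-- Let A and G be finite groups of coprime orders with A acting on G by automorphisms. Suppose G has a proper A-invariant subgroup M, maximal among proper A-invariant subgroups, which is nilpotent and whose Sylow 2-subgroups have nilpotency class at most 2. Then G is solvable. -/
theorem result {G A : Type*} [Group G] [Finite G]
    [Group A] [Finite A] (φ : A →* MulAut G) (hcop : (Nat.card A).Coprime (Nat.card G))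
    (M : Subgroup G) (hMtop : M ≠ ⊤) (hMinv : ∀ a : A, ∀ m : G, m ∈ M → φ a m ∈ M)
    (hMmax : ∀ H : Subgroup G, M ≤ H → H ≠ ⊤ → (∀ a : A, ∀ h : G, h ∈ H → φ a h ∈ H) → H = M)
    (hnil : Group.IsNilpotent M) (h2 : ∀ S : Sylow 2 ↥M, Group.nilpotencyClass ↥(S : Subgroup ↥M) ≤ 2) :
    Group.IsSolvable G := by
  open Pointwise commutatorElement Subgroup in
  open Cfsg.Agent.Comp Cfsg.Agent.BG in
  obtain ⟨X, _, _, i, j, h⟩ := exists_act φ
  obtain ⟨S⟩ : Nonempty (Sylow 2 M) := inferInstance
  have := S.isPGroup'.isNilpotent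
  have e : ⁅⁅(S : Subgroup M), (S : Subgroup M)⁆, (S : Subgroup M)⁆ = ⊥ := lowerCentralSeries_eq_bot_of_nilpotencyClass_le (h2 S)
  refine h.isSolvable (Janko.main _ j.range i.range (M.map i) _ rfl h.normal h.sup (by rwa [h.card_range, h.card_range'])
    (h.map_lt hMtop) (h.le_normalizer_iff.2 hMinv) (fun H a b c => ?_) (Solv.isNilpotent_map _ hnil)
    ((sylIn_sylow S).map_of_injective h.inj) ?_)
  · obtain ⟨K, rfl⟩ := Act.exists_map b
    by_cases f : K = ⊤
    · exact .inr (h.map_eq_range.2 f)
    · rw [hMmax K ((map_le_map_iff_of_injective h.inj).1 a) f (h.le_normalizer_iff.1 c)]; exact .inl rfl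
  · rw [← commutator_eq_bot_iff_le_centralizer]
    simp only [← map_commutator, e, Subgroup.map_bot]

end Cfsg.Agent.S4038
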