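import Cfsg.Statements.S4043
import Cfsg.Agent.Lib.BG.PLen

set_option autoImplicit false
open Cfsg

namespace Cfsg.Agent.S4043

/-- Let G be a finite group that is the semidirect product of a normal p-subgroup N by a subgroup A, and also of N by a subgroup A₁, where p is a prime and A and A₁ both have normal p-complements. If C_N(A) = C_N(A₁) = 1, then A₁ is conjugate to A by an element of N. -/
theorem result {G : Type*} [Group G] [Finite G] {p : ℕ}
    [Fact p.Prime] (N : Subgroup G) [N.Normal] (hN : IsPGroup p N) (A A₁ : Subgroup G)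
    (hA : A.IsComplement' N) (hA₁ : A₁.IsComplement' N)
    (hAp : Cfsg.HasNormalPComplement p A) (hA₁p : Cfsg.HasNormalPComplement p A₁)
    (hC : ∀ n : G, n ∈ N → (∀ a : G, a ∈ A → a * n * a⁻¹ = n) → n = 1)
    (hC₁ : ∀ n : G, n ∈ N → (∀ a : G, a ∈ A₁ → a * n * a⁻¹ = n) → n = 1) :
    ∃ n : G, n ∈ N ∧ A₁ = A.map (MulAut.conj n).toMonoidHom := by
  open Pointwise commutatorElement Subgroup in
  open Cfsg.Agent.Comp Cfsg.Agent.BG Subgroup commutatorElement in
  have key : ∀ A : Subgroup G, A.IsComplement' N → HasNormalPComplement p A →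
      (∀ n : G, n ∈ N → (∀ a : G, a ∈ A → a * n * a⁻¹ = n) → n = 1) → Nm(Opp p A) = A ∧ N ⊓ Opp p A = ⊥ ∧
        (Opp p A).map (QuotientGroup.mk' N) = Res p ⊤ := fun A hA hp hC => by
    have h0 : N ⊓ Opp p A = ⊥ := (isPi_singleton.2 hN).inf_eq_bot (isPi_compl_singleton.2 (coprime_Opp p A))
    refine ⟨le_antisymm ?_ (le_normalizer_Opp le_normalizer), h0, ?_⟩
    · rw [← top_inf_eq Nm(Opp p A), ← hA.sup_eq_top, sup_inf_of_le_normalizer le_normalizer_of_normal (le_normalizer_Opp le_normalizer)]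
      refine sup_le le_rfl (le_trans (fun x hx => mem_inf.2 ⟨hx.1, Solv.mem_centralizer_of_mem_normalizer le_normalizer_of_normal h0
        hx.1 hx.2⟩) ((by_contra fun h => ?_ : N ⊓ Ct(Opp p A) = ⊥).le.trans bot_le))
      obtain ⟨P, hP⟩ := exists_sylIn p A
      have h1 : P ≤ Nm((N ⊓ Ct(Opp p A) : Subgroup G)) := Comp.le_normalizer_inf le_normalizer_of_normal
        (Comp.le_normalizer_centralizer (le_normalizer_Opp (hP.le.trans le_normalizer)))
      obtain ⟨n, n1, n2⟩ := Solv.exists_ne_one_of_ne_bot (inf_centralizer_ne_bot_of_isNilpotent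
        ((hN.to_le inf_le_left).to_sup_of_normal_left' hP.isP h1).isNilpotent le_sup_left (sup_le le_normalizer h1) h)
      refine n2 (hC n n1.1.1 fun a ha => mul_inv_eq_iff_eq_mul.2 (mem_Ct.1 ?_ a ha))
      rw [← (hasNPC_iff_sup hP).1 hp, centralizer_sup]
      exact ⟨n1.1.2, centralizer_mono le_sup_right n1.2⟩
    · rw [← hasNPC_iff_eq.1 hp, map_ResPi, ← map_top_of_surjective _ (QuotientGroup.mk'_surjective N), ← hA.sup_eq_top,
        Subgroup.map_sup, (Solv.map_mk_eq_bot_iff N).2 le_rfl, sup_bot_eq]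
  obtain ⟨a1, a2, a3⟩ := key A hA hAp hC
  obtain ⟨b1, b2, b3⟩ := key A₁ hA₁ hA₁p hC₁
  obtain ⟨k, k1, k2⟩ := Solv.sz_conj_internal (A := Opp p A) le_normalizer_of_normal
    ((isPi_compl_singleton.2 (coprime_Opp p A)).coprime' (isPi_singleton.2 hN)) (.inr (by have := hN.isNilpotent; infer_instance)) b2
    (by rw [sup_comm, ← Solv.comap_map_mk, b3, ← a3, Solv.comap_map_mk, sup_comm])
  exact ⟨k, k1, by rw [← b1, ← k2, smul_eq_cj, ← cj_normalizer, a1]⟩

end Cfsg.Agent.S4043
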