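import Cfsg.Statements.S4050
import Cfsg.Agent.Lib.FT.Cor

set_option autoImplicit false
open Cfsg

namespace Cfsg.Agent.S4050

/-- Let π be a set of primes and G a finite group. The π-elements of G (elements whose order is divisible only by primes of π) form a subgroup if and only if G is π-separable (it has a chain of normal subgroups from 1 to G with each successive index divisible only by primes in π or only by primes outside π) and N_G(H)/C_G(H) is a π'-group for every nontrivial π'-subgroup H of G. -/
theorem result {G : Type*} [Group G] [Finite G] (π : Set ℕ)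
    (hπ : ∀ p ∈ π, p.Prime) :
    (∃ K : Subgroup G, ∀ x : G, x ∈ K ↔ ∀ p : ℕ, p.Prime → p ∣ orderOf x → p ∈ π) ↔
    ((∃ (n : ℕ) (H : Fin (n + 1) → Subgroup G), H 0 = ⊥ ∧ H (Fin.last n) = ⊤ ∧ Monotone H ∧ (∀ i, (H i).Normal) ∧
      ∀ i : Fin n, (∀ q : ℕ, q.Prime → q ∣ (H i.castSucc).relIndex (H i.succ) → q ∈ π) ∨
        (∀ q : ℕ, q.Prime → q ∣ (H i.castSucc).relIndex (H i.succ) → q ∉ π)) ∧
     (∀ H : Subgroup G, H ≠ ⊥ → (∀ p : ℕ, p.Prime → p ∣ Nat.card ↥H → p ∉ π) →
        ∀ p : ℕ, p.Prime → p ∣ (Subgroup.centralizer (H : Set G)).relIndex (Subgroup.normalizer (H : Set G)) → p ∉ π)) := by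
  open Subgroup Solv FTC Pointwise in
  constructor
  · rintro ⟨K, hK⟩
    have hn : K.Normal := ⟨fun x hx g => (hK _).2 (by
      rw [show orderOf (g * x * g⁻¹) = orderOf x from (MulAut.conj g).orderOf_eq x]; exact (hK _).1 hx)⟩
    have h1 : PiN π (Nat.card K) := fun q hq hd => by
      have := Fact.mk hq
      obtain ⟨x, hx⟩ := exists_prime_orderOf_dvd_card' q hd
      exact (hK x).1 x.2 q hq (by rw [orderOf_coe, hx])
    have h2 : ∀ (q : ℕ) [Fact q.Prime] (Q : Subgroup G), IsPGroup q Q → q ∈ π → Q ≤ K := by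
      intro q _ Q hQ hq x hx
      refine (hK x).2 fun r hr hd => ?_
      obtain ⟨k, hk⟩ := isPGroup_iff_forall_mem.1 hQ x hx
      rwa [(Nat.prime_dvd_prime_iff_eq hr Fact.out).1
        (hr.dvd_of_dvd_pow (hd.trans (orderOf_dvd_of_pow_eq_one hk)))]
    refine ⟨⟨2, ![⊥, K, ⊤], rfl, rfl, ?_, ?_, ?_⟩, fun H _ hH p hp hd hpπ => ?_⟩
    · refine Fin.monotone_iff_le_succ.2 fun i => ?_
      fin_cases i <;> simp
    · intro i; fin_cases i <;> simp <;> infer_instance
    · intro i; fin_cases i
      · exact Or.inl (by simpa [PiN] using h1)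
      · refine Or.inr fun q hq hd hqπ => ?_
        have := Fact.mk hq
        obtain ⟨P⟩ : Nonempty (Sylow q G) := inferInstance
        refine P.not_dvd_index (Dvd.dvd.trans ?_ (index_dvd_of_le (h2 q P P.isPGroup' hqπ)))
        simpa using hd
    · have := Fact.mk hp
      obtain ⟨P, hP⟩ := Transfer.exists_isSyl p (normalizer (H : Set G))
      refine hP.3 (hd.trans (relIndex_dvd_of_le_left _ ?_))
      have hPK := h2 p P hP.2 hpπ
      rw [← commutator_eq_bot_iff_le_centralizer, eq_bot_iff,
        ← inf_eq_bot_of_coprime' (h1.coprime (π := π) hH)]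
      exact le_inf ((commutator_mono hPK le_top).trans (commutator_le_left _ _))
        (Comp.commutator_le_right_of_le_normalizer hP.1)
  · rintro ⟨⟨n, C, h0, h1, -, hn, h⟩, hH⟩
    have hs : FTC.Sep π G := sep_of_chain C h0 h1 hn h
    have hO : PiN π (Nat.card (piCore π G)) := piCore_spec π
    suffices hi : PiN πᶜ (piCore π G).index by
      refine ⟨piCore π G, fun x => ⟨fun hx q hq hd => hO q hq (hd.trans (orderOf_dvd_natCard _ hx)),
        fun hx => zpowers_le.1 (le_of_coprime_index ?_)⟩⟩
      rw [Nat.card_zpowers]; exact PiN.coprime hx hi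
    let f := QuotientGroup.mk' (piCore π G)
    have hs' := (hs.quotient (piCore π G)).compl.centralizer_le (by
      rw [compl_compl]; exact piCore_quotient_piCore)
    set L := piCore πᶜ (G ⧸ piCore π G) with hL
    have hL1 : PiN πᶜ (Nat.card L) := piCore_spec _
    have e1 : (piCore π G).relIndex (L.comap f) = Nat.card L := by
      rw [← card_map_mk_eq_relIndex, map_comap_mk]
    obtain ⟨B, hB, hB1, hB2, hB3⟩ := sz_exists_internal (le_comap_mk _ L) le_normalizer_of_normal
      (by rw [e1]; exact hO.coprime hL1)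
    rw [e1] at hB3
    have e2 : B.map f = L := by
      rw [← map_comap_mk _ L, ← hB2, Subgroup.map_sup, (map_mk_eq_bot_iff _).2 le_rfl, bot_sup_eq]
    have hc : (Nat.card B).Coprime (Nat.card (piCore π G)) := by rw [hB3]; exact (hO.coprime hL1).symm
    rw [index_eq_card, ← L.card_mul_index]
    refine hL1.mul ?_
    by_cases hb : B = ⊥
    · rw [← e2, hb, Subgroup.map_bot] at hs'
      have : (⊤ : Subgroup (G ⧸ piCore π G)) ≤ ⊥ := le_trans (fun x _ => by simp [mem_centralizer_iff]) hs'
      rw [top_le_iff.1 (this.trans (bot_le (a := L))), index_top]; exact PiN.one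
    · refine PiN.of_dvd (hH B hb (by rw [hB3]; exact hL1)) ((index_dvd_of_le hs').trans ?_)
      rw [← e2, ← coprime_map_mk_centralizer hc (solv_or hc), ← relIndex_top_right,
        ← normalizer_eq_top L, ← e2, ← coprime_map_mk_normalizer hc (solv_or hc), relIndex_map_map]
      rw [QuotientGroup.ker_mk']
      have e3 : (centralizer (B : Set G) ⊔ piCore π G).relIndex (normalizer (B : Set G) ⊔ piCore π G) =
          (centralizer (B : Set G) ⊔ piCore π G).relIndex (normalizer (B : Set G)) := by
        rw [← relIndex_sup_of_le_normalizer (H := normalizer (B : Set G))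
          (le_normalizer_sup (normalizer_le_normalizer_centralizer B) le_normalizer_of_normal),
          ← sup_assoc, sup_eq_left.2 (centralizer_le_normalizer _)]
      rw [e3]
      exact relIndex_dvd_of_le_left _ le_sup_left

end Cfsg.Agent.S4050
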