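import Cfsg.Statements.S4051
import Cfsg.Agent.Lib.BG.PLen
import Cfsg.Agent.Lib.FT.Cor

set_option autoImplicit false
open Cfsg

namespace Cfsg.Agent.S4051
section
open Pointwise commutatorElement Subgroup
open Cfsg.Agent.Comp Cfsg.Agent.BG Subgroup commutatorElement in
theorem key {X : Type*} [Group X] [Finite X] (π : Set ℕ) :
    (∃ L : Subgroup X, ∀ x : X, x ∈ L ↔ ∀ p : ℕ, p.Prime → p ∣ orderOf x → p ∈ π) ↔ IsPi π (ResPi πᶜ (⊤ : Subgroup X)) :=
  ⟨fun ⟨L, h⟩ => (isPi_of_forall fun x hx => (h x).1 hx).of_le ((closure_le _).2 fun x hx => (h x).2 fun q a b =>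
    not_not.1 (hx.2 q a b)), fun h => ⟨_, fun _ => ⟨h.orderOf, fun hx => subset_closure ⟨mem_top _, fun q a b c => c (hx q a b)⟩⟩⟩⟩
end

/-- Let π be a set of primes and G a finite group such that N_G(H)/C_G(H) is a π'-group for every nontrivial π'-subgroup H of G. If K is a normal subgroup of G such that the π-elements of K form a subgroup and the π-elements of G/K form a subgroup, then the π-elements of G form a subgroup. -/
theorem result {G : Type*} [Group G] [Finite G] (π : Set ℕ)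
    (hπ : ∀ p ∈ π, p.Prime) (hhom : (∀ H : Subgroup G, H ≠ ⊥ → (∀ p : ℕ, p.Prime → p ∣ Nat.card ↥H → p ∉ π) →
        ∀ p : ℕ, p.Prime → p ∣ (Subgroup.centralizer (H : Set G)).relIndex (Subgroup.normalizer (H : Set G)) → p ∉ π))
    (K : Subgroup G) [K.Normal]
    (hK : ∃ L : Subgroup ↥K, ∀ x : ↥K, x ∈ L ↔ ∀ p : ℕ, p.Prime → p ∣ orderOf x → p ∈ π)
    (hQ : ∃ L : Subgroup (G ⧸ K), ∀ x : G ⧸ K, x ∈ L ↔ ∀ p : ℕ, p.Prime → p ∣ orderOf x → p ∈ π) :
    (∃ K : Subgroup G, ∀ x : G, x ∈ K ↔ ∀ p : ℕ, p.Prime → p ∣ orderOf x → p ∈ π) := by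
  open Pointwise commutatorElement Subgroup in
  open Cfsg.Agent.Comp Cfsg.Agent.BG Subgroup commutatorElement in
  rw [key] at hK hQ ⊢
  have l1 : HallIn π (ResPi πᶜ K) K := hallIn_mk (ResPi_le _ _) (by
    simpa only [map_ResPi, map_subtype_top] using hK.map K.subtype) fun q => mem_of_dvd_relIndex_ResPi
  obtain ⟨Q, q1⟩ := l1.exists_compl le_normalizer_of_normal
  have q2 : ResPi πᶜ K ⊔ Nm(Q) = ⊤ := eq_top_iff.2 fun g _ => by
    have q3 := q1.cj_of_mem (le_normalizer_of_normal (mem_top g))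
    obtain ⟨k, k1, k2⟩ := Solv.sz_conj_internal le_normalizer_of_normal (q1.isPi.coprime' l1.isPi)
      (FTC.solv_or (q1.isPi.coprime' l1.isPi)) (l1.inf_eq_bot q3) ((l1.sup_eq q3).trans (l1.sup_eq q1).symm)
    rw [← mul_inv_cancel_left k g]
    exact mul_mem (mem_sup_left k1) (mem_sup_right (cj_eq_self_iff.1 (by rw [cj_mul, ← k2, smul_eq_cj, cj_inv_cj])))
  have e1 : ResPi πᶜ Nm(Q) ≤ Ct(Q) := by
    by_cases h : Q = ⊥
    · rw [h, le_Ct_comm]; exact bot_le
    exact (SubnIn.of_normalizer (Ct_le_Nm Q) (Comp.normalizer_le_normalizer_centralizer Q)).ResPi_le (hhom Q h q1.isPi)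
  set X := Nm(Q) ⊓ (ResPi πᶜ ⊤).comap (QuotientGroup.mk' K)
  have x1 : Q ≤ X := le_inf le_normalizer (q1.le.trans (Solv.le_comap_mk K _))
  have x2 : HallIn πᶜ Q X := (q1.of_le (le_inf q1.le x1) inf_le_left).trans_index inf_le_right (by
    rw [compl_compl, inf_relIndex_right, ← Solv.card_map_mk_eq_relIndex]
    exact hQ.of_le (map_le_iff_le_comap.2 inf_le_right))
  obtain ⟨H, h1⟩ := x2.exists_compl inf_le_left
  have h2 : X ≤ Nm(H) := (x2.sup_eq h1).ge.trans (sup_le (le_Nm_of_le_Ct' ((le_ResPi (h1.le.trans inf_le_left) h1.isPi).trans e1))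
    le_normalizer)
  have h3 : ResPi πᶜ Nm(Q) ≤ H := (ResPi_le_ResPi (le_inf (ResPi_le _ _) (map_le_iff_le_comap.1
    ((map_ResPi_le _ _).trans (ResPi_mono le_top))))).trans ((SubnIn.of_normalizer h1.le h2).ResPi_le (compl_compl πᶜ ▸ h1.index))
  refine .of_map (QuotientGroup.mk' (ResPi πᶜ K)) ?_ (l1.isPi.of_le (by rw [QuotientGroup.ker_mk']; exact inf_le_right))
  rw [map_ResPi, ← q2, Subgroup.map_sup, (Solv.map_mk_eq_bot_iff _).2 le_rfl, bot_sup_eq, ← map_ResPi]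
  exact ((compl_compl π ▸ h1.isPi).of_le h3).map _

end Cfsg.Agent.S4051
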