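import Cfsg.Statements.S4056
import Cfsg.Agent.Lib.Solv.Frattini
import Cfsg.Agent.Lib.Solv.PGrp

set_option autoImplicit false
open Cfsg

namespace Cfsg.Agent.S4056

/-- In a finite 2-group of nilpotency class at most 2 and exponent dividing 4, the Frattini subgroup lies in the centre and is elementary abelian. -/
theorem result {P : Type*} [Group P] [Finite P] (hP : IsPGroup 2 P)
    (hcl : Group.nilpotencyClass P ≤ 2) (hexp : Monoid.exponent P ∣ 4) :
    frattini P ≤ Subgroup.center P ∧ Cfsg.IsElementaryAbelian 2 (frattini P) := by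
  open Pointwise commutatorElement Subgroup Cfsg.Agent.Solv in
  have h4 : ∀ x : P, x ^ 4 = 1 := fun x => orderOf_dvd_iff_pow_eq_one.1 ((Monoid.order_dvd_exponent x).trans hexp)
  haveI := hP.isNilpotent
  have hc : ∀ x y : P, ⁅x, y⁆ ∈ center P := by
    intro x y
    have h1 := (Subgroup.upperCentralSeries_eq_top_iff_nilpotencyClass_le).2 hcl
    have h2 : x ∈ Subgroup.upperCentralSeries P 2 := h1 ▸ mem_top x
    rw [Subgroup.mem_upperCentralSeries_succ_iff] at h2
    have := h2 y
    rwa [Subgroup.upperCentralSeries_one] at this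
  have h2 : ∀ x y : P, ⁅x, y⁆ ^ 2 = 1 := by
    intro a b
    obtain ⟨x, rfl⟩ := inv_surjective b
    obtain ⟨y, rfl⟩ := inv_surjective a
    have := mul_pow_of_comm (x := x) (y := y) (c := ⁅y⁻¹, x⁻¹⁆) (mem_center_iff.1 (hc _ _) x)
      (mem_center_iff.1 (hc _ _) y) (by rw [commutatorElement_def]; group) 4
    rw [h4, h4, h4, one_mul, one_mul, show Nat.choose 4 2 = 4 + 2 from rfl, pow_add, h4, one_mul] at this
    exact this.symm
  let N : Subgroup P := omegaAb 2 (center P) inferInstance
  have hN : frattini P ≤ N := by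
    refine frattini_le_of_commutator_le_of_pow_mem (p := 2) ?_ fun x => ⟨?_, by rw [← pow_mul, h4]⟩
    · rw [_root_.commutator_def, commutator_le]
      exact fun x _ y _ => ⟨hc x y, h2 x y⟩
    · rw [mem_center_iff]
      intro y
      have := pow_mul_of_comm (x := y) (y := x) (c := ⁅x⁻¹, y⁻¹⁆) (mem_center_iff.1 (hc _ _) x)
        (by rw [commutatorElement_def]; group) 2
      rw [this, h2, mul_one]
  exact ⟨fun x hx => (hN hx).1, isMulCommutative_of_le (fun x hx => (hN hx).1) (inferInstanceAs (IsMulCommutative (center P))), fun x hx => (hN hx).2⟩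

end Cfsg.Agent.S4056
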