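import Cfsg.Statements.S4058
import Cfsg.Agent.Lib.Char.FS
import Cfsg.Agent.Lib.Char.LinChar
import Cfsg.Agent.Lib.Char.Integral
import Cfsg.Agent.Lib.Solv.Frattini

set_option autoImplicit false
open Cfsg

namespace Cfsg.Agent.S4058
section
open Pointwise commutatorElement Subgroup Cfsg.Agent.Solv
open Cfsg.Agent.Char MulAction

theorem dvd_sum_orbit {A X : Type*} [Group A] [Fintype X] [MulAction A X] (f : X → ℤ) (h : ∀ (a : A) x, f (a • x) = f x) {d : ℤ}
    (hd : ∀ x, d ∣ Nat.card (orbit A x) * f x) : d ∣ ∑ x, f x := by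
  classical
  rw [← Finset.sum_fiberwise Finset.univ (Quotient.mk (orbitRel A X))]
  refine Finset.dvd_sum fun o _ => ?_
  obtain ⟨x, rfl⟩ := o.exists_rep
  have e : ∀ y, y ∈ Finset.univ.filter (fun y => Quotient.mk (orbitRel A X) y = Quotient.mk _ x) ↔ y ∈ orbit A x := fun y => by
    simp [Quotient.eq, orbitRel_apply]
  rw [Finset.sum_congr rfl fun y hy => (by obtain ⟨a, rfl⟩ := (e y).1 hy; exact h a x : f y = f x), Finset.sum_const, nsmul_eq_mul,
    ← Nat.subtype_card _ e]
  exact hd x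

@[reducible] noncomputable def act {G : Type*} [Group G] [Finite G] (N : Subgroup G) [N.Normal] : MulAction (G ⧸ N →* ℂˣ) (IrrCharacter G) where
  smul w χ := ⟨fun g => (w g : ℂ) * χ.1 g, χ.2.mul_units (w.comp (QuotientGroup.mk' N))⟩
  one_smul χ := Subtype.ext (funext fun g => one_mul _)
  mul_smul a b χ := Subtype.ext (funext fun g => by
    show ((a g * b g : ℂˣ) : ℂ) * χ.1 g = a g * (b g * χ.1 g)
    rw [Units.val_mul, mul_assoc])

theorem stab_le {G : Type*} [Group G] [Finite G] (N : Subgroup G) [N.Normal] (χ : IrrCharacter G) {d : ℕ} (hd : χ.1 1 = d) :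
    Nat.card (@stabilizer _ _ _ (act N) χ) ≤ d * d := by
  classical
  letI := act N
  have := Fintype.ofFinite G
  obtain ⟨c, h1, h2⟩ := (χ.2.isCharacter.mul χ.2.isCharacter.conj).exists_coeff
  choose n hn using fun θ : IrrCharacter G => θ.2.exists_degree
  have e : d * d = ∑ θ, c θ * n θ := by
    have := congrFun h2 1
    rw [Pi.mul_apply, hd] at this
    simp only [Finset.sum_apply, Pi.smul_apply, (hn _).2, smul_eq_mul, map_natCast] at this
    exact_mod_cast this
  let f : stabilizer (G ⧸ N →* ℂˣ) χ → IrrCharacter G := fun w => ⟨_, isIrr_lc (w.1.comp (QuotientGroup.mk' N))⟩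
  have hf : Function.Injective f := fun a b h => Subtype.ext (MonoidHom.ext fun x => by
    obtain ⟨x, rfl⟩ := QuotientGroup.mk'_surjective N x
    exact DFunLike.congr_fun (lc_injective (congrArg Subtype.val h)) x)
  have := Fintype.ofFinite (stabilizer (G ⧸ N →* ℂˣ) χ)
  rw [e, Nat.card_eq_fintype_card, ← Finset.card_univ, ← Finset.card_image_of_injective _ hf, Finset.card_eq_sum_ones]
  refine (Finset.sum_le_sum fun θ hθ => ?_).trans (Finset.sum_le_sum_of_subset (Finset.subset_univ _))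
  obtain ⟨w, -, rfl⟩ := Finset.mem_image.1 hθ
  have : (c (f w) : ℂ) = 1 := by
    rw [← h1, ← classInner_mul_right, ← χ.2.classInner_self]
    congr 1
    exact (mul_comm _ _).trans (congrArg Subtype.val w.2)
  exact Nat.mul_pos (by rw [Nat.cast_eq_one.1 this]; exact one_pos) (hn _).1
end

/-- Let G be a finite 2-group with #(G/Φ(G)) ≥ 2^(2k+1). Then the number of elements x of G with x² = 1 is divisible by 2^(k+1). -/
theorem result {G : Type*} [Group G] [Finite G] (hG : IsPGroup 2 G) (k : ℕ)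
    (hgen : 2 ^ (2 * k + 1) ≤ Nat.card (G ⧸ frattini G)) :
    2 ^ (k + 1) ∣ Nat.card {x : G // x ^ 2 = 1} := by
  open Pointwise commutatorElement Subgroup Cfsg.Agent.Solv in
  open Cfsg.Agent.Char MulAction in
  classical
  letI := act (frattini G)
  have := Fintype.ofFinite G
  have sq : ∀ g : G, ((g * g : G) : G ⧸ frattini G) = 1 := fun g => (QuotientGroup.eq_one_iff _).2 (by
    rw [← sq]; exact Solv.pow_mem_frattini hG g)
  have cm : ∀ a b : G ⧸ frattini G, a * b = b * a :=
    (Normal.quotient_commutative_iff_commutator_le.2 (Solv.commutator_le_frattini_of_isPGroup hG)).1.1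
  choose n hn using fun θ : IrrCharacter G => θ.2.exists_degree
  have : ∀ θ : IrrCharacter G, ∃ z : ℤ, fsInd θ.1 = z := fun θ => by
    obtain ⟨a, b, -, -, -, h⟩ := fsInd_spec θ.2.isCharacter
    exact ⟨a - b, by rw [h]; push_cast; rfl⟩
  choose z hz using this
  have e : (Nat.card {x : G // x ^ 2 = 1} : ℤ) = ∑ θ, z θ * n θ := by
    have := card_sqrt_eq_sum (1 : G)
    simp only [hz, (hn _).2, map_natCast, ← pow_two] at this
    exact_mod_cast this
  rw [← Int.natCast_dvd_natCast, e]
  refine dvd_sum_orbit (A := G ⧸ frattini G →* ℂˣ) _ (fun w θ => ?_) fun θ => ?_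
  · have a : fsInd (w • θ).1 = fsInd θ.1 := by
      unfold fsInd
      congr 1
      exact Finset.sum_congr rfl fun g _ => by
        show (w (g * g : G) : ℂ) * _ = _
        rw [sq, map_one, Units.val_one, one_mul]
    have b : (w • θ).1 1 = θ.1 1 := by
      show (w (1 : G) : ℂ) * _ = _
      rw [QuotientGroup.mk_one, map_one, Units.val_one, one_mul]
    rw [hz, hz, Int.cast_inj] at a
    rw [(hn _).2, (hn _).2, Nat.cast_inj] at b
    rw [a, b]
  obtain ⟨m, hm⟩ := hG.exists_card_eq
  obtain ⟨d, hd⟩ := (hG.to_quotient (frattini G)).exists_card_eq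
  obtain ⟨j, -, hj⟩ := (Nat.dvd_prime_pow Nat.prime_two).1 (hm ▸ θ.2.degree_dvd_card (hn θ).2)
  have a := (stabilizer (G ⧸ frattini G →* ℂˣ) θ).index_mul_card
  rw [card_lc cm, hd, index_stabilizer, ← Nat.card_coe_set_eq] at a
  obtain ⟨s, -, hs⟩ := (Nat.dvd_prime_pow Nat.prime_two).1 (Dvd.intro_left _ a)
  obtain ⟨t, -, ht⟩ := (Nat.dvd_prime_pow Nat.prime_two).1 (Dvd.intro _ a)
  have b := stab_le (frattini G) θ (hn θ).2
  rw [hs, hj, ← pow_add, Nat.pow_le_pow_iff_right one_lt_two] at b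
  rw [hs, ht, ← pow_add, Nat.pow_right_inj one_lt_two] at a
  rw [hd, Nat.pow_le_pow_iff_right one_lt_two] at hgen
  rw [ht, hj, mul_left_comm, ← Nat.cast_mul, ← pow_add]
  exact (Int.natCast_dvd_natCast.2 (pow_dvd_pow 2 (by omega))).mul_left _

end Cfsg.Agent.S4058
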