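import Cfsg.Statements.S4059
import Cfsg.Agent.S3863
import Cfsg.Agent.Lib.Comp.SylIn

set_option autoImplicit false
open Cfsg

namespace Cfsg.Agent.S4059

/-- Let G be a finite group in which every element is conjugate to its inverse. Then: every non-identity element commuting with all elements of some Sylow 2-subgroup is an involution; the centre of G is an elementary abelian 2-group; the commutator quotient G/G' is an elementary abelian 2-group; and G is generated by its 2-elements. -/
theorem result {G : Type*} [Group G] [Finite G] (hamb : ∀ x : G, IsConj x x⁻¹) :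
    (∀ (S : Sylow 2 G) (x : G), x ∈ Subgroup.centralizer ((S : Subgroup G) : Set G) → x ≠ 1 → orderOf x = 2) ∧
    (∀ z : G, z ∈ Subgroup.center G → z ^ 2 = 1) ∧
    (∀ x : G, x ^ 2 ∈ commutator G) ∧
    Subgroup.closure {x : G | ∃ k : ℕ, orderOf x = 2 ^ k} = ⊤ := by
  open Pointwise commutatorElement Subgroup in
  open Cfsg.Agent.Comp Cfsg.Agent.Solv in
  refine ⟨fun S x hx h1 => ?_, fun z hz => ?_, fun x => ?_, ?_⟩
  · refine orderOf_eq_prime ((S3863.result x (hamb x)).2.1 ?_) h1
    rw [← Nat.not_even_iff_odd, even_iff_two_dvd]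
    exact fun h => S.not_dvd_index (h.trans (index_dvd_of_le (le_centralizer_singleton_iff.2 hx)))
  · obtain ⟨g, hg⟩ := isConj_iff.1 (hamb z)
    rw [mem_center_iff.1 hz g, mul_inv_cancel_right] at hg
    rw [pow_two]; exact mul_eq_one_iff_eq_inv.2 hg
  · obtain ⟨g, hg⟩ := isConj_iff.1 (hamb x)
    have : x ^ 2 = ⁅x, g⁆ := by
      rw [commutatorElement_def, pow_two, mul_assoc, mul_assoc]
      congr 1
      rw [← inv_inj]; simpa [mul_assoc] using hg.symm
    rw [this]
    exact commutator_mem_commutator trivial trivial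
  · set K := closure {x : G | ∃ k : ℕ, orderOf x = 2 ^ k}
    haveI : K.Normal := by
      refine normal_of_cj_le fun g => ?_
      rw [MonoidHom.map_closure, closure_le]
      rintro _ ⟨x, ⟨k, hk⟩, rfl⟩
      exact subset_closure ⟨k, by rw [orderOf_injective _ (MulAut.conj g).injective, hk]⟩
    obtain ⟨S⟩ := (inferInstance : Nonempty (Sylow 2 G))
    have h1 : (S : Subgroup G) ≤ K := fun x hx => subset_closure (IsPGroup.iff_orderOf.1 S.isPGroup' ⟨x, hx⟩ |>.imp
      fun k hk => by rwa [Subgroup.orderOf_mk] at hk)
    rw [eq_top_iff]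
    intro x _
    refine ((S3863.result x (hamb x)).2.2 K ?_).1
    rw [← Nat.not_even_iff_odd, even_iff_two_dvd]
    exact fun h => S.not_dvd_index (h.trans (index_dvd_of_le h1))

end Cfsg.Agent.S4059
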