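import Cfsg.Statements.S4060
import Cfsg.Agent.S3863
import Cfsg.Agent.Lib.Solv.SylowIn
import Cfsg.Agent.Lib.Comp.Rad

set_option autoImplicit false
open Cfsg

namespace Cfsg.Agent.S4060
section
open Pointwise commutatorElement Subgroup Cfsg.Agent.Solv
universe u
theorem aux (G : Type u) [Group G] [Finite G] : Group.IsSolvable G → ∀ (S : Subgroup G), IsSylowIn 2 S ⊤ → ∀ x : G,
    Odd (orderOf x) → x ∈ normalizer (S : Set G) → IsConj x x⁻¹ → x = 1 := by
  revert G
  refine card_induction fun G _ _ ih => ?_
  intro hs S hS x ho hn hc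
  by_contra h1
  obtain ⟨M, -, hM, h0, -, -, q, hq, hMq⟩ := exists_elementary_normal_le (⊤ : Subgroup G) inferInstance
    (fun h => h1 (mem_bot.1 (h ▸ mem_top x)))
  have hxM : x ∈ M := by
    rw [← QuotientGroup.eq_one_iff]
    refine ih (G ⧸ M) (card_quotient_lt h0) inferInstance (S.map (QuotientGroup.mk' M)) ?_ _
      (ho.of_dvd_nat (orderOf_map_dvd (QuotientGroup.mk' M) x)) (le_normalizer_map _ (mem_map_of_mem _ hn)) ?_
    · have := hS.map (QuotientGroup.mk' M)
      rwa [map_top_of_surjective _ (QuotientGroup.mk'_surjective M)] at this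
    · exact (QuotientGroup.mk' M).map_isConj hc
  haveI := Fact.mk hq
  have hq2 : q ≠ 2 := by
    rintro rfl
    rw [orderOf_eq_prime (hMq x hxM) h1] at ho
    exact absurd ho (by decide)
  have hi : M ⊓ S = ⊥ := inf_eq_bot_of_coprime' (coprime_card_of_isPGroup (isPGroup_of_pow_eq_one hMq)
    fun h => hq2 (eq_of_isPGroup_of_dvd hS.isPGroup hq h))
  have h2 : S ≤ centralizer ({x} : Set G) := fun s hs => by
    rw [mem_centralizer_singleton_iff, ← mul_inv_eq_one, ← mem_bot, ← hi]
    refine ⟨?_, ?_⟩
    · have := mul_mem (hM.conj_mem _ hxM s) (inv_mem hxM)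
      simpa [mul_assoc] using this
    · have := mul_mem hs (conj_mem_of_mem_normalizer hn (inv_mem hs))
      simpa [mul_assoc] using this
  have h3 := (S3863.result x hc).2.1 (by
    rw [← Nat.not_even_iff_odd, even_iff_two_dvd]
    exact fun h => hS.not_dvd (by rw [relIndex_top_right]; exact h.trans (index_dvd_of_le h2)))
  rw [orderOf_eq_prime h3 h1] at ho
  exact absurd ho (by decide)
end

/-- Let G be a finite solvable group with Sylow 2-subgroup S, and let x ≠ 1 be an element of odd order normalizing S. Then x is not conjugate to its inverse in G. -/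
theorem result {G : Type*} [Group G] [Finite G] [Group.IsSolvable G]
    (S : Sylow 2 G) (x : G) (hx : x ≠ 1) (hodd : Odd (orderOf x))
    (hnorm : x ∈ Subgroup.normalizer ((S : Subgroup G) : Set G)) : ¬ IsConj x x⁻¹ := by
  open Pointwise commutatorElement Subgroup Cfsg.Agent.Solv in
  exact fun h => hx (aux G inferInstance S (isSylowIn_top S) x hodd hnorm h)

end Cfsg.Agent.S4060
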