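import Cfsg.Statements.S4065
import Mathlib
import Cfsg.Agent.Lib.Perm.Ac1
import Cfsg.Agent.Lib.Perm.GL2b

set_option autoImplicit false
open Cfsg

namespace Cfsg.Agent.S4065



/-- Let F be a finite field with 2ⁿ elements, n ≥ 2. In PSL₂(F) the centralizer of every element meets each of its conjugates by elements outside its normalizer trivially. -/
theorem result (n : ℕ) (hn : 2 ≤ n)
    (x : Matrix.ProjectiveSpecialLinearGroup (Fin 2) (GaloisField 2 n)) :
    Cfsg.IsTISubset (Subgroup.centralizer ({x} : Set (Matrix.ProjectiveSpecialLinearGroup (Fin 2) (GaloisField 2 n))) :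
      Set (Matrix.ProjectiveSpecialLinearGroup (Fin 2) (GaloisField 2 n))) := by
  intro g hg y hy hy'
  by_contra h1
  let φ := (Perm.GL2.toPEquiv (F := GaloisField 2 n) CharTwo.two_eq_zero).symm
  have hc : ∀ a b c : Matrix.ProjectiveSpecialLinearGroup (Fin 2) (GaloisField 2 n), b ≠ 1 →
      Commute a b → Commute c b → Commute a c := by
    intro a b c hb hab hbc
    have h4 : ¬ Perm.GL2.IsScal (φ b).1 := fun h5 => hb (by
      have := (Perm.GL2.center_SL_even CharTwo.two_eq_zero).le (Perm.GL2.isScal_iff_center_SL.1 h5)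
      simpa using this)
    refine φ.injective ?_
    rw [map_mul, map_mul]
    exact Subtype.ext (Perm.GL2.comm_comm h4 (congrArg Subtype.val (hab.map φ).eq)
      (congrArg Subtype.val (hbc.map φ).eq))
  by_cases hx : x = 1
  · subst hx
    exact hg (Subgroup.mem_set_normalizer_iff.2 fun h => by simp [Subgroup.mem_centralizer_iff])
  have he : ∀ z : Matrix.ProjectiveSpecialLinearGroup (Fin 2) (GaloisField 2 n), z ≠ 1 →
      z ∈ Perm.Ac.MM x → Perm.Ac.MM z = Perm.Ac.MM x := fun z hz hz' => by
    ext a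
    rw [Perm.Ac.mem_MM, Perm.Ac.mem_MM]
    exact ⟨fun h => hc _ _ _ hz h (Perm.Ac.mem_MM.1 hz').symm, fun h => hc _ _ _ hx h (Perm.Ac.mem_MM.1 hz')⟩
  refine hg (Transfer.mem_normalizer_iff_cj.2 ?_)
  have h2 := he y h1 hy
  have h3 := he _ (Transfer.ElemC.conj_ne_one h1) hy'
  change Transfer.cj g (Perm.Ac.MM x) = Perm.Ac.MM x
  rw [← h2, Transfer.cj_centralizer_singleton]
  exact h3.trans h2.symm

end Cfsg.Agent.S4065
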