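import Cfsg.Statements.S4068
import Cfsg.Agent.Lib.Ez.C3
import Cfsg.Agent.S0494

set_option autoImplicit false
open Cfsg

namespace Cfsg.Agent.S4068

open Subgroup Cfsg.Agent.Comp Cfsg.Agent.Ez

/-- A finite non-solvable group on which its automorphism group has exactly four orbits is isomorphic to the alternating group of degree 5. -/
theorem result {G : Type*} [Group G] [Finite G] (hns : ¬ Group.IsSolvable G)
    (h4 : Nat.card (MulAction.orbitRel.Quotient (MulAut G) G) = 4) : Nonempty (G ≃* alternatingGroup (Fin 5)) := by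
  have h3 : 3 ≤ (Nat.card G).primeFactors.card :=
    not_le.1 (mt Solv.isSolvable_of_card_primeFactors_le_two hns)
  obtain ⟨h1, h2⟩ := (orb_of_card (G := G)).2 (by omega)
  have h5 : (Nat.card G).primeFactors.card ≤ 3 := by have := (orb_of_card (G := G)).1; omega
  have hc : ∀ x y : G, Commute x y → x ≠ 1 → y ≠ 1 → orderOf x = orderOf y := fun x y a b c => by
    by_contra e
    exact (eq_one_of_primePow_mul a ((Nat.coprime_primes ((h1 x).resolve_left b)
      ((h1 y).resolve_left c)).2 e) (((h1 _).resolve_left fun d => e (by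
        rw [eq_inv_of_mul_eq_one_left d, orderOf_inv])).isPrimePow)).elim b c
  have : Nontrivial G := by
    by_contra e
    have := not_nontrivial_iff_subsingleton.1 e
    exact hns inferInstance
  have : IsSimpleGroup G := ⟨fun N hN => or_iff_not_imp_left.2 fun e => by
    obtain ⟨M, a, b, c, d⟩ := Solv.exists_minimal_normal_le N e
    have h6 : 3 ≤ (Nat.card M).primeFactors.card := by
      by_contra e
      obtain ⟨-, p, hp, h7⟩ := Solv.minimal_normal_elementary M
        (Solv.isSolvable_of_card_primeFactors_le_two (by omega)) c d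
      have := Fact.mk hp
      obtain ⟨P⟩ : Nonempty (Sylow p G) := inferInstance
      have h8 := isPGroup_of_forall fun x hx => ⟨1, (pow_one p).symm ▸ h7 x hx⟩
      have := syl_normal_of_orb h1 h2 h8 c P
      refine hns (Solv.isSolvable_of_normal_of_quotient (P : Subgroup G) (have := P.2.isNilpotent;
        inferInstance) (Solv.isSolvable_of_card_primeFactors_le_two (Nat.le_of_lt_succ
          ((Finset.card_lt_card ⟨Nat.primeFactors_mono (P : Subgroup G).index_dvd_card Nat.card_pos.ne',
            fun e => P.not_dvd_index (Nat.dvd_of_mem_primeFactors (e (Nat.mem_primeFactors.2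
              ⟨hp, (dvd_card_of_isPGroup h8 c).trans (card_subgroup_dvd_card M), Nat.card_pos.ne'⟩)))⟩).trans_le
                h5))))
    have h7 : ∀ x : G, x ≠ 1 → ∃ y ∈ M, orderOf y = orderOf x := fun x hx => by
      have := Fact.mk ((h1 x).resolve_left hx)
      refine exists_mem_orderOf_eq (Nat.dvd_of_mem_primeFactors ((Finset.eq_of_subset_of_card_le
        (Nat.primeFactors_mono (card_subgroup_dvd_card M) Nat.card_pos.ne') (h5.trans h6)).ge
          (Nat.mem_primeFactors.2 ⟨this.1, orderOf_dvd_natCard x, Nat.card_pos.ne'⟩)))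
    refine eq_top_iff.2 fun x _ => a ?_
    by_cases hx : x = 1
    · exact hx ▸ one_mem _
    obtain ⟨y, y1, y2⟩ := h7 x hx
    obtain ⟨φ, rfl⟩ := h2 y x y2
    have := Normal.map b φ.toMonoidHom φ.surjective
    rcases d (M ⊓ M.map φ.toMonoidHom) inferInstance inf_le_left with f | f
    · obtain ⟨q, q1, q2⟩ := Finset.exists_mem_ne (Nat.lt_of_succ_lt h6) (orderOf (φ y))
      have q3 := Fact.mk (Nat.prime_of_mem_primeFactors q1)
      obtain ⟨z, z1, z2⟩ := exists_mem_orderOf_eq (Nat.dvd_of_mem_primeFactors q1)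
      exact absurd (z2.symm.trans (hc z _ (commute_of_normal_of_disjoint _ _ b this
        (disjoint_iff.2 f) z _ z1 (mem_map_of_mem _ y1)) (fun e => q3.1.one_lt.ne' (by
          rw [← z2, e, orderOf_one])) hx)) q2
    · exact (eq_of_le_of_card_ge (f.ge.trans inf_le_right) (card_map_of_injective φ.injective).le).ge
        (mem_map_of_mem _ y1)⟩
  obtain ⟨n, hn, ⟨e⟩⟩ := psl_of_ac (G := G) (fun e => hns (isSolvable_of_comm e.1.1)) fun t ht a b c d => by
    have : ∀ a, Commute a t → a * a = 1 := fun a c => by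
      by_cases e : a = 1
      exacts [by simp [e], mul_self_of_ord ((hc a t c e (ne_one_of_ord ht)).trans ht)]
    exact commute_of_mul_selfs (this a c) (this b d) (this _ (c.mul_left d))
  have := Fintype.ofFinite (GaloisField 2 n)
  have h := l2_of_equiv e
  rw [ringChar.eq _ 2, ← Nat.card_eq_fintype_card, GaloisField.card 2 n (by omega)] at h
  obtain ⟨n, rfl⟩ : ∃ m, n = m + 2 := ⟨n - 2, by omega⟩
  obtain ⟨r, hr⟩ : ∃ r, 2 ^ (n + 2) = 4 * r + 4 := ⟨2 ^ n - 1, by
    have := Nat.one_le_two_pow (n := n); rw [pow_add]; omega⟩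
  have h6 : ¬ 3 ∣ 4 * r + 4 := fun e => by
    have := Nat.prime_three.dvd_of_dvd_pow (hr ▸ e); omega
  rw [hr] at h
  have h7 : Nat.gcd 2 (4 * r + 4 - 1) = 1 := Nat.coprime_two_left.2 ⟨2 * r + 1, by omega⟩
  have h8 := h.card
  rw [h7, mul_one] at h8
  have key : ∀ m, m = 4 * r + 5 ∨ m = 4 * r + 3 → m.Prime := fun m hm => by
    obtain ⟨s, s1, s2⟩ := Nat.exists_prime_and_dvd (n := m) (by omega)
    have := Fact.mk s1
    obtain ⟨x, hx⟩ := exists_prime_orderOf_dvd_card' (G := G) s (s2.trans (by
      rw [h8]; rcases hm with rfl | rfl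
      exacts [(dvd_mul_left _ _).mul_right _, dvd_mul_left _ _]))
    have s3 : ¬ s ∣ 2 := fun e => by
      obtain rfl := (Nat.prime_dvd_prime_iff_eq s1 Nat.prime_two).1 e; omega
    obtain ⟨t, -, a, b, -⟩ := h.tor x fun e => s3 (hx ▸ orderOf_dvd_of_pow_eq_one e)
    rw [h7, mul_one] at a
    have s4 := hx ▸ orderOf_dvd_of_mem_zpowers b
    have s5 := (h1 t).resolve_left (by rintro rfl; simp at a)
    by_cases e : orderOf t = m
    · exact e ▸ s5
    refine absurd ?_ s3
    rcases hm with rfl | rfl
    · exact (Nat.dvd_add_right (show orderOf t = 4 * r + 3 by omega ▸ s4)).1 s2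
    · exact (Nat.dvd_add_right s2).1 (show orderOf t = 4 * r + 3 + 2 by omega ▸ s4)
  obtain rfl : r = 0 := by
    rcases (by rcases (by omega : r % 3 = 0 ∨ r % 3 = 1 ∨ r % 3 = 2) with a | a | a <;> omega :
      3 ∣ 4 * r + 5 ∨ 3 ∣ 4 * r + 3) with a | a
    · have := (Nat.prime_dvd_prime_iff_eq Nat.prime_three (key _ (.inl rfl))).1 a; omega
    · have := (Nat.prime_dvd_prime_iff_eq Nat.prime_three (key _ (.inr rfl))).1 a; omega
  exact S0494.result h8

end Cfsg.Agent.S4068
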