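import Cfsg.Statements.S4071
import Cfsg.Agent.Lib.BG.MinNA

set_option autoImplicit false
open Cfsg

namespace Cfsg.Agent.S4071

/-- Let G be a finite solvable non-nilpotent group. Every non-abelian subgroup of G is self-normalizing if and only if G is a semidirect product ⟨x⟩ ⋉ A in which ⟨x⟩ is a p-group for some prime p, A is a normal abelian subgroup of order prime to p, x^p is central in G, and x acts fixed-point-freely on A (no non-identity element of A commutes with x). -/
theorem result {G : Type*} [Group G] [Finite G]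
    [Group.IsSolvable G] (hnn : ¬ Group.IsNilpotent G) :
    (∀ H : Subgroup G, ¬ IsMulCommutative H → Subgroup.normalizer (H : Set G) = H) ↔
    ∃ (x : G) (A : Subgroup G) (p : ℕ), p.Prime ∧ A.Normal ∧ IsMulCommutative A ∧ (∃ k : ℕ, orderOf x = p ^ k) ∧
      ¬ p ∣ Nat.card A ∧ (Subgroup.zpowers x).IsComplement' A ∧ x ^ p ∈ Subgroup.center G ∧
      ∀ a : G, a ∈ A → a ≠ 1 → x * a * x⁻¹ ≠ a := by
  open Pointwise commutatorElement Subgroup in
  open Cfsg.Agent.Comp Cfsg.Agent.BG Subgroup commutatorElement in
  constructor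
  · intro h
    haveI : Nontrivial G := by
      by_contra hh
      rw [not_nontrivial_iff_subsingleton] at hh
      exact hnn inferInstance
    obtain ⟨M, hM, hM1⟩ := Solv.exists_coatom_ge (Group.IsSolvable.commutator_lt_top_of_nontrivial G).ne
    haveI hMn : M.Normal := Subgroup.Normal.of_commutator_le G hM1
    have hMc : IsMulCommutative M := by
      by_contra hh
      exact hM.1 ((h M hh).symm.trans (normalizer_eq_top M))
    have hMC : M ≤ Ct(M) := le_centralizer M
    have hpi := Solv.index_prime_of_coatom_normal hM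
    obtain ⟨g, hg⟩ : ∃ g, g ∉ M := by
      by_contra hh
      push_neg at hh
      exact hM.1 (eq_top_iff.2 fun x _ => hh x)
    obtain ⟨p, hp, -, x, -, hx, hxM⟩ := Solv.exists_prime_pow_notMem hg
    haveI : Fact p.Prime := ⟨hp⟩
    obtain ⟨k, hk⟩ := IsPGroup.iff_card.1 hx
    have hk' : orderOf x = p ^ k := by rw [← hk, Nat.card_zpowers]
    have hxp : x ^ p ∈ M := by
      by_cases e : M.index = p
      · rw [← e]; exact M.pow_index_mem x
      · exfalso
        have hc : (orderOf x).Coprime M.index := by
          rw [hk']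
          exact ((Nat.coprime_primes hp hpi).2 (Ne.symm e)).pow_left _
        apply hxM
        have : x ∈ zpowers (x ^ M.index) := mem_zpowers_pow_iff.2 hc.symm
        exact (zpowers_le.2 (M.pow_index_mem x)) this
    have hnil : Group.IsNilpotent M := Solv.isNilpotent_of_isMulCommutative hMc
    have hQA := Op_sup_Opp_of_isNilpotent (p := p) hnil
    set Q := Op p M
    set A := Opp p M
    have hAM : A ≤ M := Opp_le p M
    have hQM : Q ≤ M := Op_le p M
    haveI hAn : A.Normal := normalizer_eq_top_iff.1 (eq_top_iff.2 (le_normalizer_Opp le_normalizer_of_normal))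
    haveI hQn : Q.Normal := normalizer_eq_top_iff.1 (eq_top_iff.2 (le_normalizer_Op le_normalizer_of_normal))
    have hAc : (Nat.card A).Coprime p := coprime_Opp p M
    have hcop : (Nat.card (zpowers x)).Coprime (Nat.card A) := by
      rw [hk]; exact (hAc.symm).pow_left _
    have hAab : IsMulCommutative A := Solv.isMulCommutative_of_le hAM hMc
    have hP : IsPGroup p (Q ⊔ zpowers x : Subgroup G) := IsPGroup.to_sup_of_normal_left (isPGroup_Op p M) hx
    have htop : A ⊔ (Q ⊔ zpowers x) = ⊤ := by
      rw [← sup_assoc, sup_comm A, hQA]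
      exact Solv.sup_eq_top_of_not_le_coatom hM (by rwa [zpowers_le])
    set B := ⁅A, zpowers x⁆ with hB
    have hBA : B ≤ A := commutator_le_left _ _
    have hB0 : B ≠ ⊥ := by
      intro e
      rw [hB, Subgroup.commutator_eq_bot_iff_le_centralizer] at e
      have h1 : A ≤ Ct((Q ⊔ zpowers x : Subgroup G)) := by
        rw [Subgroup.le_centralizer_iff, sup_le_iff]
        exact ⟨hQM.trans (hMC.trans (centralizer_le hAM)), Subgroup.le_centralizer_iff.1 e⟩
      have h2 := Solv.isNilpotent_sup (Solv.isNilpotent_of_isMulCommutative hAab) hP.isNilpotent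
        (h1.trans (centralizer_le_normalizer _)) le_normalizer_of_normal
      rw [htop] at h2
      exact hnn (Group.nilpotent_of_mulEquiv Subgroup.topEquiv)
    have hBB : ⁅B, zpowers x⁆ = B := commutator_commutator_eq le_normalizer_of_normal hcop (Or.inr inferInstance)
    set H := zpowers x ⊔ B with hH
    have hHn : Nm(H) = H := by
      apply h
      intro hc
      apply hB0
      rw [← hBB, Subgroup.commutator_eq_bot_iff_le_centralizer]
      exact le_sup_right.trans ((le_centralizer H).trans (centralizer_le (show zpowers x ≤ H from le_sup_left)))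
    have hAH : A ≤ H := by
      rw [← hHn]
      intro a ha
      refine Comp.mem_normalizer_of_conj_mem ?_
      suffices hs : H.map (MulAut.conj a).toMonoidHom ≤ H from fun k hk => hs ⟨k, hk, rfl⟩
      conv_lhs => rw [hH]
      rw [Subgroup.map_sup, sup_le_iff]
      constructor
      · rw [MonoidHom.map_zpowers, zpowers_le]
        have : (MulAut.conj a).toMonoidHom x = ⁅a, x⁆ * x := by
          simp [commutatorElement_def]
        rw [this]
        exact mul_mem (mem_sup_right (commutator_mem_commutator ha (mem_zpowers x))) (mem_sup_left (mem_zpowers x))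
      · rintro _ ⟨b, hb, rfl⟩
        have : (MulAut.conj a).toMonoidHom b = b := by
          have := hMC (hAM (hBA hb)) a (hAM ha)
          simp [this]
        rw [this]; exact mem_sup_right hb
    have hAB : A = B := by
      have := Solv.dedekind (A := B) (B := zpowers x) (C := A) hBA (by
        rw [le_normalizer_iff_commutator_le_left, hBB])
      rw [Subgroup.inf_eq_bot_of_coprime hcop, sup_bot_eq, sup_comm, ← hH, inf_eq_right.2 hAH] at this
      exact this
    have hH2 : H = zpowers x ⊔ A := by rw [hH, ← hAB]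
    have hPH : Q ⊔ zpowers x ≤ H := by
      by_contra hn
      have h1 : (Q ⊔ zpowers x) ⊓ H < Q ⊔ zpowers x := lt_of_le_of_ne inf_le_left fun e => hn (e.ge.trans inf_le_right)
      have h2 := Comp.lt_inf_normalizer_of_isPGroup hP h1
      obtain ⟨y, hy, hy2⟩ := SetLike.exists_of_lt h2
      apply hy2
      refine ⟨hy.1, ?_⟩
      have e : H = ((Q ⊔ zpowers x) ⊓ H) ⊔ A := by
        apply le_antisymm
        · conv_lhs => rw [hH2]
          exact sup_le_sup_right (le_inf le_sup_right le_sup_left) _
        · exact sup_le inf_le_right hAH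
      rw [← hHn, e]
      exact le_normalizer_sup (A := zpowers y) (zpowers_le.2 hy.2) le_normalizer_of_normal (mem_zpowers y)
    have hT : zpowers x ⊔ A = ⊤ := by
      rw [← hH2, eq_top_iff, ← htop]
      exact sup_le hAH hPH
    refine ⟨x, A, p, hp, hAn, hAab, ⟨k, hk'⟩, (Nat.Prime.coprime_iff_not_dvd hp).1 hAc.symm, ?_, ?_, ?_⟩
    · exact (Solv.isComplement'_of_inf_eq_bot_of_sup_eq_top (Subgroup.inf_eq_bot_of_coprime hcop.symm)
        (by rwa [sup_comm])).symm
    · have : (⊤ : Subgroup G) ≤ C1(x ^ p) := by
        rw [← hT, sup_le_iff, zpowers_le]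
        refine ⟨mem_centralizer_singleton_iff.2 (Commute.self_pow x p).eq, fun a ha => ?_⟩
        exact mem_centralizer_singleton_iff.2 (hMC hxp a (hAM ha))
      rw [mem_center_iff]
      intro g
      exact mem_centralizer_singleton_iff.1 (this (mem_top g))
    · intro a ha h1 e
      have := commutator_inf_Ct_of_comm hAab (A := zpowers x) le_normalizer_of_normal hcop
      rw [← hB, ← hAB] at this
      apply h1
      rw [← mem_bot, ← this]
      refine ⟨ha, ?_⟩
      have : zpowers x ≤ C1(a) := zpowers_le.2 (mem_centralizer_singleton_iff.2 (by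
        calc x * a = x * a * x⁻¹ * x := by group
          _ = a * x := by rw [e]))
      intro y hy
      exact mem_centralizer_singleton_iff.1 (this hy)
  · rintro ⟨x, A, p, hp, hAn, hAab, ⟨k, hk⟩, hpA, hcomp, hcen, hf⟩ H hH
    have hAC : A ≤ Ct(A) := le_centralizer A
    have hT : IsMulCommutative (A ⊔ zpowers (x ^ p) : Subgroup G) := by
      have h1 : zpowers (x ^ p) ≤ center G := zpowers_le.2 hcen
      rw [← Subgroup.le_centralizer_iff_isMulCommutative, sup_le_iff]
      refine ⟨?_, h1.trans (Subgroup.center_le_centralizer _)⟩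
      rw [Subgroup.le_centralizer_iff, sup_le_iff]
      exact ⟨hAC, h1.trans (Subgroup.center_le_centralizer _)⟩
    obtain ⟨h, hh, hhT⟩ : ∃ h ∈ H, h ∉ A ⊔ zpowers (x ^ p) := by
      by_contra hn
      push_neg at hn
      exact hH (Solv.isMulCommutative_of_le hn hT)
    have hx : x ∈ zpowers h ⊔ A := by
      obtain ⟨⟨⟨_, j, rfl⟩, a⟩, e⟩ := hcomp.2 h
      have e' : x ^ j * (a : G) = h := e
      have h1 : x ^ j ∈ zpowers h ⊔ A := by
        have : x ^ j = h * (a : G)⁻¹ := by rw [← e']; group
        rw [this]
        exact mul_mem (mem_sup_left (mem_zpowers h)) (mem_sup_right (inv_mem a.2))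
      have h2 : ¬ (p : ℤ) ∣ j := by
        rintro ⟨c, rfl⟩
        apply hhT
        rw [← e', zpow_mul, zpow_natCast]
        exact mul_mem (mem_sup_right (zpow_mem (mem_zpowers _) _)) (mem_sup_left a.2)
      have h3 : x ∈ zpowers (x ^ j) := by
        rw [mem_zpowers_zpow_iff, hk]
        have : IsCoprime (p : ℤ) j := (Irreducible.coprime_iff_not_dvd (Nat.prime_iff_prime_int.1 hp).irreducible).2 h2
        rw [← Int.isCoprime_iff_gcd_eq_one]
        push_cast
        exact this.symm.pow_right
      exact zpowers_le.2 h1 h3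
    have hfp : A ⊓ C1(h) = ⊥ := by
      rw [eq_bot_iff]
      rintro a ⟨ha, hc⟩
      by_contra h1
      apply hf a ha h1
      have : zpowers h ⊔ A ≤ C1(a) := by
        rw [sup_le_iff, zpowers_le]
        exact ⟨mem_centralizer_singleton_iff.2 (mem_centralizer_singleton_iff.1 hc).symm,
          fun b hb => mem_centralizer_singleton_iff.2 (hAC ha b hb)⟩
      rw [mem_centralizer_singleton_iff.1 (this hx)]; group
    have htop : H ⊔ A = ⊤ := by
      rw [eq_top_iff, ← hcomp.sup_eq_top, sup_le_iff, zpowers_le]
      exact ⟨sup_le_sup_right (zpowers_le.2 hh) _ hx, le_sup_right⟩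
    refine le_antisymm (fun g hg => ?_) le_normalizer
    have hg2 : g ∈ H ⊔ A := htop ▸ mem_top g
    rw [← SetLike.mem_coe, Subgroup.mul_normal] at hg2
    obtain ⟨y, hy, a, ha, rfl⟩ := hg2
    have ha2 : a ∈ Nm(H) := by
      have := mul_mem (inv_mem (le_normalizer hy)) hg
      simpa using this
    have hk2 : ⁅a, h⁆ ∈ H ⊓ A := by
      constructor
      · rw [commutatorElement_def]
        exact H.mul_mem ((mem_normalizer_iff.1 ha2 h).1 hh) (H.inv_mem hh)
      · rw [commutatorElement_def, mul_assoc, mul_assoc, ← mul_assoc h]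
        exact A.mul_mem ha (hAn.conj_mem _ (A.inv_mem ha) h)
    obtain ⟨b, hb, e⟩ := Solv.exists_conj_eq_mul_of_fpf (K := H ⊓ A) (h := h)
      (Comp.le_normalizer_inf (A := H) le_normalizer le_normalizer_of_normal hh)
      (eq_bot_iff.2 (hfp ▸ inf_le_inf_right _ inf_le_right)) hk2
    have : b⁻¹ * a ∈ A ⊓ C1(h) := by
      refine ⟨A.mul_mem (A.inv_mem hb.2) ha, mem_centralizer_singleton_iff.2 ?_⟩
      calc b⁻¹ * a * h = b⁻¹ * (⁅a, h⁆ * h) * a := by rw [commutatorElement_def]; group
        _ = h * (b⁻¹ * a) := by rw [← e]; group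
    rw [hfp, mem_bot, inv_mul_eq_one] at this
    exact mul_mem hy (this ▸ hb.1)

end Cfsg.Agent.S4071
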