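import Cfsg.Statements.S4072
import Cfsg.Agent.Lib.BG.MinNA

set_option autoImplicit false
open Cfsg

namespace Cfsg.Agent.S4072
section
open Pointwise commutatorElement Subgroup
open Cfsg.Agent.Comp Cfsg.Agent.BG Subgroup commutatorElement in
theorem fin {G : Type*} [Group G] [Finite G] (h : ∀ K : Subgroup G, K.Normal → K ≠ ⊤ → IsMulCommutative K) (N : Subgroup G)
    [N.Normal] {p : ℕ} [Fact p.Prime] (P : Sylow p (G ⧸ N)) (h0 : (P : Subgroup (G ⧸ N)) ≠ ⊥)
    (h1 : Nm((P : Subgroup (G ⧸ N))) ≤ Ct((P : Subgroup (G ⧸ N)))) : Group.IsSolvable G := by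
  obtain ⟨K, k1, k2⟩ := (Transfer.hasNPC_iff_sylow P).1 (Transfer.hasNPC_of_normalizer_le_centralizer P h1)
  have k3 : K.comap (QuotientGroup.mk' N) ≠ ⊤ := fun e => h0 (by
    have : K = ⊤ := by
      rw [← map_comap_eq_self_of_surjective (QuotientGroup.mk'_surjective N) K, e,
        map_top_of_surjective _ (QuotientGroup.mk'_surjective N)]
    have k4 := k2.disjoint
    rw [this] at k4
    exact top_disjoint.1 k4)
  haveI := h _ inferInstance k3
  haveI : Group.IsSolvable (K.comap (QuotientGroup.mk' N)) := isSolvable_of_comm fun a b => this.is_comm.comm a b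
  have k5 : IsPGroup p (G ⧸ K.comap (QuotientGroup.mk' N)) := by
    obtain ⟨n, hn⟩ := IsPGroup.iff_card.1 P.isPGroup'
    refine IsPGroup.of_card (n := n) ?_
    rw [← index_eq_card, index_comap_of_surjective _ (QuotientGroup.mk'_surjective N), k2.symm.index_eq_card, hn]
  haveI := k5.isNilpotent
  exact solvable_of_ker_le_range (K.comap (QuotientGroup.mk' N)).subtype (QuotientGroup.mk' (K.comap (QuotientGroup.mk' N)))
    (by rw [QuotientGroup.ker_mk', range_subtype])
end

/-- A finite group in which every non-abelian subgroup is self-normalizing is solvable or simple. -/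
theorem result {G : Type*} [Group G] [Finite G] (hS : ∀ H : Subgroup G, ¬ IsMulCommutative H → Subgroup.normalizer (H : Set G) = H) :
    Group.IsSolvable G ∨ IsSimpleGroup G := by
  open Pointwise commutatorElement Subgroup in
  open Cfsg.Agent.Comp Cfsg.Agent.BG Subgroup commutatorElement in
  by_contra hn
  push Not at hn
  obtain ⟨hs, hsim⟩ := hn
  have h : ∀ K : Subgroup G, K.Normal → K ≠ ⊤ → IsMulCommutative K := fun K k1 k2 => by
    by_contra e
    exact k2 ((hS K e).symm.trans (normalizer_eq_top K))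
  have hq : ∀ (N : Subgroup G) [N.Normal] (H : Subgroup (G ⧸ N)), ¬ IsMulCommutative (H.comap (QuotientGroup.mk' N)) →
      Nm(H) = H := fun N _ H e => by
    refine comap_injective (QuotientGroup.mk'_surjective N) ?_
    rw [comap_normalizer_eq_of_surjective _ (QuotientGroup.mk'_surjective N), hS _ e]
  have hnt : Nontrivial G := by
    by_contra e
    haveI := not_nontrivial_iff_subsingleton.1 e
    exact hs inferInstance
  have hper : _root_.commutator G = ⊤ := by
    by_contra e
    haveI := h _ inferInstance e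
    haveI : Group.IsSolvable (_root_.commutator G) := isSolvable_of_comm fun a b => this.is_comm.comm a b
    exact hs (solvable_of_ker_le_range (_root_.commutator G).subtype (Abelianization.of (G := G))
      (by rw [Abelianization.ker_of, range_subtype]))
  obtain ⟨N0, n1, n2, n3⟩ : ∃ N : Subgroup G, N.Normal ∧ N ≠ ⊥ ∧ N ≠ ⊤ := by
    by_contra e
    push Not at e
    exact hsim ⟨fun N hN => or_iff_not_imp_left.2 (e N hN)⟩
  obtain ⟨N, -, ⟨m1, m2, m3⟩, hmax⟩ := Finite.exists_le_maximal (a := N0) (p := fun N : Subgroup G => N.Normal ∧ N ≠ ⊥ ∧ N ≠ ⊤) ⟨n1, n2, n3⟩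
  have c1 : N ≤ Ct(N) := le_centralizer_iff_isMulCommutative.2 (h N m1 m3)
  by_cases hc : Ct(N) = ⊤
  · obtain ⟨p, hp, hd⟩ := Nat.exists_prime_and_dvd (mt card_eq_one.1 m2)
    haveI := Fact.mk hp
    obtain ⟨P⟩ : Nonempty (Sylow p G) := inferInstance
    have z1 : N ≤ center G := fun x hx => mem_center_iff.2 fun g => ((hc ▸ mem_top g : g ∈ Ct(N)) x hx).symm
    obtain ⟨z, hz⟩ := exists_prime_orderOf_dvd_card' p hd
    have z2 : orderOf (z : G) = p := by rw [← hz, orderOf_coe]
    have z3 : (z : G) ∈ (P : Subgroup G) := by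
      have : IsPGroup p (zpowers (z : G)) := IsPGroup.of_card (n := 1) (by rw [Nat.card_zpowers, z2, pow_one])
      exact (Solv.isSylowIn_top P).le_of_le_normalizer' this le_top
        ((zpowers_le.2 (z1 z.2)).trans (center_le_normalizer _)) (mem_zpowers _)
    have z4 := MinNA.pow_index_mem_der z3 (z1 z.2) (hper ▸ mem_top _)
    have z5 : (z : G) ^ (P : Subgroup G).index ≠ 1 := fun e =>
      P.not_dvd_index (z2.symm.dvd.trans (orderOf_dvd_of_pow_eq_one e))
    have p1 : ¬ IsMulCommutative P := fun e => z5 (by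
      rwa [commutator_self_eq_bot_iff.2 e, mem_bot] at z4)
    have p2 := hS _ p1
    have p3 : N ≤ P := z1.trans ((center_le_normalizer _).trans p2.le)
    obtain ⟨c, e1, e2⟩ := MinNA.der_le P.isPGroup' fun H hH => by
      by_contra e
      have e' : ¬ IsMulCommutative (H.map (P : Subgroup G).subtype) := fun e' => e (by
        refine Solv.isMulCommutative_iff.2 fun a ha b hb => Subtype.ext ?_
        exact Solv.isMulCommutative_iff.1 e' _ ⟨a, ha, rfl⟩ _ ⟨b, hb, rfl⟩)
      haveI := P.isPGroup'.isNilpotent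
      obtain ⟨x, x1, x2⟩ := SetLike.exists_of_lt (normalizerCondition_of_isNilpotent H (lt_top_iff_ne_top.2 hH))
      have := le_normalizer_map (P : Subgroup G).subtype ⟨x, x1, rfl⟩
      rw [hS _ e'] at this
      obtain ⟨y, y1, y2⟩ := this
      exact x2 ((Subtype.ext y2 : y = x) ▸ y1)
    have e3 : ⁅(P : Subgroup G), (P : Subgroup G)⁆ ≤ zpowers (c : G) := by
      rw [← map_subtype_commutator]
      exact (map_mono e2).trans (by rw [MonoidHom.map_zpowers]; exact le_rfl)
    have e4 : zpowers (c : G) ≤ N := by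
      have a1 : zpowers ((z : G) ^ (P : Subgroup G).index) ≤ zpowers (c : G) := zpowers_le.2 (e3 z4)
      have a2 : Nat.card (zpowers (c : G)) ∣ p := by
        rw [Nat.card_zpowers]; exact orderOf_dvd_of_pow_eq_one (by exact_mod_cast congrArg Subtype.val e1)
      have a3 : Nat.card (zpowers ((z : G) ^ (P : Subgroup G).index)) = p := by
        refine ((Nat.dvd_prime hp).1 ((card_dvd_of_le a1).trans a2)).resolve_left ?_
        rw [card_eq_one, zpowers_eq_bot]; exact z5
      rw [← eq_of_le_of_card_ge a1 ((Nat.le_of_dvd hp.pos a2).trans a3.ge)]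
      exact zpowers_le.2 (pow_mem z.2 _)
    have e5 : ((P : Subgroup G).map (QuotientGroup.mk' N)).comap (QuotientGroup.mk' N) = P := by
      rw [comap_map_eq, QuotientGroup.ker_mk', sup_eq_left.2 p3]
    refine hs (fin h N (P.mapSurjective (QuotientGroup.mk'_surjective N)) ?_ ?_)
    · intro e
      rw [Sylow.coe_mapSurjective, Subgroup.map_eq_bot_iff, QuotientGroup.ker_mk'] at e
      exact p1 (le_centralizer_iff_isMulCommutative.1 ((e.trans z1).trans (Subgroup.center_le_centralizer _)))
    · rw [Sylow.coe_mapSurjective, hq N _ (e5.symm ▸ p1), le_centralizer_iff_isMulCommutative,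
        ← commutator_self_eq_bot_iff, ← Subgroup.map_commutator, Subgroup.map_eq_bot_iff, QuotientGroup.ker_mk']
      exact e3.trans e4
  · have c2 : Ct(N) ≤ N := hmax ⟨inferInstance, fun e => m2 (le_bot_iff.1 (e ▸ c1)), hc⟩ c1
    have c3 : ∀ H : Subgroup (G ⧸ N), H ≠ ⊥ → Nm(H) = H := fun H hH => hq N H fun e => hH (by
      have a1 : N ≤ H.comap (QuotientGroup.mk' N) := fun x hx => by
        rw [mem_comap, QuotientGroup.mk'_apply, (QuotientGroup.eq_one_iff x).2 hx]; exact one_mem _
      have a2 : H.comap (QuotientGroup.mk' N) ≤ N :=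
        ((le_centralizer_iff_isMulCommutative.2 e).trans (centralizer_le a1)).trans c2
      rw [← map_comap_eq_self_of_surjective (QuotientGroup.mk'_surjective N) H, Subgroup.map_eq_bot_iff, QuotientGroup.ker_mk']
      exact a2)
    obtain ⟨p, hp, hd⟩ := Nat.exists_prime_and_dvd (mt index_eq_one.1 m3)
    haveI := Fact.mk hp
    obtain ⟨P⟩ : Nonempty (Sylow p (G ⧸ N)) := inferInstance
    have p0 : (P : Subgroup (G ⧸ N)) ≠ ⊥ := P.ne_bot_of_dvd_card hd
    haveI := (nontrivial_iff_ne_bot _).2 p0
    haveI := P.isPGroup'.center_nontrivial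
    obtain ⟨⟨x, x1⟩, x2⟩ := exists_ne (1 : center (P : Subgroup (G ⧸ N)))
    have x3 : zpowers (x : G ⧸ N) ≠ ⊥ := fun e => x2 (Subtype.ext (Subtype.ext (zpowers_eq_bot.1 e)))
    have x4 : (P : Subgroup (G ⧸ N)) ≤ zpowers (x : G ⧸ N) := by
      rw [← c3 _ x3]
      refine le_trans (fun g hg => ?_) (centralizer_le_normalizer _)
      rw [Solv.centralizer_zpowers, mem_centralizer_singleton_iff]
      exact congrArg Subtype.val (mem_center_iff.1 x1 ⟨g, hg⟩)
    refine hs (fin h N P p0 ?_)
    rw [c3 _ p0]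
    exact x4.trans ((le_centralizer_iff_isMulCommutative.2 inferInstance).trans (centralizer_le x4))

end Cfsg.Agent.S4072
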