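import Cfsg.Statements.S4073
import Cfsg.Agent.Lib.Ez.B1
import Cfsg.Agent.Lib.MS.Aux15
import Cfsg.Agent.Lib.FT.TI

set_option autoImplicit false
open Cfsg

namespace Cfsg.Agent.S4073

open Subgroup Cfsg.Agent.Comp Cfsg.Agent.Ez Cfsg.Agent.Perm.GL2
open scoped commutatorElement

/-- Non-abelian subgroups are self-normalizing. -/
def SN (G : Type*) [Group G] : Prop :=
  ∀ H : Subgroup G, ¬ IsMulCommutative H → normalizer (H : Set G) ≤ H

theorem SN.of_equiv {G G' : Type*} [Group G] [Group G'] (e : G ≃* G') (h : SN G') : SN G := by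
  intro H hH
  refine (map_le_map_iff_of_injective (f := e.toMonoidHom) e.injective).1
    ((map_le_normalizer_map _ le_rfl).trans (h _ fun c => hH ⟨⟨fun a b => Subtype.ext (e.injective ?_)⟩⟩))
  rw [coe_mul, coe_mul, map_mul, map_mul]
  exact congrArg Subtype.val (c.is_comm.comm ⟨e a, mem_map_of_mem _ a.2⟩ ⟨e b, mem_map_of_mem _ b.2⟩)

variable {G : Type*} [Group G] [Finite G]

theorem SN.ab (h : SN G) {X M : Subgroup G} (h1 : M ≤ normalizer (X : Set G)) (h2 : ¬ M ≤ X) :
    ∀ a ∈ X, ∀ b ∈ X, a * b = b * a := fun a ha b hb => congrArg Subtype.val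
  ((by_contra fun e => h2 (h1.trans (h X e)) : IsMulCommutative X).is_comm.comm ⟨a, ha⟩ ⟨b, hb⟩)

theorem SN.syl [IsSimpleGroup G] (h : SN G) (hna : ¬ IsMulCommutative G) (S : Sylow 2 G) :
    IsMulCommutative S := by
  by_contra h0
  refine not_npc_of_simple hna (Transfer.npc_ess S fun B hB hC ⟨g, hg, ho, h1⟩ => ?_)
  have h2 : IsMulCommutative B := by_contra fun e => by
    obtain ⟨k, hk⟩ := (IsPGroup.iff_orderOf.1 (S.isPGroup'.to_le hB)) ⟨g, h B e hg⟩
    rw [orderOf_mk] at hk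
    exact h1 (orderOf_eq_one_iff.1 (((Nat.coprime_two_right.2 ho).pow_right k).eq_one_of_dvd hk.dvd) ▸
      one_mem _)
  have h3 : ∀ W, B < W → W ≤ S → W = S := fun W a b => by_contra fun c => a.not_ge
    ((le_inf b (b := centralizer (B : Set G)) fun w hw x hx => h.ab inf_le_right (lt_inf_normalizer_of_isPGroup S.isPGroup'
      (lt_of_le_of_ne b c)).not_ge x (a.le hx) w hw).trans hC)
  have h4 : B < S := lt_of_le_of_ne hB fun e => h0 (e ▸ h2)
  have h5 : (S : Subgroup G) ≤ normalizer (B : Set G) :=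
    (h3 _ (lt_inf_normalizer_of_isPGroup S.isPGroup' h4) inf_le_left).ge.trans inf_le_right
  have h6 : B.relIndex S = 2 := by
    obtain ⟨s, a, b, c⟩ := exists_sq_mem_not_mem S.isPGroup' h4.not_ge
    rw [← h3 _ (left_lt_sup.2 (mt zpowers_le.1 b)) (sup_le hB (zpowers_le.2 a)),
      Transfer.relIndex_sup_zpowers (h5 a) c b]
  have h7 := centralizer_le_normalizer (B : Set G)
  have h8 := normalizer_le_normalizer_centralizer B
  obtain ⟨X, a, b, c⟩ := exists_relIndex_two h7 h8 (by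
    rw [← relIndex_mul_relIndex _ _ _ le_sup_right (sup_le h5 h7), relIndex_sup_of_le_normalizer
      (h5.trans h8), ← inf_relIndex_left, le_antisymm hC (le_inf hB (le_centralizer_iff_isMulCommutative.2 h2)), h6]
    have := (sylIn_of_sylow_le S h5).not_dvd_relIndex_of_le le_sup_left (sup_le h5 h7)
    omega)
  have d := (normal_subgroupOf_iff_le_normalizer b).1 (normal_of_index_eq_two c)
  exact h1 fun x hx => h.ab d (fun e => by rw [relIndex_eq_one.2 e] at c; omega) x
    (a (le_centralizer_iff_isMulCommutative.2 h2 hx)) g (le_of_coprime_relIndex b (zpowers_le.2 hg)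
      ((zpowers_le.2 hg).trans d) (by rw [c, Nat.card_zpowers]; exact Nat.coprime_two_right.2 ho)
      (mem_zpowers g))

theorem SN.ac [IsSimpleGroup G] (h : SN G) (hna : ¬ IsMulCommutative G) {t : G} (ht : orderOf t = 2) :
    IsMulCommutative (centralizer ({t} : Set G)) := by
  obtain ⟨S, hS⟩ := (isPGroup_zpowers_of_orderOf_eq (p := 2) ht).exists_le_sylow
  have h1 := h.syl hna S
  have h2 := hS (mem_zpowers t)
  have h3 : ∀ a ∈ (S : Subgroup G), ∀ b ∈ (S : Subgroup G), a * b = b * a := fun a ha b hb =>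
    congrArg Subtype.val (h1.is_comm.comm ⟨a, ha⟩ ⟨b, hb⟩)
  set C := centralizer ({t} : Set G)
  have h4 := sylIn_of_sylow_le S (M := C) fun s hs => mem_C1.2 (h3 t h2 s hs)
  have h5 : ¬ C ≤ ⁅C, C⁆ ⊔ Res 2 C := fun e => ne_one_of_ord ht (mem_bot.1
    ((Transfer.ab_syl_decomp h4.toSyl h1).2.le ⟨(Transfer.ab_syl_focal h4.toSyl h1).le
      ⟨h2, BG.res_eq (p := 2) C ▸ e (mem_C1.2 rfl)⟩, fun g hg => (mem_C1.1 hg.1).symm⟩))
  have h6 : C ≤ normalizer (Res 2 C : Set G) := le_normalizer_ResPi le_normalizer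
  have h7 : IsMulCommutative (Res 2 C) := ⟨⟨fun a b => Subtype.ext
    (h.ab h6 (fun e => h5 (e.trans le_sup_right)) a a.2 b b.2)⟩⟩
  have h8 : (Nat.card (Res 2 C)).Coprime 2 := (coprime_Opp 2 _).coprime_dvd_left (card_dvd_of_le
    (Res_le_of_forall_coprime fun Q a b => le_Opp_of_isNilpotent (MS.nil_of_ab h7) (le_Res a b) b))
  rw [← h4.Res_sup]
  refine MS.ab_sup h7 h1 fun x hx y hy => h.ab (X := Res 2 C ⊔ zpowers y) (M := C) ?_ (fun e => ?_)
    y (mem_sup_right (mem_zpowers y)) x (mem_sup_left hx)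
  · refine h4.Res_sup.ge.trans (sup_le (le_sup_left.trans le_normalizer) (le_normalizer_sup
      (h4.le.trans h6) (le_trans (fun s hs => ?_) (centralizer_le_normalizer _))))
    rw [centralizer_zpowers]
    exact mem_C1.2 (h3 y hy s hs)
  have := (sylIn_of_not_dvd le_sup_right (S.isPGroup'.to_le (zpowers_le.2 hy)) (M := Res 2 C ⊔ zpowers y)
    fun d => by
      rw [sup_comm] at d
      exact Nat.Prime.one_lt Nat.prime_two |>.ne' (Nat.eq_one_of_dvd_coprimes h8.symm dvd_rfl
        (d.trans (relIndex_sup_dvd_card ((zpowers_le.2 hy).trans (h4.le.trans h6)))))).max S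
    S.isPGroup' (zpowers_le.2 hy) (h4.le.trans e)
  exact not_npc_of_simple hna (Transfer.hasNPC_two_of_isCyclic S (this ▸ inferInstance))

variable {F : Type*} [Field F] [Fintype F]

theorem prime_of_sn (h2 : (2 : F) = 0) (h3 : 2 < Fintype.card F) (h : SN (SL2 F)) :
    (Fintype.card F - 1).Prime := by
  classical
  obtain ⟨r, hr, m, hm⟩ := Nat.exists_prime_and_dvd (n := Fintype.card F - 1) (by omega)
  obtain ⟨g, hg⟩ := IsCyclic.exists_ofOrder_eq_natCard (α := Fˣ)
  rw [Nat.card_eq_fintype_card, Fintype.card_units] at hg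
  let H : Subgroup (SL2 F) :=
    { carrier := {x | ∃ a b, a ^ r = 1 ∧ x = upS a b}
      one_mem' := ⟨1, 0, one_pow r, upS_one.symm⟩
      mul_mem' := by
        rintro _ _ ⟨a, b, c, rfl⟩ ⟨a', b', c', rfl⟩
        exact ⟨_, _, by rw [mul_pow, c, c', one_mul], upS_mul a a' b b'⟩
      inv_mem' := by
        rintro _ ⟨a, b, c, rfl⟩
        exact ⟨_, _, by rw [inv_pow, c, inv_one], upS_inv a b⟩ }
  have h4 : (g ^ m) ^ r = 1 := by rw [← pow_mul, mul_comm, ← hm, ← hg, pow_orderOf_eq_one]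
  suffices h0 : ¬ IsMulCommutative H by
    obtain ⟨a, b, c, d⟩ := h H h0 (x := upS g 0) (mem_normalizer_of_conj_mem (by
      rintro _ ⟨a, b, c, rfl⟩
      exact ⟨a, _, c, by rw [upS_inv, upS_mul, upS_mul, mul_right_comm, mul_inv_cancel, one_mul]⟩))
    rw [← (upS_inj.1 d).1, ← orderOf_dvd_iff_pow_eq_one, hg] at c
    rwa [Nat.dvd_antisymm c ⟨m, hm⟩]
  intro e
  have h5 := congrArg Subtype.val (e.is_comm.comm ⟨upS (g ^ m) 0, _, _, h4, rfl⟩
    ⟨upS 1 1, _, _, one_pow r, rfl⟩)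
  rw [coe_mul, coe_mul, upS_mul, upS_mul, upS_inj] at h5
  have h6 : (g ^ m) ^ 2 = 1 := by
    have := h5.2
    simp only [mul_one, zero_mul, add_zero, mul_zero, zero_add, one_mul] at this
    rw [pow_two, ← eq_inv_iff_mul_eq_one]
    exact Units.ext (by simpa using this)
  have h7 := FiniteField.even_card_of_char_two (ringChar_eq_two h2)
  rw [← pow_mul, ← orderOf_dvd_iff_pow_eq_one, hg, hm, mul_comm r] at h6
  have := (Nat.prime_dvd_prime_iff_eq hr Nat.prime_two).1
    (Nat.dvd_of_mul_dvd_mul_left (Nat.pos_of_ne_zero (by rintro rfl; omega)) h6)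
  subst this
  omega

theorem sn_of_prime [IsSimpleGroup (SL2 F)] (h2 : (2 : F) = 0) (hr : (Fintype.card F - 1).Prime) :
    SN (SL2 F) := by
  intro H hH
  have : CharP F 2 := ringChar_eq_two h2 ▸ ringChar.charP F
  have hi : Function.Injective (ph : SL2 F →* PGL2 F) := (injective_iff_map_eq_one _).2 fun g hg =>
    (ph_eq_one.1 hg).elim id fun e => e.trans (neg_one_eq_one_SL h2)
  have h1 : ∀ (X : Subgroup (SL2 F)) (a : SL2 F), a * a ≠ 1 → X ≠ ⊥ → X ≤ centralizer {a} →
      normalizer (H : Set (SL2 F)) ≤ normalizer (X : Set (SL2 F)) →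
      normalizer (H : Set (SL2 F)) ≤ H := fun X a ha b c e => by
    obtain ⟨u, d, ho⟩ := dih_SL h2 ha
    exact d.nm_le ho hH (e.trans (d.nm_eq c b).le)
  set N := normalizer (H : Set (SL2 F))
  have hc := card_map_of_injective (K := N) hi
  rcases dickson2 2 (N.map ph) with ⟨_, ⟨a, ha, rfl⟩, h3, h4⟩ | ⟨x, hx⟩ | ⟨h3, ⟨⟨e⟩⟩ | ⟨⟨e⟩⟩⟩ |
    ⟨h3, ⟨e⟩⟩ | ⟨L, c, h3, h4⟩
  · refine h1 _ a (fun e => h3 (by rw [← map_pow, pow_two, e, map_one])) (zpowers_ne_bot.2
      fun e => h3 (by simp [e])) (zpowers_le.2 (mem_C1.2 rfl)) fun g hg =>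
      Transfer.mem_normalizer_zpowers ?_
    rcases h4 _ ⟨g, hg, rfl⟩ with e | e <;> simp only [← map_mul, ← map_inv] at e <;> rw [hi e]
    exacts [mem_zpowers a, inv_mem (mem_zpowers a)]
  · have h3 : Nat.card N ∣ Fintype.card F * (Fintype.card F - 1) := by
      rw [← hc, ← card_stab x]; exact card_dvd_of_le hx
    have := Fact.mk hr
    obtain ⟨n, -, hn⟩ := FiniteField.card F 2
    have h4 := (card_dvd_of_le (le_normalizer : H ≤ N)).trans h3
    have h5 : Fintype.card F - 1 ∣ Nat.card H := by_contra fun e => by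
      have a1 : IsPGroup 2 H := .of_card_dvd_pow (hn ▸ ((Nat.Prime.coprime_iff_not_dvd hr).2
        e).symm.dvd_of_dvd_mul_right h4)
      obtain ⟨v, -, a2, a3⟩ := exists_central_orderOf a1 fun e => hH (e ▸ inferInstance)
      exact hH ⟨⟨fun a b => Subtype.ext (cent_comm_SL (fun e => ne_one_of_ord a2 (mem_bot.1
        ((center_SL_even h2).le (isScal_iff_center_SL.1 e)))) (a3 a.2) (a3 b.2))⟩⟩
    have h6 := FiniteField.even_card_of_char_two (ringChar_eq_two h2)
    have h7 := hr.two_le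
    obtain ⟨r, hq⟩ : ∃ r, Fintype.card F = r + 1 := ⟨Fintype.card F - 1, by omega⟩
    rw [hq] at h6
    rw [hq, Nat.add_sub_cancel] at h3 h4 h5 h7 hr this
    obtain ⟨R⟩ : Nonempty (Sylow r H) := inferInstance
    have a1 := card_sylow_modEq_one r H
    have a2 := R.card_dvd_index
    have a3 : (R : Subgroup H).index ∣ r + 1 := ((Nat.Prime.coprime_iff_not_dvd hr).2
      R.not_dvd_index).symm.dvd_of_dvd_mul_right ((index_dvd_card _).trans h4)
    by_cases a4 : Nat.card (Sylow r H) = 1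
    · have := (Nat.card_eq_one_iff_unique.1 a4).1
      have := R.characteristic_of_subsingleton
      have a5 : (R : Subgroup H).map H.subtype ≠ ⊥ := fun e => R.ne_bot_of_dvd_card h5
        ((map_eq_bot_iff_of_injective _ H.subtype_injective).1 e)
      obtain ⟨a, -, a6, a7⟩ := exists_central_orderOf (R.isPGroup'.map H.subtype) a5
      refine h1 _ a (fun e => ?_) a5 a7 
        (Solv.normalizer_le_normalizer_map_of_characteristic H R)
      have := Nat.le_of_dvd two_pos (a6 ▸ orderOf_dvd_of_pow_eq_one (pow_two a ▸ e))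
      omega
    have a5 : r + 1 ≤ Nat.card (Sylow r H) := by
      have := Nat.le_of_dvd (by have := Nat.card_pos (α := Sylow r H); omega)
        ((Nat.modEq_iff_dvd' Nat.card_pos).1 a1.symm)
      omega
    have a6 := Nat.le_of_dvd (by omega) (a2.trans a3)
    refine (eq_of_le_of_card_ge le_normalizer ((Nat.le_of_dvd (by positivity) h3).trans
      (Nat.le_of_dvd Nat.card_pos (Nat.Coprime.mul_dvd_of_dvd_of_dvd (by simp) ?_ h5)))).ge
    exact (le_antisymm a5 a6 ▸ a2 :).trans (index_dvd_card _)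
  · exact absurd (by rw [Nat.card_congr e.toEquiv, Perm.Tri.card_A4]; norm_num) h3
  · exact absurd (by rw [Nat.card_congr e.toEquiv, Perm.Tri.card_S4]; norm_num) h3
  · exact absurd (by rw [Nat.card_congr e.toEquiv, Perm.Tri.card_A5]; norm_num)
      (h3.resolve_right (by norm_num))
  obtain ⟨m, h5, h6⟩ := exists_card_pow' L.subtype
  obtain rfl : m = 1 := by
    by_contra e
    have a1 := (Nat.dvd_prime hr).1 (h6 ▸ Nat.sub_one_dvd_pow_sub_one (Nat.card L) m)
    have a2 := Nat.pow_le_pow_right (n := Nat.card L) (by omega) (show 2 ≤ m by omega)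
    have a3 : 1 ≤ Nat.card L ^ m := Nat.one_le_pow _ _ (by omega)
    rcases a1 with a | a
    · omega
    · have : Nat.card L = Nat.card L ^ m := by omega
      nlinarith
  rw [pow_one] at h6
  have h7 : N = ⊤ := eq_top_iff.2 fun g _ => by
    have : ph g ∈ N.map ph := by
      rcases h4 with e | e <;> rw [e]
      · rw [RG_eq_top _ h6.symm]; exact mem_top _
      · rw [RS_eq_PS _ h6.symm]; exact ⟨g, rfl⟩
    exact (mem_map_iff_mem hi).1 this
  rcases (normalizer_eq_top_iff.1 h7).eq_bot_or_eq_top with e | e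
  · exact absurd (e ▸ inferInstance) hH
  · exact e ▸ le_top

/-- Let G be a finite non-abelian simple group. Every non-abelian subgroup of G is self-normalizing if and only if G is isomorphic to PSL₂(2ⁿ) for some n ≥ 2 with 2ⁿ − 1 prime (this includes the alternating group of degree 5 as PSL₂(4)). -/
theorem result {G : Type*} [Group G] [Finite G] [IsSimpleGroup G]
    (hna : ¬ IsMulCommutative G) :
    (∀ H : Subgroup G, ¬ IsMulCommutative H → Subgroup.normalizer (H : Set G) = H) ↔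
    ∃ n : ℕ, 2 ≤ n ∧ (2 ^ n - 1).Prime ∧ Nonempty (G ≃* Matrix.ProjectiveSpecialLinearGroup (Fin 2) (GaloisField 2 n)) := by
  have h0 : ∀ n, 2 ≤ n → ∀ _ : Fintype (GaloisField 2 n), Fintype.card (GaloisField 2 n) = 2 ^ n :=
    fun n a _ => by rw [← Nat.card_eq_fintype_card, GaloisField.card 2 n (by omega)]
  refine ⟨fun h => ?_, fun ⟨n, hn, hp, ⟨e⟩⟩ H hH => le_antisymm ?_ le_normalizer⟩
  · have h1 : SN G := fun H hH => (h H hH).le
    obtain ⟨n, hn, ⟨e⟩⟩ := psl_of_ac hna fun t ht a b c d => congrArg Subtype.val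
      ((h1.ac hna ht).is_comm.comm ⟨a, mem_C1.2 c.eq.symm⟩ ⟨b, mem_C1.2 d.eq.symm⟩)
    have := Fintype.ofFinite (GaloisField 2 n)
    refine ⟨n, hn, h0 n hn _ ▸ prime_of_sn CharTwo.two_eq_zero ?_
      (.of_equiv ((toPEquiv CharTwo.two_eq_zero).trans e.symm) h1), ⟨e⟩⟩
    rw [h0 n hn]
    exact (Nat.pow_le_pow_right two_pos hn).trans_lt' (by norm_num)
  have := Fintype.ofFinite (GaloisField 2 n)
  have e' := e.trans (toPEquiv CharTwo.two_eq_zero).symm
  have := e'.symm.isSimpleGroup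
  exact SN.of_equiv e' (sn_of_prime CharTwo.two_eq_zero (h0 n hn _ ▸ hp)) H hH

end Cfsg.Agent.S4073
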