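import Cfsg.Statements.S4075
import Cfsg.Agent.Lib.Solv.Schmidt
import Cfsg.Agent.Lib.Comp.SylIn

set_option autoImplicit false
open Cfsg

namespace Cfsg.Agent.S4075

/-- Let G be a finite nilpotent group. Every non-abelian subgroup of G is self-normalizing if and only if G is abelian or G is a minimal non-abelian p-group for some prime p (non-abelian of prime-power order with every proper subgroup abelian). -/
theorem result {G : Type*} [Group G] [Finite G]
    [Group.IsNilpotent G] :
    (∀ H : Subgroup G, ¬ IsMulCommutative H → Subgroup.normalizer (H : Set G) = H) ↔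
    (IsMulCommutative G ∨ (IsPrimePow (Nat.card G) ∧ ¬ IsMulCommutative G ∧ ∀ H : Subgroup G, H ≠ ⊤ → IsMulCommutative H)) := by
  open Pointwise commutatorElement Subgroup Cfsg.Agent.Solv in
  have key : ∀ H : Subgroup G, normalizer (H : Set G) = H → H = ⊤ := fun H h =>
    (normalizerCondition_iff_only_full_group_self_normalizing.1 normalizerCondition_of_isNilpotent) H h
  constructor
  · intro h
    by_cases hc : IsMulCommutative G
    · exact Or.inl hc
    have h1 : ∀ H : Subgroup G, H ≠ ⊤ → IsMulCommutative H := fun H hH => by
      by_contra hn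
      exact hH (key H (h H hn))
    refine Or.inr ⟨?_, hc, h1⟩
    by_contra hpp
    apply hc
    have h2 : ∀ (p : ℕ) (hp : p.Prime) (x : G), IsPGroup p (zpowers x) → x ∈ center G := by
      intro p hp x hx
      haveI := Fact.mk hp
      by_contra hn
      rw [mem_center_iff, not_forall] at hn
      obtain ⟨g, hg⟩ := hn
      have : g ∉ centralizer ({x} : Set G) := by rwa [mem_centralizer_singleton_iff]
      obtain ⟨q, hq, -, y, -, hy, hyn⟩ := exists_prime_pow_notMem this
      haveI := Fact.mk hq
      apply hyn
      rw [mem_centralizer_singleton_iff]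
      by_cases hpq : q = p
      · subst hpq
        obtain ⟨P, hP⟩ := hx.exists_le_sylow
        have hy' : zpowers y ≤ P := (isSylowIn_top P).le_of_le_normalizer' hy le_top le_normalizer_of_normal
        refine Solv.isMulCommutative_iff.1 (h1 P fun e => hpp ?_) _ (hy' (mem_zpowers y)) _ (hP (mem_zpowers x))
        obtain ⟨k, hk⟩ := IsPGroup.iff_card.1 P.isPGroup'
        rw [e, card_top] at hk
        refine ⟨q, k, hq.prime, Nat.pos_of_ne_zero ?_, hk.symm⟩
        rintro rfl
        rw [pow_zero, Nat.card_eq_one_iff_unique] at hk
        haveI := hk.1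
        exact hc ⟨⟨fun a b => Subsingleton.elim _ _⟩⟩
      · refine (commute_of_nilpotent_of_coprime (H := ⊤) inferInstance trivial trivial ?_).eq
        simpa only [Nat.card_zpowers] using coprime_card_of_isPGroup_ne hpq hy hx
    refine ⟨⟨fun a b => ?_⟩⟩
    by_contra hn
    have : b ∉ center G := fun h => hn (mem_center_iff.1 h a)
    obtain ⟨q, hq, -, y, -, hy, hyn⟩ := exists_prime_pow_notMem this
    exact hyn (h2 q hq y hy)
  · rintro (hc | ⟨-, -, h⟩) H hH
    · exact absurd (inferInstanceAs (IsMulCommutative H)) hH
    · have : H = ⊤ := by_contra fun h' => hH (h H h')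
      subst this
      exact normalizer_eq_top _

end Cfsg.Agent.S4075
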