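import Cfsg.Statements.S4080
import Cfsg.Agent.Lib.PU.Af2

set_option autoImplicit false
open Cfsg

namespace Cfsg.Agent.S4080

/-- Let p > 3 be a prime and L the direct product of two cyclic groups of order p². Every automorphism of L of order p fixes every element of order p of L. -/
theorem result {p : ℕ} [Fact p.Prime] (hp : 3 < p)
    (a : MulAut (Multiplicative (ZMod (p ^ 2) × ZMod (p ^ 2)))) (ha : orderOf a = p)
    (x : Multiplicative (ZMod (p ^ 2) × ZMod (p ^ 2))) (hx : orderOf x = p) : a x = x := by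
  let F : MulAut (Multiplicative (ZMod (p ^ 2) × ZMod (p ^ 2))) → Module.End (ZMod (p ^ 2)) (ZMod (p ^ 2) × ZMod (p ^ 2)) :=
    fun b => AddMonoidHom.toZModLinearMap (p ^ 2) (MonoidHom.toAdditiveLeft b.toMonoidHom)
  have hF : ∀ n : ℕ, F a ^ n = F (a ^ n) := by
    intro n
    induction n with
    | zero => rfl
    | succ n ih => rw [pow_succ (F a), ih, pow_succ a]; rfl
  have ha1 : a ^ p = 1 := by have := pow_orderOf_eq_one a; rwa [ha] at this
  have hx1 : x ^ p = 1 := by have := pow_orderOf_eq_one x; rwa [hx] at this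
  have h := PU.Af.fix_p hp (F a) (by rw [hF, ha1]; rfl) x.toAdd (by rw [← toAdd_pow, hx1]; rfl)
  exact h

end Cfsg.Agent.S4080
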