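import Cfsg.Statements.S4081
import Cfsg.Agent.Lib.Ez.E5

set_option autoImplicit false
open Cfsg

namespace Cfsg.Agent.S4081

open Subgroup Cfsg.Agent.Comp Cfsg.Agent.Ez in
theorem fwd {G : Type*} [Group G] [Finite G] (h : (Nat.card G).primeFactors.card = 2)
    (h1 : ∀ x : G, x = 1 ∨ (orderOf x).Prime)
    (h2 : ∀ x y : G, orderOf x = orderOf y → ∃ φ : MulAut G, φ x = y) :
    ∃ (p q n : ℕ) (_ : Fact p.Prime) (_ : Fact q.Prime), p ≠ q ∧ 1 ≤ n ∧ Nat.card G = p ^ n * q ∧
      (∀ P : Sylow p G, (P : Subgroup G).Normal ∧ Cfsg.IsElementaryAbelian p (P : Subgroup G)) ∧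
      orderOf (p : ZMod q) = q - 1 ∧
      ∀ x y : G, orderOf x = q → orderOf y = p → x * y * x⁻¹ ≠ y := by
  have hs := Solv.isSolvable_of_card_primeFactors_le_two h.le
  have : Nontrivial G := Finite.one_lt_card_iff_nontrivial.1
    (Nat.nonempty_primeFactors.1 (Finset.card_pos.1 (by omega)))
  obtain ⟨M, -, b, c, d⟩ := Solv.exists_minimal_normal_le (⊤ : Subgroup G) top_ne_bot
  obtain ⟨-, p, hp, h7⟩ := Solv.minimal_normal_elementary M inferInstance c d
  have := Fact.mk hp
  have h8 : IsPGroup p M := isPGroup_of_forall fun x hx => ⟨1, (pow_one p).symm ▸ h7 x hx⟩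
  have hpG : p ∣ Nat.card G := (dvd_card_of_isPGroup h8 c).trans (card_subgroup_dvd_card M)
  obtain ⟨q, q1, q2⟩ := Finset.exists_mem_ne (s := (Nat.card G).primeFactors) (by omega) p
  have hq := Nat.prime_of_mem_primeFactors q1
  have := Fact.mk hq
  have hf : ∀ x y : G, orderOf x = q → orderOf y = p → x * y * x⁻¹ ≠ y := fun x y a b e => by
    have k := (show Commute x y from mul_inv_eq_iff_eq_mul.1 e).orderOf_mul_eq_mul_orderOf_of_coprime
      (by rw [a, b]; exact (Nat.coprime_primes hq hp).2 q2)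
    rw [a, b] at k
    rcases h1 (x * y) with e | e
    · rw [e, orderOf_one] at k; nlinarith [hq.two_le, hp.two_le]
    · rw [k] at e; exact Nat.not_prime_mul hq.ne_one hp.ne_one e
  have hord : ∀ (r : ℕ) [Fact r.Prime] (P : Subgroup G), IsPGroup r P → ∀ x ∈ P, x ≠ 1 → orderOf x = r :=
    fun r hr P hP x hx e => by
      obtain ⟨k, hk⟩ := IsPGroup.exists_pow_eq_one hP hx
      have c := (h1 x).resolve_left e
      exact (Nat.prime_dvd_prime_iff_eq c hr.1).1 (c.dvd_of_dvd_pow (orderOf_dvd_of_pow_eq_one hk))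
  have h0 : ∀ P : Sylow p G, (P : Subgroup G) ≠ ⊥ := fun P => P.ne_bot_of_dvd_card hpG
  have hP : ∀ P : Sylow p G, (P : Subgroup G).Normal ∧ Cfsg.IsElementaryAbelian p (P : Subgroup G) :=
    fun P => by
    have hn := syl_normal_of_orb h1 h2 h8 c P
    have hc := P.characteristic_of_normal hn
    have := (nontrivial_iff_ne_bot _).2 (h0 P)
    have := P.2.center_nontrivial
    obtain ⟨⟨z, z1⟩, z2⟩ := exists_ne (1 : center P)
    have z3 := hord p _ P.2 z z.2 fun e => z2 (Subtype.ext (Subtype.ext e))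
    refine ⟨hn, ⟨⟨fun a b => Subtype.ext ?_⟩⟩, fun a ha => ?_⟩
    · by_cases e : (a : G) = 1
      · simp [e]
      obtain ⟨φ, f⟩ := h2 z a (z3.trans (hord p _ P.2 a a.2 e).symm)
      have := congrArg (fun y : P => φ y) (mem_center_iff.1 z1
        ⟨φ.symm b, characteristic_iff_le_comap.1 hc φ.symm b.2⟩)
      simpa [f] using this.symm
    · by_cases e : a = 1
      · simp [e]
      · rw [← hord p _ P.2 a ha e, pow_orderOf_eq_one]
  obtain ⟨P⟩ : Nonempty (Sylow p G) := inferInstance
  have hn := (hP P).1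
  have hc := P.characteristic_of_normal hn
  have hi : (P : Subgroup G).index = q := by
    have k : ∀ r, r.Prime → r ∣ (P : Subgroup G).index → r = q := fun r r1 r2 => by
      by_contra r3
      have r4 : r ≠ p := by rintro rfl; exact P.not_dvd_index r2
      have := Finset.card_le_card (show {p, q, r} ⊆ (Nat.card G).primeFactors by
        simp only [Finset.insert_subset_iff, Finset.singleton_subset_iff]
        exact ⟨Nat.mem_primeFactors.2 ⟨hp, hpG, Nat.card_pos.ne'⟩, q1, Nat.mem_primeFactors.2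
          ⟨r1, r2.trans (index_dvd_card _), Nat.card_pos.ne'⟩⟩)
      rw [Finset.card_eq_three.2 ⟨p, q, r, q2.symm, r4.symm, Ne.symm r3, rfl⟩] at this
      omega
    have k2 := Nat.eq_prime_pow_of_unique_prime_dvd index_ne_zero_of_finite (k _)
    generalize (P : Subgroup G).index.primeFactorsList.length = m at k2
    obtain ⟨n, hn⟩ := P.2.exists_card_eq
    rcases m with _ | _ | m
    · have := Nat.dvd_of_mem_primeFactors q1
      rw [← (P : Subgroup G).card_mul_index, k2, hn, pow_zero, mul_one] at this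
      exact absurd ((Nat.prime_dvd_prime_iff_eq hq hp).1 (hq.dvd_of_dvd_pow this)) q2
    · simpa using k2
    obtain ⟨A, hA⟩ := Sylow.exists_subgroup_card_pow_prime (G := G) q (n := 2)
      ((pow_dvd_pow q (by omega)).trans (k2 ▸ index_dvd_card _))
    have h3 := hord q A (IsPGroup.of_card hA)
    have h4 := Solv.isCyclic_of_fpf_of_card_mul_primes (K := P) (A := A) le_normalizer_of_normal
      (fun x hx e => eq_bot_iff.2 fun y hy => by_contra fun c => hf x y (h3 x hx e)
        (hord p _ P.2 y hy.1 c) (mul_inv_eq_iff_eq_mul.2 (mem_centralizer_singleton_iff.1 hy.2).symm))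
      (h0 P) hq hq (hA.trans (sq q))
    exact absurd h4 (Solv.not_isCyclic_of_card_sq hq hA fun x hx => by
      by_cases e : x = 1
      · simp [e]
      · rw [← h3 x hx e, pow_orderOf_eq_one])
  obtain ⟨n, hn⟩ := P.2.exists_card_eq
  obtain ⟨x, hx⟩ := exists_prime_orderOf_dvd_card' (G := G) q (Nat.dvd_of_mem_primeFactors q1)
  refine ⟨p, q, n, inferInstance, inferInstance, q2.symm, Nat.pos_of_ne_zero ?_,
    by rw [← hn, ← hi, card_mul_index], hP, prim_of_aut q2.symm (hP P).2 (h0 P) hi hx (hf x · hx) h2, hf⟩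
  rintro rfl
  exact h0 P (card_eq_one.1 hn)

/-- Let G be a finite group whose order is not a prime power. Then the automorphism group of G has exactly three orbits on G if and only if there are distinct primes p, q with #G = pⁿ·q (n ≥ 1) such that G has a normal elementary abelian Sylow p-subgroup P, p is a primitive root modulo q (the multiplicative order of p mod q is q − 1), and every element of order q of G acts on P without non-identity fixed points. -/
theorem result {G : Type*} [Group G] [Finite G] (hnpp : ¬ IsPrimePow (Nat.card G)) (hnt : Nat.card G ≠ 1) :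
    Nat.card (MulAction.orbitRel.Quotient (MulAut G) G) = 3 ↔
    ∃ (p q n : ℕ) (_ : Fact p.Prime) (_ : Fact q.Prime), p ≠ q ∧ 1 ≤ n ∧ Nat.card G = p ^ n * q ∧
      (∀ P : Sylow p G, (P : Subgroup G).Normal ∧ Cfsg.IsElementaryAbelian p (P : Subgroup G)) ∧
      orderOf (p : ZMod q) = q - 1 ∧
      ∀ x y : G, orderOf x = q → orderOf y = p → x * y * x⁻¹ ≠ y := by
  open Subgroup Cfsg.Agent.Comp Cfsg.Agent.Ez in
  constructor
  · intro h
    have h1 := (orb_of_card (G := G)).1
    have h2 : (Nat.card G).primeFactors.card ≠ 1 := mt isPrimePow_iff_card_primeFactors_eq_one.2 hnpp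
    have h3 : 0 < (Nat.card G).primeFactors.card := Finset.card_pos.2 (Nat.nonempty_primeFactors.2
      (by have := Nat.card_pos (α := G); omega))
    obtain ⟨h4, h5⟩ := (orb_of_card (G := G)).2 (by omega)
    exact fwd (by omega) h4 h5
  rintro ⟨p, q, n, hp, hq, hpq, hn, hc, hP, ho, hf⟩
  obtain ⟨P⟩ : Nonempty (Sylow p G) := inferInstance
  obtain ⟨hN, hE⟩ := hP P
  have h1 : Nat.card P = p ^ n := by
    rw [P.card_eq_multiplicity, hc, Nat.factorization_mul (pow_ne_zero _ hp.1.ne_zero) hq.1.ne_zero,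
      Finsupp.add_apply, Nat.factorization_pow_self hp.1, Nat.factorization_eq_zero_of_not_dvd
        fun e => hpq ((Nat.prime_dvd_prime_iff_eq hp.1 hq.1).1 e), add_zero]
  have hi : (P : Subgroup G).index = q := Nat.eq_of_mul_eq_mul_left (pow_pos hp.1.pos n)
    (by rw [← hc, ← h1, card_mul_index])
  refine le_antisymm ?_ (le_trans ?_ (orb_of_card (G := G)).1)
  · obtain ⟨x, hx⟩ := exists_prime_orderOf_dvd_card' (G := G) q (hc ▸ dvd_mul_left _ _)
    obtain ⟨u, u1, u2⟩ := (P : Subgroup G).bot_or_exists_ne_one.resolve_left (P.ne_bot_of_dvd_card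
      (hc ▸ (dvd_pow_self p (by omega)).mul_right _))
    refine (Nat.card_le_card_of_surjective (fun i : Fin 3 => (Quotient.mk'' (![1, u, x] i) :
      MulAction.orbitRel.Quotient (MulAut G) G)) fun y => ?_).trans (by simp)
    induction y using Quotient.inductionOn' with | h g => ?_
    by_cases e : g = 1
    · exact ⟨0, by simp [e]⟩
    by_cases e2 : g ∈ (P : Subgroup G)
    · obtain ⟨φ, -, f⟩ := aut_of_prim hpq hE hi ho hf hx hx e2 u1 e u2
      exact ⟨1, Quotient.sound ⟨φ, f⟩⟩
    have k1 : g ^ q ∈ (P : Subgroup G) := hi ▸ pow_index_mem _ g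
    have k2 : orderOf g = q := orderOf_eq_prime (by
      by_contra k2
      refine hf (g ^ p) (g ^ q) (orderOf_eq_prime (by rw [← pow_mul, mul_comm, pow_mul, hE.2 _ k1])
        fun k3 => e2 ?_) (orderOf_eq_prime (hE.2 _ k1) k2) (by group)
      exact zpowers_le.2 k1 (mem_zpowers_pow_iff.2 (((Nat.coprime_primes hq.1 hp.1).2
        hpq.symm).coprime_dvd_right (orderOf_dvd_of_pow_eq_one k3)))) e
    obtain ⟨φ, f, -⟩ := aut_of_prim hpq hE hi ho hf k2 hx u1 u1 u2 u2
    exact ⟨2, Quotient.sound ⟨φ, f⟩⟩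
  · rw [hc, Nat.primeFactors_mul (pow_ne_zero _ hp.1.ne_zero) hq.1.ne_zero,
      Nat.primeFactors_prime_pow (by omega) hp.1, hq.1.primeFactors, ← Finset.insert_eq,
      Finset.card_pair hpq]

end Cfsg.Agent.S4081
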