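import Cfsg.Statements.S4082
import Cfsg.Agent.Lib.BG.Pbc

set_option autoImplicit false
open Cfsg

namespace Cfsg.Agent.S4082

/-- Let p be an odd prime and G a finite group with Sylow p-subgroup P. Say that G has restricted p-by-cyclic subgroups when every subgroup H of G whose Sylow p-subgroup is normal in H with cyclic quotient is itself cyclic or dihedral of order 2pⁿ for some n. Then G has restricted p-by-cyclic subgroups if and only if P is cyclic and one of the following holds: (1) N_G(P) = C_G(P); or (2) N_G(P)/C_G(P) has order 2 and, for the subgroup Q of order p of P, the centralizer C_G(Q) is abelian and every element of N_G(Q) outside C_G(Q) is an involution inverting every element of C_G(Q). -/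
theorem result {G : Type*} [Group G] [Finite G] {p : ℕ}
    [Fact p.Prime] (hp : p ≠ 2) (P : Sylow p G) :
    (∀ H : Subgroup G, (∀ S : Sylow p ↥H, (S : Subgroup ↥H).Normal) →
        (∀ (S : Sylow p ↥H) [(S : Subgroup ↥H).Normal], IsCyclic (↥H ⧸ (S : Subgroup ↥H))) →
        IsCyclic H ∨ (∃ n : ℕ, Nonempty (H ≃* DihedralGroup (p ^ n)))) ↔
    (IsCyclic P ∧
      (Subgroup.normalizer ((P : Subgroup G) : Set G) = Subgroup.centralizer ((P : Subgroup G) : Set G) ∨
       ((Subgroup.centralizer ((P : Subgroup G) : Set G)).relIndex (Subgroup.normalizer ((P : Subgroup G) : Set G)) = 2 ∧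
        ∀ Q : Subgroup G, Q ≤ P → Nat.card Q = p →
          IsMulCommutative ↥(Subgroup.centralizer (Q : Set G)) ∧
          ∀ x : G, x ∈ Subgroup.normalizer (Q : Set G) → x ∉ Subgroup.centralizer (Q : Set G) →
            orderOf x = 2 ∧ ∀ c : G, c ∈ Subgroup.centralizer (Q : Set G) → x * c * x⁻¹ = c⁻¹))) := by
  open Pointwise commutatorElement Subgroup in
  open Cfsg.Agent.Comp Cfsg.Agent.BG Subgroup commutatorElement in
  have hpp : p.Prime := Fact.out
  have odd1 : ∀ {T : Subgroup G}, IsPGroup p T → ∀ t ∈ T, t ^ 2 = 1 → t = 1 := by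
    intro T hT t ht h2
    obtain ⟨k, hk⟩ := hT ⟨t, ht⟩
    rw [← orderOf_eq_one_iff]
    exact Nat.eq_one_of_dvd_coprimes (((Nat.coprime_primes Nat.prime_two hpp).2 hp.symm).pow_right k)
      (orderOf_dvd_of_pow_eq_one h2) (orderOf_dvd_of_pow_eq_one (congrArg Subtype.val hk))
  constructor
  · intro h
    have R : ∀ (T : Subgroup G) (x : G), IsPGroup p T → x ∈ Nm(T) → IsCyclic (T ⊔ zpowers x : Subgroup G) ∨
        ∃ a, T ≤ zpowers a ∧ ∀ y ∈ T ⊔ zpowers x, y ∉ zpowers a → y ^ 2 = 1 ∧ ∀ c ∈ zpowers a, y * c * y⁻¹ = c⁻¹ := by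
      intro T x hT hx
      obtain ⟨h1, h2⟩ := Pbc.pbc_of hT hx rfl
      refine (h _ h1 h2).imp id ?_
      rintro ⟨n, ⟨e⟩⟩
      haveI : NeZero (p ^ n) := ⟨pow_ne_zero _ hpp.ne_zero⟩
      obtain ⟨a, -, -, -, h3⟩ := Pbc.dih e
      refine ⟨a, fun t ht => ?_, h3⟩
      by_contra hn
      exact hn (odd1 hT t ht (h3 t (mem_sup_left ht) hn).1 ▸ one_mem _)
    have R' : ∀ (T : Subgroup G) (x : G), IsPGroup p T → x ∈ Nm(T) → x ∉ Ct(T) →
        x ^ 2 = 1 ∧ ∀ c ∈ T, x * c * x⁻¹ = c⁻¹ := by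
      intro T x hT hx hn
      rcases R T x hT hx with h1 | ⟨a, h1, h2⟩
      · exact absurd (centralizer_le (show T ≤ T ⊔ zpowers x from le_sup_left)
          (le_centralizer _ (mem_sup_right (mem_zpowers x)))) hn
      · have := h2 x (mem_sup_right (mem_zpowers x)) fun h => hn (centralizer_le h1 (le_centralizer _ h))
        exact ⟨this.1, fun c hc => this.2 c (h1 hc)⟩
    have hc : IsCyclic P := by
      rcases R P 1 P.isPGroup' (one_mem _) with h1 | ⟨a, h1, -⟩
      · exact BG.isCyclic_of_le le_sup_left h1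
      · exact BG.isCyclic_of_le h1 inferInstance
    refine ⟨hc, ?_⟩
    by_cases e : Nm((P : Subgroup G)) ≤ Ct((P : Subgroup G))
    · exact Or.inl (le_antisymm e (centralizer_le_normalizer _))
    obtain ⟨t, ht, ht2⟩ := SetLike.not_le_iff_exists.1 e
    have ht3 := R' _ t P.isPGroup' ht ht2
    refine Or.inr ⟨relIndex_eq_two_iff_exists_notMem_and.2 ⟨t, ht, ht2, fun b hb => ?_⟩, fun Q hQ hcard => ?_⟩
    · by_cases hb2 : b ∈ Ct((P : Subgroup G))
      · exact Or.inr hb2
      left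
      intro c hc
      have h1 := (R' _ b P.isPGroup' hb hb2).2 _ (inv_mem hc)
      have h2 := ht3.2 c hc
      calc c * (b * t) = (b * c⁻¹ * b⁻¹) * (b * t) := by rw [h1, inv_inv]
        _ = b * (t * c * t⁻¹) * t := by rw [h2]; group
        _ = _ := by group
    have hQp : IsPGroup p Q := P.isPGroup'.to_le hQ
    have k2 : ∀ x : G, x ∈ Nm(Q) → x ∉ Ct(Q) → orderOf x = 2 ∧ ∀ c : G, c ∈ Ct(Q) → x * c * x⁻¹ = c⁻¹ := by
      intro x hx hn
      have h1 := (R' Q x hQp hx hn).1
      refine ⟨orderOf_eq_prime h1 (fun e => hn (e ▸ one_mem _)), fun c hc => ?_⟩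
      have h2 := (R' Q (x * c) hQp (mul_mem hx (centralizer_le_normalizer _ hc))
        (fun h => hn ((Ct(Q).mul_mem_cancel_right hc).1 h))).1
      calc x * c * x⁻¹ = (x * c) ^ 2 * c⁻¹ * (x ^ 2)⁻¹ := by rw [sq, sq]; group
        _ = _ := by rw [h1, h2]; group
    refine ⟨?_, k2⟩
    have htQ : t ∉ Ct(Q) := by
      intro h
      apply (el_one_iff.2 hcard).ne_bot
      rw [eq_bot_iff]
      intro c hc
      apply odd1 hQp c hc
      have h1 := ht3.2 c (hQ hc)
      rw [← h c hc, mul_inv_cancel_right] at h1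
      rw [sq]; nth_rewrite 1 [h1]; exact inv_mul_cancel c
    have h3 := (k2 t (Solv.normalizer_le_normalizer_of_le_isCyclic hc hQ ht) htQ).2
    refine ⟨⟨fun a b => Subtype.ext ?_⟩⟩
    have h4 := h3 _ (mul_mem (inv_mem b.2) (inv_mem a.2))
    show (a : G) * b = b * a
    calc (a : G) * b = t * ((b : G)⁻¹ * (a : G)⁻¹) * t⁻¹ := by rw [h4]; group
      _ = (t * (b : G)⁻¹ * t⁻¹) * (t * (a : G)⁻¹ * t⁻¹) := by group
      _ = _ := by rw [h3 _ (inv_mem b.2), h3 _ (inv_mem a.2)]; group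
  · rintro ⟨hc, hcase⟩ H h1 h2
    obtain ⟨T, x, hT, hx, ho, rfl⟩ := Pbc.of_pbc h1 h2
    obtain ⟨g, -, hg⟩ := (sylIn_top P).exists_cj_le hT le_top
    have hTc : IsCyclic T := isCyclic_of_surjective _ (MulEquiv.surjective (Comp.cjEquiv g T).symm)
      (hH := BG.isCyclic_of_le hg hc)
    by_cases hxc : x ∈ Ct(T)
    · exact Or.inl (Pbc.cyc_of_comm hT hTc hxc ho)
    right
    rcases hcase with e | ⟨-, e⟩
    · exfalso
      have h3 : HasNormalPComplement p (T ⊔ zpowers x : Subgroup G) :=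
        Transfer.hasNPC_of_injective _ (Subgroup.subtype_injective _) (Transfer.hasNPC_of_normalizer_le_centralizer P e.le)
      have h4 := le_Opp_of_hasNPC h3 le_sup_right (by rwa [Nat.card_zpowers])
      exact hxc (le_Ct_of_coprime ((Opp_le p _).trans (sup_le le_normalizer (zpowers_le.2 hx)))
        (le_sup_left.trans (le_normalizer_Opp le_normalizer))
        (Solv.coprime_card_of_isPGroup' hT (coprime_Opp p _)) (h4 (mem_zpowers x)))
    obtain ⟨Q, hQ, hQel⟩ := exists_el_one_of_isPGroup hT (by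
      rintro rfl
      exact hxc (fun y hy => by rw [mem_bot.1 hy]; simp))
    obtain ⟨e1, e2⟩ := e cj(g, Q) ((Comp.cj_mono g hQ).trans hg) (hQel.cj g).card_one
    have hTQ : T ≤ Ct(Q) := (le_centralizer T).trans (centralizer_le hQ)
    have tr : ∀ y, y ∈ Ct(Q) → g * y * g⁻¹ ∈ Ct(cj(g, Q)) := by
      intro y hy
      rw [← Comp.cj_centralizer]; exact Comp.conj_mem_cj.2 hy
    have h5 : g * x * g⁻¹ ∉ Ct(cj(g, Q)) := by
      intro h
      apply hxc
      intro t ht
      have := le_centralizer Ct(cj(g, Q)) h _ (tr t (hTQ ht))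
      calc t * x = g⁻¹ * ((g * t * g⁻¹) * (g * x * g⁻¹)) * g := by group
        _ = _ := by rw [this]; group
    obtain ⟨h6, h7⟩ := e2 _ (by
      rw [← Comp.cj_normalizer]
      exact Comp.conj_mem_cj.2 (Solv.normalizer_le_normalizer_of_le_isCyclic hTc hQ hx)) h5
    obtain ⟨a, rfl⟩ := (Subgroup.isCyclic_iff_exists_zpowers_eq_top T).1 hTc
    obtain ⟨n, hn⟩ := IsPGroup.iff_card.1 hT
    refine ⟨n, ?_⟩
    rw [← hn, Nat.card_zpowers]
    refine Solv.nonempty_dihedral_of_gens (fun h => hxc (le_centralizer _ h)) rfl ?_ ?_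
    · have := h6 ▸ pow_orderOf_eq_one (g * x * g⁻¹)
      rw [conj_pow] at this
      simpa using this
    · have := h7 _ (tr a (hTQ (mem_zpowers a)))
      calc x * a * x⁻¹ = g⁻¹ * (g * x * g⁻¹ * (g * a * g⁻¹) * (g * x * g⁻¹)⁻¹) * g := by group
        _ = _ := by rw [this]; group

end Cfsg.Agent.S4082
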