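import Cfsg.Statements.S4083
import Cfsg.Agent.Lib.BG.Pbc
import Cfsg.Agent.S3803
import Cfsg.Agent.Lib.Perm.Small

set_option autoImplicit false
open Cfsg

namespace Cfsg.Agent.S4083
section
open Pointwise commutatorElement Subgroup
open Cfsg.Agent.Comp Cfsg.Agent.BG Subgroup commutatorElement in
theorem idx2 {G : Type*} [Group G] [Finite G] {T M : Subgroup G} {x : G} (hT : IsPGroup 2 T) (ho : Odd (orderOf x))
    (hi : M.relIndex T = 2) (hMT : M ≤ T) (h1 : x ∈ Nm(T)) (h2 : x ∈ Ct(M)) : x ∈ Ct(T) := by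
  haveI : Fact (Nat.Prime 2) := ⟨Nat.prime_two⟩
  refine Solv.coprime_le_centralizer_of_commutator_le (A := zpowers x) (N := M)
    (Solv.coprime_card_of_isPGroup (hT.to_le hMT) (by rw [Nat.card_zpowers]; exact ho.not_two_dvd_nat)).symm ?_
    (zpowers_le.2 h2) (mem_zpowers x)
  rw [Subgroup.commutator_le]
  intro t ht y hy
  have h3 := Comp.conj_mem_of_mem_normalizer (zpowers_le.2 h1 hy) (inv_mem ht)
  have := mul_mem_iff_of_index_two (H := M.subgroupOf T) hi (a := ⟨t, ht⟩) (b := ⟨_, h3⟩)
  simp only [mem_subgroupOf, coe_mul] at this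
  rw [show ⁅t, y⁆ = t * (y * t⁻¹ * y⁻¹) by rw [commutatorElement_def]; group, this,
    ← mem_normalizer_iff.1 (centralizer_le_normalizer _ (zpowers_le.2 h2 hy)), inv_mem_iff]
end

/-- Let G be a finite group with Sylow 2-subgroup P. Every subgroup H of G whose Sylow 2-subgroup is normal in H with cyclic quotient is cyclic, dihedral of 2-power order, or isomorphic to the alternating group of degree 4, if and only if either P is cyclic, or P is dihedral (of order at least 4) and every elementary abelian subgroup K of order 4 of P satisfies C_G(K) = K. -/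
theorem result {G : Type*} [Group G] [Finite G] (P : Sylow 2 G) :
    (∀ H : Subgroup G, (∀ S : Sylow 2 ↥H, (S : Subgroup ↥H).Normal) →
        (∀ (S : Sylow 2 ↥H) [(S : Subgroup ↥H).Normal], IsCyclic (↥H ⧸ (S : Subgroup ↥H))) →
        IsCyclic H ∨ (∃ n : ℕ, Nonempty (H ≃* DihedralGroup (2 ^ n))) ∨ Nonempty (H ≃* alternatingGroup (Fin 4))) ↔
    (IsCyclic P ∨
      ((∃ n : ℕ, 1 ≤ n ∧ Nonempty ((P : Subgroup G) ≃* DihedralGroup (2 ^ n))) ∧
        ∀ K : Subgroup G, K ≤ P → Nat.card K = 4 → (∀ k ∈ K, k ^ 2 = 1) → Subgroup.centralizer (K : Set G) = K)) := by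
  open Pointwise commutatorElement Subgroup in
  open Cfsg.Agent.Comp Cfsg.Agent.BG Subgroup commutatorElement in
  haveI : Fact (Nat.Prime 2) := ⟨Nat.prime_two⟩
  constructor
  · intro h
    have R : ∀ (T : Subgroup G) (x : G), IsPGroup 2 T → x ∈ Nm(T) → _ := fun T x hT hx =>
      h _ (Pbc.pbc_of hT hx rfl).1 (Pbc.pbc_of hT hx rfl).2
    by_cases hc : IsCyclic P
    · exact Or.inl hc
    refine Or.inr ⟨?_, fun K hK h4 h2 => ?_⟩
    · have := R P 1 P.isPGroup' (one_mem _)
      rw [zpowers_one_eq_bot, sup_bot_eq] at this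
      rcases this with h1 | ⟨n, ⟨e⟩⟩ | ⟨⟨e⟩⟩
      · exact absurd h1 hc
      · refine ⟨n, ?_, ⟨e⟩⟩
        rcases n with _ | n
        · exact absurd (Solv.isCyclic_of_card_prime (by
            rw [Nat.card_congr e.toEquiv, DihedralGroup.nat_card]; decide)) hc
        · omega
      · exfalso
        obtain ⟨k, hk⟩ := IsPGroup.iff_card.1 P.isPGroup'
        have h1 : Nat.card (alternatingGroup (Fin 4)) = 12 := by
          have := two_mul_nat_card_alternatingGroup (α := Fin 4)
          rw [Nat.card_perm, Nat.card_fin] at this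
          have e4 : Nat.factorial 4 = 24 := rfl
          omega
        rw [Nat.card_congr e.toEquiv, h1] at hk
        have : 3 ∣ 2 ^ k := hk ▸ by norm_num
        exact absurd (Nat.prime_three.dvd_of_dvd_pow this) (by norm_num)
    have hKp : IsPGroup 2 K := P.isPGroup'.to_le hK
    have hKc : IsMulCommutative K := comm_of_card_le hKp h4.le
    have hKn : ¬ IsCyclic K := Solv.not_isCyclic_of_card_sq Nat.prime_two h4 h2
    refine le_antisymm (fun c hc => ?_) (le_centralizer K)
    have hab : K ⊔ zpowers c ≤ Ct((K ⊔ zpowers c : Subgroup G)) := by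
      have h1 : zpowers c ≤ Ct(K) := zpowers_le.2 hc
      rw [sup_le_iff, Subgroup.le_centralizer_iff, Subgroup.le_centralizer_iff (H := zpowers c), sup_le_iff, sup_le_iff]
      exact ⟨⟨le_centralizer K, h1⟩, Subgroup.le_centralizer_iff.1 h1, le_centralizer _⟩
    rcases R K c hKp (centralizer_le_normalizer _ hc) with h1 | ⟨n, ⟨e⟩⟩ | ⟨⟨e⟩⟩
    · exact absurd (BG.isCyclic_of_le le_sup_left h1) hKn
    · obtain ⟨a, h1, h3, h5, h6⟩ := Pbc.dih e
      obtain ⟨y, hy, hy2⟩ := SetLike.not_le_iff_exists.1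
        (fun h : K ≤ zpowers a => hKn (BG.isCyclic_of_le h inferInstance))
      have h7 := (h6 y (mem_sup_left hy) hy2).2 a (mem_zpowers a)
      rw [hab h3 y (mem_sup_left hy), mul_inv_cancel_right] at h7
      have h8 : orderOf a ∣ 2 := orderOf_dvd_of_pow_eq_one (by rw [sq]; nth_rewrite 1 [h7]; exact inv_mul_cancel a)
      have h9 := Nat.le_of_dvd (by norm_num) h8
      have := Subgroup.eq_of_le_of_card_ge (le_sup_left : K ≤ K ⊔ zpowers c) (by omega)
      exact this.ge (mem_sup_right (mem_zpowers c))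
    · exfalso
      have h1 : ¬ ∀ a b : alternatingGroup (Fin 4), a * b = b * a := by decide
      apply h1
      intro a b
      obtain ⟨a, rfl⟩ := e.surjective a
      obtain ⟨b, rfl⟩ := e.surjective b
      rw [← map_mul, ← map_mul]
      congr 1
      exact Subtype.ext (hab b.2 a a.2)
  · intro hcase H h1 h2
    obtain ⟨T, x, hT, hx, ho, rfl⟩ := Pbc.of_pbc h1 h2
    have hodd : Odd (orderOf x) := Nat.coprime_two_right.1 ho
    obtain ⟨g, -, hg⟩ := (sylIn_top P).exists_le_cj hT le_top
    by_cases hTc : IsCyclic T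
    · exact Or.inl (Pbc.cyc_of_comm hT hTc (S3803.l2 (A := zpowers x) hT (by rwa [Nat.card_zpowers]) (zpowers_le.2 hx) hTc
        (mem_zpowers x)) ho)
    right
    rcases hcase with hc | ⟨⟨n, -, ⟨e⟩⟩, hK⟩
    · exact absurd (BG.isCyclic_of_le hg (isCyclic_of_surjective _ (Comp.cjEquiv g (P : Subgroup G)).surjective)) hTc
    have hK' : ∀ K : Subgroup G, El 2 2 K → Ct(K) = K := by
      intro K h
      obtain ⟨k, -, hk⟩ := (sylIn_top P).exists_cj_le h.isP le_top
      have := hK _ hk (h.cj k).card (fun y hy => (h.cj k).pow hy)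
      rwa [← Comp.cj_centralizer, Comp.cj_inj] at this
    obtain ⟨a, a1, a2, a3, h6⟩ := Pbc.dih ((Comp.cjEquiv g (P : Subgroup G)).symm.trans e)
    obtain ⟨y, hy, hy2⟩ := SetLike.not_le_iff_exists.1
      (fun h : T ≤ zpowers a => hTc (BG.isCyclic_of_le h inferInstance))
    obtain ⟨b, hb⟩ := (Subgroup.isCyclic_iff_exists_zpowers_eq_top (T ⊓ zpowers a)).1
      (BG.isCyclic_of_le inf_le_right inferInstance)
    have hbT : zpowers b ≤ T := hb ▸ inf_le_left
    have hba : zpowers b ≤ zpowers a := hb ▸ inf_le_right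
    have hyb : y ∉ zpowers b := fun h => hy2 (hba h)
    have y2 := (h6 y (hg hy) hy2).1
    have yi := fun c hc => (h6 y (hg hy) hy2).2 c (hba hc)
    have i1 : (zpowers a).relIndex cj(g, (P : Subgroup G)) = 2 := by
      have := Comp.relIndex_mul_card (zpowers_le.2 a2)
      rw [a3, Nat.card_zpowers, a1] at this
      exact Nat.eq_of_mul_eq_mul_right (by positivity) this
    have i2 : (zpowers b).relIndex T = 2 := by
      rw [hb, inf_relIndex_left]
      have h3 := relIndex_le_of_le_right (H := zpowers a) hg (by omega)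
      have h4 : (zpowers a).relIndex T ≠ 1 := fun h => hy2 (relIndex_eq_one.1 h hy)
      have h5 : (zpowers a).relIndex T ≠ 0 := Subgroup.FiniteIndex.index_ne_zero
      omega
    have hyn : y ∈ Nm(zpowers b) := Transfer.mem_normalizer_zpowers_of_inv (yi b (mem_zpowers b))
    have hTe : T = zpowers b ⊔ zpowers y := by
      refine (Subgroup.eq_of_le_of_card_ge (sup_le hbT (zpowers_le.2 hy)) ?_).symm
      rw [Transfer.card_sup_zpowers hyn (y2 ▸ one_mem _) hyb, ← Comp.relIndex_mul_card hbT, i2]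
    obtain ⟨m, hm⟩ := IsPGroup.iff_card.1 (hT.to_le hbT)
    by_cases hx1 : x = 1
    · left
      rw [hx1, zpowers_one_eq_bot, sup_bot_eq]
      refine ⟨m, ?_⟩
      rw [← hm, Nat.card_zpowers]
      exact Solv.nonempty_dihedral_of_gens hyb hTe y2 (yi b (mem_zpowers b))
    right
    have odd1 : ∀ u : G, Odd (orderOf u) → u ∈ T → u = 1 := by
      intro u h1 h2
      obtain ⟨k, hk⟩ := hT ⟨u, h2⟩
      rw [← orderOf_eq_one_iff]
      exact Nat.eq_one_of_dvd_coprimes ((Nat.coprime_two_right.2 h1).pow_right k) dvd_rfl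
        (orderOf_dvd_of_pow_eq_one (congrArg Subtype.val hk))
    have hb1 : zpowers b ≠ ⊥ := by
      intro h
      rw [h, bot_sup_eq] at hTe
      exact hTc (hTe ▸ inferInstance)
    obtain ⟨Z, hZ, hZel⟩ := exists_el_one_of_isPGroup (hT.to_le hbT) hb1
    have hKel := hZel.sup_zpowers (x := y) (fun c hc => by
      have h1 := yi c (hZ hc)
      have h2 := hZel.pow hc
      calc c * y = c⁻¹ * y := by rw [inv_eq_of_mul_eq_one_right (by rw [← sq]; exact h2)]
        _ = y * c := by rw [← h1]; group) (fun h => hyb (hZ h)) y2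
    have hKT : Z ⊔ zpowers y ≤ T := sup_le (hZ.trans hbT) (zpowers_le.2 hy)
    have hCT : Ct(T) ≤ T := (centralizer_le hKT).trans ((hK' _ hKel).le.trans hKT)
    have hb2 : b ^ 2 = 1 := by
      by_contra hb2
      apply hx1
      apply odd1 x hodd
      apply hCT
      refine idx2 hT hodd i2 hbT hx (S3803.l2 (A := zpowers x) (hT.to_le hbT) (by rwa [Nat.card_zpowers])
        (zpowers_le.2 (Transfer.mem_normalizer_zpowers ?_)) inferInstance (mem_zpowers x))
      have h3 := Comp.conj_mem_of_mem_normalizer hx (hbT (mem_zpowers b))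
      rw [hb]
      refine ⟨h3, ?_⟩
      by_contra hn
      have := (h6 _ (hg h3) hn).1
      rw [conj_pow] at this
      exact hb2 (by simpa using this)
    have hT4 : El 2 2 T := by
      have : Z ⊔ zpowers y = T := by
        refine Subgroup.eq_of_le_of_card_ge hKT ?_
        rw [hKel.card, ← Comp.relIndex_mul_card hbT, i2, Nat.card_zpowers]
        have := Nat.le_of_dvd (by norm_num) (orderOf_dvd_of_pow_eq_one hb2)
        omega
      exact this ▸ hKel
    have hn : T ⊔ zpowers x ≤ Nm(T) := sup_le le_normalizer (zpowers_le.2 hx)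
    have fp : ∀ u ∈ Nm(T), Odd (orderOf u) → u ≠ 1 → T ⊓ C1(u) = ⊥ := by
      intro u h1 h2 h3
      by_contra hne
      obtain ⟨X, hX, hXel⟩ := exists_el_one_of_isPGroup hT.to_inf_left hne
      refine h3 (odd1 u h2 (hCT (idx2 hT h2 (hXel.relIndex hT4 (hX.trans inf_le_left)) (hX.trans inf_le_left) h1 ?_)))
      intro c hc
      exact mem_centralizer_singleton_iff.1 (hX hc).2
    have h3 : orderOf x = 3 := by
      have := Solv.card_dvd_sub_one_of_fpf (zpowers_le.2 hx) (fun u hu h1 => fp u (zpowers_le.2 hx hu)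
        (hodd.of_dvd_nat (orderOf_dvd_of_mem_zpowers hu)) h1)
      rw [Nat.card_zpowers, hT4.card] at this
      exact ((Nat.dvd_prime Nat.prime_three).1 this).resolve_left (by rwa [orderOf_eq_one_iff])
    have h12 : Nat.card (T ⊔ zpowers x : Subgroup G) = 12 := by
      have := Comp.card_sup_mul_card_inf (zpowers_le.2 hx)
      rw [Solv.inf_eq_bot_of_coprime' (by rw [Nat.card_zpowers, h3, hT4.card]; norm_num), card_bot, mul_one,
        Nat.card_zpowers, h3, hT4.card, sup_comm] at this
      exact this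
    refine Perm.Small.iso_A4 h12 fun u => ?_
    by_contra hgt
    have h4 : orderOf u ∣ 12 := h12 ▸ orderOf_dvd_natCard u
    have h5 : 6 ∣ orderOf u := by
      have := Nat.le_of_dvd (by norm_num) h4
      push_neg at hgt
      interval_cases (orderOf u) <;> omega
    obtain ⟨k, hk⟩ := h5
    rw [← Subgroup.orderOf_coe] at hk
    have hk0 : k ≠ 0 := by
      rintro rfl
      exact (orderOf_pos (u : G)).ne' hk
    have o2 : orderOf ((u : G) ^ (3 * k)) = 2 := by
      rw [orderOf_pow' _ (by omega), hk, show 6 * k = 2 * (3 * k) by ring, Nat.gcd_mul_left_left,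
        Nat.mul_div_cancel _ (by omega)]
    have o3 : orderOf ((u : G) ^ (2 * k)) = 3 := by
      rw [orderOf_pow' _ (by omega), hk, show 6 * k = 3 * (2 * k) by ring, Nat.gcd_mul_left_left,
        Nat.mul_div_cancel _ (by omega)]
    have hS := sylIn_sup_left hT (K := zpowers x) (by rwa [Nat.card_zpowers]) (Or.inr (zpowers_le.2 hx))
    have t1 := hS.le_of_normalizer (Comp.isPGroup_zpowers_of_orderOf_eq o2) (zpowers_le.2 (pow_mem u.2 _))
      (zpowers_le.2 (hn (pow_mem u.2 _))) (mem_zpowers _)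
    have t2 := fp _ (hn (pow_mem u.2 (2 * k))) (by rw [o3]; decide) (fun e => by rw [e, orderOf_one] at o3; omega)
    have : (u : G) ^ (3 * k) ∈ T ⊓ C1((u : G) ^ (2 * k)) := ⟨t1, mem_centralizer_singleton_iff.2 (by group)⟩
    rw [t2, mem_bot] at this
    rw [this, orderOf_one] at o2
    omega

end Cfsg.Agent.S4083
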