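import Cfsg.Statements.S4084
import Cfsg.Agent.Lib.BG.MinNA

set_option autoImplicit false
open Cfsg

namespace Cfsg.Agent.S4084
section
open Pointwise commutatorElement Subgroup
open Cfsg.Agent.Comp Cfsg.Agent.BG Subgroup commutatorElement in
theorem aux {G H : Type*} [Group G] [Finite G] [Group H] [Finite H] (e : G ≃ H)
    (he : ∀ x y : G, Commute x y ↔ Commute (e x) (e y)) {p q : ℕ} (hp : p.Prime) (hq : q.Prime) (hpq : p ≠ q)
    (h : ∃ g : G, orderOf g = p * q) : ∃ h : H, orderOf h = p * q := by
  obtain ⟨g, hg⟩ := h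
  obtain ⟨A, a1, a2, a3⟩ := Finite.exists_le_maximal (p := fun A : Subgroup G => IsMulCommutative A)
    (inferInstance : IsMulCommutative (zpowers g))
  have a4 : ∀ x, (∀ a ∈ A, Commute a x) ↔ x ∈ A := fun x => ⟨fun h =>
    a3 (Solv.isMulCommutative_sup_zpowers a2 h) le_sup_left (mem_sup_right (mem_zpowers x)),
    fun h a ha => Solv.isMulCommutative_iff.1 a2 a ha x h⟩
  have b1 : ∀ x, e x ∈ centralizer (e '' A) ↔ x ∈ A := fun x => by
    rw [← a4, mem_centralizer_iff, Set.forall_mem_image]
    exact forall₂_congr fun a _ => (he a x).symm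
  have b2 : Nat.card A = Nat.card (centralizer (e '' A)) := Nat.card_congr (e.subtypeEquiv fun x => (b1 x).symm)
  have b3 : p * q ∣ Nat.card (centralizer (e '' A)) := by
    rw [← b2, ← hg, ← Nat.card_zpowers]; exact card_dvd_of_le a1
  haveI := Fact.mk hp
  haveI := Fact.mk hq
  obtain ⟨x, x1, x2⟩ := exists_mem_orderOf_eq ((dvd_mul_right p q).trans b3)
  obtain ⟨y, y1, y2⟩ := exists_mem_orderOf_eq ((dvd_mul_left q p).trans b3)
  obtain ⟨x, rfl⟩ := e.surjective x
  refine ⟨e x * y, ?_⟩
  rw [Commute.orderOf_mul_eq_mul_orderOf_of_coprime (y1 _ ⟨x, (b1 x).1 x1, rfl⟩)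
    (by rw [x2, y2]; exact (Nat.coprime_primes hp hq).2 hpq), x2, y2]
end

/-- Let G and H be finite groups whose commuting graphs are isomorphic: there is a bijection e : G → H with x, y commuting exactly when e(x), e(y) commute. Then G and H have the same prime graph: for distinct primes p, q, G has an element of order pq if and only if H does (and #G = #H, so the prime divisors agree). -/
theorem result {G H : Type*} [Group G] [Finite G] [Group H] [Finite H] (e : G ≃ H)
    (he : ∀ x y : G, Commute x y ↔ Commute (e x) (e y))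
    {p q : ℕ} (hp : p.Prime) (hq : q.Prime) (hpq : p ≠ q) :
    (∃ g : G, orderOf g = p * q) ↔ (∃ h : H, orderOf h = p * q) := by
  open Pointwise commutatorElement Subgroup in
  exact ⟨aux e he hp hq hpq, aux e.symm (fun x y => by rw [he]; simp) hp hq hpq⟩

end Cfsg.Agent.S4084
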