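import Cfsg.Statements.S4086
import Cfsg.Agent.Lib.Solv.PGrp
import Cfsg.Agent.Lib.Solv.Schmidt

set_option autoImplicit false
open Cfsg

namespace Cfsg.Agent.S4086

/-- For a finite group G the following are equivalent: every non-identity element has prime-power order; whenever two elements generate a cyclic subgroup, one of them is a power of the other (the enhanced power graph of G coincides with its power graph). -/
theorem result {G : Type*} [Group G] [Finite G] :
    (∀ g : G, g ≠ 1 → IsPrimePow (orderOf g)) ↔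
    (∀ x y : G, IsCyclic ↥(Subgroup.closure ({x, y} : Set G)) → (x ∈ Subgroup.zpowers y ∨ y ∈ Subgroup.zpowers x)) := by
  open Pointwise commutatorElement Subgroup Cfsg.Agent.Solv in
  constructor
  · intro h x y hc
    obtain ⟨a, -, ha⟩ := isCyclic_iff_exists_le_zpowers.1 hc
    have hx : x ∈ zpowers a := ha (subset_closure (by simp))
    have hy : y ∈ zpowers a := ha (subset_closure (by simp))
    by_cases h1 : a = 1
    · subst h1
      rw [zpowers_one_eq_bot, mem_bot] at hx
      exact Or.inl (hx ▸ one_mem _)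
    obtain ⟨p, k, hp, -, e⟩ := h a h1
    obtain ⟨i, -, hi⟩ := (Nat.dvd_prime_pow hp.nat_prime).1 (e ▸ orderOf_dvd_of_mem_zpowers hx)
    obtain ⟨j, -, hj⟩ := (Nat.dvd_prime_pow hp.nat_prime).1 (e ▸ orderOf_dvd_of_mem_zpowers hy)
    rcases le_total i j with hij | hij
    · left
      exact zpowers_le.1 (le_of_isCyclic_of_card_dvd (C := zpowers a) inferInstance (zpowers_le.2 hx) (zpowers_le.2 hy)
        (by rw [Nat.card_zpowers, Nat.card_zpowers, hi, hj]; exact pow_dvd_pow _ hij))
    · right
      exact zpowers_le.1 (le_of_isCyclic_of_card_dvd (C := zpowers a) inferInstance (zpowers_le.2 hy) (zpowers_le.2 hx)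
        (by rw [Nat.card_zpowers, Nat.card_zpowers, hi, hj]; exact pow_dvd_pow _ hij))
  · intro h g hg
    rw [isPrimePow_iff_unique_prime_dvd]
    obtain ⟨p, hp, hd⟩ := Nat.exists_prime_and_dvd (n := orderOf g) (by rwa [Ne, orderOf_eq_one_iff])
    refine ⟨p, ⟨hp, hd⟩, fun q ⟨hq, hqd⟩ => ?_⟩
    have o1 : orderOf (g ^ (orderOf g / p)) = p := orderOf_pow_orderOf_div (orderOf_pos g).ne' hd
    have o2 : orderOf (g ^ (orderOf g / q)) = q := orderOf_pow_orderOf_div (orderOf_pos g).ne' hqd
    have hc : IsCyclic (closure ({g ^ (orderOf g / p), g ^ (orderOf g / q)} : Set G)) := by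
      refine Subgroup.isCyclic_of_le (H' := zpowers g) ?_
      rw [closure_le]
      rintro x (rfl | rfl) <;> exact pow_mem (mem_zpowers g) _
    rcases h _ _ hc with h' | h'
    · have := orderOf_dvd_of_mem_zpowers h'
      rw [o1, o2] at this
      exact ((Nat.prime_dvd_prime_iff_eq hp hq).1 this).symm
    · have := orderOf_dvd_of_mem_zpowers h'
      rw [o1, o2] at this
      exact (Nat.prime_dvd_prime_iff_eq hq hp).1 this

end Cfsg.Agent.S4086
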