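import Cfsg.Statements.S4089
import Cfsg.Agent.Lib.Solv.Cores
import Cfsg.Agent.Lib.Comp.Subn
import Cfsg.Agent.Lib.Transfer.Basic

set_option autoImplicit false
open Cfsg

namespace Cfsg.Agent.S4089
section
open Pointwise commutatorElement Subgroup Cfsg.Agent.Solv
open Cfsg.Agent.Transfer
variable {G : Type*} [Group G] [Finite G] {p : ℕ} [Fact p.Prime]
theorem sub_iff {H : Subgroup G} (hH : IsPGroup p H) {g : G} : (H.subgroupOf (H ⊔ zpowers g)).IsSubnormal ↔
    ∃ R : Subgroup G, IsPGroup p R ∧ H ≤ R ∧ g ∈ normalizer (R : Set G) := by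
  refine ⟨fun h => ⟨_, isPGroup_map_subtype_pCore (H ⊔ zpowers g), ?_, normalizer_le_normalizer_map_pCore _
    (le_normalizer (mem_sup_right (mem_zpowers g)))⟩, fun ⟨R, h1, h2, h3⟩ => (Comp.subnIn_iff.1 ?_).2⟩
  · exact (subgroupOf_map_subtype_of_le le_sup_left).ge.trans (map_mono (le_pCore_of_isSubnormal h (isPGroup_subgroupOf hH _)))
  · exact ((Comp.subnIn_of_isNilpotent h1.isNilpotent h2).trans (.of_normalizer le_normalizer le_rfl)).of_le le_sup_left
      (sup_le (h2.trans le_normalizer) (zpowers_le.2 h3))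
theorem sub_iff' {H : Subgroup G} {g : G} : (∃ R : Subgroup G, IsPGroup p R ∧ H ≤ R ∧ g ∈ normalizer (R : Set G)) ↔
    ∃ R : Subgroup G, H ≤ R ∧ (pCore p (normalizer (R : Set G))).map (normalizer (R : Set G)).subtype = R ∧
      g ∈ normalizer (R : Set G) := by
  refine ⟨fun ⟨R, h⟩ => ?_, fun ⟨R, h1, h2, h3⟩ => ⟨R, h2 ▸ isPGroup_map_subtype_pCore _, h1, h3⟩⟩
  obtain ⟨T, -, h1, h2⟩ := exists_maximal_ge (P := fun R : Subgroup G => IsPGroup p R ∧ H ≤ R ∧ g ∈ normalizer (R : Set G)) h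
  have h3 := le_map_subtype_pCore h1.1 le_normalizer le_rfl
  exact ⟨T, h1.2.1, h2 _ ⟨isPGroup_map_subtype_pCore _, h1.2.1.trans h3, normalizer_le_normalizer_map_pCore _
    (le_normalizer h1.2.2)⟩ h3, h1.2.2⟩
end

/-- Let G be a finite group, p a prime and H a p-subgroup of G. Then the set of elements g of G such that H is subnormal in the subgroup generated by H and g is the union of the normalizers N_G(R) over the subgroups R of G containing H with R = O_p(N_G(R)); and this set does not change when H is replaced by the intersection of all Sylow p-subgroups of G containing H. -/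
theorem result {G : Type*} [Group G] [Finite G] (p : ℕ) [Fact p.Prime]
    (H : Subgroup G) (hH : IsPGroup p H) :
    {g : G | ((H).subgroupOf (H ⊔ Subgroup.zpowers g)).IsSubnormal} =
      {g : G | ∃ R : Subgroup G, H ≤ R ∧ (Cfsg.pCore p (Subgroup.normalizer (R : Set G))).map (Subgroup.normalizer (R : Set G)).subtype = R ∧ g ∈ Subgroup.normalizer (R : Set G)} ∧
    ∀ g : G, (((H).subgroupOf (H ⊔ Subgroup.zpowers g)).IsSubnormal ↔
      (((sInf {K : Subgroup G | ∃ Q : Sylow p G, H ≤ (Q : Subgroup G) ∧ K = (Q : Subgroup G)})).subgroupOf ((sInf {K : Subgroup G | ∃ Q : Sylow p G, H ≤ (Q : Subgroup G) ∧ K = (Q : Subgroup G)}) ⊔ Subgroup.zpowers g)).IsSubnormal) := by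
  open Pointwise commutatorElement Subgroup Cfsg.Agent.Solv in
  open Cfsg.Agent.Transfer in
  refine ⟨Set.ext fun g => (sub_iff hH).trans sub_iff', fun g => ?_⟩
  have h1 : ∀ H : Subgroup G, IsPGroup p H → IsPGroup p (sInf {K : Subgroup G | ∃ Q : Sylow p G, H ≤ Q ∧ K = Q} : Subgroup G) :=
    fun H hH => by
      obtain ⟨Q, hQ⟩ := hH.exists_le_sylow
      exact Q.2.to_le (sInf_le ⟨Q, hQ, rfl⟩)
  have h2 : ∀ H : Subgroup G, H ≤ sInf {K : Subgroup G | ∃ Q : Sylow p G, H ≤ Q ∧ K = Q} := fun H =>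
    le_sInf (by rintro _ ⟨Q, h, rfl⟩; exact h)
  rw [sub_iff hH, sub_iff (h1 H hH)]
  refine ⟨fun h => ?_, fun ⟨R, a1, a2, a3⟩ => ⟨R, a1, (h2 H).trans a2, a3⟩⟩
  obtain ⟨R, a1, a2, a3⟩ := sub_iff'.1 h
  have a4 : IsPGroup p R := a2 ▸ isPGroup_map_subtype_pCore _
  refine ⟨R, a4, le_trans (sInf_le_sInf (s := {K : Subgroup G | ∃ Q : Sylow p G, R ≤ Q ∧ K = Q})
    fun K ⟨Q, b1, b2⟩ => ⟨Q, a1.trans b1, b2⟩) (le_of_eq (by_contra fun b1 => ?_)), a3⟩
  refine (lt_inf_normalizer (h1 R a4) (lt_of_le_of_ne (h2 R) (Ne.symm b1))).not_ge fun x hx => ?_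
  rw [← a2, pCore_eq_iInf_sylow]
  refine ⟨⟨x, hx.2⟩, mem_iInf.2 fun S => ?_, rfl⟩
  obtain ⟨Q, hQ⟩ := (S.2.map (normalizer (R : Set G)).subtype).exists_le_sylow
  have b2 := (isSyl_map_subtype S).eq_of_le (Q.2.to_le inf_le_left) inf_le_right (le_inf hQ (map_subtype_le _))
  have b3 : x ∈ (Q : Subgroup G) := sInf_le (s := {K : Subgroup G | ∃ Q : Sylow p G, R ≤ Q ∧ K = Q})
    ⟨Q, (a2.ge.trans (map_mono (pCore_le_sylow S))).trans hQ, rfl⟩ hx.1
  exact (mem_map_iff_mem Subtype.val_injective).1 (b2.le (mem_inf.2 ⟨b3, hx.2⟩))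

end Cfsg.Agent.S4089
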