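import Cfsg.Statements.S4088
import Cfsg.Agent.S4089
import Cfsg.Agent.Lib.Solv.FrobCount

set_option autoImplicit false
open Cfsg

namespace Cfsg.Agent.S4088
section
open Pointwise commutatorElement Subgroup Cfsg.Agent.Solv
universe u
open Cfsg.Agent.Solv Cfsg.Agent.Transfer
theorem toggle {α β : Type*} [DecidableEq α] [Finite β] (X : Finset α) (r : Finset α → β → Prop)
    (h : ∀ b T, r T b → ∃ x ∈ X, ∀ T, r (insert x T) b ↔ r T b) :
    ∑ T ∈ X.powerset, (-1 : ℤ) ^ T.card * Nat.card {b // r T b} = 0 := by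
  classical
  have := Fintype.ofFinite β
  simp only [cnt_eq_sum, Nat.cast_sum, Finset.mul_sum]
  rw [Finset.sum_comm]
  refine Finset.sum_eq_zero fun b _ => ?_
  by_cases h1 : ∃ T, r T b
  · obtain ⟨T, h1⟩ := h1
    obtain ⟨x, hx, h2⟩ := h b T h1
    rw [← Finset.insert_erase hx, Finset.sum_powerset_insert (Finset.notMem_erase _ _), ← Finset.sum_add_distrib]
    refine Finset.sum_eq_zero fun T hT => ?_
    rw [Finset.card_insert_of_notMem fun h => Finset.notMem_erase _ _ (Finset.mem_powerset.1 hT h), if_congr (h2 T) rfl rfl]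
    ring
  · exact Finset.sum_eq_zero fun T _ => by rw [if_neg fun h => h1 ⟨T, h⟩]; simp
theorem aux {p : ℕ} [Fact p.Prime] (G : Type u) [Group G] [Finite G] : ∀ (P : Sylow p G) (H : Subgroup G),
    Nat.card {g : G // ∃ R : Subgroup G, IsPGroup p R ∧ H ≤ R ∧ g ∈ normalizer (R : Set G)} =
      Nat.card {Q : Sylow p G // H ≤ Q} * Nat.card (normalizer ((P : Subgroup G) : Set G)) := by
  classical
  revert G
  refine card_induction fun G _ _ ih P H => ?_
  induction H using Comp.subgroup_induction_gt with | h H ih2 => ?_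
  by_cases hH : IsPGroup p H
  swap
  · rw [cnt_eq_zero fun g ⟨R, h1, h2, _⟩ => hH (h1.to_le h2), cnt_eq_zero fun (Q : Sylow p G) h => hH (Q.2.to_le h), zero_mul]
  have h0 : ∀ Q : Sylow p G, Nat.card (Sylow p G) * Nat.card (normalizer ((Q : Subgroup G) : Set G)) = Nat.card G :=
    fun Q => by rw [Q.card_eq_index_normalizer]; exact index_mul_card _
  by_cases h1 : normalizer (H : Set G) = ⊤
  · haveI := normalizer_eq_top_iff.1 h1
    rw [cnt_congr (q := fun _ => True) fun g => iff_true_intro ⟨H, hH, le_rfl, h1.ge (mem_top g)⟩,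
      cnt_congr (q := fun _ => True) fun Q : Sylow p G => iff_true_intro (hH.le_sylow_of_normal Q), cnt_true, cnt_true, h0]
  obtain ⟨S, hS⟩ := hH.exists_le_sylow
  rcases hS.eq_or_lt with rfl | hS
  · rw [cnt_congr (q := fun g => g ∈ normalizer ((S : Subgroup G) : Set G)) fun g =>
      ⟨fun ⟨R, a1, a2, a3⟩ => S.3 a1 a2 ▸ a3, fun h => ⟨S, hH, le_rfl, h⟩⟩, cnt_congr (q := fun Q => Q = S) fun Q : Sylow p G =>
      ⟨fun h => Sylow.ext (S.3 Q.2 h), fun h => h ▸ le_rfl⟩, cnt_eq_one, one_mul]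
    exact Nat.eq_of_mul_eq_mul_left Nat.card_pos ((h0 S).trans (h0 P).symm)
  have := Fintype.ofFinite G
  set N := normalizer (H : Set G)
  let X : Finset G := Finset.univ.filter fun x => x ∈ N ∧ x ∉ H
  have hX : ∀ x, x ∈ X ↔ x ∈ N ∧ x ∉ H := fun x => by simp [X]
  have hK : ∀ (x : G) (T : Finset G) (R : Subgroup G), x ∈ R → (H ⊔ closure (insert x T : Finset G) ≤ R ↔ H ⊔ closure T ≤ R) :=
    fun x T R hx => by simp [Set.insert_subset_iff, hx]
  have hN : ∀ T ∈ X.powerset, H ⊔ closure T ≤ N := fun T hT =>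
    sup_le le_normalizer ((closure_le _).2 fun x hx => ((hX x).1 (Finset.mem_powerset.1 hT hx)).1)
  have a1 := toggle X (fun T g => (∃ R : Subgroup G, IsPGroup p R ∧ H ⊔ closure T ≤ R ∧ g ∈ normalizer (R : Set G)) ∧ g ∉ N)
    fun g T ⟨⟨R, b1, b2, b3⟩, b4⟩ => by
      obtain ⟨M, c1, c2, c3⟩ := exists_minimal_le (P := fun R : Subgroup G => H ≤ R ∧ g ∈ normalizer (R : Set G))
        ⟨le_sup_left.trans b2, b3⟩
      obtain ⟨x, d1, d2, d3⟩ := exists_mem_normalizer_notMem (b1.to_le c1) (lt_of_le_of_ne c2.1 fun h => b4 (by subst h; exact c2.2))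
      refine ⟨x, (hX x).2 ⟨d2, d3⟩, fun T => and_congr_left' (exists_congr fun R => and_congr_right fun _ => and_congr_left
        fun h => ⟨fun h' => (sup_le_sup_left (Subgroup.closure_mono (by simp)) _).trans h', fun h' => (hK x T R ?_).2 h'⟩)⟩
      exact inf_eq_left.1 (c3 _ ⟨le_inf c2.1 (le_sup_left.trans h'), mem_normalizer_inf c2.2 h⟩ inf_le_left) d1
  have a2 := toggle X (fun T (Q : Sylow p G) => H ⊔ closure T ≤ Q) fun Q T b1 => by
    obtain ⟨x, d1, d2, d3⟩ := exists_mem_normalizer_notMem Q.2 (lt_of_le_of_ne (le_sup_left.trans b1) fun h =>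
      hS.ne (Q.3 S.2 (h ▸ hS.le) ▸ h))
    exact ⟨x, (hX x).2 ⟨d2, d3⟩, fun T => hK x T Q d1⟩
  have a3 := toggle X (fun T (Q : Sylow p N) => H ⊔ closure T ≤ (Q : Subgroup N).map N.subtype) fun Q T b1 => by
    obtain ⟨x, d1, d2⟩ := SetLike.exists_of_lt (lt_of_le_of_ne (le_sup_left.trans b1) fun h =>
      (lt_inf_normalizer S.2 hS).ne' ((h ▸ isSyl_map_subtype Q : IsSyl p H N).eq_of_le (S.2.to_le inf_le_left) inf_le_right
        (lt_inf_normalizer S.2 hS).le))
    exact ⟨x, (hX x).2 ⟨map_subtype_le _ d1, d2⟩, fun T => hK x T _ d1⟩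
  obtain ⟨P'⟩ : Nonempty (Sylow p N) := inferInstance
  have a4 : ∑ T ∈ X.powerset, (-1 : ℤ) ^ T.card * (Nat.card {g : G // ∃ R : Subgroup G, IsPGroup p R ∧ H ⊔ closure T ≤ R ∧
      g ∈ normalizer (R : Set G)} - Nat.card {Q : Sylow p G // H ⊔ closure T ≤ Q} *
        Nat.card (normalizer ((P : Subgroup G) : Set G))) = 0 := by
    have := congrArg₂ (· - ·) (congrArg₂ (· + ·) (congrArg (· * (Nat.card (normalizer ((P' : Subgroup N) : Set N)) : ℤ)) a3) a1)
      (congrArg (· * (Nat.card (normalizer ((P : Subgroup G) : Set G)) : ℤ)) a2)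
    simp only [Finset.sum_mul, ← Finset.sum_add_distrib, ← Finset.sum_sub_distrib, zero_mul, add_zero, sub_zero] at this
    refine (Finset.sum_congr rfl fun T hT => ?_).trans this
    have b1 := ih N (Solv.card_lt_of_ne_top h1) P' ((H ⊔ closure T).subgroupOf N)
    rw [cnt_congr (q := fun Q : Sylow p N => H ⊔ closure T ≤ (Q : Subgroup N).map N.subtype) fun Q => by
      rw [← map_subtype_le_map_subtype, subgroupOf_map_subtype_of_le (hN T hT)], cnt_eq_of_bij
      (q := fun g => (∃ R : Subgroup G, IsPGroup p R ∧ H ⊔ closure T ≤ R ∧ g ∈ normalizer (R : Set G)) ∧ g ∈ N) Subtype.val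
      (fun g ⟨R, c1, c2, c3⟩ => ⟨⟨R.map N.subtype, c1.map _, (subgroupOf_map_subtype_of_le (hN T hT)).ge.trans (map_mono c2),
        le_normalizer_map _ (mem_map_of_mem _ c3)⟩, g.2⟩) (fun _ _ _ _ => Subtype.ext)
      fun g ⟨⟨R, c1, c2, c3⟩, c4⟩ => ⟨⟨g, c4⟩, ⟨R.subgroupOf N, isPGroup_subgroupOf c1 _, subgroupOf_mono _ c2,
        le_normalizer_comap _ c3⟩, rfl⟩] at b1
    rw [cnt_split _ (· ∈ N), b1]
    push_cast
    ring
  rw [Finset.sum_eq_single ∅ (fun T hT h => by
    obtain ⟨x, hx⟩ := Finset.nonempty_iff_ne_empty.2 h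
    rw [ih2 _ (left_lt_sup.2 fun h => ((hX x).1 (Finset.mem_powerset.1 hT hx)).2 (h (subset_closure hx)))]
    simp) (by simp)] at a4
  rw [Finset.coe_empty, Subgroup.closure_empty, sup_bot_eq, Finset.card_empty, pow_zero, one_mul, sub_eq_zero] at a4
  exact_mod_cast a4
end

/-- Let G be a finite group, p a prime dividing the order of G, H a p-subgroup of G and P a Sylow p-subgroup of G. Call the subnormalizer of H the set of elements g of G such that H is subnormal in the subgroup generated by H and g. Then the number of elements of the subnormalizer of H equals the number of Sylow p-subgroups of G containing H times the order of N_G(P), and also equals the number of conjugates of H contained in P times the order of N_G(H). -/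
theorem result {G : Type*} [Group G] [Finite G] (p : ℕ) [Fact p.Prime]
    (hp : p ∣ Nat.card G) (H : Subgroup G) (hH : IsPGroup p H) (P : Sylow p G) :
    Nat.card {g : G // ((H).subgroupOf (H ⊔ Subgroup.zpowers g)).IsSubnormal} =
        Nat.card {Q : Sylow p G // H ≤ (Q : Subgroup G)} * Nat.card (Subgroup.normalizer ((P : Subgroup G) : Set G)) ∧
    Nat.card {g : G // ((H).subgroupOf (H ⊔ Subgroup.zpowers g)).IsSubnormal} =
        Nat.card {K : Subgroup G // K ≤ (P : Subgroup G) ∧ ∃ g : G, K = H.map (MulAut.conj g).toMonoidHom} *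
          Nat.card (Subgroup.normalizer (H : Set G)) := by
  open Pointwise commutatorElement Subgroup Cfsg.Agent.Solv in
  open Cfsg.Agent.Solv Cfsg.Agent.Transfer in
  rw [cnt_congr fun g => S4089.sub_iff hH, aux G P, and_iff_right rfl]
  rw [← cnt_eq_mul_of_fiber (p := fun g => cj g H ≤ P) (fun g => g⁻¹ • P) (fun g h => by
    rw [← cj_sylow]; exact cj_le_iff_le_cj_inv.1 h) fun Q hQ => ?_]
  · refine cnt_eq_mul_of_fiber (fun g => cj g H) (fun g h => ⟨h, g, rfl⟩) ?_
    rintro _ ⟨h, g, rfl⟩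
    refine cnt_eq_of_bij (fun k => g⁻¹ * k) (fun k hk => mem_normalizer_iff_cj.2 (by rw [← cj_cj, hk.2]; exact cj_inv_cj g H))
      (fun _ _ _ _ h => mul_left_cancel h) fun n hn => ⟨g * n, ?_, by simp⟩
    rw [← cj_cj, cj_eq_of_mem_normalizer hn]
    exact ⟨h, rfl⟩
  obtain ⟨g, rfl⟩ := MulAction.exists_smul_eq G P Q
  refine cnt_eq_of_bij (fun k => k * g) (fun k hk => Sylow.smul_eq_iff_mem_normalizer.1 (by rw [mul_smul, ← hk.2, smul_inv_smul]))
    (fun _ _ _ _ h => mul_right_cancel h) fun n hn => ⟨n * g⁻¹, ?_, by simp⟩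
  rw [cj_le_iff_le_cj_inv, cj_sylow, mul_inv_rev, inv_inv, mul_smul, Sylow.smul_eq_iff_mem_normalizer.2 (inv_mem hn)]
  exact ⟨hQ, rfl⟩

end Cfsg.Agent.S4088
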