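import Cfsg.Statements.S4092
import Cfsg.Agent.Lib.Transfer.Count
import Cfsg.Agent.Lib.BG.Pgp

set_option autoImplicit false
open Cfsg

namespace Cfsg.Agent.S4092

/-- Let G be a finite group, p a prime and P a Sylow p-subgroup of G that is not normal in G. Then G has at least p·#P elements of p-power order (the identity included). -/
theorem result {G : Type*} [Group G] [Finite G] (p : ℕ) [Fact p.Prime]
    (P : Sylow p G) (hP : ¬ (P : Subgroup G).Normal) :
    p * Nat.card (P : Subgroup G) ≤ Nat.card {g : G // ∃ k : ℕ, orderOf g = p ^ k} := by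
  open Pointwise commutatorElement Subgroup in
  open Cfsg.Agent.Transfer Cfsg.Agent.Solv in
  have hp : p.Prime := Fact.out
  obtain ⟨Q, hQ⟩ : ∃ Q : Sylow p G, Q ≠ P := by
    by_contra h
    push Not at h
    exact hP (normalizer_eq_top_iff.1 (eq_top_iff.2 fun g _ => Sylow.smul_eq_iff_mem_normalizer.1 (h _)))
  obtain ⟨D, -, ⟨S, T, hST, rfl⟩, hmax⟩ := exists_maximal_ge
    (P := fun D : Subgroup G => ∃ S T : Sylow p G, S ≠ T ∧ D = (S : Subgroup G) ⊓ T) ⟨Q, P, hQ, rfl⟩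
  set D := (S : Subgroup G) ⊓ T with hD
  have hDp : IsPGroup p D := S.isPGroup'.to_inf_left
  have h1 : Nat.card {R : Sylow p G // D ≤ R} ≡ 1 [MOD p] := by
    rw [← cnt_congr fun R => hDp.sylow_mem_fixedPoints_iff (Q := R)]
    exact (hDp.card_modEq_card_fixedPoints (Sylow p G)).symm.trans (card_sylow_modEq_one p G)
  have h2 : 2 ≤ Nat.card {R : Sylow p G // D ≤ R} := by
    rw [← cnt_eq_two (p := fun R => R = S ∨ R = T) hST fun _ => Iff.rfl]
    refine cnt_mono ?_
    rintro R (rfl | rfl)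
    exacts [inf_le_left, inf_le_right]
  have h3 : p + 1 ≤ Nat.card {R : Sylow p G // D ≤ R} := by
    have := (Nat.modEq_iff_dvd' (by omega)).1 h1.symm
    have := Nat.le_of_dvd (by omega) this
    omega
  have hc : ∀ R : Sylow p G, Nat.card R = Nat.card P := fun R => by
    rw [R.card_eq_multiplicity, P.card_eq_multiplicity]
  have h4 := cnt_mul_le (p := fun R : Sylow p G => D ≤ R) (q := fun g : G => (∃ k : ℕ, orderOf g = p ^ k) ∧ g ∉ D)
    (fun R g => g ∈ (R : Subgroup G)) (m := Nat.card P - Nat.card D) (n := 1) (by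
      intro R hR
      have e := cnt_split (fun g => g ∈ (R : Subgroup G)) (fun g => g ∈ D)
      rw [cnt_congr (p := fun g => g ∈ (R : Subgroup G) ∧ g ∈ D) (q := fun g => g ∈ D) fun g => ⟨fun h => h.2, fun h => ⟨hR h, h⟩⟩] at e
      rw [cnt_congr (p := fun b => ((∃ k, orderOf b = p ^ k) ∧ b ∉ D) ∧ b ∈ (R : Subgroup G)) (q := fun g => g ∈ (R : Subgroup G) ∧ g ∉ D) fun g =>
        ⟨fun h => ⟨h.2, h.1.2⟩, fun h => ⟨⟨exists_orderOf_eq_pow R.isPGroup' h.1, h.2⟩, h.1⟩⟩, ← hc R]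
      exact Nat.sub_le_iff_le_add'.2 e.le) (by
      rintro g ⟨-, hg⟩
      rw [Finite.card_le_one_iff_subsingleton]
      refine ⟨fun ⟨R, hR1, hR2⟩ ⟨R', hR3, hR4⟩ => Subtype.ext ?_⟩
      by_contra hne
      have := hmax _ ⟨R, R', hne, rfl⟩ (le_inf hR1 hR3)
      exact hg (this ▸ ⟨hR2, hR4⟩))
  have h5 := cnt_split (fun g : G => ∃ k : ℕ, orderOf g = p ^ k) (fun g => g ∈ D)
  rw [cnt_congr (p := fun g : G => (∃ k : ℕ, orderOf g = p ^ k) ∧ g ∈ D) (q := fun g => g ∈ D) fun g =>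
    ⟨fun h => h.2, fun h => ⟨exists_orderOf_eq_pow hDp h, h⟩⟩] at h5
  have h6 : p * Nat.card D ≤ Nat.card P := by
    rw [← hc S]
    refine BG.mul_card_le_of_lt S.isPGroup' (lt_of_le_of_ne inf_le_left fun e => hST ?_)
    exact Sylow.ext (S.is_maximal' T.isPGroup' (inf_eq_left.1 e)).symm
  have h7 := Nat.mul_le_mul_right (Nat.card P - Nat.card D) h3
  have h8 : Nat.card D ≤ Nat.card P := le_trans (Nat.le_mul_of_pos_left _ hp.pos) h6
  obtain ⟨m, hm⟩ := Nat.exists_eq_add_of_le h8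
  change Nat.card {g : G // ∃ k : ℕ, orderOf g = p ^ k} = Nat.card D + _ at h5
  rw [hm, Nat.add_sub_cancel_left] at h4 h7
  rw [hm] at h6 ⊢
  nlinarith

end Cfsg.Agent.S4092
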