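import Cfsg.Statements.S4093
import Cfsg.Agent.Lib.Transfer.Count
import Cfsg.Agent.Lib.Solv.PCyc

set_option autoImplicit false
open scoped BigOperators
open Cfsg

namespace Cfsg.Agent.S4093

/-- Let G be a finite group with a normal subgroup N complementing a Sylow p-subgroup P (a normal p-complement). Then the number of elements of G of p-power order equals the sum over x ∈ P of the index of C_N(x) in N. -/
theorem result {G : Type*} [Group G] [Finite G] (p : ℕ) [Fact p.Prime]
    (P : Sylow p G) (N : Subgroup G) [N.Normal] (hNP : N.IsComplement' (P : Subgroup G)) :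
    Nat.card {g : G // ∃ k : ℕ, orderOf g = p ^ k} =
      ∑ᶠ x : (P : Subgroup G), Nat.card N / Nat.card ↥(N ⊓ Subgroup.centralizer ({(x : G)} : Set G)) := by
  open Pointwise commutatorElement Subgroup Cfsg.Agent.Solv in
  open Cfsg.Agent.Transfer in
  classical
  have := Fintype.ofFinite G
  rw [finsum_eq_sum_of_fintype]
  have h1 : ∀ x : (P : Subgroup G), Nat.card N / Nat.card ↥(N ⊓ Subgroup.centralizer ({(x : G)} : Set G)) =
      Nat.card {y : G // ∃ h ∈ N, h * x * h⁻¹ = y} := fun x => by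
    rw [← card_class_mul N x, Nat.mul_div_cancel _ Nat.card_pos]
  rw [Finset.sum_congr rfl fun x _ => h1 x, cnt_double (fun (x : (P : Subgroup G)) (y : G) => ∃ h ∈ N, h * x * h⁻¹ = y),
    sum_cnt_eq_mul (p := fun g : G => ∃ k : ℕ, orderOf g = p ^ k) (m := 1), mul_one]
  · rintro y ⟨k, hk⟩
    obtain ⟨g, hg⟩ := exists_conj_mem_sylow P (x := y) (k := k) (by rw [← hk, pow_orderOf_eq_one])
    obtain ⟨n, hn, u, hu, e⟩ := Solv.IsComplement'.exists_mul hNP g⁻¹
    have h2 : n⁻¹ * y * n ∈ (P : Subgroup G) := by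
      have := mul_mem (mul_mem hu hg) (inv_mem hu)
      rw [← inv_inv g, e] at this
      simpa [mul_assoc] using this
    rw [← cnt_eq_one (⟨_, h2⟩ : (P : Subgroup G))]
    refine cnt_congr fun x => ⟨?_, ?_⟩
    · rintro ⟨m, hm, rfl⟩
      apply Subtype.ext
      rw [← mul_inv_eq_one, ← mem_bot, ← Solv.IsComplement'.inf_eq_bot hNP]
      refine ⟨?_, mul_mem x.2 ((P : Subgroup G).inv_mem h2)⟩
      have := mul_mem (‹N.Normal›.conj_mem _ (mul_mem (inv_mem hn) hm) x) (mul_mem (inv_mem hm) hn)
      simpa [mul_assoc] using this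
    · rintro rfl
      exact ⟨n, hn, by simp [mul_assoc]⟩
  · intro y hy
    refine cnt_eq_zero ?_
    rintro x ⟨m, -, rfl⟩
    exact hy ((exists_orderOf_eq_pow P.isPGroup' x.2).imp fun k hk => by
      rw [IsConj.orderOf_eq' (isConj_conj m (x : G)), hk])

end Cfsg.Agent.S4093
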