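import Cfsg.Statements.S4104
import Cfsg.Agent.Lib.Fusion.Kc5

set_option autoImplicit false
open Cfsg

namespace Cfsg.Agent.S4104

/-- Let G be a finite group, π a set of primes with least member p, m the π-part of the order of G and k the number of conjugacy classes of G consisting of π-elements (elements whose order is divisible only by primes in π). If k > m/p, then G has a nilpotent Hall π-subgroup (a nilpotent subgroup of order m) whose derived subgroup has order at most p. -/
theorem result {G : Type*} [Group G] [Finite G]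
    (π : Set ℕ) (hπ : ∀ q ∈ π, q.Prime) (p : ℕ) (hp : p ∈ π) (hmin : ∀ q ∈ π, p ≤ q)
    (m : ℕ) (hm : m ∣ Nat.card G) (hmπ : ∀ q : ℕ, q.Prime → q ∣ m → q ∈ π)
    (hm' : ∀ q ∈ π, ¬ q ∣ Nat.card G / m)
    (k : ℕ) (hk : k = Nat.card {C : ConjClasses G // ∀ q : ℕ, q.Prime → (∃ g : G, ConjClasses.mk g = C ∧ q ∣ orderOf g) → q ∈ π})
    (hmany : m < p * k) :
    ∃ H : Subgroup G, Nat.card H = m ∧ Group.IsNilpotent H ∧ Nat.card (commutator H) ≤ p := by
  open Subgroup Cfsg.Agent.Kc Cfsg.Agent.Transfer in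
  obtain ⟨h1, h2⟩ := reduce hm hmπ hm'
  have hs : ∀ r ∈ m.primeFactors, r.Prime := fun r hr => Nat.prime_of_mem_primeFactors hr
  have hs' : ∀ r ∈ m.primeFactors, p ≤ r := fun r hr =>
    hmin r (hmπ r (hs r hr) (Nat.dvd_of_mem_primeFactors hr))
  have h3 : k ≤ kp m.primeFactors (⊤ : Subgroup G) := hk ▸ h2
  obtain ⟨H, h5, h6⟩ := main _ hs G p hs' (h1 ▸ hmany.trans_le (Nat.mul_le_mul_left _ h3))
  have h7 : Nat.card H = m := by rw [h5.card, card_top, ← h1]
  refine ⟨H, h7, h6, card_commutator_le (hπ p hp).pos (fun r hr h => hs' r (h5.mem hs hr h)) ?_⟩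
  rw [h7, ← cl_self]
  exact hmany.trans_le (Nat.mul_le_mul_left _ (h3.trans ((kp_le_cl hs h5 h6).trans (cl_anti le_top _))))

end Cfsg.Agent.S4104
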