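import Cfsg.Statements.S4105
import Cfsg.Agent.Lib.Fusion.Kc5

set_option autoImplicit false
open Cfsg

namespace Cfsg.Agent.S4105

/-- Let G be a finite group, π a set of primes with least member p, m the π-part of the order of G and k the number of conjugacy classes of G consisting of π-elements. If k > m·(p² + p − 1)/p³, then G has an abelian Hall π-subgroup (an abelian subgroup of order m). -/
theorem result {G : Type*} [Group G] [Finite G]
    (π : Set ℕ) (hπ : ∀ q ∈ π, q.Prime) (p : ℕ) (hp : p ∈ π) (hmin : ∀ q ∈ π, p ≤ q)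
    (m : ℕ) (hm : m ∣ Nat.card G) (hmπ : ∀ q : ℕ, q.Prime → q ∣ m → q ∈ π)
    (hm' : ∀ q ∈ π, ¬ q ∣ Nat.card G / m)
    (k : ℕ) (hk : k = Nat.card {C : ConjClasses G // ∀ q : ℕ, q.Prime → (∃ g : G, ConjClasses.mk g = C ∧ q ∣ orderOf g) → q ∈ π})
    (hmany : m * (p ^ 2 + p - 1) < p ^ 3 * k) :
    ∃ H : Subgroup G, Nat.card H = m ∧ IsMulCommutative H := by
  open Subgroup Cfsg.Agent.Kc Cfsg.Agent.Transfer in
  obtain ⟨h1, h2⟩ := reduce hm hmπ hm'
  have hs : ∀ r ∈ m.primeFactors, r.Prime := fun r hr => Nat.prime_of_mem_primeFactors hr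
  have hs' : ∀ r ∈ m.primeFactors, p ≤ r := fun r hr =>
    hmin r (hmπ r (hs r hr) (Nat.dvd_of_mem_primeFactors hr))
  have h3 : k ≤ kp m.primeFactors (⊤ : Subgroup G) := hk ▸ h2
  have hp2 := (hπ p hp).two_le
  have h4 : m < p * k := by
    refine Nat.lt_of_mul_lt_mul_right (a := p ^ 2) (lt_of_le_of_lt ?_ (hmany.trans_eq (by ring)))
    exact Nat.mul_le_mul_left _ (by omega)
  obtain ⟨H, h5, h6⟩ := main _ hs G p hs' (h1 ▸ h4.trans_le (Nat.mul_le_mul_left _ h3))
  have h7 : Nat.card H = m := by rw [h5.card, card_top, ← h1]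
  refine ⟨H, h7, le_centralizer_iff_isMulCommutative.1 (by_contra fun h8 => ?_)⟩
  have h9 := cl_noncomm (by omega : 0 < p) (fun r hr h => hs' r (h5.mem hs hr h)) h8
  have h10 : (k : ℚ) ≤ cl H (H : Set G) := by
    exact_mod_cast h3.trans ((kp_le_cl hs h5 h6).trans (cl_anti le_top _))
  have h11 : (m : ℚ) * (p ^ 2 + p - 1) < p ^ 3 * k := by
    have : ((p ^ 2 + p - 1 : ℕ) : ℚ) = p ^ 2 + p - 1 := by
      rw [Nat.cast_sub (by omega)]; push_cast; ring
    rw [← this]
    exact_mod_cast hmany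
  rw [h7] at h9
  have := mul_le_mul_of_nonneg_left h10 (by positivity : (0 : ℚ) ≤ p ^ 3)
  linarith

end Cfsg.Agent.S4105
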