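import Cfsg.Statements.S4106
import Cfsg.Agent.Lib.Solv.KPi

set_option autoImplicit false
open Cfsg

namespace Cfsg.Agent.S4106

/-- Let G be a finite group, π a set of primes and m the π-part of the order of G. Then the number of conjugacy classes of G consisting of π-elements (elements whose order is divisible only by primes in π) is at most m. -/
theorem result {G : Type*} [Group G] [Finite G]
    (π : Set ℕ) (hπ : ∀ q ∈ π, q.Prime)
    (m : ℕ) (hm : m ∣ Nat.card G) (hmπ : ∀ q : ℕ, q.Prime → q ∣ m → q ∈ π)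
    (hm' : ∀ q ∈ π, ¬ q ∣ Nat.card G / m) :
    Nat.card {C : ConjClasses G // ∀ q : ℕ, q.Prime → (∃ g : G, ConjClasses.mk g = C ∧ q ∣ orderOf g) → q ∈ π} ≤ m := by
  open Pointwise commutatorElement Subgroup Cfsg.Agent.Solv in
  open Cfsg.Agent.Transfer in
  have h0 : Nat.card G ≠ 0 := Nat.card_pos.ne'
  have hm0 := ne_zero_of_dvd_ne_zero h0 hm
  have h1 := Nat.mul_div_cancel' hm
  show kPi π G ≤ m
  refine Nat.le_of_mul_le_mul_right ?_ (Nat.card_pos (α := G))
  rw [kPi_mul, mul_comm, ← card_top (G := G)]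
  refine le_trans (cnt_mono fun z hz => ⟨trivial, fun q hq h2 => ?_, trivial, hz.2⟩)
    (pairs_le_mul m.primeFactors (fun q hq => Nat.prime_of_mem_primeFactors hq) ⊤ m hm0 fun q hq => ?_)
  swap
  · have h3 := h2.trans (orderOf_dvd_natCard z.1)
    rw [← h1] at h3
    exact Nat.mem_primeFactors.2 ⟨hq, ((Nat.Prime.dvd_mul hq).1 h3).resolve_right (hm' q (hz.1 q hq h2)), hm0⟩
  · have hq' := Nat.prime_of_mem_primeFactors hq
    refine (((hq'.coprime_iff_not_dvd).2 (hm' q (hmπ q hq' (Nat.dvd_of_mem_primeFactors hq)))).pow_left _).dvd_of_dvd_mul_right ?_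
    rw [h1, card_top]
    exact Nat.ordProj_dvd _ _

end Cfsg.Agent.S4106
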