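import Cfsg.Statements.S4107
import Cfsg.Agent.Lib.Solv.Cores

set_option autoImplicit false
open Cfsg

namespace Cfsg.Agent.S4107

/-- Let G be a finite group and N a proper non-trivial normal subgroup such that for every x outside N all elements of the coset xN have the same order as x. Then N ≤ F(G) or F(G) ≤ N, where F(G) is the Fitting subgroup; and if N is properly contained in F(G) then F(G) has prime-power order. -/
theorem result {G : Type*} [Group G] [Finite G] (N : Subgroup G) [N.Normal] (hN1 : N ≠ ⊥) (hN2 : N ≠ ⊤)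
    (heq : ∀ x : G, x ∉ N → ∀ n ∈ N, orderOf (x * n) = orderOf x) :
    (N ≤ Cfsg.fittingSubgroup G ∨ Cfsg.fittingSubgroup G ≤ N) ∧
    (N < Cfsg.fittingSubgroup G → IsPrimePow (Nat.card (Cfsg.fittingSubgroup G))) := by
  open Pointwise commutatorElement Subgroup Cfsg.Agent.Solv in
  have h1 : ∀ p : ℕ, p.Prime → ¬ pCore p G ≤ N → IsPGroup p N := fun p hp h => by
    haveI := Fact.mk hp
    obtain ⟨x, hx, hx'⟩ := SetLike.not_le_iff_exists.1 h
    refine isPGroup_iff_forall_mem.2 fun n hn => ?_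
    obtain ⟨k, hk⟩ := isPGroup_iff_forall_mem.1 (isPGroup_pCore p G) x hx
    have h2 : n ^ p ^ k ∈ pCore p G := by
      rw [← orderOf_dvd_iff_pow_eq_one, ← heq x hx' n hn, orderOf_dvd_iff_pow_eq_one] at hk
      rw [← QuotientGroup.eq_one_iff] at hx ⊢
      have := congrArg (QuotientGroup.mk' (pCore p G)) hk
      simpa [hx] using this
    obtain ⟨j, hj⟩ := isPGroup_iff_forall_mem.1 (isPGroup_pCore p G) _ h2
    exact ⟨k + j, by rw [pow_add, pow_mul, hj]⟩
  have h2 : ¬ fittingSubgroup G ≤ N → ∃ p : ℕ, p.Prime ∧ IsPGroup p N := fun h => by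
    by_contra h3
    exact h (fitting_le_of_forall_pCore fun p hp => by_contra fun h4 => h3 ⟨p, hp, h1 p hp h4⟩)
  refine ⟨or_iff_not_imp_right.2 fun h => ?_, fun h => ?_⟩
  · obtain ⟨p, hp, h3⟩ := h2 h
    haveI := Fact.mk hp
    exact le_fitting h3.isNilpotent
  obtain ⟨p, hp, h3⟩ := h2 h.not_ge
  haveI := Fact.mk hp
  have h4 : fittingSubgroup G ≤ pCore p G := fitting_le_of_forall_pCore fun q hq => by
    by_cases h4 : pCore q G ≤ N
    · exact h4.trans (le_pCore h3)
    · haveI := Fact.mk hq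
      rw [eq_of_isPGroup_of_dvd h3 hq (dvd_card_of_isPGroup (h1 q hq h4) hN1)]
  obtain ⟨n, hn⟩ := ((isPGroup_pCore p G).to_le h4).exists_card_eq
  rw [hn]
  refine hp.isPrimePow.pow ?_
  rintro rfl
  exact ne_bot_of_gt h (card_eq_one.1 hn)

end Cfsg.Agent.S4107
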