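import Cfsg.Statements.S4108
import Cfsg.Agent.Lib.Solv.Schmidt
import Cfsg.Agent.Lib.Solv.Frob

set_option autoImplicit false
open Cfsg

namespace Cfsg.Agent.S4108

/-- Let G be a finite group, p a prime and N a proper non-trivial normal p-subgroup such that for every x outside N all elements of the coset xN have the same order as x. Then every non-trivial subgroup H of G of order prime to p acts fixed-point-freely on N: NH is a Frobenius group with complement H and kernel N. -/
theorem result {G : Type*} [Group G] [Finite G] (N : Subgroup G) [N.Normal] (hN1 : N ≠ ⊥) (hN2 : N ≠ ⊤)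
    (heq : ∀ x : G, x ∉ N → ∀ n ∈ N, orderOf (x * n) = orderOf x)
    (p : ℕ) [Fact p.Prime] (hNp : IsPGroup p N) :
    ∀ H : Subgroup G, H ≠ ⊥ → (Nat.card H).Coprime p →
      Cfsg.IsFrobeniusComplement (H.subgroupOf (N ⊔ H)) ∧ Cfsg.frobeniusKernel (H.subgroupOf (N ⊔ H)) = (N.subgroupOf (N ⊔ H) : Set ↥(N ⊔ H)) := by
  open Pointwise commutatorElement Subgroup Cfsg.Agent.Solv in
  intro H h0 hc
  have hf : ∀ h ∈ H, h ≠ 1 → N ⊓ centralizer {h} = ⊥ := by
    intro h hh h1
    rw [fpf_iff]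
    intro k hk hcomm
    have hd : N ⊓ H = ⊥ := inf_eq_bot_of_coprime' (coprime_card_of_isPGroup' hNp hc).symm
    have hn : h ∉ N := fun h' => h1 (mem_bot.1 (hd ▸ mem_inf.2 ⟨h', hh⟩))
    have e := heq h hn k hk
    have h2 : (h * k) ^ orderOf h = 1 := by rw [← e, pow_orderOf_eq_one]
    rw [Commute.mul_pow hcomm, pow_orderOf_eq_one, one_mul] at h2
    rw [← orderOf_eq_one_iff]
    exact Nat.eq_one_of_dvd_coprimes (coprime_card_of_isPGroup' hNp hc)
      ((orderOf_dvd_of_pow_eq_one h2).trans (orderOf_dvd_card_of_mem hh)) (orderOf_dvd_card_of_mem hk)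
  have hs : N.subgroupOf (N ⊔ H) ⊔ H.subgroupOf (N ⊔ H) = ⊤ := by
    rw [← subgroupOf_sup le_sup_left le_sup_right, subgroupOf_self]
  exact ⟨isFrobeniusComplement_of_fpf hs (subgroupOf_ne_bot le_sup_left hN1) (subgroupOf_ne_bot le_sup_right h0)
    (fpf_subgroupOf _ hf), frobeniusKernel_eq_of_normal hs (fpf_subgroupOf _ hf)⟩

end Cfsg.Agent.S4108
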