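import Cfsg.Statements.S4112
import Cfsg.Agent.Lib.Transfer.Count
import Cfsg.Agent.Lib.Solv.Schmidt
import Cfsg.Agent.Lib.Comp.SylIn

set_option autoImplicit false
open Cfsg

namespace Cfsg.Agent.S4112

/-- Let G be a finite group and M ≤ N non-trivial proper normal subgroups such that for every g outside N the conjugacy class of g is a union of cosets of M (equivalently gm is conjugate to g for every m ∈ M). Then (1) and (2) below are equivalent, and they imply (3): (1) every g outside N acts fixed-point-freely on M, that is C_G(x) ≤ N for every x ∈ M, x ≠ 1; (2) the index of N in G is coprime to the order of M; (3) there is a subgroup H of G with HN = G and H ∩ M = 1. -/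
theorem result {G : Type*} [Group G] [Finite G] (N M : Subgroup G) [N.Normal] [M.Normal] (hMN : M ≤ N) (hM1 : M ≠ ⊥) (hN2 : N ≠ ⊤)
    (hcam : ∀ g : G, g ∉ N → ∀ m ∈ M, ∃ x : G, x * g * x⁻¹ = g * m) :
    ((∀ x ∈ M, x ≠ 1 → Subgroup.centralizer ({x} : Set G) ≤ N) ↔ N.index.Coprime (Nat.card M)) ∧
    ((∀ x ∈ M, x ≠ 1 → Subgroup.centralizer ({x} : Set G) ≤ N) → ∃ H : Subgroup G, H ⊔ N = ⊤ ∧ H ⊓ M = ⊥) := by
  open Pointwise commutatorElement Subgroup Cfsg.Agent.Solv in
  have h1 : (∀ x ∈ M, x ≠ 1 → Subgroup.centralizer ({x} : Set G) ≤ N) → N.index.Coprime (Nat.card M) := by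
    intro h
    refine Nat.coprime_of_dvd fun q hq h1 h2 => ?_
    haveI := Fact.mk hq
    obtain ⟨P⟩ := (inferInstance : Nonempty (Sylow q G))
    have h3 := ((isSylowIn_top P).inf_normal le_top (N := M) le_normalizer_of_normal).ne_bot h2
    obtain ⟨x, ⟨⟨-, hx1⟩, hx2⟩, hx⟩ := exists_ne_one_of_ne_bot (inf_centralizer_ne_bot_of_nilpotent
      P.isPGroup'.isNilpotent inf_le_left (le_normalizer_inf le_normalizer le_normalizer_of_normal) h3)
    exact P.not_dvd_index (h1.trans (index_dvd_of_le ((Comp.le_centralizer_singleton_iff.2 hx2).trans (h x hx1 hx))))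
  refine ⟨⟨h1, fun h x hx hx1 g hg => ?_⟩, fun h => ?_⟩
  · by_contra hn
    obtain ⟨q, hq, -, y, hy, hyq, hyn⟩ := exists_prime_pow_notMem hn
    haveI := Fact.mk hq
    have hyx : Commute y x := mem_centralizer_singleton_iff.1 (zpowers_le.2 hg hy)
    obtain ⟨c, hc⟩ := hcam y hyn x hx
    have h2 : (y * x) ^ orderOf y = 1 := by rw [← hc, conj_pow, pow_orderOf_eq_one]; simp
    rw [hyx.mul_pow, pow_orderOf_eq_one, one_mul] at h2
    have h3 : q ∣ N.index := by
      by_contra h3
      exact hyn (zpowers_le.1 (le_of_coprime_index (coprime_card_of_isPGroup hyq h3)))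
    have h4 : ¬ q ∣ Nat.card M := fun h4 => hq.one_lt.ne' (Nat.eq_one_of_dvd_coprimes h h3 h4)
    apply hx1
    rw [← orderOf_eq_one_iff]
    exact Nat.eq_one_of_dvd_coprimes (coprime_card_of_isPGroup hyq h4)
      (by rw [Nat.card_zpowers]; exact orderOf_dvd_of_pow_eq_one h2) (orderOf_dvd_card_of_mem hx)
  · obtain ⟨H, -, hH, hmin⟩ := exists_minimal_le (P := fun H : Subgroup G => H ⊔ N = ⊤) (N := ⊤) (top_sup_eq N)
    refine ⟨H, hH, inf_eq_bot_of_coprime' (Nat.coprime_of_dvd fun q hq h2 h3 => ?_)⟩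
    have h4 := inf_le_map_frattini_of_minimal hH hmin
    have h5 := dvd_index_frattini hq h2
    have h6 : (frattini H).index ∣ N.index := by
      rw [← relIndex_top_right N, ← hH, relIndex_sup_right]
      refine index_dvd_of_le fun x hx => ?_
      obtain ⟨y, hy, e⟩ := h4 ⟨x.2, hx⟩
      exact (Subtype.ext e : y = x) ▸ hy
    exact hq.one_lt.ne' (Nat.eq_one_of_dvd_coprimes (h1 h) (h5.trans h6) h3)

end Cfsg.Agent.S4112
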