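import Cfsg.Statements.S4113
import Cfsg.Agent.Lib.Solv.Frob

set_option autoImplicit false
open Cfsg

namespace Cfsg.Agent.S4113

/-- Let G be a finite group, M ≤ N non-trivial proper normal subgroups, and H a subgroup with HM = G and H ∩ M = 1. Then every element of G outside N acts fixed-point-freely on M (C_G(x) ≤ N for every x ∈ M, x ≠ 1) if and only if H ∩ gHg⁻¹ ≤ H ∩ N for every g outside H, with H proper and non-trivial and H ∩ N proper in H. -/
theorem result {G : Type*} [Group G] [Finite G] (N M : Subgroup G) [N.Normal] [M.Normal] (hMN : M ≤ N) (hM1 : M ≠ ⊥) (hN2 : N ≠ ⊤)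
    (H : Subgroup G) (hHM : H ⊔ M = ⊤) (hHM' : H ⊓ M = ⊥) :
    (∀ x ∈ M, x ≠ 1 → Subgroup.centralizer ({x} : Set G) ≤ N) ↔
      (H ≠ ⊥ ∧ H ≠ ⊤ ∧ H ⊓ N < H ∧ ∀ g : G, g ∉ H → H ⊓ H.map (MulAut.conj g).toMonoidHom ≤ N) := by
  open Pointwise commutatorElement Subgroup Cfsg.Agent.Solv in
  constructor
  · intro h
    refine ⟨?_, ?_, lt_of_le_of_ne inf_le_left fun h1 => hN2 (top_le_iff.1 (hHM ▸ sup_le (inf_eq_left.1 h1) hMN)), ?_⟩
    · rintro rfl
      exact hN2 (top_le_iff.1 (by simpa [← hHM] using hMN))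
    · rintro rfl
      exact hM1 (by simpa using hHM')
    intro g hg x hx
    obtain ⟨h1, h2⟩ := mem_inf.1 hx
    obtain ⟨m, hm, a, ha, rfl⟩ := (mem_sup_of_le_normalizer' (H := H) (N := M) le_normalizer_of_normal).1
      (sup_comm H M ▸ hHM ▸ mem_top g)
    have h3 : x⁻¹ * (m⁻¹ * x * m) ∈ H ⊓ M := mem_inf.2 ⟨mul_mem (inv_mem h1) (by
      simpa [mul_assoc] using mul_mem (mul_mem ha (mem_map_conj.1 h2)) (inv_mem ha)), by
      simpa [mul_assoc] using mul_mem (Normal.conj_mem' inferInstance _ (inv_mem hm) x) hm⟩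
    rw [hHM', mem_bot, inv_mul_eq_one, mul_assoc, eq_inv_mul_iff_mul_eq] at h3
    exact h m hm (by rintro rfl; exact hg (by simpa)) (mem_centralizer_singleton.2 h3)
  · rintro ⟨-, -, -, h⟩ x hx h1 y hy
    by_contra h2
    obtain ⟨m, hm, a, ha, rfl⟩ := (mem_sup_of_le_normalizer' (H := H) (N := M) le_normalizer_of_normal).1
      (sup_comm H M ▸ hHM ▸ mem_top y)
    have h3 : M ⊓ centralizer {a} = ⊥ := fpf_iff.2 fun k hk h3 => by_contra fun h4 => h2 (mul_mem (hMN hm)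
      (h k (fun h5 => h4 (mem_bot.1 (hHM' ▸ mem_inf.2 ⟨h5, hk⟩))) ⟨ha, mem_map_conj.2 (by rwa [mul_assoc, h3, inv_mul_cancel_left])⟩))
    obtain ⟨z, hz, h4⟩ := exists_conj_eq_mul_of_fpf (le_normalizer_of_normal (mem_top a)) h3 hm
    have h5 := eq_one_of_fpf h3 (Normal.conj_mem' inferInstance x hx z) (by
      have := mem_centralizer_singleton.1 hy
      rw [← h4] at this
      calc a * (z⁻¹ * x * z) = z⁻¹ * (z * a * z⁻¹ * x) * z := by group
        _ = _ := by rw [← this]; group)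
    exact h1 (by simpa [mul_assoc, inv_mul_eq_one] using h5)

end Cfsg.Agent.S4113
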