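import Cfsg.Statements.S4116
import Cfsg.Agent.Lib.Solv.Frob3
import Cfsg.Agent.S4387

set_option autoImplicit false
open Cfsg

namespace Cfsg.Agent.S4116

/-- Let G be a finite group with a subgroup H whose order is coprime to its index (a Hall subgroup) and which meets each of its conjugates by elements outside N_G(H) trivially. Then every subgroup of G whose order is divisible only by primes dividing the order of H lies in a conjugate of H. -/
theorem result {G : Type*} [Group G] [Finite G] (H : Subgroup G)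
    (hHall : (Nat.card H).Coprime H.index) (hTI : Cfsg.IsTISubset (H : Set G))
    (K : Subgroup G) (hK : ∀ q : ℕ, q.Prime → q ∣ Nat.card K → q ∣ Nat.card H) :
    ∃ g : G, K ≤ H.map (MulAut.conj g).toMonoidHom := by
  open Pointwise commutatorElement Subgroup Cfsg.Agent.Solv in
  open Cfsg.Agent.Transfer in
  have h1 : ∀ (g : G) (L : Subgroup G), L ≤ K → L ≤ normalizer ((MulAut.conj g • H : Subgroup G) : Set G) →
      L ≤ MulAut.conj g • H := fun g L a1 a2 => by
    refine le_of_forall_isSyl_le fun q hq a3 => ?_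
    haveI := Fact.mk hq
    obtain ⟨S, hS⟩ := exists_isSyl q L
    obtain ⟨T, hT⟩ := exists_isSyl q (MulAut.conj g • H)
    have a4 := hT.of_hall (L := ⊤) le_top (by rwa [relIndex_top_right, card_conj_smul, index_conj_smul])
      (by rw [card_conj_smul]; exact hK q hq (a3.trans (card_dvd_of_le a1)))
    obtain ⟨n, hn, a5⟩ := (a4.mono (hT.le.trans le_normalizer) le_top).exists_cj_le hS.pgroup (hS.le.trans a2)
    refine ⟨S, hS, (cj_le_iff_le_cj_inv.1 (a5.trans hT.le)).trans (cj_eq_of_mem_normalizer (inv_mem hn)).le⟩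
  have h2 : ∀ g k x : G, k ∈ K → x ≠ 1 → x ∈ MulAut.conj g • H → k * x * k⁻¹ ∈ MulAut.conj g • H → k ∈ MulAut.conj g • H := by
    intro g k x a1 a2 a3 a4
    refine zpowers_le.1 (h1 g _ (zpowers_le.2 a1) (zpowers_le.2 ?_))
    rw [normalizer_conj_smul, mem_conj_smul]
    by_contra a5
    exact a2 (by simpa [mul_assoc, inv_mul_eq_one] using hTI _ a5 _ (mem_conj_smul.1 a3) (by
      simpa [mul_assoc] using mem_conj_smul.1 a4))
  have h3 : ∀ x ∈ K, ∃ g : G, x ∈ MulAut.conj g • H := fun x hx => by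
    by_cases a1 : x = 1
    · exact ⟨1, by rw [a1]; exact one_mem _⟩
    obtain ⟨q, hq, a2⟩ := exists_prime_dvd_card (zpowers_ne_bot.2 a1)
    haveI := Fact.mk hq
    obtain ⟨y, hy⟩ := exists_prime_orderOf_dvd_card' q a2
    obtain ⟨T, hT⟩ := exists_isSyl q H
    obtain ⟨g, -, a3⟩ := (hT.of_hall (L := ⊤) le_top (by rwa [relIndex_top_right])
      (hK q hq (a2.trans (card_dvd_of_le (zpowers_le.2 hx))))).exists_cj_le
      (isPGroup_zpowers_of_orderOf (k := 1) (x := (y : G)) (by simpa using hy)) le_top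
    have a4 : (y : G) ∈ MulAut.conj g⁻¹ • H :=
      cj_eq_smul g⁻¹ H ▸ cj_le_iff_le_cj_inv.1 (a3.trans hT.le) (mem_zpowers _)
    refine ⟨g⁻¹, h2 _ x y hx (fun h => hq.ne_one (by rw [← hy, orderOf_eq_one_iff, Subtype.ext_iff, h]; rfl)) a4 ?_⟩
    rwa [← (commute_of_mem_zpowers y.2).eq, mul_inv_cancel_right]
  by_contra h4
  push Not at h4
  have h5 : ∀ g : G, ∀ x ∈ K, x ≠ 1 → x ∈ MulAut.conj g • H → IsFrobeniusComplement ((MulAut.conj g • H).subgroupOf K) := by
    intro g x a1 a2 a3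
    refine ⟨subgroupOf_eq_bot.not.2 fun h => a2 (disjoint_def.1 h a3 a1),
      fun h => h4 g (subgroupOf_eq_top.1 h), fun k hk => eq_bot_iff.2 fun y hy => by_contra fun a4 => hk ?_⟩
    exact inv_mem_iff.1 (h2 g (k : G)⁻¹ y (inv_mem k.2) (fun h => a4 (Subtype.ext h)) hy.1 (by
      simpa using mem_subgroupOf.1 (mem_conj_smul.1 hy.2)))
  obtain ⟨x, hx, a1⟩ := exists_ne_one_of_ne_bot (H := K) fun h => h4 1 (h ▸ bot_le)
  obtain ⟨g, hg⟩ := h3 x hx
  obtain ⟨y, hy⟩ := S4387.exists_notMem_conj (h5 g x hx a1 hg).2.1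
  obtain ⟨k, hk⟩ := h3 y y.2
  obtain ⟨c, hc⟩ := frob_conj_of_frob (h5 k y y.2 (fun h => hy 1 (by rw [show y = 1 from Subtype.ext h]; exact one_mem _)) hk) (h5 g x hx a1 hg)
  exact hy c (hc ▸ hk)

end Cfsg.Agent.S4116
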