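import Cfsg.Statements.S4117
import Cfsg.Agent.Lib.BG.PLen
import Cfsg.Agent.Lib.BG.Act

set_option autoImplicit false
open Cfsg

namespace Cfsg.Agent.S4117
section
open Pointwise commutatorElement Subgroup
open Cfsg.Agent.Comp Cfsg.Agent.BG Subgroup commutatorElement in
theorem key {X : Type*} [Group X] [Finite X] {K B : Subgroup X} (hK : IsZGroup K) (hn : B ≤ Nm(K))
    (hc : (Nat.card B).Coprime (Nat.card K)) : (Nat.card (K ⊓ Ct(B) : Subgroup X)).Coprime (Nat.card (⁅K, B⁆ : Subgroup X)) ∧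
      IsCyclic (⁅K, B⁆ : Subgroup X) ∧ ⁅K, B⁆ ⊓ Ct(B) = ⊥ ∧ ⁅K, B⁆ ⊔ K ⊓ Ct(B) = K := by
  have d1 : ⁅K, B⁆ ≤ K := Comp.commutator_le_left_of_le_normalizer hn
  have d0 : K ≤ Nm((⁅K, B⁆ : Subgroup X)) := le_sup_left.trans (sup_le_normalizer_commutator _ _)
  have d2 : ⁅K, B⁆ ≤ Ct((⁅K, K⁆ : Subgroup X)) := (commutator_mono le_sup_left le_sup_right).trans
    (Solv.commutator_le_centralizer_of_isCyclic (isCyclic_commutator_of_isZGroup hK) (sup_le
      (Comp.le_normalizer_commutator le_normalizer le_normalizer) (Comp.le_normalizer_commutator hn hn)))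
  have d3 : IsCyclic (⁅K, B⁆ : Subgroup X) :=
    haveI := isZGroup_of_le hK d1
    haveI := (isNilpotent_iff_lowerCentralSeries ⁅K, B⁆).2 ⟨2, commutator_eq_bot_iff'.2
      (d2.trans (centralizer_mono (commutator_mono d1 d1)))⟩
    inferInstance
  have d4 : ⁅K, B⁆ ⊓ Ct(B) = ⊥ := by
    rw [← commutator_commutator_eq hn hc (.inr inferInstance)]
    exact commutator_inf_Ct_of_comm (comm_of_isCyclic d3) (le_sup_right.trans (sup_le_normalizer_commutator _ _))
      (hc.coprime_dvd_right (card_dvd_of_le d1))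
  refine ⟨Nat.coprime_of_dvd fun p hp h1 h2 => ?_, d3, d4, commutator_sup_Ct hn hc (.inr inferInstance)⟩
  have := Fact.mk hp
  obtain ⟨x, x1, x2⟩ := exists_mem_orderOf_eq h1
  obtain ⟨y, y1, y2⟩ := exists_mem_orderOf_eq h2
  have y3 := d0.trans (Solv.normalizer_le_normalizer_of_le_isCyclic d3 (zpowers_le.2 y1))
  have e := Solv.eq_of_isCyclic_of_card_eq (isCyclic_of_isZGroup hK ((isPGroup_zpowers_of_orderOf_eq y2).to_sup_of_normal_left'
    (isPGroup_zpowers_of_orderOf_eq x2) ((zpowers_le.2 x1.1).trans y3)) (sup_le (zpowers_le.2 (d1 y1)) (zpowers_le.2 x1.1)))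
    le_sup_left le_sup_right (by rw [Nat.card_zpowers, Nat.card_zpowers, x2, y2])
  have := mem_bot.1 (d4.le (mem_inf.2 ⟨zpowers_le.2 y1 (e.ge (mem_zpowers x)), x1.2⟩))
  rw [this, orderOf_one] at x2
  exact hp.one_lt.ne x2
end

/-- Let A be a finite group acting on the finite group G by automorphisms with the orders of A and G coprime, and suppose every Sylow subgroup of G is cyclic. Then the fixed-point subgroup C_G(A) is a Hall subgroup of G (its order is coprime to its index), the subgroup [G, A] generated by the elements g⁻¹·a(g) is cyclic and normal with [G, A] ∩ C_G(A) = 1 and [G, A]·C_G(A) = G. -/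
theorem result {G A : Type*} [Group G] [Finite G] [Group A] [Finite A]
    [MulDistribMulAction A G] (hcop : (Nat.card A).Coprime (Nat.card G))
    (hcyc : ∀ (p : ℕ) [Fact p.Prime] (P : Sylow p G), IsCyclic (P : Subgroup G)) :
    (Nat.card (MulAction.fixedPoints A G : Set G)).Coprime (Nat.card G / Nat.card (MulAction.fixedPoints A G : Set G)) ∧
    IsCyclic (Subgroup.closure {y : G | ∃ (a : A) (g : G), y = g⁻¹ * a • g}) ∧
    (Subgroup.closure {y : G | ∃ (a : A) (g : G), y = g⁻¹ * a • g}).Normal ∧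
    (Subgroup.closure {y : G | ∃ (a : A) (g : G), y = g⁻¹ * a • g} : Set G) ∩ MulAction.fixedPoints A G = {1} ∧
    Subgroup.closure {y : G | ∃ (a : A) (g : G), y = g⁻¹ * a • g} ⊔ Subgroup.closure (MulAction.fixedPoints A G) = ⊤ := by
  open Pointwise commutatorElement Subgroup in
  open Cfsg.Agent.Comp Cfsg.Agent.BG Subgroup commutatorElement in
  obtain ⟨X, _, _, i, j, hX⟩ := exists_act (MulDistribMulAction.toMulAut A G)
  have := hX.normal
  have hz : IsZGroup G := ⟨fun p hp P => @hcyc p ⟨hp⟩ P⟩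
  obtain ⟨h1, h2, h3, h4⟩ := key (K := i.range) (B := j.range) (.of_surjective i.rangeRestrict_surjective) le_normalizer_of_normal
    (by rwa [hX.card_range, hX.card_range'])
  set D := closure {y : G | ∃ (a : A) (g : G), y = g⁻¹ * a • g}
  have e0 : ∀ a g, ⁅i g, j a⁆ = i (g⁻¹⁻¹ * a • g⁻¹) := fun a g => by
    rw [commutatorElement_def, inv_inv, map_mul, ← map_inv i, mul_assoc, mul_assoc, ← mul_assoc (j a), hX.conj]; rfl
  have e1 : D.map i = ⁅i.range, j.range⁆ := le_antisymm (by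
      rw [MonoidHom.map_closure, closure_le]
      rintro _ ⟨_, ⟨a, g, rfl⟩, rfl⟩
      rw [← inv_inv g, ← e0]; exact commutator_mem_commutator ⟨_, rfl⟩ ⟨_, rfl⟩) (commutator_le.2 (by
      rintro _ ⟨g, rfl⟩ _ ⟨a, rfl⟩
      exact ⟨_, subset_closure ⟨a, _, rfl⟩, (e0 a g).symm⟩))
  have e2 : MulAction.fixedPoints A G = Ct(j.range).comap i := Set.ext fun g => hX.mem_Ct_iff.symm
  have e3 := map_comap_eq i Ct(j.range)
  have e4 : D.Normal := by
    rw [← comap_map_eq_self_of_injective hX.inj D, e1]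
    exact Normal.comap (normal_iff_top_le_normalizer.2 (hX.sup.ge.trans ((sup_comm _ _).le.trans (sup_le_normalizer_commutator _ _)))) _
  rw [← e1, ← e3, hX.card_map, hX.card_map] at h1
  rw [← e3, ← e1, ← Subgroup.map_sup, hX.map_eq_range] at h4
  have h5 : D ⊓ Ct(j.range).comap i = ⊥ := (Subgroup.map_eq_bot_iff_of_injective _ hX.inj).1 (by
    rw [map_inf_eq _ _ _ hX.inj, e1, e3, eq_bot_iff, ← h3]; exact inf_le_inf_left _ inf_le_right)
  rw [e2, closure_eq, ← coe_inf, h5]
  refine ⟨?_, (isCyclic_map_iff hX.inj).1 (e1 ▸ h2), e4, rfl, h4⟩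
  have := Solv.card_sup_of_disjoint (H := Ct(j.range).comap i) (N := D) le_normalizer_of_normal ((inf_comm _ _).trans h5)
  rw [sup_comm, h4, card_top] at this
  rwa [this, SetLike.coe_sort_coe, Nat.mul_div_cancel_left _ Nat.card_pos]

end Cfsg.Agent.S4117
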