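import Cfsg.Statements.S4125
import Cfsg.Agent.Lib.BG.Cls3
import Cfsg.Agent.Lib.BG.Kaz
import Cfsg.Agent.Lib.BG.Prim2
import Cfsg.Agent.Lib.FT.Final

set_option autoImplicit false
open Cfsg

namespace Cfsg.Agent.S4125
section
open Pointwise commutatorElement Subgroup
open Subgroup Cfsg.Agent.Comp Cfsg.Agent.BG commutatorElement in
theorem solv {G : Type*} [Group G] [Finite G] {p q : ℕ} [hp : Fact p.Prime] [hq : Fact q.Prime] {Q : Subgroup G} [Q.Normal]
    (hQ : SylIn q Q ⊤) (hc : Q ≤ Ct(Q)) (h0 : Opp q (⊤ : Subgroup G) = ⊥) (h : ∀ x ∈ Q, ∃ a, C1(x).index = p ^ a) :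
    Group.IsSolvable G := by
  have c : Ct(Q) ≤ Q := by
    have a := hQ.of_le hc le_top
    rw [← (hasNPC_iff_sup a).1 (hasNPC_of_le_Ct a inf_le_left)]
    exact sup_le ((Opp_le_Opp_of_normal le_top le_normalizer_of_normal).trans (h0.le.trans bot_le)) le_rfl
  have o : ∀ x ∈ Q, ∀ r : ℕ, r.Prime → r ≠ q → x ^ r = 1 → x = 1 := fun x hx r hr e f => congrArg Subtype.val (orderOf_eq_one_iff.1
    ((hQ.isP.orderOf_coprime ((Nat.coprime_primes hq.out hr).2 e.symm) ⟨x, hx⟩).eq_one_of_dvd (orderOf_dvd_of_pow_eq_one (Subtype.ext f))))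
  by_cases h2 : q = 2
  · subst h2
    exact Solv.isSolvable_of_normal_of_quotient Q (isSolvable_of_isPGroup hQ.isP)
      (PF.odd_solvable (Nat.odd_iff.2 (Nat.two_dvd_ne_zero.1 (relIndex_top_right Q ▸ hQ.not_dvd_relIndex :))))
  by_cases h3 : p = 2
  · subst h3
    refine Solv.isSolvable_of_primes_subset Nat.prime_two hq.out fun r hr e => ?_
    by_contra f
    have := Fact.mk hr
    obtain ⟨t, ht⟩ := exists_prime_orderOf_dvd_card' r e
    obtain ⟨P, hP⟩ := exists_sylIn 2 (⊤ : Subgroup G)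
    have : (omegaOne q Q).Normal := Comp.normal_iff_top_le_normalizer.2 (le_normalizer_omegaOne le_normalizer_of_normal)
    have k := two_fix h2 (not_or.1 f).1 (not_or.1 f).2 ht (isElementaryAbelian_omegaOne hc) hP.isP le_normalizer_of_normal fun v hv => by
      obtain ⟨a, ha⟩ := h v (Comp.omegaOne_le _ _ hv)
      obtain ⟨g, g1, d, d1, e⟩ := Solv.isProd_top_of_coprime (H := P) (K := C1(v))
        (ha ▸ (coprime_iff_not_dvd.2 (by simpa using hP.not_dvd_relIndex)).pow_right a) t trivial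
      exact ⟨g, g1, by rw [e, mul_assoc g, mem_centralizer_singleton_iff.1 d1]; group⟩
    have l := le_Ct_of_le_Ct_omegaOne (A := zpowers t) h2 hQ.isP le_normalizer_of_normal
      (by rw [Nat.card_zpowers, ht]; exact (Nat.coprime_primes hr hq.out).2 (not_or.1 f).2) (zpowers_le.2 k)
    exact ne_one_of_orderOf_eq ht (o t (c (l (mem_zpowers t))) r hr (not_or.1 f).2 (ht ▸ pow_orderOf_eq_one t))
  refine PF.odd_solvable (Nat.odd_iff.2 (Nat.two_dvd_ne_zero.1 fun e => ?_))
  obtain ⟨t, ht⟩ := exists_prime_orderOf_dvd_card' 2 e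
  have t2 : t ^ 2 = 1 := ht ▸ pow_orderOf_eq_one t
  refine ne_one_of_orderOf_eq ht (o t (c fun u hu => ?_) 2 Nat.prime_two (Ne.symm h2) t2)
  have v1 : ⁅t, u⁆ ∈ Q := mul_mem (Normal.conj_mem ‹_› u hu t) (inv_mem hu)
  have v2 : t * ⁅t, u⁆ * t⁻¹ = ⁅t, u⁆⁻¹ := by
    rw [commutatorElement_inv, commutatorElement_def, commutatorElement_def]
    calc _ = t * t * u * (t * t)⁻¹ * t * u⁻¹ * t⁻¹ := by group
      _ = _ := by rw [← sq, t2]; group
  obtain ⟨a, ha⟩ := h _ v1
  have v3 := le_of_coprime_relIndex (H := zpowers t) (N := C1(⁅t, u⁆)) le_top le_top (zpowers_le.2 (cj_eq_self_iff.1 (by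
    rw [cj_centralizer_singleton, v2]
    exact (C1_le_of_mem_zpowers (inv_mem_iff.1 (mem_zpowers _))).antisymm (C1_le_of_mem_zpowers (inv_mem (mem_zpowers _))))))
    (by rw [Nat.card_zpowers, ht, relIndex_top_right, ha]; exact ((Nat.coprime_primes Nat.prime_two hp.out).2 (Ne.symm h3)).pow_right a)
    (mem_zpowers t)
  rw [mem_centralizer_singleton_iff.1 v3, mul_inv_cancel_right, eq_inv_iff_mul_eq_one, ← sq] at v2
  exact (commutatorElement_eq_one_iff_mul_comm.1 (o _ v1 2 Nat.prime_two (Ne.symm h2) v2)).symm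
end

/-- Let G be a finite group and q a prime dividing its order such that every element of q-power order has a conjugacy class of prime-power size. Then G is q-solvable of q-length 1: there are normal subgroups K ≤ L of G with K of order prime to q, L/K a q-group and L of index prime to q. Moreover there is a prime p such that every element of q-power order has a class of p-power size (one prime serving for all of them), and for a Sylow q-subgroup Q: if p = q then Q is normal with a normal complement (a direct factor), while if p ≠ q then Q is abelian, the product of Q with the largest normal p-subgroup O_p(G) is normal in G, and G/O_{q'}(G) is solvable, where O_{q'}(G) is the largest normal subgroup of order prime to q. -/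
theorem result {G : Type*} [Group G] [Finite G] (q : ℕ) [Fact q.Prime] (hq : q ∣ Nat.card G)
    (hBaer : ∀ x : G, (∃ k : ℕ, orderOf x = q ^ k) → ∃ (r : ℕ) (a : ℕ), r.Prime ∧ (Subgroup.centralizer ({x} : Set G)).index = r ^ a) (Q : Sylow q G) :
    (∃ K L : Subgroup G, K.Normal ∧ L.Normal ∧ K ≤ L ∧ (Nat.card K).Coprime q ∧ (∃ m : ℕ, K.relIndex L = q ^ m) ∧ L.index.Coprime q) ∧
    ∃ p : ℕ, p.Prime ∧ (∀ x : G, (∃ k : ℕ, orderOf x = q ^ k) → ∃ a : ℕ, (Subgroup.centralizer ({x} : Set G)).index = p ^ a) ∧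
      (p = q → (Q : Subgroup G).Normal ∧ ∃ N : Subgroup G, N.Normal ∧ N.IsComplement' (Q : Subgroup G)) ∧
      (p ≠ q → IsMulCommutative (Q : Subgroup G) ∧ (Cfsg.pCore p G ⊔ (Q : Subgroup G)).Normal ∧
        ∀ _h : (Cfsg.pPrimeCore q G).Normal, Group.IsSolvable (G ⧸ Cfsg.pPrimeCore q G)) := by
  open Pointwise commutatorElement Subgroup in
  open Cfsg.Agent.Comp Cfsg.Agent.BG in
  have hQ := sylIn_top Q
  have o : ∀ x ∈ (Q : Subgroup G), ∃ k, orderOf x = q ^ k := fun x hx => by
    obtain ⟨k, hk⟩ := IsPGroup.iff_orderOf.1 hQ.isP ⟨x, hx⟩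
    exact ⟨k, by rw [← hk, orderOf_mk]⟩
  obtain ⟨x, hx, hm⟩ := Set.exists_max_image (Q : Subgroup G).carrier (fun x => C1(x).index) (Set.toFinite _) ⟨1, (Q : Subgroup G).one_mem⟩
  obtain ⟨p, a, hp, ha⟩ := hBaer x (o x hx)
  have := Fact.mk hp
  have k : ∀ y ∈ (Q : Subgroup G), (¬ ∃ b, C1(y).index = p ^ b) → C1(x).index.Coprime C1(y).index ∧ C1(x * y).index = C1(x).index :=
    fun y hy e => by
      obtain ⟨r, b, hr, hb⟩ := hBaer y (o y hy)
      have : C1(x).index.Coprime C1(y).index := ha ▸ hb ▸ Nat.coprime_pow_primes a b hp hr fun f => e ⟨b, f ▸ hb⟩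
      exact ⟨this, (hm _ (mul_mem hx hy)).antisymm (index_le_index_mul this)⟩
  have cl : ∀ H : Subgroup G, (∀ y ∈ (Q : Subgroup G), ∀ b, C1(y).index = p ^ b → y ∈ H) → (Q : Subgroup G) ≤ H := fun H h y hy => by
    by_cases e : ∃ b, C1(y).index = p ^ b
    · exact e.elim (h y hy)
    · exact (mul_mem_cancel_left (h x hx a ha)).1 (h _ (mul_mem hx hy) a ((k y hy e).2.trans ha))
  have red : (∀ y ∈ (Q : Subgroup G), ∃ b, C1(y).index = p ^ b) → ∀ y : G, (∃ k, orderOf y = q ^ k) → ∃ b, C1(y).index = p ^ b :=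
    fun h y ⟨k, hk⟩ => by
      obtain ⟨g, -, hg⟩ := hQ.exists_cj_le (isPGroup_zpowers_of_orderOf hk) le_top
      exact index_C1_conj g y ▸ h _ (cj_le_iff'.1 hg y (mem_zpowers y))
  have qi : (Q : Subgroup G).index.Coprime q := coprime_iff_not_dvd.2 Q.not_dvd_index
  obtain ⟨n, hn⟩ := hQ.isP.exists_card_eq
  by_cases e : p = q
  · subst e
    have nq : (Q : Subgroup G).Normal := ⟨fun y hy g => cj_le_iff'.1 (cj_le_iff.2 (cl cj(g⁻¹, Q) fun y hy b hb => by
      refine cj_le_iff.1 ?_ (mem_zpowers y)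
      rw [cj_zpowers, zpowers_le]
      exact ((normalClosure_le_sup hb hQ).trans (sup_le le_rfl (zpowers_le.2 hy)))
        (Normal.conj_mem inferInstance y (subset_normalClosure (Set.mem_singleton y)) g))) y hy⟩
    obtain ⟨N, -, n1, n2, n3⟩ := exists_complement_of_coprime (N := (Q : Subgroup G)) le_top le_normalizer_of_normal
      (by rw [relIndex_top_right, hn]; exact (qi.pow_right n).symm)
    rw [relIndex_top_right] at n3
    have c : N ≤ Ct(Q) := by
      refine Solv.coprime_frattini_le_centralizer ((n3 ▸ hn ▸ qi.pow_right n :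
        (Nat.card N).Coprime (Nat.card Q)).coprime_dvd_right (card_subgroup_dvd_card _)) ?_ le_normalizer_of_normal
      have := hQ.isP.isNilpotent
      refine le_trans ?_ (map_mono Solv.commutator_le_frattini)
      rw [map_subtype_commutator]
      refine commutator_le.2 fun y hy g _ => (cl (actKer ⁅(Q : Subgroup G), Q⁆ ⊤) (fun y hy b hb => ⟨le_normalizer_of_normal (mem_top y), fun g _ => ?_⟩) hy).2 g trivial
      obtain ⟨d, d1, u, u1, rfl⟩ := Solv.isProd_top_of_coprime (H := C1(y)) (K := Q) (hb ▸ (qi.pow_right b).symm) g trivial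
      rw [show ⁅y, d * u⁆ = ⁅y, d⁆ * (d * ⁅y, u⁆ * d⁻¹) by simp only [commutatorElement_def]; group,
        commutatorElement_eq_one_iff_mul_comm.2 (mem_centralizer_singleton_iff.1 d1).symm, one_mul]
      exact Normal.conj_mem inferInstance _ (commutator_mem_commutator hy u1) d
    have nn : N.Normal := Comp.normal_iff_top_le_normalizer.2 (n2.ge.trans
      (sup_le (le_normalizer_of_le_centralizer (le_centralizer_iff.1 c)) le_normalizer))
    have ic : N.IsComplement' Q := isComplement'_of_disjoint_and_mul_eq_univ (disjoint_iff.2 (inf_comm N _ ▸ n1))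
      (by rw [← normal_mul, sup_comm, n2, coe_top])
    refine ⟨⟨N, ⊤, nn, inferInstance, le_top, n3 ▸ qi, ⟨n, by rw [relIndex_top_right, ic.symm.index_eq_card, hn]⟩, by simp⟩,
      p, hp, red fun y hy => ?_, fun _ => ⟨nq, N, nn, ic⟩, fun e => absurd rfl e⟩
    exact ((Nat.dvd_prime_pow hp).1 ((index_dvd_of_le (c.trans (Subgroup.centralizer_le (Set.singleton_subset_iff.2 hy)))).trans
      (by rw [ic.symm.index_eq_card, hn]))).imp fun _ h => h.2
  have o1 : ∀ t, t ∈ pCore p G → (∃ k, t ^ q ^ k = 1) → t = 1 := fun t ht ⟨k, hk⟩ => congrArg Subtype.val (orderOf_eq_one_iff.1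
    (((Comp.isPGroup_pCore p).orderOf_coprime (((Nat.coprime_primes hp Fact.out).2 e).pow_right k) ⟨t, ht⟩).eq_one_of_dvd
      (orderOf_dvd_of_pow_eq_one (Subtype.ext hk))))
  have ab : (Q : Subgroup G) ≤ Ct(Q) := cl _ fun y hy b hb => le_centralizer_singleton_iff.1 (cl _ fun z hz c hc =>
    mem_centralizer_singleton_iff.2 (commutatorElement_eq_one_iff_mul_comm.1 (o1 _ (kaz_comm hc hb)
      (IsPGroup.exists_pow_eq_one hQ.isP (mul_mem (mul_mem (mul_mem hz hy) (inv_mem hz)) (inv_mem hy))))))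
  have f := QuotientGroup.mk'_surjective (pCore p G)
  have s1 : SylIn q ((Q : Subgroup G).map (QuotientGroup.mk' (pCore p G))) ⊤ := by
    simpa only [← MonoidHom.range_eq_map, MonoidHom.range_eq_top.2 f] using hQ.map (QuotientGroup.mk' (pCore p G))
  have s2 : (Q : Subgroup G).map (QuotientGroup.mk' (pCore p G)) ≤ Fit ⊤ := map_le_iff_le_comap.2 (cl _ fun y _ b hb => by
    obtain ⟨c, -, hc⟩ := (Nat.dvd_prime_pow hp).1 (hb ▸ index_C1_map_dvd f y)
    exact (kaz_center hc ((Op_top p).trans Comp.pCore_quotient)).1)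
  have s3 : ((Q : Subgroup G).map (QuotientGroup.mk' (pCore p G))).Normal := Comp.normal_iff_top_le_normalizer.2
    ((le_normalizer_Fit_of_le le_rfl).trans ((s1.of_le s2 le_top).normalizer_le
      ((s1.of_le s2 le_top).le_normalizer_of_isNilpotent (isNilpotent_Fit ⊤))))
  have nL : (pCore p G ⊔ Q : Subgroup G).Normal := by
    have := s3.comap (QuotientGroup.mk' _)
    rwa [comap_map_eq, QuotientGroup.ker_mk', sup_comm] at this
  have all : ∀ y ∈ (Q : Subgroup G), ∃ b, C1(y).index = p ^ b := fun y hy => by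
    by_contra h
    obtain ⟨k1, k2⟩ := k y hy h
    obtain ⟨r, b, hr, hb⟩ := hBaer y (o y hy)
    obtain ⟨m, hm⟩ := (Comp.isPGroup_pCore (G := G) p).exists_card_eq
    have y1 : y ∈ Ct(pCore p G) := mem_Ct_of_coprime_index (hm ▸ hb ▸ Nat.coprime_pow_primes m b hp hr fun f => h ⟨b, f ▸ hb⟩)
    refine h ⟨0, index_C1_eq_one.2 (mem_center_iff.2 fun g => commutatorElement_eq_one_iff_mul_comm.1 ?_)⟩
    have t1 : ⁅g, y⁆ ∈ pCore p G := by
      have := s1.isP.orderOf_coprime (((Nat.coprime_primes Fact.out hp).2 (Ne.symm e)).pow_right a)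
        ⟨_, mul_mem (s3.conj_mem _ (mem_map_of_mem _ hy) (QuotientGroup.mk' _ g)) (inv_mem (mem_map_of_mem _ hy))⟩
      rw [← QuotientGroup.eq_one_iff, ← QuotientGroup.mk'_apply, map_commutatorElement]
      refine congrArg Subtype.val (orderOf_eq_one_iff.1 (this.eq_one_of_dvd ?_))
      rw [orderOf_mk, ← commutatorElement_def, ← map_commutatorElement, ← ha]
      exact (orderOf_map_dvd _ _).trans (orderOf_commutator_dvd k1 k2 g)
    obtain ⟨j, hj⟩ := IsPGroup.exists_pow_eq_one hQ.isP hy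
    refine o1 _ t1 ⟨j, ?_⟩
    have := Commute.mul_pow (y1 _ t1) (q ^ j)
    rwa [hj, mul_one, commutatorElement_def, inv_mul_cancel_right, conj_pow, hj, mul_one, mul_inv_cancel, eq_comm] at this
  have cp := coprime_of_isPGroup_of_ne e (Comp.isPGroup_pCore (G := G) p)
  refine ⟨⟨_, _, inferInstance, nL, le_sup_left, cp, ?_, qi.coprime_dvd_left (index_dvd_of_le le_sup_right)⟩,
    p, hp, red all, fun h => absurd h e, fun _ => ⟨comm_iff_le.2 ab, nL, fun _ => ?_⟩⟩
  · rw [relIndex_sup_left]; exact relIndex_eq_pow hQ.isP _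
  have f := QuotientGroup.mk'_surjective (pPrimeCore q G)
  have : ((Q : Subgroup G).map (QuotientGroup.mk' (pPrimeCore q G))).Normal := by
    have := nL.map _ f
    rwa [Subgroup.map_sup, (Subgroup.map_eq_bot_iff _).2 (by rw [QuotientGroup.ker_mk']; exact Comp.le_pPrimeCore cp), bot_sup_eq] at this
  refine solv (p := p) (q := q) (Q := (Q : Subgroup G).map (QuotientGroup.mk' _))
    (by simpa only [← MonoidHom.range_eq_map, MonoidHom.range_eq_top.2 f] using hQ.map (QuotientGroup.mk' (pPrimeCore q G)))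
    (comm_iff_le.1 (by have := comm_iff_le.2 ab; infer_instance)) ((Opp_top q).trans Comp.pPrimeCore_quotient) ?_
  rintro _ ⟨y, hy, rfl⟩
  obtain ⟨b, hb⟩ := all y hy
  exact ((Nat.dvd_prime_pow hp).1 (hb ▸ index_C1_map_dvd f y)).imp fun _ h => h.2

end Cfsg.Agent.S4125
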