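import Cfsg.Statements.S4126
import Cfsg.Agent.Lib.BG.Cls6

set_option autoImplicit false
open Cfsg

namespace Cfsg.Agent.S4126

/-- Let G be a finite group and p a prime. Suppose every element of order p, and when p = 2 also every element of order 4, has a conjugacy class of p-power size. Then G has a normal p-complement. -/
theorem result {G : Type*} [Group G] [Finite G] (p : ℕ) [Fact p.Prime]
    (h : ∀ x : G, (orderOf x = p ∨ (p = 2 ∧ orderOf x = 4)) → ∃ a : ℕ, (Subgroup.centralizer ({x} : Set G)).index = p ^ a) :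
    Cfsg.HasNormalPComplement p G := by
  open Pointwise commutatorElement Subgroup in
  open Cfsg.Agent.Comp Cfsg.Agent.BG Cfsg.Agent.Cls5 Subgroup commutatorElement in
  have h1 : ∀ x : G, (x = 1 ∨ orderOf x = p ∨ p = 2 ∧ orderOf x = 4) → ∃ a, C1(x).index = p ^ a := fun x hx =>
    hx.elim (fun e => ⟨0, by rw [pow_zero, index_C1_eq_one, e]; exact one_mem _⟩) (h x)
  obtain ⟨H, a, b, c, d⟩ := exists_crit (isPGroup_Op p (⊤ : Subgroup G))
  have : H.Normal := normal_iff_top_le_normalizer.2 (le_normalizer_of_normal.trans b)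
  refine Transfer.hasNPC_top.1 (Transfer.hasNPC_sub_of_forall fun B _ hB _ g _ g1 g2 => ?_)
  obtain ⟨K, a', -, c', d'⟩ := exists_crit hB
  rw [← Nat.card_zpowers] at g2
  refine zpowers_le.1 (d' _ (zpowers_le.2 g1) g2 ((d _ le_normalizer_of_normal g2 (le_Ct_of_pow G H _ ((isPGroup_Op p ⊤).to_le a)
    (fun x hx => h1 x (c x hx)) g2)).trans (centralizer_mono fun x hx => ?_)))
  obtain ⟨n, hn⟩ := h1 x (c' x hx)
  exact mem_Op hn (Solv.isPGroup_zpowers_of_mem hB (a' hx))

end Cfsg.Agent.S4126
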