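import Cfsg.Statements.S4127
import Cfsg.Agent.Lib.BG.Cls6
import Cfsg.Agent.S4035

set_option autoImplicit false
open Cfsg

namespace Cfsg.Agent.S4127

/-- Let G be a finite group, p a prime and p^a the largest power of p dividing the size of any conjugacy class of G. If some element of p-power order has a conjugacy class of size exactly p^a, then G has a normal p-complement. -/
theorem result {G : Type*} [Group G] [Finite G] (p : ℕ) [Fact p.Prime]
    (a : ℕ) (hmax : ∀ y : G, ¬ p ^ (a + 1) ∣ (Subgroup.centralizer ({y} : Set G)).index)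
    (hx : ∃ x : G, (∃ k : ℕ, orderOf x = p ^ k) ∧ (Subgroup.centralizer ({x} : Set G)).index = p ^ a) :
    Cfsg.HasNormalPComplement p G := by
  open Pointwise commutatorElement Subgroup in
  open Cfsg.Agent.Comp Cfsg.Agent.BG Cfsg.Agent.Cls5 Subgroup commutatorElement in
  obtain ⟨x, ⟨k, hk⟩, hx⟩ := hx
  have x1 := mem_Op hx (isPGroup_zpowers_of_orderOf hk)
  obtain ⟨S⟩ := (inferInstance : Nonempty (Sylow p C1(x)))
  obtain ⟨s1, H, h1, h2, -, h4⟩ := S4035.result (G := C1(x)) (p := p) (fun y hy e => hmax (x * y) (by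
    rw [← Nat.card_coe_set_eq, show Nat.card (ConjClasses.mk y).carrier = Nat.card {z // IsConj y z} from
      Transfer.cnt_congr fun z => by rw [ConjClasses.mem_carrier_iff_mk_eq, ConjClasses.mk_eq_mk_iff_isConj, isConj_comm],
      Transfer.card_isConj_eq_index, index_C1_coe] at e
    rw [C1_mul_of_coprime (mem_C1.1 y.2) (by rw [hk, orderOf_coe]; exact (hy.pow_right k).symm), ← relIndex_mul_index inf_le_left,
      inf_relIndex_left, hx, pow_succ']
    exact Nat.mul_dvd_mul_right e _)) S
  have s2 := sylIn_sylow S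
  have s3 := (normal_iff_map_subtype _).1 s1
  have h5 : HasNormalPComplement p C1(x) := (Transfer.hasNPC_iff_sylow S).2 ⟨H, h1, Solv.isComplement'_of_inf_eq_bot_of_sup_eq_top
    ((isPi_compl_singleton.2 (coprime_iff_not_dvd.2 h2)).inf_eq_bot (by rw [compl_compl]; exact isPi_singleton.2 S.isPGroup'))
    ((sup_comm _ _).trans h4)⟩
  have h6 : Opp p C1(x) ≤ Ct(Op p (⊤ : Subgroup G)) := le_Ct_of_self_centralizing (isPGroup_Op p ⊤).isNilpotent le_normalizer_of_normal
    (coprime_of_isPGroup (isPGroup_Op p ⊤) (coprime_Opp p _)).symm ((inf_le_inf_left _ (le_trans (centralizer_mono (zpowers_le.2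
      (mem_inf.2 ⟨x1, le_centralizer_singleton_iff.1 (Opp_le p _)⟩))) (Comp.centralizer_zpowers x).le)).trans
      ((s2.le_of_normalizer ((isPGroup_Op p ⊤).to_le inf_le_left) inf_le_right (inf_le_right.trans s3)).trans
        (le_Ct_of_coprime (le_normalizer_Opp (s2.le.trans le_normalizer)) ((Opp_le p _).trans s3)
          (coprime_of_isPGroup s2.isP (coprime_Opp p _)))))
  have : (Opp p C1(x)).Normal := normal_of_cj_le fun g => le_Opp_of_hasNPC h5 (cj_le_iff.2 (h6.trans (by
    rw [cj_centralizer_singleton, ← Comp.centralizer_zpowers]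
    exact centralizer_mono (zpowers_le.2 (Normal.conj_mem inferInstance _ x1 _))))) (by rw [card_cj]; exact coprime_Opp p _)
  obtain ⟨j, hj⟩ := hasNPC_iff_relIndex.1 h5
  exact Transfer.hasNPC_of_normal (n := j + a) (coprime_iff_not_dvd.1 (coprime_Opp p C1(x)))
    (by rw [← relIndex_mul_index (Opp_le p _), hj, hx, pow_add])

end Cfsg.Agent.S4127
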