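import Cfsg.Statements.S4167
import Cfsg.Agent.Lib.BG.Pgp
import Cfsg.Agent.Lib.BG.Cls
import Cfsg.Agent.Lib.FT.Final
import Cfsg.Agent.S4387

set_option autoImplicit false
open Cfsg

namespace Cfsg.Agent.S4167

/-- Let G be a finite group in which no conjugacy class has size divisible by 4. Then G is solvable. -/
theorem result {G : Type*} [Group G] [Finite G]
    (h : ∀ x : G, ¬ 4 ∣ (Subgroup.centralizer ({x} : Set G)).index) : Group.IsSolvable G := by
  open Pointwise commutatorElement Subgroup in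
  open Cfsg.Agent.Comp Cfsg.Agent.BG in
  revert h
  induction G, ‹Group G›, ‹Finite G› using Solv.card_induction' with | h G ih => ?_
  intro h
  by_cases h0 : Odd (Nat.card G)
  · exact PF.odd_solvable h0
  by_cases h1 : ∃ M : Subgroup G, M.Normal ∧ M.index = 2
  · obtain ⟨M, _, m⟩ := h1
    have := Fact.mk Nat.prime_two
    have := isCyclic_of_prime_card (α := G ⧸ M) m
    exact Solv.isSolvable_of_normal_of_quotient M (ih M (Solv.card_lt_of_ne_top fun e => by simp [e] at m)
      fun x e => h x (e.trans (index_C1_coe_dvd M x))) inferInstance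
  obtain ⟨t, ht⟩ := exists_prime_orderOf_dvd_card' 2 (Nat.not_odd_iff_even.1 h0).two_dvd
  have t1 : C1(t) = ⊤ := by_contra fun e => by
    obtain ⟨x, hx⟩ := S4387.exists_notMem_conj e
    obtain ⟨Q, q1⟩ := exists_sylIn 2 C1(x)
    obtain ⟨P, p1, p2⟩ := exists_sylIn_ge q1.isP (le_top : Q ≤ ⊤)
    obtain ⟨g, -, hg⟩ := p2.exists_cj_le (isPGroup_zpowers_of_orderOf_eq ht) le_top
    rw [cj_zpowers, zpowers_le] at hg
    have k : ∀ g : G, g * t * g⁻¹ ∉ Q := fun g e => hx g (by
      rw [smul_eq_cj, cj_centralizer_singleton]; exact mem_centralizer_singleton_iff.2 (mem_centralizer_singleton_iff.1 (q1.le e)).symm)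
    have p3 : Odd P.index := by simpa [Nat.odd_iff] using p2.not_dvd_relIndex
    obtain ⟨n, hn⟩ := relIndex_eq_pow p2.isP Q
    have a : Q.relIndex P * P.index = Q.relIndex C1(x) * C1(x).index := by
      rw [relIndex_mul_index p1, relIndex_mul_index q1.le]
    have b : n = 1 := by
      rcases n with _ | _ | n
      · exact (k g (relIndex_eq_one.1 hn hg)).elim
      · rfl
      refine (h x ((Nat.Coprime.pow_left 2 (coprime_iff_not_dvd.2 q1.not_dvd_relIndex).symm).dvd_of_dvd_mul_left (a ▸ ?_))).elim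
      rw [hn]; exact dvd_mul_of_dvd_left (pow_dvd_pow 2 (by omega)) _
    rcases Transfer.thompson_transfer p3 (by rw [hn, b, pow_one]) (u := g * t * g⁻¹)
      (by rw [conj_pow, ← ht, pow_orderOf_eq_one]; simp) hg with ⟨M, m1, m2, -⟩ | ⟨c, hc⟩
    · exact h1 ⟨M, m1, m2⟩
    · exact k (c * g) (by convert hc using 1; group)
  refine Solv.isSolvable_of_normal_of_quotient (center G) (isSolvable_of_le_centralizer (Subgroup.center_le_centralizer _)) (ih _ (Solv.card_quotient_lt fun e =>
    ne_one_of_orderOf_eq ht (mem_bot.1 (e ▸ C1_eq_top_iff.1 t1))) fun y e => ?_)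
  obtain ⟨x, rfl⟩ := QuotientGroup.mk'_surjective _ y
  exact h x (e.trans (index_C1_map_dvd (QuotientGroup.mk'_surjective _) x))

end Cfsg.Agent.S4167
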