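import Cfsg.Statements.S4130
import Cfsg.Agent.Lib.BG.Cls4
import Cfsg.Agent.S4167

set_option autoImplicit false
open Cfsg

namespace Cfsg.Agent.S4130
section
open Pointwise commutatorElement Subgroup
universe u

open Subgroup Cfsg.Agent.Comp Cfsg.Agent.BG commutatorElement in
theorem step {G : Type*} [Group G] [Finite G] {p : ℕ} [hp : Fact p.Prime] (h : ∀ x : G, Squarefree C1(x).index)
    (hG : IsPGroup p (_root_.commutator G)) : Nat.card (_root_.commutator G) ≤ p := by
  obtain ⟨P, h1, hP⟩ := exists_sylIn_ge hG le_top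
  have : P.Normal := Normal.of_commutator_le G h1
  have hi : ∀ g : G, C1(g).relIndex P ≤ p := fun g => relIndex_le_of_squarefree hP.isP (h g)
  obtain ⟨n, hn⟩ := hP.isP.exists_card_eq
  have c0 : (P.relIndex ⊤).Coprime (Nat.card P) := hn ▸ (coprime_iff_not_dvd.2 hP.not_dvd_relIndex).pow_right n
  obtain ⟨H, -, n1, n2, n3⟩ := exists_complement_of_coprime (N := P) le_top le_normalizer_of_normal c0.symm
  rw [← n3] at c0
  have ab : H ≤ Ct(H) := commutator_eq_bot_iff_le_centralizer.1 (le_bot_iff.1 (n1 ▸ le_inf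
    ((commutator_mono le_top le_top).trans h1) (Comp.commutator_le_left_of_le_normalizer le_normalizer)))
  rw [_root_.commutator_def, ← n2]
  by_cases e : H ≤ Ct(P)
  · rw [commutator_sup_central e ab]; exact knoche hP.isP fun g _ => hi g
  obtain ⟨t, t1, t2⟩ := SetLike.not_le_iff_exists.1 e
  have co : ∀ k ∈ H, (Nat.card (zpowers k)).Coprime (Nat.card P) := fun k hk =>
    c0.coprime_dvd_left (card_dvd_of_le (zpowers_le.2 hk))
  have t3 : ¬ P ≤ C1(t) := mt le_centralizer_singleton_iff.1 t2
  have m1 : P ⊓ C1(t) ≤ Ct(P ⊓ C1(t)) := fun x hx m hm => by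
    have a := C1_mul_of_coprime (mem_centralizer_singleton_iff.1 hm.2 : Commute m t)
      (((Nat.card_zpowers t ▸ co t t1).coprime_dvd_right (P.orderOf_dvd_natCard hm.1)).symm)
    have := idx_le hP.isP (hi (m * t)) (A := P ⊓ C1(t)) inf_le_left (a ▸ inf_le_inf_left _ inf_le_right) (mt inf_eq_left.1 t3) hx
    exact (mem_centralizer_singleton_iff.1 (a ▸ this).1).symm
  have sp : ∀ k ∈ H, ⁅P, zpowers k⁆ ⊔ P ⊓ C1(k) = P := fun k hk => Comp.centralizer_zpowers k ▸
    commutator_sup_Ct le_normalizer_of_normal (co k hk) (.inr (isSolvable_of_isPGroup hP.isP))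
  have m2 : P ≤ Ct(P ⊓ C1(t)) := (sp t t1).ge.trans (sup_le (commutator_eq_bot_iff_le_centralizer.1
    (commutator_commutator_eq_bot_of_rotate (by
      rw [(commutator_eq_bot_iff_le_centralizer (H₁ := zpowers t)).2 (le_centralizer_iff.1
        (inf_le_right.trans (Comp.centralizer_zpowers t).ge)), commutator_bot_left])
      (commutator_eq_bot_iff_le_centralizer.2 (((commutator_mono inf_le_left le_rfl).trans (idx_comm hP.isP (hi t))).trans
        (Comp.centralizer_zpowers t).ge)))) m1)
  obtain ⟨u, u1, u2⟩ := SetLike.not_le_iff_exists.1 t3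
  have m3 : P ≤ Ct(P) := by
    have := idx_sup hP.isP (hi t) u1 u2
    conv_rhs => rw [← this, Comp.centralizer_sup, Comp.centralizer_zpowers]
    refine le_inf m2 (this.ge.trans (sup_le (le_centralizer_singleton_iff.2 (m2 u1)) (zpowers_le.2 (mem_centralizer_singleton_iff.2 rfl))))
  have l0 : ∀ k : G, ⁅P, zpowers k⁆ ≤ P := fun k => commutator_le_left _ _
  have l1 : ∀ k ∈ H, ⁅P, zpowers k⁆ ⊓ C1(k) = ⊥ := fun k hk => Comp.centralizer_zpowers k ▸
    commutator_inf_Ct_of_comm (comm_iff_le.2 m3) le_normalizer_of_normal (co k hk)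
  have l2 : ∀ k ∈ H, Nat.card (⁅P, zpowers k⁆ : Subgroup G) ≤ p := fun k hk => by
    rw [← relIndex_bot_left, ← l1 k hk, inf_relIndex_left]
    exact (relIndex_le_of_le_right (l0 k) (index_ne_zero_of_finite (H := C1(k).subgroupOf P))).trans (hi k)
  have l3 : H ≤ Nm(⁅P, zpowers t⁆) := Comp.le_normalizer_commutator le_normalizer_of_normal
    (le_normalizer_of_le_centralizer (ab.trans (Comp.centralizer_mono (zpowers_le.2 t1))))
  have l4 : ∀ k ∈ H, k ∉ Ct(⁅P, zpowers t⁆) → k ∈ actKer ⁅P, zpowers t⁆ P := fun k hk e => by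
    obtain ⟨a, a1, a2⟩ := Solv.exists_ne_one_of_ne_bot (mt (commutator_eq_bot_iff_le_centralizer.trans le_centralizer_iff).1
      (mt zpowers_le.1 e))
    refine le_actKer_iff.2 ⟨zpowers_le.2 (l3 hk), ?_⟩ (mem_zpowers k)
    rw [Subgroup.commutator_comm, ← eq_zpowers_of_card_le (hP.isP.to_le (l0 k)) (l2 k hk) (commutator_mono (l0 t) le_rfl a1) a2,
      zpowers_le]
    exact Comp.commutator_le_left_of_le_normalizer (zpowers_le.2 (l3 hk)) a1
  have l5 : t ∉ Ct(⁅P, zpowers t⁆) := fun e => t3 (by
    rw [← Comp.centralizer_zpowers, ← commutator_eq_bot_iff_le_centralizer, ← l1 t t1]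
    exact (inf_eq_left.2 (le_centralizer_singleton_iff.2 e)).symm)
  refine (card_le_of_le ((Solv.commutator_sup_le_of_abelian (comm_iff_le.2 m3) (comm_iff_le.2 ab)).trans ?_)).trans (l2 t t1)
  rw [Subgroup.commutator_comm]
  refine (le_actKer_iff.1 fun k hk => ?_).2
  by_cases e : k ∈ Ct(⁅P, zpowers t⁆)
  · exact (mul_mem_cancel_left (l4 t t1 l5)).1 (l4 _ (mul_mem t1 hk) (mt (mul_mem_cancel_right e).1 l5))
  · exact l4 k hk e

open Subgroup Cfsg.Agent.Comp Cfsg.Agent.BG commutatorElement in
theorem main (G : Type u) [Group G] [Finite G] : (∀ x : G, Squarefree C1(x).index) →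
    IsCyclic (_root_.commutator G) ∧ Squarefree (Nat.card (_root_.commutator G)) := by
  revert G
  refine Solv.card_induction' fun G _ _ ih h => ?_
  have hs := S4167.result (G := G) fun x e => absurd (h x 2 e) (by simp)
  have ih : ∀ N : Subgroup G, [N.Normal] → N ≠ ⊥ → IsCyclic ((_root_.commutator G).map (QuotientGroup.mk' N)) ∧
      Squarefree (Nat.card ((_root_.commutator G).map (QuotientGroup.mk' N))) := fun N _ e => by
    have f := QuotientGroup.mk'_surjective N
    rw [_root_.commutator_def, Subgroup.map_commutator, ← MonoidHom.range_eq_map, MonoidHom.range_eq_top.2 f]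
    exact ih _ (Solv.card_quotient_lt e) fun x => by
      obtain ⟨x, rfl⟩ := f x
      exact (h x).squarefree_of_dvd (index_C1_map_dvd f x)
  have ab : _root_.commutator G ≤ Ct(_root_.commutator G) := by
    by_cases e : _root_.commutator G = ⊥
    · rw [e]; exact bot_le
    obtain ⟨q, hq, V, v1, v2, v3, v4⟩ := exists_elem_invariant (X := ⊤) le_normalizer_of_normal inferInstance e
    have := Fact.mk hq
    have : V.Normal := Comp.normal_iff_top_le_normalizer.2 v4.nU
    have vq : IsPGroup q V := fun x => ⟨1, Subtype.ext (by simpa using v3.2 x x.2)⟩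
    obtain ⟨⟨_, b, hb, rfl⟩, e⟩ := (ih V v2).1.exists_generator
    have k : _root_.commutator G ≤ V ⊔ zpowers b := fun x hx => by
      obtain ⟨n, hn⟩ := mem_zpowers_iff.1 (e ⟨_, mem_map_of_mem _ hx⟩)
      have := QuotientGroup.eq.1 (show ((b ^ n : G) : G ⧸ V) = x from congrArg Subtype.val hn)
      exact (mul_mem_cancel_left (inv_mem (mem_sup_right (zpow_mem (mem_zpowers b) n)))).1 (mem_sup_left this)
    have c := comm_iff_le.1 v3.1
    have l : b ∈ Ct(V) := by
      have : (zpowers b ⊔ Ct(V)).Normal := Normal.of_commutator_le G (k.trans (sup_le (c.trans le_sup_right) le_sup_left))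
      rcases v4.min (V ⊓ Ct(zpowers b ⊔ Ct(V))) le_normalizer_of_normal bot_le inf_le_left with e | e
      · rw [Comp.centralizer_sup, Comp.centralizer_zpowers, inf_comm C1(b), ← inf_assoc,
          inf_eq_left.2 (le_centralizer_iff.1 le_rfl)] at e
        have := relIndex_le_of_squarefree vq (h b)
        rw [← inf_relIndex_left, e, relIndex_bot_left] at this
        exact Solv.commutator_le_centralizer_of_isCyclic (L := ⊤) (Solv.isCyclic_of_card_prime (card_eq_of_card_le vq v2 this ▸ hq))
          le_normalizer_of_normal hb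
      · exact le_centralizer_iff.1 (inf_eq_left.1 e) (mem_sup_left (mem_zpowers b))
    refine k.trans (le_trans ?_ (Comp.centralizer_mono k))
    rw [Comp.centralizer_sup]
    exact sup_le (le_inf c (le_centralizer_iff.1 (zpowers_le.2 l))) (le_inf (zpowers_le.2 l) (comm_iff_le.1 inferInstance))
  have ni : Group.IsNilpotent (_root_.commutator G) := isNilpotent_of_le_centralizer ab
  have sq : Squarefree (Nat.card (_root_.commutator G)) := Nat.squarefree_iff_prime_squarefree.2 fun r hr e => by
    have := Fact.mk hr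
    by_cases f : Opp r (_root_.commutator G) = ⊥
    · have := Op_sup_Opp_of_isNilpotent (p := r) ni
      rw [f, sup_bot_eq] at this
      have := (Nat.le_of_dvd Nat.card_pos e).trans (step h (this ▸ isPGroup_Op r _))
      nlinarith [hr.one_lt]
    have : (Opp r (_root_.commutator G)).Normal := Comp.normal_iff_top_le_normalizer.2 (le_normalizer_Opp le_normalizer_of_normal)
    refine hr.not_isUnit ((ih _ f).2 r ?_)
    rw [← Comp.relIndex_mul_card (Opp_le r _)] at e
    rw [← relIndex_ker, QuotientGroup.ker_mk']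
    exact ((coprime_Opp r _).symm.mul_left (coprime_Opp r _).symm).dvd_of_dvd_mul_right e
  have := IsZGroup.of_squarefree sq
  exact ⟨inferInstance, sq⟩
end

/-- Let G be a finite group all of whose conjugacy class sizes are square-free. Then G is supersolvable, G/F(G) and the derived subgroup G′ are cyclic of square-free order (F(G) the Fitting subgroup, which is normal), F(G) has nilpotency class at most 2, and G is metabelian. -/
theorem result {G : Type*} [Group G] [Finite G]
    (h : ∀ x : G, Squarefree (Subgroup.centralizer ({x} : Set G)).index) :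
    Cfsg.IsSupersolvable G ∧ (Cfsg.fittingSubgroup G).Normal ∧
    (∀ _h : (Cfsg.fittingSubgroup G).Normal, IsCyclic (G ⧸ Cfsg.fittingSubgroup G) ∧ Squarefree (Cfsg.fittingSubgroup G).index) ∧
    IsCyclic (commutator G) ∧ Squarefree (Nat.card (commutator G)) ∧
    Subgroup.upperCentralSeries ↥(Cfsg.fittingSubgroup G) 2 = ⊤ ∧ commutator ↥(commutator G) = ⊥ := by
  open Pointwise commutatorElement Subgroup in
  open Cfsg.Agent.Comp Cfsg.Agent.BG in
  obtain ⟨h1, h2⟩ := main G h
  have ab : _root_.commutator G ≤ Ct(_root_.commutator G) := comm_iff_le.1 inferInstance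
  have qn : ∀ N : Subgroup G, [N.Normal] → _root_.commutator G ≤ N → Group.IsNilpotent (G ⧸ N) := fun N _ e =>
    have := Normal.quotient_commutative_iff_commutator_le.2 e
    Solv.isNilpotent_of_commutator_le_frattini ((commutator_eq_bot_iff_le_centralizer.2 fun a _ b _ => mul_comm' b a).le.trans bot_le)
  have fn : (Fit (⊤ : Subgroup G)).Normal := Comp.normal_iff_top_le_normalizer.2 (le_normalizer_Fit_of_le le_rfl)
  have ni : Group.IsNilpotent (_root_.commutator G) := isNilpotent_of_le_centralizer ab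
  have a1 : _root_.commutator G ≤ Fit ⊤ := le_Fit le_top le_normalizer_of_normal ni
  have a2 : _root_.commutator G ≤ Ct(Fit (⊤ : Subgroup G)) := le_of_isNilpotent_of_Op_le ni fun q hq e => by
    have := Fact.mk hq
    have : (Op q (_root_.commutator G)).Normal := Comp.normal_iff_top_le_normalizer.2 (le_normalizer_Op le_normalizer_of_normal)
    by_cases f : Op q (_root_.commutator G) = ⊥
    · rw [f]; exact bot_le
    have a := commutator_lt_of_isNilpotent (isNilpotent_Fit ⊤) ((Op_le q _).trans a1) le_normalizer_of_normal f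
    have b := relIndex_le_of_squarefree (M := ⊥) (hP := (isPGroup_Op q (_root_.commutator G)).of_equiv (subgroupOfEquivOfLe (Op_le q _)).symm)
      (by rwa [index_bot])
    rw [relIndex_bot_left, Nat.card_congr (subgroupOfEquivOfLe (Op_le q _)).toEquiv] at b
    exact commutator_eq_bot_iff_le_centralizer.1 (eq_bot_of_card_le_pow_zero (card_le_pow_of_lt (isPGroup_Op q _) a (by simpa using b)))
  have a3 : Ct(_root_.commutator G) ≤ Fit ⊤ := le_Fit le_top le_normalizer_of_normal
    (Solv.isNilpotent_of_commutator_le_centralizer ((commutator_mono le_top le_top).trans (le_centralizer_iff.1 le_rfl)))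
  rw [← Fit_top]
  refine ⟨Solv.ss_of_isCyclic_of_quotient _ h1 (Solv.ss_of_nilpotent (qn _ le_rfl)), fn, fun _ => ?_, h1, h2, ?_, ?_⟩
  · obtain ⟨z, hz⟩ := (Subgroup.isCyclic_iff_exists_zpowers_eq_top _).1 h1
    have := (h z).squarefree_of_dvd (index_dvd_of_le (by rwa [← Comp.centralizer_zpowers, hz] : C1(z) ≤ Fit ⊤))
    have := IsZGroup.of_squarefree (G := G ⧸ Fit ⊤) this
    have := qn _ a1
    exact ⟨inferInstance, ‹_›⟩
  · rw [map_upperCentralSeries_two, eq_top_iff, le_Z2_iff]
    exact ⟨le_rfl, commutator_le.2 fun a _ b _ c _ => Subtype.ext (a2 (commutator_mem_commutator (mem_top (a : G)) (mem_top (b : G))) c c.2)⟩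
  · exact commutator_eq_bot_iff_le_centralizer.2 fun a _ b _ => Subtype.ext (ab a.2 b b.2)

end Cfsg.Agent.S4130
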