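import Cfsg.Statements.S4365
import Cfsg.Agent.Lib.BG.Cls2

set_option autoImplicit false
open Cfsg

namespace Cfsg.Agent.S4365

/-- Let P be a finite p-group whose conjugacy class sizes are exactly 1 and pᵃ for some a ≥ 1. Then every element of P has its p-th power in the center of P (P/Z(P) has exponent p). -/
theorem result {P : Type*} [Group P] [Finite P] (p : ℕ) [Fact p.Prime]
    (hP : IsPGroup p P) (a : ℕ) (ha : 1 ≤ a)
    (hcs : {k : ℕ | ∃ x : P, (Subgroup.centralizer ({x} : Set P)).index = k} = {1, p ^ a}) (x : P) :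
    x ^ p ∈ Subgroup.center P := by
  open Pointwise commutatorElement Subgroup in
  open Cfsg.Agent.Comp Cfsg.Agent.BG in
  have h : ∀ y : P, y ∉ center P → C1(y).index = p ^ a := fun y hy =>
    (hcs.le ⟨y, rfl⟩ : _ ∨ _).resolve_left (mt index_C1_eq_one.1 hy)
  have h1 : ∀ u v : P, v ∉ center P → C1(u) ≤ C1(v) → C1(u) = C1(v) := fun u v a b =>
    C1_eq_of_le b ((h u fun e => a (C1_eq_top_iff.1 (top_le_iff.1 ((C1_eq_top_iff.2 e).ge.trans b)))).trans (h v a).symm)
  have h2 : ∀ u : P, u ^ p ∉ center P → C1(u) = C1(u ^ p) := fun u a => h1 _ _ a (C1_le_of_mem_zpowers (pow_mem (mem_zpowers u) p))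
  have h3 : ∀ u v : P, ⁅u, v⁆ ∈ center P → v ^ p ∈ center P → v ∈ C1(u ^ p) := fun u v a b => by
    have c : ∀ n : ℕ, u ^ n * v = ⁅u, v⁆ ^ n * v * u ^ n := fun n => by
      induction n with
      | zero => simp
      | succ n ih =>
        rw [pow_succ', mul_assoc, ih, ← mul_assoc, ← mul_assoc, mem_center_iff.1 (pow_mem a n) u, pow_succ ⁅u, v⁆ n,
          mul_assoc _ ⁅u, v⁆ v, commutatorElement_def]; group
    have d : ⁅u, v⁆ ^ p = 1 := by
      have : (u * v * u⁻¹) ^ p = (⁅u, v⁆ * v) ^ p := by rw [commutatorElement_def, inv_mul_cancel_right]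
      rw [conj_pow, mem_center_iff.1 b u, mul_inv_cancel_right, Commute.mul_pow (mem_center_iff.1 a v).symm] at this
      exact mul_eq_right.1 this.symm
    exact mem_centralizer_singleton_iff.2 (by rw [c, d, one_mul])
  by_contra hx
  have f := QuotientGroup.mk'_surjective (center P)
  have : Nontrivial (P ⧸ center P) := QuotientGroup.nontrivial_iff.2 fun e => hx (e ▸ mem_top _)
  obtain ⟨w, w1, w2⟩ := exists_mem_orderOf_eq_of_isPGroup ((hP.to_quotient (center P)).to_subgroup (center _))
    ((nontrivial_iff_ne_bot _).1 (hP.to_quotient (center P)).center_nontrivial)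
  obtain ⟨w, rfl⟩ := f w
  have w3 : ∀ g, ⁅g, w⁆ ∈ center P := fun g => (QuotientGroup.eq_one_iff _).1 (by
    rw [← QuotientGroup.mk'_apply, map_commutatorElement, commutatorElement_eq_one_iff_mul_comm]; exact mem_center_iff.1 w1 _)
  have w4 : w ^ p ∈ center P := (QuotientGroup.eq_one_iff _).1 (by rw [← QuotientGroup.mk'_apply, map_pow, ← w2, pow_orderOf_eq_one])
  have w5 : w ∉ center P := fun e => ne_one_of_orderOf_eq w2 ((QuotientGroup.eq_one_iff _).2 e)
  have k : ∀ u : P, u ^ p ∉ center P → C1(u) = C1(w) := fun u a => by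
    have b : w ∈ C1(u) := h2 u a ▸ h3 u w (w3 u) w4
    have c : (u * w) ^ p = u ^ p * w ^ p := Commute.mul_pow (mem_centralizer_singleton_iff.1 b).symm p
    have d := h2 (u * w) (c ▸ mt (mul_mem_cancel_right w4).1 a)
    refine h1 _ _ w5 fun g hg => mem_centralizer_singleton_iff.2 ?_
    have e : g ∈ C1(u * w) := d ▸ mem_centralizer_singleton_iff.2 (by
      rw [c, ← mul_assoc, mem_centralizer_singleton_iff.1 (h2 u a ▸ hg : g ∈ C1(u ^ p)), mul_assoc, mem_center_iff.1 w4 g, mul_assoc])
    have := mem_centralizer_singleton_iff.1 e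
    rw [← mul_assoc, mem_centralizer_singleton_iff.1 hg, mul_assoc, mul_assoc] at this
    exact mul_left_cancel this
  have n : C1(w).Normal := normal_of_cj_le fun g => by
    rw [cj_centralizer_singleton]
    refine fun y hy => mem_centralizer_singleton_iff.2 ?_
    have := mem_centralizer_singleton_iff.1 hy
    rw [show g * w * g⁻¹ = ⁅g, w⁆ * w by rw [commutatorElement_def, inv_mul_cancel_right], ← mul_assoc, mem_center_iff.1 (w3 g) y,
      mul_assoc, mul_assoc] at this
    exact mul_left_cancel this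
  obtain ⟨y, -, hy⟩ := SetLike.exists_of_lt (Ne.lt_top (mt C1_eq_top_iff.1 w5))
  have y1 : y ∉ center P := fun e => hy (Subgroup.center_le_centralizer _ e)
  refine hy (k x hx ▸ h2 x hx ▸ h3 x y (comm_mem_center (K := C1(w) ⊓ Ct(C1(w))) (Comp.center_le_centralizer _) ?_ fun z _ hz => ?_)
    (by_contra fun e => hy (k y e ▸ mem_centralizer_singleton_iff.2 rfl)))
  · rw [← k x hx]; exact ⟨mem_centralizer_singleton_iff.2 rfl, le_centralizer_singleton_iff.1 le_rfl⟩
  · rw [h y y1, h z hz]

end Cfsg.Agent.S4365
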