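import Cfsg.Statements.S4134
import Cfsg.Agent.Lib.BG.Cls7
import Cfsg.Agent.S4365

set_option autoImplicit false
open Cfsg

namespace Cfsg.Agent.S4134

/-- Let G be a finite group whose conjugacy classes have exactly two sizes, 1 and n > 1. Then n is a power of a prime p and G is the direct product of a p-group and an abelian group of order prime to p: its Sylow p-subgroup P is normal with an abelian normal complement centralizing it; moreover P has an abelian normal subgroup A with P/A of exponent dividing p. -/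
theorem result {G : Type*} [Group G] [Finite G] (n : ℕ) (hn : 1 < n)
    (h : ∀ x : G, (Subgroup.centralizer ({x} : Set G)).index = 1 ∨ (Subgroup.centralizer ({x} : Set G)).index = n) (hex : ∃ x : G, (Subgroup.centralizer ({x} : Set G)).index = n) :
    ∃ (p : ℕ) (_ : Fact p.Prime) (a : ℕ), n = p ^ a ∧ ∀ P : Sylow p G, (P : Subgroup G).Normal ∧
      (∃ N : Subgroup G, N.Normal ∧ N.IsComplement' (P : Subgroup G) ∧ IsMulCommutative N ∧
        ∀ x ∈ N, ∀ y ∈ (P : Subgroup G), x * y = y * x) ∧
      ∃ A : Subgroup (P : Subgroup G), A.Normal ∧ IsMulCommutative A ∧ ∀ y : (P : Subgroup G), y ^ p ∈ A := by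
  open Pointwise commutatorElement Subgroup in
  open Cfsg.Agent.Comp Cfsg.Agent.BG Cfsg.Agent.Cls5 Subgroup commutatorElement in
  obtain ⟨p, hp, h1⟩ := ito fun x hx => (h x).resolve_left (index_C1_eq_one.not.2 hx)
  have := Fact.mk hp
  have h2 : ∀ P : Subgroup G, SylIn p P ⊤ → ∀ x : G, C1(x).relIndex P = C1(x).index := fun P a x =>
    Solv.IsProd.relIndex_eq_index ((Solv.isProd_sup_of_le_normalizer le_normalizer_of_normal).mono (h1 P a).ge le_rfl (center_le_C1 x))
  obtain ⟨x, hx⟩ := hex
  obtain ⟨S, hS⟩ := exists_sylIn p (⊤ : Subgroup G)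
  obtain ⟨a, ha⟩ := relIndex_eq_pow hS.isP C1(x)
  rw [h2 S hS, hx] at ha
  refine ⟨p, this, a, ha, fun P => ?_⟩
  have h3 := h1 P (sylIn_top P)
  have h4 := Op_sup_Opp_of_isNilpotent (p := p) (M := center G) (isNilpotent_of_le_centralizer (Subgroup.center_le_centralizer _))
  refine ⟨normal_iff_top_le_normalizer.2 (h3.ge.trans (sup_le le_normalizer (center_le_normalizer _))), ⟨Opp p (center G),
    inferInstance, Solv.isComplement'_of_inf_eq_bot_of_sup_eq_top ((isPi_compl_singleton.2 (coprime_Opp p _)).inf_eq_bot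
      (by rw [compl_compl]; exact isPi_singleton.2 P.isPGroup')) (top_le_iff.1 (h3.ge.trans (sup_le le_sup_right (h4.ge.trans
        (sup_le (((sylIn_top P).le_of_normalizer (isPGroup_Op p _) le_top ((Op_le p _).trans (center_le_normalizer _))).trans
          le_sup_right) le_sup_left))))), comm_iff_le.2 ((Opp_le p _).trans (Subgroup.center_le_centralizer _)),
    fun x hx y _ => (mem_center_iff.1 (Opp_le p _ hx) y).symm⟩, center P, inferInstance, inferInstance,
    S4365.result p P.isPGroup' a (Nat.pos_of_ne_zero fun e => by rw [e, pow_zero] at ha; omega) (Set.ext fun k => ⟨?_, ?_⟩)⟩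
  · rintro ⟨y, rfl⟩
    rw [index_C1_coe, h2 _ (sylIn_top P), ← ha]; exact h y
  · rintro (rfl | rfl)
    · exact ⟨1, index_C1_eq_one.2 (one_mem _)⟩
    obtain ⟨u, u1, z, z1, rfl⟩ := (Comp.mem_sup_of_le_normalizer le_normalizer_of_normal).1 (h3.ge (mem_top x))
    exact ⟨⟨u, u1⟩, by rw [index_C1_coe, h2 _ (sylIn_top P), ← ha, ← hx, C1_mul_center z1]⟩

end Cfsg.Agent.S4134
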