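import Cfsg.Statements.S4138
import Cfsg.Agent.Lib.BG.Cls7

set_option autoImplicit false
open Cfsg

namespace Cfsg.Agent.S4138
section
open Pointwise commutatorElement Subgroup
open Cfsg.Agent.Comp Cfsg.Agent.BG Cfsg.Agent.Cls5 Subgroup commutatorElement in
theorem lemM {G : Type*} [Group G] [Finite G] {V : Subgroup G} [V.Normal] (hV : V ≤ Ct(V)) {x w : G} (hx : x ∈ V)
    (hc : (orderOf w).Coprime (Nat.card V)) (hw : w ∉ C1(x)) : ∃ a : G, C1(x).index < C1(w).index * C1(a).relIndex C1(w) ∧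
      C1(w * a) = C1(w) ⊓ C1(a) ∧ C1(a).relIndex C1(w) ∣ C1(x).relIndex C1(w) := by
  rw [← Nat.card_zpowers] at hc
  have h1 := commutator_sup_Ct le_normalizer_of_normal hc (.inl (Solv.isSolvable_zpowers w))
  have h2 := commutator_inf_Ct_of_comm (comm_iff_le.2 hV) le_normalizer_of_normal hc
  rw [Comp.centralizer_zpowers] at h1 h2
  have h3 : C1(w) ≤ Nm((⁅V, zpowers w⁆ : Subgroup G)) := Comp.le_normalizer_commutator le_normalizer_of_normal
    (le_normalizer_of_le_centralizer (Comp.centralizer_zpowers w).ge)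
  obtain ⟨b, b1, a, a1, rfl⟩ := (Comp.mem_sup_of_le_normalizer' (inf_le_right.trans h3)).1 (h1.ge hx)
  have b2 := commutator_le_left V _ b1
  have h4 : C1(w).relIndex V = Nat.card (⁅V, zpowers w⁆ : Subgroup G) := by
    rw [← Nat.mul_left_inj (card_ne_zero (C1(w) ⊓ V)), relIndex_mul_card_inf, inf_comm, mul_comm, ← Solv.card_sup_of_disjoint
      (inf_le_right.trans h3) (by rw [eq_bot_iff, ← h2, inf_comm]; exact inf_le_inf_left _ inf_le_right), sup_comm, h1]
  refine ⟨a, ?_, C1_mul_of_coprime (mem_C1.1 a1.2) ((Nat.card_zpowers w ▸ hc).coprime_dvd_right (V.orderOf_dvd_natCard a1.1)), ?_⟩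
  · have e1 := relIndex_C1_lt h3 b1 (by rintro rfl; exact hw (by rw [one_mul]; exact mem_C1.2 (mem_C1.1 a1.2).symm))
    have e2 : C1(b * a).relIndex C1(w) ≤ C1(b).relIndex C1(w) * C1(a).relIndex C1(w) :=
      (relIndex_le_of_le_left (by rw [← C1_mul_inf]; exact inf_le_left) index_ne_zero_of_finite).trans relIndex_inf_le
    have e3 : C1(w).relIndex V ≤ C1(w).relIndex C1(b * a) := relIndex_le_of_le_right
      (le_centralizer_singleton_iff.2 (hV hx)) index_ne_zero_of_finite
    have e4 : C1(b * a).relIndex C1(w) * C1(w).index = C1(w).relIndex C1(b * a) * C1(b * a).index := by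
      rw [← inf_relIndex_right, relIndex_mul_index inf_le_right, inf_comm, ← relIndex_mul_index inf_le_right, inf_relIndex_right]
    have e5 : 0 < C1(w).index * C1(a).relIndex C1(w) :=
      Nat.pos_of_ne_zero (mul_ne_zero index_ne_zero_of_finite index_ne_zero_of_finite)
    rw [h4] at e3
    refine lt_of_mul_lt_mul_left (a := Nat.card (⁅V, zpowers w⁆ : Subgroup G)) ?_ (Nat.zero_le _)
    calc _ ≤ _ := Nat.mul_le_mul_right _ e3
      _ ≤ C1(b).relIndex C1(w) * (C1(w).index * C1(a).relIndex C1(w)) := by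
        rw [← e4, mul_comm C1(w).index, ← mul_assoc]; exact Nat.mul_le_mul_right _ e2
      _ < _ := Nat.mul_lt_mul_of_pos_right e1 e5
  · rw [← inf_relIndex_right C1(b * a)]
    refine relIndex_dvd_of_le_left _ fun g hg => mem_C1.2 (commutatorElement_eq_one_iff_mul_comm.1 (mem_bot.1 (h2.le (mem_inf.2
      ⟨?_, mul_mem (mul_mem (mul_mem hg.2 a1.2) (inv_mem hg.2)) (inv_mem a1.2)⟩)))).symm
    rw [show ⁅g, a⁆ = g * b⁻¹ * (b * a * g⁻¹) * a⁻¹ by group, mem_C1.1 (inv_mem (mem_inf.1 hg).1),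
      show g * b⁻¹ * (g⁻¹ * (b * a)) * a⁻¹ = g * b⁻¹ * g⁻¹ * b by group]
    exact mul_mem (Comp.conj_mem_of_mem_normalizer (h3 hg.2) (inv_mem b1)) b1

open Cfsg.Agent.Comp Cfsg.Agent.BG Cfsg.Agent.Cls5 Subgroup commutatorElement in
theorem main {G : Type*} [Group G] [Finite G] {x y : G} (hn : 1 < C1(x).index) (hmn : C1(x).index < C1(y).index)
    (hcop : C1(y).index.Coprime C1(x).index) (big : ∀ z : G, C1(x).index < C1(z).index → C1(z).index = C1(y).index)
    (hx : PiN (primesOf C1(y).index) (orderOf x)) : QF C1(x) C1(y) ∧ C1(x) ≤ Ct(C1(x)) ∧ C1(y) ≤ Ct(C1(y)) := by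
  set π := primesOf C1(y).index
  have pm : PiN π C1(y).index := piN_primesOf _
  have pn : PiN πᶜ C1(x).index := piN_compl_primesOf.2 hcop.symm
  have i0 : ∀ z : G, 0 < C1(z).index := fun z => Nat.pos_of_ne_zero index_ne_zero_of_finite
  have top : ∀ z : G, C1(z).index ≤ C1(y).index := fun z => (lt_or_ge _ _).elim (fun e => (big z e).le) fun e => e.trans hmn.le
  have k0 : ∀ v : G, C1(y).index.Coprime C1(v).index → C1(y * v).index = C1(y).index := fun v h =>
    le_antisymm (top _) (index_le_index_mul h)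
  have k1 : ∀ z : G, C1(z) ≤ C1(x) → C1(z) = C1(x) := fun z h => C1_eq_of_le h (by_contra fun e => by
    have := index_dvd_of_le h
    rw [big z (lt_of_le_of_ne (Nat.le_of_dvd (i0 z) this) (Ne.symm e))] at this
    exact hn.ne' (Nat.eq_one_of_dvd_coprimes hcop this dvd_rfl))
  have k2 : ∀ u z : G, C1(u).index = C1(y).index → C1(z) ≤ C1(u) → C1(z) = C1(u) := fun u z a b =>
    C1_eq_of_le b (le_antisymm (a ▸ top z) (Nat.le_of_dvd (i0 z) (index_dvd_of_le b)))
  have k3 : ∀ w ∈ C1(x), PiN πᶜ (orderOf w) → w ∈ center G := fun w a b => by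
    have e := C1_mul_of_coprime (mem_C1.1 a) (hx.coprime b)
    have e2 := hcop.coprime_dvd_right (index_dvd_of_le ((k1 _ (e.le.trans inf_le_left)).ge.trans (e.le.trans inf_le_right)))
    exact central_of e2 (k0 w e2) (pm.coprime b)
  have hM : ∀ w : G, w ∉ center G → PiN πᶜ (orderOf w) → C1(w).index = C1(y).index := fun w a b => by
    have v1 : ∀ g, ⁅g, x⁆ ∈ St y ⊓ Ct(St y) := fun g => ⟨mem_St hcop (k0 x hcop) g,
      commutator_le_right ⊤ Ct(St y) (commutator_mem_commutator (mem_top g) (mem_Ct_St hcop))⟩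
    have v2 : zpowers x ≤ Ct((St y ⊓ Ct(St y) : Subgroup G)) := zpowers_le.2 (centralizer_mono inf_le_left (mem_Ct_St hcop))
    have : (St y ⊓ Ct(St y) ⊔ zpowers x).Normal := normal_iff_top_le_normalizer.2 (le_normalizer_of_commutator_le le_rfl
      (commutator_sup_right_le le_normalizer_of_normal le_normalizer_of_normal (commutator_le_right _ _) (by
        rw [Subgroup.commutator_comm]
        exact commutator_zpowers_left_le (le_normalizer_of_normal (mem_top x)) fun c _ => by
          rw [← commutatorElement_inv]; exact inv_mem (v1 c)) |>.trans le_sup_left))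
    obtain ⟨c, c1, c2, c3⟩ := lemM (V := St y ⊓ Ct(St y) ⊔ zpowers x) (w := w) (by
      rw [centralizer_sup]
      exact le_inf (sup_le (Comp.center_le_centralizer _ |>.trans' le_rfl) v2) (sup_le (le_Ct_comm.1 v2) (le_centralizer _)))
      (mem_sup_right (mem_zpowers x)) (b.coprime' (IsPi.sup' (IsPi.of_le (pm.of_dvd (card_St y)) inf_le_left) (isPi_zpowers.2 hx)
        le_normalizer_of_normal)) fun e => a (k3 w e b)
    have c4 : C1(w * c).index = C1(w).index * C1(c).relIndex C1(w) := by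
      rw [c2, ← relIndex_mul_index inf_le_left, inf_relIndex_left, mul_comm]
    have c5 := big _ (c4 ▸ c1)
    rw [c4] at c5
    rw [(Solv.isProd_top_of_coprime (hcop.coprime_dvd_left (Dvd.intro _ c5))).relIndex_eq_index] at c3
    rwa [Nat.eq_one_of_dvd_coprimes hcop (Dvd.intro_left _ c5) c3, mul_one] at c5
  have k4 : ∀ v : G, PiN π (orderOf v) → C1(v).index ∣ C1(y).index → v ∈ C1(x) := fun v a b => by_contra fun e => by
    obtain ⟨p, hp, p1, u, u1, u2, u3⟩ := Solv.exists_prime_pow_notMem e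
    have := Fact.mk hp
    obtain ⟨P, hP⟩ := exists_sylIn p C1(x)
    obtain ⟨g, -, hg⟩ := (hP.trans_of_not_dvd le_top (by
      rw [relIndex_top_right]; exact pn.not_dvd hp (not_not.2 (a p hp p1)))).exists_le_cj u2 le_top
    obtain ⟨c, c1, d, d1, rfl⟩ := Solv.isProd_top_of_coprime (hcop.coprime_dvd_left ((index_C1_dvd_of_mem_zpowers u1).trans b)) g
      (mem_top g)
    have := cj_mono (c * d) hP.le (hg (mem_zpowers u))
    rw [cj_mul, cj_eq_self_of_mem d1, mem_cj, mul_assoc, mem_C1.1 c1, inv_mul_cancel_left] at this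
    exact u3 this
  have k5 : ∀ v : G, PiN π (orderOf v) → C1(v).index ≠ C1(y).index := fun v a b => by
    obtain ⟨q, hq, q1⟩ := Nat.exists_prime_and_dvd hn.ne'
    have := Fact.mk hq
    obtain ⟨Q, hQ⟩ := exists_sylIn q C1(v)
    obtain ⟨u, u1, u2⟩ := SetLike.not_le_iff_exists.1 fun e : Q ≤ center G => (hQ.trans_of_not_dvd le_top (by
      rw [relIndex_top_right, b]; exact pm.not_dvd hq (pn q hq q1))).not_dvd_relIndex_of_le (e.trans (center_le_C1 x)) le_top
      (by rwa [relIndex_top_right])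
    have u3 := (isPi_of_isPGroup hQ.isP (pn q hq q1)).orderOf u1
    have e := C1_mul_of_coprime (mem_C1.1 (hQ.le u1)) (a.coprime u3)
    have e1 := (k2 u _ (hM u u2 u3) (e.le.trans inf_le_right)).symm.trans (k2 v _ b (e.le.trans inf_le_left))
    exact u2 (k3 u (mem_C1.2 (mem_C1.1 (e1.ge (mem_C1.2 (mem_C1.1 (k4 v a b.dvd)).symm))).symm) u3)
  have k6 : ∀ v : G, PiN π (orderOf v) → C1(v).index ∣ C1(y).index → v ∈ center G := fun v a b => by
    have e := (hcop.coprime_dvd_left b).symm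
    exact central_of e (by_contra fun f => k5 _ ((hx.mul a).of_dvd (Commute.orderOf_mul_dvd_mul_orderOf (mem_C1.1 (k4 v a b))))
      (big _ (lt_of_le_of_ne (index_le_index_mul e) (Ne.symm f)))) (pn.coprime' a)
  have k7 : ∀ u : G, u ∉ center G → PiN πᶜ (orderOf u) → ∀ v ∈ C1(u), PiN π (orderOf v) → v ∈ center G := fun u a b v c d => by
    have e := C1_mul_of_coprime (mem_C1.1 c) (b.coprime' d)
    exact k6 v d (hM u a b ▸ index_dvd_of_le ((k2 u _ (hM u a b) (e.le.trans inf_le_left)).ge.trans (e.le.trans inf_le_right)))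
  obtain ⟨a, -, u, u1, e, ec, a1, u2⟩ := exists_pi π y
  have u3 : u ∉ center G := fun f => k5 a a1 (by rw [← C1_mul_center f, e])
  have u4 : C1(y) = C1(u) := k2 u y (hM u u3 u2) (C1_le_of_mem_zpowers u1)
  have h1 : C1(x) ⊓ C1(y) = center G := le_antisymm (fun g hg => by
    obtain ⟨a, a1, b, b1, e, -, a2, b2⟩ := exists_pi π g
    exact e ▸ mul_mem (k7 u u3 u2 a (u4.le (zpowers_le.2 hg.2 a1)) a2) (k3 b (zpowers_le.2 hg.1 b1) b2))
    (le_inf (center_le_C1 _) (center_le_C1 _))
  have h2 := Solv.isProd_top_of_coprime hcop.symm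
  have h3 : ∀ v ∈ C1(x), v ∉ center G → C1(v).index = C1(x).index := fun v hv f => by
    obtain ⟨a, a1, b, b1, rfl, -, a2, b2⟩ := exists_pi π v
    have b3 := k3 b (zpowers_le.2 hv b1) b2
    rw [C1_mul_center b3]
    have a3 : PiN π ((center G).relIndex C1(a)) := fun q hq q1 => by_contra fun q2 => by
      have := Fact.mk hq
      obtain ⟨Q, hQ⟩ := exists_sylIn q C1(a)
      obtain ⟨w, w1, w2⟩ := SetLike.not_le_iff_exists.1 fun e : Q ≤ center G => hQ.not_dvd_relIndex_of_le e (center_le_C1 a) q1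
      exact f (mul_mem (k7 w w2 ((isPi_of_isPGroup hQ.isP q2).orderOf w1) a (mem_C1.2 (mem_C1.1 (hQ.le w1)).symm) a2) b3)
    refine le_antisymm (by_contra fun e => k5 a a2 (big a (not_le.1 e))) (Nat.le_of_dvd (i0 a)
      ((pn.coprime' a3).dvd_of_dvd_mul_left ?_))
    rw [relIndex_mul_index (center_le_C1 a)]
    exact index_dvd_of_le (center_le_C1 x)
  have h4 : ∀ v ∈ C1(x), C1(y).index.Coprime C1(v).index := fun v hv => by
    by_cases f : v ∈ center G
    · rw [index_C1_eq_one.2 f]; exact Nat.coprime_one_right _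
    · rwa [h3 v hv f]
  have h5 : C1(x) ≤ Ct(C1(x)) := fun v hv => mem_Ct.2 fun w hw => mem_C1.1 (comm_of_St (h4 w hw) (k0 w (h4 w hw)) (h4 v hv))
  have h6 : QF C1(x) C1(y) := ⟨⟨fun v hv g => comm_of_St hcop (k0 x hcop) (by rw [index_C1_conj]; exact h4 v hv)⟩,
    top_le_iff.1 h2.le_sup, h1, fun v hv f => (C1_eq_of_le (le_centralizer_singleton_iff.2 (h5 hv)) (h3 v hv f).symm).ge, hcop.symm,
    fun e => hn.ne' (index_eq_one.2 e), fun e => (hn.trans hmn).ne' (index_eq_one.2 e)⟩
  refine ⟨h6, h5, ?_⟩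
  have h7 : ∀ s ∈ C1(y), s ∉ center G → C1(s).index = C1(y).index := fun s hs f => by
    obtain ⟨a, a1, b, b1, rfl, c, a2, b2⟩ := exists_pi π s
    have a3 := k7 u u3 u2 a (u4.le (zpowers_le.2 hs a1)) a2
    rw [c.eq, C1_mul_center a3]
    exact hM b (fun e => f (mul_mem a3 e)) b2
  have := h6.normal.map _ (QuotientGroup.mk'_surjective (center G))
  have h8 := (Solv.map_mk_eq_bot_iff _).not.2 h6.not_le.1
  obtain ⟨_, ⟨t, t1, rfl⟩, t2, t3⟩ := Solv.exists_central_of_fpf le_normalizer_of_normal h6.fpf h8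
    ((Solv.map_mk_eq_bot_iff _).not.2 h6.not_le.2)
  have t4 : t ∉ center G := fun e => Solv.ne_one_of_orderOf_prime t2 ((QuotientGroup.eq_one_iff t).2 e)
  have h9 : ∀ w ∈ C1(y), w ∉ center G → C1(w) = C1(t) := fun w hw f => by
    have w1 := sup_le (zpowers_le.2 (mem_map_of_mem (QuotientGroup.mk' (center G)) hw)) (zpowers_le.2 (mem_map_of_mem _ t1))
    have w2 : zpowers (QuotientGroup.mk' (center G) t) ≤ Ct(zpowers (QuotientGroup.mk' (center G) w)) := by
      rw [Comp.centralizer_zpowers, zpowers_le]; exact mem_C1.2 (t3 _ ⟨w, hw, rfl⟩)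
    obtain ⟨g, g1, g2⟩ := Solv.isCyclic_iff_exists_le_zpowers.1 (Solv.isCyclic_of_fpf_of_abelian le_normalizer_of_normal
      (Solv.fpf_mono le_rfl w1 h6.fpf) h8 (comm_iff_le.2 (by
        rw [centralizer_sup]
        exact le_inf (sup_le (le_centralizer _) w2) (sup_le (le_Ct_comm.1 w2) (le_centralizer _)))))
    obtain ⟨g, -, rfl⟩ := w1 g1
    have k : ∀ s ∈ C1(y), s ∉ center G → zpowers (QuotientGroup.mk' (center G) s) ≤ zpowers (QuotientGroup.mk' (center G) g) →
        C1(g) = C1(s) := fun s a b c => k2 s g (h7 s a b) (by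
      rw [← MonoidHom.map_zpowers, ← MonoidHom.map_zpowers, Solv.map_mk_le_map_mk_iff, zpowers_le] at c
      obtain ⟨i, i1, z, z1, rfl⟩ := (Comp.mem_sup_of_le_normalizer le_normalizer_of_normal).1 c
      rw [C1_mul_center z1]; exact C1_le_of_mem_zpowers i1)
    rw [← k w hw f (le_sup_left.trans g2), k t t1 t4 (le_sup_right.trans g2)]
  refine fun w hw => mem_Ct.2 fun v hv => ?_
  by_cases f : w ∈ center G
  · exact mem_center_iff.1 f v
  · exact (mem_C1.1 (((h9 y (self_mem_C1 y) fun e => h6.neT (C1_eq_top_iff.2 e)).trans (h9 w hw f).symm).le hv)).symm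
end

/-- Let G be a finite group whose two largest conjugacy class sizes m > n > 1 are coprime, and let x, y ∈ G have classes of sizes n and m respectively. Then C_G(x) and C_G(y) are abelian, and G/Z(G) is a Frobenius group with kernel C_G(x)/Z(G) and complement C_G(y)/Z(G). -/
theorem result {G : Type*} [Group G] [Finite G] (m n : ℕ) (hmn : n < m) (hn : 1 < n)
    (hcop : m.Coprime n) (htop : ∀ z : G, (Subgroup.centralizer ({z} : Set G)).index ≤ m) (hsecond : ∀ z : G, (Subgroup.centralizer ({z} : Set G)).index < m → (Subgroup.centralizer ({z} : Set G)).index ≤ n)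
    (x y : G) (hx : (Subgroup.centralizer ({x} : Set G)).index = n) (hy : (Subgroup.centralizer ({y} : Set G)).index = m) :
    IsMulCommutative (Subgroup.centralizer ({x} : Set G)) ∧ IsMulCommutative (Subgroup.centralizer ({y} : Set G)) ∧
    Cfsg.IsFrobeniusComplement ((Subgroup.centralizer ({y} : Set G)).map (QuotientGroup.mk' (Subgroup.center G))) ∧
    Cfsg.frobeniusKernel ((Subgroup.centralizer ({y} : Set G)).map (QuotientGroup.mk' (Subgroup.center G))) =
      ((Subgroup.centralizer ({x} : Set G)).map (QuotientGroup.mk' (Subgroup.center G)) : Set (G ⧸ Subgroup.center G)) := by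
  open Pointwise commutatorElement Subgroup in
  open Cfsg.Agent.Comp Cfsg.Agent.BG Cfsg.Agent.Cls5 Subgroup commutatorElement in
  subst hx hy
  have big : ∀ z : G, C1(x).index < C1(z).index → C1(z).index = C1(y).index := fun z h =>
    le_antisymm (htop z) (by_contra fun e => (hsecond z (not_le.1 e)).not_gt h)
  obtain ⟨a, -, b, b1, e, -, a2, b2⟩ := exists_pi (primesOf C1(y).index) x
  have b3 := hcop.coprime_dvd_right (index_C1_dvd_of_mem_zpowers b1)
  have h : C1(x) = C1(a) := by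
    rw [← e, C1_mul_center (central_of b3 (le_antisymm (htop _) (index_le_index_mul b3)) ((piN_primesOf _).coprime b2))]
  rw [h] at hn hmn hcop big ⊢
  obtain ⟨h1, h2, h3⟩ := main hn hmn hcop big a2
  exact ⟨comm_iff_le.2 h2, comm_iff_le.2 h3, h1.frob⟩

end Cfsg.Agent.S4138
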