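import Cfsg.Statements.S4139
import Cfsg.Agent.Lib.BG.Cls7

set_option autoImplicit false
open Cfsg

namespace Cfsg.Agent.S4139
section
open Pointwise commutatorElement Subgroup
open Cfsg.Agent.Comp Cfsg.Agent.BG Cfsg.Agent.Cls5 Subgroup commutatorElement in
theorem cnt {G : Type*} [Group G] [Finite G] [Fintype (ConjClasses G)] (φ : ℕ → Prop) [DecidablePred φ] :
    Nat.card {x : G // φ C1(x).index} = ∑ C : ConjClasses G, if φ (Nat.card C.carrier) then Nat.card C.carrier else 0 := by
  rw [Transfer.cnt_eq_sum_fiber _ ConjClasses.mk]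
  refine Finset.sum_congr rfl fun C _ => ?_
  have : ∀ x : G, ConjClasses.mk x = C → C1(x).index = Nat.card C.carrier := by
    rintro x rfl
    rw [← Transfer.card_isConj_eq_index]
    exact Transfer.cnt_congr fun z => by rw [ConjClasses.mem_carrier_iff_mk_eq, ConjClasses.mk_eq_mk_iff_isConj, isConj_comm]
  split_ifs with h
  · exact Transfer.cnt_congr fun x => ⟨fun e => ConjClasses.mem_carrier_iff_mk_eq.2 e.2, fun e =>
      ⟨this x (ConjClasses.mem_carrier_iff_mk_eq.1 e) ▸ h, ConjClasses.mem_carrier_iff_mk_eq.1 e⟩⟩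
  · exact Transfer.cnt_eq_zero fun x e => h (this x e.2 ▸ e.1)

open Cfsg.Agent.Comp Cfsg.Agent.BG Cfsg.Agent.Cls5 Subgroup commutatorElement in
theorem idx_iff {G : Type*} [Group G] [Finite G] {p : ℕ} [Fact p.Prime] {P : Subgroup G} (hP : SylIn p P ⊤) {x : G} :
    ¬ p ∣ C1(x).index ↔ ∃ g, x ∈ cj(g, Ct(P)) :=
  ⟨exists_sylIn_le_C1 hP, fun ⟨g, h⟩ => by
    rw [cj_centralizer] at h
    simpa only [relIndex_top_right] using (hP.cj_of_mem (le_normalizer (mem_top g))).not_dvd_relIndex_of_le
      (le_centralizer_singleton_iff.2 h) le_top⟩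
end

/-- Let G and H be finite groups such that for every natural number k, G and H have the same number of conjugacy classes of size k. If H is nilpotent then G is nilpotent. -/
theorem result {G H : Type*} [Group G] [Finite G] [Group H] [Finite H]
    (hH : Group.IsNilpotent H)
    (h : ∀ k : ℕ, Nat.card {C : ConjClasses G // Nat.card C.carrier = k} = Nat.card {C : ConjClasses H // Nat.card C.carrier = k}) :
    Group.IsNilpotent G := by
  open Pointwise commutatorElement Subgroup in
  open Cfsg.Agent.Comp Cfsg.Agent.BG Cfsg.Agent.Cls5 Subgroup commutatorElement in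
  classical
  have := Fintype.ofFinite (ConjClasses G)
  have := Fintype.ofFinite (ConjClasses H)
  have h1 : ∀ φ : ℕ → Prop, Nat.card {x : G // φ C1(x).index} = Nat.card {x : H // φ C1(x).index} := fun φ => by
    rw [cnt, cnt]
    exact Fintype.sum_equiv (Equiv.ofFiberEquiv (f := fun C : ConjClasses G => Nat.card C.carrier)
      (g := fun C : ConjClasses H => Nat.card C.carrier) fun k => (Finite.card_eq.1 (h k)).some) _ _ fun C => by
        rw [Equiv.ofFiberEquiv_map (f := fun C : ConjClasses G => Nat.card C.carrier) (g := fun C : ConjClasses H => Nat.card C.carrier)]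
  have h2 : Nat.card G = Nat.card H := by simpa only [Transfer.cnt_true] using h1 fun _ => True
  have h3 : Nat.card (center G) = Nat.card (center H) := by simpa only [index_C1_eq_one] using h1 fun k => k = 1
  refine Solv.isNilpotent_top_iff.1 (isNilpotent_of_forall_sylIn fun p hp _ => ?_)
  have := Fact.mk hp
  obtain ⟨P, hP⟩ := exists_sylIn p (⊤ : Subgroup G)
  refine ⟨P, hP, ?_⟩
  have hQ := sylIn_Op_of_isNilpotent (p := p) (Solv.isNilpotent_top_iff.2 hH)
  have z1 := sylIn_Op_of_isNilpotent (p := p) (M := center G) (isNilpotent_of_le_centralizer (Subgroup.center_le_centralizer _))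
  have h4 : Nat.card {x : G // ¬ p ∣ C1(x).index} * Nat.card P = Nat.card G * Nat.card (Op p (center G)) := by
    have a := Op_sup_Opp_of_isNilpotent (p := p) (Solv.isNilpotent_top_iff.2 hH)
    have b : Opp p (⊤ : Subgroup H) ≤ Ct(Op p (⊤ : Subgroup H)) := le_Ct_of_coprime le_normalizer_of_normal le_normalizer_of_normal
      (coprime_of_isPGroup (isPGroup_Op p _) (coprime_Opp p _)).symm
    have c : SylIn p (Op p ⊤ ⊓ Ct(Op p (⊤ : Subgroup H))) (center H) := by
      have : Op p ⊤ ⊓ Ct(Op p (⊤ : Subgroup H)) = Op p ⊤ ⊓ center H := by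
        conv_rhs => rw [← Ct_top, ← a, centralizer_sup]
        rw [a, ← inf_assoc, inf_right_comm, inf_eq_left.2 (le_Ct_comm.1 b)]
      exact this ▸ hQ.inf_normal le_top le_normalizer_of_normal
    rw [h1 fun k => ¬ p ∣ k, z1.card_eq, hP.card_eq, card_top, h2, h3, ← c.card_eq, ← card_top (G := H), ← hQ.card_eq]
    conv_rhs => enter [1]; rw [← top_le_iff.1 (a.ge.trans (sup_le_sup_left b _))]
    rw [Comp.card_sup_mul_card_inf le_normalizer_of_normal, mul_comm]
    exact congrArg _ (Transfer.cnt_congr fun x => by simp only [idx_iff hQ, cj_eq_self_of_normal, exists_const])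
  set Z := Op p (center G)
  have z2 : Z ≤ center G := Op_le p _
  have z3 : Z ≤ Ct(P) := z2.trans (Subgroup.center_le_centralizer _)
  set S : Set (G ⧸ Z) := {y | ∃ g, y ∈ cj(g, Ct(P).map (QuotientGroup.mk' Z))}
  have s1 : ∀ x : G, QuotientGroup.mk' Z x ∈ S ↔ ¬ p ∣ C1(x).index := fun x => by
    rw [idx_iff hP]
    refine ⟨fun ⟨g, hg⟩ => ?_, fun ⟨g, hg⟩ => ⟨_, map_cj (QuotientGroup.mk' Z) g _ ▸ mem_map_of_mem _ hg⟩⟩
    obtain ⟨g, rfl⟩ := QuotientGroup.mk'_surjective Z g
    exact ⟨g, by rwa [← map_cj, ← mem_comap, Solv.comap_map_mk, sup_eq_left.2 ((cj_eq_self_of_normal Z g).ge.trans (cj_mono g z3))] at hg⟩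
  have s2 : Nat.card S * Nat.card P = Nat.card G := by
    rw [← Nat.mul_right_inj (card_ne_zero Z), ← mul_assoc, ← QuotientGroup.card_preimage_mk, mul_comm _ (Nat.card G), ← h4]
    exact congrArg (· * _) (Transfer.cnt_congr s1)
  have s3 : ¬ p ∣ Nat.card S := fun e => hP.not_dvd_relIndex (by
    rwa [relIndex_top_right, ← Nat.mul_left_inj (card_ne_zero P) |>.1 (s2.trans (index_mul_card P).symm)])
  let _ : MulAction P S := 
    { smul := fun u y => ⟨QuotientGroup.mk' Z u * y * (QuotientGroup.mk' Z u)⁻¹, y.2.elim fun g hg => ⟨QuotientGroup.mk' Z u * g, by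
        rw [cj_mul]; exact mem_map_of_mem _ hg⟩⟩
      one_smul := fun y => Subtype.ext (show QuotientGroup.mk' Z ((1 : P) : G) * y * _⁻¹ = y by simp)
      mul_smul := fun u v y => Subtype.ext (show QuotientGroup.mk' Z ((u * v : P) : G) * y * _⁻¹ =
        QuotientGroup.mk' Z u * (QuotientGroup.mk' Z v * y * _⁻¹) * _⁻¹ by simp [mul_assoc]) }
  have s4 : Nat.card (MulAction.fixedPoints P S) = Nat.card (Ct(P).map (QuotientGroup.mk' Z)) := by
    refine Transfer.cnt_eq_of_bij Subtype.val ?_ (fun _ _ _ _ => Subtype.ext) ?_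
    · rintro ⟨y, hy⟩ h
      obtain ⟨x, rfl⟩ := QuotientGroup.mk'_surjective Z y
      refine mem_map_of_mem _ (mem_Ct.2 fun u hu => commutatorElement_eq_one_iff_mul_comm.1 (orderOf_eq_one_iff.1 ?_))
      have h1 : ⁅u, x⁆ ∈ Z := by
        rw [← QuotientGroup.eq_one_iff, ← QuotientGroup.mk'_apply, map_commutatorElement, commutatorElement_def, mul_inv_eq_one]
        exact congrArg Subtype.val (h ⟨u, hu⟩)
      refine Nat.eq_one_of_dvd_coprimes ((isPi_singleton.2 z1.isP).coprime (piN_compl_singleton'.2 ((s1 x).1 hy))) (Z.orderOf_dvd_natCard h1) ?_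
      rw [← Transfer.card_isConj_eq_index]
      refine orderOf_dvd_of_mul_mem (S := {a | IsConj x a}) fun s hs => ?_
      obtain ⟨g, rfl⟩ := isConj_iff.1 hs
      refine isConj_iff.2 ⟨g * u, ?_⟩
      rw [mul_assoc (g * x), mem_center_iff.1 (z2 h1), ← mul_assoc, mul_assoc g x, mem_center_iff.1 (z2 h1)]
      group
    · rintro _ ⟨x, hx, rfl⟩
      exact ⟨⟨_, 1, by rw [cj_one]; exact mem_map_of_mem _ hx⟩, fun u => Subtype.ext (show QuotientGroup.mk' Z u * _ * _⁻¹ = _ by
        rw [← map_mul, mem_Ct.1 hx u u.2, map_mul, mul_inv_cancel_right]), rfl⟩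
  have s5 := hP.isP.card_modEq_card_fixedPoints S
  rw [s4, Solv.card_map_mk_eq_relIndex] at s5
  have s6 : P ⊓ Ct(P) = Z := (sylIn_of_not_dvd z3 z1.isP fun e => s3 ((s5.dvd_iff dvd_rfl).2 e)).max _ (hP.isP.to_le inf_le_left)
    (le_inf (hP.le_of_normalizer z1.isP le_top (z2.trans (center_le_normalizer _))) z3) inf_le_right
  have s7 := cnt_conj_le ((map_mono (f := QuotientGroup.mk' Z) (Comp.normalizer_le_normalizer_centralizer P)).trans (le_normalizer_map _))
  have s8 := Transfer.cnt_erase (p := fun y => y ∈ S) (a := 1) ⟨1, one_mem _⟩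
  rw [Solv.index_map_mk, sup_eq_left.2 (z3.trans (Ct_le_Nm P)), Solv.card_map_mk_eq_relIndex, Transfer.cnt_congr fun _ => and_comm] at s7
  have s9 := Comp.card_sup_mul_card_inf (Comp.le_normalizer_centralizer (le_normalizer (H := P)))
  rw [s6, ← Comp.relIndex_mul_card z3, ← mul_assoc, Nat.mul_left_inj (card_ne_zero Z)] at s9
  have s10 := card_le_of_le (sup_le le_normalizer (Ct_le_Nm P))
  have s11 := index_mul_card Nm(P)
  have s12 : Nm(P).index * Z.relIndex Ct(P) ≤ Nat.card S := Nat.le_of_mul_le_mul_right (by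
    rw [s2, ← s11, mul_assoc, mul_comm _ (Nat.card P), ← s9]; exact Nat.mul_le_mul_left _ s10) Nat.card_pos
  have s13 := Nat.pos_of_ne_zero (index_ne_zero_of_finite (H := Nm(P)))
  exact (index_eq_one.1 (le_antisymm (Nat.le_of_add_le_add_left (s7.trans (s12.trans s8.ge))) s13)).ge

end Cfsg.Agent.S4139
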