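import Cfsg.Statements.S4142
import Cfsg.Agent.Lib.Transfer.Count
import Cfsg.Agent.Lib.Solv.Basic

set_option autoImplicit false
open Cfsg

namespace Cfsg.Agent.S4142

/-- Let G be a finite group and N a normal subgroup. Then the conjugacy class of every element g outside N is a union of cosets of N (gn is conjugate to g for all n ∈ N) if and only if for every g outside N the centralizer of g in G has the same order as the centralizer of gN in G/N. -/
theorem result {G : Type*} [Group G] [Finite G] (N : Subgroup G) [N.Normal] :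
    (∀ g : G, g ∉ N → ∀ n ∈ N, ∃ x : G, x * g * x⁻¹ = g * n) ↔
      ∀ g : G, g ∉ N → Nat.card (Subgroup.centralizer ({g} : Set G)) =
        Nat.card (Subgroup.centralizer ({(QuotientGroup.mk g : G ⧸ N)} : Set (G ⧸ N))) := by
  open Pointwise commutatorElement Subgroup Cfsg.Agent.Solv in
  open Cfsg.Agent.Transfer in
  refine forall_congr' fun g => forall_congr' fun _ => ?_
  set D := (centralizer ({(g : G ⧸ N)} : Set (G ⧸ N))).comap (QuotientGroup.mk' N) with hD
  have hm : ∀ x, x ∈ D ↔ g⁻¹ * (x * g * x⁻¹) ∈ N := fun x => by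
    rw [hD, mem_comap, mem_centralizer_singleton_iff, ← QuotientGroup.eq, eq_comm, QuotientGroup.mk_mul,
      QuotientGroup.mk_mul, QuotientGroup.mk_inv, eq_mul_inv_iff_mul_eq]; rfl
  have h1 := card_class_mul D g
  rw [inf_eq_right.2 (fun x hx => (hm x).2 (by rw [mem_centralizer_singleton_iff.1 hx]; simp)), hD, card_comap_mk, ← hD] at h1
  have h2 : Nat.card {y : G // g⁻¹ * y ∈ N} = Nat.card N :=
    cnt_eq_of_bij (fun y => g⁻¹ * y) (fun _ h => h) (fun _ _ _ _ h => mul_left_cancel h)
      fun n hn => ⟨g * n, by simpa using hn, by simp⟩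
  have h3 : ∀ y, (∃ h ∈ D, h * g * h⁻¹ = y) → g⁻¹ * y ∈ N := by
    rintro _ ⟨x, hx, rfl⟩; exact (hm x).1 hx
  constructor
  · intro h
    rw [cnt_congr (q := fun y => g⁻¹ * y ∈ N) fun y => ⟨h3 y, fun hy => ?_⟩, h2, mul_comm] at h1
    · exact Nat.eq_of_mul_eq_mul_right Nat.card_pos h1
    · obtain ⟨x, hx⟩ := h _ hy
      rw [mul_inv_cancel_left] at hx
      exact ⟨x, (hm x).2 (hx ▸ hy), hx⟩
  · intro h n hn
    rw [h, mul_comm, ← h2] at h1
    have h4 := Nat.eq_of_mul_eq_mul_left Nat.card_pos h1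
    by_contra hc
    have h5 := cnt_insert (p := fun y => ∃ h ∈ D, h * g * h⁻¹ = y) (a := g * n) fun ⟨x, _, hx⟩ => hc ⟨x, hx⟩
    have h6 := cnt_mono (p := fun y => (∃ h ∈ D, h * g * h⁻¹ = y) ∨ y = g * n) (q := fun y => g⁻¹ * y ∈ N) (by
      rintro y (hy | rfl)
      · exact h3 y hy
      · simpa using hn)
    omega

end Cfsg.Agent.S4142
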