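import Cfsg.Statements.S4145
import Cfsg.Agent.Lib.Solv.Schmidt
import Cfsg.Agent.Lib.Solv.PGrp
import Cfsg.Agent.Lib.Transfer.Hall

set_option autoImplicit false
open Cfsg

namespace Cfsg.Agent.S4145

/-- Let G be a finite group with a cyclic Sylow p-subgroup and H a normal subgroup such that p divides both the order of H and the index of H. Then H has a normal p-complement and G is p-solvable. -/
theorem result {G : Type*} [Group G] [Finite G] (p : ℕ) [Fact p.Prime]
    (P : Sylow p G) (hP : IsCyclic (P : Subgroup G)) (H : Subgroup G) [H.Normal] (h1 : p ∣ Nat.card H) (h2 : p ∣ H.index) :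
    Cfsg.HasNormalPComplement p H ∧ Cfsg.IsPSolvable p G := by
  open Pointwise commutatorElement Subgroup Cfsg.Agent.Solv in
  open Cfsg.Agent.Transfer in
  have hp : p.Prime := Fact.out
  have hc : IsMulCommutative (P : Subgroup G) := hP.isMulCommutative
  have hQ := isSyl_inf_normal P H
  have h3 : ∀ A ≤ (P : Subgroup G), ∀ B ≤ (P : Subgroup G), A ≤ B ∨ B ≤ A := fun A hA B hB => by
    obtain ⟨a, ha⟩ := (P.2.to_le hA).exists_card_eq
    obtain ⟨b, hb⟩ := (P.2.to_le hB).exists_card_eq
    exact (le_total a b).imp (fun h => le_of_isCyclic_of_card_dvd hP hA hB (ha ▸ hb ▸ pow_dvd_pow p h))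
      fun h => le_of_isCyclic_of_card_dvd hP hB hA (ha ▸ hb ▸ pow_dvd_pow p h)
  have h4 : ∀ L : Subgroup G, (P : Subgroup G) ≤ L → (∀ g ∈ L, g ∈ normalizer ((P : Subgroup G) : Set G) →
      (orderOf g).Coprime p → g ∈ centralizer ((P : Subgroup G) : Set G)) → HasNormalPComplement p L := fun L a1 a2 => by
    refine ((isSyl_top P).mono a1 le_top).hasNPC_of_le_centralizer ?_
    rw [← ((isSyl_top P).mono (le_inf a1 le_normalizer) le_top).res_sup]
    exact sup_le (res_le_iff.2 fun g hg => a2 g hg.1 hg.2) (comm_iff_le_centralizer.1 hc)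
  have h5 : HasNormalPComplement p H := by
    refine hasNPC_mono (h4 (H ⊔ P) le_sup_right fun g a1 a2 a3 => ?_) le_sup_left
    obtain ⟨n, hn⟩ := P.2.index (H.subgroupOf P)
    have a4 : g ∈ H := res_le_of_relIndex le_normalizer_of_normal (n := n) (by
      rw [sup_comm, Solv.relIndex_sup_of_le_normalizer le_normalizer_of_normal]; exact hn) (mem_res a1 a3)
    have a5 := coprime_commutator_sup_centralizer (zpowers_le.2 a2)
      (coprime_card_of_isPGroup' P.2 (by rwa [Nat.card_zpowers])) (.inl (isSolvable_zpowers g))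
    rcases h3 _ (commutator_le_left_of_le_normalizer (zpowers_le.2 a2)) _ inf_le_left with a6 | a6
    · rw [sup_eq_right.2 a6, inf_eq_left, Subgroup.le_centralizer_iff] at a5
      exact zpowers_le.1 a5
    · rw [sup_eq_left.2 a6] at a5
      have : (P : Subgroup G) ≤ H := a5.ge.trans ((commutator_mono le_rfl (zpowers_le.2 a4)).trans (commutator_le_right _ _))
      exact absurd (h2.trans (index_dvd_of_le this)) P.not_dvd_index
  refine ⟨h5, ?_⟩
  haveI : (res p H).Normal := normal_iff_top_le_normalizer.2 (le_normalizer_of_normal.trans (normalizer_le_normalizer_res H))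
  set C := centralMod H (res p H)
  haveI hC : C.Normal := ⟨fun x hx g => ⟨le_normalizer_of_normal (mem_top _), fun y hy => by
    convert Normal.conj_mem inferInstance _ (hx.2 _ (Normal.conj_mem' inferInstance y hy g)) g using 1
    simp only [commutatorElement_def]; group⟩⟩
  have h6 : (P : Subgroup G) ≤ C := fun x hx => ⟨le_normalizer_of_normal (mem_top _), fun y hy => by
    obtain ⟨a, ha, s, hs, rfl⟩ := hQ.exists_res_mul hy
    rw [show ⁅x, a * s⁆ = ⁅x, a⁆ * (a * ⁅x, s⁆ * a⁻¹) by simp only [commutatorElement_def]; group,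
      commutatorElement_eq_one_iff_mul_comm.2 (Solv.isMulCommutative_iff.1 hc x hx s hs.1)]
    simpa using commutator_le_right _ _ (commutator_mem_commutator (mem_top x) ha)⟩
  have h7 : HasNormalPComplement p C := h4 C h6 fun g a1 a2 a3 => by
    refine zpowers_le.1 (coprime_abelian_le_centralizer hc (zpowers_le.2 a2)
      (coprime_card_of_isPGroup' P.2 (by rwa [Nat.card_zpowers])) fun v hv a4 a ha => ?_)
    have a5 : v ∈ H := (le_of_isCyclic_of_card_dvd hP (zpowers_le.2 hv) inf_le_left (by
      rw [Nat.card_zpowers, eq_of_isPGroup_of_dvd P.2 a4 (Solv.orderOf_dvd_card_of_mem hv)]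
      exact dvd_card_of_isPGroup hQ.pgroup (mt hQ.eq_bot_iff.1 (not_not.2 h1))) (mem_zpowers v)).2
    have a6 : ⁅a, v⁆ ∈ (P : Subgroup G) ⊓ H ⊓ res p H := by
      have := (zpowers_le.2 a1 ha).2 v a5
      exact mem_inf.2 ⟨mem_inf.2 ⟨mul_mem (Solv.conj_mem_of_mem_normalizer (zpowers_le.2 a2 ha) hv) (inv_mem hv), res_le _ this⟩, this⟩
    rw [hQ.hasNPC_iff.1 h5] at a6
    exact commutatorElement_eq_one_iff_mul_comm.1 a6
  haveI : (res p C).Normal := normal_iff_top_le_normalizer.2 (le_normalizer_of_normal.trans (normalizer_le_normalizer_res C))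
  refine ⟨3, ![⊥, res p C, C, ⊤], rfl, rfl, Fin.monotone_iff_le_succ.2 fun i => ?_, fun i => ?_, fun i => ?_⟩
  · fin_cases i
    exacts [bot_le, res_le C, le_top]
  · fin_cases i <;> simp <;> infer_instance
  · fin_cases i
    · exact .inr (by simpa using (hp.coprime_iff_not_dvd.2 (hasNPC_sub_iff.1 h7)).symm)
    · exact .inl (relIndex_res C)
    · exact .inr (by simpa using (hp.coprime_iff_not_dvd.2 (mt (·.trans (index_dvd_of_le h6)) P.not_dvd_index)).symm)

end Cfsg.Agent.S4145
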