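import Cfsg.Statements.S4150
import Cfsg.Agent.Lib.Ez.F3

set_option autoImplicit false
open Cfsg

namespace Cfsg.Agent.S4150

/-- Let m ≥ 5. Then there are primes p < q with m/2 ≤ p and q ≤ m such that any two elements x, y of the alternating group of degree m with x of order p and y of order q generate a subgroup isomorphic to an alternating group of some degree d ≥ 5. -/
theorem result (m : ℕ) (hm : 5 ≤ m) :
    ∃ p q : ℕ, p.Prime ∧ q.Prime ∧ m ≤ 2 * p ∧ p < q ∧ q ≤ m ∧
      ∀ x y : alternatingGroup (Fin m), orderOf x = p → orderOf y = q →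
        ∃ d : ℕ, 5 ≤ d ∧ Nonempty (Subgroup.closure ({x, y} : Set (alternatingGroup (Fin m))) ≃* alternatingGroup (Fin d)) := by
  open Cfsg.Agent.Ez in
  have key : ∀ p q : ℕ, p.Prime → q.Prime → m ≤ 2 * p → p < q → q ≤ m → 5 ≤ q →
      (∀ d, d ≤ m → q ≤ d → q + 3 ≤ d ∨ (d < 2 * p ∧ p + 3 ≤ d) ∨ (d = 7 ∧ p = 5 ∧ q = 7) ∨
        (d = 13 ∧ p = 11 ∧ q = 13)) → _ := fun p q hp hq a b c d e =>
    (⟨p, q, hp, hq, a, b, c, fun x y ox oy => closure_iso_alt hp hq ox oy (by rw [Fintype.card_fin]; omega) b d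
      (by rwa [Fintype.card_fin])⟩ : ∃ p q : ℕ, p.Prime ∧ q.Prime ∧ m ≤ 2 * p ∧ p < q ∧ q ≤ m ∧
      ∀ x y : alternatingGroup (Fin m), orderOf x = p → orderOf y = q →
        ∃ d : ℕ, 5 ≤ d ∧ Nonempty (Subgroup.closure ({x, y} : Set (alternatingGroup (Fin m))) ≃*
          alternatingGroup (Fin d)))
  by_cases h1 : m ≤ 6
  · exact ⟨3, 5, by norm_num, by norm_num, h1, by norm_num, hm, fun x y ox oy => iso_alt_small (by omega)
      (ox ▸ Subgroup.orderOf_dvd_natCard _ (Subgroup.subset_closure (by simp)))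
      (oy ▸ Subgroup.orderOf_dvd_natCard _ (Subgroup.subset_closure (by simp)))⟩
  by_cases h2 : m ≤ 10
  · exact key 5 7 (by norm_num) (by norm_num) h2 (by norm_num) (by omega) (by norm_num) (by omega)
  by_cases h3 : m = 14 ∨ m = 15 ∨ m = 16
  · exact key 11 13 (by norm_num) (by norm_num) (by omega) (by norm_num) (by omega) (by norm_num) (by omega)
  obtain ⟨p, q, hp, hq, a, b, c⟩ := exists_two_primes (m := m) (by omega) (by omega) (by omega) (by omega)
  exact key p q hp hq a.le (by omega) c (by omega) (by omega)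

end Cfsg.Agent.S4150
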