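import Cfsg.Statements.S4151
import Cfsg.Agent.Lib.Transfer.FC6

set_option autoImplicit false
open Cfsg

namespace Cfsg.Agent.S4151

set_option linter.unusedSectionVars false
set_option linter.unusedVariables false
set_option linter.style.haveILetI false
set_option linter.unusedSimpArgs false

open Subgroup Transfer MS FC
open scoped commutatorElement

/-- Let G be a finite group and H a non-normal subgroup meeting each of its conjugates by elements outside N_G(H) trivially, with the order of H coprime to its index in N_G(H), such that G is π-separable for π the set of primes dividing the order of H (G has a chain of normal subgroups from 1 to G each of whose factors has order divisible only by primes dividing the order of H or coprime to it). Suppose a Sylow 2-subgroup of H is abelian and Q is a complement of H in N_G(H). Then C_H(Q), the subgroup of elements of H commuting with Q, has order coprime to its index in G and has a normal complement in G. -/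
theorem result {G : Type*} [Group G] [Finite G] (H : Subgroup G)
    (hTI : Cfsg.IsTISubset (H : Set G)) (hnn : ¬ H.Normal)
    (hHall : (Nat.card H).Coprime (H.subgroupOf (Subgroup.normalizer (H : Set G))).index)
    (hsep : ∃ (n : ℕ) (M : Fin (n + 1) → Subgroup G), M 0 = ⊥ ∧ M (Fin.last n) = ⊤ ∧ Monotone M ∧ (∀ i, (M i).Normal) ∧
      ∀ i : Fin n, (∀ q : ℕ, q.Prime → q ∣ (M i.castSucc).relIndex (M i.succ) → q ∣ Nat.card H) ∨
        ((M i.castSucc).relIndex (M i.succ)).Coprime (Nat.card H))
    (h2 : ∀ P : Sylow 2 H, IsMulCommutative (P : Subgroup H))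
    (Q : Subgroup G) (hQ : Q ≤ Subgroup.normalizer (H : Set G)) (hQH : Q ⊓ H = ⊥) (hQH' : Q ⊔ H = Subgroup.normalizer (H : Set G)) :
    (Nat.card ↥(H ⊓ Subgroup.centralizer (Q : Set G))).Coprime (H ⊓ Subgroup.centralizer (Q : Set G)).index ∧
    ∃ N : Subgroup G, N.Normal ∧ N.IsComplement' (H ⊓ Subgroup.centralizer (Q : Set G)) := by
  have h := TS.mk' hTI hnn hHall hsep
  have z : IsZGroup H := ⟨fun p hp P => by
    haveI := Fact.mk hp
    by_cases e : p = 2
    · subst e; exact h.fr.cyc (h2 P)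
    · exact h.fr.pg e P.isPGroup'⟩
  have hq := (h.hall.compl hQ (sup_comm Q H ▸ hQH') (inf_comm Q H ▸ hQH)).pi
  obtain ⟨-, e1, e2⟩ := zg_cop z hQ ((isPi_self H).coprime hq).symm
  set C := H ⊓ CC Q
  have lc : C ≤ H := inf_le_left
  have p1 : ∀ {X : Subgroup G}, IsPi {q | q ∣ #H}ᶜ X → IsPi {q | q ∣ #C}ᶜ X := fun hX =>
    hX.sub fun q e e' => e (e'.trans (card_dvd lc))
  have pN : IsPi {q | q ∣ #C}ᶜ (O {q | q ∣ #H}ᶜ ⊤ ⊔ (⁅H, Q⁆ ⊔ Q)) :=
    (p1 (O_pi _ _)).sup_l ((pi_of_coprime e2.symm).sup_l (p1 hq) (right_nn_comm H Q)) (nn_O nn_top)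
  have e3 : ⁅H, Q⁆ ⊔ Q ⊔ C = NN H := by rw [sup_right_comm, e1, sup_comm, hQH']
  have n : (O {q | q ∣ #H}ᶜ ⊤ ⊔ (⁅H, Q⁆ ⊔ Q)).Normal := normalizer_eq_top_iff.1 (eq_top_iff.2 (h.sup.ge.trans
    (sup_le (le_sup_left.trans (le_nn _)) (nn_sup (nn_O nn_top) (e3.ge.trans (sup_le (le_nn _)
      (nn_sup (lc.trans (left_nn_comm H Q)) (inf_le_right.trans (cc_le_nn Q)))))))))
  have c := Solv.isComplement'_of_inf_eq_bot_of_sup_eq_top ((inf_comm _ _).trans ((isPi_self C).inf pN))
    (by rw [sup_assoc, e3, h.sup])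
  exact ⟨c.index_eq_card ▸ (isPi_self C).coprime pN, _, n, c⟩

end Cfsg.Agent.S4151
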