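import Cfsg.Statements.S4153
import Cfsg.Agent.S4032
import Cfsg.Agent.Lib.Transfer.Count
import Cfsg.Agent.Lib.Solv.PCyc
import Cfsg.Agent.Lib.Comp.SylIn

set_option autoImplicit false
open Cfsg

namespace Cfsg.Agent.S4153

/-- Let G be a finite group, p a prime, N a normal subgroup, P a Sylow p-subgroup of G and P̄ a Sylow p-subgroup of G/N. Count the elements of p-power order, the identity included. Then (number of such elements of G/N)/#P̄ ≤ (number of such elements of G)/#P, stated as a cross-multiplied inequality, with equality when N is central. -/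
theorem result {G : Type*} [Group G] [Finite G] (p : ℕ) [Fact p.Prime] (N : Subgroup G) [N.Normal]
    (P : Sylow p G) (Pbar : Sylow p (G ⧸ N)) :
    Nat.card {g : (G ⧸ N) // ∃ k : ℕ, orderOf g = p ^ k} * Nat.card (P : Subgroup G) ≤ Nat.card {g : G // ∃ k : ℕ, orderOf g = p ^ k} * Nat.card (Pbar : Subgroup (G ⧸ N)) ∧
    (N ≤ Subgroup.center G → Nat.card {g : (G ⧸ N) // ∃ k : ℕ, orderOf g = p ^ k} * Nat.card (P : Subgroup G) = Nat.card {g : G // ∃ k : ℕ, orderOf g = p ^ k} * Nat.card (Pbar : Subgroup (G ⧸ N))) := by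
  open Pointwise commutatorElement Subgroup Cfsg.Agent.Solv in
  open Cfsg.Agent.Transfer in
  have hp : p.Prime := Fact.out
  obtain ⟨R, hR⟩ := Comp.exists_sylIn p N
  have hc : Nat.card P = Nat.card R * Nat.card Pbar := by
    rw [P.card_eq_multiplicity, Pbar.card_eq_multiplicity, hR.card_eq, ← pow_add,
      card_eq_card_quotient_mul_card_subgroup N, Nat.factorization_mul Nat.card_pos.ne' Nat.card_pos.ne',
      Finsupp.add_apply, add_comm]
  have hlift : ∀ y : G ⧸ N, (∃ k, orderOf y = p ^ k) → ∃ x : G, (x : G ⧸ N) = y ∧ IsPGroup p (zpowers x) := by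
    rintro y ⟨k, hk⟩
    obtain ⟨x, h1, h2⟩ := S4032.exists_lift {p} N y fun r hr hd =>
      (Nat.prime_dvd_prime_iff_eq hr hp).1 (hr.dvd_of_dvd_pow (hk ▸ hd))
    exact ⟨x, h1, isPGroup_of_forall_prime_dvd (by rwa [Nat.card_zpowers])⟩
  have hmap : ∀ x : G, (∃ k, orderOf x = p ^ k) → ∃ k, orderOf (x : G ⧸ N) = p ^ k := by
    rintro x ⟨k, hk⟩
    obtain ⟨j, -, hj⟩ := (Nat.dvd_prime_pow hp).1 (hk ▸ orderOf_map_dvd (QuotientGroup.mk' N) x)
    exact ⟨j, hj⟩
  rw [hc, ← mul_assoc]
  refine ⟨Nat.mul_le_mul_right _ ?_, fun hZ => ?_⟩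
  · rw [← mul_one (Nat.card {g : G // ∃ k : ℕ, orderOf g = p ^ k})]
    refine cnt_mul_le (fun (y : G ⧸ N) (x : G) => (x : G ⧸ N) = y) ?_ ?_
    · intro y hy
      obtain ⟨x, rfl, hx⟩ := hlift y hy
      obtain ⟨S, hS⟩ := hx.exists_le_sylow
      have h1 := (Comp.sylIn_top S).inf_normal (N := N) le_top le_normalizer_of_normal
      rw [hR.card_eq_card h1]
      refine cnt_le_of_injOn (fun n => x * n) (fun n hn => ⟨?_, ?_⟩) fun _ _ _ _ h => mul_left_cancel h
      · exact exists_orderOf_eq_pow S.isPGroup' (mul_mem (hS (mem_zpowers x)) hn.1)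
      · rw [eq_comm, QuotientGroup.eq]; simpa using hn.2
    · intro x _
      rw [← cnt_eq_one (x : G ⧸ N)]
      exact cnt_mono fun y h => h.2.symm
  · congr 1
    symm
    refine cnt_eq_mul_of_fiber (fun x : G => (x : G ⧸ N)) hmap fun y hy => ?_
    obtain ⟨x, rfl, hx⟩ := hlift y hy
    have hRZ : ⊤ ≤ normalizer (R : Set G) := Comp.le_normalizer_of_le_centralizer
      (le_centralizer_iff.1 ((hR.le.trans hZ).trans (center_le_centralizer _)))
    symm
    refine cnt_eq_of_bij (fun n => x * n) (fun n hn => ⟨?_, ?_⟩) (fun _ _ _ _ h => mul_left_cancel h) ?_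
    · exact exists_orderOf_eq_pow (isPGroup_sup hx hR.isP (le_top.trans hRZ))
        (mul_mem (mem_sup_left (mem_zpowers x)) (mem_sup_right hn))
    · rw [eq_comm, QuotientGroup.eq]; simpa using hR.le hn
    · rintro z ⟨⟨k, hk⟩, hz⟩
      rw [eq_comm, QuotientGroup.eq] at hz
      refine ⟨x⁻¹ * z, ?_, by simp⟩
      have hcm : Commute x z := by
        have := mem_center_iff.1 (hZ hz) x
        rw [mul_inv_cancel_left, mul_assoc, eq_inv_mul_iff_mul_eq] at this
        exact this
      have h1 : IsPGroup p (zpowers x ⊔ zpowers z : Subgroup G) :=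
        isPGroup_sup hx (Comp.isPGroup_zpowers_of_orderOf hk) (zpowers_le.2 (Solv.mem_normalizer_zpowers (by
          rw [hcm.eq, mul_inv_cancel_right]; exact mem_zpowers z)))
      refine zpowers_le.1 (hR.le_of_normalizer (h1.to_le (zpowers_le.2 ?_)) (zpowers_le.2 hz) (le_top.trans hRZ))
      exact mul_mem (inv_mem (mem_sup_left (mem_zpowers x))) (mem_sup_right (mem_zpowers z))

end Cfsg.Agent.S4153
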