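import Cfsg.Statements.S4154
import Cfsg.Agent.Lib.Transfer.Count

set_option autoImplicit false
open Cfsg

namespace Cfsg.Agent.S4154

/-- Let G be a finite group and α an automorphism of G such that every element of G is the product of an element fixed by α and an element of the form g⁻¹α(g). If N is a normal α-invariant subgroup, then the automorphism ᾱ induced on G/N has the same property, and every coset fixed by ᾱ contains an element fixed by α (so the fixed points of ᾱ are the images of the fixed points of α). -/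
theorem result {G : Type*} [Group G] [Finite G] (α : MulAut G)
    (hccp : ∀ x : G, ∃ c g : G, α c = c ∧ x = c * (g⁻¹ * α g))
    (N : Subgroup G) [N.Normal] (hN : ∀ n ∈ N, α n ∈ N) :
    (∀ x : G, ∃ c g : G, c⁻¹ * α c ∈ N ∧ x⁻¹ * (c * (g⁻¹ * α g)) ∈ N) ∧
    (∀ x : G, x⁻¹ * α x ∈ N → ∃ c : G, α c = c ∧ c⁻¹ * x ∈ N) := by
  open Pointwise commutatorElement Subgroup in
  open Cfsg.Agent.Transfer in
  refine ⟨fun x => ?_, fun x hx => ?_⟩
  · obtain ⟨c, g, h1, h2⟩ := hccp x
    exact ⟨c, g, by rw [h1, inv_mul_cancel]; exact one_mem _, by rw [← h2, inv_mul_cancel]; exact one_mem _⟩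
  · let β : G ⧸ N →* G ⧸ N := QuotientGroup.map N N α.toMonoidHom hN
    have hβ : ∀ g : G, β g = (α g : G) := fun g => rfl
    have h1 : Nat.card {q : G ⧸ N // True} =
        Nat.card {s : G ⧸ N // ∃ q, q⁻¹ * β q = s} * Nat.card {q : G ⧸ N // β q = q} := by
      refine cnt_eq_mul_of_fiber (fun q => q⁻¹ * β q) (fun q _ => ⟨q, rfl⟩) ?_
      rintro _ ⟨r, rfl⟩
      refine cnt_eq_of_bij (fun q => q * r⁻¹) ?_ (fun a b _ _ h => mul_right_cancel h) ?_
      · rintro q ⟨-, h⟩
        rw [map_mul, map_inv, inv_mul_eq_iff_eq_mul.1 h]; group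
      · intro c hc
        exact ⟨c * r, ⟨trivial, by rw [map_mul, hc]; group⟩, by group⟩
    have h2 : Nat.card {q : G ⧸ N // True} ≤
        Nat.card {s : G ⧸ N // ∃ q, q⁻¹ * β q = s} * Nat.card {q : G ⧸ N // ∃ c : G, α c = c ∧ (c : G ⧸ N) = q} := by
      refine cnt_le_mul (fun (q s : G ⧸ N) => ∃ c : G, α c = c ∧ q = c * s) ?_ ?_
      · intro q _
        obtain ⟨y, rfl⟩ := QuotientGroup.mk_surjective q
        obtain ⟨c, g, h1, h2⟩ := hccp y
        exact ⟨(g : G ⧸ N)⁻¹ * β g, ⟨_, rfl⟩, c, h1, by rw [h2]; rfl⟩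
      · intro s _
        refine cnt_le_of_injOn (fun q => q * s⁻¹) ?_ (fun a b _ _ h => mul_right_cancel h)
        rintro q ⟨-, c, hc, rfl⟩
        exact ⟨c, hc, by group⟩
    rw [h1] at h2
    have h3 := Nat.le_of_mul_le_mul_left h2 (cnt_pos (x := 1) ⟨1, by simp⟩)
    by_contra hn
    have h4 : ¬ ∃ c : G, α c = c ∧ (c : G ⧸ N) = x := fun ⟨c, h1, h2⟩ => hn ⟨c, h1, QuotientGroup.eq.1 h2⟩
    have h5 := cnt_insert (p := fun q : G ⧸ N => ∃ c : G, α c = c ∧ (c : G ⧸ N) = q) h4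
    have h6 := cnt_mono (p := fun q : G ⧸ N => (∃ c : G, α c = c ∧ (c : G ⧸ N) = q) ∨ q = x) (q := fun q => β q = q) (by
      rintro q (⟨c, hc, rfl⟩ | rfl)
      · rw [hβ, hc]
      · rw [hβ, eq_comm, QuotientGroup.eq]; exact hx)
    omega

end Cfsg.Agent.S4154
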