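import Cfsg.Statements.S4155
import Cfsg.Agent.S4107
import Cfsg.Agent.Lib.Solv.Frob2
import Cfsg.Agent.Lib.Solv.Schmidt
import Cfsg.Agent.Lib.BG.Quo

set_option autoImplicit false
open Cfsg

namespace Cfsg.Agent.S4155

/-- Let G be a finite group and N a proper non-trivial normal nilpotent subgroup whose order is not a prime power, such that for every x outside N all elements of the coset xN have the same order as x. Then N is the Fitting subgroup of G, and for every prime q every Sylow q-subgroup of G/N is cyclic or generalized quaternion. -/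
theorem result {G : Type*} [Group G] [Finite G] (N : Subgroup G) [N.Normal] (hN1 : N ≠ ⊥) (hN2 : N ≠ ⊤)
    (heq : ∀ x : G, x ∉ N → ∀ n ∈ N, orderOf (x * n) = orderOf x)
    (hnil : Group.IsNilpotent N) (hnpp : ¬ IsPrimePow (Nat.card N)) :
    N = Cfsg.fittingSubgroup G ∧
    ∀ (q : ℕ) [Fact q.Prime] (Q : Sylow q (G ⧸ N)), IsCyclic (Q : Subgroup (G ⧸ N)) ∨ ∃ n : ℕ, Nonempty ((Q : Subgroup (G ⧸ N)) ≃* QuaternionGroup (2 ^ n)) := by
  open Pointwise commutatorElement Subgroup Cfsg.Agent.Solv in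
  open Cfsg.Agent.Solv Cfsg.Agent.Transfer in
  obtain ⟨h1, h2⟩ := S4107.result N hN1 hN2 heq
  refine ⟨(le_fitting hnil).eq_of_not_lt fun h => hnpp ?_, fun q _ Q => ?_⟩
  · obtain ⟨p, k, hp, -, h3⟩ := (isPrimePow_nat_iff _).1 (h2 h)
    obtain ⟨j, -, h4⟩ := (Nat.dvd_prime_pow hp).1 (h3 ▸ card_dvd_of_le h.le)
    rw [h4]
    exact hp.isPrimePow.pow (by rintro rfl; exact hN1 (card_eq_one.1 h4))
  obtain ⟨p, hp, h3, h4⟩ : ∃ p : ℕ, p.Prime ∧ p ∣ Nat.card N ∧ p ≠ q := by
    by_contra h; push Not at h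
    obtain ⟨j, h4⟩ := (isPGroup_of_forall_prime_dvd h).exists_card_eq
    exact hnpp (h4 ▸ (Fact.out : q.Prime).isPrimePow.pow (by rintro rfl; exact hN1 (card_eq_one.1 h4)))
  haveI := Fact.mk hp
  obtain ⟨K, hK⟩ := exists_isSylowIn p N
  haveI := hK.normal_of_nilpotent hnil
  obtain ⟨S, hS⟩ := exists_isSylowIn q ((Q : Subgroup (G ⧸ N)).comap (QuotientGroup.mk' N))
  have h5 := hS.inf_normal (le_comap_mk _ _) le_normalizer_of_normal
  haveI := h5.normal_of_nilpotent hnil
  generalize hM : S ⊓ N = M at h5 this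
  have h6 : M ⊓ K = ⊥ := inf_eq_bot_of_coprime' (coprime_card_of_isPGroup_ne h4.symm h5.isPGroup hK.isPGroup)
  have h7 : S.map (QuotientGroup.mk' N) = Q := by
    have := hS.map (QuotientGroup.mk' N)
    rw [map_comap_mk] at this
    exact (this.eq_of_le Q.2 le_rfl this.le).symm
  have e : S.map (QuotientGroup.mk' M) ≃* Q := (quotientSubgroupOfEquivMap S M).symm.trans
    ((QuotientGroup.quotientMulEquivOfEq (by rw [← hM, inf_subgroupOf_left])).trans
      ((quotientSubgroupOfEquivMap S N).trans (MulEquiv.subgroupCongr h7)))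
  obtain h | ⟨rfl, a, b, m, a1, a2, a3, a4, a5, a6, a7⟩ := isCyclic_or_quaternion_of_fpf (p := q) (K := K.map (QuotientGroup.mk' M))
    (S := S.map (QuotientGroup.mk' M)) le_normalizer_of_normal (by
      rintro _ ⟨s, hs, rfl⟩ b1
      refine fpf_iff.2 ?_
      rintro _ ⟨k, hk, rfl⟩ b2
      have b3 : Commute s k := commutatorElement_eq_one_iff_commute.1 (mem_bot.1 (h6.le (mem_inf.2 ⟨by
        rw [← QuotientGroup.eq_one_iff, ← QuotientGroup.mk'_apply, map_commutatorElement]
        exact commutatorElement_eq_one_iff_mul_comm.2 b2, commutator_le_right _ _ (commutator_mem_commutator (mem_top s) hk)⟩)))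
      have b4 := heq s (fun h => b1 ((QuotientGroup.eq_one_iff s).2 (hM.le (mem_inf.2 ⟨hs, h⟩)))) k (hK.le hk)
      rw [b3.orderOf_mul_eq_mul_orderOf_of_coprime (by
        simpa using coprime_card_of_isPGroup_ne h4.symm (isPGroup_zpowers_of_mem hS.isPGroup hs)
          (isPGroup_zpowers_of_mem hK.isPGroup hk)), mul_eq_left₀ (orderOf_pos s).ne', orderOf_eq_one_iff] at b4
      rw [b4, map_one])
    (fun h => hK.ne_bot h3 (by rw [← h6, inf_eq_right.2 ((map_mk_eq_bot_iff M).1 h)])) (hS.isPGroup.map _)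
  · exact .inl (e.isCyclic.1 h)
  · obtain ⟨e'⟩ := nonempty_quaternion_of_gens a2 a3 a4 a6 a7
    exact .inr ⟨m, ⟨e.symm.trans e'⟩⟩

end Cfsg.Agent.S4155
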