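import Cfsg.Statements.S4156
import Mathlib

set_option autoImplicit false
open Cfsg

namespace Cfsg.Agent.S4156

open Equiv Module

/-- Let n ≥ 5 and F a finite field. Then the projective special linear group PSL_n(F) contains a subgroup isomorphic to the alternating group of degree n + 1. -/
theorem result (n : ℕ) (hn : 5 ≤ n) (F : Type*) [Field F] [Finite F] :
    ∃ f : alternatingGroup (Fin (n + 1)) →* Matrix.ProjectiveSpecialLinearGroup (Fin n) F, Function.Injective f := by
  classical
  haveI := alternatingGroup.isSimpleGroup (α := Fin (n + 1)) (by simp; omega)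
  let s : (Fin (n + 1) → F) →ₗ[F] F := ∑ i, LinearMap.proj i
  have hs : ∀ x, s x = ∑ i, x i := fun x => by simp [s]
  have hd : finrank F (LinearMap.ker s) = n := by
    have := s.finrank_range_add_finrank_ker
    rw [LinearMap.range_eq_top.2 fun c => ⟨Pi.single 0 c, by simp [hs]⟩] at this
    simp at this; omega
  let b := Module.finBasisOfFinrankEq F _ hd
  let ρ : alternatingGroup (Fin (n + 1)) →* End F (LinearMap.ker s) :=
    { toFun := fun g => (LinearMap.funLeft F F g.1.symm).restrict fun x hx => by
        rw [LinearMap.mem_ker, hs] at hx ⊢; rw [← hx]; exact Equiv.sum_comp g.1.symm x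
      map_one' := rfl
      map_mul' := fun _ _ => rfl }
  let μ := (LinearMap.toMatrixAlgEquiv b).toMonoidHom.comp ρ
  have ab : ∀ {A : Type _} [Group A] (φ : alternatingGroup (Fin (n + 1)) →* A), (∀ x y, Commute (φ x) (φ y)) →
      ∀ g, φ g = 1 := fun φ h g => by
    have : commutator _ ≤ φ.ker := by
      rw [commutator_eq_closure, Subgroup.closure_le]
      rintro _ ⟨x, y, rfl⟩
      exact (map_commutatorElement φ x y).trans (h x y).commutator_eq
    exact this (by rw [commutator_alternatingGroup_eq_top (by simp; omega)]; trivial)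
  have d : ∀ g, (μ g).det = 1 := fun g => congrArg Units.val
    (ab (Matrix.detMonoidHom.comp μ).toHomUnits (fun _ _ => Commute.all _ _) g)
  let ν : alternatingGroup (Fin (n + 1)) →* Matrix.SpecialLinearGroup (Fin n) F :=
    { toFun := fun g => ⟨μ g, d g⟩
      map_one' := Subtype.ext μ.map_one
      map_mul' := fun x y => Subtype.ext (μ.map_mul x y) }
  refine ⟨(QuotientGroup.mk' _).comp ν, (MonoidHom.ker_eq_bot_iff _).1 ?_⟩
  refine ((MonoidHom.normal_ker _).eq_bot_or_eq_top).resolve_right fun h => ?_
  have c := ab ν fun x y => Subgroup.mem_center_iff.1 ((QuotientGroup.eq_one_iff _).1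
    (show y ∈ MonoidHom.ker ((QuotientGroup.mk' _).comp ν) from h ▸ trivial)) _
  obtain ⟨x, y, z, xy, xz, yz⟩ := (Fintype.two_lt_card_iff (α := Fin (n + 1))).1 (by simp; omega)
  have h3 := (Perm.isThreeCycle_swap_mul_swap_same xy xz yz).mem_alternatingGroup
  have e : ρ ⟨_, h3⟩ = 1 := (LinearMap.toMatrixAlgEquiv b).injective
    ((congrArg Subtype.val (c ⟨_, h3⟩)).trans (map_one _).symm)
  have := congrFun (congrArg Subtype.val (LinearMap.congr_fun e ⟨Pi.single x 1 - Pi.single z 1, by
    simp [hs]⟩)) x
  change (Pi.single x 1 - Pi.single z 1 : Fin (n + 1) → F) (swap x z (swap x y x)) =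
    (Pi.single x 1 - Pi.single z 1 : Fin (n + 1) → F) x at this
  rw [swap_apply_left, swap_apply_of_ne_of_ne xy.symm yz] at this
  simp [xy.symm, yz, xz] at this

end Cfsg.Agent.S4156
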