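import Cfsg.Statements.S4157
import Cfsg.Agent.Lib.Solv.MaxCl
import Cfsg.Agent.S4003

set_option autoImplicit false
open Cfsg

namespace Cfsg.Agent.S4157
section
open Pointwise commutatorElement Subgroup Cfsg.Agent.Solv
open Cfsg.Agent.Transfer
theorem dvd_cnt_of_conj_elt {G : Type*} [Group G] [Finite G] {Q : G → Prop} {d : ℕ}
    (hQ : ∀ g x, Q x → Q (g * x * g⁻¹)) (h : ∀ x, Q x → d ∣ (centralizer ({x} : Set G)).index) :
    d ∣ Nat.card {x // Q x} := by
  classical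
  have := Fintype.ofFinite G
  rw [cnt_eq_sum]
  refine dvd_sum_class ⊤ _ (fun k _ v => if_congr ⟨fun h1 => ?_, hQ k v⟩ rfl rfl) fun v => ?_
  · simpa [mul_assoc] using hQ k⁻¹ _ h1
  · split_ifs with h1
    · simpa using h v h1
    · simp
theorem aux2 {G : Type*} [Group G] [Finite G] {m : ℕ} (hG : Nat.card G = 2 ^ m) (hc : ¬ IsCyclic G)
    (hcl : Group.nilpotencyClass G ≠ m - 1) (s : ℕ) : 2 ^ (s + 2) ∣ Nat.card {u : G // orderOf u = 2 ^ (s + 2)} := by
  haveI := Fact.mk Nat.prime_two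
  have hG' := IsPGroup.of_card hG
  haveI := hG'.isNilpotent
  obtain ⟨E, h3, h4, h5, h6⟩ : ∃ E : Subgroup G, Nat.card E = 2 ^ 2 ∧ IsMulCommutative E ∧ (∀ x ∈ E, x ^ 2 = 1) ∧
      ⊤ ≤ normalizer (E : Set G) := by
    by_cases h : ∀ A ≤ (⊤ : Subgroup G), ⊤ ≤ normalizer (A : Set G) → IsMulCommutative A → IsCyclic A
    · obtain ⟨a, b, k, a1, a2, -, a4, a5⟩ := two_group_normal_form (hG'.to_subgroup ⊤) h (mt isCyclic_top_iff.1 hc)
      rw [card_top] at a4
      have : NF2 a b k := ⟨by omega, a1, a4, a2, by tauto⟩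
      exact absurd (by rw [this.nilpotencyClass, Nat.pow_right_injective le_rfl (hG.symm.trans a4)]) hcl
    · push Not at h
      obtain ⟨A, -, a1, a2, a3⟩ := h
      obtain ⟨E, -, h⟩ := exists_normal_elementary_sq_of_abelian (L := ⊤) inferInstance a2 (hG'.to_subgroup A) le_top a1 a3
      exact ⟨E, h⟩
  haveI := Solv.normal_iff_top_le_normalizer.2 h6
  set Z := ⁅E, (⊤ : Subgroup G)⁆
  have hZE : Z ≤ E := commutator_le_left _ _
  have hZ : ∀ z ∈ Z, ∀ g, Commute z g := fun z hz g => BG.commute_of_mem_Ct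
    (BG.commutator_le_Ct_of_card_le (hG'.to_subgroup ⊤) (hG'.to_subgroup E) h6 h3.le hz) trivial
  have hZ2 : Nat.card Z ≤ 2 ^ 1 := BG.card_commutator_le (hG'.to_subgroup ⊤) (hG'.to_subgroup E) h6 h3.le
  have hZ3 : ∀ z ∈ Z, z ≠ 1 → ∀ w ∈ Z, w ≠ 1 → z = w := fun z hz h1 w hw h2 => by
    have := eq_of_card_prime_of_mem Nat.prime_two (BG.card_eq_of_card_le (hG'.to_subgroup Z)
      (fun h => h1 (by rwa [h] at hz)) hZ2) hw h2
    exact ((mem_zpowers_iff_of_sq (by rw [← pow_two, h5 w (hZE hw)])).1 (this ▸ hz)).resolve_left h1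
  have h7 : ∀ e ∈ E, ∀ x, ⁅e, x⁆ ∈ Z := fun e he x => commutator_mem_commutator he trivial
  have h8 : ∀ e ∈ E, ∀ x, (e * x) ^ 2 = ⁅e, x⁆ * x ^ 2 := fun e he x => by
    rw [commutatorElement_def, inv_eq_of_mul_eq_one_right (by rw [← pow_two, h5 e he] : e * e = 1), pow_two, pow_two]
    group
  have hE := comm_iff_le_centralizer.1 h4
  have h9 : ∀ u : G, orderOf u = 2 ^ (s + 2) → orderOf (u ^ 2) = 2 ^ (s + 1) := fun u h => by
    rw [orderOf_pow_of_dvd two_ne_zero (h ▸ dvd_pow_self _ (by omega)), h, pow_succ, Nat.mul_div_cancel _ two_pos]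
  rw [cnt_split _ fun u => u ^ 2 ∈ Z ∧ u ∉ centralizer (E : Set G)]
  refine dvd_add ?_ ?_
  · rcases s with _ | s
    swap
    · rw [cnt_eq_zero]
      · exact dvd_zero _
      rintro u ⟨a1, a2, -⟩
      have := orderOf_dvd_of_pow_eq_one (h5 _ (hZE a2))
      rw [h9 u a1, pow_succ] at this
      have := Nat.le_of_dvd two_pos this
      have := Nat.one_lt_two_pow (n := s + 1) (by omega)
      omega
    rw [cnt_split _ fun u => ∀ g, ⁅u, g⁆ ∈ Z]
    refine dvd_add ?_ (dvd_cnt_of_conj_elt ?_ ?_)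
    · by_cases h10 : ∃ u : G, (orderOf u = 2 ^ (0 + 2) ∧ u ^ 2 ∈ Z ∧ u ∉ centralizer (E : Set G)) ∧ ∀ g, ⁅u, g⁆ ∈ Z
      swap
      · rw [cnt_eq_zero fun u hu => h10 ⟨u, hu⟩]; exact dvd_zero _
      obtain ⟨u, ⟨-, a2, a3⟩, a4⟩ := h10
      let T : Subgroup G :=
        { carrier := {t | t ∈ centralMod ⊤ Z ∧ t ^ 2 ∈ Z}
          one_mem' := ⟨one_mem _, by simp⟩
          mul_mem' := fun {x y} hx hy => ⟨mul_mem hx.1 hy.1, by
            rw [show (x * y) ^ 2 = x * ⁅y, x⁆ * x⁻¹ * x ^ 2 * y ^ 2 by simp only [commutatorElement_def, pow_two]; group]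
            exact mul_mem (mul_mem (Normal.conj_mem inferInstance _ (hy.1.2 x trivial) x) hx.2) hy.2⟩
          inv_mem' := fun {x} hx => ⟨inv_mem hx.1, by rw [inv_pow]; exact inv_mem hx.2⟩ }
      have hT : ∀ t, t ∈ T ↔ (∀ g, ⁅t, g⁆ ∈ Z) ∧ t ^ 2 ∈ Z := fun t =>
        ⟨fun h => ⟨fun g => h.1.2 g trivial, h.2⟩, fun h => ⟨⟨le_normalizer_of_normal (mem_top t), fun g _ => h.1 g⟩, h.2⟩⟩
      have hET : E ≤ T := fun e he => (hT e).2 ⟨h7 e he, by rw [h5 e he]; exact one_mem _⟩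
      have b1 : Nat.card (E ⊔ zpowers u : Subgroup G) = 2 ^ 3 := by
        rw [card_sup_zpowers (le_normalizer_of_normal (mem_top u)) (hZE a2) fun h => a3 (hE h), h3]; rfl
      have b2 : ¬ E ⊔ zpowers u ≤ centralizer ((E ⊔ zpowers u : Subgroup G) : Set G) := fun h =>
        a3 (Comp.centralizer_mono le_sup_left (h (mem_sup_right (mem_zpowers u))))
      have b3 : ⁅E ⊔ zpowers u, ⊤⁆ ≤ Z :=
        (commutator_mono (sup_le hET (zpowers_le.2 ((hT u).2 ⟨a4, a2⟩))) le_rfl).trans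
          (commutator_le.2 fun x hx g _ => ((hT x).1 hx).1 g)
      obtain ⟨r, b4, b5, b6, b7⟩ := exists_central_mod_pow (p := 2) (L := ⊤) (N := Z)
        (M := centralizer ((E ⊔ zpowers u : Subgroup G) : Set G)) inferInstance (hG'.to_subgroup _) le_top
        (Solv.le_normalizer_centralizer (le_normalizer_of_commutator_le_of_le b3 (hZE.trans le_sup_left)))
        le_normalizer_of_normal fun h => hcl (maxClass_of_cube hG b1 (mt comm_iff_le_centralizer.1 b2)
          (h.trans (hZE.trans le_sup_left)))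
      have b8 : E < T ⊓ centralizer (E : Set G) := by
        refine lt_of_le_of_ne (le_inf hET hE) fun h => b5 ((commutator_mono le_rfl le_top : ⁅E ⊔ zpowers u, E ⊔ zpowers u⁆ ≤ _).trans b3 ?_)
        rw [(BG.center_eq_der_of_card (hG'.to_subgroup _) b1 b2).1]
        refine ⟨mem_sup_left ?_, b4⟩
        rw [h]
        exact ⟨(hT r).2 ⟨fun g => b7 g trivial, b6⟩, Comp.centralizer_mono le_sup_left b4⟩
      have b9 := BG.pow_le_card_of_lt (hG'.to_subgroup _) b8 h3.ge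
      obtain ⟨j, hj⟩ := (hG'.to_subgroup (T ⊓ centralizer (E : Set G))).exists_card_eq
      have b10 := card_dvd_cnt_of_mul (T ⊓ centralizer (E : Set G)) (Q := fun t => t ∈ T ∧ t ∉ centralizer (E : Set G))
        fun a ha x hx => ⟨mul_mem (mem_inf.1 ha).1 hx.1, fun h => hx.2 ((mul_mem_cancel_left (mem_inf.1 ha).2).1 h)⟩
      rw [hj, Nat.pow_le_pow_iff_right one_lt_two] at b9
      rw [hj, cnt_split _ fun t => t ^ 2 = 1] at b10
      obtain ⟨e, he, b11⟩ : ∃ e ∈ E, ⁅e, u⁆ ≠ 1 := by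
        by_contra h; push Not at h
        exact a3 (mem_centralizer_iff.2 fun e he => commutatorElement_eq_one_iff_mul_comm.1 (h e he))
      have b12 : ∀ t, t ∉ centralizer (E : Set G) → ⁅e, t⁆ ≠ 1 := fun t ht h => ht (by
        have c1 : e ∉ Z := fun h => b11 (commutatorElement_eq_one_iff_commute.2 (hZ e h u))
        rw [← BG.sup_zpowers_eq_of_card_le (k := 1) (hG'.to_subgroup E) h3.le hZE
          (BG.le_card_of_ne_bot (hG'.to_subgroup _) fun h => b11 (by simpa [h] using h7 e he u)) he c1,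
          Comp.centralizer_sup, Solv.centralizer_zpowers]
        exact ⟨mem_centralizer_iff.2 fun z hz => hZ z hz t,
          mem_centralizer_singleton.2 (commutatorElement_eq_one_iff_mul_comm.1 h)⟩)
      have b13 : ∀ t, t ∈ T ∧ t ∉ centralizer (E : Set G) → e * t ∈ T ∧ e * t ∉ centralizer (E : Set G) :=
        fun t ht => ⟨mul_mem (hET he) ht.1, fun h => ht.2 ((mul_mem_cancel_left (hE he)).1 h)⟩
      rw [cnt_eq_of_bij (q := fun t => (t ∈ T ∧ t ∉ centralizer (E : Set G)) ∧ ¬ t ^ 2 = 1) (fun t => e * t)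
        (fun t ht => ⟨b13 t ht.1, by rw [h8 e he, ht.2, mul_one]; exact b12 t ht.1.2⟩)
        (fun _ _ _ _ h => mul_left_cancel h) (fun t ht => ⟨e * t, ⟨b13 t ht.1, by
          rw [h8 e he, hZ3 _ (h7 e he t) (b12 t ht.1.2) _ ht.1.1.2 ht.2, ← pow_two, h5 _ (hZE ht.1.1.2)]⟩, by
          rw [← mul_assoc, ← pow_two, h5 e he, one_mul]⟩), ← two_mul] at b10
      refine (Nat.dvd_of_mul_dvd_mul_left two_pos ((pow_dvd_pow 2 b9).trans b10)).trans
        (dvd_of_eq (cnt_congr fun t => ⟨fun h => ⟨⟨?_, h.1.1.2, h.1.2⟩, ((hT t).1 h.1.1).1⟩,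
          fun h => ⟨⟨(hT t).2 ⟨h.2, h.1.2.1⟩, h.1.2.2⟩, fun h1 => ?_⟩⟩))
      · exact orderOf_eq_prime_pow (n := 1) h.2 (by rw [pow_succ, pow_mul]; exact h5 _ (hZE h.1.1.2))
      · have := orderOf_dvd_of_pow_eq_one h1
        rw [h.1.1] at this
        omega
    · rintro g x ⟨⟨a1, a2, a3⟩, a4⟩
      refine ⟨⟨by rwa [Transfer.orderOf_conj], by rw [conj_pow]; exact Normal.conj_mem inferInstance _ a2 g,
        fun h => a3 ?_⟩, fun h => a4 fun y => ?_⟩
      · simpa [mul_assoc] using Normal.conj_mem inferInstance _ h g⁻¹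
      · convert Normal.conj_mem inferInstance _ (h (g * y * g⁻¹)) g⁻¹ using 1
        simp only [commutatorElement_def]; group
    · rintro x ⟨⟨a1, a2, a3⟩, a4⟩
      push Not at a4
      obtain ⟨g, hg⟩ := a4
      obtain ⟨e, he, b11⟩ : ∃ e ∈ E, ⁅e, x⁆ ≠ 1 := by
        by_contra h; push Not at h
        exact a3 (mem_centralizer_iff.2 fun e he => commutatorElement_eq_one_iff_mul_comm.1 (h e he))
      obtain ⟨j, hj⟩ := hG'.index (centralizer {x})
      have b1 : 3 ≤ (centralizer ({x} : Set G)).index := by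
        rw [← card_isConj_eq_index, ← cnt_eq_three (a := x) (b := e * x * e⁻¹) (c := g * x * g⁻¹) ?_ ?_ ?_ fun _ => Iff.rfl]
        · refine cnt_mono ?_
          rintro _ (rfl | rfl | rfl)
          exacts [IsConj.refl _, isConj_conj _ _, isConj_conj _ _]
        · exact fun h => b11 (by rw [commutatorElement_def, ← h, mul_inv_cancel])
        · exact fun h => hg (by rw [← commutatorElement_inv, commutatorElement_def, ← h]; simp)
        · exact fun h => hg (by rw [← commutatorElement_inv, commutatorElement_def, ← h]; exact inv_mem (h7 e he x))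
      rw [hj] at b1 ⊢
      refine pow_dvd_pow _ (le_of_not_gt fun h => ?_)
      interval_cases j <;> omega
  refine dvd_cnt_of_fiber (fun u => E ⊔ zpowers (u ^ 2)) fun u hu => ?_
  refine Dvd.dvd.trans ?_ (card_dvd_cnt_of_mul (E ⊔ zpowers (u ^ 2)) fun a ha w hw => ?_)
  · have h11 := Solv.card_sup_mul_card_inf (H := zpowers (u ^ 2)) (N := E) le_normalizer_of_normal
    rw [h3, Nat.card_zpowers, h9 u hu.1, sup_comm] at h11
    obtain ⟨i, hi, h12⟩ := (Nat.dvd_prime_pow Nat.prime_two).1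
      (h3 ▸ card_dvd_of_le (inf_le_right : zpowers (u ^ 2) ⊓ E ≤ E))
    have h13 : i ≠ 2 := by
      rintro rfl
      have := Solv.eq_of_le_of_card_le (inf_le_right : zpowers (u ^ 2) ⊓ E ≤ E) (by rw [h12, h3])
      exact not_isCyclic_of_card_sq Nat.prime_two h3 h5 (isCyclic_of_le (this ▸ inf_le_left : E ≤ zpowers (u ^ 2)))
    refine Nat.dvd_of_mul_dvd_mul_right (pow_pos two_pos i) ?_
    rw [← h12, h11, h12, ← pow_add, ← pow_add]
    exact pow_dvd_pow _ (by omega)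
  rw [← hw.2] at ha ⊢
  obtain ⟨e, he, _, ⟨k, rfl⟩, rfl⟩ := (Solv.mem_sup_of_le_normalizer' le_normalizer_of_normal).1 ha
  obtain ⟨⟨a1, a2⟩, -⟩ := hw
  have h10 : ∀ y : G, ∀ j, orderOf y = 2 ^ j → zpowers (y ^ (2 * k + 1)) = zpowers y := fun y j h => by
    refine le_antisymm (zpowers_le.2 (zpow_mem (mem_zpowers _) _)) (zpowers_le.2 (mem_zpowers_zpow_iff.2 ?_))
    rw [h, Nat.cast_pow, ← Int.isCoprime_iff_gcd_eq_one]
    exact IsCoprime.pow_right ⟨1, -k, by push_cast; ring⟩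
  have h11 := h10 w _ a1
  have h12 := h10 _ _ (h9 w a1)
  rw [← zpow_natCast, ← zpow_mul, mul_comm, zpow_mul, zpow_natCast, zpow_natCast] at h12
  simp only
  rw [mul_assoc, ← zpow_natCast w 2, ← zpow_mul, ← zpow_add_one, zpow_natCast, ← h12]
  replace a2 : ¬ ((w ^ (2 * k + 1)) ^ 2 ∈ Z ∧ w ^ (2 * k + 1) ∉ centralizer (E : Set G)) := fun h =>
    a2 ⟨zpowers_le.1 (h12 ▸ zpowers_le.2 h.1), fun h1 => h.2 (zpow_mem h1 _)⟩
  rw [← Nat.card_zpowers, ← h11, Nat.card_zpowers] at a1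
  push_cast
  generalize w ^ (2 * k + 1) = x at a1 a2 ⊢
  have b1 := h7 e he x
  refine ⟨⟨orderOf_eq_prime_pow (fun h => ?_) ?_, fun h => a2 ⟨?_, fun h1 => h.2 (mul_mem (hE he) h1)⟩⟩, ?_⟩
  · rw [pow_succ', pow_mul, h8 e he, (hZ _ b1 _).mul_pow] at h
    rcases s with _ | s
    · simp only [pow_zero, pow_one] at h
      refine a2 ⟨(mul_mem_cancel_left b1).1 (h ▸ one_mem _), fun h1 => ?_⟩
      rw [commutatorElement_eq_one_iff_mul_comm.2 (mem_centralizer_iff.1 h1 e he), one_mul] at h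
      have := orderOf_dvd_of_pow_eq_one h
      rw [a1] at this
      omega
    · rw [pow_succ' 2 s, pow_mul ⁅e, x⁆, h5 _ (hZE b1), one_pow, one_mul, ← pow_succ', ← orderOf_dvd_iff_pow_eq_one,
        h9 x a1, Nat.pow_dvd_pow_iff_le_right one_lt_two] at h
      omega
  · rw [pow_succ', pow_mul, h8 e he, (hZ _ b1 _).mul_pow, pow_succ' 2 s, pow_mul ⁅e, x⁆, h5 _ (hZE b1), one_pow,
      one_mul, ← pow_succ', ← h9 x a1, pow_orderOf_eq_one]
  · exact (mul_mem_cancel_left b1).1 (h8 e he x ▸ h.1)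
  · rw [h8 e he]
    refine le_antisymm (sup_le le_sup_left (zpowers_le.2 (mul_mem (mem_sup_left (hZE b1))
      (mem_sup_right (mem_zpowers _))))) (sup_le le_sup_left (zpowers_le.2 ?_))
    exact (mul_mem_cancel_left (mem_sup_left (hZE b1))).1 (mem_sup_right (mem_zpowers _))
end

/-- Let G be a finite p-group of order p^m that is not cyclic and, when p = 2, not of maximal class (nilpotency class m − 1). Then for every 1 ≤ k < m the number of subgroups of G of order p^k is congruent to 1 + p modulo p². -/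
theorem result {G : Type*} [Group G] [Finite G] {p : ℕ} [Fact p.Prime] (m : ℕ)
    (hG : Nat.card G = p ^ m) (hnc : ¬ IsCyclic G) (h2 : p = 2 → Group.nilpotencyClass G ≠ m - 1)
    (k : ℕ) (hk1 : 1 ≤ k) (hk2 : k < m) :
    Nat.card {H : Subgroup G // Nat.card H = p ^ k} ≡ 1 + p [MOD p ^ 2] := by
  open Pointwise commutatorElement Subgroup Cfsg.Agent.Solv in
  obtain ⟨k, rfl⟩ := Nat.exists_eq_add_of_le' hk1
  refine card_subgroups_modEq_of_dvd (hG ▸ pow_dvd_pow p hk2) ?_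
  by_cases hp : p = 2
  · subst hp
    exact aux2 hG hnc (h2 rfl) k
  · exact (S4003.auxP hp ((IsPGroup.of_card hG).to_subgroup ⊤) (mt isCyclic_top_iff.1 hnc)).trans
      (dvd_of_eq (Transfer.cnt_congr fun u => by simp))

end Cfsg.Agent.S4157
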