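import Cfsg.Statements.S4159
import Cfsg.Agent.Lib.Ez.C1

set_option autoImplicit false
open Cfsg

namespace Cfsg.Agent.S4159

open Subgroup Cfsg.Agent.Comp Cfsg.Agent.Ez

/-- Let G be a finite group such that in every subgroup H of G, any two conjugacy classes of H of size greater than 1 have non-coprime sizes. Then G is solvable. -/
theorem result {G : Type*} [Group G] [Finite G]
    (h : ∀ (H : Subgroup G) (x y : H), 1 < (Subgroup.centralizer ({x} : Set H)).index → 1 < (Subgroup.centralizer ({y} : Set H)).index →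
      ¬ ((Subgroup.centralizer ({x} : Set H)).index).Coprime (Subgroup.centralizer ({y} : Set H)).index) : Group.IsSolvable G := by
  obtain ⟨P⟩ : Nonempty (Sylow 2 G) := inferInstance
  refine sol_of_normal_syl2 P ((S3861.result P).1 fun x h1 ho hx => ?_)
  obtain ⟨y, k, a, b⟩ := exists_two_inverts hx
  have hc : x * y ≠ y * x := fun e => h1 (Transfer.eq_one_of_odd_of_mul_self ho
    (eq_inv_iff_mul_eq_one.1 (by rw [← b, ← e, mul_inv_cancel_right])))
  have hn := zpowers_le.2 (Transfer.mem_normalizer_zpowers_of_inv b)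
  have key : ∀ {u v : G} {H : Subgroup G}, v ∈ H → u * v ≠ v * u →
      1 < (centralizer {u}).relIndex H := fun hv e =>
    Nat.one_lt_iff_ne_zero_and_ne_one.2 ⟨index_ne_zero_of_finite, fun c =>
      e (mem_C1.1 (relIndex_eq_one.1 c hv))⟩
  have c1 := mem_sup_left (T := zpowers y) (mem_zpowers x)
  have c2 := mem_sup_right (S := zpowers x) (mem_zpowers y)
  refine h _ ⟨x, c1⟩ ⟨y, c2⟩ ?_ ?_ ?_ <;> simp only [index_cent_sub]
  exacts [key c2 hc, key c1 hc.symm, Nat.Coprime.of_dvd
    ((relIndex_dvd_of_le_left _ (zpowers_le.2 (mem_C1.2 rfl))).trans (relIndex_sup_dvd_card' hn))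
    ((relIndex_dvd_of_le_left _ (zpowers_le.2 (mem_C1.2 rfl))).trans
      (sup_comm (zpowers y) _ ▸ relIndex_sup_dvd_card hn))
    (by rw [Nat.card_zpowers, Nat.card_zpowers, a]; exact (Nat.coprime_two_left.2 ho).pow_left k)]

end Cfsg.Agent.S4159
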