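import Cfsg.Statements.S4163
import Cfsg.Agent.Lib.BG.Cls2

set_option autoImplicit false
open Cfsg

namespace Cfsg.Agent.S4163

/-- Let G be a finite group with a normal abelian subgroup A satisfying C_G(A) = A. Suppose some conjugacy class of G has size greater than 1, let m be the smallest such size, and let M be the subgroup generated by the elements whose class has size 1 or m. Then M is nilpotent of class at most 3. -/
theorem result {G : Type*} [Group G] [Finite G]
    (A : Subgroup G) [A.Normal] (hA : IsMulCommutative A) (hCA : Subgroup.centralizer (A : Set G) = A)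
    (m : ℕ) (hm1 : 1 < m) (hm : ∃ x : G, (Subgroup.centralizer ({x} : Set G)).index = m) (hmin : ∀ x : G, 1 < (Subgroup.centralizer ({x} : Set G)).index → m ≤ (Subgroup.centralizer ({x} : Set G)).index) :
    Subgroup.upperCentralSeries ↥(Subgroup.closure {x : G | (Subgroup.centralizer ({x} : Set G)).index = 1 ∨ (Subgroup.centralizer ({x} : Set G)).index = m}) 3 = ⊤ := by
  open Pointwise commutatorElement Subgroup in
  open Cfsg.Agent.Comp Cfsg.Agent.BG in
  rw [← lowerCentralSeries_eq_bot_iff_upperCentralSeries_eq_top, ← map_subtype_inj, Subgroup.map_bot, top_subtype_lowerCentralSeries]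
  refine lcs_three hCA.le (commutator_closure_le_center fun t ht x hx => comm_mem_center hCA.ge ht fun y _ hy => ?_)
  have := lt_of_le_of_ne (Nat.pos_of_ne_zero index_ne_zero_of_finite) (mt index_C1_eq_one.1 hy ∘ Eq.symm)
  rcases hx with e | e <;> rw [e]
  exacts [this.le, hmin y this]

end Cfsg.Agent.S4163
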