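import Cfsg.Statements.S4168
import Cfsg.Agent.Lib.Solv.Frattini
import Cfsg.Agent.Lib.Comp.Basic

set_option autoImplicit false
open Cfsg

namespace Cfsg.Agent.S4168

/-- Let L be a finite quasisimple group (perfect with L/Z(L) simple). Then every prime dividing the order of the centre Z(L) also divides the order of L/Z(L). -/
theorem result {L : Type*} [Group L] [Finite L] (hL : Cfsg.IsQuasisimple L)
    (p : ℕ) (hp : p.Prime) (hdiv : p ∣ Nat.card (Subgroup.center L)) : p ∣ (Subgroup.center L).index := by
  open Pointwise commutatorElement Subgroup Cfsg.Agent.Solv in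
  refine (dvd_index_frattini hp (hdiv.trans (card_subgroup_dvd_card _))).trans (index_dvd_of_le ?_)
  rw [le_frattini_iff]
  intro M hM
  by_contra h
  have h1 := sup_eq_top_of_not_le_coatom hM h
  have h2 := Comp.commutator_sup_central (A := M) (Z := center L) (center_le_centralizer _) (center_le_centralizer _)
  rw [h1, ← _root_.commutator_def, hL.1.commutator_eq_top] at h2
  exact hM.1 (eq_top_iff.2 (h2.le.trans (Comp.commutator_le_left_of_le_normalizer le_normalizer)))

end Cfsg.Agent.S4168
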