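import Cfsg.Statements.S4169
import Cfsg.Agent.Lib.BG.Cls2

set_option autoImplicit false
open Cfsg

namespace Cfsg.Agent.S4169

/-- Let P be a finite p-group whose conjugacy classes have exactly two sizes (1 and one other value). Then P has nilpotency class at most 3. -/
theorem result {P : Type*} [Group P] [Finite P] {p : ℕ} [Fact p.Prime] (hP : IsPGroup p P)
    (m : ℕ) (hm : 1 < m) (h : ∀ x : P, (Subgroup.centralizer ({x} : Set P)).index = 1 ∨ (Subgroup.centralizer ({x} : Set P)).index = m) :
    upperCentralSeries P 3 = ⊤ := by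
  open Pointwise commutatorElement Subgroup in
  open Cfsg.Agent.Comp Cfsg.Agent.BG in
  have := hP.isNilpotent
  obtain ⟨A, -, a⟩ := exists_scn_ge (P := (⊤ : Subgroup P)) (B := ⊥) inferInstance bot_le inferInstance le_normalizer_of_normal
  have : A.Normal := Comp.normal_iff_top_le_normalizer.2 a.2.1
  refine Subgroup.lowerCentralSeries_eq_bot_iff_upperCentralSeries_eq_top.1 ?_
  refine lcs_three (a.le_of_le_Ct le_top le_rfl) (commutator_le.2 fun t ht x _ => comm_mem_center a.le_Ct ht fun y _ hy => ?_)
  rw [(h y).resolve_left (mt index_C1_eq_one.1 hy)]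
  rcases h x with e | e <;> rw [e]
  exact hm.le

end Cfsg.Agent.S4169
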