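import Cfsg.Statements.S4172
import Cfsg.Agent.Lib.BG.MinNA
import Cfsg.Agent.S0081

set_option autoImplicit false
open Cfsg

namespace Cfsg.Agent.S4172
section
open Pointwise commutatorElement Subgroup
open Fusion Cfsg.FusionSystem in
theorem tate' {G : Type*} [Group G] [Finite G] {p : ℕ} [Fact p.Prime] (P : Sylow p G) (N : Subgroup G)
    (hN : (P : Subgroup G) ≤ Subgroup.normalizer (N : Set G))
    (h : N ⊓ (P : Subgroup G) ≤ (frattini P).map (P : Subgroup G).subtype) : Cfsg.HasNormalPComplement p N := by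
  have h1 := (sylowIn_top P).of_le (le_sup_right (a := N)) le_top
  have h2 : Transfer.res p (N ⊔ P) ≤ N := by
    obtain ⟨n, hn⟩ := P.isPGroup'.index (N.subgroupOf P)
    exact Transfer.res_le_of_relIndex (n := n) (sup_le Subgroup.le_normalizer hN)
      (by rw [sup_comm, Comp.relIndex_sup_of_le_normalizer hN]; exact hn)
  have h3 := hyp_le_of_frattini h1.pgroup (sub_saturated h1) (D := ⊥)
    Subgroup.le_normalizer_of_normal (le_sup_of_le_left (by
      rw [hyp_sub h1]; exact (inf_le_inf_left _ h2).trans ((inf_comm _ _).le.trans h)))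
  rw [hyp_sub h1, le_bot_iff] at h3
  exact Transfer.hasNPC_mono ((Transfer.IsSyl.hasNPC_iff
    ⟨h1.le, h1.pgroup, h1.not_dvd_relIndex⟩).2 h3) le_sup_left

open Cfsg.Agent.Comp Cfsg.Agent.BG Subgroup commutatorElement in
theorem cyc {G : Type*} [Group G] [Finite G] {p : ℕ} [hp : Fact p.Prime] {P X : Subgroup G}
    (hP : IsPGroup p P) (hgen : (frattini P).index = p ^ 2) (h1 : X ≤ P) (h2 : P ≤ Nm(X))
    (h : ¬ X ≤ (frattini P).map P.subtype) : ⁅P, P⁆ ≤ X ∧ ∃ y ∈ P, X ⊔ zpowers y = P := by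
  have key : ∃ y ∈ P, X ⊔ zpowers y = P := by
    set F := (frattini P).map P.subtype with hF
    have hFP : F ≤ P := map_subtype_le _
    have hi : F.relIndex P = p ^ 2 := by
      rw [hF, Subgroup.relIndex, ← hgen]
      congr 1
      exact comap_map_eq_self_of_injective P.subtype_injective _
    by_cases e : X ⊔ F = P
    · exact ⟨1, one_mem _, by rw [zpowers_one_eq_bot, sup_bot_eq]; exact Solv.eq_of_sup_map_frattini h1 e.ge⟩
    have l1 : F < X ⊔ F := lt_of_le_of_ne le_sup_right fun e => h (le_sup_left.trans e.ge)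
    have l2 : X ⊔ F < P := lt_of_le_of_ne (sup_le h1 hFP) e
    obtain ⟨y, hy, hy2⟩ := SetLike.exists_of_lt l2
    have l3 : X ⊔ F < X ⊔ F ⊔ zpowers y := lt_of_le_of_ne le_sup_left fun e => hy2 (e.ge (mem_sup_right (mem_zpowers y)))
    have l4 : X ⊔ F ⊔ zpowers y ≤ P := sup_le l2.le (zpowers_le.2 hy)
    have c1 := mul_card_le_of_lt (hP.to_le l2.le) l1
    have c2 := mul_card_le_of_lt (hP.to_le l4) l3
    have c3 := Comp.relIndex_mul_card hFP
    refine ⟨y, hy, Solv.eq_of_sup_map_frattini (sup_le h1 (zpowers_le.2 hy)) ?_⟩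
    rw [sup_right_comm]
    refine (Subgroup.eq_of_le_of_card_ge l4 ?_).ge
    rw [← c3, hi]
    calc p ^ 2 * Nat.card F = p * (p * Nat.card F) := by ring
      _ ≤ _ := (Nat.mul_le_mul_left _ c1).trans c2
  refine ⟨?_, key⟩
  obtain ⟨y, hy, e⟩ := key
  rw [Subgroup.commutator_le]
  intro a ha b hb
  have ha' := ha
  have hb' := hb
  rw [← e, Comp.mem_sup_of_le_normalizer' ((zpowers_le.2 hy).trans h2)] at ha' hb'
  obtain ⟨u, hu, _, ⟨i, rfl⟩, rfl⟩ := ha'
  obtain ⟨v, hv, _, ⟨j, rfl⟩, rfl⟩ := hb'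
  have e1 : ⁅u * y ^ i, v * y ^ j⁆ = u * (y ^ i * v * (y ^ i)⁻¹) * (y ^ j * u⁻¹ * (y ^ j)⁻¹) * v⁻¹ := by
    rw [commutatorElement_def]; group
  show ⁅u * y ^ i, v * y ^ j⁆ ∈ X
  rw [e1]
  exact mul_mem (mul_mem (mul_mem hu (Comp.conj_mem_of_mem_normalizer (h2 (zpow_mem hy _)) hv))
    (Comp.conj_mem_of_mem_normalizer (h2 (zpow_mem hy _)) (inv_mem hu))) (inv_mem hv)

open Cfsg.Agent.Comp Cfsg.Agent.BG Subgroup commutatorElement in
theorem amb {G : Type*} [Group G] [Finite G] {p : ℕ} [hp : Fact p.Prime] {H C : Subgroup G}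
    (h : SylIn p H C) {z : G} (hz : z ∈ H) (hc : z ∈ Ct(C)) (hd : z ∈ ⁅C, C⁆) : z ∈ ⁅H, H⁆ := by
  have h1 := MinNA.pow_index_mem_der (G := C) (H := H.subgroupOf C) (z := ⟨z, h.le hz⟩) hz
    (mem_center_iff.2 fun g => Subtype.ext (hc g g.2)) (by
      rw [← Subgroup.mem_map_iff_mem C.subtype_injective, _root_.commutator_def, Subgroup.map_commutator,
        ← MonoidHom.range_eq_map, range_subtype]
      exact hd)
  have h2 : z ^ H.relIndex C ∈ ⁅H, H⁆ := by
    have := mem_map_of_mem C.subtype h1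
    rw [Subgroup.map_commutator, subgroupOf_map_subtype, inf_eq_left.2 h.le] at this
    exact this
  obtain ⟨k, hk⟩ := h.isP ⟨z, hz⟩
  have h3 : orderOf z ∣ p ^ k := orderOf_dvd_of_pow_eq_one (congrArg Subtype.val hk)
  have h4 : z ∈ zpowers (z ^ H.relIndex C) := mem_zpowers_pow_iff.2
    (Nat.Coprime.coprime_dvd_right h3 (((Nat.Prime.coprime_iff_not_dvd hp.out).2 h.not_dvd_relIndex).symm.pow_right _))
  exact zpowers_le.2 h2 h4
end

/-- Let p be a prime and G a finite group with a non-commutative Sylow p-subgroup P whose Frattini subgroup has index p² in P (P is generated by two elements). Suppose G has no nontrivial normal subgroup of order prime to p and the Frattini subgroup of P contains no nontrivial normal subgroup of G. Then the generalized Fitting subgroup F*(G) is the unique minimal normal subgroup of G, the image of P in G/F*(G) is cyclic, and if F*(G) is not commutative then P permutes the components of G transitively by conjugation. -/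
theorem result {G : Type*} [Group G] [Finite G] (p : ℕ) [Fact p.Prime] (P : Sylow p G) (hna : ¬ IsMulCommutative (P : Subgroup G)) (hgen : (frattini ↥(P : Subgroup G)).index = p ^ 2) (hcore : Cfsg.pPrimeCore p G = ⊥) (hfrat : ((frattini ↥(P : Subgroup G)).map (P : Subgroup G).subtype).normalCore = ⊥) [hFn : (Cfsg.generalizedFittingSubgroup G).Normal] :
    (Cfsg.generalizedFittingSubgroup G ≠ ⊥ ∧ ∀ K : Subgroup G, K.Normal → K ≠ ⊥ → Cfsg.generalizedFittingSubgroup G ≤ K) ∧
      IsCyclic ↥((P : Subgroup G).map (QuotientGroup.mk' (Cfsg.generalizedFittingSubgroup G))) ∧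
      (¬ IsMulCommutative (Cfsg.generalizedFittingSubgroup G) → ∀ K L : Subgroup G, Cfsg.IsComponent K → Cfsg.IsComponent L → ∃ x ∈ (P : Subgroup G), L = K.map (MulAut.conj x).toMonoidHom) := by
  open Pointwise commutatorElement Subgroup in
  open Cfsg.Agent.Comp Cfsg.Agent.BG Subgroup commutatorElement in
  have hS := sylIn_top P
  have hP := P.isPGroup'
  have hO : Opp p (⊤ : Subgroup G) = ⊥ := by rw [Opp_top, hcore]
  have hD0 : ⁅(P : Subgroup G), (P : Subgroup G)⁆ ≠ ⊥ := by
    intro e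
    rw [Subgroup.commutator_eq_bot_iff_le_centralizer, Subgroup.le_centralizer_iff_isMulCommutative] at e
    exact hna e
  have hΦ : ∀ N : Subgroup G, N.Normal → N ≤ (frattini P).map (P : Subgroup G).subtype → N = ⊥ := by
    intro N hN h
    rw [eq_bot_iff, ← hfrat]
    exact normal_le_normalCore.2 h
  have key : ∀ N : Subgroup G, N.Normal → N ≠ ⊥ → ⁅(P : Subgroup G), (P : Subgroup G)⁆ ≤ N ∧
      ∃ y ∈ (P : Subgroup G), N ⊓ P ⊔ zpowers y = P := by
    intro N hN h0
    have := cyc (X := N ⊓ P) hP hgen inf_le_right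
      (Comp.le_normalizer_inf le_normalizer_of_normal le_normalizer) (by
        intro h
        have h1 := tate' P N le_normalizer_of_normal h
        rw [hasNPC_iff_le, eq_bot_iff.2 (hO ▸ Opp_le_Opp_of_normal le_top le_normalizer_of_normal : Opp p N ≤ ⊥),
          le_bot_iff, Res_eq_bot_iff] at h1
        have h2 : N ≤ P := hS.le_of_normalizer' h1 le_top le_normalizer_of_normal
        rw [inf_eq_left.2 h2] at h
        exact h0 (hΦ N hN h))
    exact ⟨this.1.trans inf_le_left, this.2⟩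
  obtain ⟨N₀, hNn, hDN, hmin⟩ : ∃ N₀ : Subgroup G, N₀.Normal ∧ ⁅(P : Subgroup G), (P : Subgroup G)⁆ ≤ N₀ ∧
      ∀ N : Subgroup G, N.Normal → N ≠ ⊥ → N₀ ≤ N :=
    ⟨normalClosure ((⁅(P : Subgroup G), (P : Subgroup G)⁆ : Subgroup G) : Set G), inferInstance, le_normalClosure,
      fun N hN h => normalClosure_le_normal (key N hN h).1⟩
  have hN0 : N₀ ≠ ⊥ := fun e => hD0 (eq_bot_iff.2 (e ▸ hDN))
  have nrm : ∀ {X : Subgroup G}, ⊤ ≤ Nm(X) → X.Normal := fun h => normalizer_eq_top_iff.1 (eq_top_iff.2 h)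
  have hQn : (Op p (⊤ : Subgroup G)).Normal := nrm (le_normalizer_Op le_normalizer)
  have hEn : (Lay (⊤ : Subgroup G)).Normal := nrm (le_normalizer_Lay le_normalizer)
  have hFit : Fit (⊤ : Subgroup G) = Op p ⊤ :=
    le_antisymm (by simpa [hO] using Fit_le_Op_sup_Opp (p := p) (⊤ : Subgroup G)) (Op_le_Fit p _)
  have hQP : Op p (⊤ : Subgroup G) ≤ P := hS.le_of_normalizer' (isPGroup_Op p _) le_top le_normalizer_of_normal
  have hDΦ : ⁅(P : Subgroup G), (P : Subgroup G)⁆ ≤ (frattini P).map (P : Subgroup G).subtype :=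
    Solv.commutator_le_map_frattini hP.isNilpotent
  have hcase : Lay (⊤ : Subgroup G) ≠ ⊥ → Op p (⊤ : Subgroup G) = ⊥ := by
    intro hE
    by_contra hQ
    have h1 := hmin _ hEn hE
    have h2 := hmin _ hQn hQ
    apply hN0
    apply hΦ _ inferInstance
    intro z hz
    have := amb (hS.inf_normal (N := Lay ⊤) le_top le_normalizer_of_normal) (z := z) ⟨hQP (h2 hz), h1 hz⟩
      (Op_le_centralizer_Lay p _ (h2 hz)) (by rw [Lay_perfect]; exact h1 hz)
    exact hDΦ (commutator_mono inf_le_left inf_le_left this)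
  have hQab : Op p (⊤ : Subgroup G) ≤ Ct(Op p (⊤ : Subgroup G)) ∧ ∀ x ∈ Op p (⊤ : Subgroup G), x ^ p = 1 := by
    have h1 : (frattini (Op p (⊤ : Subgroup G))).map (Op p (⊤ : Subgroup G)).subtype = ⊥ :=
      hΦ _ inferInstance (Solv.map_frattini_mono hP hQP)
    constructor
    · rw [← Subgroup.commutator_eq_bot_iff_le_centralizer, eq_bot_iff, ← h1]
      exact Solv.commutator_le_map_frattini (isPGroup_Op p _).isNilpotent
    · intro x hx
      rw [← mem_bot, ← h1]
      exact Solv.pow_mem_map_frattini (isPGroup_Op p _) hx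
  have hF : generalizedFittingSubgroup G = Lay ⊤ ⊔ Op p ⊤ := by rw [← Fstar_top, Fstar, hFit]
  have hF0 : generalizedFittingSubgroup G ≠ ⊥ := by
    intro e
    have := eq_bot_of_Fstar_eq_bot (Fstar_top.trans e)
    exact hN0 (eq_bot_iff.2 (this ▸ le_top))
  have hFN : generalizedFittingSubgroup G ≤ N₀ := by
    by_cases hE : Lay (⊤ : Subgroup G) = ⊥
    swap
    · rw [hF, hcase hE, sup_bot_eq, Lay_le_iff]
      intro K hK
      rcases hK.le_or_le_centralizer_of_normalizer (H := N₀) le_top le_normalizer_of_normal with h | h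
      · exact h
      exfalso
      have h1 : K ≤ Ct(N₀) := Subgroup.le_centralizer_iff.1 h
      have h2 := hmin Ct(N₀) inferInstance (fun e => hK.qs.ne_bot (eq_bot_iff.2 (e ▸ h1)))
      have h3 := le_Fit (M := ⊤) le_top le_normalizer_of_normal (isNilpotent_of_le_centralizer h2)
      rw [hFit, hcase hE] at h3
      exact hN0 (eq_bot_iff.2 h3)
    rw [hE, bot_sup_eq] at hF
    have hCQ : Ct(Op p (⊤ : Subgroup G)) ≤ Op p ⊤ := by
      have := centralizer_fstar_le (G := G)
      rwa [hF] at this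
    rw [hF] at hF0 ⊢
    set Q := Op p (⊤ : Subgroup G) with hQ
    have hNQ := hmin _ hQn hF0
    by_contra hn
    obtain ⟨y, hy, e⟩ := (key N₀ inferInstance hN0).2
    rw [inf_eq_left.2 (hNQ.trans hQP)] at e
    obtain ⟨G', _, _, f, hsurj, hker⟩ : ∃ (G' : Type _) (_ : Group G') (_ : Finite G') (f : G →* G'),
        Function.Surjective f ∧ f.ker = N₀ :=
      ⟨G ⧸ N₀, inferInstance, inferInstance, QuotientGroup.mk' N₀, QuotientGroup.mk'_surjective N₀,
        QuotientGroup.ker_mk' N₀⟩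
    have hPb : (P : Subgroup G).map f = zpowers (f y) := by
      rw [← e, Subgroup.map_sup, (Subgroup.map_eq_bot_iff _).2 hker.ge, bot_sup_eq, MonoidHom.map_zpowers]
    have hSb : SylIn p (zpowers (f y)) ⊤ := by
      have := hS.map f
      rwa [hPb, Subgroup.map_top_of_surjective _ hsurj] at this
    haveI hQb : (Q.map f).Normal := hQn.map f hsurj
    have hQbP : Q.map f ≤ zpowers (f y) := hPb ▸ Subgroup.map_mono hQP
    have hPC : zpowers (f y) ≤ Ct(Q.map f) := (le_centralizer _).trans (centralizer_le hQbP)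
    set C := Ct(Q.map f) with hC
    haveI hCn : C.Normal := by rw [hC]; infer_instance
    obtain ⟨z, hz, hz2⟩ := SetLike.not_le_iff_exists.1 hn
    have hz1 : f z ≠ 1 := fun e => hz2 (hker ▸ e)
    have hzel : El p 1 (zpowers (f z)) := el_one_zpowers' hz1 (by rw [← map_pow, hQab.2 z hz, map_one])
    have hK : ¬ p ∣ Nat.card (⁅C, C⁆ : Subgroup G') := by
      rw [← (hSb.inf_normal (N := ⁅C, C⁆) le_top le_normalizer_of_normal).eq_bot_iff]
      by_contra hb
      obtain ⟨X, hX, hXel⟩ := exists_el_one_of_isPGroup (hSb.isP.to_inf_left) hb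
      have e1 := hXel.eq_omegaOne_of_isCyclic (hX.trans inf_le_left) inferInstance
      have hzP : f z ∈ zpowers (f y) := hQbP (mem_map_of_mem f hz)
      have e2 := hzel.eq_omegaOne_of_isCyclic (zpowers_le.2 hzP) inferInstance
      have h3 : f z ∈ ⁅C, C⁆ := (hX.trans inf_le_right) (by rw [e1, ← e2]; exact mem_zpowers _)
      have h4 := amb (hSb.of_le hPC le_top) hzP (Subgroup.le_centralizer_iff.1 le_rfl (mem_map_of_mem f hz)) h3
      rw [(Subgroup.commutator_eq_bot_iff_le_centralizer).2 (le_centralizer (zpowers (f y))), mem_bot] at h4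
      exact hz1 h4
    set K := (⁅C, C⁆ : Subgroup G').comap f with hKd
    haveI hKn : K.Normal := by rw [hKd]; infer_instance
    have hNK : N₀ ≤ K := fun x hx => by
      rw [hKd, mem_comap, show f x = 1 from hker.ge hx]; exact one_mem _
    have hidx : N₀.relIndex K = Nat.card (⁅C, C⁆ : Subgroup G') := by
      rw [← hker, Subgroup.relIndex_ker, hKd, map_comap_eq_self_of_surjective hsurj]
    obtain ⟨L, hLK, hL1, hL2, hL3⟩ := exists_complement_of_coprime hNK le_normalizer_of_normal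
      (by rw [hidx]; exact Solv.coprime_card_of_isPGroup ((isPGroup_Op p _).to_le hNQ) hK)
    have hcop : (Nat.card L).Coprime (Nat.card Q) := by
      rw [hL3, hidx]; exact (Solv.coprime_card_of_isPGroup (isPGroup_Op p _) hK).symm
    have hQL : ⁅Q, L⁆ ≤ N₀ := by
      rw [← hker, ← Subgroup.map_eq_bot_iff, Subgroup.map_commutator,
        Subgroup.commutator_eq_bot_iff_le_centralizer, Subgroup.le_centralizer_iff]
      exact (map_le_iff_le_comap.2 hLK).trans (commutator_le_left _ _)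
    have h5 := commutator_sup_Ct (K := Q) (A := L) le_normalizer_of_normal hcop
      (Or.inr (by haveI := (isPGroup_Op p (⊤ : Subgroup G)).isNilpotent; infer_instance))
    have h6 : Q ⊓ Ct(L) ≤ Q ⊓ Ct(K) := by
      refine le_inf inf_le_left ?_
      rw [← hL2, Subgroup.le_centralizer_iff, sup_le_iff]
      exact ⟨hNQ.trans (hQab.1.trans (centralizer_le (show Q ⊓ Ct(L) ≤ Q from inf_le_left))),
        Subgroup.le_centralizer_iff.1 inf_le_right⟩
    have h7 := hmin (Q ⊓ Ct(K)) inferInstance (by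
      intro e
      rw [e, le_bot_iff] at h6
      rw [h6, sup_bot_eq] at h5
      exact hn (h5 ▸ hQL))
    have h8 : Q ≤ Ct(L) := by
      rw [← h5]
      exact sup_le (hQL.trans (h7.trans (inf_le_right.trans (centralizer_le hLK)))) inf_le_right
    have h9 : L = ⊥ := by
      have := Solv.inf_eq_bot_of_coprime' hcop
      rwa [inf_eq_left.2 ((Subgroup.le_centralizer_iff.1 h8).trans hCQ)] at this
    rw [h9, sup_bot_eq] at hL2
    have h10 : (P : Subgroup G) ≤ C.comap f := map_le_iff_le_comap.1 (hPb ▸ hPC)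
    have h11 : C.comap f ≤ Nm((P : Subgroup G)) := by
      rw [le_normalizer_iff_commutator_le_right]
      refine le_trans ?_ (hNQ.trans hQP)
      rw [hL2, hKd, ← map_le_iff_le_comap, Subgroup.map_commutator]
      exact commutator_mono (map_comap_le _ _) (hPb ▸ hPC)
    have h12 := (le_Op h10 h11 hP).trans (Op_le_Op_of_normal (M := ⊤) le_top le_normalizer_of_normal)
    apply hD0
    rw [Subgroup.commutator_eq_bot_iff_le_centralizer]
    exact h12.trans (hQab.1.trans (centralizer_le h12))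
  refine ⟨⟨hF0, fun K hK h => hFN.trans (hmin K hK h)⟩, ?_, ?_⟩
  · obtain ⟨y, hy, e⟩ := (key _ hFn hF0).2
    rw [← e, Subgroup.map_sup, (Subgroup.map_eq_bot_iff _).2 (inf_le_left.trans (QuotientGroup.ker_mk' _).ge),
      bot_sup_eq, MonoidHom.map_zpowers]
    infer_instance
  · intro hab K L hK hL
    have hE : Lay (⊤ : Subgroup G) ≠ ⊥ := by
      intro e
      rw [hF, e, bot_sup_eq, ← Subgroup.le_centralizer_iff_isMulCommutative] at hab
      exact hab hQab.1
    rw [← compIn_top_iff] at hK hL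
    by_contra hn
    push_neg at hn
    have orb : ∀ K, CompIn K (⊤ : Subgroup G) → ⁅(P : Subgroup G), (P : Subgroup G)⁆ ≤
        sSup {X | ∃ x ∈ (P : Subgroup G), X = cj(x, K)} := by
      intro K hK
      have hn : (P : Subgroup G) ≤ Nm((sSup {X | ∃ x ∈ (P : Subgroup G), X = cj(x, K)} : Subgroup G)) := by
        intro g hg
        refine mem_normalizer_sSup ?_ ?_
        · rintro _ ⟨x, hx, rfl⟩
          exact ⟨g * x, mul_mem hg hx, (Comp.cj_mul _ _ _).symm⟩
        · rintro _ ⟨x, hx, rfl⟩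
          exact ⟨g⁻¹ * x, mul_mem (inv_mem hg) hx, (Comp.cj_mul _ _ _).symm⟩
      refine (cyc hP hgen inf_le_right (Comp.le_normalizer_inf hn le_normalizer) ?_).1.trans inf_le_left
      intro h
      have h1 := Transfer.hasNPC_mono (tate' P _ hn h) (le_sSup ⟨1, one_mem _, (Comp.cj_one K).symm⟩)
      rw [hasNPC_iff_le, Res_eq_self_of_perfect hK.qs.perfect] at h1
      exact hK.qs.ne_bot (eq_bot_iff.2 (hO ▸ h1.trans (Opp_le_Opp_of_subnIn hK.subn)))
    have cen : ∀ K J, CompIn K (⊤ : Subgroup G) → CompIn J (⊤ : Subgroup G) →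
        (∀ x ∈ (P : Subgroup G), cj(x, K) ≠ J) → J ≤ Ct(⁅(P : Subgroup G), (P : Subgroup G)⁆) := by
      intro K J hK hJ h
      rw [Subgroup.le_centralizer_iff]
      refine (orb K hK).trans (sSup_le ?_)
      rintro _ ⟨x, hx, rfl⟩
      exact (hK.cj_of_mem (le_normalizer (mem_top x))).le_centralizer_of_ne hJ (h x hx)
    have h1 : Lay (⊤ : Subgroup G) ≤ Ct(⁅(P : Subgroup G), (P : Subgroup G)⁆) := by
      rw [Lay_le_iff]
      intro J hJ
      by_cases h : ∀ x ∈ (P : Subgroup G), cj(x, K) ≠ J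
      · exact cen K J hK hJ h
      push_neg at h
      obtain ⟨x, hx, rfl⟩ := h
      refine cen L _ hL hJ fun y hy e => hn (y⁻¹ * x) (mul_mem (inv_mem hy) hx) ?_
      rw [Comp.cj_mul, ← e, Comp.cj_inv_cj]
    have h2 := center_Lay_le_Fit (⊤ : Subgroup G)
    rw [hFit, hcase hE] at h2
    exact hD0 (eq_bot_iff.2 ((le_inf (key _ hEn hE).1 (Subgroup.le_centralizer_iff.1 h1)).trans h2))

end Cfsg.Agent.S4172
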