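import Cfsg.Statements.S4177
import Cfsg.Agent.Lib.Transfer.Count
import Cfsg.Agent.Lib.Solv.Fact
import Mathlib.RepresentationTheory.Invariants

set_option autoImplicit false
open Cfsg

namespace Cfsg.Agent.S4177

/-- Let k be a field whose characteristic does not divide the order of the finite group H (for instance a field of characteristic zero), and ρ a k-linear representation of H on V. Let a be a vector whose H-orbit spans V. Then the space of H-fixed vectors has dimension at most 1, and every vector b whose H-orbit has size coprime to the size of the orbit of a is fixed by H. -/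
theorem result {k V H : Type*} [Field k] [AddCommGroup V] [Module k V] [Group H] [Finite H]
    (hchar : ¬ ringChar k ∣ Nat.card H) (ρ : Representation k H V) (a : V)
    (hspan : Submodule.span k {u : V | ∃ h : H, ρ h a = u} = ⊤) :
    Module.finrank k ρ.invariants ≤ 1 ∧
    ∀ b : V, (Nat.card {u : V | ∃ h : H, ρ h a = u}).Coprime (Nat.card {u : V | ∃ h : H, ρ h b = u}) → ∀ h : H, ρ h b = b := by
  open Pointwise commutatorElement Subgroup Cfsg.Agent.Solv in
  open Cfsg.Agent.Transfer in
  classical
  have := Fintype.ofFinite H
  have hne : ∀ n : ℕ, n ∣ Nat.card H → (n : k) ≠ 0 := fun n hn h =>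
    hchar (((ringChar.spec k n).1 h).trans hn)
  haveI : Invertible (Fintype.card H : k) := invertibleOfNonzero (hne _ (by rw [Nat.card_eq_fintype_card]))
  constructor
  · refine finrank_le_one ⟨ρ.averageMap a, ρ.averageMap_invariant a⟩ ?_
    rintro ⟨v, hv⟩
    suffices h : ∃ c : k, c • ρ.averageMap a = ρ.averageMap v by
      obtain ⟨c, hc⟩ := h
      exact ⟨c, Subtype.ext (hc.trans (ρ.averageMap_id v hv))⟩
    have hv' : v ∈ Submodule.span k {u : V | ∃ h : H, ρ h a = u} := hspan ▸ Submodule.mem_top
    clear hv
    induction hv' using Submodule.span_induction with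
    | mem x hx =>
      obtain ⟨h, rfl⟩ := hx
      refine ⟨1, ?_⟩
      rw [one_smul, Representation.averageMap, ← Representation.asAlgebraHom_single_one, ← Module.End.mul_apply, ← map_mul,
        GroupAlgebra.mul_average_right]
    | zero => exact ⟨0, by simp⟩
    | add x y _ _ hx hy =>
      obtain ⟨c, hc⟩ := hx
      obtain ⟨d, hd⟩ := hy
      exact ⟨c + d, by rw [add_smul, hc, hd, map_add]⟩
    | smul c x _ hx =>
      obtain ⟨d, hd⟩ := hx
      exact ⟨c * d, by rw [mul_smul, hd, map_smul]⟩
  · intro b hcop
    letI : MulAction H V := MulAction.compHom V (ρ : H →* Module.End k V)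
    have hs : ∀ (h : H) (v : V), h • v = ρ h v := fun _ _ => rfl
    have hi : ∀ v : V, Nat.card {u : V | ∃ h : H, ρ h v = u} = (MulAction.stabilizer H v).index := fun v => by
      rw [MulAction.index_stabilizer, Nat.card_coe_set_eq]; rfl
    rw [hi, hi] at hcop
    set B := MulAction.stabilizer H b
    have key : ∀ (h g : H), ρ g (∑ β : B, ρ β (ρ h a)) = ∑ β : B, ρ β (ρ h a) := by
      intro h g
      set u := ρ h a
      have hp : IsProd ⊤ B (MulAction.stabilizer H u) := isProd_top_of_coprime (by
        rw [show u = h • a from rfl, MulAction.stabilizer_smul_eq_stabilizer_map_conj, ← conj_smul_eq_map, index_conj_smul]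
        exact hcop.symm)
      let O : Finset V := Finset.univ.image fun x : H => ρ x u
      have e1 : ∑ β : B, ρ β u = (Finset.univ.filter fun β : B => ρ β u = u).card • ∑ v ∈ O, v := by
        rw [← Finset.sum_fiberwise_of_maps_to (s := Finset.univ) (t := O) (g := fun β : B => ρ β u)
          (fun β _ => Finset.mem_image_of_mem _ (Finset.mem_univ _)), Finset.smul_sum]
        refine Finset.sum_congr rfl fun v hv => ?_
        rw [Finset.sum_congr rfl fun β hβ => (Finset.mem_filter.1 hβ).2, Finset.sum_const]
        congr 1
        obtain ⟨x, -, rfl⟩ := Finset.mem_image.1 hv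
        obtain ⟨β₀, hβ₀, s, hs', rfl⟩ := hp x trivial
        have e2 : ρ (β₀ * s) u = ρ β₀ u := by rw [map_mul, Module.End.mul_apply]; exact congrArg _ hs'
        rw [e2]
        refine Finset.card_equiv (Equiv.mulLeft (⟨β₀, hβ₀⟩ : B)⁻¹) fun β => ?_
        simp only [Finset.mem_filter, Finset.mem_univ, true_and, Equiv.coe_mulLeft, coe_mul, coe_inv, ← hs, mul_smul]
        exact inv_smul_eq_iff.symm
      rw [e1, map_nsmul, map_sum]
      congr 1
      refine Finset.sum_nbij' (fun v => ρ g v) (fun v => ρ g⁻¹ v) ?_ ?_ ?_ ?_ fun _ _ => rfl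
      · intro v hv
        obtain ⟨x, -, rfl⟩ := Finset.mem_image.1 hv
        exact Finset.mem_image.2 ⟨g * x, Finset.mem_univ _, by rw [map_mul]; rfl⟩
      · intro v hv
        obtain ⟨x, -, rfl⟩ := Finset.mem_image.1 hv
        exact Finset.mem_image.2 ⟨g⁻¹ * x, Finset.mem_univ _, by rw [map_mul]; rfl⟩
      · intro v _; exact inv_smul_smul g v
      · intro v _; exact smul_inv_smul g v
    have key2 : ∀ (g : H) (v : V), ρ g (∑ β : B, ρ β v) = ∑ β : B, ρ β v := by
      intro g v
      have hv' : v ∈ Submodule.span k {u : V | ∃ h : H, ρ h a = u} := hspan ▸ Submodule.mem_top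
      induction hv' using Submodule.span_induction with
      | mem x hx => obtain ⟨h, rfl⟩ := hx; exact key h g
      | zero => simp
      | add x y _ _ hx hy => simp only [map_add, Finset.sum_add_distrib, hx, hy]
      | smul c x _ hx => simp only [map_smul, ← Finset.smul_sum, hx]
    intro g
    have h1 := key2 g b
    rw [Finset.sum_congr rfl fun (β : B) _ => (show ρ β b = b from β.2), Finset.sum_const, Finset.card_univ, ← Nat.cast_smul_eq_nsmul k,
      map_smul] at h1
    exact smul_right_injective V (hne _ (by rw [← Nat.card_eq_fintype_card]; exact card_subgroup_dvd_card B)) h1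

end Cfsg.Agent.S4177
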