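import Cfsg.Statements.S4178
import Cfsg.Agent.Lib.BG.MinNA

set_option autoImplicit false
open Cfsg

namespace Cfsg.Agent.S4178
section
open Pointwise commutatorElement Subgroup
theorem idx_le {H X : Type*} [Group H] [Finite X] (R : Subgroup H) (f : H → X)
    (hf : ∀ g h, f g = f h → g⁻¹ * h ∈ R) : R.index ≤ Nat.card X := by
  refine Nat.card_le_card_of_injective (fun q : H ⧸ R => f q.out) ?_
  intro a b hab
  have := hf _ _ hab
  rw [← QuotientGroup.out_eq' a, ← QuotientGroup.out_eq' b]
  exact QuotientGroup.eq.2 this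

theorem card_ne {X : Type*} [Finite X] (a : X) : Nat.card {x : X // x ≠ a} = Nat.card X - 1 := by
  classical
  haveI := Fintype.ofFinite X
  rw [Nat.card_eq_fintype_card, Nat.card_eq_fintype_card, Fintype.card_subtype_compl, Fintype.card_subtype_eq]
end

/-- Let F be a finite field with q elements, V a non-zero finite-dimensional F-space of dimension d, H a group of invertible linear maps of V, and R the subgroup of H generated by the elements of H that fix some non-zero vector (have eigenvalue 1). Then the index of R in H is at most q^d − 1; and if H leaves invariant some proper non-zero subspace, the index is at most q^(d/2) − 1. -/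
theorem result {F V : Type*} [Field F] [Fintype F] [AddCommGroup V] [Module F V] [FiniteDimensional F V] [Nontrivial V]
    (H : Subgroup (V ≃ₗ[F] V)) :
    (Subgroup.closure {h : ↥H | ∃ v : V, v ≠ 0 ∧ (h : V ≃ₗ[F] V) v = v}).index ≤ Fintype.card F ^ Module.finrank F V - 1 ∧
    ((∃ W : Submodule F V, W ≠ ⊥ ∧ W ≠ ⊤ ∧ ∀ h ∈ H, ∀ w ∈ W, h w ∈ W) →
      ((Subgroup.closure {h : ↥H | ∃ v : V, v ≠ 0 ∧ (h : V ≃ₗ[F] V) v = v}).index : ℝ) ≤ Real.sqrt ((Fintype.card F : ℝ) ^ Module.finrank F V) - 1) := by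
  open Pointwise commutatorElement Subgroup in
  haveI : Finite V := Module.finite_of_finite F

  set R := Subgroup.closure {h : ↥H | ∃ v : V, v ≠ 0 ∧ (h : V ≃ₗ[F] V) v = v} with hR
  constructor
  · obtain ⟨v, hv⟩ := exists_ne (0 : V)
    have := idx_le (X := {x : V // x ≠ 0}) R (fun h => ⟨(h : V ≃ₗ[F] V) v, by simpa using hv⟩) (by
      intro g h e
      have e' : (g : V ≃ₗ[F] V) v = (h : V ≃ₗ[F] V) v := Subtype.mk.inj e
      refine Subgroup.subset_closure ⟨v, hv, ?_⟩
      show (g : V ≃ₗ[F] V).symm ((h : V ≃ₗ[F] V) v) = v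
      rw [← e']; simp)
    rw [card_ne, Module.natCard_eq_pow_finrank (K := F), Nat.card_eq_fintype_card] at this
    exact this
  · rintro ⟨W, h0, h1, hW⟩
    obtain ⟨w, hwW, hw⟩ := Submodule.exists_mem_ne_zero_of_ne_bot h0
    obtain ⟨v, hv⟩ : ∃ v, v ∉ W := by
      by_contra hh
      push_neg at hh
      exact h1 (Submodule.eq_top_iff'.2 hh)
    have a1 := idx_le (X := {x : W // x ≠ 0}) R (fun h => ⟨⟨(h : V ≃ₗ[F] V) w, hW _ h.2 _ hwW⟩, by
        intro e
        have : (h : V ≃ₗ[F] V) w = 0 := congrArg Subtype.val e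
        exact hw (by simpa using this)⟩) (by
      intro g h e
      have e' : (g : V ≃ₗ[F] V) w = (h : V ≃ₗ[F] V) w := Subtype.mk.inj (Subtype.mk.inj e)
      refine Subgroup.subset_closure ⟨w, hw, ?_⟩
      show (g : V ≃ₗ[F] V).symm ((h : V ≃ₗ[F] V) w) = w
      rw [← e']; simp)
    haveI : Finite (V ⧸ W) := Finite.of_surjective _ W.mkQ_surjective
    have a2 := idx_le (X := {x : V ⧸ W // x ≠ 0}) R (fun h => ⟨W.mkQ ((h : V ≃ₗ[F] V) v), by
        intro e
        have h2 : (h : V ≃ₗ[F] V) v ∈ W := (Submodule.Quotient.mk_eq_zero W).1 e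
        have h3 := hW _ (H.inv_mem h.2) _ h2
        apply hv
        have : ((h : V ≃ₗ[F] V)⁻¹) ((h : V ≃ₗ[F] V) v) = v := (h : V ≃ₗ[F] V).symm_apply_apply v
        rwa [this] at h3⟩) (by
      intro g h e
      have e' : W.mkQ ((g : V ≃ₗ[F] V) v) = W.mkQ ((h : V ≃ₗ[F] V) v) := Subtype.mk.inj e
      have e2 : (g : V ≃ₗ[F] V) v - (h : V ≃ₗ[F] V) v ∈ W := (Submodule.Quotient.eq W).1 e'
      have e3 := hW _ (H.inv_mem g.2) _ e2
      set k : H := g⁻¹ * h with hk
      have e4 : v - (k : V ≃ₗ[F] V) v ∈ W := by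
        have : ((g : V ≃ₗ[F] V)⁻¹) ((g : V ≃ₗ[F] V) v - (h : V ≃ₗ[F] V) v) = v - (k : V ≃ₗ[F] V) v := by
          rw [map_sub]
          congr 1
          exact (g : V ≃ₗ[F] V).symm_apply_apply v
        rwa [this] at e3
      refine Subgroup.subset_closure ?_
      by_contra hn
      simp only [Set.mem_setOf_eq, not_exists, not_and] at hn
      let φ : W → W := fun x => ⟨x - (k : V ≃ₗ[F] V) x, W.sub_mem x.2 (hW _ k.2 _ x.2)⟩
      have key : ∀ a b : V, a - (k : V ≃ₗ[F] V) a = b - (k : V ≃ₗ[F] V) b → a = b := by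
        intro a b hab
        by_contra hne
        apply hn (a - b) (sub_ne_zero.2 hne)
        rw [map_sub]
        have : (k : V ≃ₗ[F] V) a = a - (b - (k : V ≃ₗ[F] V) b) := by rw [← hab]; abel
        rw [this]; abel
      have hinj : Function.Injective φ := fun a b hab => Subtype.ext (key _ _ (Subtype.mk.inj hab))
      obtain ⟨x, hx⟩ := (Finite.injective_iff_surjective.1 hinj) ⟨_, e4⟩
      have := key _ _ (Subtype.mk.inj hx)
      exact hv (this ▸ x.2))
    rw [card_ne, Module.natCard_eq_pow_finrank (K := F), Nat.card_eq_fintype_card] at a1 a2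
    have hs := Submodule.finrank_quotient_add_finrank W
    set q := Fintype.card F
    have hq : 0 < q := Fintype.card_pos
    have p1 : 1 ≤ q ^ Module.finrank F W := Nat.one_le_pow _ _ hq
    have p2 : 1 ≤ q ^ Module.finrank F (V ⧸ W) := Nat.one_le_pow _ _ hq
    have b : (R.index + 1) ^ 2 ≤ q ^ Module.finrank F V := by
      rw [← hs, pow_add, sq]
      exact Nat.mul_le_mul (by omega) (by omega)
    have b' : ((R.index : ℝ) + 1) ^ 2 ≤ (q : ℝ) ^ Module.finrank F V := by exact_mod_cast b
    have := Real.le_sqrt_of_sq_le b'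
    linarith

end Cfsg.Agent.S4178
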