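import Cfsg.Statements.S4186
import Cfsg.Agent.Lib.Solv.Basic

set_option autoImplicit false
open Cfsg

namespace Cfsg.Agent.S4186

/-- Let T and X be subgroups of a group with T a finite 2-group normalizing X but not centralizing it. Then some element of T inverts some non-identity element of X under conjugation. -/
theorem result {G : Type*} [Group G] (T X : Subgroup G) [Finite ↥T] (hT : IsPGroup 2 ↥T) (hTN : T ≤ Subgroup.normalizer (X : Set G)) (hTC : ¬ T ≤ Subgroup.centralizer (X : Set G)) : ∃ t ∈ T, ∃ x ∈ X, x ≠ 1 ∧ t * x * t⁻¹ = x⁻¹ := by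
  open Pointwise commutatorElement Subgroup Cfsg.Agent.Solv in
  obtain ⟨t, ht, htC⟩ := SetLike.not_le_iff_exists.1 hTC
  obtain ⟨k, hk⟩ := isPGroup_iff_forall_mem.1 hT t ht
  have key : ∀ k : ℕ, ∀ t ∈ T, t ∉ centralizer (X : Set G) → t ^ 2 ^ k ∈ centralizer (X : Set G) →
      ∃ t ∈ T, t ∉ centralizer (X : Set G) ∧ t ^ 2 ∈ centralizer (X : Set G) := by
    intro k
    induction k with
    | zero => intro t _ h1 h2; exact absurd (by simpa using h2) h1
    | succ k ih =>
      intro t ht h1 h2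
      by_cases h3 : t ^ 2 ∈ centralizer (X : Set G)
      · exact ⟨t, ht, h1, h3⟩
      · exact ih _ (pow_mem ht 2) h3 (by rwa [← pow_mul, ← pow_succ'])
  obtain ⟨s, hs, h1, h2⟩ := key k t ht htC (hk ▸ one_mem _)
  rw [mem_centralizer_iff] at h1
  push Not at h1
  obtain ⟨x, hx, hne⟩ := h1
  refine ⟨s, hs, x⁻¹ * (s * x * s⁻¹), mul_mem (inv_mem hx) (conj_mem_of_mem_normalizer (hTN hs) hx), ?_, ?_⟩
  · intro h
    rw [inv_mul_eq_one, eq_mul_inv_iff_mul_eq] at h
    exact hne h
  · have := h2 x hx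
    calc _ = s * x⁻¹ * s⁻¹ * (s ^ 2 * x) * (s ^ 2)⁻¹ := by rw [pow_two]; group
      _ = _ := by rw [← this]; group

end Cfsg.Agent.S4186
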