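import Cfsg.Statements.S4189
import Cfsg.Agent.Lib.Solv.MaxCl

set_option autoImplicit false
open Cfsg

namespace Cfsg.Agent.S4189

/-- Let P be a finite non-abelian 2-group whose commutator subgroup has index 4 and whose automorphism group is not a 2-group (some automorphism has order that is not a power of 2). Then P is isomorphic to the quaternion group of order 8. -/
theorem result {P : Type*} [Group P] [Finite P] (hP : IsPGroup 2 P) (hna : ¬ IsMulCommutative P) (h4 : (commutator P).index = 4) (haut : ¬ IsPGroup 2 (MulAut P)) : Nonempty (P ≃* QuaternionGroup 2) := by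
  open Pointwise commutatorElement Subgroup Cfsg.Agent.Solv in
  open Cfsg.Agent.Transfer in
  haveI := Fact.mk Nat.prime_two
  obtain ⟨a, b, m, h⟩ := nf2_of_commutator hP h4 hna
  by_cases hm : m = 1 ∧ b ^ 2 ≠ 1
  · obtain ⟨rfl, h1⟩ := hm
    obtain ⟨e⟩ := nonempty_quaternion_of_gens h.ord h.notMem h.sup.symm (h.rel.elim (fun h => (h1 h.1).elim) fun h => h.elim
      (·.1) fun h => (h1 h.2.1).elim) (h.rel.elim (·.2) fun h => h.elim (·.2) fun h => (h1 h.2.1).elim)
    exact ⟨topEquiv.symm.trans e⟩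
  refine (haut fun φ => ?_).elim
  have h1 : ∀ x, x ∉ zpowers a → x ^ 2 ^ m = 1 := fun x hx => by
    have h2 : x ^ 2 ∈ center P := by
      rw [← centralizer_univ, ← coe_top, ← sup_eq_top_of_not_le_coatom (isCoatom_of_index_prime (h.index ▸ Nat.prime_two))
        (mt zpowers_le.1 hx), Comp.centralizer_sup, Solv.centralizer_zpowers, Solv.centralizer_zpowers]
      exact ⟨mem_centralizer_singleton.2 (commute_of_mem_zpowers' (sq_mem_of_index_two h.index x)),
        mem_centralizer_singleton.2 (Commute.self_pow x 2)⟩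
    obtain h3 | h3 := h.one_le.eq_or_lt
    · subst h3
      have h3 : b ^ 2 = 1 := by tauto
      have h5 : b * a * b⁻¹ = a⁻¹ := h.rel.elim (·.2) fun h => h.elim (·.2) fun h => by omega
      obtain ⟨k, hk⟩ := (mul_mem_iff_of_index_two h.index (a := x) (b := b⁻¹)).2 (by simp [hx, h.notMem])
      rw [← mul_inv_eq_iff_eq_mul.1 hk.symm |>.symm]
      simp only
      rw [pow_one, show (a ^ k * b) ^ 2 = a ^ k * (b * a * b⁻¹) ^ k * b ^ 2 by rw [conj_zpow, pow_two, pow_two]; group, h3, h5]
      simp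
    · obtain ⟨k, rfl⟩ := Nat.exists_eq_add_of_le' h3
      have := pow_card_eq_one' (x := (⟨_, h2⟩ : center P))
      rw [h.card_center, Subtype.ext_iff, coe_pow] at this
      rw [show 2 ^ (k + 2) = 2 * (2 * 2 ^ k) by ring, pow_mul, pow_mul, this, coe_one, one_pow]
  have h2 : ∀ ψ : MulAut P, ψ a ∈ zpowers a := fun ψ => by_contra fun h2 => h.pow_ne_one
    (ψ.injective (by rw [map_pow, h1 _ h2, map_one]))
  obtain ⟨k, hk⟩ := (mem_powers_iff_mem_zpowers.2 (h2 φ))
  have h3 : ∀ j, (φ ^ j) a = a ^ k ^ j := fun j => by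
    induction j with
    | zero => simp
    | succ j ih => rw [pow_succ', MulAut.mul_apply, ih, map_pow, ← hk, ← pow_mul, pow_succ']
  have h5 : (φ ^ 2 ^ m) a = a := by
    have h5 : k.Coprime (2 ^ (m + 1)) := by
      have h5 := orderOf_pow a (n := k)
      rw [show a ^ k = φ a from hk, MulEquiv.orderOf_eq, eq_comm, Nat.div_eq_self] at h5
      rw [← h.ord, Nat.coprime_comm]
      exact h5.resolve_left (orderOf_pos a).ne'
    have := Nat.ModEq.pow_totient h5
    rw [Nat.totient_prime_pow_succ Nat.prime_two, Nat.add_one_sub_one, mul_one, ← h.ord, ← pow_eq_pow_iff_modEq, pow_one] at this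
    rw [h3, this]
  generalize hψ : φ ^ 2 ^ m = ψ at h5
  have h6 : b⁻¹ * ψ b ∈ zpowers a := (mul_mem_iff_of_index_two h.index).2 (by
    simp only [inv_mem_iff, h.notMem, false_iff]
    rintro ⟨j, hj⟩
    exact h.notMem ⟨j, ψ.injective (by simpa [h5] using hj)⟩)
  obtain ⟨i, hi⟩ := h6
  have h7 : ∀ j : ℕ, (ψ ^ j) b = b * (a ^ i) ^ j := fun j => by
    induction j with
    | zero => simp
    | succ j ih => rw [pow_succ', MulAut.mul_apply, ih, map_mul, map_pow, map_zpow, h5, ← inv_mul_eq_iff_eq_mul.1 hi.symm |>.symm,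
        pow_succ', mul_assoc]
  refine ⟨m + (m + 1), ?_⟩
  rw [pow_add, pow_mul, hψ]
  refine MulEquiv.ext fun x => ?_
  have h8 : (⊤ : Subgroup P) ≤ MonoidHom.eqLocus (ψ ^ 2 ^ (m + 1)).toMonoidHom (MonoidHom.id P) := by
    rw [← h.sup]
    refine sup_le (zpowers_le.2 ?_) (zpowers_le.2 ?_)
    · show (ψ ^ _) a = a
      induction 2 ^ (m + 1) with
      | zero => simp
      | succ j ih => rw [pow_succ', MulAut.mul_apply, ih, h5]
    · show (ψ ^ _) b = b
      rw [h7, ← h.ord, ← zpow_natCast, ← zpow_mul, mul_comm i, zpow_mul, zpow_natCast, pow_orderOf_eq_one, one_zpow, mul_one]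
  exact h8 (mem_top x)

end Cfsg.Agent.S4189
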