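import Cfsg.Statements.S4193
import Cfsg.Agent.Lib.Ez.C1

set_option autoImplicit false
open Cfsg

namespace Cfsg.Agent.S4193

open Subgroup Cfsg.Agent.Comp Cfsg.Agent.Ez

/-- Let G be a finite group in which the conjugacy classes of all non-central real elements (elements conjugate to their inverses) have sizes with the same 2-part, and suppose G has a Sylow 2-subgroup S such that every element of S that is conjugate in S to its inverse lies in the centre of S. Then G is solvable and the subgroup generated by the 2-elements of G (the smallest normal subgroup of odd index) has a normal 2-complement. -/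
theorem result {G : Type*} [Group G] [Finite G] (a : ℕ) (h : ∀ x : G, IsConj x x⁻¹ → x ∉ Subgroup.center G → ((Subgroup.centralizer ({x} : Set G)).index).factorization 2 = a) (S : Sylow 2 G) (hS : ∀ s : ↥(S : Subgroup G), IsConj s s⁻¹ → s ∈ Subgroup.center ↥(S : Subgroup G)) : Group.IsSolvable G ∧ Cfsg.HasNormalPComplement 2 ↥(Subgroup.closure {g : G | ∃ k : ℕ, orderOf g = 2 ^ k}) := by
  have key : ∀ x : G, (∃ j : ℕ, orderOf x = 2 ^ j) → IsConj x x⁻¹ →
      ¬ 2 ∣ (centralizer ({x} : Set G)).index := by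
    rintro x ⟨j, hj⟩ hx
    obtain ⟨y, k, a, b⟩ := exists_two_inverts hx
    obtain ⟨T, hT⟩ := ((isPGroup_zpowers_of hj).to_sup_of_normal_left' (isPGroup_zpowers_of a)
      (zpowers_le.2 (Transfer.mem_normalizer_zpowers_of_inv b))).exists_le_sylow
    obtain ⟨g, rfl⟩ := MulAction.exists_smul_eq G T S
    have h1 : ∀ u ∈ zpowers x ⊔ zpowers y, g * u * g⁻¹ ∈ ((g • T : Sylow 2 G) : Subgroup G) :=
      fun u hu => smul_mem_pointwise_smul _ _ _ (hT hu)
    have h2 := hS ⟨_, h1 x (mem_sup_left (mem_zpowers x))⟩ (isConj_iff.2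
      ⟨⟨_, h1 y (mem_sup_right (mem_zpowers y))⟩, Subtype.ext (by simp [← b, mul_assoc])⟩)
    refine fun e => T.not_dvd_index (e.trans (index_dvd_of_le fun t ht => mem_C1.2 ?_))
    have := congrArg Subtype.val (mem_center_iff.1 h2 ⟨_, smul_mem_pointwise_smul t (MulAut.conj g) _ ht⟩)
    exact mul_right_cancel (b := g⁻¹) (by simpa [mul_assoc] using this.symm)
  by_cases e : ∀ x : G, (∃ j : ℕ, orderOf x = 2 ^ j) → IsConj x x⁻¹ → x ∈ center G
  · exact ⟨Transfer.sol_of_hasNPC_two (S3862.result e), Transfer.hasNPC_subgroup (S3862.result e) _⟩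
  push Not at e
  obtain ⟨x, a, b, c⟩ := e
  have h1 := (S3861.result S).1 fun y h1 ho hy => by
    have h2 : y * y ≠ 1 := fun e => h1 (Transfer.eq_one_of_odd_of_mul_self ho e)
    have h3 := even_index_of_real hy h2
    refine key x a b ((Nat.prime_two.dvd_iff_one_le_factorization index_ne_zero_of_finite).2 ?_)
    rw [h x b c, ← h y hy fun e => absurd (index_eq_one.2 (centralizer_eq_top_iff_subset.2
      (Set.singleton_subset_iff.2 e)) ▸ h3) (by decide)]
    exact (Nat.prime_two.dvd_iff_one_le_factorization index_ne_zero_of_finite).1 h3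
  refine ⟨sol_of_normal_syl2 S h1, Transfer.hasNPC_of_isPGroup (S.2.to_le ((closure_le _).2 ?_))⟩
  rintro g ⟨k, hk⟩
  obtain ⟨T, hT⟩ := (isPGroup_zpowers_of hk).exists_le_sylow
  have := Sylow.unique_of_normal S h1
  exact Subsingleton.elim T S ▸ hT (mem_zpowers g)

end Cfsg.Agent.S4193
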