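import Cfsg.Statements.S4194
import Cfsg.Agent.Lib.PU.Ms21

set_option autoImplicit false
open Cfsg

namespace Cfsg.Agent.S4194

/-- A finite group G has commutative Sylow 2-subgroups if and only if every 2-element of G (element of order a power of 2) is 2-central, that is, its centralizer contains a Sylow 2-subgroup of G. -/
theorem result {G : Type*} [Group G] [Finite G] (P : Sylow 2 G) :
    IsMulCommutative (P : Subgroup G) ↔ ∀ x : G, (∃ k : ℕ, orderOf x = 2 ^ k) → (∃ Q : Sylow 2 G, (Q : Subgroup G) ≤ Subgroup.centralizer ({x} : Set G)) := by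
  refine ⟨fun hc x ⟨k, hk⟩ => ?_, PU.camina_herzog P⟩
  have h2 : IsPGroup 2 (Subgroup.zpowers x) := IsPGroup.of_card (n := k) (by rw [Nat.card_zpowers, hk])
  obtain ⟨Q, hQ⟩ := h2.exists_le_sylow
  have e := Sylow.equiv P Q
  refine ⟨Q, fun y hy => Subgroup.mem_centralizer_singleton_iff.2 ?_⟩
  have := congrArg e (hc.1.1 (e.symm ⟨y, hy⟩) (e.symm ⟨x, hQ (Subgroup.mem_zpowers x)⟩))
  simp only [map_mul, MulEquiv.apply_symm_apply] at this
  exact congrArg Subtype.val this

end Cfsg.Agent.S4194
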