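import Cfsg.Statements.S4196
import Cfsg.Agent.S4195
import Cfsg.Agent.Lib.Transfer.Count
import Cfsg.Agent.Lib.Comp.Basic

set_option autoImplicit false
open Cfsg

namespace Cfsg.Agent.S4196

/-- A finite group G has elementary abelian Sylow 2-subgroups (commutative with every element squaring to the identity) if and only if every 2-element of G has a Sylow 2-subgroup in its centralizer and is conjugate to its inverse. -/
theorem result {G : Type*} [Group G] [Finite G] (P : Sylow 2 G) :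
    (IsMulCommutative (P : Subgroup G) ∧ ∀ x ∈ (P : Subgroup G), x ^ 2 = 1) ↔
      ∀ x : G, (∃ k : ℕ, orderOf x = 2 ^ k) → (∃ Q : Sylow 2 G, (Q : Subgroup G) ≤ Subgroup.centralizer ({x} : Set G)) ∧ IsConj x x⁻¹ := by
  open Pointwise commutatorElement Subgroup in
  open Cfsg.Agent.Comp in
  constructor
  · rintro ⟨hc, h2⟩ x ⟨k, hk⟩
    obtain ⟨g, hg⟩ := Transfer.exists_conj_mem_sylow P (x := x) (k := k) (by rw [← hk, pow_orderOf_eq_one])
    refine ⟨⟨g⁻¹ • P, ?_⟩, ?_⟩
    · rw [Sylow.coe_subgroup_smul, ← cj_smul, cj_le_iff, inv_inv, cj_centralizer_singleton]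
      exact fun y hy => mem_centralizer_singleton_iff.2 (Solv.isMulCommutative_iff.1 hc _ hy _ hg)
    · have := h2 _ hg
      rw [conj_pow, mul_inv_eq_one, mul_eq_left, pow_two] at this
      rw [← mul_eq_one_iff_eq_inv.1 this]
  · intro h
    have h2 : ∀ x ∈ (P : Subgroup G), x ^ 2 = 1 := by
      intro x hx
      by_cases h1 : x = 1
      · simp [h1]
      obtain ⟨k, hk⟩ := IsPGroup.iff_orderOf.1 P.isPGroup' ⟨x, hx⟩
      rw [Subgroup.orderOf_mk] at hk
      obtain ⟨⟨Q, hQ⟩, hr⟩ := h x ⟨k, hk⟩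
      rw [← S4195.result x h1 Q hQ hr, pow_orderOf_eq_one]
    refine ⟨Solv.isMulCommutative_iff.2 fun a ha b hb => ?_, h2⟩
    have e : ∀ x ∈ (P : Subgroup G), x⁻¹ = x := fun x hx => by
      rw [inv_eq_iff_mul_eq_one, ← pow_two, h2 x hx]
    rw [← e _ (mul_mem ha hb), mul_inv_rev, e a ha, e b hb]

end Cfsg.Agent.S4196
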