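import Cfsg.Statements.S4198
import Mathlib

set_option autoImplicit false
open Cfsg

namespace Cfsg.Agent.S4198

open Equiv Equiv.Perm

def T (n : ℕ) : Set (Multiset ℕ) := {m | m.sum ≤ n ∧ ∀ a ∈ m, 2 ≤ a}

theorem ct_mem {n : ℕ} (x : Perm (Fin n)) : x.cycleType ∈ T n :=
  ⟨by simpa using x.sum_cycleType_le, fun _ h => two_le_of_mem_cycleType h⟩

theorem card_S (n : ℕ) : Nat.card (ConjClasses (Perm (Fin n))) = (T n).ncard := by
  rw [← Nat.card_coe_set_eq]
  refine Nat.card_congr (Equiv.ofBijective (fun c => ⟨(Quotient.out c).cycleType, ct_mem _⟩) ⟨?_, ?_⟩)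
  · intro c d h
    have h' : IsConj (Quotient.out c) (Quotient.out d) :=
      isConj_iff_cycleType_eq.2 (by have := Subtype.ext_iff.1 h; convert this)
    rw [← Quotient.out_eq c, ← Quotient.out_eq d]
    exact Quotient.sound h'
  · rintro ⟨m, hm⟩
    obtain ⟨g, hg⟩ := (exists_with_cycleType_iff (Fin n)).2 (by simpa [T] using hm)
    refine ⟨ConjClasses.mk g, Subtype.ext ?_⟩
    exact (isConj_iff_cycleType_eq.1 (Quotient.mk_out (s := IsConj.setoid _) g)).trans hg

theorem T_fin (n : ℕ) : (T n).Finite := by
  refine (Set.finite_range (fun x : Perm (Fin n) => x.cycleType)).subset fun m hm => ?_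
  exact (exists_with_cycleType_iff (Fin n)).2 (by simpa [T] using hm)

theorem T_small {n : ℕ} (h : n ≤ 1) : (T n).ncard ≤ 1 := by
  rw [← Set.ncard_singleton (0 : Multiset ℕ)]
  refine Set.ncard_le_ncard (fun m hm => ?_) (Set.finite_singleton _)
  by_contra h0
  obtain ⟨a, ha⟩ := Multiset.exists_mem_of_ne_zero h0
  have := Multiset.single_le_sum (fun _ _ => Nat.zero_le _) a ha
  have := hm.2 a ha
  have := hm.1
  omega

theorem T_step (n : ℕ) : (T (n + 2)).ncard ≤ (T (n + 1)).ncard + (T n).ncard := by
  refine le_trans (Set.ncard_le_ncard (t := T (n + 1) ∪ (fun m => (n + 2 - m.sum) ::ₘ m) '' T n) ?_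
    ((T_fin _).union ((T_fin _).image _))) ((Set.ncard_union_le _ _).trans
      (Nat.add_le_add_left (Set.ncard_image_le (T_fin _)) _))
  intro m hm
  by_cases h : m.sum ≤ n + 1
  · exact Or.inl ⟨h, hm.2⟩
  · have h0 : m ≠ 0 := by rintro rfl; simp at h
    obtain ⟨a, ha⟩ := Multiset.exists_mem_of_ne_zero h0
    obtain ⟨m', rfl⟩ := Multiset.exists_cons_of_mem ha
    have h1 := hm.1
    have h2 := hm.2 a ha
    rw [Multiset.sum_cons] at h h1
    refine Or.inr ⟨m', ⟨by omega, fun b hb => hm.2 b (Multiset.mem_cons_of_mem hb)⟩, ?_⟩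
    simp only
    congr 1; omega

theorem T_fib (n : ℕ) : (T n).ncard ≤ Nat.fib (n + 1) := by
  induction n using Nat.twoStepInduction with
  | zero => exact T_small (by norm_num)
  | one => exact T_small (by norm_num)
  | more n h1 h2 => rw [Nat.fib_add_two]; have := T_step n; omega

theorem fib_le (n : ℕ) : Nat.fib (n + 6) ≤ 2 ^ (n + 3) := by
  induction n with
  | zero => decide
  | succ n ih =>
    have := Nat.fib_le_fib_succ (n := n + 5)
    rw [show n + 1 + 6 = n + 5 + 2 by ring, Nat.fib_add_two, pow_succ]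
    simp only [add_assoc, Nat.reduceAdd] at *
    omega

theorem conjA {n : ℕ} {x y : alternatingGroup (Fin n)} {g : Perm (Fin n)} (h : g * x * g⁻¹ = y)
    (hg : sign g = 1) : IsConj x y :=
  isConj_iff.2 ⟨⟨g, hg⟩, Subtype.ext h⟩

theorem fiber {n : ℕ} {x y z : alternatingGroup (Fin n)} (h1 : x.1.cycleType = y.1.cycleType)
    (h2 : y.1.cycleType = z.1.cycleType) : IsConj x y ∨ IsConj y z ∨ IsConj x z := by
  obtain ⟨g, hg⟩ := isConj_iff.1 (isConj_iff_cycleType_eq.2 h1)
  obtain ⟨k, hk⟩ := isConj_iff.1 (isConj_iff_cycleType_eq.2 h2)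
  rcases Int.units_eq_one_or (sign g) with a | a
  · exact Or.inl (conjA hg a)
  rcases Int.units_eq_one_or (sign k) with b | b
  · exact Or.inr (Or.inl (conjA hk b))
  refine Or.inr (Or.inr (conjA (g := k * g) (by rw [← hk, ← hg]; group) (by simp [a, b])))

theorem split {n : ℕ} {x y : alternatingGroup (Fin n)} (h1 : x.1.cycleType = y.1.cycleType)
    (h : ¬ IsConj x y) : (∀ c ∈ x.1.cycleType, Odd c) ∧ n ≤ x.1.cycleType.sum + 1 := by
  have : Subgroup.centralizer {x.1} ≤ alternatingGroup (Fin n) := by
    intro k hk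
    obtain ⟨g, hg⟩ := isConj_iff.1 (isConj_iff_cycleType_eq.2 h1)
    rcases Int.units_eq_one_or (sign g) with a | a
    · exact absurd (conjA hg a) h
    rcases Int.units_eq_one_or (sign k) with b | b
    · exact b
    have := Subgroup.mem_centralizer_singleton_iff.1 hk
    refine absurd (conjA (g := g * k) ?_ (by simp [a, b])) h
    rw [← hg, mul_assoc g, this]; group
  have := centralizer_le_alternating_iff.1 this
  exact ⟨this.1, by simpa using this.2.1⟩

theorem lt (n : ℕ) (hn : 5 ≤ n) : Nat.card (ConjClasses (alternatingGroup (Fin n))) < (T n).ncard := by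
  classical
  let t : ConjClasses (alternatingGroup (Fin n)) → Multiset ℕ := fun c => (Quotient.out c).1.cycleType
  have par : ∀ c, Even ((t c).sum + (t c).card) := fun c => by
    have := mem_alternatingGroup.1 (Quotient.out c).2
    rw [sign_of_cycleType] at this
    exact (neg_one_pow_eq_one_iff_even (by decide)).1 this
  let s := Function.invFun t
  have hs : ∀ c, t (s (t c)) = t c := fun c => Function.invFun_eq ⟨c, rfl⟩
  have cj : ∀ c d : ConjClasses (alternatingGroup (Fin n)), IsConj (Quotient.out c) (Quotient.out d) →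
      c = d := fun c d h => by
    rw [← Quotient.out_eq c, ← Quotient.out_eq d]; exact Quotient.sound h
  have key : ∀ c, c ≠ s (t c) → ∃ a m, t c = a ::ₘ m ∧ 3 ≤ a ∧ Odd a ∧ (∀ b ∈ m, Odd b) ∧
      n ≤ a + m.sum + 1 := by
    intro c hc
    obtain ⟨h1, h2⟩ := split (hs c).symm (fun h => hc (cj _ _ h))
    change n ≤ (t c).sum + 1 at h2
    have h0 : t c ≠ 0 := by intro h; rw [h] at h2; simp at h2; omega
    obtain ⟨a, ha⟩ := Multiset.exists_mem_of_ne_zero h0
    obtain ⟨m, hm⟩ := Multiset.exists_cons_of_mem ha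
    have h3 := h1 a ha
    have h4 := (ct_mem _).2 a ha
    refine ⟨a, m, hm, by obtain ⟨k, rfl⟩ := h3; omega, h3, fun b hb => h1 b ?_, ?_⟩
    · change b ∈ t c
      rw [hm]; exact Multiset.mem_cons_of_mem hb
    · rwa [hm, Multiset.sum_cons] at h2
  choose! a m h1 h2 h3 h4 h5 using key
  let F : ConjClasses (alternatingGroup (Fin n)) → Multiset ℕ := fun c =>
    if c = s (t c) then t c else (a c - 1) ::ₘ m c
  have par2 : ∀ c, c ≠ s (t c) → ¬ Even (((a c - 1) ::ₘ m c).sum + ((a c - 1) ::ₘ m c).card) := by
    intro c hc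
    have := par c
    rw [h1 c hc] at this
    have := h2 c hc
    simp only [Multiset.sum_cons, Multiset.card_cons, Nat.even_iff] at *
    omega
  have hF : Function.Injective F := by
    intro c d h
    by_cases hc : c = s (t c) <;> by_cases hd : d = s (t d)
    · rw [show F c = t c from if_pos hc, show F d = t d from if_pos hd] at h
      rw [hc, hd, h]
    · rw [show F c = t c from if_pos hc, show F d = _ from if_neg hd] at h
      exact absurd (h ▸ par c) (par2 d hd)
    · rw [show F d = t d from if_pos hd, show F c = _ from if_neg hc] at h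
      exact absurd (h ▸ par d) (par2 c hc)
    · rw [show F d = _ from if_neg hd, show F c = _ from if_neg hc] at h
      have b1 := h2 c hc
      have b2 := h2 d hd
      have e : a c - 1 = a d - 1 := by
        rcases Multiset.mem_cons.1 (h ▸ Multiset.mem_cons_self (a c - 1) (m c)) with e | e
        · exact e
        · have o1 := h4 d hd _ e
          have o2 := h3 c hc
          rw [Nat.odd_iff] at o1 o2; omega
      rw [e, Multiset.cons_inj_right] at h
      have e2 : t c = t d := by rw [h1 c hc, h1 d hd, h]; congr 1; omega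
      rcases fiber (z := Quotient.out (s (t d))) e2 (hs d).symm with q | q | q
      · exact cj _ _ q
      · exact absurd (cj _ _ q) hd
      · exact absurd ((cj _ _ q).trans (by rw [e2])) hc
  have mem : ∀ c, F c ∈ T n \ {{2}} := by
    intro c
    by_cases hc : c = s (t c)
    · have : F c = t c := if_pos hc
      rw [this]
      refine ⟨ct_mem _, fun h => ?_⟩
      have := par c
      rw [Set.mem_singleton_iff.1 h] at this
      simp at this; exact absurd this (by decide)
    · have : F c = (a c - 1) ::ₘ m c := if_neg hc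
      rw [this]
      have e := ct_mem (Quotient.out c).1
      change t c ∈ _ at e
      rw [h1 c hc] at e
      have b2 := h2 c hc
      refine ⟨⟨?_, fun b hb => ?_⟩, fun h => ?_⟩
      · have := e.1; simp only [Multiset.sum_cons] at *; omega
      · rcases Multiset.mem_cons.1 hb with rfl | hb
        · omega
        · exact e.2 b (Multiset.mem_cons_of_mem hb)
      · have := congrArg Multiset.sum (Set.mem_singleton_iff.1 h)
        have := h5 c hc
        simp only [Multiset.sum_cons, Multiset.sum_singleton] at *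
        omega
  calc _ = (Set.range F).ncard := by
        rw [← Set.image_univ, Set.ncard_image_of_injective _ hF, Set.ncard_univ]
    _ ≤ (T n \ {{2}}).ncard :=
        Set.ncard_le_ncard (by rintro _ ⟨c, rfl⟩; exact mem c) ((T_fin n).subset Set.diff_subset)
    _ < _ := Set.ncard_diff_singleton_lt_of_mem ⟨by simp; omega, by simp⟩ (T_fin n)

/-- For n ≥ 5 the alternating group of degree n has strictly fewer conjugacy classes than the symmetric group of degree n, and the symmetric group of degree n (whose classes correspond to the partitions of n) has at most 2^(n−2) conjugacy classes. -/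
theorem result (n : ℕ) (hn : 5 ≤ n) : Nat.card (ConjClasses (alternatingGroup (Fin n))) < Nat.card (ConjClasses (Equiv.Perm (Fin n))) ∧ Nat.card (ConjClasses (Equiv.Perm (Fin n))) ≤ 2 ^ (n - 2) := by
  rw [card_S]
  refine ⟨lt n hn, (T_fib n).trans ?_⟩
  obtain ⟨k, rfl⟩ := Nat.exists_eq_add_of_le' hn
  exact fib_le k

end Cfsg.Agent.S4198
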