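import Cfsg.Statements.S4200
import Cfsg.Agent.Lib.Solv.Fact
import Cfsg.Agent.Lib.Transfer.Count
import Cfsg.Agent.Lib.Solv.Basic
import Mathlib.GroupTheory.GroupAction.CardCommute

set_option autoImplicit false
open Cfsg

namespace Cfsg.Agent.S4200
section
open Pointwise commutatorElement Subgroup Cfsg.Agent.Solv
open Cfsg.Agent.Transfer
theorem sum_card_centralizer (X : Type*) [Group X] [Fintype X] :
    ∑ x : X, Nat.card (centralizer ({x} : Set X)) = Nat.card (ConjClasses X) * Nat.card X := by
  rw [← card_comm_eq_card_conjClasses_mul_card, cnt_eq_sum_fiber _ (fun p : X × X => p.1)]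
  refine Finset.sum_congr rfl fun x _ => ?_
  refine cnt_eq_of_bij (fun y => (x, y)) (fun y hy => ⟨(mem_centralizer_singleton_iff.1 hy).symm, rfl⟩)
    (fun _ _ _ _ h => (Prod.ext_iff.1 h).2) ?_
  rintro ⟨a, b⟩ ⟨h, rfl⟩
  exact ⟨b, mem_centralizer_singleton_iff.2 h.symm, rfl⟩
theorem card_cent_sub {X : Type*} [Group X] (Y : Subgroup X) (y : Y) :
    Nat.card (centralizer ({y} : Set Y)) = Nat.card (Y ⊓ centralizer ({(y : X)} : Set X) : Subgroup X) := by
  refine cnt_eq_of_bij (fun z : Y => (z : X)) (fun z hz => ⟨z.2, mem_centralizer_singleton_iff.2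
    (congrArg Subtype.val (mem_centralizer_singleton_iff.1 hz))⟩) (fun _ _ _ _ h => Subtype.ext h) ?_
  rintro z ⟨h1, h2⟩
  exact ⟨⟨z, h1⟩, mem_centralizer_singleton_iff.2 (Subtype.ext (mem_centralizer_singleton_iff.1 h2)), rfl⟩
theorem sum_swap {X : Type*} [Group X] [Fintype X] (Y : Subgroup X) [Fintype Y] :
    ∑ x : X, Nat.card (Y ⊓ centralizer ({x} : Set X) : Subgroup X) = ∑ y : Y, Nat.card (centralizer ({(y : X)} : Set X)) := by
  have := cnt_double (fun (x : X) (y : Y) => x * y = y * x)
  convert this using 2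
  · symm
    refine cnt_eq_of_bij (fun z : Y => (z : X)) (fun z hz => ⟨z.2, mem_centralizer_singleton_iff.2 hz.symm⟩)
      (fun _ _ _ _ h => Subtype.ext h) ?_
    rintro z ⟨h1, h2⟩
    exact ⟨⟨z, h1⟩, (mem_centralizer_singleton_iff.1 h2).symm, rfl⟩
  · exact cnt_congr fun x => mem_centralizer_singleton_iff
end

/-- Let Y be a subgroup of the finite group X, of index m. Then the numbers of conjugacy classes satisfy k(Y) ≤ m·k(X) and k(X) ≤ m·k(Y), and the second inequality is strict unless Y is normal in X. -/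
theorem result {X : Type*} [Group X] [Finite X] (Y : Subgroup X) : Nat.card (ConjClasses Y) ≤ Y.index * Nat.card (ConjClasses X) ∧ Nat.card (ConjClasses X) ≤ Y.index * Nat.card (ConjClasses Y) ∧ (¬ Y.Normal → Nat.card (ConjClasses X) < Y.index * Nat.card (ConjClasses Y)) := by
  open Pointwise commutatorElement Subgroup Cfsg.Agent.Solv in
  classical
  have := Fintype.ofFinite X
  have h1 := sum_card_centralizer X
  have h2 := sum_card_centralizer Y
  have h3 := index_mul_card Y
  have hY : 0 < Nat.card Y := Nat.card_pos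
  have hm : 0 < Y.index := Nat.pos_of_ne_zero index_ne_zero_of_finite
  have h4 : ∀ C : Subgroup X, Nat.card C ≤ Y.index * Nat.card (Y ⊓ C : Subgroup X) := fun C => by
    rw [← card_inf_mul_relIndex Y C, mul_comm]
    exact Nat.mul_le_mul_right _ (by rw [← relIndex_top_right]; exact relIndex_le_of_le_right le_top (by simpa using hm.ne'))
  have h5 : Nat.card (ConjClasses X) * Nat.card X ≤ Y.index * ∑ y : Y, Nat.card (centralizer ({(y : X)} : Set X)) := by
    rw [← h1, ← sum_swap, Finset.mul_sum]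
    exact Finset.sum_le_sum fun x _ => h4 _
  have h6 : Y.index * (Y.index * Nat.card (ConjClasses Y) * Nat.card Y) = Y.index * Nat.card (ConjClasses Y) * Nat.card X := by
    rw [← h3]; ring
  have h7 : Y.index * Nat.card (ConjClasses Y) * Nat.card Y = ∑ y : Y, Y.index * Nat.card (Y ⊓ centralizer ({(y : X)} : Set X) : Subgroup X) := by
    rw [mul_assoc, ← h2, Finset.mul_sum]
    exact Finset.sum_congr rfl fun y _ => by rw [card_cent_sub]
  refine ⟨?_, ?_, fun hn => ?_⟩
  · refine Nat.le_of_mul_le_mul_right ?_ hY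
    rw [mul_right_comm, h3, mul_comm (Nat.card X), ← card_comm_eq_card_conjClasses_mul_card, ← card_comm_eq_card_conjClasses_mul_card]
    exact Transfer.cnt_le_of_injOn (fun p : Y × Y => ((p.1 : X), (p.2 : X))) (fun p h => congrArg Subtype.val h)
      fun p q _ _ h => Prod.ext (Subtype.ext (Prod.ext_iff.1 h).1) (Subtype.ext (Prod.ext_iff.1 h).2)
  · refine Nat.le_of_mul_le_mul_right (h5.trans ?_) (Nat.card_pos (α := X))
    rw [← h6, h7]
    exact Nat.mul_le_mul_left _ (Finset.sum_le_sum fun y _ => h4 _)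
  · refine Nat.lt_of_mul_lt_mul_right (a := Nat.card X) (h5.trans_lt ?_)
    rw [← h6, h7]
    refine Nat.mul_lt_mul_of_pos_left (Finset.sum_lt_sum (fun y _ => h4 _) ?_) hm
    by_contra hc
    push Not at hc
    refine hn ⟨fun y hy g => ?_⟩
    have h8 := hc ⟨y, hy⟩ (Finset.mem_univ _)
    have h9 : IsProd ⊤ Y (centralizer ({y} : Set X)) := by
      refine isProd_of_card_le le_top le_top ?_
      rw [card_top, ← h3, mul_right_comm, mul_comm (Nat.card Y)]
      exact Nat.mul_le_mul_right _ h8
    obtain ⟨a, ha, c, hc, rfl⟩ := h9 g trivial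
    rw [mul_assoc a, mem_centralizer_singleton_iff.1 hc]
    simpa [mul_assoc] using mul_mem (mul_mem ha hy) (inv_mem ha)

end Cfsg.Agent.S4200
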