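import Cfsg.Statements.S4201
import Cfsg.Agent.S4200
import Cfsg.Agent.Lib.Solv.Basic

set_option autoImplicit false
open Cfsg

namespace Cfsg.Agent.S4201

/-- If N is a normal subgroup of the finite group X then k(X) ≤ k(N)·k(X ⧸ N), where k denotes the number of conjugacy classes. -/
theorem result {X : Type*} [Group X] [Finite X] (N : Subgroup X) [N.Normal] : Nat.card (ConjClasses X) ≤ Nat.card (ConjClasses N) * Nat.card (ConjClasses (X ⧸ N)) := by
  open Pointwise commutatorElement Subgroup Cfsg.Agent.Solv in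
  open Cfsg.Agent.Transfer in
  classical
  have := Fintype.ofFinite X
  have h1 := S4200.sum_card_centralizer X
  have h2 := S4200.sum_card_centralizer N
  have h3 := S4200.sum_card_centralizer (X ⧸ N)
  refine Nat.le_of_mul_le_mul_right ?_ (Nat.card_pos (α := X))
  have h4 : ∀ x : X, Nat.card (centralizer ({x} : Set X)) ≤
      Nat.card (centralizer ({(x : X ⧸ N)} : Set (X ⧸ N))) * Nat.card (N ⊓ centralizer ({x} : Set X) : Subgroup X) := by
    intro x
    rw [← card_map_mk N, inf_comm]
    refine Nat.mul_le_mul_right _ (card_le_of_le ?_)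
    rintro _ ⟨c, hc, rfl⟩
    rw [mem_centralizer_singleton_iff]
    exact congrArg (QuotientGroup.mk' N) (mem_centralizer_singleton_iff.1 hc)
  have h5 : ∀ q : X ⧸ N, ∑ x : {x : X // (x : X ⧸ N) = q}, Nat.card (N ⊓ centralizer ({(x : X)} : Set X) : Subgroup X) ≤
      Nat.card (ConjClasses N) * Nat.card N := by
    intro q
    have := cnt_double (fun (x : {x : X // (x : X ⧸ N) = q}) (y : N) => (x : X) * y = y * x)
    rw [← h2]
    refine le_trans (le_of_eq ?_) (this.le.trans (Finset.sum_le_sum fun y _ => ?_))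
    · refine Finset.sum_congr rfl fun x _ => ?_
      symm
      refine cnt_eq_of_bij (fun z : N => (z : X)) (fun z hz => ⟨z.2, mem_centralizer_singleton_iff.2 hz.symm⟩)
        (fun _ _ _ _ h => Subtype.ext h) ?_
      rintro z ⟨h1, h2⟩
      exact ⟨⟨z, h1⟩, (mem_centralizer_singleton_iff.1 h2).symm, rfl⟩
    · by_cases h : ∃ x : {x : X // (x : X ⧸ N) = q}, (x : X) * y = y * x
      · obtain ⟨x, hx⟩ := h
        rw [S4200.card_cent_sub]
        refine cnt_le_of_injOn (fun z => (x : X)⁻¹ * z) (fun z hz => ⟨QuotientGroup.eq.1 (x.2.trans z.2.symm), ?_⟩)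
          fun _ _ _ _ h => Subtype.ext (mul_left_cancel h)
        exact mem_centralizer_singleton_iff.2 (Commute.mul_left (Commute.inv_left hx) hz)
      · rw [cnt_eq_zero fun x hx => h ⟨x, hx⟩]; exact Nat.zero_le _
  rw [← h1]
  refine (Finset.sum_le_sum fun x _ => h4 x).trans ?_
  rw [← Fintype.sum_fiberwise (fun x : X => (x : X ⧸ N)), card_eq_card_quotient_mul_card_subgroup N,
    show Nat.card (ConjClasses N) * Nat.card (ConjClasses (X ⧸ N)) * (Nat.card (X ⧸ N) * Nat.card N) =
      Nat.card (ConjClasses (X ⧸ N)) * Nat.card (X ⧸ N) * (Nat.card (ConjClasses N) * Nat.card N) by ring, ← h3,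
    Finset.sum_mul]
  refine Finset.sum_le_sum fun q _ => le_trans (le_of_eq ?_) (Nat.mul_le_mul_left _ (h5 q))
  rw [Finset.mul_sum]
  exact Finset.sum_congr rfl fun x _ => by rw [x.2]

end Cfsg.Agent.S4201
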