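import Cfsg.Statements.S4203
import Cfsg.Agent.Lib.BG.MinNA
import Cfsg.Agent.Lib.Solv.Super
import Cfsg.Agent.Lib.Solv.Fact

set_option autoImplicit false
open Cfsg

namespace Cfsg.Agent.S4203

/-- A finite group in which every maximal subgroup has index a prime or the square of a prime is solvable. -/
theorem result {G : Type*} [Group G] [Finite G] (h : ∀ M : Subgroup G, IsCoatom M → ∃ p : ℕ, p.Prime ∧ (M.index = p ∨ M.index = p ^ 2)) : Group.IsSolvable G := by
  open Pointwise commutatorElement Subgroup Cfsg.Agent.Solv in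
  open Cfsg.Agent.Solv Subgroup in
  induction G, ‹Group G›, ‹Finite G› using Solv.card_induction' with | h G ih => ?_
  rcases subsingleton_or_nontrivial G with h1 | h1
  · infer_instance
  obtain ⟨p, hp, h2, h3⟩ := exists_max_prime_dvd (n := Nat.card G) Nat.card_pos.ne' Finite.one_lt_card.ne'
  haveI := Fact.mk hp
  obtain ⟨P⟩ : Nonempty (Sylow p G) := inferInstance
  by_cases hn : (P : Subgroup G).Normal
  · haveI := P.2.isNilpotent
    exact isSolvable_of_normal_of_quotient P inferInstance (ih _ (card_quotient_lt (P.ne_bot_of_dvd_card h2))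
      fun M hM => index_comap_mk (P : Subgroup G) M ▸ h _ (isCoatom_comap_mk hM))
  obtain ⟨M, hM, m1⟩ := exists_coatom_ge (H := normalizer (P : Set G)) (fun e => hn (normalizer_eq_top_iff.1 e))
  have m2 := index_modEq_one_of_normalizer_le P m1
  obtain ⟨q, hq, e | e⟩ := h M hM
  · have a := h3 q hq (e ▸ M.index_dvd_card)
    have b := hq.two_le
    rw [e] at m2
    have := Nat.le_of_dvd (by omega) ((Nat.modEq_iff_dvd' (by omega)).1 m2.symm)
    omega
  have a := h3 q hq ((dvd_pow_self q two_ne_zero).trans (e ▸ M.index_dvd_card))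
  have b := hq.two_le
  rw [e] at m2
  have c := (Nat.modEq_iff_dvd' (Nat.one_le_pow _ _ hq.pos)).1 m2.symm
  rw [show q ^ 2 - 1 = (q + 1) * (q - 1) by rw [← Nat.sq_sub_sq], hp.dvd_mul] at c
  have d : p ≤ 3 := by
    rcases c with c | c
    · have c1 := Nat.le_of_dvd (by omega) c
      rcases (by omega : p = q ∨ p = q + 1) with rfl | rfl
      · exact absurd (Nat.dvd_one.1 ((Nat.dvd_add_right dvd_rfl).1 c)) hp.one_lt.ne'
      · rcases hq.eq_two_or_odd' with rfl | o
        · rfl
        · rcases hp.eq_two_or_odd' with t | t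
          · omega
          · exact absurd t (Nat.not_odd_iff_even.2 o.add_one)
    · have := Nat.le_of_dvd (by omega) c
      omega
  refine isSolvable_of_card_primeFactors_le_two ((Finset.card_le_card (t := {2, 3}) fun r hr => ?_).trans (by simp))
  have r1 := Nat.prime_of_mem_primeFactors hr
  have r2 := (h3 r r1 (Nat.dvd_of_mem_primeFactors hr)).trans d
  have := r1.two_le
  simp only [Finset.mem_insert, Finset.mem_singleton]
  omega

end Cfsg.Agent.S4203
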