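import Cfsg.Statements.S4204
import Cfsg.Agent.Lib.Solv.PGrp

set_option autoImplicit false
open Cfsg

namespace Cfsg.Agent.S4204

/-- If `H` and `K` are normal subgroups of a finite group with `H` nilpotent of class at most `c` and `K` nilpotent of class at most `d` (the terms with index `c`, respectively `d`, of their lower central series are trivial, indices starting at `0`), then `HK` is nilpotent of class at most `c + d`. -/
theorem result {G : Type*} [Group G] [Finite G] (H K : Subgroup G) [H.Normal] [K.Normal] (c d : ℕ) (hH : H.lowerCentralSeries c = ⊥) (hK : K.lowerCentralSeries d = ⊥) : (H ⊔ K).lowerCentralSeries (c + d) = ⊥ := by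
  open Pointwise commutatorElement Subgroup Cfsg.Agent.Solv in
  let T : ℕ → Subgroup G := fun n => Nat.rec ⊥ (fun _ X => centralMod (H ⊔ K) X) n
  have hT : ∀ n, (T n).Normal := fun n => by
    induction n with
    | zero => exact normal_bot
    | succ n ih => exact ⟨fun x hx g => ⟨le_normalizer_of_normal (mem_top _), fun y hy => by
        convert ih.conj_mem _ (hx.2 _ (Normal.conj_mem' inferInstance y hy g)) g using 1
        simp only [commutatorElement_def]; group⟩⟩
  have h1 : ∀ n k, (H ⊔ K).lowerCentralSeries k ≤ T n → (H ⊔ K).lowerCentralSeries (k + n) = ⊥ := fun n => by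
    induction n with
    | zero => exact fun k h => le_bot_iff.1 h
    | succ n ih =>
      intro k h
      rw [← ih (k + 1) ((commutator_mono h le_rfl).trans commutator_centralMod_le), add_assoc, add_comm 1]
  let A : Subgroup G → ℕ → Subgroup G := fun H i => Nat.casesOn i ⊤ H.lowerCentralSeries
  have h2 : ∀ (H : Subgroup G) [H.Normal] i, (A H i).Normal ∧ ⁅A H i, H⁆ ≤ A H (i + 1) := fun H _ i => by
    cases i with
    | zero => exact ⟨normal_top, commutator_le_right _ _⟩
    | succ i => exact ⟨Subgroup.lowerCentralSeries_normal H i, le_rfl⟩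
  have h3 : ∀ n i j, i + j + n = c + d + 1 → A H i ⊓ A K j ≤ T n := fun n => by
    induction n with
    | zero =>
      intro i j h
      by_cases h4 : c + 1 ≤ i
      · obtain ⟨i, rfl⟩ := Nat.exists_eq_add_of_le' (show 1 ≤ i by omega)
        exact inf_le_left.trans ((Subgroup.lowerCentralSeries_antitone H (by omega : c ≤ i)).trans hH.le)
      · obtain ⟨j, rfl⟩ := Nat.exists_eq_add_of_le' (show 1 ≤ j by omega)
        exact inf_le_right.trans ((Subgroup.lowerCentralSeries_antitone K (by omega : d ≤ j)).trans hK.le)
    | succ n ih =>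
      intro i j h x hx
      haveI := hT n
      haveI := (h2 H i).1
      haveI := (h2 K j).1
      refine ⟨le_normalizer_of_normal (mem_top _), fun g hg => ?_⟩
      obtain ⟨a, ha, b, hb, rfl⟩ := (mem_sup_of_le_normalizer le_normalizer_of_normal).1 hg
      rw [show ⁅x, a * b⁆ = ⁅x, a⁆ * (a * ⁅x, b⁆ * a⁻¹) by simp only [commutatorElement_def]; group]
      exact mul_mem (ih (i + 1) j (by omega) ⟨(h2 H i).2 (commutator_mem_commutator hx.1 ha),
        commutator_le_left _ _ (commutator_mem_commutator hx.2 (mem_top a))⟩) (Normal.conj_mem inferInstance _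
          (ih i (j + 1) (by omega) ⟨commutator_le_left _ _ (commutator_mem_commutator hx.1 (mem_top b)),
            (h2 K j).2 (commutator_mem_commutator hx.2 hb)⟩) a)
  simpa using h1 (c + d) 0 (sup_le (fun x hx => h3 _ 1 0 (by omega) ⟨hx, trivial⟩) fun x hx => h3 _ 0 1 (by omega) ⟨trivial, hx⟩)

end Cfsg.Agent.S4204
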