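import Cfsg.Statements.S4205
import Cfsg.Agent.Lib.Solv.Basic

set_option autoImplicit false
open Cfsg

namespace Cfsg.Agent.S4205

/-- In a finite group whose upper central series reaches the whole group at step `c` (nilpotent of class at most `c`), starting from any subgroup and taking normalizers `c` times reaches the whole group. -/
theorem result {G : Type*} [Group G] [Finite G] (c : ℕ) (hG : Subgroup.upperCentralSeries G c = ⊤) (H : Subgroup G) : (fun K : Subgroup G => Subgroup.normalizer (K : Set G))^[c] H = ⊤ := by
  open Pointwise commutatorElement Subgroup Cfsg.Agent.Solv in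
  have key : ∀ k : ℕ, H ⊔ Subgroup.upperCentralSeries G k ≤ (fun K : Subgroup G => Subgroup.normalizer (K : Set G))^[k] H := by
    intro k
    induction k with
    | zero => simp
    | succ k ih =>
      rw [Function.iterate_succ_apply']
      refine sup_le (le_sup_left.trans (ih.trans le_normalizer)) fun x hx => ?_
      refine mem_normalizer_of_conj_mem fun y hy => ?_
      have := ih (mem_sup_right (Subgroup.mem_upperCentralSeries_succ_iff.1 hx y))
      exact (mul_mem_cancel_right (inv_mem hy)).1 this
  exact eq_top_iff.2 (hG ▸ le_sup_right.trans (key c))

end Cfsg.Agent.S4205
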