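import Cfsg.Statements.S4208
import Cfsg.Agent.Lib.Solv.FrobCount
import Cfsg.Agent.Lib.Solv.PGrp

set_option autoImplicit false
open Cfsg

namespace Cfsg.Agent.S4208

/-- Let `P` be a group of order `p^n` whose Frattini subgroup has index `p^r`. Then the order of the automorphism group of `P` divides `p^(r(n-r)) · (p^r - 1)(p^r - p) ⋯ (p^r - p^(r-1))`. -/
theorem result {P : Type*} [Group P] [Finite P] {p n r : ℕ} [Fact p.Prime] (hP : Nat.card P = p ^ n) (hr : (frattini P).index = p ^ r) : Nat.card (MulAut P) ∣ p ^ (r * (n - r)) * ∏ i ∈ Finset.range r, (p ^ r - p ^ i) := by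
  open Pointwise commutatorElement Subgroup Cfsg.Agent.Solv in
  open Cfsg.Agent.Transfer in
  classical
  have hp : p.Prime := Fact.out
  have hG := IsPGroup.of_card hP
  have h3 := (frattini P).card_mul_index
  rw [hP, hr] at h3
  have h4 : r ≤ n := (Nat.pow_dvd_pow_iff_le_right hp.one_lt).1 (Dvd.intro_left _ h3)
  have h5 : Nat.card (frattini P) = p ^ (n - r) := by
    rw [← Nat.pow_div h4 hp.pos, ← h3, Nat.mul_div_cancel _ (pow_pos hp.pos _)]
  have h1 : ∀ k (f : Fin (k + 1) → P), frattini P ⊔ closure (Set.range f) =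
      (frattini P ⊔ closure (Set.range (Fin.tail f))) ⊔ zpowers (f 0) := fun k f => by
    rw [Fin.range_fin_succ, Set.insert_eq, Subgroup.closure_union, ← zpowers_eq_closure, sup_comm (zpowers _), sup_assoc]
  have h2 : ∀ (L : Subgroup P) (a : P), frattini P ≤ L → a ∉ L → Nat.card (L ⊔ zpowers a : Subgroup P) = Nat.card L * p :=
    fun L a h3 h4 => by
      rw [← Solv.card_mul_relIndex le_sup_left, relIndex_sup_zpowers_of_prime hp (le_normalizer_of_commutator_le_of_le
        ((commutator_mono le_top le_rfl).trans (commutator_le_frattini_of_isPGroup hG)) h3 (mem_top a)) h4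
        (h3 (pow_mem_frattini hG a))]
  have h6 : ∀ k (f : Fin k → P), Nat.card (frattini P ⊔ closure (Set.range f) : Subgroup P) ≤ p ^ (n - r + k) := fun k => by
    induction k with
    | zero => intro f; simp [h5]
    | succ k ih =>
      intro f
      rw [h1]
      by_cases h : f 0 ∈ frattini P ⊔ closure (Set.range (Fin.tail f))
      · rw [sup_eq_left.2 (zpowers_le.2 h)]; exact (ih _).trans (Nat.pow_le_pow_right hp.pos (by omega))
      · rw [h2 _ _ le_sup_left h, ← add_assoc, pow_succ]; exact Nat.mul_le_mul_right _ (ih _)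
  have h7 : ∀ k, Nat.card {f : Fin k → P // Nat.card (frattini P ⊔ closure (Set.range f) : Subgroup P) = p ^ (n - r + k)} =
      ∏ i ∈ Finset.range k, (p ^ n - p ^ (n - r + i)) := fun k => by
    induction k with
    | zero => simp [h5]
    | succ k ih =>
      have a1 : ∀ f : Fin (k + 1) → P, Nat.card (frattini P ⊔ closure (Set.range f) : Subgroup P) = p ^ (n - r + (k + 1)) ↔
          Nat.card (frattini P ⊔ closure (Set.range (Fin.tail f)) : Subgroup P) = p ^ (n - r + k) ∧
            f 0 ∉ frattini P ⊔ closure (Set.range (Fin.tail f)) := fun f => by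
        rw [h1, ← add_assoc, pow_succ]
        by_cases h : f 0 ∈ frattini P ⊔ closure (Set.range (Fin.tail f))
        · rw [sup_eq_left.2 (zpowers_le.2 h)]
          exact iff_of_false ((h6 _ _).trans_lt (lt_mul_of_one_lt_right (pow_pos hp.pos _) hp.one_lt)).ne fun h' => h'.2 h
        · rw [h2 _ _ le_sup_left h, Nat.mul_left_inj hp.ne_zero, and_iff_left h]
      rw [Finset.prod_range_succ, ← ih]
      refine cnt_eq_mul_of_fiber Fin.tail (fun f hf => ((a1 f).1 hf).1) fun g hg => ?_
      rw [cnt_eq_of_bij (q := fun x => True ∧ x ∉ frattini P ⊔ closure (Set.range g)) (fun f => f 0)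
        (fun f hf => ⟨trivial, hf.2 ▸ ((a1 f).1 hf.1).2⟩) (fun f f' a2 a3 a4 => by
          rw [← Fin.cons_self_tail f, ← Fin.cons_self_tail f', a2.2, a3.2, a4])
        fun x hx => ⟨Fin.cons x g, ⟨(a1 _).2 ⟨by simpa using hg, by simpa using hx.2⟩, by simp⟩, by simp⟩]
      have := cnt_split (fun _ : P => True) fun x => x ∈ frattini P ⊔ closure (Set.range g)
      rw [cnt_true, hP, cnt_congr fun x => (true_and _).to_iff] at this
      rw [this, ← hg]
      exact (Nat.add_sub_cancel_left ..).symm
  have h8 : p ^ (r * (n - r)) * ∏ i ∈ Finset.range r, (p ^ r - p ^ i) = ∏ i ∈ Finset.range r, (p ^ n - p ^ (n - r + i)) := by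
    rw [Finset.prod_congr rfl (f := fun i => p ^ n - p ^ (n - r + i)) (g := fun i => p ^ (n - r) * (p ^ r - p ^ i)) fun i _ => by
      rw [Nat.mul_sub, ← pow_add, ← pow_add, Nat.sub_add_cancel h4], Finset.prod_mul_distrib]
    simp [← pow_mul, mul_comm]
  have h9 : ∀ f : Fin r → P, Nat.card (frattini P ⊔ closure (Set.range f) : Subgroup P) = p ^ (n - r + r) ↔
      closure (Set.range f) = ⊤ := fun f => by
    rw [Nat.sub_add_cancel h4, ← hP, card_eq_iff_eq_top]
    exact ⟨fun h => eq_top_of_sup_le_frattini le_rfl (sup_comm (frattini P) _ ▸ h), fun h => by simp [h]⟩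
  rw [h8, ← h7, cnt_congr h9, ← card_top (G := MulAut P)]
  refine dvd_cnt_of_action (G := MulAut P) ⊤ (fun α _ f hf => ?_) fun f hf => ?_
  · rw [show α • f = α.toMonoidHom ∘ f from rfl, Set.range_comp, ← MonoidHom.map_closure, hf,
      map_top_of_surjective _ α.surjective]
  rw [show MulAction.stabilizer (MulAut P) f = ⊥ from eq_bot_iff.2 fun α hα => ?_, relIndex_bot_left]
  refine MulEquiv.ext fun x => (?_ : (⊤ : Subgroup P) ≤ MonoidHom.eqLocus α.toMonoidHom (MonoidHom.id P)) (mem_top x)
  rw [← hf, closure_le]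
  rintro _ ⟨t, rfl⟩
  exact congrFun hα t

end Cfsg.Agent.S4208
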