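import Cfsg.Statements.S4212
import Cfsg.Agent.Lib.Solv.FrobCount

set_option autoImplicit false
open Cfsg

namespace Cfsg.Agent.S4212

/-- Let `G` be a finite group of order `g`, `c` an element whose conjugacy class has `h` elements, and `n` a natural number. Then the number of elements `x` of `G` with `x^n` conjugate to `c` is a multiple of `gcd(hn, g)`. -/
theorem result {G : Type*} [Group G] [Finite G] (c : G) (n : ℕ) : Nat.gcd (Nat.card {y : G // IsConj c y} * n) (Nat.card G) ∣ Nat.card {x : G // IsConj c (x ^ n)} := by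
  open Pointwise commutatorElement Subgroup Cfsg.Agent.Solv in
  open Cfsg.Agent.Transfer in
  have h1 : Nat.card {x : G // IsConj c (x ^ n)} = Nat.card {y : G // IsConj c y} *
      Nat.card {x : G // x ∈ centralizer ({c} : Set G) ∧ x ^ n = c} := by
    refine cnt_eq_mul_of_fiber (fun x => x ^ n) (fun _ h => h) fun b hb => ?_
    obtain ⟨g, rfl⟩ := isConj_iff.1 hb
    symm
    refine cnt_eq_of_bij (fun x => g * x * g⁻¹) (fun x hx => ?_) (fun _ _ _ _ h => by simpa using h) fun y hy => ?_
    · rw [conj_pow, hx.2]; exact ⟨hb, rfl⟩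
    · have h2 : (g⁻¹ * y * g⁻¹⁻¹) ^ n = c := by rw [conj_pow, hy.2]; group
      refine ⟨g⁻¹ * y * g⁻¹⁻¹, ⟨?_, h2⟩, by group⟩
      rw [← h2]
      exact mem_centralizer_singleton_iff.2 (Commute.self_pow _ _)
  rw [h1, ← card_isConj_mul c, Nat.gcd_mul_left]
  exact Nat.mul_dvd_mul_left _ (frobenius_dvd_cnt _ le_rfl (Nat.gcd_dvd_left _ _) (Nat.gcd_dvd_right _ _))

end Cfsg.Agent.S4212
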