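import Cfsg.Statements.S4213
import Cfsg.Agent.Lib.Transfer.Hall
import Cfsg.Agent.Lib.Solv.FrobCount
import Cfsg.Agent.S4032

set_option autoImplicit false
open Cfsg

namespace Cfsg.Agent.S4213
section
open Pointwise commutatorElement Subgroup Cfsg.Agent.Solv
open Cfsg.Agent.Transfer
universe u
theorem aux (G : Type u) [Group G] [Finite G] : Group.IsSolvable G → ∀ n : ℕ, n ∣ Nat.card G →
    Nat.card {x : G // x ^ n = 1} = n → ∃ H : Subgroup G, (H : Set G) = {x : G | x ^ n = 1} := by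
  revert G
  refine card_induction fun G _ _ ih => ?_
  intro hs n hn hc
  have key : ∀ H : Subgroup G, Nat.card H = n → (∀ x ∈ H, x ^ n = 1) → (H : Set G) = {x : G | x ^ n = 1} :=
    fun H h1 h2 => Set.eq_of_subset_of_ncard_le h2 (le_of_eq (hc.trans h1.symm))
  rcases subsingleton_or_nontrivial G with h | h
  · exact ⟨⊤, Set.ext fun x => ⟨fun _ => Subsingleton.elim _ _, fun _ => trivial⟩⟩
  obtain ⟨M, -, hM, h0, -, -, p, hp, h1⟩ := exists_elementary_normal_le (⊤ : Subgroup G) (isSolvable_top_iff.2 hs)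
    top_ne_bot
  haveI := Fact.mk hp
  obtain ⟨i, hi⟩ := (isPGroup_of_pow_eq_one h1).exists_card_eq
  have hi0 : i ≠ 0 := by rintro rfl; exact h0 (eq_bot_of_card_eq _ hi)
  have hG := card_eq_card_quotient_mul_card_subgroup M
  have hn0 : n ≠ 0 := ne_zero_of_dvd_ne_zero Nat.card_pos.ne' hn
  have hpos : ∀ m : ℕ, m ∣ Nat.card (G ⧸ M) → m ≤ Nat.card {z : G ⧸ M // z ^ m = 1} := fun m hm =>
    Nat.le_of_dvd (cnt_pos (x := 1) (one_pow _)) (frobenius_dvd dvd_rfl hm)
  have hcnt : ∀ m : ℕ, Nat.card {x : G // (x : G ⧸ M) ^ m = 1} = Nat.card {z : G ⧸ M // z ^ m = 1} * p ^ i := fun m => by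
    refine cnt_eq_mul_of_fiber (fun x : G => (x : G ⧸ M)) (fun _ h => h) fun b hb => ?_
    obtain ⟨b, rfl⟩ := QuotientGroup.mk_surjective b
    rw [← hi]
    refine cnt_eq_of_bij (fun x => x⁻¹ * b) (fun x hx => QuotientGroup.eq.1 hx.2) (fun _ _ _ _ h => by simpa using h)
      fun y hy => ?_
    have : ((b * y⁻¹ : G) : G ⧸ M) = b := QuotientGroup.eq.2 (by simpa using hy)
    exact ⟨b * y⁻¹, ⟨this ▸ hb, this⟩, by group⟩
  by_cases h2 : p ∣ n
  · obtain ⟨j, m, hm, rfl⟩ := Nat.exists_eq_pow_mul_and_not_dvd hn0 p hp.ne_one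
    have hj : j ≠ 0 := by rintro rfl; exact hm (by simpa using h2)
    have h3 : p ^ (j - i) * m ∣ Nat.card (G ⧸ M) := by
      have h4 := (hp.coprime_iff_not_dvd).2 hm
      rw [hG, hi] at hn
      refine (h4.pow_left _).mul_dvd_of_dvd_of_dvd ?_
        ((h4.symm.pow_right _).dvd_of_dvd_mul_right ((dvd_mul_left _ _).trans hn))
      rcases le_total j i with h5 | h5
      · simp [Nat.sub_eq_zero_of_le h5]
      · refine Nat.dvd_of_mul_dvd_mul_right (pow_pos hp.pos i) ?_
        rw [← pow_add, Nat.sub_add_cancel h5]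
        exact (dvd_mul_right _ _).trans hn
    have h4 : ∀ x : G, (x : G ⧸ M) ^ (p ^ (j - i) * m) = 1 → x ^ (p ^ j * m) = 1 := fun x hx => by
      have h5 := h1 _ ((QuotientGroup.eq_one_iff _).1 ((QuotientGroup.mk_pow M x _).trans hx))
      rw [show j = (j - i) + 1 + (j - (j - i + 1)) by omega, pow_add, pow_succ, mul_right_comm, mul_right_comm _ p,
        pow_mul, pow_mul, h5, one_pow]
    have h5 := (hcnt _).symm.trans_le ((cnt_mono h4).trans_eq hc)
    have h6 := hpos _ h3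
    have hm0 : 0 < m := Nat.pos_of_ne_zero (right_ne_zero_of_mul hn0)
    have h7 : i ≤ j := by
      have := (Nat.mul_le_mul_right _ h6).trans h5
      rw [mul_right_comm, ← pow_add] at this
      have := (Nat.pow_le_pow_iff_right hp.one_lt).1 (Nat.le_of_mul_le_mul_right this hm0)
      omega
    have h8 : p ^ j * m = p ^ (j - i) * m * p ^ i := by rw [mul_right_comm, ← pow_add, Nat.sub_add_cancel h7]
    have h9 := le_antisymm (Nat.le_of_mul_le_mul_right (h5.trans_eq h8) (pow_pos hp.pos i)) h6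
    obtain ⟨H, hH⟩ := ih (G ⧸ M) (card_quotient_lt h0) inferInstance _ h3 h9
    refine ⟨H.comap (QuotientGroup.mk' M), key _ ?_ fun x hx => h4 x (hH.le hx)⟩
    rw [card_comap_mk, hi, h8, ← h9]
    exact congrArg (fun s : Set (G ⧸ M) => Nat.card s * p ^ i) hH
  · have h3 : (Nat.card M).Coprime n := by rw [hi]; exact ((hp.coprime_iff_not_dvd).2 h2).pow_left _
    have h4 : n ∣ Nat.card (G ⧸ M) := h3.symm.dvd_of_dvd_mul_right (hG ▸ hn)
    have h5 : Nat.card {z : G ⧸ M // z ^ n = 1} ≤ n := by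
      conv_rhs => rw [← hc]
      have : ∀ z : G ⧸ M, ∃ x : G, z ^ n = 1 → (x : G ⧸ M) = z ∧ x ^ n = 1 := fun z => by
        by_cases hz : z ^ n = 1
        · obtain ⟨x, h5, h6⟩ := S4032.exists_lift {p}ᶜ M z
            (piE_of_pow_eq_one hz fun q _ h5 h6 => h2 (Set.mem_singleton_iff.1 h6 ▸ h5))
          refine ⟨x, fun _ => ⟨h5, PiE.eq_one ((piE_singleton' hp).2 ⟨1, ?_⟩) (PiE.pow h6 n)⟩⟩
          rw [pow_one]
          exact h1 _ ((QuotientGroup.eq_one_iff _).1 (by rw [QuotientGroup.mk_pow, h5, hz]))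
        · exact ⟨1, fun h => absurd h hz⟩
      choose f hf using this
      exact cnt_le_of_injOn f (fun z hz => (hf z hz).2) fun z w hz hw h => by rw [← (hf z hz).1, h, (hf w hw).1]
    have h6 := le_antisymm h5 (hpos _ h4)
    obtain ⟨H, hH⟩ := ih (G ⧸ M) (card_quotient_lt h0) inferInstance _ h4 h6
    have h7 : M.relIndex (H.comap (QuotientGroup.mk' M)) = n := by
      rw [← card_map_mk_eq_relIndex, map_comap_mk, ← h6]
      exact congrArg (fun s : Set (G ⧸ M) => Nat.card s) hH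
    obtain ⟨B, -, -, -, h8⟩ := sz_exists_internal (le_comap_mk M H) le_normalizer_of_normal (h7 ▸ h3)
    exact ⟨B, key B (h8.trans h7) fun x hx => by
      rw [← h7, ← h8]; exact orderOf_dvd_iff_pow_eq_one.1 (orderOf_dvd_card_of_mem hx)⟩
end

/-- If `G` is a finite solvable group and `n` divides the order of `G` and exactly `n` elements `x` of `G` satisfy `x^n = 1`, then these elements form a normal subgroup. -/
theorem result {G : Type*} [Group G] [Finite G] [Group.IsSolvable G] (n : ℕ) (hn : n ∣ Nat.card G) (hcount : Nat.card {x : G // x ^ n = 1} = n) : ∃ H : Subgroup G, H.Normal ∧ (H : Set G) = {x : G | x ^ n = 1} := by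
  open Pointwise commutatorElement Subgroup Cfsg.Agent.Solv in
  obtain ⟨H, hH⟩ := aux G inferInstance n hn hcount
  refine ⟨H, ⟨fun x hx g => hH.ge ?_⟩, hH⟩
  show (g * x * g⁻¹) ^ n = 1
  rw [conj_pow, show x ^ n = 1 from hH.le hx, mul_one, mul_inv_cancel]

end Cfsg.Agent.S4213
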