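import Cfsg.Statements.S4216
import Cfsg.Agent.Lib.Fusion.Yosh

set_option autoImplicit false
open Cfsg

namespace Cfsg.Agent.S4216

open Fusion Cfsg.FusionSystem

/-- Grün's first Theorem: if `P` is a Sylow `p`-subgroup of the finite group `G`, then `P ∩ G'` is the subgroup generated by `P ∩ N_G(P)'` together with the subgroups `P ∩ z P' z⁻¹` for all `z ∈ G`, where `'` denotes the derived subgroup and `N_G(P)` the normalizer of `P`. -/
theorem result {G : Type*} [Group G] [Finite G] {p : ℕ} [Fact p.Prime] (P : Sylow p G) : (P : Subgroup G) ⊓ commutator G = ((P : Subgroup G) ⊓ ⁅Subgroup.normalizer ((P : Subgroup G) : Set G), Subgroup.normalizer ((P : Subgroup G) : Set G)⁆) ⊔ ⨆ z : G, (P : Subgroup G) ⊓ (⁅(P : Subgroup G), (P : Subgroup G)⁆).map (MulAut.conj z).toMonoidHom := by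
  refine le_antisymm ((foc_group P).ge.trans <| gruen P.isPGroup' (group_saturated P) (fun f hf x hx => ?_)
    fun Q f hf x hx hx' => ?_) (sup_le (inf_le_inf_left _ (Subgroup.commutator_mono le_top le_top))
      (iSup_le fun z => inf_le_inf_left _ ?_))
  · obtain ⟨a, b, g, e⟩ := mor_group_iff.1 hf
    refine Subgroup.mem_sup_left ⟨P.1.mul_mem (P.1.inv_mem hx) (b x hx), e x hx ▸ ?_⟩
    exact conj_mem_of_commutator_le le_rfl (mem_normalizer_of_finite fun x hx => e x hx ▸ b x hx)
      (Subgroup.le_normalizer hx)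
  · obtain ⟨a, b, g, e⟩ := mor_group_iff.1 hf
    exact Subgroup.mem_sup_right (Subgroup.mem_iSup_of_mem g ⟨b x hx, x, hx', (e x hx).symm⟩)
  · rw [Subgroup.map_commutator]; exact Subgroup.commutator_mono le_top le_top

end Cfsg.Agent.S4216
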