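import Cfsg.Statements.S4217
import Cfsg.Agent.Lib.Comp.Res
import Cfsg.Agent.Lib.Solv.Prim
import Cfsg.Agent.Lib.Solv.Schmidt
import Cfsg.Agent.Lib.Transfer.Hall

set_option autoImplicit false
open Cfsg

namespace Cfsg.Agent.S4217

/-- Let `A` be an abelian normal subgroup of the finite group `G`. Then `A` has a complement in `G` if and only if, for every prime `p` dividing the index of `A`, there are a Sylow `p`-subgroup `S` of `G/A` and a subgroup `K` of `G` with `K ∩ A = 1` and `KA` equal to the preimage of `S` (that is, `A` has a complement in the preimage of a Sylow `p`-subgroup of `G/A`). -/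
theorem result {G : Type*} [Group G] [Finite G] (A : Subgroup G) [A.Normal] (hA : IsMulCommutative A) : (∃ K : Subgroup G, K.IsComplement' A) ↔ ∀ p : ℕ, p.Prime → p ∣ A.index → ∃ (S : Sylow p (G ⧸ A)) (K : Subgroup G), K ⊓ A = ⊥ ∧ K ⊔ A = (S : Subgroup (G ⧸ A)).comap (QuotientGroup.mk' A) := by
  open Pointwise commutatorElement Subgroup Cfsg.Agent.Solv in
  open Cfsg.Agent.Transfer in
  constructor
  · rintro ⟨K, hK⟩ p hp -
    haveI := Fact.mk hp
    obtain ⟨S⟩ : Nonempty (Sylow p (G ⧸ A)) := inferInstance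
    refine ⟨S, K ⊓ (S : Subgroup (G ⧸ A)).comap (QuotientGroup.mk' A), ?_, ?_⟩
    · rw [inf_right_comm, IsComplement'.inf_eq_bot hK, bot_inf_eq]
    · rw [sup_comm, ← dedekind (le_comap_mk _ _) le_normalizer_of_normal, hK.symm.sup_eq_top, top_inf_eq]
  intro h
  have h1 : ∀ p : ℕ, p.Prime → ∃ L : Subgroup G, A ⊔ L = ⊤ ∧ A ⊓ L = res p A := fun p hp => by
    haveI := Fact.mk hp
    obtain ⟨U, K, a1, a2, a3⟩ : ∃ U K : Subgroup G, ¬ p ∣ U.index ∧ K ⊓ A = ⊥ ∧ K ⊔ A = U := by
      by_cases h2 : p ∣ A.index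
      · obtain ⟨S, K, h3⟩ := h p hp h2
        exact ⟨_, K, by rw [index_comap_mk]; exact S.not_dvd_index, h3⟩
      · exact ⟨A, ⊥, h2, by simp, by simp⟩
    haveI : (res p A).Normal := normal_iff_top_le_normalizer.2 (le_normalizer_of_normal.trans (normalizer_le_normalizer_res A))
    obtain ⟨n, hn⟩ := relIndex_res (p := p) A
    have hU : res p A ≤ U := (res_le A).trans (a3 ▸ le_sup_right)
    obtain ⟨L, hL⟩ := gaschutz_exists (K := A.map (QuotientGroup.mk' (res p A))) (U := U.map (QuotientGroup.mk' _))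
      (A := K.map (QuotientGroup.mk' _)) (map_mono (a3 ▸ le_sup_right)) (by
        rw [card_map_mk_eq_relIndex, hn, index_map_mk, sup_eq_left.2 hU]
        exact (hp.coprime_iff_not_dvd.2 a1).pow_left _) (eq_bot_iff.2 (by
          rintro _ ⟨⟨x, hx, rfl⟩, h2⟩
          have : x ∈ A := by
            rw [← sup_eq_left.2 (res_le (p := p) A), ← comap_map_mk]; exact h2
          rw [show x = 1 from mem_bot.1 (a2.le (mem_inf.2 ⟨hx, this⟩)), map_one]
          exact one_mem _)) (by rw [← Subgroup.map_sup, sup_comm, a3])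
    refine ⟨L.comap (QuotientGroup.mk' _), ?_, ?_⟩
    · have := comap_sup_eq (QuotientGroup.mk' (res p A)) (A.map (QuotientGroup.mk' _)) L (QuotientGroup.mk'_surjective _)
      rwa [hL.sup_eq_top, comap_top, comap_map_mk, sup_eq_left.2 (res_le A)] at this
    · have := comap_inf (A.map (QuotientGroup.mk' _)) L (QuotientGroup.mk' (res p A))
      rwa [IsComplement'.inf_eq_bot hL, MonoidHom.comap_bot, QuotientGroup.ker_mk', comap_map_mk, sup_eq_left.2 (res_le A),
        eq_comm] at this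
  obtain ⟨L, -, ⟨a1, a2⟩, a3⟩ := exists_minimal_le (P := fun L : Subgroup G => A ⊔ L = ⊤ ∧
    (Nat.card (A ⊓ L : Subgroup G)).Coprime ((A ⊓ L).relIndex A)) (N := ⊤) ⟨by simp, by simp⟩
  refine ⟨L, (isComplement'_of_inf_eq_bot_of_sup_eq_top (by_contra fun h2 => ?_) a1).symm⟩
  obtain ⟨p, hp, h3⟩ := exists_prime_dvd_card h2
  haveI := Fact.mk hp
  obtain ⟨M, b1, b2⟩ := h1 p hp
  have b3 : ¬ p ∣ Nat.card (res p A) := hasNPC_sub_iff.1 (have := isNilpotent_of_isMulCommutative hA; hasNPC_of_nilpotent)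
  obtain ⟨n, hn⟩ := relIndex_res (p := p) A
  obtain ⟨S, hS⟩ := exists_isSyl p (A ⊓ L)
  have b4 := (hS.of_hall inf_le_left a2 h3).res_sup
  have b5 : A ⊓ (L ⊓ M) = A ⊓ L ⊓ res p A := by rw [← b2, inf_inf_distrib_left]
  have hN : ∀ B ≤ A, A ≤ normalizer (B : Set G) := fun B hB =>
    ((comm_iff_le_centralizer.1 hA).trans (Solv.centralizer_anti hB)).trans (centralizer_le_normalizer _)
  have b6 := a3 (L ⊓ M) ⟨?_, ?_⟩ inf_le_left
  · exact b3 (h3.trans (card_dvd_of_le (by rw [← b6, b5]; exact inf_le_right)))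
  · rw [eq_top_iff, ← a1]
    refine sup_le le_sup_left fun x hx => ?_
    obtain ⟨a, ha, m, hm, rfl⟩ := (mem_sup_of_le_normalizer' le_normalizer_of_normal).1 (b1.ge (mem_top x))
    obtain ⟨s, hs, c, hc, rfl⟩ := (mem_sup_of_le_normalizer' ((res_le A).trans (hN S (hS.le.trans inf_le_left)))).1
      ((sup_comm _ S).le (b4.ge ha))
    rw [mul_assoc] at hx ⊢
    exact mul_mem (mem_sup_left (hS.le hs).1) (mem_sup_right ⟨(mul_mem_cancel_left (mem_inf.1 (hS.le hs)).2).1 hx,
      mul_mem (mem_inf.1 (b2.ge hc)).2 hm⟩)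
  · rw [b5, ← relIndex_mul_relIndex _ (A ⊓ L) A inf_le_left inf_le_left]
    refine Nat.Coprime.mul_right ?_ (a2.coprime_dvd_left (card_dvd_of_le inf_le_left))
    rw [inf_relIndex_left]
    refine Nat.Coprime.coprime_dvd_right (Comp.relIndex_dvd_of_le_of_normalizer (res_le A) inf_le_left (inf_le_left.trans (hN _ (res_le A)))) ?_
    rw [hn]
    exact ((hp.coprime_iff_not_dvd.2 b3).symm.coprime_dvd_left (card_dvd_of_le inf_le_right)).pow_right _

end Cfsg.Agent.S4217
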