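import Cfsg.Statements.S4218
import Cfsg.Agent.Lib.Solv.Frattini
import Cfsg.Agent.Lib.Solv.Cores
import Cfsg.Agent.Lib.Transfer.Stab

set_option autoImplicit false
open Cfsg

namespace Cfsg.Agent.S4218

/-- Let `G` be a finite `p`-solvable group, `N₀ = O_{p'}(G)`, `P₁ = O_{p',p}(G)`, and let `F ≤ P₁` be the preimage of the Frattini subgroup of `P₁/N₀`. Then an element `g` of `G` induces the identity on `P₁/F` by conjugation (that is, `g x g⁻¹ x⁻¹ ∈ F` for all `x ∈ P₁`) if and only if `g ∈ P₁`: the group `G/P₁` acts faithfully on `P₁/F`. -/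
theorem result {G : Type*} [Group G] [Finite G] {p : ℕ} [Fact p.Prime] (hG : Cfsg.IsPSolvable p G) (g : G) : (∀ x ∈ Cfsg.pPrimePCore p G, g * x * g⁻¹ * x⁻¹ ∈ ((frattini (↥(Cfsg.pPrimePCore p G) ⧸ (Cfsg.pPrimeCore p G).subgroupOf (Cfsg.pPrimePCore p G))).comap (QuotientGroup.mk' ((Cfsg.pPrimeCore p G).subgroupOf (Cfsg.pPrimePCore p G)))).map (Cfsg.pPrimePCore p G).subtype) ↔ g ∈ Cfsg.pPrimePCore p G := by
  open Pointwise commutatorElement Subgroup Cfsg.Agent.Solv in
  open Cfsg.Agent.Transfer in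
  set N := pPrimeCore p G
  set f := QuotientGroup.mk' N
  set Q := pCore p (G ⧸ N)
  have hQ : IsPGroup p Q := isPGroup_pCore _ _
  set φ : pPrimePCore p G →* Q := f.subgroupComap Q
  have hφ : Function.Surjective φ := MonoidHom.subgroupComap_surjective_of_surjective _ _ (QuotientGroup.mk'_surjective N)
  have hk : N.subgroupOf (pPrimePCore p G) = φ.ker := by
    ext x; rw [mem_subgroupOf, MonoidHom.mem_ker, Subtype.ext_iff]; exact (QuotientGroup.eq_one_iff _).symm
  have h1 : ∀ x ∈ pPrimePCore p G, x ∈ ((frattini (pPrimePCore p G ⧸ N.subgroupOf (pPrimePCore p G))).comap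
      (QuotientGroup.mk' (N.subgroupOf (pPrimePCore p G)))).map (pPrimePCore p G).subtype ↔ f x ∈ (frattini Q).map Q.subtype := by
    intro x hx
    let e := (QuotientGroup.quotientMulEquivOfEq hk).trans (QuotientGroup.quotientKerEquivOfSurjective φ hφ)
    rw [← map_frattini_eq_of_isPGroup (hQ.of_equiv e.symm) (f := e.toMonoidHom) e.surjective]
    refine (mem_map_iff_mem (f := (pPrimePCore p G).subtype) Subtype.val_injective (x := ⟨x, hx⟩)).trans ?_
    refine Iff.trans ?_ (mem_map_iff_mem (f := Q.subtype) Subtype.val_injective (x := φ ⟨x, hx⟩)).symm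
    exact mem_comap.trans (mem_map_iff_mem (f := e.toMonoidHom) e.injective).symm
  have h2 : ∀ x ∈ pPrimePCore p G, g * x * g⁻¹ * x⁻¹ ∈ pPrimePCore p G := fun x hx =>
    mul_mem (Normal.conj_mem (normal_comap _) x hx g) (inv_mem hx)
  refine ⟨fun h => ?_, fun h x hx => (h1 _ (h2 x hx)).2 (commutator_le_map_frattini hQ.isNilpotent
    (by rw [← commutatorElement_def, map_commutatorElement]; exact commutator_mem_commutator h hx))⟩
  set C := centralMod Q ((frattini Q).map Q.subtype)
  haveI hC : C.Normal := ⟨fun x hx g => ⟨le_normalizer_of_normal (mem_top _), fun y hy => by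
    convert Normal.conj_mem inferInstance _ (hx.2 _ (Normal.conj_mem' inferInstance y hy g)) g using 1
    simp only [commutatorElement_def]; group⟩⟩
  have h3 := psol_charP (psol_surj (QuotientGroup.mk'_surjective N) (Comp.pSol_top_of_isPSolvable hG))
    pPrimeCore_quotient_pPrimeCore
  have h4 : C ≤ Q := le_pCore (isPGroup_of_forall_mem fun x hx => by
    obtain ⟨k, hk⟩ := exists_pow_coprime (p := p) x
    have h4 := h3 (zpowers_le.1 (coprime_frattini_le_centralizer (A := zpowers (x ^ p ^ k))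
      (coprime_card_of_isPGroup' (hQ.to_subgroup _) (by rwa [Nat.card_zpowers]))
      ((commutator_comm _ _).le.trans ((commutator_mono (zpowers_le.2 (pow_mem hx _)) le_rfl).trans commutator_centralMod_le))
      le_normalizer_of_normal))
    exact ⟨k, congrArg Subtype.val (eq_one_of_coprime_of_isPGroup hQ (x := ⟨_, h4⟩) (by rwa [← orderOf_coe]))⟩)
  refine h4 ⟨le_normalizer_of_normal (mem_top _), fun y hy => ?_⟩
  obtain ⟨y, rfl⟩ := QuotientGroup.mk'_surjective N y
  rw [← map_commutatorElement]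
  exact (h1 _ (h2 y hy)).1 (h y hy)

end Cfsg.Agent.S4218
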