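import Cfsg.Statements.S4222
import Cfsg.Agent.Lib.Solv.Basic
import Cfsg.Agent.Lib.Comp.Basic

set_option autoImplicit false
open Cfsg

namespace Cfsg.Agent.S4222

/-- If a normal subgroup `N` of a finite group is complete (its centre is trivial and every automorphism of `N` is inner), then the group is the internal direct product of `N` and the centralizer of `N`: the centralizer is a complement to `N`. -/
theorem result {T : Type*} [Group T] [Finite T] (N : Subgroup T) [N.Normal] (hz : Subgroup.center ↥N = ⊥) (ha : Function.Surjective (MulAut.conj : ↥N →* MulAut ↥N)) : (Subgroup.centralizer (N : Set T)).IsComplement' N := by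
  open Pointwise commutatorElement Subgroup Cfsg.Agent.Solv in
  refine isComplement'_of_inf_eq_bot_of_sup_eq_top ?_ ?_
  · rw [inf_comm, ← Comp.map_center_subtype, hz, Subgroup.map_bot]
  · rw [eq_top_iff]
    intro t _
    obtain ⟨n, hn⟩ := ha (MulAut.conjNormal t)
    have : (n : T)⁻¹ * t ∈ centralizer (N : Set T) := fun x hx => by
      have := congrArg (fun f : MulAut N => (f ⟨x, hx⟩ : T)) hn
      simp only [MulAut.conj_apply, MulAut.conjNormal_apply, coe_mul, coe_inv] at this
      calc x * ((n : T)⁻¹ * t) = (n : T)⁻¹ * (n * x * (n : T)⁻¹) * t := by group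
        _ = _ := by rw [this]; group
    rw [← mul_inv_cancel_left (n : T) t]
    exact mul_mem (mem_sup_right n.2) (mem_sup_left this)

end Cfsg.Agent.S4222
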