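import Cfsg.Statements.S4226
import Cfsg.Agent.Lib.Transfer.Ext

set_option autoImplicit false
open Cfsg

namespace Cfsg.Agent.S4226

set_option linter.unusedSectionVars false
set_option linter.unusedVariables false
set_option linter.style.haveILetI false
set_option linter.unusedSimpArgs false

open Subgroup Transfer MS

/-- Let `P` be a Sylow `p`-subgroup of the finite group `G` with nilpotency class less than `p` (the term of index `p - 1` of the lower central series of `P`, indexed from `0`, is trivial), and let `N` be its normalizer. Then `O^p(N) = O^p(G) ∩ N`, where `O^p` denotes the subgroup generated by the elements of order prime to `p`; so the largest `p`-factor groups of `G` and of `N` are isomorphic. -/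
theorem result {G : Type*} [Group G] [Finite G] {p : ℕ} [Fact p.Prime] (P : Sylow p G) (hcl : (P : Subgroup G).lowerCentralSeries (p - 1) = ⊥) : Cfsg.pResidualOf p (Subgroup.normalizer ((P : Subgroup G) : Set G)) = Cfsg.pResidual p G ⊓ Subgroup.normalizer ((P : Subgroup G) : Set G) := by
  refine Fusion.res_eq_of_foc P (le_nn _) ?_
  by_contra h
  obtain ⟨x, hx, z, hz, W, -, -, -, h1⟩ := Fusion.wielandt_group P (isWeaklyClosed_self P) (le_nn _) h
  have : ∀ n, Fusion.itc z n x ∈ (P : Subgroup G).lowerCentralSeries n := by
    intro n
    induction n with
    | zero => exact hx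
    | succ n ih =>
      rw [Fusion.itc_succ]
      have := commutator_mem_commutator (inv_mem ih) (inv_mem hz)
      rwa [commutatorElement_def, inv_inv, inv_inv] at this
  rw [mem_bot.1 (hcl.le (this _))] at h1
  exact h1 (one_mem _)

end Cfsg.Agent.S4226
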