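import Cfsg.Statements.S4227
import Cfsg.Agent.Lib.BG.PLen2

set_option autoImplicit false
open Cfsg

namespace Cfsg.Agent.S4227

/-- A finite group in which every element has order dividing `6` has `2`-length at most `1` and `3`-length at most `1`. -/
theorem result {G : Type*} [Group G] [Finite G] (h : ∀ x : G, x ^ 6 = 1) : Cfsg.PLengthLE 2 1 G ∧ Cfsg.PLengthLE 3 1 G := by
  open Pointwise commutatorElement Subgroup in
  open Subgroup Cfsg.Agent.PL in
  haveI := Fact.mk Nat.prime_two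
  haveI := Fact.mk Nat.prime_three
  have h0 : Group.IsSolvable G := Solv.isSolvable_of_primes_subset Nat.prime_two Nat.prime_three fun r hr hd => by
    haveI := Fact.mk hr
    obtain ⟨x, hx⟩ := exists_prime_orderOf_dvd_card' r hd
    exact ((hr.dvd_mul (m := 2) (n := 3)).1 (hx ▸ orderOf_dvd_of_pow_eq_one (h x))).imp
      (Nat.prime_dvd_prime_iff_eq hr Nat.prime_two).1 (Nat.prime_dvd_prime_iff_eq hr Nat.prime_three).1
  have h1 : ∀ (p q : ℕ), p * q = 6 → q.Coprime p → ∀ (x : G) k, x ^ p ^ k = 1 → x ^ p ^ 1 = 1 := fun p q a b x k hx => by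
    rw [pow_one, ← orderOf_dvd_iff_pow_eq_one]
    exact ((b.symm.pow_left k).of_dvd_left (orderOf_dvd_of_pow_eq_one hx)).dvd_of_dvd_mul_right
      (a ▸ orderOf_dvd_of_pow_eq_one (h x))
  have h2 : ∀ Q : Sylow 2 G, IsMulCommutative Q := fun Q => ⟨⟨fun a b => (Commute.of_orderOf_dvd_two (fun g => by
    obtain ⟨k, hk⟩ := Q.isPGroup' g
    exact orderOf_dvd_of_pow_eq_one (Subtype.ext (h1 2 3 rfl (by decide) _ k (congrArg Subtype.val hk)))) a b).eq⟩⟩
  refine ⟨pl_of_lcs _ (Comp.pSol_of_isSolvable inferInstance) default ?_,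
    pl_of_exp _ (Comp.pSol_of_isSolvable inferInstance) (fun n q m a b c d => ?_) (h1 3 2 rfl (by decide))⟩
  · haveI := h2 default
    letI : CommGroup (default : Sylow 2 G) := { (inferInstance : Group _) with mul_comm := this.1.1 }
    exact CommGroup.nilpotencyClass_le_one
  · have h1 : 2 ∣ 3 ^ n - 1 := (Nat.Odd.sub_odd (Odd.pow (by decide)) odd_one).two_dvd
    obtain rfl := (Nat.prime_dvd_prime_iff_eq Nat.prime_two b).1 (Nat.prime_two.dvd_of_dvd_pow (d ▸ h1))
    exact ⟨default, h2 _⟩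

end Cfsg.Agent.S4227
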