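import Cfsg.Statements.S4230
import Mathlib.RingTheory.Polynomial.Cyclotomic.Expand
import Mathlib.RingTheory.Polynomial.Cyclotomic.Eval

set_option autoImplicit false
open Cfsg

namespace Cfsg.Agent.S4230

/-- Let p be an odd prime, q a natural number not divisible by p, and e the multiplicative order of q modulo p. For a natural number f, p divides the value at q of the f-th cyclotomic polynomial if and only if f = e·p^j for some j ≥ 0. -/
theorem result (p q f : ℕ) (hp : p.Prime) (hp2 : p ≠ 2) (hpq : ¬ p ∣ q) :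
    ((p : ℤ) ∣ (Polynomial.cyclotomic f ℤ).eval (q : ℤ)) ↔ ∃ j : ℕ, f = orderOf (q : ZMod p) * p ^ j := by
  open Pointwise commutatorElement Subgroup in
  haveI := Fact.mk hp
  have hq : (q : ZMod p) ≠ 0 := by rwa [Ne, ZMod.natCast_eq_zero_iff]
  have he : orderOf (q : ZMod p) ∣ p - 1 := ZMod.orderOf_dvd_card_sub_one hq
  have he0 : 0 < orderOf (q : ZMod p) := Nat.pos_of_dvd_of_pos he (by have := hp.two_le; omega)
  have hep : ¬ p ∣ orderOf (q : ZMod p) := fun h => by
    have := Nat.le_of_dvd (by have := hp.two_le; omega) (h.trans he)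
    have := hp.two_le; omega
  have key : ∀ k m : ℕ, ¬ p ∣ m → (((p : ℤ) ∣ (Polynomial.cyclotomic (p ^ k * m) ℤ).eval (q : ℤ)) ↔ m = orderOf (q : ZMod p)) := by
    intro k m hm
    haveI : NeZero (m : ZMod p) := ⟨by rwa [Ne, ZMod.natCast_eq_zero_iff]⟩
    rw [eq_comm (a := m), ← IsPrimitiveRoot.iff_orderOf, ← Polynomial.isRoot_cyclotomic_prime_pow_mul_iff_of_charP (p := p) (k := k),
      ← ZMod.intCast_zmod_eq_zero_iff_dvd, Polynomial.IsRoot.def, ← Polynomial.map_cyclotomic_int _ (ZMod p),
      ← Int.cast_natCast (R := ZMod p) q, Polynomial.eval_intCast_map]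
    rfl
  constructor
  · intro h
    rcases eq_or_ne f 0 with rfl | hf
    · simp only [Polynomial.cyclotomic_zero, Polynomial.eval_one] at h
      exact absurd (Int.natCast_dvd_natCast.1 h) (by simpa using hp.ne_one)
    obtain ⟨k, m, hm, rfl⟩ := Nat.exists_eq_pow_mul_and_not_dvd hf p hp.ne_one
    exact ⟨k, by rw [← (key k m hm).1 h, mul_comm]⟩
  · rintro ⟨j, rfl⟩
    rw [mul_comm]
    exact (key j _ hep).2 rfl

end Cfsg.Agent.S4230
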