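import Cfsg.Statements.S4231
import Cfsg.Agent.S2119
import Cfsg.Agent.S2602
import Cfsg.Agent.S0254
import Cfsg.Agent.Lib.Perm.Aut8

set_option autoImplicit false
open Cfsg

namespace Cfsg.Agent.S4231

set_option linter.style.haveILetI false
open Subgroup

theorem card_aut (n : ℕ) (hn : 5 ≤ n) : Nat.card (MulAut (alternatingGroup (Fin n))) ∣ 2 * n.factorial := by
  by_cases h6 : n = 6
  · subst h6
    cases nonempty_fintype (GaloisField 3 2)
    have hF : Fintype.card (GaloisField 3 2) = 3 ^ 2 := by
      rw [← Nat.card_eq_fintype_card, GaloisField.card 3 2 two_ne_zero]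
    obtain ⟨e⟩ := S0254.result (F := GaloisField 3 2) hF
    obtain ⟨φ, h1, -, h2⟩ := S2602.result (p := 3) (f := 2) (by norm_num) hF (by norm_num)
    have hc : center (Matrix.ProjectiveSpecialLinearGroup (Fin 2) (GaloisField 3 2)) = ⊥ := by
      rw [← card_eq_one, Nat.card_congr (centerCongr e).toEquiv, alternatingGroup.center_eq_bot (by simp), card_bot]
    rw [← Nat.card_congr (MulAut.congr e).toEquiv, Perm.Aut.card_aut_eq hc, Nat.card_congr e.toEquiv,
      nat_card_alternatingGroup, ← φ.ker.card_mul_index, h2, index_ker, MonoidHom.range_eq_top.2 h1]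
    simp [Nat.factorial]
  · rw [← Nat.card_eq_of_bijective _ (S2119.result n (by omega) h6), Nat.card_perm]
    simp

theorem main (n : ℕ) (hn : 5 ≤ n) (G : Subgroup (MulAut (alternatingGroup (Fin n))))
    (hG : (MulAut.conj : alternatingGroup (Fin n) →* MulAut (alternatingGroup (Fin n))).range ≤ G)
    (p q : ℕ) [hp : Fact p.Prime] [hq : Fact q.Prime] (hpq : p < q) (h : ∀ g : G, orderOf g ≠ p * q) (Q : Sylow q G) :
    IsMulCommutative (Q : Subgroup G) := by
  by_contra hc
  have hp2 := hp.out.two_le
  obtain ⟨k, hk⟩ := IsPGroup.iff_card.1 Q.2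
  have h3 : 3 ≤ k := by
    by_contra! hk3
    apply hc
    rcases Nat.lt_or_ge k 2 with h1 | h1
    · haveI : IsCyclic (Q : Subgroup G) := isCyclic_of_card_dvd_prime (p := q) (by
        rw [hk]; simpa using pow_dvd_pow q (show k ≤ 1 by omega))
      infer_instance
    · exact IsPGroup.isMulCommutative_of_card_eq_prime_sq (p := q) (by rw [hk]; congr 1; omega)
  have h4 : q ^ 3 ∣ 2 * n.factorial := (pow_dvd_pow q h3).trans (hk ▸ (card_subgroup_dvd_card _).trans
    ((card_subgroup_dvd_card G).trans (card_aut n hn)))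
  have h5 : q ^ 3 ∣ n.factorial := (((Nat.coprime_primes hq.out Nat.prime_two).2 (by omega)).pow_left 3).dvd_of_dvd_mul_left h4
  have h6 : (q - 1) * 3 ≤ n := by
    have := sub_one_mul_padicValNat_factorial (p := q) n
    have h7 : 3 ≤ padicValNat q n.factorial := (padicValNat_dvd_iff_le n.factorial_ne_zero).1 h5
    exact (Nat.mul_le_mul_left _ h7).trans (by omega)
  have hqo : Odd q := hq.out.odd_of_ne_two (by omega)
  obtain ⟨g, hg1, hg2⟩ : ∃ g : Equiv.Perm (Fin n), Equiv.Perm.sign g = 1 ∧ orderOf g = p * q := by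
    by_cases h2 : p = 2
    · subst h2
      have h7 : q + 4 ≤ n := by
        by_contra! h8
        obtain rfl : q = 3 := by obtain ⟨c, hc⟩ := hqo; omega
        obtain rfl : n = 6 := by omega
        exact absurd h5 (by decide)
      obtain ⟨g, hg⟩ := (Equiv.Perm.exists_with_cycleType_iff (Fin n) (m := {2, 2, q})).2 ⟨by simp; omega, by simp; omega⟩
      refine ⟨g, ?_, ?_⟩
      · rw [Equiv.Perm.sign_of_cycleType, hg]
        exact Even.neg_one_pow (by obtain ⟨c, hc⟩ := hqo; simp; exact ⟨c + 4, by omega⟩)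
      · rw [← Equiv.Perm.lcm_cycleType, hg]
        have := ((Nat.coprime_primes Nat.prime_two hq.out).2 hpq.ne).lcm_eq_mul
        simp [lcm_eq_nat_lcm, ← Nat.lcm_assoc, this]
    · have hpo : Odd p := hp.out.odd_of_ne_two h2
      obtain ⟨g, hg⟩ := (Equiv.Perm.exists_with_cycleType_iff (Fin n) (m := {p, q})).2 ⟨by simp; omega, by simp; omega⟩
      refine ⟨g, ?_, ?_⟩
      · rw [Equiv.Perm.sign_of_cycleType, hg]
        exact Even.neg_one_pow (by simpa using (hpo.add_odd hqo).add even_two)
      · rw [← Equiv.Perm.lcm_cycleType, hg]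
        have := ((Nat.coprime_primes hp.out hq.out).2 hpq.ne).lcm_eq_mul
        simp [lcm_eq_nat_lcm, this]
  have hi : Function.Injective (MulAut.conj : alternatingGroup (Fin n) →* MulAut (alternatingGroup (Fin n))) := by
    rw [injective_iff_map_eq_one]
    intro a ha
    rw [← mem_bot, ← alternatingGroup.center_eq_bot (by simp; omega), mem_center_iff]
    exact fun x => (mul_inv_eq_iff_eq_mul.1 (DFunLike.congr_fun ha x)).symm
  refine h ⟨MulAut.conj ⟨g, hg1⟩, hG ⟨_, rfl⟩⟩ ?_
  rw [orderOf_mk, orderOf_injective _ hi, ← orderOf_coe]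
  exact hg2

/-- Let n ≥ 5 and let G be a group of automorphisms of the alternating group of degree n containing all inner automorphisms. If p ≠ q are primes and G has no element of order pq, then every Sylow p-subgroup of G is abelian or every Sylow q-subgroup of G is abelian. -/
theorem result (n : ℕ) (hn : 5 ≤ n) (G : Subgroup (MulAut (alternatingGroup (Fin n))))
    (hG : (MulAut.conj : alternatingGroup (Fin n) →* MulAut (alternatingGroup (Fin n))).range ≤ G)
    (p q : ℕ) [Fact p.Prime] [Fact q.Prime] (hpq : p ≠ q) (h : ∀ g : G, orderOf g ≠ p * q) :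
    (∀ P : Sylow p G, IsMulCommutative (P : Subgroup G)) ∨ (∀ Q : Sylow q G, IsMulCommutative (Q : Subgroup G)) := by
  rcases lt_or_gt_of_ne hpq with h1 | h1
  · exact .inr (main n hn G hG p q h1 h)
  · exact .inl (main n hn G hG q p h1 (mul_comm p q ▸ h))

end Cfsg.Agent.S4231
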