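import Cfsg.Statements.S4237
import Cfsg.Agent.Lib.Solv.SubCount
import Cfsg.Agent.S4003

set_option autoImplicit false
open Cfsg

namespace Cfsg.Agent.S4237

/-- Let G be a finite group, p a prime and a a natural number such that p^(a+1) divides the order of G. Then the number of subgroups of G of order p^a is congruent to 1 or to 1 + p modulo p². -/
theorem result {G : Type*} [Group G] [Finite G] (p a : ℕ) (hp : p.Prime) (hdvd : p ^ (a + 1) ∣ Nat.card G) :
    Nat.card {H : Subgroup G // Nat.card H = p ^ a} ≡ 1 [MOD p ^ 2] ∨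
      Nat.card {H : Subgroup G // Nat.card H = p ^ a} ≡ 1 + p [MOD p ^ 2] := by
  open Pointwise commutatorElement Subgroup Cfsg.Agent.Solv in
  open Cfsg.Agent.Transfer in
  haveI := Fact.mk hp
  rcases a with _ | a
  · left
    rw [cnt_congr (q := (· = ⊥)) fun H => by simp, cnt_eq_one]
  have h1 := card_subgroups_modEq_sq hdvd
  by_cases h2 : p = 2
  · subst h2
    unfold Nat.ModEq at *
    omega
  obtain ⟨P⟩ : Nonempty (Sylow p G) := inferInstance
  by_cases h3 : IsCyclic P
  · left
    rwa [cnt_eq_zero (p := fun K : Subgroup G => Nat.card K = p ^ (a + 1 + 1) ∧ ¬ IsCyclic K), mul_zero] at h1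
    intro K hK
    obtain ⟨g, hg⟩ := exists_cj_le_sylow P (IsPGroup.of_card hK.1)
    haveI := isCyclic_of_le hg
    exact hK.2 (isCyclic_of_surjective _ (cjEquiv g K).symm.surjective)
  · exact Or.inr (card_subgroups_modEq_of_dvd hdvd ((S4003.auxK h2 (isSylowIn_top P) h3).trans
      (dvd_of_eq (cnt_congr fun u => by simp))))

end Cfsg.Agent.S4237
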