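import Cfsg.Statements.S4238
import Cfsg.Agent.Lib.BG.Rank
import Cfsg.Agent.Lib.Solv.Schmidt

set_option autoImplicit false
open Cfsg

namespace Cfsg.Agent.S4238
section
open Pointwise commutatorElement Subgroup Cfsg.Agent.Solv
open Cfsg.Agent.Comp Cfsg.Agent.BG in
theorem aux {K : Type*} [Group K] [Finite K] {p r : ℕ} [Fact p.Prime] [Fact r.Prime] (h : r ≠ p) {V : Subgroup K} [V.Normal] {a : K}
    (h1 : IsPGroup p V) (h2 : IsPGroup r (zpowers a)) (h3 : zpowers a ⊔ V = ⊤) (h4 : ⁅V, zpowers a⁆ = V) (h5 : V ≠ ⊥)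
    (h6 : ∀ L : Subgroup K, L.Normal → L ≠ ⊥ → V ≤ L) (h7 : pPrimeCore p K = ⊥ → ∃ k : K, orderOf k = Monoid.exponent K) : False := by
  obtain ⟨n, hn⟩ := h1.exists_card_eq
  obtain ⟨m, hm⟩ := h2.exists_card_eq
  obtain ⟨k, hk⟩ := h7 (by
    rw [← Opp_top p]
    exact by_contra fun e => coprime_iff_not_dvd.1 (coprime_Opp p ⊤) ((Comp.dvd_card_of_isPGroup h1 h5).trans (card_dvd_of_le
      (h6 _ (Comp.normal_iff_top_le_normalizer.2 (le_normalizer_Opp_of_le le_rfl)) e))))
  have := h1.isNilpotent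
  have a1 : IsMulCommutative V := comm_iff_le.2 (commutator_eq_bot_iff_le.1 (by_contra fun e =>
    (commutator_lt_of_isSolvable inferInstance h5).not_ge (h6 _ inferInstance e)))
  have a2 := Solv.coprime_abelian_inf_eq_bot a1 le_normalizer_of_normal (Solv.coprime_card_of_isPGroup_ne h h2 h1)
  rw [h4, inf_eq_left.2 inf_le_left] at a2
  obtain ⟨b1, b2⟩ := Solv.isSylowIn_of_sup_eq h h2 h1 le_normalizer_of_normal h3
  replace b1 := sylIn_of_not_dvd b1.1 b1.2 b1.3
  replace b2 := sylIn_of_not_dvd b2.1 b2.2 b2.3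
  obtain ⟨v, -, v2⟩ := exists_mem_orderOf_eq (Comp.dvd_card_of_isPGroup h1 h5)
  have c1 := orderOf_pow_orderOf_div (orderOf_pos k).ne' (hk ▸ v2 ▸ Monoid.order_dvd_exponent v)
  have c2 := orderOf_pow_orderOf_div (orderOf_pos k).ne' (hk ▸ Monoid.order_dvd_exponent a)
  have c3 := isPGroup_zpowers_of_orderOf (c2.trans ((Nat.card_zpowers a).symm.trans hm))
  obtain ⟨g, -, hg⟩ := (b1.of_card_le c3 le_top (by rw [Nat.card_zpowers, Nat.card_zpowers, c2])).exists_cj_eq b1
  have c4 := zpowers_le.1 (b2.le_of_normalizer (isPGroup_zpowers_of_orderOf_eq c1) le_top le_normalizer_of_normal)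
  refine ne_one_of_orderOf_eq c1 (mem_bot.1 (conj_mem_cj (g := g).1 ?_))
  rw [cj_bot, ← a2, ← hg, ← cj_centralizer, Comp.centralizer_zpowers]
  exact ⟨Normal.conj_mem inferInstance _ c4 g, conj_mem_cj.2 (mem_centralizer_singleton_iff.2 (Commute.pow_pow_self k _ _))⟩
end

/-- Let G be a finite group and p a prime. Then G has a normal p-complement if and only if every section K = H/N of G (N a normal subgroup of a subgroup H) whose largest normal subgroup of order prime to p is trivial contains an element whose order equals the exponent of K. -/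
theorem result {G : Type*} [Group G] [Finite G] (p : ℕ) [Fact p.Prime] :
    Cfsg.HasNormalPComplement p G ↔
      ∀ (H : Subgroup G) (N : Subgroup H) [N.Normal], Cfsg.pPrimeCore p (H ⧸ N) = ⊥ →
        ∃ k : H ⧸ N, orderOf k = Monoid.exponent (H ⧸ N) := by
  open Pointwise commutatorElement Subgroup Cfsg.Agent.Solv in
  open Cfsg.Agent.Comp Cfsg.Agent.BG in
  refine ⟨fun h H N _ e => ?_, fun h => by_contra fun e => ?_⟩
  · have a := hasNPC_iff_eq.1 (Transfer.hasNPC_top.2 (Transfer.hasNPC_quotient (Transfer.hasNPC_subgroup h H) N))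
    rw [Opp_top p, e, Res_eq_bot_iff] at a
    obtain ⟨n, hn⟩ := a.exists_card_eq
    obtain ⟨k, hk⟩ := (Fact.out : p.Prime).exists_orderOf_eq_pow_factorization_exponent (G := H ⧸ N)
    obtain ⟨m, -, hm⟩ := (Nat.dvd_prime_pow Fact.out).1 (hn ▸ card_top (G := H ⧸ N) ▸ Group.exponent_dvd_nat_card (G := H ⧸ N))
    exact ⟨k, by rw [hk, hm, Nat.Prime.factorization_pow Fact.out, Finsupp.single_eq_same]⟩
  obtain ⟨r, hr, h1, Q, g, h2, h3, h4, h5⟩ := Solv.exists_pair_of_not_hasNPC e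
  have := Fact.mk hr
  have a1 := Solv.coprime_commutator_commutator (zpowers_le.2 h4) (Solv.coprime_card_of_isPGroup_ne h1 h3 h2)
    (.inl (Solv.isSolvable_zpowers g))
  have a2 : ⁅Q, zpowers g⁆ ≠ ⊥ := fun e => h5 (zpowers_le.1 (le_Ct_comm.1 (commutator_eq_bot_iff_le.1 e)))
  have a3 := h2.to_le (Solv.commutator_le_left_of_le_normalizer (zpowers_le.2 h4))
  have a4 : zpowers g ≤ Nm(⁅Q, zpowers g⁆) := Comp.le_normalizer_commutator (zpowers_le.2 h4) le_normalizer
  generalize ⁅Q, zpowers g⁆ = V at a1 a2 a3 a4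
  obtain ⟨H, hH⟩ : ∃ H, H = zpowers g ⊔ V := ⟨_, rfl⟩
  have b1 : V ≤ H := hH ▸ le_sup_right
  have b2 : g ∈ H := hH ▸ mem_sup_left (mem_zpowers g)
  have := normal_subgroupOf_of_le_normalizer (hH ▸ sup_le a4 le_normalizer : H ≤ Nm(V))
  obtain ⟨N, -, ⟨n1, n2⟩, n3⟩ := exists_maximal_subgroup (P := fun N : Subgroup H => N.Normal ∧ ¬ V.subgroupOf H ≤ N) (A := ⊥)
    ⟨inferInstance, fun e => a2 (by rw [← map_subgroupOf_eq_of_le b1, le_bot_iff.1 e, Subgroup.map_bot])⟩
  have f := QuotientGroup.mk'_surjective N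
  have := Normal.map this _ f
  have c : (zpowers (⟨g, b2⟩ : H)).map H.subtype = zpowers g := MonoidHom.map_zpowers _ _
  refine aux h1 (V := (V.subgroupOf H).map (QuotientGroup.mk' N)) (a := QuotientGroup.mk' N ⟨g, b2⟩) (a3.comap_subtype.map _)
    ?_ ?_ ?_ (fun e => n2 (((Subgroup.map_eq_bot_iff _).1 e).trans (QuotientGroup.ker_mk' N).le)) (fun L l1 l2 => ?_) (h H N)
  · rw [← MonoidHom.map_zpowers]; exact (isPGroup_map_subtype_iff.1 (c ▸ h3)).map _
  · rw [← MonoidHom.map_zpowers, ← Subgroup.map_sup, ← map_top_of_surjective _ f]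
    congr 1
    refine map_injective H.subtype_injective ?_
    rw [Subgroup.map_sup, c, map_subgroupOf_eq_of_le b1, map_subtype_top, hH]
  · rw [← MonoidHom.map_zpowers, ← map_commutator]
    congr 1
    refine map_injective H.subtype_injective ?_
    rw [map_commutator, c, map_subgroupOf_eq_of_le b1, a1]
  · refine map_le_iff_le_comap.2 (by_contra fun e => l2 ?_)
    rw [← map_comap_eq_self_of_surjective f L, n3 _ ⟨l1.comap _, e⟩ ((QuotientGroup.ker_mk' N).ge.trans (ker_le_comap _ _)),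
      Subgroup.map_eq_bot_iff, QuotientGroup.ker_mk']

end Cfsg.Agent.S4238
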