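import Cfsg.Statements.S4242
import Cfsg.Agent.Lib.BG.Rank
import Cfsg.Agent.Lib.Transfer.Alperin
import Cfsg.Agent.Lib.Solv.Schmidt

set_option autoImplicit false
open Cfsg

namespace Cfsg.Agent.S4242

/-- Let G be a finite group and p a prime dividing its order. Every maximal subgroup of G of order divisible by p is nilpotent if and only if G is nilpotent, or G is a minimal non-nilpotent group, or G is the internal direct product of a normal subgroup of order p and a normal minimal non-nilpotent subgroup of order prime to p. -/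
theorem result {G : Type*} [Group G] [Finite G] (p : ℕ) (hp : p.Prime) (hpG : p ∣ Nat.card G) :
    (∀ M : Subgroup G, IsCoatom M → p ∣ Nat.card M → Group.IsNilpotent M) ↔
      (Group.IsNilpotent G ∨ Cfsg.IsMinimalNonNilpotent G ∨
        ∃ Z K : Subgroup G, Z.Normal ∧ K.Normal ∧ Z ⊓ K = ⊥ ∧ Z ⊔ K = ⊤ ∧ Nat.card Z = p ∧
          Cfsg.IsMinimalNonNilpotent K ∧ ¬ p ∣ Nat.card K) := by
  open Pointwise commutatorElement Subgroup Cfsg.Agent.Solv in
  open Cfsg.Agent.Comp Cfsg.Agent.BG in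
  have := Fact.mk hp
  refine ⟨fun h => ?_, ?_⟩
  swap
  · rintro (h | h | ⟨Z, K, z1, k1, h1, h2, h3, h4, h5⟩) M m1 m2
    · infer_instance
    · exact h.2 M m1.1
    have a : SylIn p Z ⊤ := sylIn_of_not_dvd le_top (IsPGroup.of_card (h3.trans (pow_one p).symm)) (by
      have := Solv.card_sup_of_disjoint (le_normalizer_of_normal (K := Z) (H := K)) h1
      rw [h2, ← Solv.card_mul_relIndex (le_top : Z ≤ ⊤)] at this
      rwa [Nat.eq_of_mul_eq_mul_left Nat.card_pos this])
    obtain ⟨x, x1, x2⟩ := exists_mem_orderOf_eq m2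
    have b : Z ≤ M := by
      have b := a.le_of_normalizer (isPGroup_zpowers_of_orderOf_eq x2) le_top le_normalizer_of_normal
      rw [← eq_of_le_of_card_ge b (by rw [h3, Nat.card_zpowers, x2])]; exact zpowers_le.2 x1
    have c : Z ⊔ K ⊓ M = M := by rw [← Solv.dedekind b le_normalizer_of_normal, h2, top_inf_eq]
    rw [← c]
    refine Solv.isNilpotent_sup a.isP.isNilpotent (Solv.isNilpotent_of_subgroupOf inf_le_left (h4.2 _ fun e => m1.1 ?_))
      (Comp.le_normalizer_inf le_normalizer_of_normal (b.trans le_normalizer)) le_normalizer_of_normal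
    exact top_le_iff.1 (h2.ge.trans (sup_le b ((subgroupOf_eq_top.1 e).trans inf_le_right)))
  have h' : ∀ H : Subgroup G, H ≠ ⊤ → p ∣ Nat.card H → Group.IsNilpotent H := fun H a b => by
    obtain ⟨M, m1, m2⟩ := (eq_top_or_exists_le_coatom H).resolve_left a
    exact Comp.isNilpotent_of_le m2 (h M m1 (b.trans (card_dvd_of_le m2)))
  refine or_iff_not_imp_left.2 fun h1 => or_iff_not_imp_left.2 fun h2 => ?_
  obtain ⟨M, m1, m2⟩ : ∃ M : Subgroup G, IsCoatom M ∧ ¬ Group.IsNilpotent M := by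
    by_contra e
    refine h2 ⟨h1, fun H a => ?_⟩
    obtain ⟨M, m1, m2⟩ := (eq_top_or_exists_le_coatom H).resolve_left a
    exact Comp.isNilpotent_of_le m2 (by_contra fun f => e ⟨M, m1, f⟩)
  have m3 := mt (h M m1) m2
  have key : ∀ P K : Subgroup G, IsPGroup p P → P ≠ ⊥ → ¬ p ∣ Nat.card K → ¬ Group.IsNilpotent K → P ⊔ K = ⊤ →
      (∀ q : ℕ, [Fact q.Prime] → ∃ Q, SylIn q Q K ∧ (Q ≤ Nm(P) ∨ P ≤ Nm(Q))) → K ≤ Ct(P) := fun P K a b c d e f => by
    refine inf_eq_left.1 (eq_of_forall_sylIn inf_le_left fun q hq hd => ?_)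
    have := Fact.mk hq
    obtain ⟨Q, q1, q2⟩ := f q
    have n : q ≠ p := fun e => c (e ▸ hd)
    refine ⟨Q, q1, le_inf q1.le (Solv.le_centralizer_of_nilpotent_of_coprime (h' (Q ⊔ P) (fun g => d ?_)
      ((Comp.dvd_card_of_isPGroup a b).trans (card_dvd_of_le le_sup_right))) le_sup_left le_sup_right
      (Solv.coprime_card_of_isPGroup_ne n q1.isP a))⟩
    obtain ⟨k, hk⟩ := a.exists_card_eq
    have g' : (Q ⊔ P) ⊓ K = Q ⊔ (P ⊓ K) := q2.elim (Solv.dedekind' q1.le) (Solv.dedekind q1.le)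
    rw [g, top_inf_eq, inf_eq_bot_of_coprime (hk ▸ (coprime_iff_not_dvd.2 c).symm.pow_left k), sup_bot_eq] at g'
    rw [g']; exact q1.isP.isNilpotent
  have h3 : Op p (⊤ : Subgroup G) ≠ ⊥ := fun e => by
    obtain ⟨P⟩ : Nonempty (Sylow p G) := inferInstance
    have a := Transfer.hasNPC_top.2 (Transfer.hasNPC_of_local P fun B b1 b2 => by
      have := h' Nm(B) (fun f => b2 (le_bot_iff.1 (e ▸ le_Op le_top f.ge (P.isPGroup'.to_le b1))))
        ((Comp.dvd_card_of_isPGroup (P.isPGroup'.to_le b1) b2).trans (card_dvd_of_le le_normalizer))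
      exact Transfer.hasNPC_of_nilpotent)
    have b := (hasNPC_iff_sup (sylIn_top P)).1 a
    have c : (P : Subgroup G) ≠ ⊥ := fun f => (sylIn_top P).eq_bot_iff.1 f (by rwa [card_top])
    have d := key P (Opp p ⊤) P.isPGroup' c (coprime_iff_not_dvd.1 (coprime_Opp p ⊤))
      (mt (Comp.isNilpotent_of_le (le_Opp_of_hasNPC a le_top (coprime_iff_not_dvd.2 m3))) m2) ((sup_comm _ _).trans b) fun q _ => by
        obtain ⟨k, hk⟩ := P.isPGroup'.exists_card_eq
        have := P.isPGroup'.isNilpotent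
        obtain ⟨Q, q1, q2⟩ := exists_invariant_sylIn q (le_normalizer_Opp_of_le (le_top : (P : Subgroup G) ≤ ⊤))
          (hk ▸ (coprime_Opp p ⊤).symm.pow_left k) (.inl inferInstance)
        exact ⟨Q, q1, .inr q2⟩
    exact c (le_bot_iff.1 (e ▸ le_Op le_top (b.ge.trans (sup_le (d.trans (centralizer_le_normalizer _)) le_normalizer)) P.isPGroup'))
  have h4 : (⊤ : Subgroup G) ≤ Nm(Op p ⊤) := le_normalizer_Op_of_le le_rfl
  have h5 := isPGroup_Op p (⊤ : Subgroup G)
  generalize Op p (⊤ : Subgroup G) = P at h3 h4 h5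
  have h6 : ∀ Z : Subgroup G, Z ≤ P → Z ≠ ⊥ → Z ⊔ M = ⊤ := fun Z a b => m1.2 _ (right_lt_sup.2 fun e =>
    m3 ((Comp.dvd_card_of_isPGroup (h5.to_le a) b).trans (card_dvd_of_le e)))
  have h7 := key P M h5 h3 m3 m2 (h6 P le_rfl h3) fun q _ => (exists_sylIn q M).imp fun Q a => ⟨a, .inl (le_top.trans h4)⟩
  obtain ⟨x, x1, x2⟩ := exists_mem_orderOf_eq (Comp.dvd_card_of_isPGroup h5 h3)
  have h8 := h6 _ (zpowers_le.2 x1) (mt zpowers_eq_bot.1 (ne_one_of_orderOf_eq x2))
  have h9 : M ≤ Ct(zpowers x) := h7.trans (Comp.centralizer_mono (zpowers_le.2 x1))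
  have h10 : Nat.card (zpowers x) = p := (Nat.card_zpowers x).trans x2
  have h11 : ∀ K : Subgroup G, K ≤ M → zpowers x ⊓ K = ⊥ := fun K a =>
    inf_eq_bot_of_coprime (h10 ▸ (coprime_iff_not_dvd.2 fun e => m3 (e.trans (card_dvd_of_le a))).symm)
  refine ⟨zpowers x, M, Comp.normal_iff_top_le_normalizer.2 (h8.ge.trans (sup_le le_normalizer (h9.trans (centralizer_le_normalizer _)))),
    Comp.normal_iff_top_le_normalizer.2 (h8.ge.trans (sup_le ((le_Ct_comm.1 h9).trans (centralizer_le_normalizer _)) le_normalizer)),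
    h11 M le_rfl, h8, h10, ⟨m2, fun H e => ?_⟩, m3⟩
  refine Group.nilpotent_of_mulEquiv (_h := Comp.isNilpotent_of_le le_sup_left (h' (H.map M.subtype ⊔ zpowers x) (fun f => e ?_)
    (h10 ▸ card_dvd_of_le le_sup_right))) (equivMapOfInjective H _ M.subtype_injective).symm
  have := Solv.dedekind' (map_subtype_le H) (((map_subtype_le H).trans h9).trans (centralizer_le_normalizer _))
  rw [f, top_inf_eq, h11 M le_rfl, sup_bot_eq] at this
  exact map_injective M.subtype_injective (this.symm.trans (map_subtype_top M).symm)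

end Cfsg.Agent.S4242
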