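import Cfsg.Statements.S4244
import Cfsg.Agent.Lib.Comp.Subn
import Cfsg.Agent.Lib.Solv.Hall

set_option autoImplicit false
open Cfsg

namespace Cfsg.Agent.S4244
section
open Pointwise commutatorElement Subgroup Cfsg.Agent.Solv
theorem aux {G : Type*} [Group G] [Finite G] {H M : Subgroup G} (h : Comp.SubnIn H M) (K : Subgroup G) :
    K.relIndex H ∣ K.relIndex M := by
  induction h with
  | refl M => exact dvd_rfl
  | step H L M h1 h2 _ ih =>
    refine dvd_trans ?_ ih
    haveI := (normal_subgroupOf_iff_le_normalizer h1).2 h2
    have := relIndex_dvd_index_of_normal' (K.subgroupOf L) (H.subgroupOf L)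
    rwa [relIndex_subgroupOf h1] at this
end

/-- Let H be a subnormal subgroup of a finite group G. Then for every subgroup K of G the index of H ∩ K in H divides the index of K in G. -/
theorem result {G : Type*} [Group G] [Finite G] (H : Subgroup G) (hH : H.IsSubnormal) (K : Subgroup G) :
    (H ⊓ K).relIndex H ∣ K.index := by
  open Pointwise commutatorElement Subgroup Cfsg.Agent.Solv in
  rw [inf_relIndex_left, ← relIndex_top_right]
  exact aux (Comp.SubnIn.of_isSubnormal hH) K

end Cfsg.Agent.S4244
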