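import Cfsg.Statements.S4249
import Cfsg.Agent.S3946

set_option autoImplicit false
open Cfsg

namespace Cfsg.Agent.S4249

/-- Let G be a finite group and p a prime such that G is not a p-group, and suppose the Hughes subgroup H_p(G), generated by all elements g with g^p ≠ 1, is a proper subgroup. Then H_p(G) is nilpotent and has index p in G. -/
theorem result {G : Type*} [Group G] [Finite G] (p : ℕ) (hp : p.Prime) (hG : ¬ IsPGroup p G)
    (hH : Subgroup.closure {g : G | g ^ p ≠ 1} ≠ ⊤) :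
    Group.IsNilpotent (Subgroup.closure {g : G | g ^ p ≠ 1}) ∧ (Subgroup.closure {g : G | g ^ p ≠ 1}).index = p := by
  open Pointwise commutatorElement Subgroup in
  open Cfsg.Agent.Comp Cfsg.Agent.BG in
  have := Fact.mk hp
  have h0 : ∀ g ∉ closure {g : G | g ^ p ≠ 1}, g ^ p = 1 := fun g hg => by_contra fun e => hg (subset_closure e)
  have hn : (closure {g : G | g ^ p ≠ 1}).Normal := normal_of_cj_le fun g => by
    rw [MonoidHom.map_closure]
    refine closure_mono ?_
    rintro _ ⟨x, hx, rfl⟩ e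
    rw [← map_pow] at e
    exact hx ((MulAut.conj g).injective (e.trans (map_one _).symm))
  generalize closure {g : G | g ^ p ≠ 1} = H at h0 hn hH
  obtain ⟨x, -, hx⟩ := SetLike.exists_of_lt hH.lt_top
  have h1 := S3946.kegel hp _ H x rfl (le_normalizer_of_normal (mem_top _)) fun h hh => h0 _ (mt (mul_mem_cancel_left hh).1 hx)
  refine ⟨h1, by_contra fun hi => ?_⟩
  have f := QuotientGroup.mk'_surjective H
  have q0 : ∀ g : G ⧸ H, g ^ p = 1 := fun g => by
    obtain ⟨g, rfl⟩ := f g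
    by_cases e : g ∈ H
    · rw [show QuotientGroup.mk' H g = 1 from (QuotientGroup.eq_one_iff g).2 e, one_pow]
    · rw [← map_pow, h0 g e, map_one]
  have q1 : IsPGroup p (G ⧸ H) := fun g => ⟨1, by rw [pow_one, q0]⟩
  have : Nontrivial (G ⧸ H) := QuotientGroup.nontrivial_iff.2 hH
  obtain ⟨⟨z, z1⟩, z2⟩ := @exists_ne _ q1.center_nontrivial 1
  have z3 : z ≠ 1 := fun e => z2 (Subtype.ext e)
  have z4 : (zpowers z).Normal := ⟨fun n hn g => by rwa [zpowers_le.2 z1 hn |>.comm g |>.symm, mul_inv_cancel_right]⟩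
  obtain ⟨y, -, hy⟩ := SetLike.exists_of_lt (Ne.lt_top (a := (zpowers z).comap (QuotientGroup.mk' H)) fun e => hi (by
    rw [index, ← orderOf_eq_prime (q0 z) z3, ← Nat.card_zpowers, ← map_comap_eq_self_of_surjective f (zpowers z), e,
      map_top_of_surjective _ f, card_top]))
  obtain ⟨R, r1⟩ := exists_sylIn p ((zpowers z).comap (QuotientGroup.mk' H))
  obtain ⟨l, l1, l2⟩ := S3946.frat r1 (le_normalizer_of_normal (mem_top y))
  have hl : H ≤ (zpowers z).comap (QuotientGroup.mk' H) := (QuotientGroup.ker_mk' H).ge.trans (ker_le_comap _ _)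
  have r2 := r1.map (QuotientGroup.mk' H)
  rw [map_comap_eq_self_of_surjective f] at r2
  obtain ⟨r, r3, r4⟩ := SetLike.not_le_iff_exists.1 fun e : R ≤ H => z3 (zpowers_eq_bot.1
    ((r2.max _ (q1.to_subgroup _) r2.le le_rfl).trans ((Subgroup.map_eq_bot_iff _).2 (e.trans (QuotientGroup.ker_mk' H).ge))))
  have k0 : (⊤ : Subgroup G) ≤ Nm(Opp p H ⊓ Ct(Opp p H)) := le_normalizer_center (le_normalizer_Opp le_normalizer_of_normal)
  have k1 := (coprime_Opp p H).coprime_dvd_left (card_dvd_of_le (inf_le_left : Opp p H ⊓ Ct(Opp p H) ≤ _))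
  obtain ⟨m, r5⟩ := r1.isP.exists_card_eq
  have k2 := S3946.key hp (comm_iff_le.2 (Comp.center_le_centralizer _)) (le_top.trans k0) (k0 (mem_top _)) l2 (fun v hv s hs => h0 _ fun e =>
    hy ((mul_mem_cancel_left l1).1 ((mul_mem_cancel_left (r1.le hs)).1 ((mul_mem_cancel_left (hl (Opp_le p H hv.1))).1 (hl e)))))
    (r5 ▸ k1.symm.pow_left m)
  refine inf_centralizer_ne_bot_of_isNilpotent (Comp.isNilpotent_of_le (Opp_le p H) h1) le_rfl le_normalizer (fun e => hG ?_)
    ((eq_bot_iff_forall _).2 fun v hv => ?_)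
  · have := Op_sup_Opp_of_isNilpotent (p := p) h1
    rw [e, sup_bot_eq] at this
    intro g
    by_cases e : g ∈ H
    · exact Comp.IsPGroup.exists_pow_eq_one (this ▸ isPGroup_Op p H) e
    · exact ⟨1, by rw [pow_one, h0 g e]⟩
  · have a := h0 (v * r) (mt (mul_mem_cancel_left (Opp_le p H hv.1)).1 r4)
    rw [Commute.mul_pow (k2 hv r r3).symm, h0 r r4, mul_one] at a
    exact orderOf_eq_one_iff.1 (Nat.eq_one_of_dvd_coprimes k1 (Solv.orderOf_dvd_card_of_mem hv) (orderOf_dvd_of_pow_eq_one a))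

end Cfsg.Agent.S4249
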