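import Cfsg.Statements.S4250
import Cfsg.Agent.Lib.Solv.Schmidt
import Cfsg.Agent.Lib.Transfer.Alperin

set_option autoImplicit false
open Cfsg

namespace Cfsg.Agent.S4250

/-- Let P be a Sylow p-subgroup of a finite group G. Call an intersection H = P ∩ Q with a Sylow p-subgroup Q tame when N_P(H) and N_Q(H) are Sylow p-subgroups of N_G(H). Then P ∩ G′ is generated by [P, N_G(P)] together with the commutator subgroups [P ∩ Q, ⟨x⟩] for all tame intersections P ∩ Q and all p-elements x of N_G(P ∩ Q). -/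
theorem result {G : Type*} [Group G] [Finite G] (p : ℕ) [Fact p.Prime] (P : Sylow p G) :
    (P : Subgroup G) ⊓ commutator G =
      ⁅(P : Subgroup G), Subgroup.normalizer ((P : Subgroup G) : Set G)⁆ ⊔
        ⨆ (Q : Sylow p G) (_ : (¬ p ∣ ((P : Subgroup G) ⊓ Subgroup.normalizer (((P : Subgroup G) ⊓ (Q : Subgroup G) : Subgroup G) : Set G)).relIndex (Subgroup.normalizer (((P : Subgroup G) ⊓ (Q : Subgroup G) : Subgroup G) : Set G)) ∧ ¬ p ∣ ((Q : Subgroup G) ⊓ Subgroup.normalizer (((P : Subgroup G) ⊓ (Q : Subgroup G) : Subgroup G) : Set G)).relIndex (Subgroup.normalizer (((P : Subgroup G) ⊓ (Q : Subgroup G) : Subgroup G) : Set G))))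
          (x : G) (_ : x ∈ Subgroup.normalizer (((P : Subgroup G) ⊓ (Q : Subgroup G) : Subgroup G) : Set G) ∧ ∃ k : ℕ, orderOf x = p ^ k),
          ⁅(P : Subgroup G) ⊓ (Q : Subgroup G), Subgroup.zpowers x⁆ := by
  open Pointwise commutatorElement Subgroup Cfsg.Agent.Solv in
  open Cfsg.Agent.Transfer in
  refine le_antisymm ?_ (le_inf (sup_le (commutator_le_left_of_le_normalizer le_rfl) (iSup_le fun Q => iSup_le fun _ =>
    iSup_le fun x => iSup_le fun hx => (commutator_le_left_of_le_normalizer (zpowers_le.2 hx.1)).trans inf_le_left))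
    (sup_le (commutator_mono le_top le_top) (iSup_le fun Q => iSup_le fun _ => iSup_le fun x => iSup_le fun _ =>
      commutator_mono le_top le_top)))
  rw [inf_comm, commutator_inf_eq_focalSubgroup]
  generalize hT : (_ ⊔ _ : Subgroup G) = T
  have h1 : ⁅(P : Subgroup G), normalizer ((P : Subgroup G) : Set G)⁆ ≤ T := hT ▸ le_sup_left
  have h1' : ∀ g ∈ normalizer ((P : Subgroup G) : Set G), ∀ a ∈ (P : Subgroup G), g * a * g⁻¹ * a⁻¹ ∈ T := fun g hg a ha =>
    ((commutator_comm _ _).le.trans h1) (commutator_mem_commutator hg ha)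
  have h2 : ∀ (Q : Sylow p G) (B : Subgroup G), B = (P : Subgroup G) ⊓ Q →
      IsSyl p ((P : Subgroup G) ⊓ normalizer (B : Set G)) (normalizer (B : Set G)) →
      IsSyl p ((Q : Subgroup G) ⊓ normalizer (B : Set G)) (normalizer (B : Set G)) →
      ∀ x ∈ normalizer (B : Set G), IsPGroup p (zpowers x) → ⁅B, zpowers x⁆ ≤ T := by
    rintro Q _ rfl a1 a2 x a3 a4
    rw [← hT]
    exact le_sup_of_le_right (le_iSup_of_le Q (le_iSup_of_le ⟨a1.not_dvd, a2.not_dvd⟩ (le_iSup_of_le x
      (le_iSup_of_le ⟨a3, by simpa using a4.exists_card_eq⟩ le_rfl))))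
  have h3 : ∀ a g h : G, g * a * g⁻¹ * a⁻¹ ∈ T → h * (g * a * g⁻¹) * h⁻¹ * (g * a * g⁻¹)⁻¹ ∈ T →
      h * g * a * (h * g)⁻¹ * a⁻¹ ∈ T := fun a g h a1 a2 => by
    convert mul_mem a2 a1 using 1; group
  have key : ∀ n (A : Subgroup G) g, A ≤ P → cj g A ≤ P → Nat.card G ≤ Nat.card A + n → ∀ a ∈ A, g * a * g⁻¹ * a⁻¹ ∈ T := by
    intro n
    induction n with
    | zero =>
      intro A g a1 _ a2 a ha
      rw [Solv.eq_of_le_of_card_le (le_top : A ≤ ⊤) (by simpa using a2)] at a1
      exact h1' g (le_normalizer (a1 (mem_top g))) a (a1 (mem_top a))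
    | succ n ih => ?_
    refine alperin_tame P (fun A g => Nat.card G ≤ Nat.card A + (n + 1) → ∀ a ∈ A, g * a * g⁻¹ * a⁻¹ ∈ T) ?_ ?_ ?_ ?_
    · exact fun A B g a1 _ _ a2 a3 a ha => a2 (a3.trans (Nat.add_le_add_right (card_le_of_le a1) _)) a (a1 ha)
    · exact fun A g k _ _ _ a1 a2 a3 a ha => h3 a g k (a1 a3 a ha) (a2 (by rwa [card_cj]) _ (conj_mem_cj_iff.2 ha))
    · rintro A g - - a1 a2 _ ⟨a, ha, rfl⟩
      convert inv_mem (a1 (by rwa [card_cj] at a2) a ha) using 1
      simp only [MulEquiv.coe_toMonoidHom, MulAut.conj_apply]; group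
    intro Q B a1 a2 a3 k hk a4 a ha
    have hBP : B ≤ P := a1 ▸ inf_le_left
    rcases hBP.eq_or_lt with a5 | a5
    · exact h1' k (a5 ▸ hk) a (hBP ha)
    set M := closure {x | x ∈ normalizer (B : Set G) ∧ IsPGroup p (zpowers x)}
    have hM : M ≤ normalizer (B : Set G) := (closure_le _).2 fun x hx => hx.1
    have a6 : IsSyl p ((P : Subgroup G) ⊓ normalizer (B : Set G)) M :=
      a2.mono (fun x hx => subset_closure ⟨hx.2, isPGroup_zpowers_of_mem P.2 hx.1⟩) hM
    obtain ⟨m, hm, c, hc, rfl⟩ := a6.frattini (g := k) (Solv.mem_normalizer_of_conj_mem fun x hx => by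
      refine closure_induction (fun x hx => subset_closure ⟨Solv.conj_mem_of_mem_normalizer (le_normalizer hk) hx.1,
        cj_zpowers k x ▸ IsPGroup.cj hx.2 k⟩) (by simp) (fun x y _ _ b1 b2 => ?_) (fun x _ b1 => ?_) hx
      · convert mul_mem b1 b2 using 1; group
      · convert inv_mem b1 using 1; group)
    have a7 : ∀ b ∈ B, m * b * m⁻¹ * b⁻¹ ∈ T := by
      refine closure_induction (fun x hx b hb => ?_) (by simp) (fun x y _ hy b1 b2 b hb => h3 b y x (b2 b hb)
        (b1 _ (Solv.conj_mem_of_mem_normalizer (hM hy) hb))) (fun x hx b1 b hb => ?_) hm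
      · exact ((commutator_comm _ _).le.trans (h2 Q B a1 a2 a3 x hx.1 hx.2)) (commutator_mem_commutator (mem_zpowers x) hb)
      · convert inv_mem (b1 _ (Solv.conj_mem_of_mem_normalizer (inv_mem (hM hx)) hb)) using 1; group
    have a8 := Transfer.lt_inf_normalizer P.2 a5
    exact h3 a c m (ih _ c inf_le_left ((cj_eq_of_mem_normalizer hc).le.trans inf_le_left)
      (by have := Solv.card_lt_of_lt a8; omega) a (a8.le ha))
      (a7 _ (Solv.conj_mem_of_mem_normalizer ((mul_mem_cancel_left (hM hm)).1 hk) ha))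
  refine focalSubgroup_le_of fun x hx k hk => key (Nat.card G) (zpowers x) k (zpowers_le.2 hx)
    (by rw [cj_zpowers]; exact zpowers_le.2 hk) (by omega) x (mem_zpowers x)

end Cfsg.Agent.S4250
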