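import Cfsg.Statements.S4251
import Cfsg.Agent.Lib.Solv.Schmidt
import Cfsg.Agent.Lib.Transfer.Alperin

set_option autoImplicit false
open Cfsg

namespace Cfsg.Agent.S4251

/-- Let P be a Sylow p-subgroup of a finite group G. Call an intersection H = P ∩ Q with a Sylow p-subgroup Q tame when N_P(H) and N_Q(H) are Sylow p-subgroups of N_G(H). If N_G(H)/C_G(H) is a p-group for every nontrivial tame intersection H = P ∩ Q, then G has a normal p-complement. -/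
theorem result {G : Type*} [Group G] [Finite G] (p : ℕ) [Fact p.Prime] (P : Sylow p G)
    (h : ∀ Q : Sylow p G, (P : Subgroup G) ⊓ (Q : Subgroup G) ≠ ⊥ → (¬ p ∣ ((P : Subgroup G) ⊓ Subgroup.normalizer (((P : Subgroup G) ⊓ (Q : Subgroup G) : Subgroup G) : Set G)).relIndex (Subgroup.normalizer (((P : Subgroup G) ⊓ (Q : Subgroup G) : Subgroup G) : Set G)) ∧ ¬ p ∣ ((Q : Subgroup G) ⊓ Subgroup.normalizer (((P : Subgroup G) ⊓ (Q : Subgroup G) : Subgroup G) : Set G)).relIndex (Subgroup.normalizer (((P : Subgroup G) ⊓ (Q : Subgroup G) : Subgroup G) : Set G))) →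
      IsPGroup p (Subgroup.normalizer (((P : Subgroup G) ⊓ (Q : Subgroup G) : Subgroup G) : Set G) ⧸
        (Subgroup.centralizer (((P : Subgroup G) ⊓ (Q : Subgroup G) : Subgroup G) : Set G)).subgroupOf
          (Subgroup.normalizer (((P : Subgroup G) ⊓ (Q : Subgroup G) : Subgroup G) : Set G)))) :
    Cfsg.HasNormalPComplement p G := by
  open Pointwise commutatorElement Subgroup Cfsg.Agent.Solv in
  open Cfsg.Agent.Transfer in
  refine hasNPC_of_controls_self P fun x hx g hg => ?_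
  refine (alperin_tame P (fun A g => ∃ v ∈ (P : Subgroup G), ∀ a ∈ A, v * a * v⁻¹ = g * a * g⁻¹) ?_ ?_ ?_ ?_ (zpowers x) g
    (zpowers_le.2 hx) (by rw [cj_zpowers]; exact zpowers_le.2 hg)).imp fun v hv => ⟨hv.1, hv.2 x (mem_zpowers x)⟩
  · exact fun A B g h1 _ _ ⟨v, hv, h2⟩ => ⟨v, hv, fun a ha => h2 a (h1 ha)⟩
  · rintro A g k - - - ⟨v, hv, h1⟩ ⟨w, hw, h2⟩
    refine ⟨w * v, mul_mem hw hv, fun a ha => ?_⟩
    have := h2 _ (conj_mem_cj_iff.2 ha)
    rw [← h1 a ha] at this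
    calc _ = w * (v * a * v⁻¹) * w⁻¹ := by group
      _ = _ := by rw [this, h1 a ha]; group
  · rintro A g - - ⟨v, hv, h1⟩
    refine ⟨v⁻¹, inv_mem hv, ?_⟩
    rintro _ ⟨a, ha, rfl⟩
    show v⁻¹ * (g * a * g⁻¹) * v⁻¹⁻¹ = g⁻¹ * (g * a * g⁻¹) * g⁻¹⁻¹
    conv_lhs => rw [← h1 a ha]
    group
  rintro Q B rfl h1 h2 k hk
  by_cases h3 : (P : Subgroup G) ⊓ Q = ⊥
  · exact ⟨1, one_mem _, fun a ha => by rw [h3, mem_bot] at ha; simp [ha]⟩
  obtain ⟨s, hs, a, ha, rfl⟩ := h1.exists_mul_res hk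
  obtain ⟨n, hn⟩ := (h Q h3 ⟨h1.not_dvd, h2.not_dvd⟩).exists_card_eq
  have := res_le_of_relIndex (Solv.normalizer_le_normalizer_centralizer _) hn ha
  refine ⟨s, hs.1, fun b hb => ?_⟩
  rw [mul_assoc s a b, ← mem_centralizer_iff.1 this b hb]
  group

end Cfsg.Agent.S4251
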