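import Cfsg.Statements.S4257
import Cfsg.Agent.Lib.BG.Cls5

set_option autoImplicit false
open Cfsg

namespace Cfsg.Agent.S4257
section
open Pointwise commutatorElement Subgroup
open Cfsg.Agent.Comp Cfsg.Agent.BG Cfsg.Agent.Cls5 Subgroup commutatorElement in
theorem key {G : Type*} [Group G] [Finite G] {p q r s : ℕ} (hp : p.Prime) (hq : q.Prime) (hr : r.Prime) (hs : s.Prime) {x y z : G}
    (hx : p ∣ C1(x).index) (hy : q ∣ C1(y).index) (E : ℕ → ℕ → Prop) (hE : ∀ a b, E a b ↔ ∃ g : G, a ∣ C1(g).index ∧ b ∣ C1(g).index)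
    (K : ∀ r s : ℕ, r.Prime → s.Prime → E p r → E q s → ¬ E r s) (h0 : ∀ r : ℕ, r.Prime → E p r → HasNormalPComplement r G)
    (r1 : E p r) (s1 : ¬ E p s) (r2 : r ∣ C1(z).index) (s2 : s ∣ C1(z).index) : False := by
  obtain ⟨N, T, _, n1, t1, t2⟩ := hall_of_npc (σ := {r | E p r}) h0
  have := Fact.mk hp
  have p1 : E p p := (hE _ _).2 ⟨x, hx, hx⟩
  have q1 : ¬ E p q := fun e => K q q hq hq e ((hE _ _).2 ⟨y, hy, hy⟩) ((hE _ _).2 ⟨y, hy, hy⟩)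
  have p2 := t1.sylIn p1 (sylIn_Op_of_isNilpotent t2)
  have hs' := (sup_comm _ _).trans (t1.sup_eq n1)
  have k1 : ∀ (p : ℕ) [Fact p.Prime] (P : Subgroup G) (x : G), SylIn p P ⊤ → p ∣ C1(x).index → Ct(P) ≠ ⊤ := fun p _ P x a b e =>
    a.not_dvd_relIndex_of_le (le_centralizer_singleton_iff.2 (e.ge (mem_top x))) le_top (by rwa [relIndex_top_right])
  obtain ⟨-, b⟩ := lemU hs' ((inf_comm _ _).trans (t1.inf_eq_bot n1)) (Op_le p T) (le_normalizer_Op le_normalizer)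
    (fun g hg => exists_sylIn_le_C1 p2 fun e => hg (mem_Ct_of_cop (n1.isPi.coprime' fun r _ f => (hE _ _).2 ⟨g, e, f⟩)))
    (not_le_Ct n1 t1 hp hq p1 q1 hx hy fun g e => q1 ((hE _ _).2 ⟨g, (dvd_mul_right _ _).trans e, (dvd_mul_left _ _).trans e⟩))
    (k1 p _ x p2 hx)
  have k2 : ∀ s : ℕ, s.Prime → ¬ E p s → ∀ z : G, s ∣ C1(z).index → ¬ T ≤ Ct(Op s N) ∧ ∀ t, t ∉ Ct(Op s N) → s ∣ C1(t).index :=
    fun s hs s1 z s2 => by
    have := Fact.mk hs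
    exact ⟨fun e => k1 s _ z (n1.sylIn s1 (sylIn_Op_of_isNilpotent (isNilpotent_of_le_centralizer b))) s2
      (top_le_iff.1 (hs'.ge.trans (sup_le (b.trans (centralizer_mono (Op_le s N))) e))), fun t ht => by_contra fun e =>
      ht (mem_Ct_of_cop ((isPi_singleton.2 (isPGroup_Op s N)).coprime (piN_compl_singleton'.2 e)))⟩
  obtain ⟨t, -, t3, t4⟩ := exists_notMem_two (k2 q hq q1 y hy).1 (k2 s hs s1 z s2).1
  exact K r s hr hs r1 ((hE _ _).2 ⟨t, (k2 q hq q1 y hy).2 t t3, (k2 s hs s1 z s2).2 t t4⟩) ((hE _ _).2 ⟨z, r2, s2⟩)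
end

/-- Let G be a finite group. Call a prime a vertex if it divides some conjugacy class size of G, and two distinct vertices adjacent if their product divides some class size. If this graph is connected, then its diameter is at most 3: any two distinct vertices p and q are adjacent, or joined through one or two intermediate vertices. -/
theorem result {G : Type*} [Group G] [Finite G]
    (hconn : ∀ S : Set ℕ, (∃ p ∈ S, (p.Prime ∧ ∃ g : G, p ∣ (Subgroup.centralizer ({g} : Set G)).index)) → (∃ q ∉ S, (q.Prime ∧ ∃ g : G, q ∣ (Subgroup.centralizer ({g} : Set G)).index)) →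
      ∃ p q : ℕ, (p.Prime ∧ ∃ g : G, p ∣ (Subgroup.centralizer ({g} : Set G)).index) ∧ (q.Prime ∧ ∃ g : G, q ∣ (Subgroup.centralizer ({g} : Set G)).index) ∧ p ∈ S ∧ q ∉ S ∧ (∃ g : G, p * q ∣ (Subgroup.centralizer ({g} : Set G)).index))
    (p q : ℕ) (hp : (p.Prime ∧ ∃ g : G, p ∣ (Subgroup.centralizer ({g} : Set G)).index)) (hq : (q.Prime ∧ ∃ g : G, q ∣ (Subgroup.centralizer ({g} : Set G)).index)) (hpq : p ≠ q) :
    (∃ g : G, p * q ∣ (Subgroup.centralizer ({g} : Set G)).index) ∨ (∃ r : ℕ, (r.Prime ∧ ∃ g : G, r ∣ (Subgroup.centralizer ({g} : Set G)).index) ∧ r ≠ p ∧ r ≠ q ∧ (∃ g : G, p * r ∣ (Subgroup.centralizer ({g} : Set G)).index) ∧ (∃ g : G, r * q ∣ (Subgroup.centralizer ({g} : Set G)).index)) ∨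
      (∃ r s : ℕ, (r.Prime ∧ ∃ g : G, r ∣ (Subgroup.centralizer ({g} : Set G)).index) ∧ (s.Prime ∧ ∃ g : G, s ∣ (Subgroup.centralizer ({g} : Set G)).index) ∧ r ≠ p ∧ s ≠ q ∧ r ≠ s ∧ r ≠ q ∧ s ≠ p ∧
        (∃ g : G, p * r ∣ (Subgroup.centralizer ({g} : Set G)).index) ∧ (∃ g : G, r * s ∣ (Subgroup.centralizer ({g} : Set G)).index) ∧ (∃ g : G, s * q ∣ (Subgroup.centralizer ({g} : Set G)).index)) := by
  open Pointwise commutatorElement Subgroup in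
  open Cfsg.Agent.Comp Cfsg.Agent.BG Cfsg.Agent.Cls5 Subgroup commutatorElement in
  obtain ⟨E, hE⟩ : ∃ E : ℕ → ℕ → Prop, ∀ a b, E a b ↔ ∃ g : G, a ∣ C1(g).index ∧ b ∣ C1(g).index := ⟨_, fun _ _ => Iff.rfl⟩
  have e1 : ∀ a b, E a b → E b a := fun a b h => (hE _ _).2 (((hE _ _).1 h).imp fun _ => And.symm)
  have e2 : ∀ a b : ℕ, a.Prime → b.Prime → a ≠ b → E a b → ∃ g : G, a * b ∣ C1(g).index := fun a b x y z h =>
    ((hE _ _).1 h).imp fun _ h => ((Nat.coprime_primes x y).2 z).mul_dvd_of_dvd_of_dvd h.1 h.2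
  have e3 : ∀ a b, E a b → ∃ g : G, b ∣ C1(g).index := fun a b h => ((hE _ _).1 h).imp fun _ h => h.2
  have e4 : ∀ a, (∃ g : G, a ∣ C1(g).index) → E a a := fun a ⟨g, h⟩ => (hE _ _).2 ⟨g, h, h⟩
  by_cases h1 : E p q
  · exact .inl (e2 p q hp.1 hq.1 hpq h1)
  by_cases h2 : ∃ t : ℕ, t.Prime ∧ E p t ∧ E t q
  · obtain ⟨t, a, b, c⟩ := h2
    have d : t ≠ p := fun e => h1 (e ▸ c)
    have f : t ≠ q := fun e => h1 (e ▸ b)
    exact .inr (.inl ⟨t, ⟨a, e3 _ _ b⟩, d, f, e2 _ _ hp.1 a d.symm b, e2 _ _ a hq.1 f c⟩)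
  refine .inr (.inr (by_contra fun h3 => ?_))
  have K : ∀ r s : ℕ, r.Prime → s.Prime → E p r → E q s → ¬ E r s := fun r s a b c d e => by
    have f1 : r ≠ p := fun f => h2 ⟨s, b, f ▸ e, e1 _ _ d⟩
    have f2 : s ≠ q := fun f => h2 ⟨r, a, c, f ▸ e⟩
    have f3 : r ≠ s := fun f => h2 ⟨r, a, c, f ▸ e1 _ _ d⟩
    exact h3 ⟨r, s, ⟨a, e3 _ _ c⟩, ⟨b, e3 _ _ d⟩, f1, f2, f3, fun f => h1 (f ▸ c), fun f => h1 (e1 _ _ (f ▸ d)),
      e2 _ _ hp.1 a f1.symm c, e2 _ _ a b f3 e, e2 _ _ b hq.1 f2 (e1 _ _ d)⟩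
  obtain ⟨x, hx⟩ := hp.2
  obtain ⟨y, hy⟩ := hq.2
  rcases npc_or (G := G) (A := {r | E p r}) (B := {r | E q r}) fun r a s b c d => ⟨fun e => K r s c d a b (e ▸ e4 r (e3 _ _ a)),
    e3 _ _ a, e3 _ _ b, fun g e => K r s c d a b ((hE _ _).2 ⟨g, (dvd_mul_right _ _).trans e, (dvd_mul_left _ _).trans e⟩)⟩ with h | h
  · obtain ⟨r, s, a, b, c, d, z, e⟩ := hconn {r | E p r} ⟨p, e4 p hp.2, hp⟩ ⟨q, h1, hq⟩
    exact key hp.1 hq.1 a.1 b.1 hx hy E hE K h c d ((dvd_mul_right _ _).trans e) ((dvd_mul_left _ _).trans e)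
  · obtain ⟨r, s, a, b, c, d, z, e⟩ := hconn {r | E q r} ⟨q, e4 q hq.2, hq⟩ ⟨p, fun e => h1 (e1 _ _ e), hp⟩
    exact key hq.1 hp.1 a.1 b.1 hy hx E hE (fun r s a b c d e => K s r b a d c (e1 _ _ e)) h c d ((dvd_mul_right _ _).trans e)
      ((dvd_mul_left _ _).trans e)

end Cfsg.Agent.S4257
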