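import Cfsg.Statements.S4261
import Cfsg.Agent.S0048
import Cfsg.Agent.Lib.Solv.Super

set_option autoImplicit false
open Cfsg

namespace Cfsg.Agent.S4261

/-- Let M be a maximal subgroup of a finite solvable group G such that x^[G : M] lies in M for every x in G. Then M is normal in G. -/
theorem result {G : Type*} [Group G] [Finite G] (hG : Group.IsSolvable G) (M : Subgroup G) (hM : IsCoatom M)
    (hexp : ∀ x : G, x ^ M.index ∈ M) : M.Normal := by
  open Pointwise commutatorElement Subgroup Cfsg.Agent.Solv in
  obtain ⟨q, k, hq, -, e⟩ := S0048.result M hM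
  haveI := Fact.mk hq.nat_prime
  have h1 : IsPGroup q (G ⧸ M.normalCore) := by
    intro x
    obtain ⟨x, rfl⟩ := QuotientGroup.mk_surjective x
    obtain ⟨j, hj⟩ := exists_pow_coprime_orderOf hq.nat_prime x
    refine ⟨j, ?_⟩
    rw [← QuotientGroup.mk_pow, QuotientGroup.eq_one_iff]
    intro g
    refine mem_of_pow_mem_of_coprime_orderOf (hexp _) ?_
    rw [← e]
    refine Nat.Coprime.pow_right _ (hj.coprime_dvd_left (orderOf_dvd_of_pow_eq_one ?_))
    rw [conj_pow, pow_orderOf_eq_one]; simp
  haveI := h1.isNilpotent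
  have h2 := coatom_normal_of_nilpotent (isCoatom_map_mk hM M.normalCore_le)
  have h3 := h2.comap (QuotientGroup.mk' M.normalCore)
  rwa [comap_map_mk, sup_eq_left.2 M.normalCore_le] at h3

end Cfsg.Agent.S4261
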