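import Cfsg.Statements.S4262
import Cfsg.Agent.Lib.BG.Janko
import Cfsg.Agent.Lib.BG.Cls

set_option autoImplicit false
open Cfsg

namespace Cfsg.Agent.S4262

/-- Let G be a finite group in which the centralizer of every non-central element is a maximal subgroup of G. Then G is solvable. -/
theorem result {G : Type*} [Group G] [Finite G]
    (h : ∀ g : G, g ∉ Subgroup.center G → IsCoatom (Subgroup.centralizer ({g} : Set G))) :
    Group.IsSolvable G := by
  open Pointwise commutatorElement Subgroup in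
  open Cfsg.Agent.Comp Cfsg.Agent.BG in
  by_cases e : ∃ p : ℕ, p.Prime ∧ p ≠ 2 ∧ ∃ x ∉ center G, ∃ k, orderOf x = p ^ k
  swap
  · obtain ⟨S, hS⟩ := exists_sylIn 2 (⊤ : Subgroup G)
    have := hS.isP.isNilpotent
    rw [← Solv.isSolvable_top_iff, ← eq_of_forall_sylIn (le_top : S ⊔ center G ≤ ⊤) fun q hq _ => ?_]
    · exact Comp.isSolvable_sup le_normalizer_of_normal inferInstance (isSolvable_of_le_centralizer (Subgroup.center_le_centralizer _))
    by_cases f : q = 2
    · exact ⟨S, f ▸ hS, le_sup_left⟩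
    have := Fact.mk hq
    obtain ⟨Q, q1⟩ := exists_sylIn q (⊤ : Subgroup G)
    exact ⟨Q, q1, le_sup_right.trans' fun x hx => by_contra fun g => e ⟨q, hq, f, x, g, by
      simpa using (IsPGroup.iff_orderOf.1 q1.isP ⟨x, hx⟩)⟩⟩
  obtain ⟨p, hp, h2, x, x1, k, x2⟩ := e
  have := Fact.mk hp
  have m := h x x1
  have a : ∀ q : ℕ, [Fact q.Prime] → q ≠ p → ∀ Q : Subgroup G, IsPGroup q Q → Q ≤ C1(x) → C1(x) ≤ Ct(Q) := fun q _ f Q q1 q2 =>
    le_Ct_comm.1 fun y hy => le_centralizer_singleton_iff.1 (by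
      obtain ⟨j, hj⟩ := IsPGroup.iff_orderOf.1 q1 ⟨y, hy⟩
      have c : Commute x y := (mem_centralizer_singleton_iff.1 (q2 hy)).symm
      have d : (orderOf x).Coprime (orderOf y) := by
        rw [x2, show orderOf y = q ^ j by simpa using hj]; exact Nat.coprime_pow_primes _ _ hp Fact.out f.symm
      have b := h (x * y) fun e => x1 (zpowers_le.2 e (Solv.mem_zpowers_mul_of_coprime c d))
      rw [C1_mul_of_coprime c d] at b
      exact inf_eq_left.1 ((b.le_iff.1 inf_le_left).resolve_left m.1).symm)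
  have n : Group.IsNilpotent C1(x) := isNilpotent_of_forall_sylIn fun q hq _ => by
    have := Fact.mk hq
    obtain ⟨Q, q1⟩ := exists_sylIn q C1(x)
    refine ⟨Q, q1, inf_eq_left.1 (eq_of_forall_sylIn inf_le_left fun r hr _ => ?_)⟩
    have := Fact.mk hr
    by_cases e : r = q
    · exact ⟨Q, e ▸ q1, le_inf q1.le le_normalizer⟩
    obtain ⟨R, r1⟩ := exists_sylIn r C1(x)
    refine ⟨R, r1, le_inf r1.le (le_trans ?_ (centralizer_le_normalizer _))⟩
    by_cases f : r = p
    · exact r1.le.trans (a q (fun g => e (f.trans g.symm)) Q q1.isP q1.le)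
    · exact le_Ct_comm.1 (q1.le.trans (a r f R r1.isP r1.le))
  obtain ⟨S, hS⟩ := exists_sylIn 2 C1(x)
  exact Solv.isSolvable_top_iff.1 (Janko.main _ ⊥ ⊤ C1(x) S rfl inferInstance (bot_sup_eq _) (by simp) m.1.lt_top bot_le
    (fun H b _ _ => (m.le_iff.1 b).symm) n hS ((commutator_le_self S).trans (hS.le.trans (a 2 h2.symm S hS.isP hS.le))))

end Cfsg.Agent.S4262
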