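import Cfsg.Statements.S4263
import Mathlib
import Cfsg.Agent.Lib.Solv.Cores

set_option autoImplicit false
open Cfsg

namespace Cfsg.Agent.S4263

open Subgroup in
theorem pow_index_mem_of_nilpotent {N : Type*} [Group N] [Finite N] [Group.IsNilpotent N] (x : N) :
    ∀ (n : ℕ) (K : Subgroup N), K.index = n → x ^ K.index ∈ K := by
  intro n
  induction n using Nat.strong_induction_on with
  | _ n ih =>
    intro K hK
    by_cases ht : K = ⊤
    · subst ht; trivial
    have hlt : K < normalizer (K : Set N) := normalizerCondition_of_isNilpotent K (lt_top_iff_ne_top.2 ht)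
    have hidx := relIndex_mul_index hlt.le
    have h1 : K.relIndex (normalizer (K : Set N)) ≠ 1 := by
      intro h; exact absurd (relIndex_eq_one.1 h) (not_le_of_gt hlt)
    have h0 : K.index ≠ 0 := index_ne_zero_of_finite
    have h2 : (normalizer (K : Set N)).index < n := by
      rw [← hK, ← hidx]
      have a0 : K.relIndex (normalizer (K : Set N)) ≠ 0 := by
        intro h; rw [h, zero_mul] at hidx; exact h0 hidx.symm
      have b0 : (normalizer (K : Set N)).index ≠ 0 := index_ne_zero_of_finite
      have : 2 ≤ K.relIndex (normalizer (K : Set N)) := by omega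
      nlinarith [Nat.pos_of_ne_zero b0]
    have h3 := ih _ h2 (normalizer (K : Set N)) rfl
    haveI : (K.subgroupOf (normalizer (K : Set N))).Normal := normal_in_normalizer
    have h4 := pow_index_mem (K.subgroupOf (normalizer (K : Set N))) ⟨_, h3⟩
    rw [mem_subgroupOf] at h4
    rw [← hidx, mul_comm, pow_mul]
    exact h4

/-- Let G be a finite group. An element x lies in the Fitting subgroup F(G) if and only if, for every subgroup H of G, the power x^[G : H] lies in H. -/
theorem result {G : Type*} [Group G] [Finite G] (x : G) :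
    x ∈ Cfsg.fittingSubgroup G ↔ ∀ H : Subgroup G, x ^ H.index ∈ H := by
  open Cfsg.Agent.Solv Subgroup in
  constructor
  · intro hx H
    haveI := isNilpotent_fitting G
    have h1 := pow_index_mem_of_nilpotent (⟨x, hx⟩ : Cfsg.fittingSubgroup G) _
      (H.subgroupOf (Cfsg.fittingSubgroup G)) rfl
    rw [mem_subgroupOf] at h1
    have h2 : H.relIndex (Cfsg.fittingSubgroup G) ∣ H.index := by
      have a := card_inf_mul_relIndex H (Cfsg.fittingSubgroup G)
      have b := card_sup_mul_card_inf (H := H) (N := Cfsg.fittingSubgroup G)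
        (by rw [normalizer_eq_top]; exact le_top)
      have c := card_mul_relIndex (le_sup_left : H ≤ H ⊔ Cfsg.fittingSubgroup G)
      have d : H.relIndex (Cfsg.fittingSubgroup G) = H.relIndex (H ⊔ Cfsg.fittingSubgroup G) := by
        have p1 : 0 < Nat.card H := Nat.card_pos
        have p2 : 0 < Nat.card (H ⊓ Cfsg.fittingSubgroup G : Subgroup G) := Nat.card_pos
        rw [← c, ← a] at b
        apply Nat.eq_of_mul_eq_mul_left (Nat.mul_pos p1 p2)
        linarith
      rw [d]
      exact Dvd.intro _ (relIndex_mul_index le_sup_left)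
    obtain ⟨k, hk⟩ := h2
    rw [hk, pow_mul]
    exact H.pow_mem h1 k
  · intro h
    by_contra hx
    have h1 : orderOf (x : G ⧸ Cfsg.fittingSubgroup G) ≠ 1 := by
      rw [Ne, orderOf_eq_one_iff, QuotientGroup.eq_one_iff]; exact hx
    obtain ⟨p, hp, hd⟩ := Nat.exists_prime_and_dvd h1
    haveI := Fact.mk hp
    obtain ⟨P⟩ : Nonempty (Sylow p G) := inferInstance
    have h2 : x ^ (P : Subgroup G).index ∈ Cfsg.pCore p G := by
      rw [pCore_eq_iInf_sylow, mem_iInf]
      intro Q
      have : (P : Subgroup G).index = (Q : Subgroup G).index := by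
        have a := (P : Subgroup G).card_mul_index
        have b := (Q : Subgroup G).card_mul_index
        rw [Sylow.card_eq_multiplicity] at a b
        exact Nat.eq_of_mul_eq_mul_left (pow_pos hp.pos _) (a.trans b.symm)
      rw [this]; exact h _
    have h3 : (x : G ⧸ Cfsg.fittingSubgroup G) ^ (P : Subgroup G).index = 1 := by
      rw [← QuotientGroup.mk_pow, QuotientGroup.eq_one_iff]
      exact pCore_le_fitting h2
    exact P.not_dvd_index (hd.trans (orderOf_dvd_of_pow_eq_one h3))

end Cfsg.Agent.S4263
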