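import Cfsg.Statements.S4269
import Cfsg.Agent.Lib.BG.Pron

set_option autoImplicit false
open Cfsg

namespace Cfsg.Agent.S4269

/-- Let G be a finite group, V an abelian normal subgroup and H a subgroup with HV = G. Then H is pronormal in G (H and gHg⁻¹ are conjugate inside the subgroup they generate, for every g) if and only if every H-invariant subgroup U of V satisfies U = N_U(H)·[H, U], that is, U is the join of U ∩ N_G(H) and the commutator subgroup [H, U]. -/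
theorem result {G : Type*} [Group G] [Finite G]
    (V : Subgroup G) [V.Normal] (hV : IsMulCommutative ↥V) (H : Subgroup G) (hHV : H ⊔ V = ⊤) :
    Cfsg.IsPronormal H ↔
      ∀ U : Subgroup G, U ≤ V → (∀ h ∈ H, U.map (MulAut.conj h).toMonoidHom = U) →
        U = (U ⊓ Subgroup.normalizer (H : Set G)) ⊔ ⁅H, U⁆ := by
  open Pointwise commutatorElement Subgroup in
  open Cfsg.Agent.Comp Cfsg.Agent.BG Cfsg.Agent.Pron Subgroup commutatorElement in
  have hc := Solv.isMulCommutative_iff.1 hV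
  have h0 : ∀ X Y : Subgroup G, X ≤ V → Y ≤ V → X ≤ Nm(Y) := fun X Y a b =>
    le_normalizer_of_le_centralizer fun x hx => mem_Ct.2 fun y hy => hc _ (b hy) _ (a hx)
  constructor
  · intro h U u1 u2
    have u3 : ⁅H, U⁆ ≤ U := commutator_le_right_of_le_normalizer fun x hx => cj_eq_self_iff.1 (u2 x hx)
    refine le_antisymm (fun u hu => ?_) (sup_le inf_le_left u3)
    obtain ⟨x, x1, x2⟩ := h u
    have x3 : x ∈ ⁅H, U⁆ ⊔ H := sup_le le_sup_right ((cj_le_sup_commutator hu).trans (sup_comm _ _).le) x1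
    obtain ⟨c, c1, k, k1, rfl⟩ := (Comp.mem_sup_of_le_normalizer' (le_sup_left.trans (sup_le_normalizer_commutator H U))).1 x3
    rw [← mul_inv_cancel_left c u]
    refine mul_mem (mem_sup_right c1) (mem_sup_left (mem_inf.2 ⟨mul_mem (inv_mem (u3 c1)) hu, cj_eq_self_iff.1 ?_⟩))
    rw [cj_mul, x2, cj_mul, cj_inv_cj, cj_eq_self_of_mem k1]
  · intro h g
    obtain ⟨v, v1, k, k1, rfl⟩ := (Comp.mem_sup_of_le_normalizer' (le_normalizer_of_normal (H := V) (K := H))).1
      (((sup_comm _ _).trans hHV).ge (mem_top g))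
    refine Pr.red' (le_normalizer k1) ?_
    have hm : ∀ x ∈ H, ∀ u ∈ V, ⁅x, u⁆ ∈ V := fun x hx u hu => commutator_le_right H V (commutator_mem_commutator hx hu)
    let W : Subgroup G := ⟨⟨⟨{u | u ∈ V ∧ ∀ x ∈ H, ⁅x, u⁆ ∈ H ⊔ cj(v, H)}, fun {a b} ha hb => ⟨mul_mem ha.1 hb.1, fun x hx => by
        rw [commutatorElement_mul_right_eq_mul_conj, mul_assoc, mul_assoc, ← mul_assoc a, hc _ ha.1 _ (hm x hx b hb.1), mul_inv_cancel_right]
        exact mul_mem (ha.2 x hx) (hb.2 x hx)⟩⟩, one_mem _, fun x _ => by simp⟩, fun {a} ha => ⟨inv_mem ha.1, fun x hx => by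
        rw [show ⁅x, a⁻¹⁆ = a⁻¹ * ⁅x, a⁆⁻¹ * a by group, hc _ (inv_mem ha.1) _ (inv_mem (hm x hx a ha.1)), inv_mul_cancel_right]
        exact inv_mem (ha.2 x hx)⟩⟩
    have w1 : W ≤ V := fun _ h => h.1
    have w2 : H ≤ Nm(W) := le_normalizer_of_cj_le fun y hy => cj_le_iff'.2 fun u hu =>
      ⟨‹V.Normal›.conj_mem _ hu.1 _, fun x hx => by
        rw [show ⁅x, y * u * y⁻¹⁆ = y * ⁅y⁻¹ * x * y, u⁆ * y⁻¹ by group]
        exact mul_mem (mul_mem (mem_sup_left hy) (hu.2 _ (mul_mem (mul_mem (inv_mem hy) hx) hy))) (mem_sup_left (inv_mem hy))⟩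
    have w3 : v ∈ W := ⟨v1, fun x hx => by
      rw [show ⁅x, v⁆ = x * (v * x⁻¹ * v⁻¹) by group]
      exact mul_mem (mem_sup_left hx) (mem_sup_right ⟨_, inv_mem hx, rfl⟩)⟩
    rw [h W w1 fun y hy => cj_eq_self_iff.2 (w2 hy), sup_comm] at w3
    obtain ⟨c, c1, n, n1, e⟩ := (Comp.mem_sup_of_le_normalizer (h0 _ _ ((commutator_mono le_rfl w1).trans (commutator_le_right _ _))
      (inf_le_left.trans w1))).1 w3
    exact ⟨c, (commutator_le.2 (fun x hx u (hu : u ∈ W) => hu.2 x hx) : ⁅H, W⁆ ≤ _) c1, by rw [← e, cj_mul, cj_eq_self_iff.2 n1.2]⟩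

end Cfsg.Agent.S4269
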