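import Cfsg.Statements.S4271
import Cfsg.Agent.Lib.BG.Pron

set_option autoImplicit false
open Cfsg

namespace Cfsg.Agent.S4271

/-- Let p be a prime and G a finite group with a normal subgroup A such that every subgroup of A containing a Sylow p-subgroup of A is pronormal in A, and the Sylow p-subgroups of G/A are self-normalizing. Let T be a Sylow p-subgroup of A. Then every subgroup of G containing a Sylow p-subgroup of G is pronormal in G if and only if every subgroup of N_G(T)/T containing a Sylow p-subgroup of N_G(T)/T is pronormal in N_G(T)/T. (Pronormal: H and gHg⁻¹ are conjugate inside the subgroup they generate, for every g.) -/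
theorem result {G : Type*} [Group G] [Finite G] {p : ℕ} [Fact p.Prime]
    (A : Subgroup G) [A.Normal] (hA : (∀ K : Subgroup ↥A, (∃ P : Sylow p ↥A, (P : Subgroup ↥A) ≤ K) → Cfsg.IsPronormal K))
    (hQ : ∀ P : Sylow p (G ⧸ A), Subgroup.normalizer ((P : Subgroup (G ⧸ A)) : Set (G ⧸ A)) = P)
    (T : Subgroup G) (hT : ∃ P : Sylow p ↥A, (P : Subgroup ↥A).map A.subtype = T) [(T.subgroupOf (Subgroup.normalizer (T : Set G))).Normal] :
    (∀ K : Subgroup G, (∃ P : Sylow p G, (P : Subgroup G) ≤ K) → Cfsg.IsPronormal K) ↔ (∀ K : Subgroup (↥(Subgroup.normalizer (T : Set G)) ⧸ T.subgroupOf (Subgroup.normalizer (T : Set G))), (∃ P : Sylow p (↥(Subgroup.normalizer (T : Set G)) ⧸ T.subgroupOf (Subgroup.normalizer (T : Set G))), (P : Subgroup (↥(Subgroup.normalizer (T : Set G)) ⧸ T.subgroupOf (Subgroup.normalizer (T : Set G)))) ≤ K) → Cfsg.IsPronormal K) := by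
  open Pointwise commutatorElement Subgroup in
  open Cfsg.Agent.Comp Cfsg.Agent.BG Cfsg.Agent.Pron Subgroup commutatorElement in
  obtain ⟨P, hP⟩ := hT
  have h1 : SylIn p T A := hP ▸ sylIn_sylow P
  have h2 : ∀ H P : Subgroup (G ⧸ A), SylIn p P ⊤ → P ≤ H → ∀ g, g ∈ H ⊔ cj(g, H) := fun H P a b g => by
    obtain ⟨x, x1, x2⟩ := (a.of_le (b.trans le_sup_left) le_top).exists_cj_eq
      ((a.cj_of_mem (le_normalizer (mem_top g))).of_le ((cj_mono g b).trans (le_sup_right : _ ≤ H ⊔ cj(g, H))) le_top)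
    simpa only [mul_inv_cancel_left] using mul_mem x1 (mem_sup_left (b ((hQ a.toSylowTop).le (cj_eq_self_iff.1 (show cj(x⁻¹ * g, P) = P by
      rw [cj_mul, ← x2, cj_inv_cj])))))
  rw [y_top, y_top, y_quot (T.subgroupOf _) h1.isP.comap_subtype, y_subtype,
    main A T (y_subtype.1 (y_top.1 hA)) (fun H P a b _ g _ => ⟨g, h2 H P a b g, rfl⟩) h1, and_iff_left]
  refine fun K ⟨Q, hQ⟩ => le_antisymm (le_normalizer_map _) fun g hg => map_mono le_normalizer ?_
  have := h2 _ _ (map_top_of_surjective _ (QuotientGroup.mk'_surjective A) ▸ (sylIn_top Q).map (QuotientGroup.mk' A)) (map_mono hQ) g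
  rwa [cj_eq_self_iff.2 hg, sup_idem] at this

end Cfsg.Agent.S4271
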