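import Cfsg.Statements.S4274
import Cfsg.Agent.Lib.Block.J1b

set_option autoImplicit false
open Cfsg

namespace Cfsg.Agent.S4274

open Cfsg.Agent.Blk
open Cfsg.Agent.Char hiding cj cj_mul cj_inv_cj cj_cj_inv

/-- A finite group of order 175560 = 2³·3·5·7·11·19 is either simple or has a normal Sylow 19-subgroup. -/
theorem result {G : Type*} [Group G] [Finite G] (hG : Nat.card G = 175560) : IsSimpleGroup G ∨ ∀ P : Sylow 19 G, (P : Subgroup G).Normal := by
  obtain ⟨x, hx⟩ := exists_S1 (G := G) (p := 19) (by norm_num) (by rw [hG]; norm_num)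
    (by rw [hG]; norm_num)
  rcases hx.exists_K (fun q k hq k1 k2 => by_contra fun k0 => by
    have : ∀ n ∈ Nat.divisors 9240, n % 19 = 1 % 19 → n = 1 ∨ 2 ∣ n ∧ 5 ∣ n ∨ 7 ∣ n ∧ 11 ∣ n := by
      decide +kernel
    have e : ∀ r : ℕ, r.Prime → r ∣ q ^ k → r = q := fun r hr h =>
      (Nat.prime_dvd_prime_iff_eq hr hq).1 (hr.dvd_of_dvd_pow h)
    have a2 := e 2 (by norm_num)
    have a5 := e 5 (by norm_num)
    have a7 := e 7 (by norm_num)
    have a11 := e 11 (by norm_num)
    have a1 := Nat.one_lt_pow k0 hq.one_lt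
    have := this _ (Nat.mem_divisors.2 ⟨Nat.Coprime.dvd_of_dvd_mul_right (n := 19)
      ((Nat.Prime.coprime_iff_not_dvd hx.prime).2 fun h => by unfold Nat.ModEq at k2; omega).symm
      (k1.trans hG.dvd), by norm_num⟩) k2
    omega) with h | ⟨K, _, -, h1, h2, h3⟩
  · refine .inr fun P => ?_
    obtain ⟨S, hS⟩ := isSyl_top_iff.1 hx.isSyl
    have : (S : Subgroup G).Normal := hS ▸ h
    have := Sylow.unique_of_normal S this
    rwa [Subsingleton.elim P S]
  · have i2 := (Subgroup.center K).card_mul_index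
    have cK : Nat.card K ∣ 175560 := hG ▸ Subgroup.card_subgroup_dvd_card K
    have e : (Subgroup.center K).index = 175560 :=
      J1.orders (G := K ⧸ Subgroup.center K) ((Dvd.intro_left _ i2).trans cK) h2 h3
    have c1 : Nat.card K = 175560 := Nat.dvd_antisymm cK (by rw [← i2, e]; simp)
    exact .inl ((MulEquiv.ofBijective K.subtype ((Nat.bijective_iff_injective_and_card _).2
      ⟨K.subtype_injective, c1.trans hG.symm⟩)).symm.trans (MulEquiv.ofBijective
        (QuotientGroup.mk' _) ((Nat.bijective_iff_surjective_and_card _).2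
          ⟨QuotientGroup.mk'_surjective _, c1.trans e.symm⟩))).isSimpleGroup

end Cfsg.Agent.S4274
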