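import Cfsg.Statements.S4278
import Cfsg.Agent.Lib.Classical.Oct6

set_option autoImplicit false
open Cfsg

namespace Cfsg.Agent.S4278
open Cfsg.Agent.Classical


/-- In the Chevalley group of type G₂ over a finite field of odd order, any two involutions are conjugate. -/
theorem result {F : Type*} [Field F] [Fintype F] (hF : Odd (Fintype.card F)) (s t : ↥(Cfsg.Lie.chevG2.group F)) (hs : orderOf s = 2) (ht : orderOf t = 2) : IsConj s t := by
  have h2 : (2 : F) ≠ 0 := Ring.two_ne_zero fun h => (Nat.not_even_iff_odd.2 hF) (Nat.even_iff.2 (FiniteField.even_card_iff_char_two.1 h))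
  obtain ⟨φ⟩ := (Oct.exists_iso (F := F) (by have := Fintype.one_lt_card (α := F); obtain ⟨k, hk⟩ := hF; omega)).1
  have := φ.symm.toMonoidHom.map_isConj ((Oct.inv_conj h2 ((φ.orderOf_eq s).trans hs)).trans
    (Oct.inv_conj h2 ((φ.orderOf_eq t).trans ht)).symm)
  simpa using this

end Cfsg.Agent.S4278
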