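import Cfsg.Statements.S4279
import Cfsg.Agent.Lib.Classical.Oct6

set_option autoImplicit false
open Cfsg

namespace Cfsg.Agent.S4279
open Cfsg.Agent.Classical


/-- In the Chevalley group G of type G₂ over a finite field F of odd order q, the centralizer of an involution t has order q²(q² − 1)² and contains two elementwise commuting subgroups, each isomorphic to SL(2, F), which meet exactly in the subgroup generated by t and whose join has index 2 in the centralizer. -/
theorem result {F : Type*} [Field F] [Fintype F] (hF : Odd (Fintype.card F)) (t : ↥(Cfsg.Lie.chevG2.group F)) (ht : orderOf t = 2) : Nat.card (Subgroup.centralizer ({t} : Set ↥(Cfsg.Lie.chevG2.group F))) = Fintype.card F ^ 2 * (Fintype.card F ^ 2 - 1) ^ 2 ∧ ∃ L₁ L₂ : Subgroup ↥(Cfsg.Lie.chevG2.group F), Nonempty (L₁ ≃* Matrix.SpecialLinearGroup (Fin 2) F) ∧ Nonempty (L₂ ≃* Matrix.SpecialLinearGroup (Fin 2) F) ∧ (∀ x ∈ L₁, ∀ y ∈ L₂, x * y = y * x) ∧ L₁ ⊓ L₂ = Subgroup.zpowers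 t ∧ L₁ ⊔ L₂ ≤ Subgroup.centralizer ({t} : Set ↥(Cfsg.Lie.chevG2.group F)) ∧ (L₁ ⊔ L₂).relIndex (Subgroup.centralizer ({t} : Set ↥(Cfsg.Lie.chevG2.group F))) = 2 := by
  have h2 : (2 : F) ≠ 0 := Ring.two_ne_zero fun h => (Nat.not_even_iff_odd.2 hF) (Nat.even_iff.2 (FiniteField.even_card_iff_char_two.1 h))
  obtain ⟨φ⟩ := (Oct.exists_iso (F := F) (by have := Fintype.one_lt_card (α := F); obtain ⟨k, hk⟩ := hF; omega)).1
  obtain ⟨c, hc⟩ := isConj_iff.1 (Oct.inv_conj h2 ((φ.orderOf_eq t).trans ht))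
  let ψ := φ.trans (MulAut.conj c)
  have h0 : t = ψ.symm Oct.z0 := ψ.eq_symm_apply.2 hc
  have h1 : Subgroup.centralizer {t} = (ψ.symm.toMonoidHom.comp Oct.ph).range := by
    ext g
    rw [MonoidHom.range_comp, ← Oct.cent_z0 h2, Subgroup.mem_map_equiv, Subgroup.mem_centralizer_singleton_iff,
      Subgroup.mem_centralizer_singleton_iff, ← ψ.injective.eq_iff, map_mul, map_mul, h0]
    simp
  rw [h1, h0]
  exact Oct.cent_main hF _ (by rw [← MonoidHom.comap_ker, (MonoidHom.ker_eq_bot_iff _).2 ψ.symm.injective, ← Oct.ker_ph]; rfl)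

end Cfsg.Agent.S4279
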