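import Cfsg.Statements.S4282
import Cfsg.Agent.Lib.BG.HH

set_option autoImplicit false
open Cfsg

namespace Cfsg.Agent.S4282

/-- A critical case behind the Hall–Higman theorem. Let p ≠ q be primes and G a finite group generated by a normal q-subgroup Q and a cyclic p-subgroup generated by x, such that the centralizer of every non-identity element of that cyclic subgroup is its product with the centre of G. Let K be an algebraically closed field of characteristic p and ρ a faithful representation of G on a nonzero finite-dimensional K-space whose restriction to Q is irreducible. If s is the least exponent with (ρ(x) − 1)^s = 0, then |⟨x⟩| − 1 ≤ s ≤ |⟨x⟩|; and if s = |⟨x⟩| − 1 then |⟨x⟩| − 1 is a power of q and Q is non-abelian. -/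
theorem result {G : Type*} [Group G] [Finite G] (p q : ℕ) [Fact p.Prime] [Fact q.Prime] (hpq : p ≠ q) (Q : Subgroup G) [Q.Normal] (hQ : IsPGroup q Q) (x : G) (hx : IsPGroup p (Subgroup.zpowers x)) (hgen : Q ⊔ Subgroup.zpowers x = ⊤) (hC : ∀ y ∈ Subgroup.zpowers x, y ≠ 1 → Subgroup.centralizer ({y} : Set G) = Subgroup.zpowers x ⊔ Subgroup.center G) {K : Type*} [Field K] [IsAlgClosed K] [CharP K p] {V : Type*} [AddCommGroup V] [Module K V] [FiniteDimensional K V] [Nontrivial V] (ρ : Representation K G V) (hfaith : Function.Injective ρ) (hirr : ∀ W : Submodule K V, (∀ g ∈ Q, Submodule.map (ρ g) W ≤ W) → W = ⊥ ∨ W = ⊤) (s : ℕ) (hs : (ρ x - 1) ^ s = 0) (hmin : ∀ k < s, (ρ x - 1) ^ k ≠ 0) : Nat.card (Subgroup.zpowers x) - 1 ≤ s ∧ s ≤ Nat.card (Subgroup.zpowers x) ∧ (s = Nat.card (Subgroup.zpowers x) - 1 → (∃ b : ℕ, Nat.card (Subgroup.zpowers x) - 1 = q ^ b) ∧ ¬ IsMulCommutative Q) := by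
  open Pointwise commutatorElement Subgroup in
  open Module Subgroup Cfsg.Agent.HH Cfsg.Agent.BG in
  have hp : p.Prime := Fact.out
  have hq : q.Prime := Fact.out
  obtain ⟨n, hn⟩ := hx.exists_card_eq
  rw [hn]
  rw [Nat.card_zpowers] at hn
  have hx1 : x ^ p ^ n = 1 := hn ▸ pow_orderOf_eq_one x
  have hq0 : (q : K) ≠ 0 := fun e => hpq ((Nat.prime_dvd_prime_iff_eq hp hq).1 ((CharP.cast_eq_zero_iff K p q).1 e))
  obtain ⟨k, hk⟩ := hQ.exists_card_eq
  have hc : (Nat.card Q : K) ≠ 0 := by rw [hk, Nat.cast_pow]; exact pow_ne_zero _ hq0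
  haveI : (resRep ρ Q).IsIrreducible := (Char.isIrreducible_iff _).2 ⟨inferInstance, fun W h =>
    hirr W fun g hg => Submodule.map_le_iff_le_comap.2 (h ⟨g, hg⟩)⟩
  have h1 : s ≤ p ^ n := not_lt.1 fun h => hmin _ h (by rw [sub_pow_char' (F := K), ← map_pow, hx1, map_one, sub_self])
  have h0 : 0 < s := Nat.pos_of_ne_zero fun e => one_ne_zero ((pow_zero _).symm.trans (e ▸ hs))
  have key : s ≤ p ^ n - 1 → finrank K V = p ^ n - 1 ∧ (ρ x - 1) ^ (p ^ n - 2) ≠ 0 := fun h => by
    have hα : ∀ i (t : Q), (((MulAut.conjNormal x : MulAut Q) ^ i) t : G) = x ^ i * t * (x ^ i)⁻¹ := fun i t => by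
      rw [← map_pow]; rfl
    refine core p (resRep ρ Q) hc (MulAut.conjNormal x) (ρ x) n (by rw [← map_pow, hx1, map_one])
      (by rw [← map_pow, hx1, map_one]) (fun t => ?_) (fun t i a b c => ?_) (fun e => ?_) (pow_eq_zero_of_le h hs)
    · show ρ x * ρ t = ρ (x * t * x⁻¹) * ρ x
      rw [← map_mul, ← map_mul, inv_mul_cancel_right]
    · have c1 := congrArg Subtype.val c
      rw [hα, mul_inv_eq_iff_eq_mul] at c1
      have c2 := (hC _ (npow_mem_zpowers x i) (pow_ne_one_of_lt_orderOf a.ne' (hn ▸ b))).le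
        (mem_centralizer_singleton_iff.2 c1.symm)
      obtain ⟨u, hu, z, hz, c3⟩ := mem_sup_of_normal_right.1 c2
      have c4 : Commute u z := mem_center_iff.1 hz u
      have c5 : z ^ p ^ n = t ^ p ^ n := by
        rw [← c3, c4.mul_pow, ← hn, orderOf_dvd_iff_pow_eq_one.1 (orderOf_dvd_of_mem_zpowers hu), one_mul]
      have c6 : (t : G) ∈ center G := by
        have : (orderOf (t : G)).Coprime (p ^ n) := by
          refine Nat.Coprime.of_dvd_left (Q.orderOf_dvd_natCard t.2) ?_
          rw [hk]; exact Nat.Coprime.pow _ _ ((Nat.coprime_primes hq hp).2 hpq.symm)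
        obtain ⟨m, hm⟩ := exists_pow_eq_self_of_coprime this.symm
        rw [← hm, ← c5]; exact pow_mem (pow_mem hz _) _
      exact Char.schur_scalar (resRep ρ Q) _ fun g => by
        rw [← End.mul_eq_comp, ← End.mul_eq_comp, ← map_mul, ← map_mul]
        exact congrArg ρ (mem_center_iff.1 c6 g).symm
    · rw [hfaith (e.trans (map_one ρ).symm), orderOf_one] at hn
      omega
  refine ⟨not_lt.1 fun h => (key h.le).2 (pow_eq_zero_of_le (by omega) hs), h1, fun h => ?_⟩
  obtain ⟨a, b⟩ := key h.le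
  obtain ⟨c, d⟩ := finrank_pow hq0 k (resRep ρ Q) hk
  refine ⟨⟨c, a.symm.trans d⟩, fun e => ?_⟩
  have h2 := finrank_eq_one_of_comm (resRep ρ Q) fun a b => by rw [← map_mul, ← map_mul, e.1.1 a b]
  have h3 := eq_one_of_finrank_eq_one p h2 (B := ρ x) (n := n) (by rw [← map_pow, hx1, map_one])
  rw [hfaith (h3.trans (map_one ρ).symm), orderOf_one] at hn
  omega

end Cfsg.Agent.S4282
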