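import Cfsg.Statements.S4283
import Cfsg.Agent.Lib.Solv.Frob3
import Cfsg.Agent.Lib.Comp.Basic

set_option autoImplicit false
open Cfsg

namespace Cfsg.Agent.S4283

/-- Let G be a finite group with centre Z and let K, H be abelian subgroups of G containing Z such that G/Z is a Frobenius group with complement H/Z and kernel K/Z. Then the conjugacy class sizes of G are exactly 1, [G : K] and [G : H], and these two indices are coprime. (This is the converse half of the characterization of finite groups whose conjugacy class sizes are exactly 1, m and n with m and n coprime.) -/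
theorem result {G : Type*} [Group G] [Finite G] (K H : Subgroup G) (hZK : Subgroup.center G ≤ K) (hZH : Subgroup.center G ≤ H) (hK : IsMulCommutative K) (hH : IsMulCommutative H) (hFrob : Cfsg.IsFrobeniusComplement (H.map (QuotientGroup.mk' (Subgroup.center G)))) (hker : Cfsg.frobeniusKernel (H.map (QuotientGroup.mk' (Subgroup.center G))) = (K.map (QuotientGroup.mk' (Subgroup.center G)) : Set (G ⧸ Subgroup.center G))) : Set.range (fun x : G => (Subgroup.centralizer ({x} : Set G)).index) = ({1, K.index, H.index} : Set ℕ) ∧ K.index.Coprime H.index := by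
  open Pointwise commutatorElement Subgroup Cfsg.Agent.Solv in
  obtain ⟨K', h1, hn, hc, h0, hf⟩ := exists_frobenius_kernel hFrob
  have e : K' = K.map (QuotientGroup.mk' (center G)) := SetLike.coe_injective (h1.trans hker)
  subst e
  have hm : ∀ (L : Subgroup G), center G ≤ L → ∀ x : G, (x : G ⧸ center G) ∈ L.map (QuotientGroup.mk' (center G)) ↔ x ∈ L := by
    intro L hL x
    refine ⟨fun h => ?_, fun h => mem_map_of_mem _ h⟩
    have : x ∈ (L.map (QuotientGroup.mk' (center G))).comap (QuotientGroup.mk' (center G)) := h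
    rwa [comap_map_mk, sup_eq_left.2 hL] at this
  have hcm : ∀ x c : G, c ∈ centralizer ({x} : Set G) → (c : G ⧸ center G) ∈ centralizer ({(x : G ⧸ center G)} : Set _) :=
    fun x c h => mem_centralizer_singleton_iff.2 (congrArg (QuotientGroup.mk' _) (mem_centralizer_singleton_iff.1 h))
  have hK1 : ∀ x ∈ K, x ∉ center G → centralizer ({x} : Set G) = K := by
    intro x hx hz
    refine le_antisymm (fun c hc' => (hm K hZK c).1 ?_) fun k hk =>
      mem_centralizer_singleton_iff.2 (Solv.isMulCommutative_iff.1 hK k hk x hx)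
    exact centralizer_le_kernel hc.sup_eq_top hf ((hm K hZK x).2 hx) (fun h => hz ((QuotientGroup.eq_one_iff _).1 h)) (hcm x c hc')
  have hH1 : ∀ x ∈ H, x ∉ center G → centralizer ({x} : Set G) = H := by
    intro x hx hz
    refine le_antisymm (fun c hc' => (hm H hZH c).1 ?_) fun k hk =>
      mem_centralizer_singleton_iff.2 (Solv.isMulCommutative_iff.1 hH k hk x hx)
    exact frob_centralizer_le hFrob ((hm H hZH x).2 hx) (fun h => hz ((QuotientGroup.eq_one_iff _).1 h)) (hcm x c hc')
  have hZ1 : ∀ x ∈ center G, (centralizer ({x} : Set G)).index = 1 := fun x hx =>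
    index_eq_one.2 (eq_top_iff.2 fun g _ => mem_centralizer_singleton_iff.2 (mem_center_iff.1 hx g))
  refine ⟨Set.Subset.antisymm ?_ ?_, ?_⟩
  · rintro _ ⟨x, rfl⟩
    by_cases hz : x ∈ center G
    · exact Or.inl (hZ1 x hz)
    by_cases hx : x ∈ K
    · exact Or.inr (Or.inl (congrArg index (hK1 x hx hz)))
    obtain ⟨k, -, hk⟩ := exists_mem_conj_of_notMem_kernel hc.sup_eq_top hf (fun h => hx ((hm K hZK x).1 h))
    obtain ⟨g, rfl⟩ := QuotientGroup.mk_surjective k
    have h2 := hH1 (g⁻¹ * x * g⁻¹⁻¹) ((hm H hZH _).1 (by rw [inv_inv]; exact hk)) fun h => hz (by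
      have := (inferInstance : (center G).Normal).conj_mem _ h g
      simpa [mul_assoc] using this)
    refine Or.inr (Or.inr ?_)
    rw [← h2, ← Comp.cj_centralizer_singleton, Comp.cj_smul, index_conj_smul]
    rfl
  · rintro _ (rfl | rfl | rfl)
    · exact ⟨1, hZ1 1 (one_mem _)⟩
    · obtain ⟨x, hx, hz⟩ := SetLike.not_le_iff_exists.1 ((map_mk_eq_bot_iff _).not.1 h0)
      exact ⟨x, congrArg index (hK1 x hx hz)⟩
    · obtain ⟨x, hx, hz⟩ := SetLike.not_le_iff_exists.1 ((map_mk_eq_bot_iff _).not.1 hFrob.1)
      exact ⟨x, congrArg index (hH1 x hx hz)⟩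
  · have := frob_coprime hFrob
    rwa [Solv.IsComplement'.card_eq_index hc, index_map_mk, index_map_mk, sup_eq_left.2 hZK, sup_eq_left.2 hZH] at this

end Cfsg.Agent.S4283
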