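import Cfsg.Statements.S4293
import Cfsg.Agent.Lib.Solv.FrobSD
import Cfsg.Agent.Lib.Solv.Frob2
import Mathlib.RingTheory.Finiteness.Nakayama
import Mathlib.Algebra.Module.Torsion.Basic
import Mathlib.Algebra.Group.Shrink
import Mathlib.GroupTheory.FiniteAbelian.Basic

set_option autoImplicit false
open Cfsg

namespace Cfsg.Agent.S4293
section
open Pointwise commutatorElement Subgroup Cfsg.Agent.Solv
theorem exists_frob {H : Type*} [Group H] [Finite H] [Nontrivial H] {M : Type*} [AddCommGroup M] [Module.Finite ℤ M]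
    (f : H →* Module.End ℤ M) (N : Submodule ℤ M) (a1 : N ≠ ⊤) (a2 : Finite (M ⧸ N)) (a3 : ∀ h : H, ∀ v ∈ N, f h v ∈ N)
    (a4 : ∀ h : H, h ≠ 1 → ∀ v : M, f h v - v ∈ N → v ∈ N) :
    ∃ (L : Type) (_ : Group L) (_ : Finite L) (C : Subgroup L), IsFrobeniusComplement C ∧ Nonempty (H ≃* C) := by
  let e' : Shrink.{0} (M ⧸ N) ≃+ (M ⧸ N) := Shrink.addEquiv
  haveI : Nontrivial (M ⧸ N) := Submodule.Quotient.nontrivial_iff.2 a1
  haveI := e'.toEquiv.nontrivial
  haveI := Finite.of_equiv _ e'.toEquiv.symm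
  refine (exists_frob_of_fpf_add (H := H) (V := Shrink.{0} (M ⧸ N))
    (fun h v => e'.symm (N.mapQ N (f h) (a3 h) (e' v))) (fun v => ?_) (fun a b v => ?_) (fun a v w => by simp)
    fun h b1 v b2 => ?_).elim fun L ⟨i1, i2, C, b1, b2, _⟩ => ⟨L, i1, i2, C, b1, b2⟩
  all_goals
    obtain ⟨v, rfl⟩ := e'.symm.surjective v
    obtain ⟨v, rfl⟩ := N.mkQ_surjective v
  · simp
  · simp
  · simp only [AddEquiv.apply_symm_apply, Submodule.mkQ_apply, Submodule.mapQ_apply, EmbeddingLike.apply_eq_iff_eq,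
      Submodule.Quotient.eq] at b2
    simpa using a4 h b1 v b2
theorem exists_frob' {H : Type*} [Group H] [Finite H] [Nontrivial H] {M : Type*} [AddCommGroup M] [Module.Finite ℤ M]
    [Nontrivial M] (f : H →* Module.End ℤ M) (a4 : ∀ h : H, h ≠ 1 → ∀ v : M, f h v = v → v = 0) :
    ∃ (L : Type) (_ : Group L) (_ : Finite L) (C : Subgroup L), IsFrobeniusComplement C ∧ Nonempty (H ≃* C) := by
  by_cases h2 : Finite M
  · exact exists_frob f ⊥ bot_ne_top (Finite.of_surjective _ (Submodule.mkQ_surjective _)) (by simp +contextual)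
      fun h a1 v a2 => a4 h a1 v (sub_eq_zero.1 a2)
  obtain ⟨q, hq1, hq⟩ := Nat.exists_infinite_primes (Nat.card H + 1)
  refine exists_frob f (LinearMap.range (q • LinearMap.id)) (fun h => h2 ?_) ?_ ?_ fun h a1 v a2 => ?_
  · obtain ⟨r, b1, b2⟩ := Submodule.exists_sub_one_mem_and_smul_eq_zero_of_fg_of_le_smul (Ideal.span {(q : ℤ)}) ⊤
      (Module.Finite.fg_top (M := M)) (fun v _ => by
        obtain ⟨w, rfl⟩ := h.ge (Submodule.mem_top (x := v))
        simpa using Submodule.smul_mem_smul (Ideal.mem_span_singleton_self (q : ℤ)) (Submodule.mem_top (x := w)))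
    refine Module.finite_of_fg_torsion M fun v => ⟨⟨r, mem_nonZeroDivisors_of_ne_zero ?_⟩, b2 v trivial⟩
    rintro rfl
    exact hq.not_dvd_one (by simpa [Ideal.mem_span_singleton, ← Int.natCast_dvd_natCast] using b1)
  · refine Module.finite_of_fg_torsion _ fun v => ⟨⟨q, mem_nonZeroDivisors_of_ne_zero (by simpa using hq.ne_zero)⟩, ?_⟩
    obtain ⟨v, rfl⟩ := Submodule.mkQ_surjective _ v
    exact (Submodule.Quotient.mk_eq_zero _).2 ⟨v, by simp⟩
  · rintro h _ ⟨v, rfl⟩
    exact ⟨f h v, by simp⟩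
  · have b1 : ∀ i, f (h ^ i) v - v ∈ LinearMap.range (q • LinearMap.id : M →ₗ[ℤ] M) := fun i => by
      induction i with
      | zero => simp
      | succ i ih =>
        obtain ⟨w, hw⟩ := ih
        obtain ⟨u, hu⟩ := a2
        refine ⟨f h w + u, ?_⟩
        simp only [LinearMap.smul_apply, LinearMap.id_apply] at hw hu ⊢
        rw [smul_add, ← map_nsmul, hw, hu, pow_succ', map_mul, map_sub, Module.End.mul_apply, sub_add_sub_cancel]
    have b2 : ∑ i ∈ Finset.range (orderOf h), f (h ^ i) v = 0 := a4 h a1 _ (by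
      have := Finset.sum_range_succ (fun i => f (h ^ i) v) (orderOf h)
      rw [Finset.sum_range_succ', pow_orderOf_eq_one, pow_zero, add_left_inj] at this
      rw [map_sum, ← this]
      exact Finset.sum_congr rfl fun i _ => by rw [pow_succ', map_mul, Module.End.mul_apply])
    have b3 := Submodule.sum_mem _ fun i (_ : i ∈ Finset.range (orderOf h)) => b1 i
    rw [Finset.sum_sub_distrib, b2, zero_sub, neg_mem_iff, Finset.sum_const, Finset.card_range] at b3
    obtain ⟨a, b, b4⟩ := Nat.isCoprime_iff_coprime.2 (Nat.coprime_of_lt_prime (orderOf_pos h).ne'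
      ((_root_.orderOf_le_card).trans_lt hq1) hq)
    rw [← one_zsmul v, ← b4, add_zsmul, mul_zsmul, mul_zsmul, natCast_zsmul, natCast_zsmul]
    exact add_mem (zsmul_mem (LinearMap.mem_range_self _ v) _) (zsmul_mem b3 _)
end

/-- A nontrivial finite subgroup of the multiplicative group of a division ring occurs as a Frobenius complement of some finite Frobenius group. -/
theorem result {D : Type*} [DivisionRing D] (H : Subgroup Dˣ) [Finite H] (hH : H ≠ ⊥) :
    ∃ (L : Type) (_ : Group L) (_ : Finite L) (C : Subgroup L), Cfsg.IsFrobeniusComplement C ∧ Nonempty (H ≃* C) := by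
  open Pointwise commutatorElement Subgroup Cfsg.Agent.Solv in
  classical
  haveI := (nontrivial_iff_ne_bot H).2 hH
  let M : Submodule ℤ D := Submodule.span ℤ (Set.range fun h : H => ((h : Dˣ) : D))
  haveI : Module.Finite ℤ M := Module.Finite.span_of_finite ℤ (Set.finite_range _)
  have h1 : ∀ h : H, ∀ v ∈ M, ((h : Dˣ) : D) * v ∈ M := fun h v hv => by
    refine Submodule.span_induction ?_ (by simp) (fun x y _ _ a1 a2 => by simpa [mul_add] using M.add_mem a1 a2)
      (fun n x _ a1 => by rw [mul_smul_comm]; exact M.smul_mem n a1) hv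
    rintro _ ⟨k, rfl⟩
    exact Submodule.subset_span ⟨h * k, by simp⟩
  haveI : Nontrivial M := ⟨⟨⟨1, Submodule.subset_span ⟨1, by simp⟩⟩, 0, by simp⟩⟩
  refine exists_frob' (M := M) ⟨⟨fun h => (LinearMap.mulLeft ℤ ((h : Dˣ) : D)).restrict (h1 h), by ext; simp⟩,
    fun a b => by ext; exact mul_assoc _ _ _⟩ fun h a1 v a2 => by_contra fun a3 => a1 ?_
  exact Subtype.ext (Units.ext ((mul_eq_right₀ fun h => a3 (Subtype.ext h)).1 (congrArg Subtype.val a2)))

end Cfsg.Agent.S4293
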