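import Cfsg.Statements.S4296
import Cfsg.Agent.Lib.Solv.Frob3
import Cfsg.Agent.Lib.Solv.Mod
import Cfsg.Agent.Lib.BG.Quo
import Mathlib.LinearAlgebra.Determinant

set_option autoImplicit false
open Cfsg

namespace Cfsg.Agent.S4296
section
open Pointwise commutatorElement Subgroup Cfsg.Agent.Solv
theorem isSquare_card {G : Type*} [Group G] [Finite G] {x y : G} (K : Subgroup G) : IsMulCommutative K → Odd (Nat.card K) →
    x ∈ normalizer (K : Set G) → y ∈ normalizer (K : Set G) → (∀ k ∈ K, ⁅x, y⁆ * k * ⁅x, y⁆⁻¹ = k⁻¹) → IsSquare (Nat.card K) := by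
  induction K using Comp.subgroup_induction with | h K ih => ?_
  intro h1 h2 hx hy h3
  by_cases h0 : K = ⊥
  · simp [h0]
  obtain ⟨p, hp, h4⟩ := exists_prime_dvd_card h0
  haveI := Fact.mk hp
  letI : CommGroup K := IsMulCommutative.instCommGroup
  let f : K →* K := powMonoidHom p
  have hE : IsElementaryAbelian p (omegaAb p K h1) := ⟨isMulCommutative_of_le (fun _ h => h.1) h1, fun _ h => h.2⟩
  have h5 : Nat.card (omegaAb p K h1) = Nat.card f.ker := by
    rw [← card_subgroupOf_of_le (K := K) (H := omegaAb p K h1) fun x hx => hx.1]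
    congr 2; ext x; simp [f, mem_subgroupOf, mem_omegaAb, Subtype.ext_iff]
  have h6 : Nat.card K = Nat.card (omegaAb p K h1) * Nat.card (f.range.map K.subtype) := by
    rw [h5, card_subtype, ← index_ker, card_mul_index]
  have h7 : ∀ g ∈ normalizer (K : Set G), g ∈ normalizer ((f.range.map K.subtype : Subgroup G) : Set G) := fun g hg =>
    mem_normalizer_of_conj_mem (by
      rintro _ ⟨_, ⟨k, rfl⟩, rfl⟩
      exact ⟨_, ⟨⟨_, conj_mem_of_mem_normalizer hg k.2⟩, rfl⟩, by simp [f]⟩)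
  have h8 : 1 < Nat.card (omegaAb p K h1) := by
    obtain ⟨k, hk, a1⟩ := exists_subgroup_card_prime hp h4
    refine (one_lt_card_iff_ne_bot _).2 fun h => hp.ne_one ?_
    rw [← a1, orderOf_eq_one_iff, ← mem_bot, ← h]
    exact ⟨hk, a1 ▸ pow_orderOf_eq_one k⟩
  rw [h6]
  refine IsSquare.mul ?_ (ih _ (lt_of_le_of_ne (map_subtype_le _) fun h => ?_) (isMulCommutative_of_le (map_subtype_le _) h1)
    (h2.of_dvd_nat (card_dvd_of_le (map_subtype_le _))) (h7 x hx) (h7 y hy) fun k hk => h3 k (map_subtype_le _ hk))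
  swap
  · rw [h] at h6
    exact h8.ne' (Nat.eq_of_mul_eq_mul_right Nat.card_pos (h6.symm.trans (one_mul _).symm))
  have h9 := le_normalizer_of_omega (L := normalizer (K : Set G)) le_rfl fun x => mem_omegaAb (p := p) (hA := h1)
  have a1 : EMod.rep hE ⁅(⟨x, h9 hx⟩ : normalizer (omegaAb p K h1 : Set G)), ⟨y, h9 hy⟩⁆ = (-1 : ZMod p) • (1 : Module.End (ZMod p) (EMod hE)) := by
    refine LinearMap.ext fun v => EMod.ext' ?_
    rw [neg_smul, one_smul]
    exact h3 _ v.val_mem.1
  have a2 := congrArg Units.val (map_commutatorElement (LinearMap.det.comp (EMod.rep hE)).toHomUnits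
    ⟨x, h9 hx⟩ ⟨y, h9 hy⟩)
  rw [commutatorElement_eq_one_iff_mul_comm.2 (mul_comm (G := (ZMod p)ˣ) _ _), MonoidHom.coe_toHomUnits,
    MonoidHom.comp_apply, a1, LinearMap.det_smul, map_one, mul_one, Units.val_one] at a2
  haveI : Fact (2 < p) := ⟨lt_of_le_of_ne hp.two_le fun h => Nat.not_even_iff_odd.2 h2 (even_iff_two_dvd.2 (h ▸ h4))⟩
  rw [EMod.card_eq_pow_finrank (h := hE)]
  exact ((neg_one_pow_eq_one_iff_even ZMod.neg_one_ne_one).1 a2).isSquare_pow p
end

/-- Let H be a Frobenius complement in a finite group, and suppose some Sylow subgroup of H is not cyclic. Then the number of elements of the Frobenius kernel (the identity together with the elements lying in no conjugate of H) is an odd perfect square. -/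
theorem result {L : Type*} [Group L] [Finite L] (H : Subgroup L) (hF : Cfsg.IsFrobeniusComplement H)
    (hZ : ∃ (p : ℕ) (_ : Fact p.Prime) (P : Sylow p H), ¬ IsCyclic P) :
    Odd (Nat.card (Cfsg.frobeniusKernel H)) ∧ IsSquare (Nat.card (Cfsg.frobeniusKernel H)) := by
  open Pointwise commutatorElement Subgroup Cfsg.Agent.Solv in
  obtain ⟨K, h1, h2, h3, h4, h5⟩ := exists_frobenius_kernel hF
  obtain ⟨p, _, P, hP⟩ := hZ
  have hn : H ≤ normalizer (K : Set L) := le_normalizer_of_normal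
  rw [← h1, SetLike.coe_sort_coe]
  obtain h | ⟨rfl, a, b, m, a1, a2, a3, a4, a5, a6, a7⟩ := isCyclic_or_quaternion_of_fpf (S := (P : Subgroup H).map H.subtype)
    le_normalizer_of_normal (fpf_mono le_rfl (map_subtype_le _) h5) h4 (P.2.map _)
  · exact (hP ((BG.isCyclic_map_iff Subtype.val_injective).1 h)).elim
  obtain ⟨m, rfl⟩ := Nat.exists_eq_add_of_le' a1
  have ha : a ∈ H := map_subtype_le _ (a4 ▸ mem_sup_left (mem_zpowers a))
  have h6 : orderOf (a ^ 2 ^ (m + 1)) = 2 := by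
    rw [orderOf_pow_of_dvd (by positivity) (a2 ▸ pow_dvd_pow _ (Nat.le_succ _)), a2, pow_succ,
      Nat.mul_div_cancel_left _ (by positivity)]
  have h7 : Odd (Nat.card K) := Nat.coprime_two_left.1 ((coprime_of_fpf hn h5).coprime_dvd_left
    (h6 ▸ orderOf_dvd_card_of_mem (pow_mem ha _)))
  have h8 : ∀ k ∈ K, a ^ 2 ^ (m + 1) * k * (a ^ 2 ^ (m + 1))⁻¹ = k⁻¹ := fun k hk => inverts_of_fpf (hn (pow_mem ha _))
    (h5 _ (pow_mem ha _) fun h => by simp [h] at h6) (by rw [← pow_two, ← orderOf_dvd_iff_pow_eq_one, h6]) hk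
  refine ⟨h7, isSquare_card (x := a ^ 2 ^ m) (y := b) K (isMulCommutative_of_inverts h8) h7 (le_normalizer_of_normal (mem_top _))
    (le_normalizer_of_normal (mem_top _)) ?_⟩
  rwa [show ⁅a ^ 2 ^ m, b⁆ = a ^ 2 ^ m * (b * a ^ 2 ^ m * b⁻¹)⁻¹ by rw [commutatorElement_def]; group, ← conj_pow, a7,
    inv_pow, inv_inv, ← pow_add, ← mul_two, ← pow_succ]

end Cfsg.Agent.S4296
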