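import Cfsg.Statements.S4295
import Cfsg.Agent.S4296
import Cfsg.Agent.Lib.Solv.FrobSD
import Mathlib.NumberTheory.SumFourSquares
import Mathlib.Tactic.LinearCombination

set_option autoImplicit false
open Cfsg

namespace Cfsg.Agent.S4295
section
open Pointwise commutatorElement Subgroup Cfsg.Agent.Solv
open QuaternionGroup
theorem aux (r : ℕ) : Odd r → ∃ (V : Type) (_ : AddCommGroup V) (_ : Finite V) (I J : V →+ V), Nat.card V = r * r ∧
    (∀ v, I (I v) = -v) ∧ (∀ v, J (J v) = -v) ∧ (∀ v, I (J v) = - J (I v)) ∧ ∀ v : V, -v = v → v = 0 := by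
  induction r using Nat.recOnMul with
  | zero => simp
  | one => exact fun _ => ⟨PUnit, inferInstance, inferInstance, 0, 0, by simp⟩
  | prime p hp =>
    intro h
    haveI := Fact.mk hp
    obtain ⟨a, b, h1⟩ := ZMod.sq_add_sq p (-1)
    have h2 : (2 : ZMod p) ≠ 0 := fun h2 =>
      Nat.not_even_iff_odd.2 h (((Nat.prime_dvd_prime_iff_eq hp Nat.prime_two).1
        ((ZMod.natCast_eq_zero_iff 2 p).1 (by exact_mod_cast h2))) ▸ even_two)
    refine ⟨ZMod p × ZMod p, inferInstance, inferInstance,
      AddMonoidHom.mk' (fun v => (a * v.1 + b * v.2, b * v.1 - a * v.2)) fun v w => by ext <;> simp <;> ring,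
      AddMonoidHom.mk' (fun v => (v.2, -v.1)) fun v w => by ext <;> simp; ring, by simp, fun v => ?_, fun v => by ext <;> simp,
      fun v => by ext <;> simp <;> ring, fun v hv => ?_⟩
    · ext <;> simp
      · linear_combination v.1 * h1
      · linear_combination v.2 * h1
    · rw [neg_eq_iff_add_eq_zero, ← two_smul (ZMod p)] at hv
      exact (smul_eq_zero.1 hv).resolve_left h2
  | mul a b iha ihb =>
    intro h
    obtain ⟨V, _, _, I, J, a1, a2, a3, a4, a5⟩ := iha (Nat.odd_mul.1 h).1
    obtain ⟨W, _, _, I', J', b1, b2, b3, b4, b5⟩ := ihb (Nat.odd_mul.1 h).2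
    exact ⟨V × W, inferInstance, inferInstance, I.prodMap I', J.prodMap J', by rw [Nat.card_prod, a1, b1]; ring,
      fun v => Prod.ext (a2 _) (b2 _), fun v => Prod.ext (a3 _) (b3 _), fun v => Prod.ext (a4 _) (b4 _),
      fun v hv => Prod.ext (a5 _ (congrArg Prod.fst hv)) (b5 _ (congrArg Prod.snd hv))⟩
end

/-- For a natural number m the following are equivalent: (a) some finite group has a Frobenius complement isomorphic to the quaternion group of order 8 whose Frobenius kernel (the identity together with the elements lying in no conjugate of the complement) has exactly m elements; (b) m is an odd perfect square greater than 1. -/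
theorem result (m : ℕ) :
    (∃ (L : Type) (_ : Group L) (_ : Finite L) (H : Subgroup L), Cfsg.IsFrobeniusComplement H ∧
        Nonempty (H ≃* QuaternionGroup 2) ∧ Nat.card (Cfsg.frobeniusKernel H) = m) ↔
    (Odd m ∧ IsSquare m ∧ 1 < m) := by
  open Pointwise commutatorElement Subgroup Cfsg.Agent.Solv in
  open QuaternionGroup in
  constructor
  · rintro ⟨L, _, _, H, h1, ⟨e⟩, rfl⟩
    haveI := Fact.mk Nat.prime_two
    have h2 : IsPGroup 2 H := IsPGroup.of_card (n := 3) (by rw [Nat.card_congr e.toEquiv, Nat.card_eq_fintype_card, card]; rfl)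
    obtain ⟨P⟩ : Nonempty (Sylow 2 H) := inferInstance
    have h3 := S4296.result H h1 ⟨2, inferInstance, P, fun h => by
      rw [(P.3 (h2.to_subgroup ⊤) le_top).symm, isCyclic_top_iff, e.isCyclic] at h
      exact absurd (h.isMulCommutative.1.1 (a 1) (xa 0)) (by decide)⟩
    obtain ⟨K, h4, -, -, h5, -⟩ := exists_frobenius_kernel h1
    exact ⟨h3.1, h3.2, h4 ▸ (one_lt_card_iff_ne_bot K).2 h5⟩
  rintro ⟨h1, ⟨r, rfl⟩, h2⟩
  obtain ⟨V, _, _, I, J, a1, a2, a3, a4, a5⟩ := aux r (Nat.odd_mul.1 h1).1
  haveI : Nontrivial V := Finite.one_lt_card_iff_nontrivial.1 (a1 ▸ h2)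
  let T : AddMonoid.End V := I
  let g : ZMod (2 * 2) → AddMonoid.End V := fun i => T ^ i.val
  have g1 : ∀ i j v, g (i + j) v = g i (g j v) := fun i j v => by
    simp only [g]
    rw [ZMod.val_add, ← pow_eq_pow_mod _ (show T ^ (2 * 2) = 1 from AddMonoidHom.ext fun v =>
      ((a2 _).trans (by rw [a2, neg_neg]) : I (I (I (I v))) = v)),
      pow_add]; rfl
  have g2 : ∀ v, g 2 v = -v := a2
  have g3 : ∀ i v, g i (J v) = J (g (-i) v) := fun i v => by
    fin_cases i
    · rfl
    · exact (a4 v).trans (by rw [← map_neg, ← a2]; rfl)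
    · exact (a2 _).trans (by rw [← map_neg, ← a2]; rfl)
    · exact (a2 _).trans ((congrArg Neg.neg (a4 v)).trans (neg_neg _))
  obtain ⟨L, i1, i2, H, b1, ⟨e⟩, b2⟩ := exists_frob_of_fpf_add (H := QuaternionGroup 2) (V := V)
    (fun c v => match c with
      | a i => g i v
      | xa i => J (g i v)) (fun v => rfl) (by
        rintro (i | i) (j | j) v <;> simp only [a_mul_a, a_mul_xa, xa_mul_a, xa_mul_xa, g1, g3, a3, sub_eq_add_neg, add_comm j,
          add_right_comm _ j, Nat.cast_ofNat, g2]) (by
        rintro (i | i) v w <;> simp) (by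
        have c1 : ∀ f : V → V, (∀ v, f (f v) = -v) → ∀ v, f v = v → v = 0 := fun f h v hv => a5 v (by rw [← h, hv, hv])
        rintro (i | i) hc
        · fin_cases i
          · exact (hc rfl).elim
          · exact c1 _ a2
          · exact fun v hv => a5 v ((g2 v).symm.trans hv)
          · exact c1 _ fun v => (g1 3 3 v).symm.trans (g2 v)
        · exact c1 _ fun v => by simp only; rw [g3, a3, ← g1, neg_add_cancel]; rfl)
  exact ⟨L, i1, i2, H, b1, ⟨e.symm⟩, b2.trans a1⟩

end Cfsg.Agent.S4295
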