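import Cfsg.Statements.S4297
import Cfsg.Agent.Lib.Solv.FrobSD
import Mathlib.Tactic.LinearCombination

set_option autoImplicit false
open Cfsg

namespace Cfsg.Agent.S4297

/-- For every n ≥ 2 the dicyclic group of order 4n (generated by an element a of order 2n and an element x with x² = aⁿ and x a x⁻¹ = a⁻¹) occurs as a Frobenius complement of some finite Frobenius group. -/
theorem result (n : ℕ) (hn : 2 ≤ n) :
    ∃ (L : Type) (_ : Group L) (_ : Finite L) (H : Subgroup L), Cfsg.IsFrobeniusComplement H ∧ Nonempty (H ≃* QuaternionGroup n) := by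
  open Pointwise commutatorElement Subgroup Cfsg.Agent.Solv in
  open QuaternionGroup in
  obtain ⟨q, hq, hq2, ζ, hζ⟩ := exists_prime_orderOf (2 * n) (by omega) 2
  haveI := Fact.mk hq
  haveI : NeZero n := ⟨by omega⟩
  let χ : ZMod (2 * n) → ZMod q := fun i => (ζ : ZMod q) ^ i.val
  have hζ' : orderOf (ζ : ZMod q) = 2 * n := by rw [orderOf_units, hζ]
  have hadd : ∀ i j, χ (i + j) = χ i * χ j := fun i j => by
    simp only [χ]
    rw [ZMod.val_add, ← pow_add]
    generalize i.val + j.val = m
    rw [← hζ', pow_mod_orderOf]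
  have h0 : χ 0 = 1 := by simp [χ]
  have hone : ∀ i, χ i = 1 → i = 0 := fun i hi => by
    have := orderOf_dvd_of_pow_eq_one hi
    rw [hζ'] at this
    exact (ZMod.val_eq_zero i).1 (Nat.eq_zero_of_dvd_of_lt this (ZMod.val_lt i))
  have hinv : ∀ i, χ i * χ (-i) = 1 := fun i => by rw [← hadd, add_neg_cancel, h0]
  have h2n : (n : ZMod (2 * n)) + n = 0 := by rw [← Nat.cast_add, ← two_mul, ZMod.natCast_self]
  have hn1 : χ n = -1 := by
    have h1 : χ n * χ n = 1 := by rw [← hadd, h2n, h0]
    rcases mul_self_eq_one_iff.1 h1 with h | h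
    · have := (ZMod.natCast_eq_zero_iff _ _).1 (hone _ h)
      have := Nat.le_of_dvd (by omega) this
      omega
    · exact h
  have hnn : χ (-n) = -1 := by rw [neg_eq_of_add_eq_zero_left h2n, hn1]
  have h2 : (2 : ZMod q) ≠ 0 := fun h => by
    have := Nat.le_of_dvd two_pos ((ZMod.natCast_eq_zero_iff 2 q).1 (by exact_mod_cast h))
    omega
  obtain ⟨L, i1, i2, H, h1, ⟨e⟩, -⟩ := exists_frob_of_fpf_add (H := QuaternionGroup n) (V := ZMod q × ZMod q)
    (fun c v => match c with
      | a i => (χ i * v.1, χ (-i) * v.2)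
      | xa i => (- χ (-i) * v.2, χ i * v.1)) (by
        intro v
        change (χ 0 * v.1, χ (-0) * v.2) = v
        simp [h0]) (by
        rintro (i | i) (j | j) v <;>
          simp only [a_mul_a, a_mul_xa, xa_mul_a, xa_mul_xa, neg_add_rev, hadd, sub_eq_add_neg, neg_neg, hn1, hnn,
            Prod.mk.injEq] <;> constructor <;> ring) (by
        rintro (i | i) v w <;> simp [mul_add, add_comm]) (by
        rintro (i | i) hc ⟨v, w⟩ hv
        · simp only [Prod.mk.injEq] at hv
          have hi : i ≠ 0 := fun h => hc (by rw [h]; rfl)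
          refine Prod.ext ?_ ?_
          · by_contra h
            exact hi (hone _ ((mul_eq_right₀ h).1 hv.1))
          · by_contra h
            exact hi (neg_eq_zero.1 (hone _ ((mul_eq_right₀ h).1 hv.2)))
        · simp only [Prod.mk.injEq] at hv
          have h3 : v = 0 := by
            refine (mul_eq_zero.1 ?_).resolve_left h2
            linear_combination (-1 : ZMod q) * hv.1 + χ (-i) * hv.2 - v * hinv i
          refine Prod.ext h3 ?_
          rw [h3, mul_zero] at hv
          exact hv.2.symm)
  exact ⟨L, i1, i2, H, h1, ⟨e.symm⟩⟩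

end Cfsg.Agent.S4297
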