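import Cfsg.Statements.S4298
import Cfsg.Agent.Lib.Block.Fc1

set_option autoImplicit false
open Cfsg

namespace Cfsg.Agent.S4298

open Cfsg.Agent.Blk
open Cfsg.Agent.Char hiding cj cj_mul cj_inv_cj cj_cj_inv

/-- The group SL(2,3) of order 24 (the binary tetrahedral group) occurs as a Frobenius complement of some finite Frobenius group. -/
theorem result :
    ∃ (L : Type) (_ : Group L) (_ : Finite L) (H : Subgroup L), Cfsg.IsFrobeniusComplement H ∧ Nonempty (H ≃* Matrix.SpecialLinearGroup (Fin 2) (ZMod 3)) := by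
  obtain ⟨φ, h⟩ := exists_sl23
  have c : Nat.card (Transfer.SL2 (ZMod 3)) = 24 := by rw [Nat.card_eq_fintype_card]; decide
  haveI : Nontrivial (Transfer.SL2 (ZMod 3)) := Finite.one_lt_card_iff_nontrivial.1 (by rw [c]; decide)
  haveI := Fact.mk Nat.prime_five
  exact frob_of_inj φ h (by rw [c]; decide)

end Cfsg.Agent.S4298
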