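import Cfsg.Statements.S4299
import Cfsg.Agent.Lib.Solv.FrobSD

set_option autoImplicit false
open Cfsg

namespace Cfsg.Agent.S4299

/-- Every nontrivial finite cyclic group occurs as a Frobenius complement of some finite Frobenius group. -/
theorem result {C : Type*} [Group C] [Finite C] [IsCyclic C] [Nontrivial C] :
    ∃ (L : Type) (_ : Group L) (_ : Finite L) (H : Subgroup L), Cfsg.IsFrobeniusComplement H ∧ Nonempty (C ≃* H) := by
  open Pointwise commutatorElement Subgroup Cfsg.Agent.Solv in
  obtain ⟨q, hq, -, ζ, hζ⟩ := exists_prime_orderOf (Nat.card C) Nat.card_pos.ne' 0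
  haveI := Fact.mk hq
  have e : C ≃* zpowers ζ := mulEquivOfCyclicCardEq (by rw [Nat.card_zpowers, hζ])
  obtain ⟨L, i1, i2, H, h1, h2, -⟩ := exists_frob_of_fpf_add (H := C) (V := ZMod q)
    (fun c v => ((e c : (ZMod q)ˣ) : ZMod q) * v) (by simp) (by simp [mul_assoc]) (fun _ _ _ => mul_add _ _ _) (by
      intro c hc v hv
      by_contra h0
      exact hc (e.injective (by
        rw [map_one]; exact Subtype.ext (Units.ext ((mul_eq_right₀ h0).1 hv)))))
  exact ⟨L, i1, i2, H, h1, h2⟩

end Cfsg.Agent.S4299
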