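import Cfsg.Statements.S4300
import Cfsg.Agent.Lib.Solv.Basic

set_option autoImplicit false
open Cfsg

namespace Cfsg.Agent.S4300

/-- Let G act faithfully and primitively on a set X, and suppose the stabilizer of some point is a simple group. Then either G is simple, or G has a normal subgroup, neither trivial nor the whole group, that acts regularly on X (transitively with trivial point stabilizers). -/
theorem result {G : Type*} [Group G] {X : Type*} [MulAction G X] [FaithfulSMul G X]
    (hprim : MulAction.IsPreprimitive G X) (x : X) (hsimple : IsSimpleGroup (MulAction.stabilizer G x)) :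
    IsSimpleGroup G ∨ ∃ N : Subgroup G, N.Normal ∧ N ≠ ⊥ ∧ N ≠ ⊤ ∧
      MulAction.IsPretransitive N X ∧ ∀ y : X, MulAction.stabilizer N y = ⊥ := by
  open Pointwise commutatorElement Subgroup Cfsg.Agent.Solv in
  by_cases h : ∀ N : Subgroup G, N.Normal → N = ⊥ ∨ N = ⊤
  · left
    haveI : Nontrivial G := (MulAction.stabilizer G x).subtype_injective.nontrivial
    exact ⟨h⟩
  right
  push Not at h
  obtain ⟨N, hN, h0, h1⟩ := h
  have ht : MulAction.IsPretransitive N X := by
    refine MulAction.IsQuasiPreprimitive.isPretransitive_of_normal fun h => h0 ?_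
    rw [eq_bot_iff]
    intro n hn
    refine FaithfulSMul.eq_of_smul_eq_smul (α := X) fun y => ?_
    have : y ∈ MulAction.fixedPoints N X := h ▸ Set.mem_univ y
    rw [one_smul]; exact this ⟨n, hn⟩
  refine ⟨N, hN, h0, h1, ht, fun y => ?_⟩
  have h2 : N ⊓ MulAction.stabilizer G x = ⊥ := by
    rcases (inferInstance : (N.subgroupOf (MulAction.stabilizer G x)).Normal).eq_bot_or_eq_top with h | h
    · exact disjoint_iff.1 (subgroupOf_eq_bot.1 h)
    · exfalso
      rw [subgroupOf_eq_top] at h
      refine h1 (eq_top_iff.2 fun g _ => ?_)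
      obtain ⟨n, hn⟩ := ht.exists_smul_eq (g • x) x
      have : (n : G) * g ∈ N := h (by rw [MulAction.mem_stabilizer_iff, mul_smul]; exact hn)
      exact (mul_mem_cancel_left n.2).1 this
  rw [eq_bot_iff]
  intro n hn
  obtain ⟨g, rfl⟩ := hprim.exists_smul_eq x y
  have : g⁻¹ * n * g ∈ N ⊓ MulAction.stabilizer G x := mem_inf.2 ⟨hN.conj_mem' _ n.2 g, by
    rw [MulAction.mem_stabilizer_iff, mul_smul, mul_smul, inv_smul_eq_iff]; exact hn⟩
  rw [h2, mem_bot] at this
  rw [mem_bot]
  apply Subtype.ext
  simpa [mul_eq_one_iff_eq_inv, mul_assoc] using this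

end Cfsg.Agent.S4300
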