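import Cfsg.Statements.S4301
import Mathlib.GroupTheory.GroupAction.MultipleTransitivity

set_option autoImplicit false
open Cfsg

namespace Cfsg.Agent.S4301

/-- One-point extension of a multiply transitive group. Let X be a set and G a group of permutations of Option X (the set X with one extra point ∗ = none) all of whose elements fix ∗, such that G is k-transitive on the points of X for some k ≥ 2, X having at least k points. Suppose a permutation h of Option X and an element g of G satisfy: h interchanges ∗ with a point x of X and fixes a point y of X; g interchanges x and y; (g h)³ and h² lie in G; and for every f in G fixing x, the product h f h lies in G and fixes x. Then an element of the group generated by G and h fixes ∗ exactly when it lies in G, and that group acts (k+1)-transitively on Option X. -/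
theorem result {X : Type*} (G : Subgroup (Equiv.Perm (Option X))) (hfix : ∀ f ∈ G, f none = none)
    (k : ℕ) (hk : 2 ≤ k) (hkX : Nonempty (Fin k ↪ X))
    (htrans : ∀ a b : Fin k ↪ X, ∃ f ∈ G, ∀ i, f (some (a i)) = some (b i))
    (h g : Equiv.Perm (Option X)) (hg : g ∈ G) (x y : X)
    (h1 : h none = some x) (h2 : h (some x) = none) (h3 : h (some y) = some y)
    (h4 : g (some x) = some y) (h5 : g (some y) = some x)
    (h6 : (g * h) ^ 3 ∈ G) (h7 : h ^ 2 ∈ G)
    (h8 : ∀ f ∈ G, f (some x) = some x → h * f * h ∈ G ∧ (h * f * h) (some x) = some x) :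
    (∀ f ∈ Subgroup.closure ((G : Set (Equiv.Perm (Option X))) ∪ {h}), f none = none ↔ f ∈ G) ∧
      MulAction.IsMultiplyPretransitive (Subgroup.closure ((G : Set (Equiv.Perm (Option X))) ∪ {h})) (Option X) (k + 1) := by
  open Pointwise commutatorElement Subgroup in
  classical
  have hxy : x ≠ y := by
    rintro rfl
    rw [h2] at h3; cases h3
  obtain ⟨k, rfl⟩ := Nat.exists_eq_add_of_le' hk
  obtain ⟨e⟩ := hkX
  have hext : ∀ u v : X, u ≠ v → ∃ a : Fin (k + 2) ↪ X, a 0 = u ∧ a 1 = v := by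
    intro u v huv
    let a := e.trans (Equiv.swap (e 0) u).toEmbedding
    have ha : a 0 = u := Equiv.swap_apply_left _ _
    have ha1 : a 1 ≠ u := fun h => Fin.zero_ne_one (a.injective (ha.trans h.symm))
    refine ⟨a.trans (Equiv.swap (a 1) v).toEmbedding, ?_, Equiv.swap_apply_left _ _⟩
    change Equiv.swap (a 1) v (a 0) = u
    rw [ha, Equiv.swap_apply_of_ne_of_ne ha1.symm huv]
  have h2t : ∀ u v u' v' : X, u ≠ v → u' ≠ v' → ∃ f ∈ G, f (some u) = some u' ∧ f (some v) = some v' := by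
    intro u v u' v' h h'
    obtain ⟨a, rfl, rfl⟩ := hext u v h
    obtain ⟨b, rfl, rfl⟩ := hext u' v' h'
    obtain ⟨f, hf, h⟩ := htrans a b
    exact ⟨f, hf, h 0, h 1⟩
  have hsome : ∀ f ∈ G, ∀ u : X, ∃ v, f (some u) = some v := by
    intro f hf u
    rcases h' : f (some u) with _ | v
    · rw [← hfix f hf] at h'; cases f.injective h'
    · exact ⟨v, rfl⟩
  have hgh : ∃ a ∈ G, ∃ b ∈ G, h * g * h = a * h * b :=
    ⟨g⁻¹ * (g * h) ^ 3 * (h ^ 2)⁻¹, mul_mem (mul_mem (inv_mem hg) h6) (inv_mem h7), g⁻¹, inv_mem hg, by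
      simp only [pow_succ, pow_zero, one_mul]; group⟩
  have hfh : ∀ f ∈ G, h * f * h ∈ G ∨ ∃ a ∈ G, ∃ b ∈ G, h * f * h = a * h * b := by
    intro f hf
    obtain ⟨z, hz⟩ := hsome f hf x
    by_cases hzx : z = x
    · exact Or.inl (h8 f hf (hzx ▸ hz)).1
    right
    obtain ⟨a, ha, ha1, ha2⟩ := h2t x y x z hxy (Ne.symm hzx)
    have hb : (g⁻¹ * a⁻¹ * f) (some x) = some x := by
      simp only [Equiv.Perm.mul_apply, hz, ← ha2, ← h4, Equiv.Perm.coe_inv, Equiv.symm_apply_apply]
    obtain ⟨c, hc, d, hd, e1⟩ := hgh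
    refine ⟨h * a * h * (h ^ 2)⁻¹ * c, mul_mem (mul_mem (h8 a ha ha1).1 (inv_mem h7)) hc,
      d * (h ^ 2)⁻¹ * (h * (g⁻¹ * a⁻¹ * f) * h),
      mul_mem (mul_mem hd (inv_mem h7)) (h8 _ (mul_mem (mul_mem (inv_mem hg) (inv_mem ha)) hf) hb).1, ?_⟩
    calc h * f * h = h * a * h * (h ^ 2)⁻¹ * (h * g * h) * ((h ^ 2)⁻¹ * (h * (g⁻¹ * a⁻¹ * f) * h)) := by
          simp only [pow_succ, pow_zero, one_mul]; group
      _ = _ := by rw [e1]; group
  let K : Subgroup (Equiv.Perm (Option X)) :=
    { carrier := {f | f ∈ G ∨ ∃ a ∈ G, ∃ b ∈ G, f = a * h * b}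
      one_mem' := Or.inl (one_mem _)
      mul_mem' := by
        rintro _ _ (hf | ⟨a, ha, b, hb, rfl⟩) (hf' | ⟨c, hc, d, hd, rfl⟩)
        · exact Or.inl (mul_mem hf hf')
        · exact Or.inr ⟨_, mul_mem hf hc, d, hd, by group⟩
        · exact Or.inr ⟨a, ha, _, mul_mem hb hf', by group⟩
        · rcases hfh _ (mul_mem hb hc) with h' | ⟨u, hu, v, hv, e1⟩
          · exact Or.inl (by
              have := mul_mem (mul_mem ha h') hd
              simpa only [mul_assoc] using this)
          · refine Or.inr ⟨_, mul_mem ha hu, _, mul_mem hv hd, ?_⟩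
            calc _ = a * (h * (b * c) * h) * d := by group
              _ = _ := by rw [e1]; group
      inv_mem' := by
        rintro _ (hf | ⟨a, ha, b, hb, rfl⟩)
        · exact Or.inl (inv_mem hf)
        · exact Or.inr ⟨b⁻¹ * (h ^ 2)⁻¹, mul_mem (inv_mem hb) (inv_mem h7), a⁻¹, inv_mem ha, by
            simp only [pow_succ, pow_zero, one_mul]; group⟩ }
  set L := Subgroup.closure ((G : Set (Equiv.Perm (Option X))) ∪ {h})
  have hLK : L ≤ K := (closure_le _).2 (by
    rintro f (hf | rfl)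
    · exact Or.inl hf
    · exact Or.inr ⟨1, one_mem _, 1, one_mem _, by simp⟩)
  have hGL : G ≤ L := fun f hf => subset_closure (Or.inl hf)
  have hhL : h ∈ L := subset_closure (Or.inr rfl)
  refine ⟨fun f hf => ⟨fun h' => ?_, hfix f⟩, ?_⟩
  · rcases hLK hf with h'' | ⟨a, ha, b, hb, rfl⟩
    · exact h''
    · simp only [Equiv.Perm.mul_apply, hfix b hb, h1] at h'
      rw [← hfix a ha] at h'
      cases a.injective h'
  have ht : ∀ u : Option X, ∃ f ∈ L, f u = none := by
    rintro (_ | u)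
    · exact ⟨1, one_mem _, rfl⟩
    · obtain ⟨v, hv⟩ : ∃ v, u ≠ v := by
        by_cases hu : u = x
        · exact ⟨y, hu ▸ hxy⟩
        · exact ⟨x, hu⟩
      obtain ⟨f, hf, h', -⟩ := h2t u v x y hv hxy
      exact ⟨h * f, mul_mem hhL (hGL hf), by rw [Equiv.Perm.mul_apply, h', h2]⟩
  have hred : ∀ a : Fin (k + 2 + 1) ↪ Option X, ∃ f ∈ L, ∃ a' : Fin (k + 2) ↪ X, f (a 0) = none ∧ ∀ i, f (a i.succ) = some (a' i) := by
    intro a
    obtain ⟨f, hf, h0⟩ := ht (a 0)
    have : ∀ i : Fin (k + 2), ∃ v, f (a i.succ) = some v := fun i => by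
      rcases h' : f (a i.succ) with _ | v
      · rw [← h0] at h'
        exact absurd (a.injective (f.injective h')) (Fin.succ_ne_zero i)
      · exact ⟨v, rfl⟩
    choose a' ha' using this
    refine ⟨f, hf, ⟨a', fun i j hij => Fin.succ_injective _ (a.injective (f.injective ?_))⟩, h0, ha'⟩
    rw [ha', ha', hij]
  refine ⟨fun a b => ?_⟩
  obtain ⟨f, hf, a', ha0, ha⟩ := hred a
  obtain ⟨f', hf', b', hb0, hb⟩ := hred b
  obtain ⟨c, hc, hc'⟩ := htrans a' b'
  refine ⟨⟨f'⁻¹ * c * f, mul_mem (mul_mem (inv_mem hf') (hGL hc)) hf⟩, ?_⟩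
  ext1 i
  change f'⁻¹ (c (f (a i))) = b i
  rw [Equiv.Perm.inv_eq_iff_eq]
  refine Fin.cases ?_ (fun i => ?_) i
  · rw [ha0, hb0, hfix c hc]
  · rw [ha, hb, hc']

end Cfsg.Agent.S4301
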