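import Cfsg.Statements.S4303
import Mathlib
import Cfsg.Agent.Lib.Perm.SylNum3

set_option autoImplicit false
universe u
open Cfsg

namespace Cfsg.Agent.S4303



/-- For a finite group `G` and a prime `p`, the number of Sylow `p`-subgroups of `G` is a product of natural numbers each of which is either a prime power congruent to 1 modulo `p` or the number of Sylow `p`-subgroups of some finite simple group. -/
theorem result {G : Type u} [Group G] [Finite G]
    (p : ℕ) [Fact p.Prime] :
    ∃ l : List ℕ, l.prod = Nat.card (Sylow p G) ∧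
      ∀ m ∈ l, (IsPrimePow m ∧ m % p = 1) ∨
        ∃ (S : Type u) (_ : Group S) (_ : Finite S), IsSimpleGroup S ∧ m = Nat.card (Sylow p S) := by
  refine Cfsg.Agent.Perm.SylNum.sylNum_induction p (fun n => ∃ l : List ℕ, l.prod = n ∧
      ∀ m ∈ l, (IsPrimePow m ∧ m % p = 1) ∨
        ∃ (S : Type u) (_ : Group S) (_ : Finite S), IsSimpleGroup S ∧ m = Nat.card (Sylow p S))
    ⟨[], rfl, by simp⟩ ?_ ?_ False ?_ G False.elim
  · rintro a b - - ⟨l, rfl, hl⟩ ⟨l', rfl, hl'⟩
    refine ⟨l ++ l', List.prod_append, fun m hm => ?_⟩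
    rcases List.mem_append.1 hm with h | h
    · exact hl m h
    · exact hl' m h
  · intro l k hl h
    rcases Nat.eq_zero_or_pos k with rfl | hk
    · exact ⟨[], rfl, by simp⟩
    · refine ⟨[l ^ k], by simp, fun m hm => Or.inl ?_⟩
      rw [List.mem_singleton.1 hm]
      refine ⟨⟨l, k, hl.prime, hk, rfl⟩, ?_⟩
      rw [h, Nat.mod_eq_of_lt (Fact.out : p.Prime).one_lt]
  · intro S _ _ hS _
    exact ⟨[_], by simp, fun m hm => Or.inr ⟨S, _, inferInstance, hS, List.mem_singleton.1 hm⟩⟩

end Cfsg.Agent.S4303
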