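import Cfsg.Statements.S4305
import Cfsg.Agent.Lib.Ez.G1

set_option autoImplicit false
open Cfsg

namespace Cfsg.Agent.S4305

theorem perm3 : ∀ a : Equiv.Perm (Fin 3), a = 1 ∨ a = finRotate 3 ∨ a = finRotate 3 * finRotate 3 ∨
    a = Equiv.swap 0 1 ∨ a = Equiv.swap 0 1 * finRotate 3 ∨ a = Equiv.swap 0 1 * finRotate 3 * finRotate 3 := by
  decide

theorem rel3 : (Equiv.swap 0 1 * finRotate 3 * (Equiv.swap 0 1)⁻¹ : Equiv.Perm (Fin 3)) = (finRotate 3)⁻¹ ∧
    (finRotate 3 : Equiv.Perm (Fin 3)) ^ 3 = 1 ∧ (finRotate 3 : Equiv.Perm (Fin 3)) ≠ 1 ∧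
    (Equiv.swap 0 1 : Equiv.Perm (Fin 3)) ^ 2 = 1 ∧ (Equiv.swap 0 1 : Equiv.Perm (Fin 3)) ≠ 1 := by
  decide

/-- Let the symmetric group of degree 3 act by automorphisms on a finite solvable group `G` of order prime to 6, so that only the identity of `G` is fixed by all of it. Then the derived subgroup of `G` is nilpotent. -/
theorem result {G : Type*} [Group G] [Finite G] [Group.IsSolvable G]
    [MulDistribMulAction (Equiv.Perm (Fin 3)) G] (hcop : (Nat.card G).Coprime 6)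
    (hfpf : ∀ g : G, (∀ a : Equiv.Perm (Fin 3), a • g = g) → g = 1) :
    Group.IsNilpotent ↥(commutator G) := by
  open Subgroup Cfsg.Agent.Comp Cfsg.Agent.BG Cfsg.Agent.Ez in
  obtain ⟨X, _, _, i, j, h⟩ := exists_act (MulDistribMulAction.toMulAut (Equiv.Perm (Fin 3)) G)
  have : Fact (Nat.Prime 3) := ⟨Nat.prime_three⟩
  have e : zpowers (j (Equiv.swap 0 1)) ⊔ zpowers (j (finRotate 3)) = j.range := by
    refine le_antisymm (sup_le (zpowers_le.2 ⟨_, rfl⟩) (zpowers_le.2 ⟨_, rfl⟩)) ?_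
    rintro _ ⟨a, rfl⟩
    have a1 := mem_sup_left (T := zpowers (j (finRotate 3))) (mem_zpowers (j (Equiv.swap 0 1)))
    have a2 := mem_sup_right (S := zpowers (j (Equiv.swap 0 1))) (mem_zpowers (j (finRotate 3)))
    rcases perm3 a with rfl | rfl | rfl | rfl | rfl | rfl <;> try simp only [map_mul, map_one]
    exacts [one_mem _, a2, mul_mem a2 a2, a1, mul_mem a1 a2, mul_mem (mul_mem a1 a2) a2]
  have k := S3H.nilpotent _ rfl (⟨h.normal, Group.isSolvable_of_surjective i.rangeRestrict_surjective,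
    h.card_range ▸ hcop, (orderOf_injective j h.jnj _).trans (orderOf_eq_prime rel3.2.1 rel3.2.2.1),
    (orderOf_injective j h.jnj _).trans (orderOf_eq_prime rel3.2.2.2.1 rel3.2.2.2.2),
    by rw [← map_inv, ← map_inv, ← map_mul, ← map_mul, rel3.1], eq_bot_iff.2 (by
      rintro _ ⟨⟨g, rfl⟩, hg⟩
      rw [e] at hg
      rw [hfpf g (h.mem_Ct_iff.1 hg), map_one]; exact one_mem _),
    by rw [e, sup_comm, h.sup]⟩ : S3H i.range (j (finRotate 3)) (j (Equiv.swap 0 1)))
  rw [MonoidHom.range_eq_map, ← map_commutator] at k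
  exact @Group.nilpotent_of_mulEquiv _ _ _ _ k (equivMapOfInjective _ i h.inj).symm

end Cfsg.Agent.S4305
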