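import Cfsg.Statements.S4306
import Cfsg.Agent.Lib.Ez.G3

set_option autoImplicit false
open Cfsg

namespace Cfsg.Agent.S4306

/-- Let `A` be a non-abelian group of order `pq` with `p, q` distinct primes, acting by automorphisms on a finite solvable group `G` of order prime to `pq`, so that only the identity of `G` is fixed by all of `A`. Then `G` has Fitting height at most 2: there is a normal nilpotent subgroup `F` of `G` with `G/F` nilpotent. -/
theorem result {G A : Type*} [Group G] [Finite G]
    [Group.IsSolvable G] [Group A] [Finite A] [MulDistribMulAction A G] (p q : ℕ) (hp : p.Prime) (hq : q.Prime) (hpq : p ≠ q)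
    (hA : Nat.card A = p * q) (hAna : ¬ IsMulCommutative A) (hcop : (Nat.card G).Coprime (p * q))
    (hfpf : ∀ g : G, (∀ a : A, a • g = g) → g = 1) :
    ∃ F : Subgroup G, ∃ hF : F.Normal, Group.IsNilpotent ↥F ∧ Group.IsNilpotent (G ⧸ F) := by
  open Subgroup Cfsg.Agent.Comp Cfsg.Agent.BG Cfsg.Agent.Ez in
  wlog hlt : q < p generalizing p q
  · exact this q p hq hp hpq.symm (mul_comm p q ▸ hA) (mul_comm p q ▸ hcop) (by omega)
  obtain ⟨X, _, _, i, j, h⟩ := exists_act (MulDistribMulAction.toMulAut A G)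
  have := Fact.mk hp
  have := Fact.mk hq
  obtain ⟨s, hs⟩ := exists_prime_orderOf_dvd_card' (G := A) p (hA ▸ dvd_mul_right p q)
  have a1 : (zpowers s).index = q := by
    have := (zpowers s).card_mul_index
    rwa [Nat.card_zpowers, hs, hA, mul_right_inj' hp.ne_zero] at this
  have a2 : (zpowers s).Normal := normal_of_index_eq_minFac_card (by
    have b := Nat.minFac_prime (n := p * q) (by nlinarith [hp.two_le, hq.two_le])
    have c := Nat.minFac_le_of_dvd hq.two_le (dvd_mul_left q p)
    have d := b.dvd_mul.1 (Nat.minFac_dvd _)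
    rw [Nat.prime_dvd_prime_iff_eq b hp, Nat.prime_dvd_prime_iff_eq b hq] at d
    rw [a1, hA]
    omega)
  have a3 : ¬ ⊤ ≤ Ct(zpowers s) := fun e => by
    obtain ⟨t, ht⟩ := exists_prime_orderOf_dvd_card' (G := A) q (hA ▸ dvd_mul_left q p)
    have b := Solv.sup_zpowers_eq_of_relIndex_prime (le_top (a := zpowers s)) (by rwa [relIndex_top_right, a1])
      (mem_top t) fun f => hpq ((Nat.prime_dvd_prime_iff_eq hq hp).1 (hs ▸ ht ▸ orderOf_dvd_of_mem_zpowers f)).symm
    have c : (⊤ : Subgroup A) ≤ Ct((⊤ : Subgroup A)) := by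
      conv_rhs => rw [← b, centralizer_sup]
      exact le_inf e (b.ge.trans (sup_le (le_Ct_comm.1 (le_top.trans e)) (comm_iff_le.1 inferInstance)))
    exact hAna ⟨⟨fun x y => c (mem_top y) x (mem_top x)⟩⟩
  have k : PQH i.range j.range ((zpowers s).map j) p q := ⟨h.normal,
    Group.isSolvable_of_surjective i.rangeRestrict_surjective, hp, hq, hpq, h.card_range'.trans hA,
    by rw [h.card_map', Nat.card_zpowers, hs], map_le_range _ _,
    j.range_eq_map ▸ map_le_normalizer j le_normalizer_of_normal,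
    fun e => a3 fun x _ y hy => h.jnj (by simpa using e ⟨x, rfl⟩ _ (mem_map_of_mem j hy)),
    h.card_range ▸ hcop, eq_bot_iff.2 (by
      rintro _ ⟨⟨g, rfl⟩, hg⟩
      rw [hfpf g (h.mem_Ct_iff.1 hg), map_one]; exact one_mem _), by rw [sup_comm, h.sup]⟩
  have := h.normal
  obtain ⟨_, ⟨n, rfl⟩, hn⟩ := (wellFounded_lt (α := Subgroup G)).has_min
    (Set.range (⊤ : Subgroup G).lowerCentralSeries) ⟨_, 0, rfl⟩
  have e : ((⊤ : Subgroup G).lowerCentralSeries n).map i = i.range.lowerCentralSeries n := by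
    rw [map_lowerCentralSeries, ← MonoidHom.range_eq_map]
  have k1 := PQH.nilpotent _ rfl k (inferInstance : (i.range.lowerCentralSeries n).Normal)
    (lowerCentralSeries_le_self _ _) (by
      rw [← e, MonoidHom.range_eq_map, ← map_commutator, ← Subgroup.lowerCentralSeries_succ,
        eq_of_le_of_not_lt (Subgroup.lowerCentralSeries_antitone _ n.le_succ) (hn _ ⟨_, rfl⟩)])
  rw [← e] at k1
  refine ⟨_, inferInstance, @Group.nilpotent_of_mulEquiv _ _ _ _ k1 (equivMapOfInjective _ i h.inj).symm,
    Subgroup.nilpotent_iff_lowerCentralSeries.2 ⟨n, ?_⟩⟩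
  rw [← map_top_of_surjective _ (QuotientGroup.mk'_surjective _), ← map_lowerCentralSeries,
    Subgroup.map_eq_bot_iff, QuotientGroup.ker_mk']

end Cfsg.Agent.S4306
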