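import Cfsg.Statements.S4314
import Cfsg.Agent.Lib.BG.Cls5

set_option autoImplicit false
open Cfsg

namespace Cfsg.Agent.S4314

/-- Let `G` be a finite group every conjugacy class of which has size 1 or a prime. Then either `G` is nilpotent of class at most 2, or `G/Z(G)` is a non-abelian group of order `pq` for distinct primes `p, q` (a Frobenius group of order `pq`). -/
theorem result {G : Type*} [Group G] [Finite G]
    (h : ∀ x : G, (Subgroup.centralizer ({x} : Set G)).index = 1 ∨ ((Subgroup.centralizer ({x} : Set G)).index).Prime) :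
    Subgroup.upperCentralSeries G 2 = ⊤ ∨
      ∃ p q : ℕ, p.Prime ∧ q.Prime ∧ p ≠ q ∧ Nat.card (G ⧸ Subgroup.center G) = p * q ∧ ¬ IsMulCommutative (G ⧸ Subgroup.center G) := by
  open Pointwise commutatorElement Subgroup in
  open Cfsg.Agent.Comp Cfsg.Agent.BG Cfsg.Agent.Cls5 Subgroup commutatorElement in
  have h0 : ⁅(⊤ : Subgroup G), ⊤⁆ ≤ center G → Subgroup.upperCentralSeries G 2 = ⊤ := fun e => by
    rw [map_upperCentralSeries_two, eq_top_iff, le_Z2_iff, Ct_top]; exact ⟨le_rfl, e⟩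
  by_cases hc : IsMulCommutative (G ⧸ center G)
  · refine .inl (h0 (commutator_le.2 fun a _ b _ => (QuotientGroup.eq_one_iff _).1 ?_))
    rw [← QuotientGroup.mk'_apply, map_commutatorElement, commutatorElement_eq_one_iff_mul_comm]
    exact hc.1.1 _ _
  have h1 : ∀ (p : ℕ) (x : G), p.Prime → p ∣ C1(x).index → C1(x).index = p := fun p x a b =>
    (h x).elim (fun e => absurd (Nat.dvd_one.1 (e ▸ b)) a.ne_one) fun e => ((Nat.prime_dvd_prime_iff_eq a e).1 b).symm
  by_cases h2 : ∃ p q : ℕ, p ≠ q ∧ (p.Prime ∧ ∃ g : G, p ∣ C1(g).index) ∧ q.Prime ∧ ∃ g : G, q ∣ C1(g).index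
  · obtain ⟨p, q, a, b, c⟩ := h2
    obtain ⟨K, T, k, k1, k2⟩ := disc {p} ⟨p, rfl, b⟩ ⟨q, a.symm, c⟩ fun r s d e f g ⟨x, hx⟩ =>
      g ((h1 s x e.1 ((dvd_mul_left _ _).trans hx)).symm.trans ((h1 r x d.1 ((dvd_mul_right _ _).trans hx)).trans f))
    obtain ⟨x, x1, x2⟩ := SetLike.not_le_iff_exists.1 k.not_le.1
    obtain ⟨y, y1, y2⟩ := SetLike.not_le_iff_exists.1 k.not_le.2
    have x3 := (h x).resolve_left (index_C1_eq_one.not.2 x2)
    have y3 := (h y).resolve_left (index_C1_eq_one.not.2 y2)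
    rw [le_antisymm (k.cK x x1 x2) (le_centralizer_singleton_iff.2 (k1 x1))] at x3
    rw [k.cT k2 y1 y2] at y3
    exact .inr ⟨_, _, x3, y3, (Nat.coprime_primes x3 y3).1 k.cop, k.index, hc⟩
  obtain ⟨x, x1⟩ : ∃ x : G, x ∉ center G := by
    by_contra e
    push Not at e
    exact hc ⟨⟨fun a b => by
      obtain ⟨a, rfl⟩ := QuotientGroup.mk_surjective a
      rw [(QuotientGroup.eq_one_iff a).2 (e a), one_mul, mul_one]⟩⟩
  have hp := (h x).resolve_left (index_C1_eq_one.not.2 x1)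
  set p := C1(x).index
  have := Fact.mk hp
  have h3 : ∀ q : ℕ, q.Prime → q ≠ p → ∀ Q : Subgroup G, SylIn q Q ⊤ → Q ≤ center G := fun q a b Q c => by
    have := Fact.mk a
    rw [← Ct_top, le_Ct_comm]
    refine le_of_cover le_top fun g _ => ?_
    obtain ⟨k, hk⟩ := exists_sylIn_le_C1 c fun e => h2 ⟨q, p, b, ⟨a, g, e⟩, hp, x, dvd_rfl⟩
    exact ⟨k, mem_top k, hk⟩
  obtain ⟨P, hP⟩ := exists_sylIn p (⊤ : Subgroup G)
  have h4 : P ⊔ center G = ⊤ := eq_of_forall_sylIn le_top fun q a _ => by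
    by_cases e : q = p
    · exact ⟨P, e ▸ hP, le_sup_left⟩
    · obtain ⟨Q, hQ⟩ := exists_sylIn q (⊤ : Subgroup G)
      exact ⟨Q, hQ, (h3 q a e Q hQ).trans le_sup_right⟩
  have : P.Normal := normal_iff_top_le_normalizer.2 (h4.ge.trans (sup_le le_normalizer (center_le_normalizer _)))
  have h5 := knoche hP.isP fun g _ => (Nat.le_of_dvd (Nat.pos_of_ne_zero index_ne_zero_of_finite)
    (Solv.relIndex_dvd_index_of_normal' _ _)).trans ((h g).elim (fun e => e ▸ hp.one_le) fun e => le_of_eq (by_contra fun f =>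
      h2 ⟨_, p, f, ⟨e, g, dvd_rfl⟩, hp, x, dvd_rfl⟩))
  refine .inl (h0 ?_)
  conv_lhs => rw [← h4, commutator_sup_central (Subgroup.center_le_centralizer _) (Subgroup.center_le_centralizer _)]
  rw [← Ct_top, ← h4, centralizer_sup]
  exact le_inf (le_Ct_of_card_le hP.isP (hP.isP.to_le (commutator_le_left _ _)) le_normalizer_of_normal h5)
    (le_Ct_comm.1 (Subgroup.center_le_centralizer _))

end Cfsg.Agent.S4314
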