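import Cfsg.Statements.S4325
import Cfsg.Agent.Lib.Solv.Cores
import Mathlib.GroupTheory.GroupAction.MultipleTransitivity
import Mathlib.LinearAlgebra.Dimension.StrongRankCondition
import Mathlib.LinearAlgebra.StdBasis

set_option autoImplicit false
open Cfsg

namespace Cfsg.Agent.S4325
section
open Pointwise commutatorElement Subgroup Cfsg.Agent.Solv
open Equiv
theorem le_of_prime_dvd {α ι : Type*} [Fintype α] [DecidableEq α] [Fintype ι] (t : ι → Perm α) (ht : ∀ i, (t i).IsSwap)
    {q : ℕ} (hq : q.Prime) (h : q ∣ Nat.card (closure (Set.range t))) : q ≤ Fintype.card ι + 1 := by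
  classical
  haveI := Fact.mk hq
  obtain ⟨g, hg⟩ := exists_prime_orderOf_dvd_card' q h
  choose a b hab using ht
  let e : α → α → ℚ := fun x => Pi.single x 1
  set W := Submodule.span ℚ (Set.range fun i => e (a i) - e (b i))
  have h1 : ∀ g ∈ closure (Set.range t), ∀ x, e (g x) - e x ∈ W := fun g hg => by
    refine closure_induction ?_ (by simp) (fun g k _ _ h1 h2 x => ?_) (fun g _ h1 x => ?_) hg
    · rintro _ ⟨i, rfl⟩ x
      have := Submodule.subset_span (R := ℚ) (s := Set.range fun i => e (a i) - e (b i)) ⟨i, rfl⟩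
      rw [(hab i).2, swap_apply_def]
      split_ifs with h1 h2
      · simpa [h1] using W.neg_mem this
      · simpa [h2] using this
      · simp
    · simpa using W.add_mem (h1 (k x)) (h2 x)
    · simpa using W.neg_mem (h1 (g⁻¹ x))
  obtain ⟨x, hx⟩ : ∃ x, (g : Perm α) x ≠ x := by
    by_contra h2; push Not at h2
    exact hq.ne_one (by rw [← hg, orderOf_eq_one_iff]; exact Subtype.ext (Perm.ext h2))
  have h2 : Function.minimalPeriod (g : Perm α) x = q := Function.minimalPeriod_eq_prime (by
    rw [Function.IsPeriodicPt, Function.IsFixedPt, Perm.iterate_eq_pow, ← hg, ← coe_pow, pow_orderOf_eq_one]; rfl) hx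
  have h3 := linearIndependent_le_span_aux' (R := ℚ) (fun i : Fin q => e (((g : Perm α) ^ (i : ℕ)) x))
    ((Pi.linearIndependent_single_one α ℚ).comp _ fun i j h => Fin.ext (Function.iterate_injOn_Iio_minimalPeriod
      (f := (g : Perm α)) (x := x) (h2 ▸ i.2) (h2 ▸ j.2) h))
    (insert (e x) (Set.range fun i => e (a i) - e (b i))) (by
      rintro _ ⟨i, rfl⟩
      simpa using Submodule.add_mem _ (Submodule.span_mono (Set.subset_insert _ _) (h1 _ (pow_mem g.2 i) x))
        (Submodule.subset_span (Set.mem_insert (e x) _)))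
  rw [Fintype.card_fin, ← Nat.card_eq_fintype_card, Nat.card_coe_set_eq] at h3
  refine h3.trans ((Set.ncard_insert_le _ _).trans (Nat.add_le_add_right ?_ _))
  rw [← Nat.card_coe_set_eq, Nat.card_eq_fintype_card]
  exact Fintype.card_range_le _
end

/-- Let r be a prime and m a natural number with m + 1 < r, and let π be a set of primes containing every prime below r but not r itself. Then in the symmetric group of degree r any m transpositions generate a π-subgroup, while O_π of the symmetric group is trivial. (So no bound on the number of conjugates that works for all π exists in the π-radical analogue of the Baer–Suzuki Theorem.) -/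
theorem result (r m : ℕ) (hr : r.Prime)
    (hm : m + 1 < r) (π : Set ℕ) (hπ : ∀ q : ℕ, q.Prime → q < r → q ∈ π) (hrπ : r ∉ π)
    (t : Fin m → Equiv.Perm (Fin r)) (ht : ∀ i, (t i).IsSwap) :
    Cfsg.IsPiSubgroup π (Subgroup.closure (Set.range t)) ∧ Cfsg.piCore π (Equiv.Perm (Fin r)) = ⊥ := by
  open Pointwise commutatorElement Subgroup Cfsg.Agent.Solv in
  refine ⟨fun q hq h => hπ q hq ((le_of_prime_dvd t ht hq h).trans_lt (by simpa)), by_contra fun h => hrπ ?_⟩
  refine piCore_spec (G := Equiv.Perm (Fin r)) π r hr ?_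
  have := MulAction.IsQuasiPreprimitive.isPretransitive_of_normal (X := Fin r) (N := piCore π (Equiv.Perm (Fin r))) fun h1 =>
    h (eq_bot_iff.2 fun g hg => Equiv.ext fun x => (h1 ▸ Set.mem_univ x : x ∈ MulAction.fixedPoints _ _) ⟨g, hg⟩)
  have h1 := index_dvd_card (MulAction.stabilizer (piCore π (Equiv.Perm (Fin r))) (⟨0, hr.pos⟩ : Fin r))
  rwa [MulAction.index_stabilizer_of_transitive, Nat.card_fin] at h1

end Cfsg.Agent.S4325
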