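import Cfsg.Statements.S4326
import Cfsg.Agent.Lib.Solv.Basic
import Mathlib.GroupTheory.Perm.Cycle.Type

set_option autoImplicit false
open Pointwise
open Cfsg

namespace Cfsg.Agent.S4326

/-- Let G be a finite group, p a prime, x an automorphism of G of p-power order and M the subgroup of fixed points of x. Suppose that p divides the index of M and that either M is self-normalizing or M has trivial center. Then some conjugate of M is mapped onto itself by x but is not fixed elementwise by x. -/
theorem result {G : Type*} [Group G] [Finite G]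
    (p : ℕ) [Fact p.Prime] (x : MulAut G) (hx : ∃ k : ℕ, orderOf x = p ^ k) (M : Subgroup G)
    (hM : ∀ g : G, g ∈ M ↔ x g = g) (hp : p ∣ M.index)
    (hself : Subgroup.normalizer (M : Set G) = M ∨ Subgroup.center M = ⊥) :
    ∃ g : G, (∀ y ∈ MulAut.conj g • M, x y ∈ MulAut.conj g • M) ∧ ∃ y ∈ MulAut.conj g • M, x y ≠ y := by
  open Pointwise commutatorElement Subgroup Cfsg.Agent.Solv in
  classical
  obtain ⟨k, hk⟩ := hx
  have := Fintype.ofFinite (G ⧸ M)
  let σ : Equiv.Perm (G ⧸ M) := Quotient.congr x.toEquiv fun a b => by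
    rw [QuotientGroup.leftRel_apply, QuotientGroup.leftRel_apply]
    change _ ↔ (x a)⁻¹ * x b ∈ M
    rw [← map_inv, ← map_mul, hM, hM, x.injective.eq_iff]
  have hσ : ∀ (n : ℕ) (g : G), (σ ^ n) (g : G ⧸ M) = ((x ^ n) g : G) := by
    intro n
    induction n with
    | zero => intro g; rfl
    | succ n ih => intro g; rw [pow_succ', pow_succ', Equiv.Perm.mul_apply, ih]; rfl
  have h1 : σ ^ p ^ k = 1 := by
    ext q
    obtain ⟨g, rfl⟩ := QuotientGroup.mk_surjective q
    rw [hσ, ← hk, pow_orderOf_eq_one]; rfl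
  obtain ⟨q, hq, hq1⟩ := Equiv.Perm.exists_fixed_point_of_prime' (p := p) (n := k)
    (by rw [← Nat.card_eq_fintype_card]; exact hp) h1 (a := ((1 : G) : G ⧸ M))
    (show ((x 1 : G) : G ⧸ M) = _ by rw [map_one])
  obtain ⟨g, rfl⟩ := QuotientGroup.mk_surjective q
  have hg : g ∉ M := fun h => hq1 (QuotientGroup.eq.2 (by simpa using h))
  have hm : g⁻¹ * x g ∈ M := QuotientGroup.eq.1 hq.symm
  have key : ∀ y : G, g⁻¹ * y * g ∈ M → g⁻¹ * x y * g = (g⁻¹ * x g) * (g⁻¹ * y * g) * (g⁻¹ * x g)⁻¹ := by
    intro y hy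
    rw [← (hM _).1 hy]
    simp [mul_assoc]
  refine ⟨g, fun y hy => ?_, ?_⟩
  · rw [mem_conj_smul] at hy ⊢
    rw [key y hy]
    exact mul_mem (mul_mem hm hy) (inv_mem hm)
  · by_contra hc
    push Not at hc
    rcases hself with h | h
    · refine hg (h ▸ mem_normalizer_of_conj_mem fun y hy => (hM _).2 (hc _ (conj_mem_conj_smul g hy)))
    · have : (⟨_, hm⟩ : M) ∈ center M := by
        rw [mem_center_iff]
        intro y
        apply Subtype.ext
        have h2 := key (g * y * g⁻¹) (by simp [mul_assoc])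
        rw [hc _ (conj_mem_conj_smul g y.2), eq_mul_inv_iff_mul_eq] at h2
        simpa [mul_assoc] using h2
      rw [h, mem_bot, Subtype.ext_iff] at this
      exact hg ((hM g).2 (inv_mul_eq_one.1 this).symm)

end Cfsg.Agent.S4326
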