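import Cfsg.Statements.S4331
import Cfsg.Agent.Lib.Solv.Zip

set_option autoImplicit false
open Cfsg

namespace Cfsg.Agent.S4331

set_option linter.style.haveILetI false
open Subgroup
open scoped commutatorElement

/-- the group `AΓL(1, 9)` -/
def Gp : Type := {p : (ZMod 3 × ZMod 3) × (ZMod 3 × ZMod 3) × ZMod 3 // p.2.1 ≠ 0 ∧ p.2.2 ≠ 0}

instance : DecidableEq Gp := inferInstanceAs (DecidableEq (Subtype _))
instance : Fintype Gp := inferInstanceAs (Fintype (Subtype _))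

def tw (z : ZMod 3 × ZMod 3) (s : ZMod 3) (w : ZMod 3 × ZMod 3) : ZMod 3 × ZMod 3 :=
  (z.1 * w.1 - s * z.2 * w.2, z.2 * w.1 + s * z.1 * w.2)

theorem tw_ne : ∀ z s w, z ≠ 0 → s ≠ 0 → w ≠ 0 → tw z s w ≠ 0 := by decide +kernel
theorem sq1 : ∀ s : ZMod 3, s ≠ 0 → s * s = 1 := by decide
theorem inv_ne : ∀ (z : ZMod 3 × ZMod 3) (s : ZMod 3), z ≠ 0 → s ≠ 0 →
    ((z.1 * z.1 + z.2 * z.2) * z.1, -(s * (z.1 * z.1 + z.2 * z.2) * z.2)) ≠ 0 := by decide +kernel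

instance : Mul Gp := ⟨fun x y => ⟨(x.1.1 + tw x.1.2.1 x.1.2.2 y.1.1, tw x.1.2.1 x.1.2.2 y.1.2.1, x.1.2.2 * y.1.2.2),
  tw_ne _ _ _ x.2.1 x.2.2 y.2.1, mul_ne_zero x.2.2 y.2.2⟩⟩
instance : One Gp := ⟨⟨(0, (1, 0), 1), by decide⟩⟩
instance : Inv Gp := ⟨fun x => ⟨(-tw ((x.1.2.1.1 * x.1.2.1.1 + x.1.2.1.2 * x.1.2.1.2) * x.1.2.1.1,
    -(x.1.2.2 * (x.1.2.1.1 * x.1.2.1.1 + x.1.2.1.2 * x.1.2.1.2) * x.1.2.1.2)) x.1.2.2 x.1.1,
  ((x.1.2.1.1 * x.1.2.1.1 + x.1.2.1.2 * x.1.2.1.2) * x.1.2.1.1,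
    -(x.1.2.2 * (x.1.2.1.1 * x.1.2.1.1 + x.1.2.1.2 * x.1.2.1.2) * x.1.2.1.2)), x.1.2.2), inv_ne _ _ x.2.1 x.2.2, x.2.2⟩⟩

theorem mul_val (x y : Gp) : (x * y).1 =
    (x.1.1 + tw x.1.2.1 x.1.2.2 y.1.1, tw x.1.2.1 x.1.2.2 y.1.2.1, x.1.2.2 * y.1.2.2) := rfl

theorem tw_tw (z : ZMod 3 × ZMod 3) {s : ZMod 3} (hs : s ≠ 0) (w : ZMod 3 × ZMod 3) (r : ZMod 3) (u : ZMod 3 × ZMod 3) :
    tw (tw z s w) (s * r) u = tw z s (tw w r u) := by
  have := sq1 s hs
  ext <;> simp only [tw]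
  · linear_combination (-(r * z.1 * w.2 * u.2)) * this
  · linear_combination (-(r * z.2 * w.2 * u.2)) * this

theorem tw_add (z : ZMod 3 × ZMod 3) (s : ZMod 3) (w u : ZMod 3 × ZMod 3) : tw z s (w + u) = tw z s w + tw z s u := by
  ext <;> simp only [tw, Prod.fst_add, Prod.snd_add] <;> ring

instance : Group Gp := Group.ofLeftAxioms
  (fun x y z => Subtype.ext (by simp only [mul_val, tw_tw _ x.2.2, tw_add, add_assoc, mul_assoc]))
  (by decide +kernel) (by decide +kernel)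

def tt : Gp := ⟨(0, (1, 0), -1), by decide⟩

def K0 : Subgroup Gp where
  carrier := {g | g.1.1 = 0}
  one_mem' := rfl
  mul_mem' := fun {a b} ha hb => by
    simp only [Set.mem_setOf_eq, mul_val] at *
    rw [ha, hb]; simp [tw]
  inv_mem' := fun {a} => (by decide +kernel : ∀ a : Gp, a.1.1 = 0 → a⁻¹.1.1 = 0) a

def K1 : Subgroup Gp where
  carrier := {g | g.1.2.2 = 1}
  one_mem' := rfl
  mul_mem' := fun {a b} ha hb => by
    simp only [Set.mem_setOf_eq, mul_val] at *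
    rw [ha, hb, mul_one]
  inv_mem' := fun {a} ha => ha

def K2 : Subgroup Gp where
  carrier := {g | g.1.2 = ((1, 0), 1)}
  one_mem' := rfl
  mul_mem' := fun {a b} ha hb => by
    simp only [Set.mem_setOf_eq, mul_val] at *
    rw [ha, hb]; simp [tw]
  inv_mem' := fun {a} => (by decide +kernel : ∀ a : Gp, a.1.2 = ((1, 0), 1) → a⁻¹.1.2 = ((1, 0), 1)) a

theorem c1 (x y : Gp) : ⁅x, y⁆ ∈ K1 := by
  show x.1.2.2 * y.1.2.2 * x.1.2.2 * y.1.2.2 = 1
  linear_combination (y.1.2.2 * y.1.2.2) * sq1 _ x.2.2 + sq1 _ y.2.2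

theorem c2 : ∀ x : Gp, x.1.2.2 = 1 → ∀ y : Gp, y.1.2.2 = 1 → (x * y * x⁻¹ * y⁻¹).1.2 = ((1, 0), 1) := by
  decide +kernel

theorem c3 : ∀ x : Gp, x.1.2 = ((1, 0), 1) → ∀ y : Gp, y.1.2 = ((1, 0), 1) → x * y * x⁻¹ * y⁻¹ = 1 := by
  decide +kernel

theorem solv : Group.IsSolvable Gp := by
  have h1 : derivedSeries Gp 1 ≤ K1 := commutator_le.2 fun x _ y _ => c1 x y
  have h2 : derivedSeries Gp 2 ≤ K2 := commutator_le.2 fun x hx y hy => c2 x (h1 hx) y (h1 hy)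
  exact ⟨3, eq_bot_iff.2 (commutator_le.2 fun x hx y hy => c3 x (h2 hx) y (h2 hy))⟩

theorem cls : ∀ c : Gp, ∃ h : Gp, (h * c * h⁻¹).1.1 = 0 ∨ h * c * h⁻¹ * tt = tt * (h * c * h⁻¹) := by
  decide +kernel

theorem k0 : ∀ g : Gp, g.1.1 = 0 → g * g * g * g * g * g * g * g = 1 := by decide +kernel

/-- There is a finite solvable group G with a subgroup A of order 2 such that every conjugacy class of G contains an element g for which A is subnormal in the subgroup generated by A and g, and yet A is not contained in O_2(G). (So the corresponding criteria for odd primes fail at the prime 2, even for solvable groups.) -/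
theorem result :
    ∃ (G : Type) (_ : Group G) (_ : Finite G) (A : Subgroup G), Group.IsSolvable G ∧ Nat.card A = 2 ∧
      (∀ c : G, ∃ g : G, IsConj c g ∧ (A.subgroupOf (A ⊔ Subgroup.zpowers g)).IsSubnormal) ∧
      ¬ A ≤ Cfsg.pCore 2 G := by
  have ht : orderOf tt = 2 := orderOf_eq_prime (by rw [sq]; decide +kernel) (by decide +kernel)
  refine ⟨Gp, inferInstance, inferInstance, zpowers tt, solv, by rw [Nat.card_zpowers, ht], fun c => ?_, fun h => ?_⟩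
  · obtain ⟨h, hh⟩ := cls c
    refine ⟨h * c * h⁻¹, isConj_iff.2 ⟨h, rfl⟩, ?_⟩
    rcases hh with hh | hh
    · have hle : zpowers tt ⊔ zpowers (h * c * h⁻¹) ≤ K0 := sup_le (zpowers_le.2 rfl) (zpowers_le.2 hh)
      have hP : IsPGroup 2 K0 := fun g => ⟨3, Subtype.ext (by simpa [pow_succ] using k0 g.1 g.2)⟩
      haveI := (hP.to_le hle).isNilpotent
      exact Solv.isSubnormal_of_le_nilpotent_normal (N := ⊤) inferInstance le_top
    · have hle : zpowers tt ⊔ zpowers (h * c * h⁻¹) ≤ centralizer {tt} :=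
        sup_le (zpowers_le.2 (mem_centralizer_singleton_iff.2 rfl)) (zpowers_le.2 (mem_centralizer_singleton_iff.2 hh))
      refine Subgroup.Normal.isSubnormal ⟨?_⟩
      rintro ⟨a, ha⟩ ⟨k, rfl⟩ ⟨g, hg⟩
      refine ⟨k, ?_⟩
      have := (show Commute g tt from mem_centralizer_singleton_iff.1 (hle hg)).zpow_right k
      show tt ^ k = g * tt ^ k * g⁻¹
      rw [this.eq, mul_inv_cancel_right]
  · let u : Gp := ⟨((0, 1), (1, 0), 1), by decide⟩
    have h1 := h (mem_zpowers tt)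
    have h2 := mul_mem h1 ((inferInstance : (pCore 2 Gp).Normal).conj_mem _ h1 u)
    obtain ⟨k, hk⟩ := IsPGroup.iff_orderOf.1 (Solv.isPGroup_pCore 2 Gp) ⟨_, h2⟩
    have h3 : orderOf (tt * (u * tt * u⁻¹)) = 3 :=
      orderOf_eq_prime (by rw [pow_succ, sq]; decide +kernel) (by decide +kernel)
    rw [orderOf_mk, h3] at hk
    exact absurd (Nat.prime_three.dvd_of_dvd_pow hk.dvd) (by decide)

end Cfsg.Agent.S4331
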