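import Cfsg.Statements.S4332

set_option autoImplicit false
open Pointwise
open Cfsg

namespace Cfsg.Agent.S4332

open Equiv Equiv.Perm in
theorem of_indep (c : Perm (Fin 8)) {x y z : Fin 8} (hxy : x ≠ y) (hxz : x ≠ z) (hyz : y ≠ z)
    (h : ∀ a ∈ ({x, y, z} : Finset (Fin 8)), c a ∉ ({x, y, z} : Finset (Fin 8))) :
    ∃ τ : Perm (Fin 8), τ.IsThreeCycle ∧ Commute τ (c * τ * c⁻¹) := by
  refine ⟨_, isThreeCycle_swap_mul_swap_same hxy hxz hyz, Disjoint.commute ?_⟩
  have hs : (swap x y * swap x z).support ⊆ {x, y, z} := fun a ha => by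
    by_contra h'
    simp only [Finset.mem_insert, Finset.mem_singleton, not_or] at h'
    simp [swap_apply_of_ne_of_ne, h'.1, h'.2.1, h'.2.2] at ha
  rw [disjoint_iff_disjoint_support, support_conj, Finset.disjoint_right]
  intro a ha ha'
  obtain ⟨b, hb, rfl⟩ := Finset.mem_map.1 ha
  exact h b (hs hb) (hs ha')

open Equiv Equiv.Perm in
theorem exists_three (c : Perm (Fin 8)) :
    ∃ τ : Perm (Fin 8), τ.IsThreeCycle ∧ Commute τ (c * τ * c⁻¹) := by
  by_cases h6 : c.support.card ≤ 5
  · have : 2 < c.supportᶜ.card := by rw [Finset.card_compl, Fintype.card_fin]; omega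
    obtain ⟨x, y, z, hx, hy, hz, hxy, hxz, hyz⟩ := Finset.two_lt_card_iff.1 this
    simp only [Finset.mem_compl, notMem_support] at hx hy hz
    refine ⟨_, isThreeCycle_swap_mul_swap_same hxy hxz hyz, ?_⟩
    rw [← MulAut.conj_apply, map_mul, MulAut.conj_apply, MulAut.conj_apply, ← swap_apply_apply,
      ← swap_apply_apply, hx, hy, hz]
  have hpick : ∀ s : Finset (Fin 8), s.card ≤ 5 → ∃ z, c z ≠ z ∧ z ∉ s := fun s hs => by
    by_contra h
    push Not at h
    have := Finset.card_le_card (show c.support ⊆ s from fun z hz => h z (mem_support.1 hz))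
    omega
  by_cases h2 : ∀ x, c (c x) = x
  · obtain ⟨x, hx, -⟩ := hpick ∅ (by simp)
    obtain ⟨y, hy, hy'⟩ := hpick {x, c x} (Finset.card_le_two.trans (by omega))
    obtain ⟨z, hz, hz'⟩ := hpick {x, c x, y, c y} (Finset.card_le_four.trans (by omega))
    simp only [Finset.mem_insert, Finset.mem_singleton, not_or] at hy' hz'
    refine of_indep c (Ne.symm hy'.1) (Ne.symm hz'.1) (Ne.symm hz'.2.2.1) fun a ha => ?_
    have := h2 y
    have := h2 z
    simp only [Finset.mem_insert, Finset.mem_singleton, not_or] at ha ⊢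
    grind
  push Not at h2
  obtain ⟨x, hx⟩ := h2
  have hx1 : c x ≠ x := fun h => hx (by rw [h, h])
  have hx2 : c x ≠ c (c x) := fun h => hx1 (c.injective h).symm
  by_cases h3 : c (c (c x)) = x
  · refine ⟨_, isThreeCycle_swap_mul_swap_same hx1.symm hx.symm hx2, ?_⟩
    rw [← MulAut.conj_apply, map_mul, MulAut.conj_apply, MulAut.conj_apply, ← swap_apply_apply,
      ← swap_apply_apply, h3]
    generalize c (c x) = z at *
    generalize c x = y at *
    ext a
    simp only [mul_apply, swap_apply_def]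
    grind
  · obtain ⟨z, hz, hz'⟩ := hpick {c⁻¹ x, x, c x, c (c x), c (c (c x))} Finset.card_le_five
    simp only [Finset.mem_insert, Finset.mem_singleton, not_or] at hz'
    refine of_indep c hx.symm (Ne.symm hz'.2.1) (Ne.symm hz'.2.2.2.1) fun a ha => ?_
    have h4 : c z ≠ x := fun h => hz'.1 (by rw [← h]; simp)
    have h5 : c z ≠ c (c x) := fun h => hz'.2.2.1 (c.injective h)
    have h6 : c (c (c x)) ≠ c (c x) := fun h => hx2 (c.injective h).symm
    simp only [Finset.mem_insert, Finset.mem_singleton, not_or] at ha ⊢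
    grind


/-- In the symmetric group of degree 8, let A be the subgroup generated by a 3-cycle. Then every conjugacy class contains an element g for which A is subnormal in the subgroup generated by A and its conjugate by g, although O_3 of the symmetric group of degree 8 is trivial. -/
theorem result
    (σ : Equiv.Perm (Fin 8)) (hσ : σ.IsThreeCycle) :
    (∀ c : Equiv.Perm (Fin 8), ∃ g : Equiv.Perm (Fin 8), IsConj c g ∧
      ((Subgroup.zpowers σ).subgroupOf (Subgroup.zpowers σ ⊔ MulAut.conj g • Subgroup.zpowers σ)).IsSubnormal) ∧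
    Cfsg.pCore 3 (Equiv.Perm (Fin 8)) = ⊥ := by
  refine ⟨fun c => ?_, ?_⟩
  · obtain ⟨τ, hτ, hc⟩ := exists_three c
    obtain ⟨h, rfl⟩ := isConj_iff.1 (Equiv.Perm.isConj_iff_cycleType_eq.2 (hτ.cycleType.trans hσ.cycleType.symm))
    refine ⟨h * c * h⁻¹, isConj_iff.2 ⟨h, rfl⟩, Subgroup.Normal.isSubnormal ?_⟩
    have h1 : MulAut.conj (h * c * h⁻¹) • Subgroup.zpowers (h * τ * h⁻¹) =
        Subgroup.zpowers (h * (c * τ * c⁻¹) * h⁻¹) := by
      refine (MonoidHom.map_zpowers (MulAut.conj (h * c * h⁻¹)).toMonoidHom _).trans ?_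
      congr 1
      simp [mul_assoc]
    have h2 : Commute (h * τ * h⁻¹) (h * (c * τ * c⁻¹) * h⁻¹) := hc.map (MulAut.conj h)
    rw [h1, Subgroup.normal_subgroupOf_iff_le_normalizer le_sup_left]
    refine sup_le Subgroup.le_normalizer (le_trans ?_ (Subgroup.centralizer_le_normalizer _))
    rw [Subgroup.zpowers_le]
    rintro _ ⟨k, rfl⟩
    exact h2.zpow_left k
  · refine eq_bot_iff.2 (sSup_le fun N ⟨hN, hp⟩ => le_of_eq ?_)
    by_contra h
    have h1 := Equiv.Perm.alternatingGroup_le_of_normal (by simp) ((Subgroup.nontrivial_iff_ne_bot N).2 h)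
    obtain ⟨k, hk⟩ := hp ⟨Equiv.swap 0 1 * Equiv.swap 2 3, h1 (by simp [Equiv.Perm.mem_alternatingGroup])⟩
    have h2 : (Equiv.swap 0 1 * Equiv.swap 2 3 : Equiv.Perm (Fin 8)) ^ 3 ^ k = 1 := congrArg Subtype.val hk
    obtain ⟨m, hm⟩ : Odd (3 ^ k) := Odd.pow (by decide)
    rw [hm, pow_succ, pow_mul, show (Equiv.swap 0 1 * Equiv.swap 2 3 : Equiv.Perm (Fin 8)) ^ 2 = 1 by decide,
      one_pow, one_mul] at h2
    revert h2; decide

end Cfsg.Agent.S4332
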