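import Cfsg.Statements.S4333
import Cfsg.Agent.Lib.BG.Zip2

set_option autoImplicit false
open Pointwise
open Cfsg

namespace Cfsg.Agent.S4333

/-- Let A be a subgroup of a finite group G. If A is subnormal in the subgroup generated by A and its conjugate by g⁻¹ a g, for every a ∈ A and every g ∈ G, then A is subnormal in G. (A sharpening of Wielandt's subnormality criterion: only conjugates of A by conjugates of elements of A are needed.) -/
theorem result {G : Type*} [Group G] [Finite G]
    (A : Subgroup G)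
    (h : ∀ a ∈ A, ∀ g : G, (A.subgroupOf (A ⊔ MulAut.conj (g⁻¹ * a * g) • A)).IsSubnormal) :
    A.IsSubnormal := by
  open Pointwise commutatorElement Subgroup in
  open Cfsg.Agent.Comp Cfsg.Agent.BG Cfsg.Agent.Zip2 Subgroup commutatorElement in
  refine (subnIn_of_zip ⊤ le_top fun M K _ k1 k2 k3 k4 k5 => k2.not_ge fun x hx => k5 x hx (cj_le_iff'.2 fun a ha => ?_)).isSubnormal
  have y1 : x * a * x⁻¹ ∈ M := mul_mem (mul_mem hx (k2.le (k1 ha))) (inv_mem hx)
  have := h a ha x⁻¹
  rw [inv_inv, ← cj_smul] at this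
  exact k5 _ y1 (le_sup_right.trans (k3 _ le_sup_left (lt_of_le_of_ne (sup_le (k1.trans k2.le)
    (cj_le_of_mem (k1.trans k2.le) (le_normalizer y1))) fun e => k4 (e ▸ subnIn_iff.2 ⟨le_sup_left, this⟩))))

end Cfsg.Agent.S4333
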