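import Cfsg.Statements.S4334
import Cfsg.Agent.Lib.BG.MinNA

set_option autoImplicit false
open Cfsg

namespace Cfsg.Agent.S4334
section
open Pointwise commutatorElement Subgroup
open Cfsg.Agent.Comp Cfsg.Agent.BG Subgroup commutatorElement in
theorem step {G : Type*} [Group G] [Finite G] {p : ℕ} [hp : Fact p.Prime] {τ : Set ℕ} {P T : Subgroup G}
    (hP : SylIn p P ⊤) (hT : HallIn τ T ⊤) (hc : P ≤ Ct(T)) (hC : ∀ K, IsPi τ K → ∃ g, cj(g, K) ≤ T)
    (K : Subgroup G) (hK : IsPi (insert p τ) K) : ∃ g, cj(g, K) ≤ P ⊔ T := by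
  have pairB : ∀ (X Y : Subgroup G) (q : ℕ), q.Prime → q ∈ τ → IsPGroup p X → IsPGroup q Y → Y ≤ Nm(X) → Y ≤ Ct(X) := by
    intro X Y q hq hqτ hX hY hn
    haveI : Fact q.Prime := ⟨hq⟩
    obtain ⟨g, -, hg⟩ := hP.exists_cj_le hX le_top
    have h1 : T ≤ Ct(cj(g, X)) := (Subgroup.le_centralizer_iff.1 hc).trans (centralizer_le hg)
    obtain ⟨S, hS⟩ := exists_sylIn q T
    have h2 := (hT.sylIn hqτ hS).of_le (hS.le.trans (h1.trans (centralizer_le_normalizer _))) le_top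
    obtain ⟨k, hk, h3⟩ := h2.exists_le_cj (Q := cj(g, Y)) (isPGroup_cj_iff.2 hY) (map_le_normalizer_map _ hn)
    have h4 : cj(g, Y) ≤ Ct(cj(g, X)) := by
      refine h3.trans ((Comp.cj_mono _ (hS.le.trans h1)).trans ?_)
      rw [Comp.cj_centralizer, Comp.cj_eq_self_iff.2 hk]
    rw [← Comp.cj_centralizer] at h4
    exact Comp.cj_le_cj_iff.1 h4
  have hN : HasNormalPComplement p K := by
    by_contra hn
    obtain ⟨q, hq, hqp, Q, g, h1, h2, h3, h4⟩ := Solv.exists_pair_of_not_hasNPC hn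
    haveI : Fact q.Prime := ⟨hq⟩
    have h5 : zpowers g ≠ ⊥ := by
      intro e
      rw [zpowers_eq_bot] at e
      exact h4 (e ▸ one_mem _)
    have h6 : q ∈ τ := (hK q hq ((Comp.dvd_card_of_isPGroup h2 h5).trans (card_subgroup_dvd_card _))).resolve_left hqp
    have h7 := pairB (Q.map K.subtype) ((zpowers g).map K.subtype) q hq h6 (h1.map _) (h2.map _)
      (map_le_normalizer_map _ (zpowers_le.2 h3))
    apply h4
    intro y hy
    exact Subtype.ext (h7 (mem_map_of_mem _ (mem_zpowers g)) y (mem_map_of_mem _ hy))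
  obtain ⟨X, hX⟩ := exists_sylIn p K
  have e := (hasNPC_iff_sup hX).1 hN
  have hR : IsPi τ (Opp p K) := by
    intro q hq hd
    refine (hK q hq (hd.trans (Subgroup.card_dvd_of_le (Opp_le p K)))).resolve_left ?_
    rintro rfl
    exact (Nat.Prime.coprime_iff_not_dvd hq).1 (coprime_Opp q K).symm hd
  obtain ⟨g, hg⟩ := hC _ hR
  have h1 : P ≤ Nm(cj(g, Opp p K)) := hc.trans ((centralizer_le hg).trans (centralizer_le_normalizer _))
  obtain ⟨k, hk, h3⟩ := (hP.of_le h1 le_top).exists_cj_le (Q := cj(g, X)) (isPGroup_cj_iff.2 hX.isP)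
    (map_le_normalizer_map _ (hX.le.trans (le_normalizer_Opp le_normalizer)))
  refine ⟨k * g, ?_⟩
  rw [← e, Comp.cj_mul, Subgroup.map_sup, Subgroup.map_sup, Comp.cj_eq_self_iff.2 hk, sup_comm]
  exact sup_le_sup h3 hg

open Cfsg.Agent.Comp Cfsg.Agent.BG Subgroup commutatorElement in
theorem ind {G : Type*} [Group G] [Finite G] {τ : Set ℕ} {Ht : Subgroup G} (ht : IsPi τ Ht)
    (hC : ∀ K, IsPi τ K → ∃ g, cj(g, K) ≤ Ht) (n : ℕ) : ∀ (σ : Set ℕ) (Hs : Subgroup G), Nat.card Hs = n →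
    Disjoint σ τ → HallIn (σ ∪ τ) (Hs ⊔ Ht) ⊤ → IsPi σ Hs → Group.IsNilpotent Hs → Hs ≤ Ct(Ht) →
    ∀ K, IsPi (σ ∪ τ) K → ∃ g, cj(g, K) ≤ Hs ⊔ Ht := by
  induction n using Nat.strong_induction_on with
  | _ n ih =>
  intro σ Hs hn hd hH hs hnil hc K hK
  by_cases hb : Hs = ⊥
  · rw [hb, bot_sup_eq] at hH ⊢
    exact hC K fun q hq h => ht q hq (h.trans (hH.card_dvd le_top hK))
  obtain ⟨p, hp, hpd⟩ := Nat.exists_prime_and_dvd (mt Subgroup.card_eq_one.1 hb)
  haveI : Fact p.Prime := ⟨hp⟩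
  have hpσ := hs p hp hpd
  have e := Op_sup_Opp_of_isNilpotent (p := p) hnil
  have hcop := coprime_Opp p Hs
  have h1 : IsPi (σ \ {p}) (Opp p Hs) := by
    intro q hq h
    refine ⟨hs q hq (h.trans (Subgroup.card_dvd_of_le (Opp_le p Hs))), ?_⟩
    rintro rfl
    exact (Nat.Prime.coprime_iff_not_dvd hq).1 hcop.symm h
  have h2 : Opp p Hs ≤ Ct(Ht) := (Opp_le p Hs).trans hc
  have h3 : IsPi (σ \ {p} ∪ τ) (Opp p Hs ⊔ Ht : Subgroup G) :=
    IsPi.sup (h1.mono Set.subset_union_left) (ht.mono Set.subset_union_right) (h2.trans (centralizer_le_normalizer _))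
  have hpn : p ∉ σ \ {p} ∪ τ := by
    rintro (h | h)
    · exact h.2 rfl
    · exact Set.disjoint_left.1 hd hpσ h
  have h4 : Op p Hs ≤ Ct((Opp p Hs ⊔ Ht : Subgroup G)) := by
    rw [Subgroup.le_centralizer_iff, sup_le_iff]
    refine ⟨le_Ct_of_coprime ((Opp_le p Hs).trans (le_normalizer_Op le_normalizer))
      ((Op_le p Hs).trans (le_normalizer_Opp le_normalizer)) (Solv.coprime_card_of_isPGroup' (isPGroup_Op p Hs) hcop),
      Subgroup.le_centralizer_iff.1 ((Op_le p Hs).trans hc)⟩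
  have e2 : Op p Hs ⊔ (Opp p Hs ⊔ Ht) = Hs ⊔ Ht := by rw [← sup_assoc, e]
  have h5 : HallIn (σ \ {p} ∪ τ) (Opp p Hs ⊔ Ht) ⊤ := by
    have := hallIn_sup_right h3 (isPi_of_isPGroup (isPGroup_Op p Hs) hpn) (Or.inr (h4.trans (centralizer_le_normalizer _)))
    rw [e2] at this
    exact this.trans hH (Set.union_subset_union_left _ Set.diff_subset)
  have h6 : SylIn p (Op p Hs) ⊤ := by
    have := sylIn_sup_left (K := Opp p Hs ⊔ Ht) (isPGroup_Op p Hs)
      (isPi_compl_singleton.1 (h3.mono fun q hq e => hpn (e ▸ hq))) (Or.inl (h4.trans (centralizer_le_normalizer _)))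
    rw [e2] at this
    exact hH.sylIn (Or.inl hpσ) this
  have h7 : Nat.card (Opp p Hs) < n := by
    rw [← hn]
    refine Comp.card_lt_of_lt (lt_of_le_of_ne (Opp_le p Hs) fun e => ?_)
    rw [e] at hcop
    exact (Nat.Prime.coprime_iff_not_dvd hp).1 hcop.symm hpd
  have h8 := ih _ h7 _ _ rfl (hd.mono_left Set.diff_subset) h5 h1 (Comp.isNilpotent_of_le (Opp_le p Hs) hnil) h2
  rw [← e2]
  refine step h6 h5 h4 h8 K (hK.mono ?_)
  rintro q (h | h)
  · by_cases e : q = p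
    · exact Or.inl e
    · exact Or.inr (Or.inl ⟨h, e⟩)
  · exact Or.inr (Or.inr h)
end

/-- Let σ and τ be disjoint sets of primes with union π. Suppose a finite group G has a Hall π-subgroup H which is the direct product of a nilpotent σ-subgroup and a τ-subgroup (two elementwise-commuting subgroups generating H), and that the maximal τ-subgroups of G are pairwise conjugate. Then the maximal π-subgroups of G are pairwise conjugate. -/
theorem result {G : Type*} [Group G] [Finite G]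
    (σ τ π : Set ℕ) (hπ : π = σ ∪ τ) (hd : Disjoint σ τ) (H Hs Ht : Subgroup G) (hH : Cfsg.IsPiHall π H)
    (hs : Cfsg.IsPiSubgroup σ Hs) (ht : Cfsg.IsPiSubgroup τ Ht) (hsn : Group.IsNilpotent Hs)
    (hjoin : Hs ⊔ Ht = H) (hcomm : ∀ a ∈ Hs, ∀ b ∈ Ht, a * b = b * a) (hD : Cfsg.IsDPiGroup τ G) :
    Cfsg.IsDPiGroup π G := by
  open Pointwise commutatorElement Subgroup in
  open Cfsg.Agent.Comp Cfsg.Agent.BG Subgroup commutatorElement in
  subst hπ hjoin
  have hc : Hs ≤ Ct(Ht) := fun a ha b hb => (hcomm a ha b hb).symm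
  have hH' := hallIn_top_iff.2 hH
  have hT : HallIn τ Ht ⊤ := (hallIn_sup_right (H := Ht) (K := Hs) ht
    (PiN.mono hs (Set.disjoint_left.1 hd)) (Or.inr (hc.trans (centralizer_le_normalizer _)))).trans hH'
    Set.subset_union_right
  have hC : ∀ K, IsPi τ K → ∃ g, cj(g, K) ≤ Ht := by
    intro K hK
    obtain ⟨L, h1, h2⟩ := Finite.exists_le_maximal (p := IsPiSubgroup τ) hK
    obtain ⟨g, hg⟩ := hD L Ht h2 ⟨ht, fun Y hY h => (hT.eq_of_le le_top hY h).le⟩
    exact ⟨g, hg ▸ Subgroup.map_mono h1⟩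
  have key := ind ht hC _ σ Hs rfl hd hH' hs hsn hc
  have fin : ∀ K, Maximal (IsPiSubgroup (σ ∪ τ)) K → ∃ g, cj(g, K) = Hs ⊔ Ht := by
    intro K hK
    obtain ⟨g, hg⟩ := key K hK.1
    refine ⟨g, le_antisymm hg ?_⟩
    have h1 : K ≤ cj(g⁻¹, Hs ⊔ Ht) := by
      have := Comp.cj_mono g⁻¹ hg
      rwa [Comp.cj_inv_cj] at this
    have := Comp.cj_mono g (hK.2 (hH'.cj g⁻¹).isPi h1)
    rwa [Comp.cj_cj_inv] at this
  intro K L hK hL
  obtain ⟨g, hg⟩ := fin K hK
  obtain ⟨h, hh⟩ := fin L hL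
  refine ⟨h⁻¹ * g, ?_⟩
  rw [Comp.cj_mul, hg, ← hh, Comp.cj_inv_cj]

end Cfsg.Agent.S4334
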