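import Cfsg.Statements.S4337
import Cfsg.Agent.S4325
import Cfsg.Agent.S0144

set_option autoImplicit false
open Cfsg

namespace Cfsg.Agent.S4337

/-- In a finite symmetric group, any three transpositions generate a solvable subgroup. -/
theorem result (n : ℕ) (a b c : Equiv.Perm (Fin n))
    (ha : a.IsSwap) (hb : b.IsSwap) (hc : c.IsSwap) :
    Group.IsSolvable (Subgroup.closure ({a, b, c} : Set (Equiv.Perm (Fin n)))) := by
  open Pointwise commutatorElement Subgroup in
  have h1 : ∀ q : ℕ, q.Prime → q ∣ Nat.card (closure ({a, b, c} : Set (Equiv.Perm (Fin n)))) → q = 2 ∨ q = 3 := fun q hq h => by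
    have := S4325.le_of_prime_dvd ![a, b, c] (fun i => by fin_cases i <;> assumption) hq (by
      rwa [Matrix.range_cons, Matrix.range_cons, Matrix.range_cons, Matrix.range_empty, Set.union_empty])
    have h2 := hq.two_le
    simp only [Fintype.card_fin] at this
    interval_cases q <;> simp_all (config := {decide := true})
  generalize closure ({a, b, c} : Set (Equiv.Perm (Fin n))) = H at h1
  refine S0144.result 2 3 ((Nat.card H).factorization 2) ((Nat.card H).factorization 3) Nat.prime_two Nat.prime_three ?_
  conv_lhs => rw [← Nat.factorization_prod_pow_eq_self (Nat.card_pos (α := H)).ne']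
  rw [Finsupp.prod_of_support_subset (s := {2, 3}) _ (fun q hq => by
    simpa using h1 q (Nat.prime_of_mem_primeFactors hq) (Nat.dvd_of_mem_primeFactors hq)) _ (by simp), Finset.prod_pair (by decide)]

end Cfsg.Agent.S4337
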