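import Cfsg.Statements.S4344
import Mathlib
import Cfsg.Agent.Lib.Perm.SylNum3

set_option autoImplicit false
open Cfsg

namespace Cfsg.Agent.S4344



/-- Let S be a finite non-abelian simple group, M a maximal subgroup of S and C a cyclic normal subgroup of M. If a Sylow p-subgroup P of S (for a prime p dividing the order of S) is contained in C, then the number of Sylow p-subgroups of S equals the index of M. -/
theorem result {S : Type*} [Group S] [Finite S]
    [IsSimpleGroup S] (hS : ¬ IsMulCommutative S) (p : ℕ) [Fact p.Prime] (hp : p ∣ Nat.card S)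
    (M : Subgroup S) (hM : IsCoatom M) (C : Subgroup S) (hCM : C ≤ M) (hCn : (C.subgroupOf M).Normal)
    (hC : IsCyclic C) (P : Sylow p S) (hP : (P : Subgroup S) ≤ C) :
    Nat.card (Sylow p S) = M.index := by
  open Cfsg.Agent.Perm.SylNum Cfsg.Agent.Solv Subgroup in
  rw [card_syl P]
  congr 1
  symm
  have h1 : M ≤ Subgroup.normalizer ((P : Subgroup S) : Set S) :=
    ((Subgroup.normal_subgroupOf_iff_le_normalizer hCM).1 hCn).trans
      ((Cfsg.Agent.Solv.isSylowIn_of_le P hP).normalizer_le_of_nilpotent (by
        haveI := hC; exact Cfsg.Agent.Solv.isNilpotent_of_isMulCommutative inferInstance))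
  by_contra hne
  have h2 := hM.2 _ (lt_of_le_of_ne h1 hne)
  rcases IsSimpleGroup.eq_bot_or_eq_top_of_normal (P : Subgroup S) (Subgroup.normalizer_eq_top_iff.1 h2) with h | h
  · apply P.not_dvd_index
    rw [h, Subgroup.index_bot]; exact hp
  · apply hM.1
    rw [eq_top_iff, ← h]; exact hP.trans hCM

end Cfsg.Agent.S4344
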