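import Cfsg.Statements.S4345
import Mathlib
import Cfsg.Agent.Lib.Perm.SylNum3

set_option autoImplicit false
open Cfsg

namespace Cfsg.Agent.S4345



/-- Let G be a finite solvable group and p, ℓ primes. Then the largest power of ℓ dividing the number of Sylow p-subgroups of G is congruent to 1 modulo p. -/
theorem result {G : Type*} [Group G] [Finite G]
    (hG : Group.IsSolvable G) (p ℓ : ℕ) [Fact p.Prime] (hℓ : ℓ.Prime) :
    ℓ ^ (Nat.card (Sylow p G)).factorization ℓ ≡ 1 [MOD p] := by
  refine Cfsg.Agent.Perm.SylNum.sylNum_induction p (fun n => ℓ ^ n.factorization ℓ ≡ 1 [MOD p])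
    (by simp [Nat.ModEq.refl]) ?_ ?_ True ?_ G (fun _ => hG)
  · intro a b ha hb h1 h2
    rw [Nat.factorization_mul ha hb, Finsupp.add_apply, pow_add]
    simpa using h1.mul h2
  · intro l k hl h
    rw [hl.factorization_pow]
    by_cases e : l = ℓ
    · subst e; simpa using h
    · rw [Finsupp.single_eq_of_ne (Ne.symm e), pow_zero]
  · intro S _ _ hS h
    obtain ⟨P⟩ : Nonempty (Sylow p S) := inferInstance
    have hc := IsSimpleGroup.comm_iff_isSolvable.2 (h trivial)
    have : (P : Subgroup S).Normal := ⟨fun a ha g => by rw [hc g a]; simpa using ha⟩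
    rw [Cfsg.Agent.Perm.SylNum.card_syl P, Subgroup.normalizer_eq_top]
    simp [Nat.ModEq.refl]

end Cfsg.Agent.S4345
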