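import Cfsg.Statements.S4346
import Mathlib
import Cfsg.Agent.Lib.Perm.SylNum3

set_option autoImplicit false
open Cfsg

namespace Cfsg.Agent.S4346

open Cfsg.Agent.Perm.SylNum Cfsg.Agent.Solv Cfsg.Agent.Perm Subgroup MulAction

theorem semireg_dvd {G α : Type*} [Group G] [MulAction G α] [Finite α] {H : Subgroup G} {y : G}
    (hc : ∀ h ∈ H, Commute h y) {S : Set α} (hS : ∀ h ∈ H, ∀ a, h • a ∈ S → a ∈ S)
    (hr : ∀ a ∉ S, ∀ h ∈ H, h • a = a → h = 1) : Nat.card H ∣ (fixedBy α y \ S).ncard := by
  apply card_dvd_ncard_of_semiregular (Set.toFinite _)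
  · rintro g a ⟨h1, h2⟩
    refine ⟨?_, fun h => h2 (hS g g.2 a h)⟩
    show y • (g : G) • a = (g : G) • a
    have h1' : y • a = a := h1
    rw [smul_smul, ← (hc g g.2).eq, mul_smul, h1']
  · rintro a ⟨_, h2⟩ g hg
    exact Subtype.ext (hr a h2 g g.2 hg)

theorem cent_of_commute {G : Type*} [Group G] [Finite G] {X : Subgroup G} {r : ℕ} (hr : r.Prime)
    (hX : Nat.card X = r) {x y : G} (hx : x ∈ X) (h1 : x ≠ 1) (h : Commute x y) :
    y ∈ centralizer (X : Set G) := by
  haveI := Fact.mk hr
  have : zpowers x = X := by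
    by_contra hne
    have := eq_of_max (p := r) (S := X) (E := ⊥) (by rw [card_bot, mul_one, hX]) bot_le
      ((zpowers_le).2 hx) hne
    exact h1 (zpowers_eq_bot.1 this)
  intro z hz
  rw [← this] at hz
  obtain ⟨i, rfl⟩ := hz
  exact (h.zpow_left i).eq

theorem card_cent_dvd {G : Type*} [Group G] [Finite G] [Fact (Nat.Prime 3)]
    (hf : ∀ g : G, (∀ P : Sylow 3 G, g • P = P) → g = 1) (hn : Nat.card (Sylow 3 G) = 22)
    (P : Sylow 3 G) (hP : Nat.card (P : Subgroup G) = 3) :
    ∃ i, Nat.card (centralizer ((P : Subgroup G) : Set G)) ∣ 3 ^ i * 5040 := by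
  classical
  set C := centralizer ((P : Subgroup G) : Set G) with hC
  let Q := orbitRel.Quotient (P : Subgroup G) (Sylow 3 G)
  have hQ : Nat.card Q = 8 := by
    haveI := Fintype.ofFinite (P : Subgroup G)
    have h := sum_card_fixedBy (G := (P : Subgroup G)) (α := Sylow 3 G)
    have h2 : ∀ g : (P : Subgroup G), Nat.card (fixedBy (Sylow 3 G) g) = 1 + if g = 1 then 21 else 0 := by
      intro g
      split_ifs with h
      · subst h
        rw [fixedBy_one_eq_univ, Nat.card_univ, hn]
      · exact card_fix_of_mem hP g.2 (fun h' => h (Subtype.ext h'))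
    simp only [h2, Finset.sum_add_distrib, Finset.sum_const, Finset.card_univ, smul_eq_mul, mul_one,
      Finset.sum_ite_eq', Finset.mem_univ, if_true, ← Nat.card_eq_fintype_card, hP] at h
    show Nat.card (orbitRel.Quotient (P : Subgroup G) (Sylow 3 G)) = 8
    omega
  letI : MulAction C Q :=
    { smul := fun c q => Quotient.map' (fun a => (c : G) • a) (by
        rintro a b ⟨x, rfl⟩
        refine ⟨x, ?_⟩
        show (x : G) • (c : G) • b = (c : G) • (x : G) • b
        rw [smul_smul, smul_smul, c.2 x x.2]) q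
      one_smul := by
        rintro ⟨a⟩
        exact congrArg (Quotient.mk'' : _ → Q) (one_smul G a)
      mul_smul := by
        rintro c d ⟨a⟩
        exact congrArg (Quotient.mk'' : _ → Q) (mul_smul (c : G) (d : G) a) }
  have hk : IsPGroup 3 (toPermHom C Q).ker := by
    apply isPGroup_of_pow_eq_one
    intro g hg
    apply Subtype.ext
    apply hf
    intro a
    have h1 : (Quotient.mk'' ((g : G) • a) : Q) = Quotient.mk'' a :=
      congrArg (fun e : Equiv.Perm Q => e (Quotient.mk'' a)) (MonoidHom.mem_ker.1 hg)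
    obtain ⟨x, hx⟩ := Quotient.exact' h1
    have hx' : (x : G) • a = (g : G) • a := hx
    have hc : (x : G) * g = g * x := g.2 x x.2
    have h3 : (x : G) ^ 3 = 1 := by
      exact orderOf_dvd_iff_pow_eq_one.1 (by
        have := Subgroup.orderOf_dvd_natCard _ x.2
        rwa [hP] at this)
    have h4 : ∀ k : ℕ, (g : G) ^ k • a = (x : G) ^ k • a := by
      intro k
      induction k with
      | zero => simp
      | succ k ih =>
        rw [pow_succ', mul_smul, ih, smul_smul, ← (Commute.pow_left hc k).eq, mul_smul, ← hx', smul_smul,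
          pow_succ]
    rw [Subgroup.coe_pow, h4, h3, one_smul]
  obtain ⟨i, hi⟩ := hk.exists_card_eq
  refine ⟨i, ?_⟩
  rw [← (toPermHom C Q).ker.card_mul_index, hi, index_ker]
  apply Nat.mul_dvd_mul_left
  have h5 : (toPermHom C Q).range ≤ stabilizer (Equiv.Perm Q) (Quotient.mk'' P : Q) := by
    rintro _ ⟨c, rfl⟩
    exact congrArg (Quotient.mk'' : _ → Q) (smul_eq_iff.2 (centralizer_le_normalizer _ c.2))
  refine (card_dvd_of_le h5).trans ?_
  have h6 := card_eq_mul_stab (G := Equiv.Perm Q) (Quotient.mk'' P : Q)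
  rw [Nat.card_perm, hQ] at h6
  have : Nat.factorial 8 = 8 * 5040 := by decide
  exact Dvd.intro 1 (by omega)

/-- No finite group has exactly 22 Sylow 3-subgroups. -/
theorem result {G : Type*} [Group G] [Finite G] : Nat.card (Sylow 3 G) ≠ 22 := by
  haveI : Fact (Nat.Prime 3) := ⟨by norm_num⟩
  haveI : Fact (Nat.Prime 5) := ⟨by norm_num⟩
  haveI : Fact (Nat.Prime 7) := ⟨by norm_num⟩
  haveI : Fact (Nat.Prime 11) := ⟨by norm_num⟩
  refine reduce 3 _ ?_ G
  intro G _ _ hq hf hn
  have hP : ∀ P : Sylow 3 G, Nat.card (P : Subgroup G) = 3 := by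
    obtain ⟨m, l, k, j, a1, a2, a3, a4, a5, a6, a7⟩ := line hf (fun k h => by omega)
    apply a7
    rw [hn] at *
    have hk : k ≤ 2 := by omega
    have hj : j ≤ 7 := by omega
    have hm : m = 21 - 9 * k := by omega
    subst hm a2
    interval_cases k <;> interval_cases j <;> omega
  obtain ⟨P⟩ : Nonempty (Sylow 3 G) := inferInstance
  have hG := card_eq_mul P
  rw [hn] at hG
  obtain ⟨m, hm⟩ : 3 ∣ Nat.card (normalizer ((P : Subgroup G) : Set G)) := by
    have := card_dvd_of_le (le_normalizer : (P : Subgroup G) ≤ _)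
    rwa [hP] at this
  have hm3 : ¬ 3 ∣ m := by
    have a := P.not_dvd_index
    have b := (P : Subgroup G).card_mul_index
    rw [hP] at b
    omega
  have hm1 : m ∣ 1120 := by
    obtain ⟨i, hi⟩ := card_cent_dvd hf hn P (hP P)
    have a := relIndex_centralizer_dvd (by norm_num) (hP P)
    have b := card_mul_relIndex (centralizer_le_normalizer ((P : Subgroup G) : Set G))
    have c := Nat.mul_dvd_mul hi a
    rw [b, hm] at c
    have d : m ∣ 3 ^ (i + 2) * 1120 := by
      refine (Dvd.intro_left _ rfl).trans (c.trans (Dvd.intro 1 ?_))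
      ring
    exact (Nat.Coprime.pow_right _ ((Nat.Prime.coprime_iff_not_dvd (by norm_num)).2 hm3).symm).dvd_of_dvd_mul_left d
  have h11 : ∀ R : Sylow 3 G, ¬ 11 ∣ Nat.card (normalizer ((R : Subgroup G) : Set G)) := fun R =>
    not_dvd_card_normalizer hf (hP R) (r := 11) (by norm_num) (by omega) (by omega) (by norm_num)
  obtain ⟨X⟩ : Nonempty (Sylow 11 G) := inferInstance
  have hX : ∀ X : Sylow 11 G, Nat.card (X : Subgroup G) = 11 := fun X =>
    card_sylow_eq_prime (m := 6 * m) (by omega) (by have := h11 P; omega) X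
  have hXr : ∀ (a : Sylow 3 G), ∀ x ∈ (X : Subgroup G), x • a = a → x = 1 := by
    intro a x hx h
    by_contra hne
    apply h11 a
    have h1 : orderOf x ∣ 11 := hX X ▸ Subgroup.orderOf_dvd_natCard _ hx
    have h2 : orderOf x = 11 :=
      ((Nat.dvd_prime (by norm_num)).1 h1).resolve_left (by rwa [orderOf_eq_one_iff])
    rw [← h2]
    exact Subgroup.orderOf_dvd_natCard _ (smul_eq_iff.1 h)
  obtain ⟨x, hx, hxo, hx1⟩ := exists_gen (hX X)
  have hCX : centralizer ((X : Subgroup G) : Set G) = X := by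
    haveI : IsCyclic (X : Subgroup G) := isCyclic_of_prime_card (hX X)
    apply X.is_maximal'
    · apply isPGroup_of_forall_prime_dvd
      intro r hr hd
      by_contra hne
      haveI := Fact.mk hr
      obtain ⟨y, hy⟩ := exists_prime_orderOf_dvd_card' r hd
      rw [← Subgroup.orderOf_coe] at hy
      have hy1 : (y : G) ≠ 1 := by
        intro h; rw [h, orderOf_one] at hy; exact hr.one_lt.ne hy
      obtain ⟨a, ha⟩ : ∃ a : Sylow 3 G, (y : G) • a ≠ a := by
        by_contra h; push Not at h; exact hy1 (hf _ h)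
      have h1 := comm_fix hr (by norm_num) hne hxo hy (y.2 x hx) (fun h => hx1 (hXr a x hx h)) ha
      have h2 : r = 2 := by have := hr.two_le; omega
      subst h2
      obtain ⟨k, hk⟩ := hq.four_dvd (α := Sylow 3 G) (by omega) (orderOf_dvd_iff_pow_eq_one.1 hy.dvd)
      have h3 := semireg_dvd (α := Sylow 3 G) (H := (X : Subgroup G)) (y := (y : G)) (fun h hh => y.2 h hh) (S := ∅)
        (fun _ _ _ h => h) (fun a _ => hXr a)
      rw [Set.diff_empty, hX, ← Nat.card_coe_set_eq] at h3
      exact hy1 (eq_one_of_card_fix hf (by omega))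
    · exact le_centralizer_iff_isMulCommutative.2 inferInstance
  have hfp : ∀ y : G, ¬ orderOf y ∣ 11 → ∀ x ∈ (X : Subgroup G), Commute x y → x = 1 := by
    intro y hy z hz h
    by_contra hne
    have := cent_of_commute (by norm_num) (hX X) hz hne h
    rw [hCX] at this
    exact hy (hX X ▸ Subgroup.orderOf_dvd_natCard _ this)
  have hNX : Nat.card (normalizer ((X : Subgroup G) : Set G)) = 22 := by
    have a := relIndex_centralizer_dvd (by norm_num) (hX X)
    have b := card_mul_relIndex (centralizer_le_normalizer ((X : Subgroup G) : Set G))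
    have c : (centralizer ((X : Subgroup G) : Set G)).relIndex (normalizer ((X : Subgroup G) : Set G)) ≠ 1 :=
      fun h => hq.burnside (by omega) X (fun h => hx1 (by rwa [h] at hx)) (relIndex_eq_one.1 h)
    have d : ¬ 5 ∣ Nat.card (normalizer ((X : Subgroup G) : Set G)) := by
      intro hd
      obtain ⟨y, hy⟩ := exists_prime_orderOf_dvd_card' 5 hd
      rw [← Subgroup.orderOf_coe] at hy
      have h1 := card_mul_fix_le (α := Sylow 3 G) y.2 (hfp y (by rw [hy]; decide))
        (S := fixedBy (Sylow 3 G) (y : G)) (fun _ h => h) (fun a _ => hXr a)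
      have h2 := card_modEq_fixedBy (α := Sylow 3 G) (p := 5) (by norm_num) (g := (y : G)) (k := 1)
        (orderOf_dvd_iff_pow_eq_one.1 (by rw [hy]; rfl))
      rw [hX, ← Nat.card_coe_set_eq] at h1
      unfold Nat.ModEq at h2
      obtain ⟨R, hR⟩ : Nonempty (fixedBy (Sylow 3 G) (y : G)) := (Nat.card_pos_iff.1 (by omega)).1
      obtain ⟨j, hj⟩ := card_fix_of_cent (hP R)
        (mem_centralizer_of_coprime (by norm_num) (hP R) (smul_eq_iff.1 hR) (by rw [hy]; norm_num))
      omega
    rw [hCX] at a b c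
    rw [hX] at b
    have := Nat.le_of_dvd (by norm_num) a
    interval_cases h : (X : Subgroup G).relIndex (normalizer ((X : Subgroup G) : Set G)) <;> omega
  have hn11 := card_eq_mul X
  rw [hNX] at hn11
  have hmod := card_sylow_modEq_one 11 G
  unfold Nat.ModEq at hmod
  have hcases : m = 4 ∨ m = 70 ∨ m = 224 := by
    have h1 : m ∈ Nat.divisors 1120 := Nat.mem_divisors.2 ⟨hm1, by norm_num⟩
    have h2 : m % 11 = 4 := by omega
    have h3 : ∀ m ∈ Nat.divisors 1120, m % 11 = 4 → m = 4 ∨ m = 70 ∨ m = 224 := by decide +kernel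
    exact h3 m h1 h2
  rcases hcases with h4 | h7
  · obtain ⟨t, ht⟩ := exists_prime_orderOf_dvd_card' (G := normalizer ((X : Subgroup G) : Set G)) 2
      (by rw [hNX]; decide)
    rw [← Subgroup.orderOf_coe] at ht
    obtain ⟨k, hk⟩ := hq.four_dvd (α := Sylow 11 G) (by omega) (orderOf_dvd_iff_pow_eq_one.1 ht.dvd)
    have h1 := card_mul_fix_le (α := Sylow 11 G) t.2 (hfp t (by rw [ht]; decide))
      (S := fixedBy (Sylow 11 G) (t : G) \ {X}) (fun _ h => h.1) (fun a ha z hz h => by
        by_contra hne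
        exact ha.2 (fix_of_mem (hX X) hz hne h))
    have h2 : X ∈ fixedBy (Sylow 11 G) (t : G) := smul_eq_iff.2 t.2
    have h3 := Set.ncard_diff_singleton_add_one h2
    rw [hX] at h1
    rw [Nat.card_coe_set_eq (fixedBy (Sylow 11 G) (t : G))] at hk
    omega
  obtain ⟨W⟩ : Nonempty (Sylow 7 G) := inferInstance
  have hW : Nat.card (W : Subgroup G) = 7 :=
    card_sylow_eq_prime (m := 66 * m / 7) (by omega) (by omega) W
  obtain ⟨w, hw, hwo, hw1⟩ := exists_gen hW
  have h2 := card_modEq_fixedBy (α := Sylow 3 G) (p := 7) (by norm_num) (g := w) (k := 1)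
    (orderOf_dvd_iff_pow_eq_one.1 (by rw [hwo]; rfl))
  unfold Nat.ModEq at h2
  obtain ⟨R, hR⟩ : Nonempty (fixedBy (Sylow 3 G) w) := (Nat.card_pos_iff.1 (by omega)).1
  have hwR := mem_centralizer_of_coprime (by norm_num) (hP R) (smul_eq_iff.1 hR) (by rw [hwo]; norm_num)
  have hWr : ∀ a : Sylow 3 G, a ≠ R → ∀ h ∈ (W : Subgroup G), h • a = a → h = 1 := by
    intro a ha h hh hha
    by_contra hne
    have hC : h ∈ centralizer ((R : Subgroup G) : Set G) := fun z hz =>
      ((cent_of_commute (by norm_num) hW hw hw1 (hwR z hz).symm) h hh).symm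
    obtain ⟨j, hj⟩ := card_fix_of_cent (hP R) hC
    have h3 := card_modEq_fixedBy (α := Sylow 3 G) (p := 7) (by norm_num) (g := h) (k := 1)
      (orderOf_dvd_iff_pow_eq_one.1 (by rw [pow_one, ← hW]; exact Subgroup.orderOf_dvd_natCard _ hh))
    unfold Nat.ModEq at h3
    have h4 : ¬ Nat.card (Sylow 3 G) ≤ Nat.card (fixedBy (Sylow 3 G) h) :=
      fun h => hne (eq_one_of_card_fix hf h)
    have h5 : Nat.card (fixedBy (Sylow 3 G) h) = 1 := by omega
    have := (Nat.card_eq_one_iff_unique.1 h5).1
    exact ha (congrArg Subtype.val (Subsingleton.elim (⟨a, hha⟩ : fixedBy (Sylow 3 G) h)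
      ⟨R, smul_eq_iff.2 (centralizer_le_normalizer _ hC)⟩))
  have hyR : ∀ y : G, Commute w y → y • R = R := by
    intro y hy
    by_contra hne
    apply hw1 (hWr _ hne w hw _)
    have hR' : w • R = R := hR
    rw [smul_smul, hy.eq, mul_smul, hR']
  have hCW : ∀ r : ℕ, r.Prime → r ≠ 7 → r ≠ 3 → ¬ r ∣ Nat.card (centralizer ((W : Subgroup G) : Set G)) := by
    intro r hr hne hne3 hd
    haveI := Fact.mk hr
    obtain ⟨y, hy⟩ := exists_prime_orderOf_dvd_card' r hd
    rw [← Subgroup.orderOf_coe] at hy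
    have hy1 : (y : G) ≠ 1 := by
      intro h; rw [h, orderOf_one] at hy; exact hr.one_lt.ne hy
    obtain ⟨a, ha⟩ : ∃ a : Sylow 3 G, (y : G) • a ≠ a := by
      by_contra h; push Not at h; exact hy1 (hf _ h)
    have haR : a ≠ R := by rintro rfl; exact ha (hyR y (y.2 w hw))
    have h1 := comm_fix hr (by norm_num) hne hwo hy (y.2 w hw) (fun h => hw1 (hWr a haR w hw h)) ha
    have h2 : r = 2 := by have := hr.two_le; omega
    subst h2
    obtain ⟨k, hk⟩ := hq.four_dvd (α := Sylow 3 G) (by omega) (orderOf_dvd_iff_pow_eq_one.1 hy.dvd)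
    have h3 := semireg_dvd (α := Sylow 3 G) (H := (W : Subgroup G)) (y := (y : G)) (fun h hh => y.2 h hh) (S := {R})
      (fun h hh a ha => by
        have e : h⁻¹ • R = R := hyR _ (by
          haveI : IsCyclic (W : Subgroup G) := isCyclic_of_prime_card hW
          exact isMulCommutative_iff.1 inferInstance w hw _ (inv_mem hh))
        exact (eq_inv_smul_iff.2 ha).trans e) (fun a ha => hWr a ha)
    have h4 : R ∈ fixedBy (Sylow 3 G) (y : G) := hyR y (y.2 w hw)
    have h5 := Set.ncard_diff_singleton_add_one h4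
    rw [hW] at h3
    refine hy1 (eq_one_of_card_fix hf ?_)
    rw [Nat.card_coe_set_eq] at hk ⊢
    omega
  have c1 : Nat.card (centralizer ((W : Subgroup G) : Set G)) ∣ 21 := by
    have a : Nat.card (centralizer ((W : Subgroup G) : Set G)) ∣ 21 * (2 ^ 6 * 5 * 11) :=
      (card_subgroup_dvd_card _).trans (by
        rw [hG, hm]; rcases h7 with rfl | rfl <;> norm_num)
    refine Nat.Coprime.dvd_of_dvd_mul_right ?_ a
    refine Nat.Coprime.mul_right (Nat.Coprime.mul_right (Nat.Coprime.pow_right _ ?_) ?_) ?_ <;>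
    exact ((Nat.Prime.coprime_iff_not_dvd (by norm_num)).2 (hCW _ (by norm_num) (by norm_num) (by norm_num))).symm
  have c2 : 3 ∣ Nat.card (centralizer ((W : Subgroup G) : Set G)) := by
    have : (R : Subgroup G) ≤ centralizer ((W : Subgroup G) : Set G) := fun z hz =>
      cent_of_commute (by norm_num) hW hw hw1 (hwR z hz).symm
    have := card_dvd_of_le this
    rwa [hP] at this
  have c3 : 7 ∣ Nat.card (centralizer ((W : Subgroup G) : Set G)) := by
    haveI : IsCyclic (W : Subgroup G) := isCyclic_of_prime_card hW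
    have := card_dvd_of_le (le_centralizer_iff_isMulCommutative.2 (inferInstance : IsMulCommutative (W : Subgroup G)))
    rwa [hW] at this
  have c4 : Nat.card (centralizer ((W : Subgroup G) : Set G)) = 21 := by
    have := Nat.le_of_dvd (by norm_num) c1
    have : 0 < Nat.card (centralizer ((W : Subgroup G) : Set G)) := Nat.card_pos
    omega
  have a := relIndex_centralizer_dvd (by norm_num) hW
  have b := card_mul_relIndex (centralizer_le_normalizer ((W : Subgroup G) : Set G))
  have c := card_eq_mul W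
  have d := card_sylow_modEq_one 7 G
  unfold Nat.ModEq at d
  rw [← b, c4] at c
  have := Nat.le_of_dvd (by norm_num) a
  interval_cases h : (centralizer ((W : Subgroup G) : Set G)).relIndex (normalizer ((W : Subgroup G) : Set G)) <;> omega

end Cfsg.Agent.S4346
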