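import Cfsg.Statements.S4347
import Cfsg.Agent.Lib.Transfer.Count
import Cfsg.Agent.Lib.Solv.PCyc
import Cfsg.Agent.Lib.Comp.SylIn

set_option autoImplicit false
open Cfsg

namespace Cfsg.Agent.S4347

/-- Let G be a finite group and p a prime. Say a Sylow p-subgroup Q is redundant when every element of p-power order lies in some Sylow p-subgroup other than Q. Then G has no redundant Sylow p-subgroup if and only if some element of p-power order lies in exactly one Sylow p-subgroup. -/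
theorem result {G : Type*} [Group G] [Finite G]
    (p : ℕ) [Fact p.Prime] :
    (¬ ∃ Q : Sylow p G, ∀ x : G, (∃ k : ℕ, orderOf x = p ^ k) → ∃ P : Sylow p G, P ≠ Q ∧ x ∈ P) ↔
      ∃ x : G, (∃ k : ℕ, orderOf x = p ^ k) ∧ ∃! P : Sylow p G, x ∈ P := by
  open Pointwise commutatorElement Subgroup Cfsg.Agent.Solv in
  constructor
  · intro h
    push Not at h
    obtain ⟨Q⟩ := (inferInstance : Nonempty (Sylow p G))
    obtain ⟨x, ⟨k, hk⟩, hx⟩ := h Q
    obtain ⟨P, hP⟩ := (Comp.isPGroup_zpowers_of_orderOf hk).exists_le_sylow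
    have h1 : ∀ R : Sylow p G, x ∈ R → R = Q := fun R hR => by_contra fun h => hx R h hR
    exact ⟨x, ⟨k, hk⟩, P, hP (mem_zpowers x), fun R hR => (h1 R hR).trans (h1 P (hP (mem_zpowers x))).symm⟩
  · rintro ⟨x, ⟨k, hk⟩, P, -, hP⟩ ⟨Q, hQ⟩
    obtain ⟨g, rfl⟩ := MulAction.exists_smul_eq G P Q
    obtain ⟨R, h1, h2⟩ := hQ (g * x * g⁻¹) ⟨k, by rw [Transfer.IsConj.orderOf_eq' (Transfer.isConj_conj g x), hk]⟩
    apply h1
    rw [← hP (g⁻¹ • R) ?_, smul_inv_smul]
    change x ∈ ((g⁻¹ • R : Sylow p G) : Subgroup G)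
    rw [Sylow.coe_subgroup_smul, mem_conj_smul, inv_inv]
    exact h2

end Cfsg.Agent.S4347
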