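import Cfsg.Statements.S4348
import Cfsg.Agent.Lib.Solv.Prim
import Cfsg.Agent.Lib.Solv.PCyc

set_option autoImplicit false
open Cfsg

namespace Cfsg.Agent.S4348

/-- Let G be a finite group, p a prime and P a Sylow p-subgroup of G, and let O_p(G) be the largest normal p-subgroup of G. If P/O_p(G) is cyclic, then some element of p-power order of G lies in exactly one Sylow p-subgroup. -/
theorem result {G : Type*} [Group G] [Finite G]
    (p : ℕ) [Fact p.Prime] (P : Sylow p G)
    [hn : ((Cfsg.pCore p G).subgroupOf (P : Subgroup G)).Normal]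
    (hc : IsCyclic ((P : Subgroup G) ⧸ (Cfsg.pCore p G).subgroupOf (P : Subgroup G))) :
    ∃ x : G, (∃ k : ℕ, orderOf x = p ^ k) ∧ ∃! Q : Sylow p G, x ∈ Q := by
  open Pointwise commutatorElement Subgroup Cfsg.Agent.Solv in
  obtain ⟨x, hx, h⟩ := exists_le_sup_zpowers_of_isCyclic_quotient hc
  refine ⟨x, exists_orderOf_eq_pow P.isPGroup' hx, P, hx, fun Q hQ => Sylow.ext ?_⟩
  exact P.is_maximal' Q.isPGroup' (h.trans (sup_le (pCore_le_sylow Q) (zpowers_le.2 hQ)))

end Cfsg.Agent.S4348
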