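import Cfsg.Statements.S4354
import Cfsg.Agent.Lib.Ez.C2
import Cfsg.Agent.Lib.Block.PSyl

set_option autoImplicit false
open Cfsg

namespace Cfsg.Agent.S4354

open Subgroup Cfsg.Agent.Comp Cfsg.Agent.Ez

theorem core {G : Type*} [Group G] [Finite G] {p : ℕ} [Fact p.Prime] {M : Subgroup G} [M.Normal]
    (hmax : ∀ K : Subgroup G, K.Normal → M < K → K = ⊤)
    (hM : ∀ P, SylIn p P ⊤ → P ⊓ M ≤ centralizer (P ⊓ M : Subgroup G))
    (hQ : ∀ P, SylIn p P ⊤ → ⁅P, P⁆ ≤ M)
    (h : ∀ x : G, IsPGroup p (zpowers x) → ∃ P, SylIn p P ⊤ ∧ P ≤ centralizer {x})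
    {P : Subgroup G} (hP : SylIn p P ⊤) : P ≤ centralizer (P : Set G) := by
  have hs : ∀ {P}, SylIn p P ⊤ → SylIn p (P ⊓ M) M := fun a =>
    a.inf_normal le_top le_normalizer_of_normal
  have h1 : ∀ P, SylIn p P ⊤ → P ≤ centralizer (P ⊓ M : Subgroup G) := fun P hP => by
    by_cases e : P ≤ M
    · exact (le_inf le_rfl e).trans (hM P hP)
    obtain ⟨x, a, b⟩ := SetLike.not_le_iff_exists.1 e
    obtain ⟨R, c, d⟩ := h x (hP.isP.to_le (zpowers_le.2 a))
    have h2 := hmax (centralizer (R ⊓ M : Subgroup G) ⊔ M) (normal_iff_top_le_normalizer.2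
      (((hs c).frattini le_top le_normalizer_of_normal).ge.trans (sup_le (le_sup_right.trans
        le_normalizer) (le_normalizer_sup (inf_le_right.trans (normalizer_le_normalizer_centralizer _))
          le_normalizer_of_normal)))) (le_sup_right.lt_of_ne fun e => b (e.ge (mem_sup_left
            fun y hy => (mem_C1.1 (d hy.1)).symm)))
    obtain ⟨T, t2, t1⟩ := exists_sylIn_ge (hs c).isP (hM R c)
    have t3 := t1.trans_of_not_dvd le_top fun e => (hs c).not_dvd_relIndex (by
      rw [← h2, Blk.relIndex_sup_self le_normalizer_of_normal] at e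
      exact e.trans (relIndex_dvd_of_le_left _ (hM R c)))
    have t4 := (hs c).max (T ⊓ M) t1.isP.to_inf_left (le_inf t2 inf_le_right) inf_le_right
    obtain ⟨g, -, rfl⟩ := t3.exists_cj_eq hP
    rw [← cj_eq_self_of_normal M g, ← cj_inf, ← cj_centralizer, t4]
    exact cj_mono g t1.le
  intro x hx
  obtain ⟨R, c, d⟩ := h x (hP.isP.to_le (zpowers_le.2 hx))
  have a1 : P ⊓ M ≤ M ⊓ centralizer {x} := le_inf inf_le_right fun y hy =>
    mem_C1.2 (h1 P hP hx y hy).symm
  obtain ⟨g, g1, g2⟩ := ((hs c).of_le (le_inf inf_le_right (inf_le_left.trans d)) inf_le_left).exists_cj_eq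
    ((hs hP).of_le a1 inf_le_left)
  have a2 : SylIn p (cj(g, R)) ⊤ := c.cj_of_mem (le_normalizer_of_normal (mem_top g))
  have a3 := h1 _ a2
  rw [cj_inf, cj_eq_self_of_normal M] at g2
  rw [g2] at a3
  have a4 : cj(g, R) ≤ centralizer (zpowers x ⊔ P ⊓ M : Subgroup G) := le_centralizer_iff.1 (sup_le
    (le_centralizer_iff.1 ((cj_le_of_mem d (le_normalizer g1.2)).trans (centralizer_zpowers x).ge))
    (le_centralizer_iff.1 a3))
  have a5 : P ≤ normalizer ((zpowers x ⊔ P ⊓ M : Subgroup G) : Set G) :=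
    le_normalizer_iff_commutator_le_right.2 (((commutator_mono le_rfl
      (sup_le (zpowers_le.2 hx) inf_le_left)).trans
      (le_inf (commutator_le_left_of_le_normalizer le_normalizer) (hQ P hP))).trans le_sup_right)
  obtain ⟨k, k1, k2⟩ := (a2.of_le (a4.trans (centralizer_le_normalizer _)) le_top).exists_cj_eq
    (hP.of_le a5 le_top)
  have a6 := cj_le_of_mem a4 (normalizer_le_normalizer_centralizer _ k1)
  rw [k2] at a6
  exact fun y hy => (a6 hy x (mem_sup_left (mem_zpowers x))).symm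

/-- Let G be a finite group and p a prime such that the Sylow p-subgroups of G are non-abelian while every element of p-power order has conjugacy class size prime to p, and suppose no nontrivial proper normal subgroup N of G has this property and no quotient G/N by such an N has it. Then G is simple. -/
theorem result {G : Type*} [Group G] [Finite G]
    (p : ℕ) [Fact p.Prime] (h : ((∃ P : Sylow p G, ¬ IsMulCommutative P) ∧ ∀ x : G, (∃ k : ℕ, orderOf x = p ^ k) → ¬ p ∣ (Subgroup.centralizer ({x} : Set G)).index))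
    (hmin : ∀ (N : Subgroup G) [N.Normal], N ≠ ⊥ → N ≠ ⊤ →
      ¬ ((∃ P : Sylow p N, ¬ IsMulCommutative P) ∧ ∀ x : N, (∃ k : ℕ, orderOf x = p ^ k) → ¬ p ∣ (Subgroup.centralizer ({x} : Set N)).index) ∧
      ¬ ((∃ P : Sylow p (G ⧸ N), ¬ IsMulCommutative P) ∧ ∀ x : (G ⧸ N), (∃ k : ℕ, orderOf x = p ^ k) → ¬ p ∣ (Subgroup.centralizer ({x} : Set (G ⧸ N))).index)) :
    IsSimpleGroup G := by
  have hP := h.1
  replace h := h.2
  obtain ⟨P, hP⟩ := hP
  have : Nontrivial G := by
    by_contra e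
    have := not_nontrivial_iff_subsingleton.1 e
    exact hP ⟨⟨fun _ _ => Subsingleton.elim _ _⟩⟩
  refine ⟨fun N hN => by_contra fun e => hP ?_⟩
  obtain ⟨e1, e2⟩ := not_or.1 e
  obtain ⟨M, h1, h2⟩ := Finite.exists_le_maximal (p := fun K : Subgroup G => K.Normal ∧ K ≠ ⊤) ⟨hN, e2⟩
  have := h2.1.1
  obtain ⟨a, b⟩ := hmin M (fun c => e1 (le_bot_iff.1 (c ▸ h1))) h2.1.2
  refine le_centralizer_iff_isMulCommutative.1 (core (M := M) (fun K c d => by_contra fun e =>
    d.not_ge (h2.2 ⟨c, e⟩ d.le)) (fun R c => ?_) (fun R c => ?_) (fun x hx => ?_) (sylIn_top P))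
  · have : IsMulCommutative (c.inf_normal le_top le_normalizer_of_normal).toSylow := by_contra fun d =>
      a ⟨⟨_, d⟩, fun x hx e => h x (by simpa only [orderOf_coe] using hx)
        ((index_cent_sub x ▸ e).trans (Solv.relIndex_dvd_index_of_normal' _ _))⟩
    exact fun x hx y hy => congrArg (fun z => ((z.1 : M) : G)) (this.1.1 ⟨⟨y, hy.2⟩, hy⟩ ⟨⟨x, hx.2⟩, hx⟩)
  · have : IsMulCommutative (c.toSylowTop.mapSurjective (QuotientGroup.mk'_surjective M)) :=
      by_contra fun d => b ⟨⟨_, d⟩, Blk.class_hyp_map (QuotientGroup.mk'_surjective M) h⟩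
    refine commutator_le.2 fun x hx y hy => (QuotientGroup.eq_one_iff _).1 ?_
    exact (map_commutatorElement (QuotientGroup.mk' M) x y).trans (commutatorElement_eq_one_iff_mul_comm.2
      (congrArg Subtype.val (this.1.1 ⟨_, mem_map_of_mem _ hx⟩ ⟨_, mem_map_of_mem _ hy⟩)))
  · obtain ⟨R, c⟩ := exists_sylIn p (centralizer {x})
    exact ⟨R, c.trans_of_not_dvd le_top (by
      rw [relIndex_top_right]; exact h x (Nat.card_zpowers x ▸ hx.exists_card_eq)), c.le⟩

end Cfsg.Agent.S4354
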