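import Cfsg.Statements.S4358
import Cfsg.Agent.Lib.Block.Syl1
import Cfsg.Agent.S4010
import Cfsg.Agent.S4417
import Cfsg.Agent.S4015

set_option autoImplicit false
open Cfsg

namespace Cfsg.Agent.S4358

open Cfsg.Agent.Blk
open Cfsg.Agent.Char hiding cj cj_mul cj_inv_cj cj_cj_inv
open Subgroup commutatorElement Module Cfsg.Agent.S4010 Cfsg.Agent.S4015

universe w
section
variable {F : Type w} [Field F] [Fintype F] {p : ℕ} [Fact p.Prime]

/-- matrices as endomorphisms -/
noncomputable def L (F : Type w) [Field F] (p : ℕ) : GL (Fin p) F →* End F (Fin p → F) :=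
  ((Matrix.toLinAlgEquiv' : Matrix (Fin p) (Fin p) F ≃ₐ[F] _) : Matrix (Fin p) (Fin p) F →* _).comp
    (Units.coeHom _)

omit [Fintype F] [Fact p.Prime] in
theorem L_inj : Function.Injective (L F p) :=
  (Matrix.toLinAlgEquiv' (n := Fin p) (R := F)).injective.comp Units.val_injective

omit [Fintype F] [Fact p.Prime] in
theorem L_surj (c : End F (Fin p → F)) (hc : ∀ v, c v = 0 → v = 0) : ∃ g, L F p g = c := by
  obtain ⟨u, rfl⟩ := (LinearMap.isUnit_iff_ker_eq_bot c).2 (LinearMap.ker_eq_bot'.2 hc)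
  exact ⟨Units.map ((Matrix.toLinAlgEquiv' (n := Fin p) (R := F)).symm : _ →* _) u,
    (Matrix.toLinAlgEquiv' (n := Fin p) (R := F)).apply_symm_apply _⟩

theorem comm_refl (hp2 : p ≠ 2) (hp : (p : F) ≠ 0) (he : 0 < orderOf (Fintype.card F : ZMod p))
    {Q : Subgroup (GL (Fin p) F)} (hQ : IsPGroup p Q) {y z : GL (Fin p) F} (hy : y ∈ Q) (hz : z ∈ Q)
    {u u' : Fin p → F} (hu : u ≠ 0) (hu' : u' ≠ 0) (h1 : ∀ v, L F p y v - v ∈ F ∙ u)
    (h2 : ∀ v, L F p z v - v ∈ F ∙ u') : y * z = z * y := by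
  let W : Submodule F (Fin p → F) := (F ∙ u) ⊔ (F ∙ u')
  let K : Subgroup (GL (Fin p) F) :=
    { carrier := {g | ∀ v, L F p g v - v ∈ W}
      one_mem' := fun v => by simp
      mul_mem' := fun {g h} hg hh v => by
        have := add_mem (hg (L F p h v)) (hh v)
        rwa [sub_add_sub_cancel, ← End.mul_apply, ← map_mul] at this
      inv_mem' := fun {g} hg v => by
        have := neg_mem (hg (L F p g⁻¹ v))
        rwa [← End.mul_apply, ← map_mul, mul_inv_cancel, map_one, End.one_apply, neg_sub] at this }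
  let ρ : Representation F (K ⊓ Q : Subgroup _) (Fin p → F) := (L F p).comp (K ⊓ Q).subtype
  have hW : ∀ g, W ≤ W.comap (ρ g) := fun g w hw => by
    have := add_mem (g.2.1 w) hw
    rwa [sub_add_cancel] at this
  have hd : finrank F W ≤ 2 := by
    have := Submodule.finrank_add_le_finrank_add_finrank (F ∙ u) (F ∙ u')
    rwa [finrank_span_singleton hu, finrank_span_singleton hu'] at this
  have h3 : 2 < p := lt_of_le_of_ne (Fact.out : p.Prime).two_le (Ne.symm hp2)
  have hH := hQ.to_le (inf_le_right : K ⊓ Q ≤ Q)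
  have h4 := crossFp hp he 0 _ W _ hH (ρ.subrepresentation W hW) rfl
    ((Nat.div_le_self _ _).trans_lt (by rw [zero_add, pow_one]; omega))
  let x : (K ⊓ Q : Subgroup _) := ⁅(⟨y, fun v => Submodule.mem_sup_left (h1 v), hy⟩ : (K ⊓ Q : Subgroup _)),
    (⟨z, fun v => Submodule.mem_sup_right (h2 v), hz⟩ : (K ⊓ Q : Subgroup _))⁆
  have h5 := sub_triv ρ hW (h4 (show x ∈ _ from commutator_mem_commutator (mem_top _) (mem_top _)))
  have h6 : x = 1 := by
    refine Subtype.ext (L_inj (LinearMap.ext fun v => ?_))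
    have h7 : ρ x (ρ x v - v) = ρ x v - v := h5 _ (x.2.1 v)
    have h8 : ∀ N : ℕ, ρ (x ^ N) v = v + (N : F) • (ρ x v - v) := by
      intro N
      induction N with
      | zero => simp
      | succ N ihN =>
        rw [pow_succ', map_mul, End.mul_apply, ihN, map_add, map_smul, h7]
        push_cast
        rw [add_smul, one_smul]; abel
    obtain ⟨j, hj⟩ := hH x
    have h9 := h8 (p ^ j)
    rw [hj, map_one, End.one_apply, left_eq_add, smul_eq_zero] at h9
    rcases h9 with h9 | h9
    · exact absurd h9 (by push_cast; exact pow_ne_zero _ hp)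
    · exact (sub_eq_zero.1 h9).trans (by simp)
  exact congrArg Subtype.val (commutatorElement_eq_one_iff_mul_comm.1 h6)

/-- the basis reflections lie in `Q` -/
def GoodB {ι : Type} (ζ : F) (Q : Subgroup (GL (Fin p) F)) (b : Basis ι F (Fin p → F)) : Prop :=
  ∀ i, ∃ y ∈ Q, ∀ v, L F p y v = v + ((ζ - 1) * b.coord i v) • b i

theorem mono (hp2 : p ≠ 2) (hp : (p : F) ≠ 0) (he : 0 < orderOf (Fintype.card F : ZMod p))
    {Q : Subgroup (GL (Fin p) F)} (hQ : IsPGroup p Q) {ι : Type} {ζ : F} (hζ : ζ ≠ 1)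
    {b : Basis ι F (Fin p → F)} (hb : GoodB ζ Q b) {c : GL (Fin p) F}
    (hc : ∀ y ∈ Q, c * y * c⁻¹ ∈ Q) {i j k : ι} (hjk : j ≠ k) (hj : b.coord j (L F p c (b i)) ≠ 0) :
    b.coord k (L F p c (b i)) = 0 := by
  obtain ⟨y, hy, hy'⟩ := hb j
  obtain ⟨z, hz, hz'⟩ := hb i
  have e1 : ∀ v, L F p c⁻¹ (L F p c v) = v := fun v => by
    rw [← End.mul_apply, ← map_mul, inv_mul_cancel, map_one, End.one_apply]
  have e2 : ∀ v, L F p c (L F p c⁻¹ v) = v := fun v => by
    rw [← End.mul_apply, ← map_mul, mul_inv_cancel, map_one, End.one_apply]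
  have hz2 : ∀ v, L F p (c * z * c⁻¹) v = v + ((ζ - 1) * b.coord i (L F p c⁻¹ v)) • L F p c (b i) := by
    intro v
    rw [map_mul, map_mul, End.mul_apply, End.mul_apply, hz', map_add, map_smul, e2]
  have h1 := comm_refl hp2 hp he hQ hy (hc z hz) (u := b j) (u' := L F p c (b i)) (b.ne_zero j)
    (fun h => hj (by rw [h, map_zero]))
    (fun v => by rw [hy', add_sub_cancel_left]; exact Submodule.smul_mem _ _ (Submodule.mem_span_singleton_self _))
    (fun v => by rw [hz2, add_sub_cancel_left]; exact Submodule.smul_mem _ _ (Submodule.mem_span_singleton_self _))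
  have h2 := LinearMap.congr_fun (congrArg (L F p) h1) (L F p c (b i))
  rw [map_mul, map_mul (L F p) (c * z * c⁻¹), End.mul_apply, End.mul_apply, hz2, hz2, hy', hy', e1] at h2
  have h3 := congrArg (b.coord j) h2
  have h4 := congrArg (b.coord k) h2
  simp only [map_add, map_smul, smul_eq_mul, e1, Basis.coord_apply, Basis.repr_self,
    Finsupp.single_eq_same, Finsupp.single_eq_of_ne hjk.symm, mul_one, mul_zero, add_zero] at h3 h4 hj ⊢
  have hz0 : ζ - 1 ≠ 0 := sub_ne_zero.2 hζ
  set A := b.repr (L F p c (b i)) j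
  set B := b.repr (L F p c (b i)) k
  set C := b.repr (L F p c⁻¹ (b j)) i
  have h5 : A * C = 1 := by
    apply mul_left_cancel₀ (mul_ne_zero (mul_ne_zero hz0 hz0) hj)
    linear_combination -h3
  apply mul_left_cancel₀ (mul_ne_zero hz0 hz0)
  linear_combination -h4 - (ζ - 1) * (ζ - 1) * B * h5

theorem diag (hp2 : p ≠ 2) (hp : (p : F) ≠ 0) (he : 0 < orderOf (Fintype.card F : ZMod p))
    (h4 : 4 ≤ Fintype.card F)
    {Q : Subgroup (GL (Fin p) F)} (hQ : IsPGroup p Q) {ι : Type} {ζ : F} (hζ : ζ ≠ 1)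
    {b : Basis ι F (Fin p → F)} (hb : GoodB ζ Q b) {x : GL (Fin p) F} {k : ℕ} (hx : x ^ p ^ k = 1)
    (hc : ∀ c, Commute c x → ∀ y ∈ Q, c * y * c⁻¹ ∈ Q) {i j : ι} (hij : j ≠ i) :
    b.coord j (L F p x (b i)) = 0 := by
  classical
  by_contra hj
  have hi := mono hp2 hp he hQ hζ hb (hc x (Commute.refl x)) hij hj
  let e : End F (Fin p → F) := ∑ n ∈ Finset.range (p ^ k), L F p x ^ n
  have e1 : e * (L F p x - 1) = 0 := by
    rw [geom_sum_mul, ← map_pow, hx, map_one, sub_self]
  have e2 : Commute e (L F p x) := Commute.sum_left _ _ _ fun n _ => (Commute.refl _).pow_left n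
  obtain ⟨s, hs⟩ : ∃ s : F, s ∉ ({0, (b.coord i (e (b i)))⁻¹,
      -b.coord j (L F p x (b i)) * (b.coord j (e (b i)))⁻¹} : Finset F) := by
    by_contra h
    push Not at h
    have := (Finset.card_le_card (fun s _ => h s : Finset.univ ⊆ _)).trans Finset.card_le_three
    rw [Finset.card_univ] at this
    omega
  simp only [Finset.mem_insert, Finset.mem_singleton, not_or] at hs
  have hN : ((p ^ k : ℕ) : F) ≠ 0 := by push_cast; exact pow_ne_zero _ hp
  obtain ⟨c, hc'⟩ := L_surj (L F p x - 1 + s • e) (fun v hv => by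
    have e3 : ∀ w, L F p x w = w → e w = ((p ^ k : ℕ) : F) • w := fun w hw => by
      have : ∀ n, (L F p x ^ n) w = w := fun n => by
        induction n with
        | zero => rfl
        | succ n ih => rw [pow_succ, End.mul_apply, hw, ih]
      simp only [e, LinearMap.sum_apply, this, Finset.sum_const, Finset.card_range, Nat.cast_smul_eq_nsmul]
    have e4 : L F p x (e v) = e v := by
      have := LinearMap.congr_fun e1 v
      rw [mul_sub, mul_one, e2.eq, LinearMap.sub_apply, End.mul_apply, LinearMap.zero_apply] at this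
      exact sub_eq_zero.1 this
    have h1 := congrArg e hv
    rw [LinearMap.add_apply, map_add, ← End.mul_apply, e1, LinearMap.zero_apply, zero_add,
      LinearMap.smul_apply, map_smul, e3 _ e4, map_zero, smul_eq_zero, smul_eq_zero] at h1
    have h2 : e v = 0 := (h1.resolve_left hs.1).resolve_left hN
    rw [LinearMap.add_apply, LinearMap.smul_apply, h2, smul_zero, add_zero, LinearMap.sub_apply,
      End.one_apply, sub_eq_zero] at hv
    rw [e3 v hv, smul_eq_zero] at h2
    exact h2.resolve_left hN)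
  have hcx : Commute c x := L_inj (by
    rw [map_mul, map_mul, hc']
    exact (((Commute.refl _).sub_left (Commute.one_left _)).add_left (e2.smul_left s)).eq)
  have h5 := mono hp2 hp he hQ hζ hb (hc c hcx) (i := i) hij (by
    rw [hc']
    simp only [LinearMap.add_apply, LinearMap.sub_apply, LinearMap.smul_apply, End.one_apply, map_add,
      map_sub, map_smul, smul_eq_mul]
    rw [Basis.coord_apply b j (b i), Basis.repr_self, Finsupp.single_eq_of_ne hij, sub_zero]
    intro h
    by_cases h0 : b.coord j (e (b i)) = 0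
    · rw [h0, mul_zero, add_zero] at h; exact hj h
    · apply hs.2.2; field_simp; linear_combination h)
  rw [hc'] at h5
  simp only [LinearMap.add_apply, LinearMap.sub_apply, LinearMap.smul_apply, End.one_apply, map_add,
    map_sub, map_smul, smul_eq_mul] at h5
  rw [hi, Basis.coord_apply b i (b i), Basis.repr_self, Finsupp.single_eq_same] at h5
  exact hs.2.1 (eq_inv_of_mul_eq_one_left (by linear_combination h5))

theorem exists_mon {C : Type} [Group C] [Fintype C] (hC : Nat.card C = p) {ζ : Fˣ} (hζ : orderOf ζ = p)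
    (b : Basis C F (Fin p → F)) : ∃ H : Subgroup (GL (Fin p) F), IsPGroup p H ∧ GoodB (ζ : F) H b ∧
      ∀ t : C, ∃ g ∈ H, ∀ i, L F p g (b i) = b (t * i) := by
  classical
  let ρ : Representation F (zpowers ζ) F :=
    { toFun := fun d => (d.1 : F) • LinearMap.id
      map_one' := by ext; simp
      map_mul' := fun a b => by ext; simp [mul_comm] }
  let τ : (zpowers ζ) ≀ᵣ C →* End F (Fin p → F) :=
    b.equivFun.symm.conjRingEquiv.toMonoidHom.comp (wrRep ρ C)
  have hτ : ∀ a v, τ a v = b.equivFun.symm (fun x => (a.left x).1.1 * b.repr v (a.right⁻¹ * x)) :=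
    fun _ _ => rfl
  let Θ : (zpowers ζ) ≀ᵣ C →* GL (Fin p) F :=
    (((Matrix.toLinAlgEquiv' (n := Fin p) (R := F)).symm : _ →* Matrix (Fin p) (Fin p) F).comp τ).toHomUnits
  have hΘ : ∀ a, L F p (Θ a) = τ a := fun a =>
    (Matrix.toLinAlgEquiv' (n := Fin p) (R := F)).apply_symm_apply (τ a)
  refine ⟨Θ.range, ?_, fun i => ⟨_, ⟨⟨Pi.mulSingle i ⟨ζ, mem_zpowers ζ⟩, 1⟩, rfl⟩, fun v => ?_⟩,
    fun t => ⟨_, ⟨RegularWreathProduct.inl t, rfl⟩, fun i => ?_⟩⟩
  · refine IsPGroup.of_surjective (G := (zpowers ζ) ≀ᵣ C) (IsPGroup.of_card (n := p + 1) ?_)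
      Θ.rangeRestrict Θ.rangeRestrict_surjective
    rw [RegularWreathProduct.card, Nat.card_zpowers, hζ, hC, pow_succ]
  · rw [hΘ, hτ, LinearEquiv.symm_apply_eq]
    funext x
    by_cases h : x = i
    · subst h; simp; ring
    · simp [h, Finsupp.single_eq_of_ne h]
  · rw [hΘ, hτ, LinearEquiv.symm_apply_eq]
    funext x
    simp [Finsupp.single_apply, eq_inv_mul_iff_mul_eq, Pi.single_apply, eq_comm]
end

/-- Let p be an odd prime and F a finite field with q elements such that p divides q - 1 but p² does not. Then GL(p, F) has a Sylow p-subgroup Q such that every element of p-power order lies in some Sylow p-subgroup other than Q (a redundant Sylow p-subgroup). -/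
theorem result {F : Type*} [Field F] [Fintype F] (p : ℕ) [Fact p.Prime]
    (hp : p ≠ 2) (h1 : p ∣ Fintype.card F - 1) (h2 : ¬ p ^ 2 ∣ Fintype.card F - 1) :
    ∃ Q : Sylow p (Matrix.GeneralLinearGroup (Fin p) F), ∀ x : Matrix.GeneralLinearGroup (Fin p) F,
      (∃ k : ℕ, orderOf x = p ^ k) → ∃ P : Sylow p (Matrix.GeneralLinearGroup (Fin p) F), P ≠ Q ∧ x ∈ P := by
  classical
  have hpp : p.Prime := Fact.out
  have hq1 := Fintype.one_lt_card (α := F)
  have hpq : ¬ p ∣ Fintype.card F := fun h => hpp.one_lt.ne' (Nat.dvd_one.1 (by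
    have := Nat.dvd_sub h h1
    rwa [Nat.sub_sub_self hq1.le] at this))
  have hp0 : (p : F) ≠ 0 := fun h => by
    have : CharP F p := (CharP.charP_iff_prime_eq_zero hpp).2 h
    obtain ⟨m, -, hm⟩ := FiniteField.card F p
    exact hpq (hm ▸ dvd_pow_self p m.ne_zero)
  have he : 0 < orderOf (Fintype.card F : ZMod p) :=
    orderOf_pos_iff.2 (isOfFinOrder_iff_pow_eq_one.2 ⟨p - 1, by have := hpp.two_le; omega,
      ZMod.pow_card_sub_one_eq_one fun h => hpq ((ZMod.natCast_eq_zero_iff _ _).1 h)⟩)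
  have h4 : 4 ≤ Fintype.card F := by
    have := Nat.le_of_dvd (by omega) h1
    have := hpp.two_le
    omega
  obtain ⟨ζ, hζ⟩ := exists_prime_orderOf_dvd_card' (G := Fˣ) p (by
    rwa [Nat.card_units, Nat.card_eq_fintype_card])
  have hζ1 : (ζ : F) ≠ 1 := fun h => by
    rw [Units.val_eq_one.1 h, orderOf_one] at hζ; exact hpp.one_lt.ne hζ
  obtain ⟨n, rfl⟩ : ∃ n, p = n + 1 := ⟨p - 1, by have := hpp.pos; omega⟩
  have hC : Nat.card (Multiplicative (ZMod (n + 1))) = n + 1 := by simp
  let b : Basis (Multiplicative (ZMod (n + 1))) F (Fin (n + 1) → F) := Pi.basisFun F (Fin (n + 1))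
  obtain ⟨H, hH, hHb, -⟩ := exists_mon hC hζ b
  obtain ⟨Q, hQ⟩ := hH.exists_le_sylow
  have hb : GoodB (ζ : F) (Q : Subgroup _) b := fun i => (hHb i).imp fun y hy => ⟨hQ hy.1, hy.2⟩
  refine ⟨Q, fun x ⟨k, hk⟩ => ?_⟩
  by_contra hcon
  push Not at hcon
  have huniq : ∀ P : Sylow (n + 1) (GL (Fin (n + 1)) F), x ∈ P → P = Q := fun P hP => by
    by_contra h; exact hcon P h hP
  have hx : x ^ (n + 1) ^ k = 1 := by rw [← hk, pow_orderOf_eq_one]
  have hxQ : x ∈ Q := by
    obtain ⟨P, hP⟩ := (IsPGroup.of_card ((Nat.card_zpowers x).trans hk)).exists_le_sylow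
    exact huniq P (hP (mem_zpowers x)) ▸ hP (mem_zpowers x)
  have hc : ∀ c, Commute c x → ∀ y ∈ (Q : Subgroup (GL (Fin (n + 1)) F)), c * y * c⁻¹ ∈ (Q : Subgroup _) := by
    intro c hcx y hy
    have e1 : ∀ z ∈ (Q : Subgroup (GL (Fin (n + 1)) F)), c * z * c⁻¹ ∈ ((c • Q : Sylow _ _) : Subgroup _) :=
      fun z hz => Subgroup.smul_mem_pointwise_smul z (MulAut.conj c) _ hz
    have e2 := e1 x hxQ
    rw [hcx.eq, mul_inv_cancel_right] at e2
    have e3 := e1 y hy
    rwa [huniq _ e2] at e3
  obtain ⟨l, hl⟩ : ∃ l : Multiplicative (ZMod (n + 1)) → F, ∀ i, L F _ x (b i) = l i • b i := by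
    refine ⟨fun i => b.coord i (L F _ x (b i)), fun i => b.ext_elem fun j => ?_⟩
    by_cases h : j = i
    · subst h; simp
    · have := diag hp hp0 he h4 Q.isPGroup' hζ1 hb hx hc h
      rw [Basis.coord_apply] at this
      rw [this, map_smul, Basis.repr_self, Finsupp.smul_apply, Finsupp.single_eq_of_ne h, smul_zero]
  have hlp : ∀ (m : ℕ) i, L F _ (x ^ m) (b i) = l i ^ m • b i := by
    intro m i
    induction m with
    | zero => simp
    | succ m ih => rw [pow_succ', map_mul, End.mul_apply, ih, map_smul, hl, smul_smul, pow_succ]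
  by_cases hinj : Function.Injective l
  swap
  · obtain ⟨i, j, hij, hne⟩ := Function.not_injective_iff.1 hinj
    obtain ⟨c, hc'⟩ := L_surj (1 + (b.coord j).smulRight (b i)) (fun v hv => by
      have h3 := congrArg (b.coord j) hv
      simp only [LinearMap.add_apply, End.one_apply, LinearMap.smulRight_apply, map_add, map_smul,
        Basis.coord_apply, Basis.repr_self, Finsupp.single_eq_of_ne hne.symm, smul_zero, add_zero, map_zero] at h3
      simpa [h3] using hv)
    have hcx : Commute c x := L_inj (b.ext fun m => by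
      rw [map_mul, map_mul, End.mul_apply, End.mul_apply, hc', hl, map_smul]
      simp only [LinearMap.add_apply, End.one_apply, LinearMap.smulRight_apply, map_add, map_smul, hl,
        Basis.coord_apply, Basis.repr_self, smul_add]
      by_cases h : j = m
      · subst h; simp [hij]
      · simp [Finsupp.single_eq_of_ne h])
    have h5 := mono hp hp0 he Q.isPGroup' hζ1 hb (hc c hcx) (i := j) (j := j) (k := i) hne.symm (by
      rw [hc']; simp [Finsupp.single_eq_of_ne hne.symm])
    rw [hc'] at h5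
    simp [Finsupp.single_eq_of_ne hne] at h5
  have hxp : x ^ (n + 1) = 1 := L_inj (b.ext fun i => by
    have e1 := hlp ((n + 1) ^ k) i
    rw [hx, map_one, End.one_apply] at e1
    have e2 : l i ^ (n + 1) ^ k = 1 := smul_left_injective F (b.ne_zero i) (by simpa using e1.symm)
    have e0 : l i ≠ 0 := fun h => by
      rw [h, zero_pow (by positivity)] at e2; exact zero_ne_one e2
    obtain ⟨s, -, hs⟩ := (Nat.dvd_prime_pow hpp).1 (orderOf_dvd_of_pow_eq_one e2)
    have e3 := orderOf_dvd_of_pow_eq_one (FiniteField.pow_card_sub_one_eq_one _ e0)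
    have e4 : s ≤ 1 := by
      by_contra h
      exact h2 ((pow_dvd_pow _ (by omega)).trans (hs ▸ e3))
    rw [hlp, map_one, End.one_apply, orderOf_dvd_iff_pow_eq_one.1
      (hs ▸ (pow_dvd_pow _ e4).trans (pow_one _).dvd), one_smul])
  let f : Multiplicative (ZMod (n + 1)) → (Fin (n + 1) → F) := fun i => L F _ (x ^ i.toAdd.val) (∑ j, b j)
  have hf : LinearIndependent F f := by
    rw [Fintype.linearIndependent_iff]
    intro a ha
    refine congrFun (Matrix.eq_zero_of_forall_index_sum_pow_mul_eq_zero (n := n + 1) (f := l) (v := a) hinj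
      fun j => ?_)
    have key : ∀ (m : ℕ) (j : Multiplicative (ZMod (n + 1))),
        b.coord j (L F _ (x ^ m) (∑ i, b i)) = l j ^ m := by
      intro m j
      simp only [map_sum, hlp, map_smul, Basis.coord_apply, Basis.repr_self, smul_eq_mul,
        Finsupp.single_apply, mul_ite, mul_one, mul_zero, Finset.sum_ite_eq', Finset.mem_univ, if_true]
    have := congrArg (b.coord j) ha
    rw [map_sum, map_zero] at this
    rw [← this]
    refine Finset.sum_congr (Finset.ext fun i => iff_of_true (Finset.mem_univ _) (@Finset.mem_univ _ (_) _)) fun i _ => ?_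
    rw [map_smul, smul_eq_mul, mul_comm]
    exact congrArg _ (key _ j).symm
  let b' := basisOfLinearIndependentOfCardEqFinrank hf (by simp)
  have hb' : ∀ i, b' i = f i := fun i => by simp [b']
  have hxf : ∀ i, L F _ x (b' i) = b' (Multiplicative.ofAdd 1 * i) := fun i => by
    rw [hb', hb']
    simp only [f]
    rw [← End.mul_apply, ← map_mul, ← pow_succ', toAdd_mul, toAdd_ofAdd, ZMod.val_add, ZMod.val_one,
      ← pow_eq_pow_mod _ hxp, add_comm 1 (Multiplicative.toAdd i).val]
  obtain ⟨H', hH', hHb', hg⟩ := exists_mon hC hζ b'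
  obtain ⟨g, hg1, hg2⟩ := hg (Multiplicative.ofAdd 1)
  obtain rfl : g = x := L_inj (b'.ext fun i => by rw [hg2, hxf])
  obtain ⟨P, hP⟩ := hH'.exists_le_sylow
  rw [huniq P (hP hg1)] at hP
  have h6 := diag hp hp0 he h4 Q.isPGroup' hζ1 (b := b')
    (fun i => (hHb' i).imp fun y hy => ⟨hP hy.1, hy.2⟩) hx hc (i := 1) (j := Multiplicative.ofAdd 1) (by simp)
  rw [hxf, mul_one] at h6
  simp at h6

end Cfsg.Agent.S4358
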