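import Cfsg.Statements.S4378
import Cfsg.Agent.Lib.BG.PLen2

set_option autoImplicit false
open Cfsg

namespace Cfsg.Agent.S4378

/-- Let G be a finite solvable group in which every maximal subgroup either has a normal 2-complement or has prime index. Then G has a chain of normal subgroups 1 ≤ A ≤ B ≤ C ≤ G in which A and C/B have odd order and B/A and G/C are 2-groups (so the 2-length of G is at most 2). -/
theorem result {G : Type*} [Group G] [Finite G]
    (hG : Group.IsSolvable G)
    (hmax : ∀ M : Subgroup G, IsCoatom M → (∃ K : Subgroup ↥M, K.Normal ∧ ¬ 2 ∣ Nat.card K ∧ ∃ k : ℕ, K.index = 2 ^ k) ∨ (M.index).Prime) :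
    ∃ A B C : Subgroup G, A.Normal ∧ B.Normal ∧ C.Normal ∧ A ≤ B ∧ B ≤ C ∧ Odd (Nat.card A) ∧
      (∃ k : ℕ, A.relIndex B = 2 ^ k) ∧ Odd (B.relIndex C) ∧ ∃ k : ℕ, C.index = 2 ^ k := by
  open Pointwise commutatorElement Subgroup in
  open Subgroup Cfsg.Agent.PL in
  haveI := Fact.mk Nat.prime_two
  have h := four_of_max (p := 2) G (Comp.pSol_of_isSolvable inferInstance) fun M hM => (hmax M hM).imp_left U_two_iff.2
  refine ⟨U 2 G 1, U 2 G 2, U 2 G 3, inferInstance, inferInstance, inferInstance, U_mono (by decide), U_mono (by decide),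
    ?_, relIndex_odd (by decide), Nat.two_dvd_ne_zero.1 (relIndex_even (by decide)) |> Nat.odd_iff.2, ?_⟩
  · rw [U_one]; exact Nat.odd_iff.2 (Nat.two_dvd_ne_zero.1 Solv.not_dvd_card_pPrimeCore)
  · rw [← relIndex_top_right, ← h]; exact relIndex_odd (by decide)

end Cfsg.Agent.S4378
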