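import Cfsg.Statements.S4379
import Cfsg.Agent.Lib.BG.PLen2

set_option autoImplicit false
open Cfsg

namespace Cfsg.Agent.S4379

/-- Let p be an odd prime and G a finite p-solvable group in which every maximal subgroup either has a normal p-complement or has prime index. Then G has a chain of normal subgroups 1 ≤ A ≤ B ≤ C ≤ D ≤ G in which A, C/B and G/D have order prime to p and B/A and D/C are p-groups (so the p-length of G is at most 2). -/
theorem result {G : Type*} [Group G] [Finite G]
    (p : ℕ) [Fact p.Prime] (hp : p ≠ 2) (hG : Cfsg.IsPSolvable p G)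
    (hmax : ∀ M : Subgroup G, IsCoatom M → (∃ K : Subgroup ↥M, K.Normal ∧ ¬ p ∣ Nat.card K ∧ ∃ k : ℕ, K.index = p ^ k) ∨ (M.index).Prime) :
    ∃ A B C D : Subgroup G, A.Normal ∧ B.Normal ∧ C.Normal ∧ D.Normal ∧ A ≤ B ∧ B ≤ C ∧ C ≤ D ∧ ¬ p ∣ Nat.card A ∧
      (∃ k : ℕ, A.relIndex B = p ^ k) ∧ ¬ p ∣ B.relIndex C ∧ (∃ k : ℕ, C.relIndex D = p ^ k) ∧ ¬ p ∣ D.index := by
  open Pointwise commutatorElement Subgroup in
  open Subgroup Cfsg.Agent.PL in
  have h := four_of_max (p := p) G (Comp.pSol_top_of_isPSolvable hG) fun M hM => (hmax M hM).imp_left U_two_iff.2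
  refine ⟨U p G 1, U p G 2, U p G 3, U p G 4, inferInstance, inferInstance, inferInstance, inferInstance,
    U_mono (by decide), U_mono (by decide), U_mono (by decide),
    ?_, relIndex_odd (by decide), relIndex_even (by decide), relIndex_odd (by decide), ?_⟩
  · rw [U_one]; exact Solv.not_dvd_card_pPrimeCore
  · rw [h, index_top, Nat.dvd_one]; exact (Fact.out : p.Prime).ne_one

end Cfsg.Agent.S4379
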