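import Cfsg.Statements.S4381
import Cfsg.Agent.Lib.BG.Act
import Cfsg.Agent.Lib.BG.Pgp
import Cfsg.Agent.Lib.BG.Quo

set_option autoImplicit false
open Pointwise
open Cfsg

namespace Cfsg.Agent.S4381

/-- Let the finite group A act by automorphisms on the finite group G with the orders of A and G coprime, and assume that A or G is solvable. Call a proper A-invariant subgroup of G maximal A-invariant when no A-invariant subgroup lies strictly between it and G. Then all maximal A-invariant subgroups of G are conjugate under elements of the fixed-point subgroup C_G(A) if and only if G is a p-group for some prime p and A leaves invariant no subgroup strictly between the Frattini subgroup of G and G. In that case, if G is nontrivial, the Frattini subgroup is the only maximal A-invariant subgroup (a trivial G has none). -/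
theorem result {A G : Type*} [Group A] [Finite A]
    [Group G] [Finite G] [MulDistribMulAction A G] (hcop : (Nat.card A).Coprime (Nat.card G)) (hsol : Group.IsSolvable A ∨ Group.IsSolvable G) :
    ((∀ M N : Subgroup G, (M ≠ ⊤ ∧ (∀ a : A, ∀ x ∈ M, a • x ∈ M) ∧ ∀ L : Subgroup G, M < L → (∀ a : A, ∀ x ∈ L, a • x ∈ L) → L = ⊤) → (N ≠ ⊤ ∧ (∀ a : A, ∀ x ∈ N, a • x ∈ N) ∧ ∀ L : Subgroup G, N < L → (∀ a : A, ∀ x ∈ L, a • x ∈ L) → L = ⊤) →
        ∃ c : G, (∀ a : A, a • c = c) ∧ N = MulAut.conj c • M) ↔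
      ((∃ p : ℕ, p.Prime ∧ IsPGroup p G) ∧ ∀ L : Subgroup G, frattini G < L → (∀ a : A, ∀ x ∈ L, a • x ∈ L) → L = ⊤)) ∧
    (((∃ p : ℕ, p.Prime ∧ IsPGroup p G) ∧ ∀ L : Subgroup G, frattini G < L → (∀ a : A, ∀ x ∈ L, a • x ∈ L) → L = ⊤) →
      ∀ M : Subgroup G, (M ≠ ⊤ ∧ (∀ a : A, ∀ x ∈ M, a • x ∈ M) ∧ ∀ L : Subgroup G, M < L → (∀ a : A, ∀ x ∈ L, a • x ∈ L) → L = ⊤) ↔ (M = frattini G ∧ M ≠ ⊤)) := by
  open Pointwise commutatorElement Subgroup in
  open Cfsg.Agent.Comp Cfsg.Agent.BG in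
  have f0 : ∀ a : A, ∀ x ∈ frattini G, a • x ∈ frattini G := fun a x hx =>
    (characteristic_iff_le_comap.1 inferInstance (MulDistribMulAction.toMulAut A G a)) hx
  have f1 : ∀ M : Subgroup G, (M ≠ ⊤ ∧ (∀ a : A, ∀ x ∈ M, a • x ∈ M) ∧ ∀ L : Subgroup G, M < L → (∀ a : A, ∀ x ∈ L, a • x ∈ L) → L = ⊤) →
      frattini G ≤ M := fun M h => by_contra fun e => h.1 (Solv.eq_top_of_sup_le_frattini le_rfl (h.2.2 _ (left_lt_sup.2 e) fun a x hx => by
    rw [← SetLike.mem_coe, mul_normal] at hx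
    obtain ⟨x, h1, y, h2, rfl⟩ := hx
    exact smul_mul' a x y ▸ mul_mem (mem_sup_left (h.2.1 a x h1)) (mem_sup_right (f0 a y h2))))
  have f2 : (∀ L : Subgroup G, frattini G < L → (∀ a : A, ∀ x ∈ L, a • x ∈ L) → L = ⊤) →
      ∀ M : Subgroup G, (M ≠ ⊤ ∧ (∀ a : A, ∀ x ∈ M, a • x ∈ M) ∧ ∀ L : Subgroup G, M < L → (∀ a : A, ∀ x ∈ L, a • x ∈ L) → L = ⊤) ↔
        (M = frattini G ∧ M ≠ ⊤) := fun h M =>
    ⟨fun e => ⟨by_contra fun f => e.1 (h M (lt_of_le_of_ne (f1 M e) (Ne.symm f)) e.2.1), e.1⟩, fun e => ⟨e.2, e.1 ▸ f0, e.1 ▸ h⟩⟩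
  refine ⟨⟨fun h => ?_, fun h M N a b => ⟨1, fun a => smul_one a, by
    rw [((f2 h.2 M).1 a).1, ((f2 h.2 N).1 b).1, map_one, one_smul]⟩⟩, fun h => f2 h.2⟩
  have mx : ∀ K : Subgroup G, K ≠ ⊤ → (∀ a : A, ∀ x ∈ K, a • x ∈ K) → ∃ M, K ≤ M ∧ (M ≠ ⊤ ∧ (∀ a : A, ∀ x ∈ M, a • x ∈ M) ∧
      ∀ L : Subgroup G, M < L → (∀ a : A, ∀ x ∈ L, a • x ∈ L) → L = ⊤) := fun K a b => by
    obtain ⟨L, l1, l2, l3⟩ := exists_maximal_subgroup (P := fun L : Subgroup G => L ≠ ⊤ ∧ ∀ a : A, ∀ x ∈ L, a • x ∈ L) (A := K) ⟨a, b⟩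
    exact ⟨L, l1, l2.1, l2.2, fun M m1 m2 => by_contra fun e => m1.ne' (l3 M ⟨e, m2⟩ m1.le)⟩
  obtain ⟨X, _, _, i, j, hX⟩ := exists_act (MulDistribMulAction.toMulAut A G)
  have := hX.normal
  have hc : (Nat.card j.range).Coprime (Nat.card i.range) := by rwa [hX.card_range, hX.card_range']
  have hp : ∃ p : ℕ, p.Prime ∧ IsPGroup p G := by
    by_contra e
    have a : ∀ p : ℕ, p.Prime → ¬ IsPGroup p G := fun p a b => e ⟨p, a, b⟩
    obtain ⟨M, -, m⟩ := mx ⊥ (fun e => a 2 Nat.prime_two (IsPGroup.of_equiv (e ▸ IsPGroup.of_bot) topEquiv))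
      fun a x hx => by rw [mem_bot.1 hx, smul_one]; exact one_mem _
    refine m.1 (eq_of_forall_sylIn le_top fun q hq _ => ?_)
    have := Fact.mk hq
    obtain ⟨Q, q1, q2⟩ := exists_invariant_sylIn q (le_normalizer_of_normal (K := j.range)) hc
      (hsol.imp (fun h => @Group.isSolvable_of_surjective _ _ _ _ _ j.rangeRestrict_surjective h)
        fun h => @Group.isSolvable_of_surjective _ _ _ _ _ i.rangeRestrict_surjective h)
    obtain ⟨Q, rfl⟩ := Act.exists_map q1.le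
    have q3 : IsPGroup q Q := q1.isP.of_equiv (equivMapOfInjective Q i hX.inj).symm
    have q4 : SylIn q Q ⊤ := ⟨le_top, q3, fun R r1 r2 _ => map_injective hX.inj (q1.max _ (r1.map i) (map_mono r2) (map_le_range _ _))⟩
    obtain ⟨N, n1, n2⟩ := mx Q (fun e => a q hq (IsPGroup.of_equiv (e ▸ q3) topEquiv)) (hX.le_normalizer_iff.1 q2)
    obtain ⟨c, -, rfl⟩ := h N M n2 m
    exact ⟨_, q4.cj_of_mem (g := c) (le_normalizer (mem_top c)), cj_mono c n1⟩
  refine ⟨hp, fun L l1 l2 => by_contra fun l3 => ?_⟩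
  obtain ⟨p, hp, hG⟩ := hp
  have := Fact.mk hp
  have n0 : (⊤ : Subgroup X) ≤ Nm((frattini G).map i) := hX.sup.ge.trans (sup_le (hX.le_normalizer_iff.2 f0) (by
    rw [MonoidHom.range_eq_map]; exact (map_mono le_normalizer_of_normal).trans (le_normalizer_map _)))
  have e : IsElementaryAbelian p (img n0 i.range) := (elem_img_iff le_top).2 ⟨by
    rw [MonoidHom.range_eq_map, ← map_commutator]; exact map_mono (Solv.commutator_le_frattini_of_isPGroup hG), by
    rintro _ ⟨g, rfl⟩; exact map_pow i g p ▸ mem_map_of_mem _ (Solv.pow_mem_frattini hG g)⟩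
  have : Nontrivial G := by
    by_contra e
    exact l3 (@Subsingleton.elim _ (by rw [not_nontrivial_iff_subsingleton] at e; infer_instance) _ _)
  obtain ⟨W, w1, w2, w3⟩ := exists_invariant_compl_of_elem e (img_le_normalizer (A := j.range) le_normalizer_of_normal)
    (((hX.card_range' ▸ hcop).coprime_dvd_right (hG.card_eq_or_dvd.resolve_left Finite.one_lt_card.ne')).coprime_dvd_left (card_img_dvd _))
    (img_mono (map_le_range i L)) (img_le_normalizer (hX.le_normalizer_iff.2 l2))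
  have w4 : pre n0 W ≤ i.range := by
    rw [← pre_img_of_le (h := n0) le_top (map_le_range i _)]; exact pre_mono (le_sup_right.trans w3.le)
  obtain ⟨K, hK⟩ := Act.exists_map w4
  obtain ⟨M, m1, m2⟩ := mx L l3 l2
  obtain ⟨N, n1, n2⟩ := mx K (fun f => l1.not_ge ((map_le_map_iff_of_injective hX.inj).1 ((img_eq_bot_iff (h := n0) le_top).1 (by
      rw [← w2, ← img_pre W, ← hK, hX.map_eq_range.2 f, eq_comm, inf_eq_right]; exact img_mono (map_le_range i L)))))
    (hX.le_normalizer_iff.1 (hK ▸ le_normalizer_pre le_top w1))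
  obtain ⟨c, -, rfl⟩ := h M N m2 n2
  have : M.Normal := Subgroup.Normal.of_commutator_le G ((Solv.commutator_le_frattini_of_isPGroup hG).trans (f1 M m2))
  rw [smul_eq_cj, cj_eq_self_of_normal] at n1
  refine m2.1 (hX.map_eq_range.1 (le_antisymm (map_le_range _ _) ((img_le_img_iff' (h := n0) le_top le_top (map_mono (f1 M m2))).1 ?_)))
  rw [← w3, ← img_pre W, ← hK]
  exact sup_le (img_mono (map_mono m1)) (img_mono (map_mono n1))

end Cfsg.Agent.S4381
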