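import Cfsg.Statements.S4397
import Cfsg.Agent.Lib.PU.SecR

set_option autoImplicit false
open Cfsg

namespace Cfsg.Agent.S4397

/-- A finite 2-group of sectional 2-rank at most 2 (every section has no elementary abelian subgroup of order 8) is metacyclic: it has a cyclic normal subgroup with cyclic quotient. -/
theorem result {S : Type*} [Group S] [Finite S] (h2 : IsPGroup 2 S) (hr : Cfsg.SectionalPRankLE 2 2 S) : Cfsg.IsMetacyclic S := by
  obtain ⟨a, b, h3, h4⟩ := PU.thm_4397 S h2 (PU.sr_top hr)
  haveI : (Subgroup.zpowers a).Normal := Solv.normal_iff_top_le_normalizer.2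
    (h4.ge.trans (sup_le Subgroup.le_normalizer (Subgroup.zpowers_le.2 h3)))
  refine ⟨Subgroup.zpowers a, inferInstance, inferInstance, QuotientGroup.mk b, fun x => ?_⟩
  have := congrArg (Subgroup.map (QuotientGroup.mk' (Subgroup.zpowers a))) h4
  rw [Subgroup.map_sup, QuotientGroup.map_mk'_self, bot_sup_eq, MonoidHom.map_zpowers,
    Subgroup.map_top_of_surjective _ (QuotientGroup.mk'_surjective _)] at this
  exact this.ge (Subgroup.mem_top x)

end Cfsg.Agent.S4397
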