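import Cfsg.Statements.S4403
import Cfsg.Agent.Lib.BG.MinNA

set_option autoImplicit false
open Cfsg

namespace Cfsg.Agent.S4403
section
open Pointwise commutatorElement Subgroup
open Cfsg.Agent.Comp Cfsg.Agent.BG Subgroup commutatorElement in
theorem common {G : Type*} [Group G] [Finite G] {p : ℕ} [hp : Fact p.Prime] (h : ∀ Q : Subgroup G, IsPGroup p Q → IsCyclic Q)
    {A B : Subgroup G} (h1 : A ≤ Ct(B)) (a : p ∣ Nat.card A) (b : p ∣ Nat.card B) : ∃ z ∈ A ⊓ B, orderOf z = p := by
  obtain ⟨x, x1, x2⟩ := exists_mem_orderOf_eq a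
  obtain ⟨y, y1, y2⟩ := exists_mem_orderOf_eq b
  have e : zpowers x ≤ Nm(zpowers y) :=
    ((zpowers_le.2 x1).trans (h1.trans (centralizer_le (zpowers_le.2 y1)))).trans (centralizer_le_normalizer _)
  have q := IsPGroup.to_sup_of_normal_right' (isPGroup_zpowers_of_orderOf_eq x2) (isPGroup_zpowers_of_orderOf_eq y2) e
  have := Solv.eq_of_isCyclic_of_card_eq (h _ q) le_sup_left le_sup_right (by rw [Nat.card_zpowers, Nat.card_zpowers, x2, y2])
  exact ⟨x, ⟨x1, zpowers_le.2 y1 (this ▸ mem_zpowers x)⟩, x2⟩
end

/-- Let K be a finite group, p a prime dividing its order with O_{p'}(K) = 1 (no nontrivial normal subgroup of order prime to p), and P a cyclic Sylow p-subgroup of K. Then either P is normal and self-centralizing in K with K/P cyclic of order dividing p − 1 (so K is the semidirect product of P by a group of automorphisms of P of order dividing p − 1), or the generalized Fitting subgroup F*(K) is a non-abelian simple group and p does not divide the index of F*(K) in K. -/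
theorem result {K : Type*} [Group K] [Finite K] (p : ℕ) [Fact p.Prime] (hp : p ∣ Nat.card K) (hO : Cfsg.pPrimeCore p K = ⊥)
    (P : Sylow p K) (hP : IsCyclic ↥(P : Subgroup K)) :
    ((P : Subgroup K).Normal ∧ Subgroup.centralizer ((P : Subgroup K) : Set K) = (P : Subgroup K) ∧
      (∀ (_ : (P : Subgroup K).Normal), IsCyclic (K ⧸ (P : Subgroup K))) ∧ (P : Subgroup K).index ∣ p - 1) ∨
    (IsSimpleGroup ↥(Cfsg.generalizedFittingSubgroup K) ∧ ¬ IsMulCommutative ↥(Cfsg.generalizedFittingSubgroup K) ∧
      ¬ p ∣ (Cfsg.generalizedFittingSubgroup K).index) := by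
  open Pointwise commutatorElement Subgroup in
  open Cfsg.Agent.Comp Cfsg.Agent.BG Subgroup commutatorElement in
  have hp' : p.Prime := Fact.out
  have s1 := sylIn_top P
  have hc : ∀ Q : Subgroup K, IsPGroup p Q → IsCyclic Q := fun Q hQ => by
    obtain ⟨g, -, e⟩ := s1.exists_cj_le hQ le_top
    exact isCyclic_cj.1 (isCyclic_of_le e hP)
  have o1 : Opp p (⊤ : Subgroup K) = ⊥ := (Opp_top p).trans hO
  have pc : (P : Subgroup K) ≤ Ct((P : Subgroup K)) := le_centralizer_iff_isMulCommutative.2 (comm_of_isCyclic hP)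
  by_cases hL : Lay (⊤ : Subgroup K) = ⊥
  · have c1 := charP_iff_Lay_Opp.2 ⟨hL, o1⟩
    have e1 : (P : Subgroup K) = Op p ⊤ := le_antisymm (c1.le_Op le_top (pc.trans (centralizer_le s1.Op_le))) s1.Op_le
    haveI hn : (P : Subgroup K).Normal := e1 ▸ inferInstance
    have e2 : Ct((P : Subgroup K)) = P := le_antisymm (by rw [e1]; exact c1.le_Op le_top le_rfl) pc
    obtain ⟨z, z1, z2⟩ := exists_mem_orderOf_eq (dvd_card_of_isPGroup P.isPGroup' (P.ne_bot_of_dvd_card hp))
    haveI := Solv.normal_of_le_isCyclic hP (zpowers_le.2 z1)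
    have z3 : Nat.card (zpowers z) = p := by rw [Nat.card_zpowers, z2]
    have e3 : Ct(zpowers z) = P := by
      refine le_antisymm (fun g hg => ?_) (pc.trans (centralizer_le (zpowers_le.2 z1)))
      by_contra e
      obtain ⟨q, hq, -, y, y1, y2, y3⟩ := Solv.exists_prime_pow_notMem e
      haveI := Fact.mk hq
      by_cases hpq : q = p
      · subst hpq
        exact y3 (s1.le_of_normalizer y2 le_top le_normalizer_of_normal (mem_zpowers y))
      have y4 : (Nat.card (zpowers y)).Coprime (Nat.card P) := Solv.coprime_card_of_isPGroup_ne hpq y2 P.isPGroup'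
      have y5 := commutator_inf_Ct_of_comm (comm_of_isCyclic hP) (A := zpowers y) le_normalizer_of_normal y4
      have y6 : (⁅(P : Subgroup K), zpowers y⁆ : Subgroup K) ≤ P := commutator_le_left _ _
      refine y3 (e2 ▸ zpowers_le.1 (le_centralizer_iff.1 (commutator_eq_bot_iff_le_centralizer.1 ?_)))
      by_contra e'
      have y7 : zpowers z ≤ ⁅(P : Subgroup K), zpowers y⁆ := Solv.le_of_isCyclic_of_card_dvd hP (zpowers_le.2 z1) y6
        (z3.dvd.trans (dvd_card_of_isPGroup (P.isPGroup'.to_le y6) e'))
      have y8 : zpowers z ≤ Ct(zpowers y) := le_centralizer_iff.1 (zpowers_le.2 (zpowers_le.2 hg y1))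
      have := (le_inf y7 y8).trans y5.le
      rw [le_bot_iff, zpowers_eq_bot] at this
      rw [this, orderOf_one] at z2
      exact hp'.one_lt.ne z2
    have k1 : (MulAut.conjNormal (H := zpowers z)).ker = P := by
      rw [← e3]
      ext g
      rw [MonoidHom.mem_ker, mem_centralizer_iff]
      constructor
      · intro h x hx
        have := congrArg Subtype.val (DFunLike.congr_fun h ⟨x, hx⟩)
        rw [MulAut.conjNormal_apply] at this
        exact (mul_inv_eq_iff_eq_mul.1 this).symm
      · intro h
        ext ⟨x, hx⟩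
        simp [← h x hx]
    have k2 : Nat.card (MulAut (zpowers z)) = p - 1 := by rw [IsCyclic.card_mulAut, z3, Nat.totient_prime hp']
    haveI k3 : IsCyclic (MulAut (zpowers z)) := by
      haveI : Fact (Nat.card (zpowers z)).Prime := ⟨z3 ▸ hp'⟩
      exact isCyclic_of_surjective _ (IsCyclic.mulAutMulEquiv (zpowers z)).symm.surjective
    refine Or.inl ⟨hn, e2, fun _ => ?_, ?_⟩
    · exact isCyclic_of_surjective _
        ((QuotientGroup.quotientMulEquivOfEq k1.symm).trans (QuotientGroup.quotientKerEquivRange _)).symm.surjective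
    · rw [← k1, index_ker, ← k2]
      exact card_subgroup_dvd_card _
  · rw [Lay_eq_bot_iff] at hL
    push Not at hL
    obtain ⟨L, hL⟩ := hL
    have d : ∀ M, CompIn M (⊤ : Subgroup K) → p ∣ Nat.card M := fun M hM => by
      by_contra e
      have := hM.subn.Opp_le p
      rw [Opp_eq_self (coprime_iff_not_dvd.2 e), o1, le_bot_iff] at this
      exact hM.qs.ne_bot this
    have n : ∀ A, A ≤ Ct(L) → ¬ p ∣ Nat.card A := fun A hA a => by
      obtain ⟨z, ⟨z1, z2⟩, z3⟩ := common hc hA a (d L hL)
      obtain ⟨S⟩ : Nonempty (Sylow p L) := inferInstance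
      have z4 : (⟨z, z2⟩ : L) ∈ center L := mem_center_iff.2 fun g => Subtype.ext (hA z1 g g.2)
      have z5 : orderOf (⟨z, z2⟩ : L) = p := by rw [← z3, ← orderOf_coe]
      have z6 : (⟨z, z2⟩ : L) ∈ (S : Subgroup L) := (sylIn_top S).le_of_normalizer' (isPGroup_zpowers_of_orderOf_eq z5) le_top
        (le_top.trans ((le_centralizer_iff.1 ((zpowers_le.2 z4).trans (Subgroup.center_le_centralizer _))).trans
          (centralizer_le_normalizer _))) (mem_zpowers _)
      have z7 := MinNA.pow_index_mem_der z6 z4 (by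
        have : _root_.commutator L = ⊤ := by
          apply map_injective L.subtype_injective
          rw [map_subtype_commutator, hL.qs.perfect, ← MonoidHom.range_eq_map, range_subtype]
        exact this ▸ mem_top _)
      rw [commutator_self_eq_bot_iff.2 (comm_of_isCyclic ((isCyclic_map_iff L.subtype_injective).1
        (hc _ (S.isPGroup'.map _)))), mem_bot] at z7
      exact S.not_dvd_index (z5.symm.dvd.trans (orderOf_dvd_of_pow_eq_one z7))
    have f1 : Fit (⊤ : Subgroup K) = ⊥ := by
      by_contra e
      refine n _ ((Fit_le_centralizer_Lay ⊤).trans (centralizer_le hL.le_Lay)) (dvd_card_of_isPGroup ?_ e)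
      rw [Fit_eq_Op o1]
      exact isPGroup_Op _ _
    have f2 : Lay (⊤ : Subgroup K) = L := le_antisymm (Lay_le_iff.2 fun M hM =>
      ((hM.eq_or_le_centralizer hL).resolve_right fun e => n _ e (d M hM)).le) hL.le_Lay
    have f3 : generalizedFittingSubgroup K = L := by rw [← Fstar_top, Fstar, f1, f2, sup_bot_eq]
    have f4 : L ⊓ Ct(L) = ⊥ := by rw [← le_bot_iff, ← f1, ← f2]; exact center_Lay_le_Fit _
    haveI : L.Normal := f2 ▸ inferInstance
    rw [f3]
    refine Or.inr ⟨?_, fun e => hL.qs.not_le_centralizer (le_centralizer_iff_isMulCommutative.2 e), ?_⟩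
    · haveI := (nontrivial_iff_ne_bot _).2 hL.qs.ne_bot
      refine ⟨fun N hN => ?_⟩
      rcases hL.qs.normal (N.map L.subtype) (map_subtype_le _) ((normal_iff_map_subtype N).1 hN) with e | e
      · exact Or.inr (map_injective L.subtype_injective (by rw [e, ← MonoidHom.range_eq_map, range_subtype]))
      · exact Or.inl ((map_eq_bot_iff_of_injective _ L.subtype_injective).1 (le_bot_iff.1 (f4 ▸ le_inf (map_subtype_le _) e)))
    · rcases le_commutator_or_hasNPC (s1.of_le (K := L ⊔ P) le_sup_right le_top) hP with e | e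
      · have := e.trans (commutator_sup_le_sup_commutator le_normalizer_of_normal)
        rw [commutator_self_eq_bot_iff.2 (comm_of_isCyclic hP), sup_bot_eq] at this
        exact fun h => P.not_dvd_index (h.trans (index_dvd_of_le this))
      · refine absurd ((d L hL).trans (card_dvd_of_le ?_))
          (not_dvd_commutator_of_hasNPC e (s1.of_le le_sup_right le_top) (comm_of_isCyclic hP))
        exact hL.qs.perfect.ge.trans (commutator_mono le_sup_left le_sup_left)

end Cfsg.Agent.S4403
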