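import Cfsg.Statements.S4413
import Cfsg.Agent.Lib.Ez.J5

set_option autoImplicit false
open Cfsg

namespace Cfsg.Agent.S4413

/-- Let P be an extraspecial 2-group of order 32 with no elementary abelian subgroup of order 8 (the central product of a dihedral and a quaternion group of order 8). Then the inner automorphism group of P has order 16 and the outer automorphism group Aut(P)/Inn(P) is isomorphic to the symmetric group of degree 5; in particular Aut(P) has order 1920. -/
theorem result {P : Type*} [Group P] [Finite P]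
    (hex : Cfsg.IsExtraspecial 2 P) (h32 : Nat.card P = 32)
    (hminus : ∀ A : Subgroup P, Cfsg.IsElementaryAbelian 2 A → Nat.card ↥A ≤ 4)
    [(MulAut.conj : P →* MulAut P).range.Normal] :
    Nat.card ↥(MulAut.conj : P →* MulAut P).range = 16 ∧ Nat.card (MulAut P) = 1920 ∧
      Nonempty ((MulAut P ⧸ (MulAut.conj : P →* MulAut P).range) ≃* Equiv.Perm (Fin 5)) := by
  have hP2 : Cfsg.PRankLE 2 2 P := fun A h1 h2 => hminus A ⟨h1, h2⟩
  have mono : ∀ (X : Type _) [Group X] {k l : ℕ}, k ≤ l → Cfsg.PRankLE 2 k X → Cfsg.PRankLE 2 l X :=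
    fun X _ k l hkl h A h1 h2 => (h A h1 h2).trans (Nat.pow_le_pow_right (by norm_num) hkl)
  have monoM : ∀ {k l : ℕ}, k ≤ l → Cfsg.PRankLE 2 k Ez.X32.M → Cfsg.PRankLE 2 l Ez.X32.M :=
    fun {k l} hkl h A h1 h2 => (h A h1 h2).trans (Nat.pow_le_pow_right (by norm_num) hkl)
  have hP1 : ¬ Cfsg.PRankLE 2 1 P := by
    rcases (S3763.result.{_, 0} hex 2 h32).1 with h | h
    · exact h.2
    · exact absurd hP2 h.2
  have hM1 : ¬ Cfsg.PRankLE 2 1 Ez.X32.M := by
    rcases (S3763.result.{_, 0} Ez.X32.extra 2 Ez.X32.card_M).1 with h | h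
    · exact h.2
    · exact absurd Ez.X32.rank2 h.2
  obtain ⟨e⟩ := (S3763.result hex 2 h32).2 Ez.X32.M Ez.X32.extra (Ez.X32.card_M.trans h32.symm) fun k => by
    by_cases hk : 2 ≤ k
    · exact ⟨fun _ => monoM hk Ez.X32.rank2, fun _ => mono P hk hP2⟩
    · exact ⟨fun h => absurd (mono P (by omega) h) hP1, fun h => absurd (monoM (by omega) h) hM1⟩
  let f : MulAut P →* Equiv.Perm (Fin 5) := Ez.X32.fM.comp (MulAut.congr e).toMonoidHom
  have hs : Function.Surjective f := Ez.X32.fM_surj.comp (MulAut.congr e).surjective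
  have hk : (MulAut.conj : P →* MulAut P).range = f.ker := by
    ext φ
    rw [MonoidHom.mem_ker, MonoidHom.mem_range]
    show _ ↔ Ez.X32.fM (MulAut.congr e φ) = 1
    rw [Ez.X32.fM_ker]
    constructor
    · rintro ⟨g, rfl⟩
      exact ⟨e g, fun x => by simp⟩
    · rintro ⟨g, hg⟩
      refine ⟨e.symm g, ?_⟩
      ext x
      apply e.injective
      have := hg (e x)
      simpa using this.symm
  have hker : (MulAut.conj : P →* MulAut P).ker = Subgroup.center P := by
    ext g
    rw [MonoidHom.mem_ker, Subgroup.mem_center_iff, MulEquiv.ext_iff]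
    refine forall_congr' fun x => ?_
    rw [MulAut.conj_apply, MulAut.one_apply, mul_inv_eq_iff_eq_mul, eq_comm]
  have h16 : Nat.card ↥(MulAut.conj : P →* MulAut P).range = 16 := by
    have h1 := (MulAut.conj : P →* MulAut P).ker.index_mul_card
    rw [Subgroup.index_ker, hker, hex.2, h32] at h1
    omega
  refine ⟨h16, ?_, ⟨(QuotientGroup.quotientMulEquivOfEq hk).trans (QuotientGroup.quotientKerEquivOfSurjective f hs)⟩⟩
  have h1 := f.ker.index_mul_card
  rw [Subgroup.index_ker, MonoidHom.range_eq_top.2 hs, Subgroup.card_top, ← hk, h16, Nat.card_perm] at h1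
  rw [← h1]
  simp [Nat.factorial]

end Cfsg.Agent.S4413
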