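import Cfsg.Statements.S4416
import Cfsg.Agent.Lib.BG.ES2
import Cfsg.Agent.S0095

set_option autoImplicit false
open Cfsg

namespace Cfsg.Agent.S4416

/-- Classification of extraspecial 2-groups in intrinsic form. An extraspecial 2-group has order 2^(2m+1) for some m ≥ 1, and the number of its elements squaring to the identity is either 2^(2m) + 2^m or 2^(2m) − 2^m; two extraspecial 2-groups of the same order with the same number of such elements are isomorphic. (The two cases are the central products of m dihedral groups of order 8, and of m − 1 dihedral groups with one quaternion group.) -/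
theorem result (E : Type*) [Group E] [Finite E] (hE : Cfsg.IsExtraspecial 2 E) :
    (∃ m : ℕ, 1 ≤ m ∧ Nat.card E = 2 ^ (2 * m + 1) ∧
      (Nat.card {x : E // x ^ 2 = 1} = 2 ^ (2 * m) + 2 ^ m ∨ Nat.card {x : E // x ^ 2 = 1} = 2 ^ (2 * m) - 2 ^ m)) ∧
    ∀ (E' : Type*) [Group E'] [Finite E'], Cfsg.IsExtraspecial 2 E' → Nat.card E' = Nat.card E →
      Nat.card {x : E' // x ^ 2 = 1} = Nat.card {x : E // x ^ 2 = 1} → Nonempty (E ≃* E') := by
  open Pointwise commutatorElement Subgroup in
  open Cfsg.Agent.Comp Cfsg.Agent.BG Cfsg.Agent.ES2 Subgroup commutatorElement in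
  haveI := Fact.mk Nat.prime_two
  obtain ⟨z, hz⟩ := Transfer.ES.of_extraspecial hE
  refine ⟨?_, fun E' _ _ h1 h2 h3 => ?_⟩
  · obtain ⟨m, hm, e⟩ := S0095.result hE
    obtain ⟨r, r1, -, r2⟩ := (gs_of_es hz).main _ rfl
    have c : (⊤ : Subgroup E) ⊓ Ct((⊤ : Subgroup E)) = zpowers z := hz.cen
    rw [c, hz.card_z] at r1 r2
    rw [card_top, e, ← pow_succ] at r1
    obtain rfl : m = r := by
      have := Nat.pow_right_injective (le_refl 2) r1
      omega
    have t := sm_chi_top (G := E)
    refine ⟨m, hm, e, ?_⟩
    rw [e, pow_succ] at t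
    rcases r2 with ⟨-, x, x1, x2⟩ | a | a
    · rcases zp hz.ord x1 with rfl | rfl
      · exact absurd (one_pow 2) x2
      · exact absurd (hz.ord ▸ pow_orderOf_eq_one x) x2
    · left
      rw [a] at t
      zify
      push_cast at t
      omega
    · right
      rw [a] at t
      refine Nat.eq_sub_of_add_eq ?_
      zify
      push_cast at t
      omega
  · obtain ⟨z', hz'⟩ := Transfer.ES.of_extraspecial h1
    have t := sm_chi_top (G := E)
    have t' := sm_chi_top (G := E')
    rw [h2, h3] at t'
    exact (iso _ hz hz' rfl (by rw [card_top, card_top, h2]) (by omega)).top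

end Cfsg.Agent.S4416
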