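import Cfsg.Statements.S4418
import Cfsg.Agent.Lib.Fusion.MCyc3
import Cfsg.Agent.Lib.Transfer.AutS
import Cfsg.Agent.Lib.Transfer.MC
import Cfsg.Agent.S0949

set_option autoImplicit false
open Cfsg

namespace Cfsg.Agent.S4418

open Subgroup Fusion

/-- Let G be a finite group whose Sylow 2-subgroup S is metacyclic via a cyclic normal subgroup N of S with S/N cyclic of order greater than 2. Then G is soluble. -/
theorem result {G : Type*} [Group G] [Finite G] (S : Sylow 2 G) (N : Subgroup ↥(S : Subgroup G)) [hN : N.Normal] (hNc : IsCyclic N) (hQc : IsCyclic (↥(S : Subgroup G) ⧸ N)) (hQ : 2 < Nat.card (↥(S : Subgroup G) ⧸ N)) : Group.IsSolvable G := by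
  let f := QuotientGroup.mk' N
  have cm : ∀ x y : ↥(S : Subgroup G) ⧸ N, x * y = y * x := IsCyclic.commGroup.mul_comm
  have key : ∀ a b : S, zpowers a ⊔ zpowers b = ⊤ → f a ^ 2 = 1 → f b ^ 2 = 1 → False :=
    fun a b e ha hb => by
      have : Monoid.exponent (↥(S : Subgroup G) ⧸ N) ∣ 2 := Monoid.exponent_dvd_of_forall_pow_eq_one
        fun x => by
          obtain ⟨x, rfl⟩ := QuotientGroup.mk'_surjective N x
          letI : CommGroup (↥(S : Subgroup G) ⧸ N) := IsCyclic.commGroup
          exact (sup_le (c := ((powMonoidHom 2).comp f).ker) (zpowers_le.2 ha) (zpowers_le.2 hb))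
            (e.ge (mem_top x))
      rw [IsCyclic.exponent_eq_card] at this
      exact absurd (Nat.le_of_dvd two_pos this) (by omega)
  have mc : ∀ {a b : S} {n}, Transfer.MC ⊤ a b n → f a ^ 2 = 1 := fun {a b n} h => by
    have e : f (b * a * b⁻¹) = f a := by simp [cm (f b)]
    rcases h.cnj with h1 | ⟨h2, h1⟩ <;> rw [h1] at e
    · rw [sq]; nth_rw 1 [← e]; simp
    · have e1 : f a ^ 2 ^ n = f a ^ 2 := by rw [sq]; nth_rw 2 [← e]; simp
      have e2 : f a ^ 2 ^ 2 = 1 := by
        rw [sq 2, pow_mul, ← e1, ← pow_mul, ← pow_succ, ← h.ord, ← map_pow, pow_orderOf_eq_one, map_one]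
      obtain ⟨k, rfl⟩ := Nat.exists_eq_add_of_le h2
      rw [← e1, pow_add, pow_mul, e2, one_pow]
  obtain h | ⟨n, ⟨e⟩⟩ | ⟨m, ⟨e⟩⟩ | ⟨m, hm, ⟨e⟩⟩ | h := MCyc.meta_cases S.isPGroup' (group_saturated S)
    ⟨N, hN, hNc, hQc⟩
  · exact Transfer.sol_of_hasNPC_two (hasNPC_of_isInner (sylowIn_top S) h)
  · rcases n with _ | n
    · exfalso
      have : Monoid.exponent (↥(S : Subgroup G) ⧸ N) ∣ 2 := Monoid.exponent_dvd_of_forall_pow_eq_one
        fun x => by
          obtain ⟨x, rfl⟩ := QuotientGroup.mk'_surjective N x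
          obtain ⟨y, rfl⟩ := e.symm.surjective x
          rw [← map_pow, ← map_pow, show y ^ 2 = 1 by revert y; decide, map_one, map_one]
      rw [IsCyclic.exponent_eq_card] at this
      exact absurd (Nat.le_of_dvd two_pos this) (by omega)
    let O := pPrimeCore 2 G
    let π := QuotientGroup.mk' O
    have sj : Function.Surjective π := QuotientGroup.mk'_surjective _
    have ho : Odd (Nat.card O) := Nat.odd_iff.2 (Nat.two_dvd_ne_zero.1 Solv.not_dvd_card_pPrimeCore)
    obtain ⟨k, hk⟩ := IsPGroup.iff_card.1 S.isPGroup'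
    have hd := Solv.inf_eq_bot_of_coprime' (H := S.1) (K := O)
      (hk ▸ (Nat.coprime_two_left.2 ho).pow_left k)
    have φ : (S.mapSurjective sj).1 ≃* S.1 := ((MonoidHom.ofInjective (f := π.comp S.1.subtype)
      ((injective_iff_map_eq_one _).2 fun a ha => Subtype.ext (mem_bot.1 (hd.le
        ⟨a.2, (QuotientGroup.eq_one_iff _).1 ha⟩)))).trans (MulEquiv.subgroupCongr (by
        rw [← MonoidHom.map_range, range_subtype]; rfl))).symm
    obtain ⟨h1, -, h2⟩ := S0949.result (S.mapSurjective sj) (n + 2) (by omega)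
      ((φ.trans e).trans (MulEquiv.prodMultiplicative _ _).symm) fun K _ hK => eq_bot_iff.2
        ((Solv.le_pPrimeCore (p := 2) (Nat.coprime_two_right.2 hK)).trans
          Solv.pPrimeCore_quotient_pPrimeCore.le)
    have s1 : Group.IsSolvable ((G ⧸ O) ⧸ (S.mapSurjective sj).1) := PF.odd_solvable (by
      rw [← index_eq_card]; rcases h2 with h | h <;> rw [h] <;> decide)
    have s2 : Group.IsSolvable (S.mapSurjective sj).1 :=
      haveI := (S.mapSurjective sj).isPGroup'.isNilpotent; inferInstance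
    have s3 : Group.IsSolvable (G ⧸ O) := Group.isSolvable_of_ker_le_range
      (S.mapSurjective sj).1.subtype (QuotientGroup.mk' (S.mapSurjective sj).1)
        (by rw [QuotientGroup.ker_mk', range_subtype])
    have := Transfer.odd_sol ho
    exact Group.isSolvable_of_ker_le_range O.subtype π (by simp [π])
  · obtain ⟨a, b, n, h1, h2, -⟩ := Transfer.mc_of_dihedral (S.isPGroup'.to_subgroup ⊤)
      (Nat.le_self_pow (by omega) 2) (topEquiv.trans e)
    exact (key a b h1.eq.symm (mc h1) (by rw [← map_pow, sq, h2, map_one])).elim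
  · obtain ⟨a, b, h1, h2, -⟩ := Transfer.mc_of_quaternion (topEquiv.trans e)
    obtain ⟨k, rfl⟩ := Nat.exists_eq_add_of_le hm
    exact (key a b h1.eq.symm (mc h1) (by
      rw [← map_pow, sq, h2, map_pow, pow_add, pow_one, pow_mul, mc h1, one_pow])).elim
  · obtain ⟨a, b, n, h1⟩ := Transfer.qd_top h
    exact (key a b h1.eq.symm (mc h1.toMC) (by rw [← map_pow, sq, h1.sq1, map_one])).elim

end Cfsg.Agent.S4418
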