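import Cfsg.Statements.S4420
import Cfsg.Agent.Lib.Solv.Frattini

set_option autoImplicit false
open Cfsg

namespace Cfsg.Agent.S4420
section
open Pointwise commutatorElement Subgroup Cfsg.Agent.Solv
theorem inv_of {H : Type*} [Group H] {A : Subgroup H} (hD : ∀ x : H, x ∉ A → x ^ 2 = 1) {x a : H} (hx : x ∉ A)
    (ha : a ∈ A) : x * a * x⁻¹ = a⁻¹ := by
  have h1 := hD x hx
  have h2 := hD (x * a) (fun h => hx ((mul_mem_cancel_right ha).1 h))
  rw [pow_two] at h1 h2
  rw [inv_eq_of_mul_eq_one_right h1, eq_inv_iff_mul_eq_one, mul_assoc (x * a), h2]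
theorem comm_of_sq {H : Type*} [Group H] (h : ∀ x : H, x ^ 2 = 1) : IsMulCommutative H := by
  have e : ∀ x : H, x⁻¹ = x := fun x => by rw [inv_eq_iff_mul_eq_one, ← pow_two, h]
  exact ⟨⟨fun a b => by rw [← e (a * b), mul_inv_rev, e, e]⟩⟩
theorem ex {H : Type*} [Group H] {A : Subgroup H} (hA : A.index = 2) (hD : ∀ x : H, x ∉ A → x ^ 2 = 1) :
    A.Normal ∧ IsMulCommutative A ∧ A.index = 2 ∧ (∀ x : H, x ∉ A → x ^ 2 = 1 ∧ ∀ b ∈ A, x * b * x⁻¹ = b⁻¹) := by
  refine ⟨normal_of_index_eq_two hA, Solv.isMulCommutative_iff.2 fun a ha b hb => ?_, hA,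
    fun x hx => ⟨hD x hx, fun b hb => inv_of hD hx hb⟩⟩
  obtain ⟨x, hx⟩ : ∃ x, x ∉ A := by
    by_contra h
    push Not at h
    rw [(eq_top_iff' A).2 h, index_top] at hA
    omega
  rw [← inv_inj, mul_inv_rev, ← inv_of hD hx (mul_mem hb ha), ← inv_of hD hx ha, ← inv_of hD hx hb]
  group
end

/-- Structure of groups in which every element outside some proper subgroup has square 1. Let H be a finite group with a proper subgroup A such that every element outside A has square 1. Then H has an abelian normal subgroup B of index 2 such that every element outside B is an involution inverting every element of B; and if H is not an elementary abelian 2-group, B is the only abelian normal subgroup of index 2 with this property. -/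
theorem result {H : Type*} [Group H] [Finite H] (A : Subgroup H) (hA : A ≠ ⊤) (hD : ∀ x : H, x ∉ A → x ^ 2 = 1) :
    ∃ B : Subgroup H, B.Normal ∧ IsMulCommutative ↥B ∧ B.index = 2 ∧
      (∀ x : H, x ∉ B → x ^ 2 = 1 ∧ ∀ b ∈ B, x * b * x⁻¹ = b⁻¹) ∧
      (¬ (IsMulCommutative H ∧ ∀ x : H, x ^ 2 = 1) →
        ∀ B' : Subgroup H, B'.Normal → IsMulCommutative ↥B' → B'.index = 2 →
          (∀ x : H, x ∉ B' → x ^ 2 = 1 ∧ ∀ b ∈ B', x * b * x⁻¹ = b⁻¹) → B' = B) := by
  open Pointwise commutatorElement Subgroup Cfsg.Agent.Solv in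
  suffices h : ∃ B : Subgroup H, B.index = 2 ∧ ∀ x, x ∉ B → x ^ 2 = 1 by
    obtain ⟨B, h1, h2⟩ := h
    obtain ⟨a1, a2, a3, a4⟩ := ex h1 h2
    refine ⟨B, a1, a2, a3, a4, fun hn B' _ _ b3 b4 => ?_⟩
    by_contra hne
    apply hn
    suffices h : ∀ x : H, x ^ 2 = 1 from ⟨comm_of_sq h, h⟩
    obtain ⟨y, hy, hy'⟩ : ∃ y ∈ B, y ∉ B' := by
      by_contra h
      push Not at h
      refine hne (eq_of_le_of_card_le h (le_of_eq ?_)).symm
      refine Nat.eq_of_mul_eq_mul_left two_pos ?_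
      rw [← b3, index_mul_card, b3, ← h1, index_mul_card]
    intro x
    by_cases hx : x ∈ B
    · by_cases hx' : x ∈ B'
      · have e1 := (b4 y hy').2 x hx'
        rw [Solv.isMulCommutative_iff.1 a2 y hy x hx, mul_inv_cancel_right] at e1
        rw [pow_two]; exact mul_eq_one_iff_eq_inv.2 e1
      · exact (b4 x hx').1
    · exact h2 x hx
  by_cases h : A.index = 2
  · exact ⟨A, h, hD⟩
  have h1 : ∀ x : H, x ^ 2 = 1 := by
    intro a
    by_cases ha : a ∈ A
    swap; · exact hD a ha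
    obtain ⟨x, hx⟩ : ∃ x, x ∉ A := by
      by_contra h
      push Not at h
      exact hA ((eq_top_iff' A).2 h)
    rw [index_eq_two_iff, not_exists] at h
    have := h x
    rw [not_forall] at this
    obtain ⟨y, hy⟩ := this
    have hy1 : y ∉ A := fun h' => hy (Or.inr ⟨h', fun h'' => hx ((mul_mem_cancel_left h').1 h'')⟩)
    have hy2 : y * x ∉ A := fun h' => hy (Or.inl ⟨h', hy1⟩)
    have e1 := inv_of hD hy2 ha
    rw [mul_inv_rev, show y * x * a * (x⁻¹ * y⁻¹) = y * (x * a * x⁻¹) * y⁻¹ by group, inv_of hD hx ha,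
      inv_of hD hy1 (inv_mem ha), inv_inv] at e1
    rw [pow_two]; exact mul_eq_one_iff_eq_inv.2 e1
  obtain ⟨M, hM, -⟩ := exists_coatom_ge hA
  exact ⟨M, index_eq_of_coatom_of_isPGroup (p := 2) (fun x => ⟨1, h1 x⟩) hM, fun x _ => h1 x⟩

end Cfsg.Agent.S4420
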