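import Cfsg.Statements.S4422
import Mathlib.FieldTheory.Finite.Basic

set_option autoImplicit false
open Cfsg

namespace Cfsg.Agent.S4422

/-- Primitive divisors of `q^e - 1` are congruent to 1 modulo `e`. Let `q ≥ 2` and `e ≥ 1` be natural numbers and let `m` be a divisor of `q^e - 1` that is coprime to `q^i - 1` for every `1 ≤ i < e` (so `m` divides the primitive part of `q^e - 1`, the largest such divisor). Then `m ≡ 1 (mod e)`. -/
theorem result (q e m : ℕ) (hq : 2 ≤ q) (he : 1 ≤ e)
    (hm : m ∣ q ^ e - 1) (hcop : ∀ i : ℕ, 1 ≤ i → i < e → Nat.Coprime m (q ^ i - 1)) :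
    m % e = 1 % e := by
  open Pointwise commutatorElement Subgroup in
  have h0 : 0 < q ^ e - 1 := by
    have := Nat.one_lt_pow (n := e) (a := q) (by omega) (by omega); omega
  have hm0 : m ≠ 0 := by rintro rfl; rw [zero_dvd_iff] at hm; omega
  have key : ∀ r : ℕ, r.Prime → r ∣ m → r ≡ 1 [MOD e] := by
    intro r hr hd
    haveI := Fact.mk hr
    have h1 : ∀ i, (q : ZMod r) ^ i = 1 ↔ r ∣ q ^ i - 1 := fun i => by
      rw [← Nat.modEq_iff_dvd' (Nat.one_le_pow _ _ (by omega)), ← ZMod.natCast_eq_natCast_iff, Nat.cast_one,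
        Nat.cast_pow, eq_comm]
    have h2 := (h1 e).2 (hd.trans hm)
    have h3 : orderOf (q : ZMod r) = e := by
      rw [orderOf_eq_iff (by omega)]
      refine ⟨h2, fun i hi hi0 h => ?_⟩
      exact hr.one_lt.ne' (Nat.eq_one_of_dvd_coprimes (hcop i hi0 hi) hd ((h1 i).1 h))
    have h4 : (q : ZMod r) ≠ 0 := by
      intro h
      rw [h, zero_pow (by omega)] at h2
      exact zero_ne_one h2
    exact ((Nat.modEq_iff_dvd' hr.one_le).2 (h3 ▸ ZMod.orderOf_dvd_card_sub_one h4)).symm
  clear hm hcop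
  induction m using induction_on_primes with
  | zero => exact absurd rfl hm0
  | one => rfl
  | prime_mul r a hr ih =>
    have h1 := key r hr (dvd_mul_right r a)
    have h2 := ih (by rintro rfl; simp at hm0) fun s hs hd => key s hs (hd.mul_left r)
    exact (mul_one 1 ▸ Nat.ModEq.mul h1 h2 : r * a ≡ 1 [MOD e])

end Cfsg.Agent.S4422
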