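import Cfsg.Statements.S4425
import Cfsg.Agent.Lib.Block.Contrib

set_option autoImplicit false
open Cfsg

namespace Cfsg.Agent.S4425

open Cfsg.Agent.Blk
open Cfsg.Agent.Char hiding cj cj_mul cj_inv_cj cj_cj_inv

/-- Let χ be an irreducible character of the finite group G, p a prime, p^a the p-part of the order of G and p^b the p-part of the degree χ(1). Let χ̃ be the class function equal to p^a · χ on p-regular elements and zero on p-singular elements. Then p^(−b) · χ̃ is a generalized character of G, while p^(−(b+1)) · χ̃ is not. -/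
theorem result {G : Type*} [Group G] [Finite G] (p : ℕ) [Fact p.Prime] (χ : Cfsg.IrrCharacter G) : Cfsg.IsGeneralizedCharacter G (fun x : G => if p ∣ orderOf x then (0 : ℂ) else ((p ^ ((Nat.card G).factorization p - (Cfsg.charDegree (χ : G → ℂ)).factorization p) : ℕ) : ℂ) * (χ : G → ℂ) x) ∧ ¬ Cfsg.IsGeneralizedCharacter G (fun x : G => if p ∣ orderOf x then (0 : ℂ) else ((p ^ (Nat.card G).factorization p : ℕ) : ℂ) / ((p ^ ((Cfsg.charDegree (χ : G → ℂ)).factorization p + 1) : ℕ) : ℂ) * (χ : G → ℂ) x) := by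
  have := Fintype.ofFinite G
  obtain ⟨M, hM⟩ := exists_pmod p
  rw [ite_eq_smul_reg, ite_eq_smul_reg]
  refine ⟨by rw [Nat.cast_pow]; exact isGen_pow_reg_irr χ, fun h => ?_⟩
  have hB := isPBlock_blockOf (M := M) χ
  obtain ⟨ψ, hψ, h0⟩ := exists_height_zero p hB.nonempty
  obtain ⟨n, hn⟩ := h.classInner_eq_int ψ.2.isGen
  refine (hB.not_LI_om_zr_iff (mem_blockOf_self χ)).2 ⟨hψ, h0⟩ ?_
  have h1 : (p : ℂ) ^ (Nat.card G).factorization p * classInner (reg p χ.1) ψ.1 =
      ((p ^ ((charDegree (χ : G → ℂ)).factorization p + 1) * n : ℤ) : ℂ) := by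
    rw [classInner_smul_left] at hn
    have := p_ne_zero M
    push_cast at hn ⊢
    rw [← hn]; field_simp
  rw [om_zr_eq, h1, LI_intDiv_iff (charDegree_ne_zero χ)]
  exact dvd_mul_right _ _

end Cfsg.Agent.S4425
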