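import Cfsg.Statements.S4426
import Cfsg.Agent.Lib.Block.Contrib

set_option autoImplicit false
open Cfsg

namespace Cfsg.Agent.S4426

open Cfsg.Agent.Blk
open Cfsg.Agent.Char hiding cj cj_mul cj_inv_cj cj_cj_inv

/-- Let χ be an irreducible character in the p-block B of the finite group G (relative to a maximal ideal M of the algebraic integers containing p), let p^a be the p-part of the order of G, and let χ̃ be the class function equal to p^a · χ on p-regular elements and zero elsewhere. For ξ ∈ B the inner product [χ̃, ξ] is an integer. The following are equivalent: (a) χ has height zero in B; (b) for some ξ ∈ B the integer [χ̃, ξ] is nonzero and the exact power of p dividing it equals the exact power of p dividing ξ(1); (c) the same holds for every ξ ∈ B. -/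
theorem result {G : Type*} [Group G] [Fintype G] (p : ℕ) [Fact p.Prime] (M : Ideal Cfsg.AlgInt) (hM : Cfsg.IsPModular p M) (B : Set (Cfsg.IrrCharacter G)) (hB : Cfsg.IsPBlock M B) (χ : Cfsg.IrrCharacter G) (hχ : χ ∈ B) : (Cfsg.blockHeight p B (χ : G → ℂ) = 0 ↔ ∃ ξ ∈ B, ∃ n : ℤ, Cfsg.classInner (fun x : G => if p ∣ orderOf x then (0 : ℂ) else ((p ^ (Nat.card G).factorization p : ℕ) : ℂ) * (χ : G → ℂ) x) (ξ : G → ℂ) = (n : ℂ) ∧ n ≠ 0 ∧ padicValInt p n = (Cfsg.charDegree (ξ : G → ℂ)).factorization p) ∧ (Cfsg.blockHeight p B (χ : G → ℂ) = 0 ↔ ∀ ξ ∈ B, ∃ n : ℤ, Cfsg.classInner (fun x : G => if p ∣ orderOf x then (0 : ℂ) else ((p ^ (Nat.card G).factorization p : ℕ) : ℂ) * (χ : G → ℂ) x) (ξ : G → ℂ) = (n : ℂ) ∧ n ≠ 0 ∧ padicValInt p n = (Cfsg.charDegree (ξ : G → ℂ)).factorization p) := by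
  haveI : PMod M p := ⟨hM⟩
  have hp := PMod.prime M
  have := Fact.mk hp
  have key : ∀ ξ ∈ B, (∃ n : ℤ, classInner (fun x : G => if p ∣ orderOf x then (0 : ℂ) else ((p ^ (Nat.card G).factorization p : ℕ) : ℂ) * (χ : G → ℂ) x) (ξ : G → ℂ) = (n : ℂ) ∧ n ≠ 0 ∧ padicValInt p n = (charDegree (ξ : G → ℂ)).factorization p) ↔ blockHeight p B (χ : G → ℂ) = 0 := by
    intro ξ hξ
    obtain ⟨n, hn⟩ := exists_int_reg (p := p) ξ.2.isGen χ.2.isGen
    have h1 := om_zr_mem M ξ χ
    have h2 := hB.not_LI_om_zr_iff (χ := χ) hξ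
    rw [om_zr_eq, hn] at h1 h2
    rw [intDiv_mem_O_iff (charDegree_ne_zero ξ)] at h1
    rw [LI_intDiv_iff (charDegree_ne_zero ξ)] at h2
    rw [ite_eq_smul_reg, classInner_smul_left, Nat.cast_pow, ← conj_classInner_reg χ.2.isGen ξ.2.isGen,
      conj_classInner, ← classInner_reg_comm, hn]
    simp only [Int.cast_inj, exists_eq_left']
    rw [padicValInt_dvd_iff] at h1 h2
    constructor
    · rintro ⟨h3, h4⟩
      refine (h2.1 ?_).2
      omega
    · intro h
      have := h2.2 ⟨hχ, h⟩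
      omega
  refine ⟨⟨fun h => ⟨χ, hχ, (key χ hχ).2 h⟩, fun ⟨ξ, hξ, h⟩ => (key ξ hξ).1 h⟩,
    fun h ξ hξ => (key ξ hξ).2 h, fun h => (key χ hχ).1 (h χ hχ)⟩

end Cfsg.Agent.S4426
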