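import Cfsg.Statements.S4430
import Cfsg.Agent.Lib.Block.Second

set_option autoImplicit false
open Cfsg

namespace Cfsg.Agent.S4430

open Cfsg.Agent.Blk MonoidAlgebra

/-- Let H be a subgroup of the finite group G, b a block of H whose induced block B₀ in G is defined (relative to a maximal ideal M of the algebraic integers containing p), and ξ ∈ b. For a block B of G let n_B be the value at 1 of the B-part of the induced character ξ^G (a natural number: the sum over χ ∈ B of the multiplicity of χ in ξ^G times χ(1)). Then for B = B₀ the exact power of p dividing n_B equals the exact power of p dividing ξ^G(1), while for every other block B either n_B = 0 or n_B is divisible by a strictly higher power of p than ξ^G(1). -/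
theorem result {G : Type*} [Group G] [Fintype G] (p : ℕ) [Fact p.Prime] (M : Ideal Cfsg.AlgInt) (hM : Cfsg.IsPModular p M) (H : Subgroup G) [Fintype H] (b : Set (Cfsg.IrrCharacter H)) (B₀ : Set (Cfsg.IrrCharacter G)) (hind : Cfsg.IsInducedBlock M H b B₀) (ξ : Cfsg.IrrCharacter H) (hξ : ξ ∈ b) : (∃ n : ℕ, Cfsg.blockPart B₀ (Cfsg.indFun H (ξ : H → ℂ)) 1 = (n : ℂ) ∧ n ≠ 0 ∧ n.factorization p = (Cfsg.charDegree (Cfsg.indFun H (ξ : H → ℂ))).factorization p) ∧ ∀ B : Set (Cfsg.IrrCharacter G), Cfsg.IsPBlock M B → B ≠ B₀ → ∃ n : ℕ, Cfsg.blockPart B (Cfsg.indFun H (ξ : H → ℂ)) 1 = (n : ℂ) ∧ (n = 0 ∨ (Cfsg.charDegree (Cfsg.indFun H (ξ : H → ℂ))).factorization p < n.factorization p) := by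
  classical
  haveI : PMod M p := ⟨hM⟩
  have hc := ξ.2.isCharacter.ind (H := H)
  have hd : charDegree (indFun H (ξ : H → ℂ)) ≠ 0 := fun h => by
    have := hc.cast_charDegree
    rw [h, Char.indFun_one, Nat.cast_zero] at this
    exact mul_ne_zero (Nat.cast_ne_zero.2 H.index_ne_zero_of_finite) ξ.2.apply_one_ne_zero this.symm
  obtain ⟨χ, hχ⟩ := hind.2.1.nonempty
  have key : ∀ B : Set (IrrCharacter G), IsPBlock M B → ∃ n : ℕ,
      blockPart B (indFun H (ξ : H → ℂ)) 1 = n ∧
      (n : ℂ) / charDegree (indFun H (ξ : H → ℂ)) ∈ O M ∧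
      MemLocalIdeal M ((n : ℂ) / charDegree (indFun H (ξ : H → ℂ)) - om χ (fC B)) := by
    intro B hB
    obtain ⟨c, hc1, -⟩ := hc.exists_coeff
    have h1 : blockPart B (indFun H (ξ : H → ℂ)) 1 =
        ((∑ ψ : IrrCharacter G, if ψ ∈ B then c ψ * charDegree (ψ : G → ℂ) else 0 : ℕ) : ℂ) := by
      rw [blockPart_eq]
      push_cast
      exact Finset.sum_congr rfl fun ψ _ => by rw [hc1, cast_deg]
    refine ⟨_, h1, ?_⟩
    rw [← h1, blockPart_eq_ch hc.isClassFunction, ← one_def, mul_one, hc.cast_charDegree, ← om,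
      om_indFun _ _ (fC_mem B)]
    exact ⟨om_rs_mem_O' ξ (fC_mem B) hB.isUB.isInt,
      hind.LI_om_rs_sub hξ hχ (fC_mem B) hB.isUB.isInt⟩
  constructor
  · obtain ⟨n, h1, h2, h3⟩ := key B₀ hind.2.1
    rw [om_fC_of_mem hχ] at h3
    have h4 : ¬ MemLocalIdeal M ((n : ℂ) / charDegree (indFun H (ξ : H → ℂ))) := fun h =>
      not_LI_one (M := M) (by simpa using LI_sub h h3)
    have hn : n ≠ 0 := by rintro rfl; exact h4 (by simpa using LI_zero)
    rw [LI_natDiv_iff hn hd] at h4
    rw [natDiv_mem_O_iff hn hd] at h2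
    exact ⟨n, h1, hn, by omega⟩
  · intro B hB hne
    obtain ⟨n, h1, -, h3⟩ := key B hB
    rw [om_fC_of_notMem fun h => hne (hB.eq_of_mem hind.2.1 h hχ), sub_zero] at h3
    refine ⟨n, h1, or_iff_not_imp_left.2 fun hn => ?_⟩
    rwa [LI_natDiv_iff hn hd] at h3

end Cfsg.Agent.S4430
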