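import Cfsg.Statements.S4433
import Cfsg.Agent.Lib.Block.Quot

set_option autoImplicit false
open Cfsg

namespace Cfsg.Agent.S4433

open Cfsg.Agent.Blk
open Cfsg.Agent.Char hiding cj cj_mul cj_inv_cj cj_cj_inv

/-- Let N be a normal subgroup of the finite group G and write Ḡ = G/N; fix a maximal ideal M of the algebraic integers containing p. Let B̄ be a block of Ḡ contained in the block B of G, in the sense that the inflation of every member of B̄ lies in B, and let D̄ be a defect group of B̄. Then B has a defect group P whose image in Ḡ contains D̄. -/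
theorem result {G : Type*} [Group G] [Finite G] (p : ℕ) [Fact p.Prime] (M : Ideal Cfsg.AlgInt) (hM : Cfsg.IsPModular p M) (N : Subgroup G) [N.Normal] (Bbar : Set (Cfsg.IrrCharacter (G ⧸ N))) (hBbar : Cfsg.IsPBlock M Bbar) (B : Set (Cfsg.IrrCharacter G)) (hB : Cfsg.IsPBlock M B) (hsub : ∀ χ ∈ Bbar, ∀ ψ : Cfsg.IrrCharacter G, (ψ : G → ℂ) = (χ : G ⧸ N → ℂ) ∘ QuotientGroup.mk → ψ ∈ B) (Dbar : Subgroup (G ⧸ N)) (hDbar : Cfsg.IsDefectGroup p M Bbar Dbar) : ∃ P : Subgroup G, Cfsg.IsDefectGroup p M B P ∧ Dbar ≤ P.map (QuotientGroup.mk' N) := by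
  haveI : PMod M p := ⟨hM⟩
  have hφ := QuotientGroup.mk'_surjective N
  obtain ⟨χ, hχ⟩ := hBbar.nonempty
  have h1 := (hB.isUB.infl_mem_iff hφ χ).1 (hsub χ hχ _ rfl)
  rw [hBbar.blk_eq hχ] at h1
  have h2 := hBbar.isBlock
  have h3 := hBbar.isDefectGroup_iff.1 hDbar
  rw [← top_map_surj hφ] at h2 h3
  obtain ⟨D, hD, h4⟩ := IsDef.exists_le_map hB.isBlock h2 h1 h3
  exact ⟨D, hB.isDefectGroup_iff.2 hD, h4⟩

end Cfsg.Agent.S4433
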