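import Cfsg.Statements.S4434
import Cfsg.Agent.Lib.Block.Quot

set_option autoImplicit false
open Cfsg

namespace Cfsg.Agent.S4434

open Cfsg.Agent.Blk
open Cfsg.Agent.Char hiding cj cj_mul cj_inv_cj cj_cj_inv

/-- Let N be a normal p-subgroup of the finite group G and write Ḡ = G/N; fix a maximal ideal M of the algebraic integers containing p. Then every block B of G contains a block B̄ of Ḡ (the inflation of every member of B̄ lies in B) whose defect groups are exactly the images in Ḡ of the defect groups of B. -/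
theorem result {G : Type*} [Group G] [Finite G] (p : ℕ) [Fact p.Prime] (M : Ideal Cfsg.AlgInt) (hM : Cfsg.IsPModular p M) (N : Subgroup G) [N.Normal] (hN : IsPGroup p N) (B : Set (Cfsg.IrrCharacter G)) (hB : Cfsg.IsPBlock M B) : ∃ Bbar : Set (Cfsg.IrrCharacter (G ⧸ N)), Cfsg.IsPBlock M Bbar ∧ (∀ χ ∈ Bbar, ∀ ψ : Cfsg.IrrCharacter G, (ψ : G → ℂ) = (χ : G ⧸ N → ℂ) ∘ QuotientGroup.mk → ψ ∈ B) ∧ ∀ Dbar : Subgroup (G ⧸ N), Cfsg.IsDefectGroup p M Bbar Dbar ↔ ∃ P : Subgroup G, Cfsg.IsDefectGroup p M B P ∧ Dbar = P.map (QuotientGroup.mk' N) := by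
  haveI : PMod M p := ⟨hM⟩
  have hφ := QuotientGroup.mk'_surjective N
  obtain ⟨D, hD⟩ := hB.isBlock.exists_isDef p
  obtain ⟨χ, h1, h2⟩ := hB.exists_infl_mem hφ (by rwa [QuotientGroup.ker_mk']) hD
  have hb := isPBlock_blockOf (M := M) χ
  refine ⟨_, hb, fun ξ hξ ψ hψ => ?_, fun E => ?_⟩
  · obtain rfl : ψ = infl hφ ξ := Subtype.ext hψ
    exact hB.isUB.preimage_infl hφ _ h1 _ (mem_blockOf.1 hξ)
  rw [hb.isDefectGroup_iff, bar_blockOf]
  constructor
  · intro hE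
    obtain ⟨x, -, rfl⟩ := hE.exists_cs_eq h2
    obtain ⟨y, rfl⟩ := hφ x
    exact ⟨cs y D, hB.isDefectGroup_iff.2 (hD.cs_of_mem hB.isBlock.inv trivial), (map_cs _ _ _).symm⟩
  · rintro ⟨P, hP, rfl⟩
    obtain ⟨x, -, rfl⟩ := (hB.isDefectGroup_iff.1 hP).exists_cs_eq hD
    rw [map_cs]
    exact h2.cs_of_mem (isBlock_blk χ).inv trivial

end Cfsg.Agent.S4434
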