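import Cfsg.Statements.S4435
import Cfsg.Agent.Lib.Block.Fong

set_option autoImplicit false
open Cfsg

namespace Cfsg.Agent.S4435

open Cfsg.Agent.Blk
open Cfsg.Agent.Char hiding cj cj_mul cj_inv_cj cj_cj_inv

/-- Let N be a normal subgroup of the finite group G, b a block of N (relative to a maximal ideal M of the algebraic integers containing p), and T the stabilizer of b in G (the elements g such that conjugating any member of b by g gives a member of b); N ≤ T. Say that a block of T (or of G) covers b when some member has a constituent in b on restriction to N. Then: (i) every block B′ of T covering b induces a block B of G, B covers b, every ψ ∈ B′ induces to an irreducible character of G, and B consists exactly of the characters induced from members of B′; (ii) distinct blocks of T covering b induce distinct blocks of G; (iii) every block of G covering b is induced by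 some block of T covering b. -/
theorem result {G : Type*} [Group G] [Fintype G] (p : ℕ) [Fact p.Prime] (M : Ideal Cfsg.AlgInt) (hM : Cfsg.IsPModular p M) (N : Subgroup G) [hN : N.Normal] [Fintype N] (b : Set (Cfsg.IrrCharacter N)) (hb : Cfsg.IsPBlock M b) (T : Subgroup G) [Fintype T] (hT : ∀ g : G, g ∈ T ↔ ∀ θ ∈ b, ∀ θ' : Cfsg.IrrCharacter N, (∀ n : N, (θ' : N → ℂ) n = (θ : N → ℂ) ⟨g * n * g⁻¹, hN.conj_mem n n.2 g⟩) → θ' ∈ b) (hNT : N ≤ T) : (∀ B' : Set (Cfsg.IrrCharacter T), Cfsg.IsPBlock M B' → (∃ ψ ∈ B', ∃ θ ∈ b, Cfsg.classInner (fun n : N => (ψ : T → ℂ) ⟨(n : G), hNT n.2⟩) (θ : N → ℂ) ≠ 0) → ∃ B : Set (Cfsg.IrrCharacter G), Cfsg.IsInducedBlock M T B' B ∧ (∃ χ ∈ B, ∃ θ ∈ b, Cfsg.classInner (fun n : N => (χ : G → ℂ) n) (θ : N → ℂ) ≠ 0) ∧ (∀ ψ ∈ B', Cfsg.IsIrrCharacter G (Cfsg.indFun T (ψ : T → ℂ))) ∧ ∀ χ : Cfsg.IrrCharacter G, χ ∈ B ↔ ∃ ψ ∈ B', (χ : G → ℂ) = Cfsg.indFun T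 (ψ : T → ℂ)) ∧ (∀ B'₁ B'₂ : Set (Cfsg.IrrCharacter T), Cfsg.IsPBlock M B'₁ → Cfsg.IsPBlock M B'₂ → (∃ ψ ∈ B'₁, ∃ θ ∈ b, Cfsg.classInner (fun n : N => (ψ : T → ℂ) ⟨(n : G), hNT n.2⟩) (θ : N → ℂ) ≠ 0) → (∃ ψ ∈ B'₂, ∃ θ ∈ b, Cfsg.classInner (fun n : N => (ψ : T → ℂ) ⟨(n : G), hNT n.2⟩) (θ : N → ℂ) ≠ 0) → ∀ B : Set (Cfsg.IrrCharacter G), Cfsg.IsInducedBlock M T B'₁ B → Cfsg.IsInducedBlock M T B'₂ B → B'₁ = B'₂) ∧ (∀ B : Set (Cfsg.IrrCharacter G), Cfsg.IsPBlock M B → (∃ χ ∈ B, ∃ θ ∈ b, Cfsg.classInner (fun n : N => (χ : G → ℂ) n) (θ : N → ℂ) ≠ 0) → ∃ B' : Set (Cfsg.IrrCharacter T), Cfsg.IsPBlock M B' ∧ (∃ ψ ∈ B', ∃ θ ∈ b, Cfsg.classInner (fun n : N => (ψ : T → ℂ) ⟨(n : G), hNT n.2⟩) (θ : N → ℂ) ≠ 0) ∧ Cfsg.IsInducedBlock M T B' B) := by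
  haveI : PMod M p := ⟨hM⟩
  have hT' : T = stab ⊤ (barS M N b) :=
    Subgroup.ext fun g => (hT g).trans (hb.forall_conj_normal_iff g)
  have hbS := hb.isBlockS
  subst hT'
  refine ⟨fun B' hB' hcov => ?_, fun B₁ B₂ h1 h2 hc1 hc2 B hi1 hi2 => ?_, fun B hB hcov => ?_⟩
  · have h1 := (hB'.isUB.cover_iffS hNT hb.isUB).1 hcov
    obtain ⟨B, hB, h2⟩ := hB'.isBlockS.exists_cover ⊤
    obtain ⟨B, hB₁, rfl⟩ := exists_isPBlock_bar_eq hB
    have hind := isInducedBlock_iff.2 ⟨hB', hB₁,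
      (hbS.FR_ind_iff le_top (top_le_No N) hB hB'.isBlockS h1).2 h2⟩
    refine ⟨B, hind, (hB₁.isUB.cover_iff hb.isUB).2 ?_, fun ψ hψ => ?_, fun χ => ⟨fun hχ =>
      hb.FR_surj rfl hB' h1 hind hχ, fun ⟨ψ, hψ, h3⟩ => ?_⟩⟩
    · rw [← (hbS.FR_eq le_top (top_le_No N) hB hB'.isBlockS h1 h2).2]
      exact hB'.isBlockS.ne
    · obtain ⟨χ, -, h3⟩ := hb.FR_ind rfl hB' h1 hind hψ
      exact h3 ▸ χ.2
    · obtain ⟨χ', h4, h5⟩ := hb.FR_ind rfl hB' h1 hind hψ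
      rwa [show χ = χ' from Subtype.ext (h3.trans h5.symm)]
  · obtain ⟨-, hB, h3⟩ := isInducedBlock_iff.1 hi1
    obtain ⟨-, -, h4⟩ := isInducedBlock_iff.1 hi2
    have h5 := (h1.isUB.cover_iffS hNT hb.isUB).1 hc1
    have h6 := (h2.isUB.cover_iffS hNT hb.isUB).1 hc2
    exact h1.barS_inj h2 ((hbS.FR_eq le_top (top_le_No N) hB.isBlock h1.isBlockS h5
      ((hbS.FR_ind_iff le_top (top_le_No N) hB.isBlock h1.isBlockS h5).1 h3)).2.trans
      (hbS.FR_eq le_top (top_le_No N) hB.isBlock h2.isBlockS h6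
      ((hbS.FR_ind_iff le_top (top_le_No N) hB.isBlock h2.isBlockS h6).1 h4)).2.symm)
  · have h1 := (hB.isUB.cover_iff hb.isUB).1 hcov
    obtain ⟨B', hB', h2⟩ := exists_isPBlock_barS_eq
      (hbS.isBlock_mul_stab le_top (top_le_No N) hB.isBlock h1)
    have h3 : barS M _ B' * barS M N b ≠ 0 := by rwa [h2, mul_assoc, hbS.mul_self]
    exact ⟨B', hB', (hB'.isUB.cover_iffS hNT hb.isUB).2 h3, isInducedBlock_iff.2 ⟨hB', hB,
      (hbS.FR_ind_iff le_top (top_le_No N) hB.isBlock hB'.isBlockS h3).2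
        (by rwa [h2, ← mul_assoc, hB.isBlock.mul_self])⟩⟩

end Cfsg.Agent.S4435
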