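import Cfsg.Statements.S4436
import Cfsg.Agent.Lib.Block.Fong

set_option autoImplicit false
open Cfsg

namespace Cfsg.Agent.S4436

open Cfsg.Agent.Blk
open Cfsg.Agent.Char hiding cj cj_mul cj_inv_cj cj_cj_inv

/-- Let N be a normal subgroup of the finite group G, b a block of N (relative to a maximal ideal M of the algebraic integers containing p), T the stabilizer of b in G, N ≤ T, and B′ a block of T covering b (some member of B′ has a constituent in b on restriction to N) that induces the block B of G. Then every defect group of B′ is a defect group of B, and for every ψ ∈ B′ the induced character ψ^G is an irreducible character of G lying in B with the same height as ψ. -/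
theorem result {G : Type*} [Group G] [Fintype G] (p : ℕ) [Fact p.Prime] (M : Ideal Cfsg.AlgInt) (hM : Cfsg.IsPModular p M) (N : Subgroup G) [hN : N.Normal] [Fintype N] (b : Set (Cfsg.IrrCharacter N)) (hb : Cfsg.IsPBlock M b) (T : Subgroup G) [Fintype T] (hT : ∀ g : G, g ∈ T ↔ ∀ θ ∈ b, ∀ θ' : Cfsg.IrrCharacter N, (∀ n : N, (θ' : N → ℂ) n = (θ : N → ℂ) ⟨g * n * g⁻¹, hN.conj_mem n n.2 g⟩) → θ' ∈ b) (hNT : N ≤ T) (B' : Set (Cfsg.IrrCharacter T)) (hB' : Cfsg.IsPBlock M B') (hcov : (∃ ψ ∈ B', ∃ θ ∈ b, Cfsg.classInner (fun n : N => (ψ : T → ℂ) ⟨(n : G), hNT n.2⟩) (θ : N → ℂ) ≠ 0)) (B : Set (Cfsg.IrrCharacter G)) (hind : Cfsg.IsInducedBlock M T B' B) : (∀ D : Subgroup T, Cfsg.IsDefectGroup p M B' D → Cfsg.IsDefectGroup p M B (D.map T.subtype)) ∧ ∀ ψ ∈ B', ∃ χ ∈ B, (χ : G → ℂ) = Cfsg.indFun T (ψ : T → ℂ) ∧ Cfsg.blockHeight p B (χ : G → ℂ) = Cfsg.blockHeight p B' (ψ : T → ℂ) := by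
  haveI : PMod M p := ⟨hM⟩
  have hp := (Fact.out : p.Prime)
  have hT' : T = stab ⊤ (barS M N b) :=
    Subgroup.ext fun g => (hT g).trans (hb.forall_conj_normal_iff g)
  have hbS := hb.isBlockS
  subst hT'
  have h1 := (hB'.isUB.cover_iffS hNT hb.isUB).1 hcov
  obtain ⟨-, hB, h2⟩ := isInducedBlock_iff.1 hind
  have h3 := (hbS.FR_eq le_top (top_le_No N) hB.isBlock hB'.isBlockS h1
    ((hbS.FR_ind_iff le_top (top_le_No N) hB.isBlock hB'.isBlockS h1).1 h2)).2
  have h4 : ∀ D, IsDefectGroup p M B' D → IsDefectGroup p M B (D.map (Subgroup.subtype _)) :=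
    fun D hD => hB.isDefectGroup_iff.2 (hbS.FR_isDef le_top (top_le_No N) hB.isBlock
      (h3 ▸ hB'.isBlockS.ne) (by rw [← h3]; exact hB'.isDefectGroup_iffS.1 hD))
  refine ⟨h4, fun ψ hψ => ?_⟩
  obtain ⟨χ, hχ, h5⟩ := hb.FR_ind rfl hB' h1 hind hψ
  refine ⟨χ, hχ, h5, ?_⟩
  obtain ⟨D, hD⟩ := hB'.exists_isDefectGroup (p := p)
  have h6 := hB.card_defectGroup (h4 D hD)
  rw [Subgroup.card_map_of_injective (Subgroup.subtype_injective _), hB'.card_defectGroup hD] at h6
  have h7 := Nat.pow_right_injective hp.two_le h6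
  have h8 : charDegree (χ : G → ℂ) = (stab ⊤ (barS M N b)).index * charDegree ψ.1 := by
    have : (charDegree (χ : G → ℂ) : ℂ) = (stab ⊤ (barS M N b)).index * charDegree ψ.1 := by
      rw [cast_deg, cast_deg, h5, indFun_one]
    exact_mod_cast this
  have h9 : nu p χ = (stab ⊤ (barS M N b)).index.factorization p + nu p ψ := by
    rw [nu, h8, Nat.factorization_mul Subgroup.index_ne_zero_of_finite (charDegree_ne_zero ψ)]; rfl
  have := height_add_mnu (p := p) hχ
  have := height_add_mnu (p := p) hψ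
  have := defect_add_mnu (p := p) hB.nonempty
  have := defect_add_mnu (p := p) hB'.nonempty
  have := factorization_index_add p (stab ⊤ (barS M N b))
  omega

end Cfsg.Agent.S4436
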