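import Cfsg.Statements.S4437
import Cfsg.Agent.Lib.Block.Fong

set_option autoImplicit false
open Cfsg

namespace Cfsg.Agent.S4437

open Cfsg.Agent.Blk
open Cfsg.Agent.Char hiding cj cj_mul cj_inv_cj cj_cj_inv

/-- Let P be a p-subgroup of the finite group G, H = P·C_G(P), and b a block of H (relative to a maximal ideal M of the algebraic integers containing p) having P as a defect group; let B be the block of G induced by b. Let T be the stabilizer of b in N_G(P): the elements g of N_G(P) such that the g-conjugate of every member of b is again a member of b. Then B has defect group P if and only if p does not divide the index of H in T. -/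
theorem result {G : Type*} [Group G] [Fintype G] (p : ℕ) [Fact p.Prime] (M : Ideal Cfsg.AlgInt) (hM : Cfsg.IsPModular p M) (P : Subgroup G) (hP : IsPGroup p P) (H : Subgroup G) [Fintype H] (hH : H = P ⊔ Subgroup.centralizer (P : Set G)) (b : Set (Cfsg.IrrCharacter H)) (hb : Cfsg.IsPBlock M b) (hbP : Cfsg.IsDefectGroup p M b (P.subgroupOf H)) (B : Set (Cfsg.IrrCharacter G)) (hind : Cfsg.IsInducedBlock M H b B) (T : Subgroup G) (hT : ∀ g : G, g ∈ T ↔ (g ∈ Subgroup.normalizer (P : Set G) ∧ ∀ θ ∈ b, ∀ θ' : Cfsg.IrrCharacter H, (∀ h h' : H, (h' : G) = g * h * g⁻¹ → (θ' : H → ℂ) h' = (θ : H → ℂ) h) → θ' ∈ b)) : Cfsg.IsDefectGroup p M B P ↔ ¬ p ∣ H.relIndex T := by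
  haveI : PMod M p := ⟨hM⟩
  subst hH
  have h0 : P ⊔ ⊤ ⊓ Ce P = P ⊔ Ce P := by rw [top_inf_eq]
  obtain ⟨-, hB, h1⟩ := isInducedBlock_iff.1 hind
  have h2 := (ind_iff_Br hP le_sup_left (inf_le_right.trans le_sup_right) le_top
    (sup_le (le_No P) (Ce_le_No P)) hb.isBlockS hB.isBlock).1 h1
  have h3 : IsBP p ⊤ P (barS M _ b) := 
    ⟨hP, le_top, (isBlock_sup_iff hP le_top).1 (by rw [h0]; exact hb.isBlockS)⟩
  have hT' : T = stab (⊤ ⊓ No P) (barS M _ b) := Subgroup.ext fun g => by
    rw [hT, mem_stab, top_inf_eq]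
    exact and_congr_right fun hg => hb.forall_conj_mem_iff (h0 ▸ inf_No_le_No_sup ⊤ P ⟨trivial, hg⟩)
  rw [hB.isDefectGroup_iff, hT']
  refine ⟨fun h => ?_, fun h => (isMP_of_index h3 hB.isBlock h2 ?_ ?_).isDef⟩
  · have := (IsMP.mk h3 hB.isBlock h2 h).not_dvd_index
    rwa [h0] at this
  · rw [h0]; exact (hb.isDefectGroup_subgroupOf_iff le_sup_left).1 hbP
  · rwa [h0]

end Cfsg.Agent.S4437
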