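import Cfsg.Statements.S4439
import Cfsg.Agent.Lib.Block.FongR
import Cfsg.Agent.S4435
import Cfsg.Agent.S4436

set_option autoImplicit false
open Cfsg

namespace Cfsg.Agent.S4439

open Cfsg.Agent.Blk
open Cfsg.Agent.Char hiding cj cj_mul cj_inv_cj cj_cj_inv
universe u

theorem aux {p : ℕ} [Fact p.Prime] {M : Ideal AlgInt} [hM : PMod M p] (G : Type u) [Group G] [Finite G] :
    Comp.PSol p (⊤ : Subgroup G) → ∀ B : Set (IrrCharacter G), IsPBlock M B →
      ∀ P, IsDefectGroup p M B P → ∀ χ ∈ B,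
        blockHeight p B χ.1 ≤ (Subgroup.center P).index.factorization p := by
  refine Solv.card_induction (P := fun G _ _ => Comp.PSol p (⊤ : Subgroup G) →
    ∀ B : Set (IrrCharacter G), IsPBlock M B → ∀ P, IsDefectGroup p M B P → ∀ χ ∈ B,
      blockHeight p B χ.1 ≤ (Subgroup.center P).index.factorization p)
    (fun G _ _ ih hs B hB P hP χ hχ => ?_) G
  letI := Fintype.ofFinite G
  let N := pPrimeCore p G
  letI := Fintype.ofFinite N
  obtain ⟨θ, hθ⟩ := exists_em_under χ N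
  let T := inertia N θ.1
  by_cases hT : T = ⊤
  · have h1 : ∀ g, icj N g θ = θ := fun g => icj_eq_iff.2 (show g ∈ T from hT ▸ trivial)
    obtain ⟨h2, h3⟩ := psol_over (M := M) hs h1
    obtain rfl := hB.eq_of_mem h2 hχ hθ
    exact (Nat.le.intro (height_add_mnu hχ)).trans (fact_deg_le hs h1 hθ ((h3 P).1 hP))
  letI := Fintype.ofFinite T
  have hb : IsPBlock M {θ} :=
    blockOf_of_not_dvd (M := M) Solv.not_dvd_card_pPrimeCore θ ▸ isPBlock_blockOf θ
  have h1 : ∀ g : G, g ∈ T ↔ ∀ φ ∈ ({θ} : Set (IrrCharacter N)), ∀ θ' : IrrCharacter N,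
      (∀ n : N, θ'.1 n = φ.1 ⟨g * n * g⁻¹, (inferInstance : N.Normal).conj_mem n n.2 g⟩) →
        θ' ∈ ({θ} : Set (IrrCharacter N)) := fun g => by
    rw [← icj_eq_iff]
    refine ⟨fun h φ hφ θ' h' => ?_, fun h => h θ rfl _ fun n => rfl⟩
    obtain rfl : φ = θ := hφ
    exact (Subtype.ext (funext h')).trans h
  have hNT : N ≤ T := fun g hg => icj_eq_iff.1 (icj_of_mem hg θ)
  obtain ⟨h2, -, h3⟩ := S4435.result p M hM.1 N {θ} hb T h1 hNT
  obtain ⟨B', h4, h5, h6⟩ := h3 B hB ⟨χ, hχ, θ, rfl, em_ne_zero_iff.1 hθ⟩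
  obtain ⟨B₁, h7, -, -, h8⟩ := h2 B' h4 h5
  obtain ⟨h9, h10⟩ := S4436.result p M hM.1 N {θ} hb T h1 hNT B' h4 h5 B h6
  obtain ⟨ψ₀, hψ₀, -⟩ := h5
  obtain ⟨χ₀, h11, h12, -⟩ := h10 ψ₀ hψ₀
  obtain rfl := hB.eq_of_mem (isInducedBlock_iff.1 h7).2.1 h11 ((h8 χ₀).2 ⟨ψ₀, hψ₀, h12⟩)
  obtain ⟨ψ, hψ, h13⟩ := (h8 χ).1 hχ
  obtain ⟨χ', -, h14, h15⟩ := h10 ψ hψ
  obtain ⟨D, hD⟩ := h4.exists_isDefectGroup (p := p)
  obtain ⟨x, -, rfl⟩ := (hB.isDefectGroup_iff.1 hP).exists_cs_eq (hB.isDefectGroup_iff.1 (h9 D hD))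
  rw [h13, ← h14, h15]
  refine (ih _ (Solv.card_lt_of_ne_top hT) (Transfer.psol_subtype (hs.of_le le_top)) B' h4 D hD ψ
    hψ).trans_eq ?_
  have e := (D.equivMapOfInjective _ T.subtype_injective).trans (conjIso (x := x) rfl)
  rw [← Subgroup.index_map_equiv _ e]
  congr 3
  ext y
  obtain ⟨y, rfl⟩ := e.surjective y
  refine Iff.trans ?_ (MulEquivClass.apply_mem_center_iff e).symm
  exact ⟨fun ⟨z, h, h'⟩ => e.injective h' ▸ h, fun h => ⟨y, h, rfl⟩⟩

/-- Let G be a finite p-solvable group and B a p-block of G with defect group P (relative to a maximal ideal M of the algebraic integers containing p). Then the height of every irreducible character in B is at most the exponent of p in the index of the centre of P in P. -/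
theorem result {G : Type*} [Group G] [Finite G] (p : ℕ) [Fact p.Prime] (M : Ideal Cfsg.AlgInt) (hM : Cfsg.IsPModular p M) (hsolv : Cfsg.IsPSolvable p G) (B : Set (Cfsg.IrrCharacter G)) (hB : Cfsg.IsPBlock M B) (P : Subgroup G) (hP : Cfsg.IsDefectGroup p M B P) (χ : Cfsg.IrrCharacter G) (hχ : χ ∈ B) : Cfsg.blockHeight p B (χ : G → ℂ) ≤ ((Subgroup.center P).index).factorization p := by
  haveI : PMod M p := ⟨hM⟩
  haveI : PMod M p := ⟨hM⟩
  exact aux G (Comp.pSol_top_of_isPSolvable hsolv) B hB P hP χ hχ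

end Cfsg.Agent.S4439
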