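import Cfsg.Statements.S4442
import Cfsg.Agent.Lib.Block.Prime

set_option autoImplicit false
open Cfsg

namespace Cfsg.Agent.S4442

open Cfsg.Agent.Blk
open Cfsg.Agent.Char hiding cj cj_mul cj_inv_cj cj_cj_inv
open scoped Classical

/-- Blocks of defect one. Let p be an odd prime and G a finite group whose Sylow p-subgroup P has order p; let C = C_G(P) and N = N_G(P), and fix a maximal ideal M of the algebraic integers containing p. Let B be a block of G with defect group P, b a block of C inducing B, and θ the member of b having P in its kernel (there is exactly one). Let T be the stabilizer of θ in N (the elements g ∈ N with θ(g c g⁻¹) = θ(c) for all c ∈ C) and e the index of C in T. Then e divides p − 1 and B contains exactly e + (p − 1)/e irreducible characters. Moreover B is the disjoint union of a set X of e characters and a set Y of (p − 1)/e characters such that, with f the index of C in N: every χ ∈ X has χ(1) ≡ ±(f/e)·θ(1) (mod p),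 there is one sign ε with ψ(1) ≡ ε f θ(1) (mod p) for all ψ ∈ Y, and all members of Y agree on the p-regular elements of G. -/
theorem result {G : Type*} [Group G] [Finite G] (p : ℕ) [Fact p.Prime] (M : Ideal Cfsg.AlgInt) (hM : Cfsg.IsPModular p M) (hodd : p ≠ 2) (P : Sylow p G) (hP : Nat.card P = p) (B : Set (Cfsg.IrrCharacter G)) (hB : Cfsg.IsPBlock M B) (hBP : Cfsg.IsDefectGroup p M B P) (b : Set (Cfsg.IrrCharacter (Subgroup.centralizer ((P : Subgroup G) : Set G)))) (hind : Cfsg.IsInducedBlock M (Subgroup.centralizer ((P : Subgroup G) : Set G)) b B) (θ : Cfsg.IrrCharacter (Subgroup.centralizer ((P : Subgroup G) : Set G))) (hθ : θ ∈ b) (hθP : ∀ x : Subgroup.centralizer ((P : Subgroup G) : Set G), (x : G) ∈ (P : Subgroup G) → (θ : Subgroup.centralizer ((P : Subgroup G) : Set G) → ℂ) x = (θ : Subgroup.centralizer ((P : Subgroup G) : Set G) → ℂ) 1) (T : Subgroup G) (hT : ∀ g : G, g ∈ T ↔ (g ∈ Subgroup.normalizer ((P : Subgroup G) : Set G) ∧ ∀ c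 c' : Subgroup.centralizer ((P : Subgroup G) : Set G), (c' : G) = g * c * g⁻¹ → (θ : Subgroup.centralizer ((P : Subgroup G) : Set G) → ℂ) c' = (θ : Subgroup.centralizer ((P : Subgroup G) : Set G) → ℂ) c)) (e f : ℕ) (he : (Subgroup.centralizer ((P : Subgroup G) : Set G)).relIndex T = e) (hf : (Subgroup.centralizer ((P : Subgroup G) : Set G)).relIndex (Subgroup.normalizer ((P : Subgroup G) : Set G)) = f) : e ∣ p - 1 ∧ Nat.card B = e + (p - 1) / e ∧ ∃ X Y : Set (Cfsg.IrrCharacter G), B = X ∪ Y ∧ Disjoint X Y ∧ Nat.card X = e ∧ Nat.card Y = (p - 1) / e ∧ (∀ χ ∈ X, (Cfsg.charDegree (χ : G → ℂ) : ℤ) ≡ ((f / e * Cfsg.charDegree (θ : Subgroup.centralizer ((P : Subgroup G) : Set G) → ℂ) : ℕ) : ℤ) [ZMOD p] ∨ (Cfsg.charDegree (χ : G → ℂ) : ℤ) ≡ -((f / e * Cfsg.charDegree (θ : Subgroup.centralizer ((P : Subgroup G) : Set G) → ℂ) : ℕ) : ℤ) [ZMOD p]) ∧ (∃ ε : ℤ, (ε = 1 ∨ ε = -1) ∧ ∀ ψ ∈ Y, (Cfsg.charDegree (ψ : G → ℂ) : ℤ) ≡ ε * ((f * Cfsg.charDegree (θ : Subgroup.centralizer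 ((P : Subgroup G) : Set G) → ℂ) : ℕ) : ℤ) [ZMOD p]) ∧ ∀ ψ ∈ Y, ∀ ψ' ∈ Y, ∀ g : G, ¬ p ∣ orderOf g → (ψ : G → ℂ) g = (ψ' : G → ℂ) g := by
  haveI : PMod M p := ⟨hM⟩
  have := Fintype.ofFinite P
  have hs := isSyl_sylow P
  have hm := mp_of_ind hBP hind
  have hU : UC (P : Subgroup G) := uc_of_card hP
  have hb := hind.1.cb_barS
  have hT' : T = stab (⊤ ⊓ No (P : Subgroup G)) (barS M (Ce P) b) := Subgroup.ext fun g => by
    rw [hT, mem_stab, top_inf_eq]
    refine and_congr_right fun hg => ?_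
    have h1 := mem_No.1 (No_le_No_Ce _ hg)
    rw [conj_iff_eq_irrMap h1, ← barS_image_conj h1]
    refine ⟨fun h => congrArg _ (((isPBlock_image_iff _).2 hind.1).eq_of_mem hind.1 ⟨θ, hθ, h.symm⟩ hθ),
      fun h => hm.canon_unique hU.comm (by rwa [hb]) ?_ hθP fun x hx => ?_⟩
    · rw [hb, ← ((isPBlock_image_iff (conjIso h1)).2 hind.1).barS_inj hind.1 h]
      exact ⟨θ, hθ, rfl⟩
    · rw [irrMap_apply, irrMap_apply, map_one]
      exact hθP _ (by rw [coe_conjIso_symm]; exact mem_cs.1 ((mem_No.1 hg).symm ▸ hx))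
  subst hT'
  rw [← card_autE] at he
  rw [← card_autE_principal (M := M)] at hf
  subst he hf
  obtain ⟨δ, ζ, c, h, -⟩ := hm.exists_dd_prime hP hB.nonempty.choose_spec
  obtain ⟨u, hu⟩ := exists_ne_one_of_ne_bot h.ne
  have k0 : charDegree θ.1 = cdg p _ (barS M (Ce (P : Subgroup G)) b) :=
    charDegree_of_eq (h.deg_cb h.ne (by rwa [hb]))
  have k1 : ∀ χ : IrrCharacter G, MemLocalIdeal M (χ.1 u - charDegree χ.1) := fun χ => by
    simpa [cast_deg] using LI_char_mul_sub (M := M) χ.2.isCharacter (hm.pelt u.2) (Commute.one_right _)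
  obtain ⟨q, hq⟩ := Subgroup.card_dvd_of_le (autE_le (barS M (Ce (P : Subgroup G)) b))
  refine ⟨hm.card_autE_dvd (isCyclic_of_prime_card hP) h.ne, by rw [card_fs, h.card_eq, hP], _, _,
    h.union, DD.disjoint _ _, (card_coe_fs _).trans h.card, by rw [card_coe_fs, h.card_exc, hP],
    fun χ hχ => ?_, ⟨δ, h.exc.sign, fun ψ hψ => ?_⟩, fun ψ h2 ψ' h3 g hg => h.apply_exc h2 h3 hg⟩
  · rw [DD.mem_nexc] at hχ
    have h2 := hm.apply_nexc hU hs h.exc hχ.1 hχ.2 hu
    rw [hq, Nat.cast_mul, mul_assoc, mul_left_comm, mul_right_inj' (card_ne_zero' _)] at h2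
    have h3 := k1 χ
    rw [h2] at h3
    rw [hq, Nat.mul_div_cancel_left _ Nat.card_pos, k0]
    refine (h.sgn χ hχ.1 hχ.2).imp (fun h4 => ?_) fun h4 => ?_ <;>
    · refine Int.modEq_iff_dvd.2 (LI_intCast_iff (M := M).1 ?_)
      rw [h4] at h3
      convert h3 using 1
      push_cast; ring
  · obtain ⟨l, hl, rfl⟩ := mem_excSet.1 hψ
    refine Int.modEq_iff_dvd.2 (LI_intCast_iff (M := M).1 ?_)
    have h2 := k1 (ζ l)
    rw [h.apply_exc' hU hs hl hu] at h2
    have h3 := LI_char_mul_sub (M := M) (isCharacter_eta (autE (P : Subgroup G) (e0 M P)) l) (x := u) (y := 1)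
      (pelt_of_dvd (hm.pelt u.2) (Subgroup.orderOf_coe u).symm.dvd) (Commute.one_right u)
    rw [mul_one, (hU.fa0 M hs).free.eta_one h.exd.comm hl] at h3
    convert LI_sub h2 (LI_mul_left (mul_mem (intCast_mem (O M) δ) (natCast_mem (O M) (cdg p P (barS M (Ce (P : Subgroup G)) b)))) h3) using 1
    rw [k0]
    push_cast; ring

end Cfsg.Agent.S4442
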