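import Cfsg.Statements.S4446
import Cfsg.Agent.Lib.Char.Glaub3

set_option autoImplicit false
open Cfsg

namespace Cfsg.Agent.S4446

open Cfsg.Agent.Char

/-- Let the finite group Γ be generated by a normal subgroup G and a cyclic subgroup S of coprime orders, C = G ⊓ C(S), and let χ be an S-invariant irreducible character of G with canonical extension χ̂ to Γ (the extension whose determinantal order is coprime to the order of S). Then there are exactly one irreducible character β of C and one sign ε such that χ̂(c s) = ε β(c) for every c ∈ C and every generator s of S; this β is a constituent of the restriction of χ to C; distinct S-invariant χ give distinct β; and every irreducible character of C arises in this way. -/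
theorem result {Γ : Type*} [Group Γ] [Fintype Γ] (G S : Subgroup Γ) [Fintype G] (hnorm : ∀ s ∈ S, ∀ g ∈ G, s * g * s⁻¹ ∈ G) (hcop : (Nat.card G).Coprime (Nat.card S)) (htop : G ⊔ S = ⊤) (hcyc : IsCyclic S) (C : Subgroup Γ) [Fintype C] (hC : C = G ⊓ Subgroup.centralizer (S : Set Γ)) (hCG : C ≤ G) : (∀ (χ : Cfsg.IrrCharacter G) (χh : Cfsg.IrrCharacter Γ), (∀ s ∈ S, ∀ g g' : G, (g' : Γ) = s * g * s⁻¹ → (χ : G → ℂ) g' = (χ : G → ℂ) g) → (∀ g : G, (χh : Γ → ℂ) g = (χ : G → ℂ) g) → (Cfsg.detOrder (χh : Γ → ℂ)).Coprime (Nat.card S) → (∃! βε : Cfsg.IrrCharacter C × ℤ, (βε.2 = 1 ∨ βε.2 = -1) ∧ ∀ c : C, ∀ s : Γ, Subgroup.zpowers s = S → (χh : Γ → ℂ) ((c : Γ) * s) = (βε.2 : ℂ) * (βε.1 : C → ℂ) c) ∧ ∀ β : Cfsg.IrrCharacter C, ∀ ε : ℤ, (ε = 1 ∨ ε = -1) → (∀ c : C, ∀ s : Γ, Subgroup.zpowers s = S → (χh : Γ → ℂ) ((c : Γ) * s) = (ε : ℂ) * (β : C → ℂ) c) → Cfsg.classInner (fun c : C => (χ : G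 → ℂ) ⟨c, hCG c.2⟩) (β : C → ℂ) ≠ 0) ∧ (∀ (χ χ' : Cfsg.IrrCharacter G) (χh χh' : Cfsg.IrrCharacter Γ), (∀ s ∈ S, ∀ g g' : G, (g' : Γ) = s * g * s⁻¹ → (χ : G → ℂ) g' = (χ : G → ℂ) g) → (∀ s ∈ S, ∀ g g' : G, (g' : Γ) = s * g * s⁻¹ → (χ' : G → ℂ) g' = (χ' : G → ℂ) g) → (∀ g : G, (χh : Γ → ℂ) g = (χ : G → ℂ) g) → (∀ g : G, (χh' : Γ → ℂ) g = (χ' : G → ℂ) g) → (Cfsg.detOrder (χh : Γ → ℂ)).Coprime (Nat.card S) → (Cfsg.detOrder (χh' : Γ → ℂ)).Coprime (Nat.card S) → ∀ β : Cfsg.IrrCharacter C, ∀ ε ε' : ℤ, (ε = 1 ∨ ε = -1) → (ε' = 1 ∨ ε' = -1) → (∀ c : C, ∀ s : Γ, Subgroup.zpowers s = S → (χh : Γ → ℂ) ((c : Γ) * s) = (ε : ℂ) * (β : C → ℂ) c) → (∀ c : C, ∀ s : Γ, Subgroup.zpowers s = S → (χh' : Γ → ℂ) ((c : Γ) * s) = (ε' : ℂ) * (β : C → ℂ) c) → χ = χ') ∧ (∀ β : Cfsg.IrrCharacter C, ∃ (χ : Cfsg.IrrCharacter G) (χh : Cfsg.IrrCharacter Γ) (ε : ℤ), (∀ s ∈ S, ∀ g g' : G, (g' : Γ) = s * g * s⁻¹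 → (χ : G → ℂ) g' = (χ : G → ℂ) g) ∧ (∀ g : G, (χh : Γ → ℂ) g = (χ : G → ℂ) g) ∧ (Cfsg.detOrder (χh : Γ → ℂ)).Coprime (Nat.card S) ∧ (ε = 1 ∨ ε = -1) ∧ ∀ c : C, ∀ s : Γ, Subgroup.zpowers s = S → (χh : Γ → ℂ) ((c : Γ) * s) = (ε : ℂ) * (β : C → ℂ) c) := by
  have hn : S ≤ Subgroup.normalizer (G : Set Γ) := Solv.le_normalizer_of_conj_mem hnorm
  have : G.Normal := Solv.normal_iff_top_le_normalizer.2 (htop ▸ sup_le Subgroup.le_normalizer hn)
  obtain ⟨x, rfl⟩ := (Subgroup.isCyclic_iff_exists_zpowers_eq_top S).1 hcyc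
  rw [Nat.card_zpowers] at hcop
  have hi : G.index = orderOf x := by
    rw [← Nat.card_zpowers]
    exact (Solv.IsComplement'.card_eq_index (Solv.isComplement'_of_inf_eq_bot_of_sup_eq_top
      (Solv.inf_eq_bot_of_coprime' (by rwa [Nat.card_zpowers])) htop)).symm
  have hcop' : G.index.Coprime (Nat.card G) := hi ▸ hcop.symm
  have hC' : ∀ g, g ∈ C ↔ g ∈ G ∧ g * x = x * g := fun g => by
    rw [hC, Subgroup.mem_inf, mem_centralizer_zpowers_iff]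
  have can : ∀ {χ : IrrCharacter G} {ξ : IrrCharacter Γ}, (∀ g : G, ξ.1 g = χ.1 g) →
      (detOrder ξ.1).Coprime (Nat.card (Subgroup.zpowers x)) → IsCan G ξ.1 := fun {χ ξ} h1 h2 =>
    ⟨ξ.2, by simpa only [h1] using χ.2, by rw [hi, ← Nat.card_zpowers]; exact h2.symm⟩
  have gen : ∀ {ξ}, IsCan G ξ → ∀ c : C, ∀ s, Subgroup.zpowers s = Subgroup.zpowers x →
      ξ (c * s) = ξ (c * x) := fun {ξ} h c s hs => by
    obtain ⟨k, rfl⟩ := (Submonoid.mem_powers_iff _ _).1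
      (mem_powers_iff_mem_zpowers.2 (hs ▸ Subgroup.mem_zpowers s : s ∈ Subgroup.zpowers x))
    refine h.apply_pow hcop' hcop ((hC' c).1 c.2).1 ((hC' c).1 c.2).2 ?_
    have h1 : orderOf (x ^ k) = orderOf x := by rw [← Nat.card_zpowers, hs, Nat.card_zpowers]
    rw [orderOf_pow] at h1
    exact (Nat.coprime_iff_gcd_eq_one.2 ((Nat.div_eq_self.1 h1).resolve_left
      (orderOf_pos x).ne')).symm
  have sg : ∀ {ε : ℤ}, ε = 1 ∨ ε = -1 → (ε : ℂ) ≠ 0 := by rintro ε (rfl | rfl) <;> simp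
  refine ⟨fun χ ξ _ h1 h2 => ⟨?_, fun β ε hε h3 h4 => ?_⟩,
    fun χ χ' ξ ξ' _ _ h1 h1' h2 h2' β ε ε' hε hε' h3 h3' => ?_, fun β => ?_⟩
  · obtain ⟨β, ε, h3, h4, h5⟩ := (can h1 h2).exists_corr hcop' hcop hC'
    refine ⟨(⟨β, h3⟩, ε), ⟨h4, fun c s hs => by rw [gen (can h1 h2) c s hs, h5]⟩, ?_⟩
    rintro ⟨γ, δ⟩ ⟨h6, h7⟩
    have e1 : (δ : ℂ) • γ.1 = (ε : ℂ) • β := funext fun c => (h7 c x rfl).symm.trans (h5 c)
    have e2 : γ.1 = β := γ.2.eq_of_classInner_ne_zero h3 fun h0 => by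
      have := congrArg (classInner · β) e1
      simp [classInner_smul_left, h0, h3.classInner_self, sg h4] at this
      exact sg h4 (by exact_mod_cast this.symm)
    have e3 := congrFun e1 1
    simp only [e2, Pi.smul_apply, smul_eq_mul, mul_eq_mul_right_iff, h3.apply_one_ne_zero,
      or_false, Int.cast_inj] at e3
    exact Prod.ext (Subtype.ext e2) e3
  · have h5 := isCharacter_psi (comm_zpowers hC') ξ.2.isCharacter β.2.isCharacter
    have h6 := congrFun (h5.eq_zero_of_apply_one (by simpa [← h1] using h4))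
      ⟨x, Subgroup.mem_zpowers x⟩
    have e1 : (fun c : C => ξ.1 (c * x)) = (ε : ℂ) • β.1 := funext fun c => h3 c x rfl
    simp [e1, classInner_smul_left, β.2.classInner_self] at h6
    exact sg hε (by exact_mod_cast h6)
  · have := res_eq_of_corr hcop hC' ξ.2 (can h1 h2).res ξ'.2 (can h1' h2').res β.2 (sg hε) (sg hε')
      (fun c => h3 c x rfl) fun c => h3' c x rfl
    exact Subtype.ext (funext fun g => by rw [← h1, ← h1']; exact congrFun this g)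
  · obtain ⟨ξ, ε, h1, h2, h3⟩ := exists_isCan_corr hcop' hcop htop hC' β.2
    refine ⟨⟨_, h1.res⟩, ⟨ξ, h1.irr⟩, ε, fun s _ g g' hg => ?_, fun _ => rfl, ?_, h2,
      fun c s hs => (gen h1 c s hs).trans (h3 c)⟩
    · show ξ _ = ξ _
      rw [hg, h1.irr.isClassFunction]
    · rw [Nat.card_zpowers, ← hi]; exact h1.cop.symm

end Cfsg.Agent.S4446
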