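import Cfsg.Statements.S4451
import Cfsg.Agent.Lib.Char.Glaub4

set_option autoImplicit false
open Cfsg

namespace Cfsg.Agent.S4451

open Cfsg.Agent.Char

/-- Let the finite group Γ be generated by a normal subgroup G and a cyclic subgroup S of coprime orders such that every non-identity element of S has the same centraliser C = G ⊓ C(S) in G. Let χ be an S-invariant irreducible character of G, χ̂ its canonical extension to Γ (determinantal order coprime to the order of S), and β the irreducible character of C with χ̂(c s) = ε₀ β(c) for c ∈ C and generators s of S (ε₀ = ±1). Then there are a sign ε = ±1, which may differ from ε₀, and a linear character μ of S with μ² = 1, such that: (a) χ̂(c x) = ε β(c) μ(x) for all c ∈ C and all x ∈ S other than 1; (b) the restriction of χ to C equals |S|·ϑ + ε β for some character ϑ of C or ϑ = 0; (c) |S| divides χ(1) − ε β(1). -/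
theorem result {Γ : Type*} [Group Γ] [Fintype Γ] (G S : Subgroup Γ) [Fintype G] (hnorm : ∀ s ∈ S, ∀ g ∈ G, s * g * s⁻¹ ∈ G) (hcop : (Nat.card G).Coprime (Nat.card S)) (htop : G ⊔ S = ⊤) (hcyc : IsCyclic S) (C : Subgroup Γ) [Fintype C] (hC : C = G ⊓ Subgroup.centralizer (S : Set Γ)) (hCG : C ≤ G) (hfpf : ∀ x ∈ S, x ≠ 1 → G ⊓ Subgroup.centralizer ({x} : Set Γ) = C) (χ : Cfsg.IrrCharacter G) (hinv : (∀ s ∈ S, ∀ g g' : G, (g' : Γ) = s * g * s⁻¹ → (χ : G → ℂ) g' = (χ : G → ℂ) g)) (χh : Cfsg.IrrCharacter Γ) (hext : (∀ g : G, (χh : Γ → ℂ) g = (χ : G → ℂ) g)) (hdet : (Cfsg.detOrder (χh : Γ → ℂ)).Coprime (Nat.card S)) (β : Cfsg.IrrCharacter C) (ε₀ : ℤ) (hε₀ : ε₀ = 1 ∨ ε₀ = -1) (hβ : ∀ c : C, ∀ s : Γ, Subgroup.zpowers s = S → (χh : Γ → ℂ) ((c : Γ) * s) = (ε₀ : ℂ) * (β : C → ℂ) c) : ∃ ε : ℤ, (ε = 1 ∨ ε = -1) ∧ (∃ μ : S → ℂ, Cfsg.IsCharacter S μ ∧ μ 1 = 1 ∧ (∀ x : S, μ x * μ x = 1) ∧ ∀ c : C, ∀ x : S, x ≠ 1 → (χh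 : Γ → ℂ) ((c : Γ) * x) = (ε : ℂ) * (β : C → ℂ) c * μ x) ∧ (∃ ϑ : C → ℂ, Cfsg.IsCharacter C ϑ ∧ (fun c : C => (χ : G → ℂ) ⟨c, hCG c.2⟩) = fun c => (Nat.card S : ℂ) * ϑ c + (ε : ℂ) * (β : C → ℂ) c) ∧ (Nat.card S : ℤ) ∣ (Cfsg.charDegree (χ : G → ℂ) : ℤ) - ε * (Cfsg.charDegree (β : C → ℂ) : ℤ) := by
  classical
  have hGn : G.Normal := Subgroup.normalizer_eq_top_iff.1 (eq_top_iff.2 (htop ▸ sup_le
    Subgroup.le_normalizer (Solv.le_normalizer_of_conj_mem hnorm)))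
  have hc := Solv.isComplement'_of_inf_eq_bot_of_sup_eq_top (Solv.inf_eq_bot_of_coprime' hcop) htop
  have hi := Solv.IsComplement'.card_eq_index hc
  have hξ : IsCan G χh.1 := ⟨χh.2, by simpa only [hext] using χ.2, hi ▸ hdet.symm⟩
  have hS : ∀ a b : S, a * b = b * a := IsCyclic.commGroup.mul_comm
  have hS' : ∀ a ∈ S, ∀ b ∈ S, a * b = b * a := fun a ha b hb =>
    congrArg Subtype.val (hS ⟨a, ha⟩ ⟨b, hb⟩)
  obtain ⟨s, hs⟩ := (Subgroup.isCyclic_iff_exists_zpowers_eq_top S).1 hcyc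
  have h0 : ∀ ε : ℤ, (∃ ϑ : C → ℂ, IsCharacter C ϑ ∧ (fun c : C => χ.1 ⟨c, hCG c.2⟩) =
      fun c => (Nat.card S : ℂ) * ϑ c + (ε : ℂ) * β.1 c) →
      (Nat.card S : ℤ) ∣ (charDegree χ.1 : ℤ) - ε * (charDegree β.1 : ℤ) := by
    rintro ε ⟨ϑ, h1, h2⟩
    refine ⟨charDegree ϑ, ?_⟩
    have h3 : χ.1 1 = _ := congrFun h2 1
    rw [← h1.cast_charDegree, ← χ.2.isCharacter.cast_charDegree,
      ← β.2.isCharacter.cast_charDegree] at h3
    have : (charDegree χ.1 : ℤ) = Nat.card S * charDegree ϑ + ε * charDegree β.1 := by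
      exact_mod_cast h3
    rw [this]; ring
  by_cases hs1 : s = 1
  · have h1 : ∃ ϑ : C → ℂ, IsCharacter C ϑ ∧ (fun c : C => χ.1 ⟨c, hCG c.2⟩) =
        fun c => (Nat.card S : ℂ) * ϑ c + (ε₀ : ℂ) * β.1 c := ⟨0, IsCharacter.zero, funext fun c => by
      simpa [hs1, ← hext] using hβ c s hs⟩
    refine ⟨ε₀, hε₀, ⟨fun _ => 1, (isIrr_lc 1).isCharacter, rfl, fun _ => mul_one _,
      fun c x hx => absurd ?_ hx⟩, h1, h0 _ h1⟩
    have h2 : (x : Γ) ∈ Subgroup.zpowers s := hs ▸ x.2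
    rw [hs1, Subgroup.zpowers_one_eq_bot] at h2
    exact Subtype.ext h2
  have hsS : s ∈ S := hs ▸ Subgroup.mem_zpowers s
  have : Nontrivial S := ⟨⟨⟨s, hsS⟩, 1, fun h => hs1 (congrArg Subtype.val h)⟩⟩
  have hC' : ∀ x ∈ S, x ≠ 1 → ∀ g, g ∈ C ↔ g ∈ G ∧ g * x = x * g := fun x hx h1 g => by
    rw [← hfpf x hx h1, Subgroup.mem_inf, Subgroup.mem_centralizer_singleton_iff]
  have hCS : ∀ a ∈ C, ∀ b ∈ S, a * b = b * a := fun a ha b hb =>
    ((hC ▸ ha : a ∈ G ⊓ _).2 b hb).symm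
  have h1 := fun x : S => fun hx : x ≠ 1 => hξ.corr_of_fpf (hi ▸ hcop.symm) hcop hS' hC' β.2 hsS hs1
    ⟨ε₀, hε₀, fun c => hβ c s hs⟩ x.2 (fun h => hx (Subtype.ext h))
  choose! η h2 h3 using h1
  have h4 := fun γ (hγ : IsIrrCharacter C γ) => isCharacter_psi hCS χh.2.isCharacter hγ.isCharacter
  have h5 : ∀ x : S, x ≠ 1 → ∀ γ, classInner (fun c : C => χh.1 (c * x)) γ =
      η x * classInner β.1 γ := fun x hx γ => by
    rw [show (fun c : C => χh.1 (c * x)) = (η x : ℂ) • β.1 from funext (h3 x hx),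
      classInner_smul_left]
  obtain ⟨a, ε, μ, hε, h6⟩ := exists_sign_mod_reg hS (h4 _ β.2).isGen fun x hx => by
    rw [h5 x hx, β.2.classInner_self]
    rcases h2 x hx with h | h <;> simp [h]
  have h7 : ∀ x : S, x ≠ 1 → (η x : ℂ) = ε * μ x := fun x hx => by
    simpa [h5 x hx, β.2.classInner_self, regChar_of_ne hx] using congrFun h6 x
  have := Fintype.ofFinite S
  have : Nontrivial (S →* ℂˣ) := by
    rw [← Finite.one_lt_card_iff_nontrivial, card_lc hS]; exact Finite.one_lt_card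
  obtain ⟨lam, hlam⟩ := exists_ne μ
  have h8 : ∃ ϑ : C → ℂ, IsCharacter C ϑ ∧ (fun c : C => χ.1 ⟨c, hCG c.2⟩) =
      fun c => (Nat.card S : ℂ) * ϑ c + (ε : ℂ) * β.1 c := by
    refine ⟨(Nat.card S : ℂ)⁻¹ • ((fun c : C => χ.1 ⟨c, hCG c.2⟩) - (ε : ℂ) • β.1),
      IsClassFunction.isCharacter_of_nat (((χ.2.isCharacter.res_le hCG).isClassFunction.sub
        (β.2.isClassFunction.smul _)).smul _) fun γ hγ => ?_, funext fun c => ?_⟩
    · obtain ⟨n, hn⟩ := (h4 γ hγ).classInner_eq_nat (isIrr_lc lam).isCharacter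
      refine ⟨n, ?_⟩
      rw [← hn, show (fun y : S => classInner (fun c : C => χh.1 (c * y)) γ) = classInner
        ((Nat.card S : ℂ)⁻¹ • ((fun c : C => χ.1 ⟨c, hCG c.2⟩) - (ε : ℂ) • β.1)) γ • regChar S +
          (ε * classInner β.1 γ) • lc μ from funext fun y => ?_]
      · simp [classInner_add_left, classInner_smul_left, classInner_regChar_left, classInner_lc,
          hlam.symm]
      · by_cases hy : y = 1
        · simp [hy, classInner_smul_left, classInner_sub_left, regChar_one, ← hext]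
          field_simp
          ring
        · simp only [h5 y hy, h7 y hy, Pi.add_apply, Pi.smul_apply, regChar_of_ne hy, lc_apply,
            smul_eq_mul]
          ring
    · simp [mul_inv_cancel_left₀ (card_ne_zero' S)]
  refine ⟨ε, hε, ⟨lc μ, (isIrr_lc μ).isCharacter, by simp, fun x => ?_, fun c x hx => ?_⟩, h8,
    h0 _ h8⟩
  · by_cases hx : x = 1
    · simp [hx]
    have h9 : (η x : ℂ) * η x = 1 := by rcases h2 x hx with h | h <;> simp [h]
    have h10 : (ε : ℂ) * ε = 1 := by rcases hε with h | h <;> simp [h]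
    rw [h7 x hx, mul_mul_mul_comm, h10, one_mul] at h9
    exact h9
  · rw [h3 x hx, h7 x hx, lc_apply]; ring

end Cfsg.Agent.S4451
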