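import Cfsg.Statements.S4452
import Cfsg.Agent.Lib.Char.Glaub4

set_option autoImplicit false
open Cfsg

namespace Cfsg.Agent.S4452

open Cfsg.Agent.Char

/-- Let the finite group G be the product of a normal subgroup K and a solvable subgroup H of coprime orders, and let N = N_G(H). Then the number of irreducible characters of G of degree coprime to the order of H equals the number of irreducible characters of N of degree coprime to the order of H. (The two sets are in fact in a canonical bijection; only the equality of their sizes is stated here.) -/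
theorem result {G : Type*} [Group G] [Finite G] (K H : Subgroup G) [K.Normal] (hKH : K ⊔ H = ⊤) (hcop : (Nat.card K).Coprime (Nat.card H)) (hsolv : Group.IsSolvable H) : Nat.card {χ : Cfsg.IrrCharacter G // (Cfsg.charDegree (χ : G → ℂ)).Coprime (Nat.card H)} = Nat.card {η : Cfsg.IrrCharacter (Subgroup.normalizer (H : Set G)) // (Cfsg.charDegree (η : Subgroup.normalizer (H : Set G) → ℂ)).Coprime (Nat.card H)} := by
  let N := Subgroup.normalizer (H : Set G)
  have hHN : H ≤ N := Subgroup.le_normalizer
  have hc : Nat.card (H.subgroupOf N) = Nat.card H := Solv.card_subgroupOf_of_le hHN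
  have h1 : K.subgroupOf N ⊔ H.subgroupOf N = ⊤ := eq_top_iff.2 fun n _ => by
    obtain ⟨k, hk, h, hh, e⟩ := (Solv.mem_sup_of_le_normalizer' Subgroup.le_normalizer_of_normal).1
      (hKH ▸ Subgroup.mem_top (n : G) : (n : G) ∈ K ⊔ H)
    have : n = ⟨k, (N.mul_mem_cancel_right (hHN hh)).1 (e ▸ n.2)⟩ * ⟨h, hHN hh⟩ :=
      Subtype.ext e
    rw [this]
    exact Subgroup.mul_mem_sup hk hh
  have h2 := card_coprime_degree h1 (hc ▸ hcop.coprime_dvd_left (by
    rw [← Subgroup.inf_subgroupOf_right, Solv.card_subgroupOf_of_le inf_le_right]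
    exact Subgroup.card_dvd_of_le inf_le_left))
    (solvable_of_surjective (f := (Subgroup.subgroupOfEquivOfLe hHN).symm.toMonoidHom)
      (MulEquiv.surjective _))
  have h3 : K.subgroupOf N ⊓ Subgroup.centralizer (H.subgroupOf N : Set N) =
      (K ⊓ Subgroup.centralizer (H : Set G)).subgroupOf N := by
    ext x
    refine and_congr_right fun _ => ⟨fun h y hy => congrArg Subtype.val (h ⟨y, hHN hy⟩ hy),
      fun h y hy => Subtype.ext (h y hy)⟩
  rw [hc, h3] at h2
  rw [h2, card_coprime_degree hKH hcop hsolv, Nat.card_congr (irrCongr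
    (Subgroup.subgroupOfEquivOfLe (inf_le_right.trans (Subgroup.centralizer_le_normalizer _)))),
    Nat.card_congr (MulEquiv.monoidHomCongrLeftEquiv (N := ℂˣ) (Subgroup.subgroupOfEquivOfLe hHN))]

end Cfsg.Agent.S4452
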