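import Cfsg.Statements.S4454
import Cfsg.Agent.Lib.Char.Glaub4

set_option autoImplicit false
open Cfsg

namespace Cfsg.Agent.S4454

open Cfsg.Agent.Char

/-- Let N ≤ G be normal subgroups of the finite group Γ with Γ/G cyclic and Γ/N a Frobenius group with kernel G/N: G ≠ Γ, N ≠ G, and no element of Γ outside G fixes a non-identity coset of N in G under conjugation. Let ϑ be an irreducible character of N invariant under conjugation by Γ and suppose ϑ is fully ramified in G: the character of G induced from ϑ equals e·χ for an irreducible character χ of G and a natural number e. Then the index of G in Γ divides e − 1 or e + 1. -/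
theorem result {Γ : Type*} [Group Γ] [Fintype Γ] (G N : Subgroup Γ) [hG : G.Normal] [hN : N.Normal] [Fintype G] [Fintype N] (hNG : N ≤ G) (hGlt : G ≠ ⊤) (hNlt : N ≠ G) (hcyc : IsCyclic (Γ ⧸ G)) (hfrob : ∀ x : Γ, x ∉ G → ∀ g : Γ, g ∈ G → x * g * x⁻¹ * g⁻¹ ∈ N → g ∈ N) (θ : Cfsg.IrrCharacter N) (hinv : ∀ (x : Γ) (n : N), (θ : N → ℂ) ⟨x * n * x⁻¹, hN.conj_mem n n.2 x⟩ = (θ : N → ℂ) n) (χ : Cfsg.IrrCharacter G) (e : ℕ) (hram : Cfsg.indFun (N.subgroupOf G) (fun n : N.subgroupOf G => (θ : N → ℂ) ⟨(n : G), n.2⟩) = fun g => (e : ℂ) * (χ : G → ℂ) g) : (G.index : ℤ) ∣ (e : ℤ) - 1 ∨ (G.index : ℤ) ∣ (e : ℤ) + 1 := by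
  have := Fintype.ofFinite (N.subgroupOf G)
  have hi : ∀ g, cj N g θ.1 = θ.1 := fun g => funext (hinv g)
  have h1 : classInner (fun n : N => χ.1 ⟨n, hNG n.2⟩) θ.1 = e := by
    rw [← classInner_comp_equiv (Subgroup.subgroupOfEquivOfLe hNG)]
    refine (frobenius_right _ _ χ.2.isClassFunction).symm.trans ?_
    erw [hram]
    rw [show (fun g => (e : ℂ) * χ.1 g) = (e : ℂ) • χ.1 from rfl, classInner_smul_right,
      χ.2.classInner_self]
    simp
  have h2 : (e : ℂ) ≠ 0 := fun h => by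
    have := congrFun hram 1
    rw [h, zero_mul, indFun_one] at this
    exact mul_ne_zero (Nat.cast_ne_zero.2 Subgroup.index_ne_zero_of_finite)
      θ.2.apply_one_ne_zero this
  have h3 := χ.2.res_le_eq_smul hNG θ.2 (fun g _ => hi g) (h1 ▸ h2)
  rw [h1] at h3
  have h4 : ∀ g : G, (g : Γ) ∉ N → χ.1 g = 0 := fun g hg =>
    (mul_eq_zero.1 ((congrFun hram g).symm.trans (indFun_normal_of_not_mem _ hg))).resolve_left h2
  refine index_dvd_of_fullyRamified hNG hGlt hcyc hfrob θ.2 hi χ.2 (fun x => funext fun g => ?_)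
    (congrFun h3)
  by_cases hg : (g : Γ) ∈ N
  · exact (congrFun h3 ⟨_, hN.conj_mem _ hg x⟩).trans ((congrArg ((e : ℂ) * ·) (hinv x ⟨g, hg⟩)).trans
      (congrFun h3 ⟨g, hg⟩).symm)
  · exact (h4 _ fun h => hg (by simpa [mul_assoc] using hN.conj_mem _ h x⁻¹)).trans (h4 g hg).symm

end Cfsg.Agent.S4454
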