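import Cfsg.Statements.S4459
import Cfsg.Agent.Lib.Block.Cd3

set_option autoImplicit false
open Cfsg

namespace Cfsg.Agent.S4459

open Cfsg.Agent.Blk
open Cfsg.Agent.Char hiding cj cj_mul cj_inv_cj cj_cj_inv

/-- Let G be a non-abelian finite group and p a prime. Then the irreducible character degrees of G are exactly 1 and p if and only if either G has an abelian normal subgroup of index p or the centre of G has index p³. -/
theorem result {G : Type*} [Group G] [Finite G] (hG : ∃ a b : G, a * b ≠ b * a) (p : ℕ) (hp : p.Prime) : ((∀ χ : Cfsg.IrrCharacter G, Cfsg.charDegree (χ : G → ℂ) = 1 ∨ Cfsg.charDegree (χ : G → ℂ) = p) ∧ ∃ χ : Cfsg.IrrCharacter G, Cfsg.charDegree (χ : G → ℂ) = p) ↔ ((∃ A : Subgroup G, A.Normal ∧ (∀ a ∈ A, ∀ b ∈ A, a * b = b * a) ∧ A.index = p) ∨ (Subgroup.center G).index = p ^ 3) := by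
  obtain ⟨a, b, hab⟩ := hG
  obtain ⟨τ, -, hτ⟩ := exists_nonlinear (G := G) (N := ⊥) fun h =>
    hab (commutatorElement_eq_one_iff_mul_comm.1 (h (comm_mem a b)))
  refine ⟨fun ⟨h, _⟩ => ?_, fun h => ?_⟩
  · by_contra h1
    rw [not_or] at h1
    obtain ⟨K, Z, q, σ, _, hA, P, A, -, -, h2, h3, -, h4⟩ := (two_cases h ⟨τ, hτ⟩).resolve_left h1.1
    obtain rfl := (Nat.prime_dvd_prime_iff_eq hA.prime hp).1 hA.dvd
    haveI := Fact.mk hp
    refine h1.2 (index_center_eq hA h ?_ h1.1)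
    obtain ⟨k, hk⟩ := h2.exists_card_eq
    have h5 : (Subgroup.center G).index ∣ q ^ k := by
      rw [← hk, ← Subgroup.relIndex_top_right,
        ← eq_top_iff.2 (h4.ge.trans (sup_le_sup_left h3 P)), Subgroup.relIndex_sup_right]
      exact Subgroup.relIndex_dvd_card _ _
    obtain ⟨i, -, hi⟩ := (Nat.dvd_prime_pow hp).1 h5
    exact ⟨i, hi⟩
  · have h1 : ∀ χ : Cfsg.IrrCharacter G, Cfsg.charDegree χ.1 = 1 ∨ Cfsg.charDegree χ.1 = p := by
      intro χ
      rcases h with ⟨A, _, h1, h2⟩ | h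
      · have := Fintype.ofFinite G
        have := Fintype.ofFinite A
        exact (Nat.dvd_prime hp).1 (h2 ▸ χ.2.degree_dvd_index_of_comm h1 (cast_deg χ).symm)
      · obtain ⟨i, -, hi⟩ := (Nat.dvd_prime_pow hp).1
          (h ▸ χ.2.degree_dvd_index_center (cast_deg χ).symm)
        have h2 := χ.2.degree_sq_le_index χ.2.center_le_charCenter (cast_deg χ).symm
        rw [h, hi, ← pow_mul, Nat.pow_le_pow_iff_right hp.one_lt] at h2
        rw [hi]
        obtain rfl | rfl : i = 0 ∨ i = 1 := by omega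
        · simp
        · simp
    exact ⟨h1, τ, (h1 τ).resolve_left hτ⟩

end Cfsg.Agent.S4459
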