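import Cfsg.Statements.S4460
import Cfsg.Agent.Lib.Block.Cd2

set_option autoImplicit false
open Cfsg

namespace Cfsg.Agent.S4460

open Cfsg.Agent.Blk
open Cfsg.Agent.Char hiding cj cj_mul cj_inv_cj cj_cj_inv

/-- A finite group with exactly three distinct irreducible character degrees is solvable of derived length at most 3: its third derived subgroup is trivial. -/
theorem result {G : Type*} [Group G] [Finite G] (hcd : Nat.card {n : ℕ // ∃ χ : Cfsg.IrrCharacter G, Cfsg.charDegree (χ : G → ℂ) = n} = 3) : derivedSeries G 3 = ⊥ := by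
  classical
  have h1 : {n : ℕ | ∃ χ : Cfsg.IrrCharacter G, Cfsg.charDegree (χ : G → ℂ) = n}.ncard = 3 := hcd
  obtain ⟨a, b, c, -, -, -, h2⟩ := Set.ncard_eq_three.1 h1
  have h3 : ∀ χ : Cfsg.IrrCharacter G, Cfsg.charDegree χ.1 = a ∨ Cfsg.charDegree χ.1 = b ∨
      Cfsg.charDegree χ.1 = c := fun χ => by
    have : Cfsg.charDegree χ.1 ∈ ({a, b, c} : Set ℕ) := h2 ▸ ⟨χ, rfl⟩
    simpa using this
  have h4 := h3 (irrOne G)
  rw [charDegree_irrOne] at h4
  rcases h4 with rfl | rfl | rfl
  · exact derived_three G h3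
  · exact derived_three G (m := a) (n := c) fun χ => by have := h3 χ; tauto
  · exact derived_three G (m := a) (n := b) fun χ => by have := h3 χ; tauto

end Cfsg.Agent.S4460
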