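import Cfsg.Statements.S4462
import Cfsg.Agent.Lib.Block.Cd3

set_option autoImplicit false
open Cfsg

namespace Cfsg.Agent.S4462

open Cfsg.Agent.Blk
open Cfsg.Agent.Char hiding cj cj_mul cj_inv_cj cj_cj_inv

/-- Let G be a finite solvable group with exactly n distinct irreducible character degrees. Then G has normal subgroups 1 = N₀ ≤ N₁ ≤ ⋯ ≤ Nₙ = G with every quotient N_{i+1}/N_i nilpotent (the nilpotent length of G is at most n). -/
theorem result {G : Type*} [Group G] [Finite G] (hsolv : Group.IsSolvable G) (n : ℕ) (hcd : Nat.card {d : ℕ // ∃ χ : Cfsg.IrrCharacter G, Cfsg.charDegree (χ : G → ℂ) = d} = n) : ∃ N : Fin (n + 1) → Subgroup G, N 0 = ⊥ ∧ N (Fin.last n) = ⊤ ∧ Monotone N ∧ (∀ i, (N i).Normal) ∧ ∀ i : Fin n, ∀ h : (N i.castSucc).subgroupOf (N i.succ) |>.Normal, Group.IsNilpotent (↥(N i.succ) ⧸ (N i.castSucc).subgroupOf (N i.succ)) := by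
  classical
  have h0 : {d : ℕ | ∃ χ : Cfsg.IrrCharacter G, Cfsg.charDegree (χ : G → ℂ) = d}.Finite :=
    Set.finite_range _
  have h1 : h0.toFinset.card = n := by
    rw [← hcd, ← Set.ncard_eq_toFinset_card _ h0]; rfl
  have h2 : 1 ∈ h0.toFinset := h0.mem_toFinset.2 ⟨irrOne G, charDegree_irrOne⟩
  obtain ⟨m, rfl⟩ : ∃ m, n = m + 1 := ⟨n - 1, by have := Finset.card_pos.2 ⟨_, h2⟩; omega⟩
  obtain ⟨N, h3, h4, h5, h6, h7⟩ := garrison m G hsolv (h0.toFinset.erase 1)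
    (by rw [Finset.card_erase_of_mem h2, h1]; rfl)
    fun χ h => Finset.mem_erase.2 ⟨h, h0.mem_toFinset.2 ⟨χ, rfl⟩⟩
  refine ⟨fun i => N i, h3, h4, fun i j hij => h5 hij, fun i => h6 i, fun i h => ?_⟩
  obtain ⟨k, hk⟩ := h7 i
  exact isNilpotent_quot_of_lcs hk h

end Cfsg.Agent.S4462
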