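import Cfsg.Statements.S4469
import Cfsg.Agent.Lib.Block.Blich
import Cfsg.Agent.Lib.Char.Monomial

set_option autoImplicit false
open Cfsg

namespace Cfsg.Agent.S4469

open Cfsg.Agent.Blk
open Cfsg.Agent.Char hiding cj cj_mul cj_inv_cj cj_cj_inv
theorem aux1 {P : Type*} [Group P] [Finite P] {p : ℕ} [hp : Fact p.Prime] (hP : IsPGroup p P)
    {χ : P → ℂ} (hχ : IsCharacter P χ) : ∃ B : Subgroup P, ⁅B, B⁆ ≤ charKer χ ∧
      ∃ k, B.index ≤ p ^ k ∧ p ^ k ∣ (charDegree χ).factorial := by
  obtain ⟨s, hs, rfl⟩ := hχ.exists_multiset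
  have := Fintype.ofFinite P
  induction s using Multiset.induction_on with
  | empty => exact ⟨⊤, fun x _ => by simp [mem_charKer], 0, by simp⟩
  | cons θ s ih =>
    have h1 := hs θ (Multiset.mem_cons_self _ _)
    have h2 : IsCharacter P s.sum := IsCharacter.multiset_sum fun ψ h =>
      (hs ψ (Multiset.mem_cons_of_mem h)).isCharacter
    obtain ⟨B, h3, k, h4, h5⟩ := ih (fun ψ h => hs ψ (Multiset.mem_cons_of_mem h)) h2
    haveI := hP.isNilpotent
    obtain ⟨H, lam, h6⟩ := isMonomialFun_of_nilpotent h1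
    obtain ⟨l, hl⟩ := hP.index H.normalCore
    have h7 : charDegree θ = H.index := by
      have := h1.isCharacter.cast_charDegree
      rw [h6, indFun_one] at this
      rw [h6]
      simpa using this
    rw [Multiset.sum_cons, h1.isCharacter.charKer_add h2]
    refine ⟨H.normalCore ⊓ B, le_inf ((Subgroup.commutator_mono inf_le_left inf_le_left).trans ?_)
      ((Subgroup.commutator_mono inf_le_right inf_le_right).trans h3), l + k, ?_, ?_⟩
    · intro x hx
      rw [h1.isCharacter.mem_charKer, h6, indFun_apply', indFun_apply']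
      refine congrArg _ (Finset.sum_congr rfl fun g _ => ?_)
      have h8 : g * x * g⁻¹ ∈ ⁅H, H⁆ := Subgroup.commutator_mono H.normalCore_le H.normalCore_le
        (Subgroup.Normal.conj_mem inferInstance x hx g)
      rw [← Subgroup.map_subtype_commutator] at h8
      obtain ⟨y, hy, h8⟩ := h8
      have h9 : lam y = 1 := Abelianization.commutator_subset_ker lam hy
      rw [← h8, mul_one, mul_inv_cancel]
      exact (extendByZero_coe _ _ y).trans (by
        rw [h9]; exact ((extendByZero_coe H (fun h => (lam h : ℂ)) 1).trans (by simp)).symm)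
    · exact Subgroup.index_inf_le.trans (by rw [pow_add, hl]; exact Nat.mul_le_mul_left _ h4)
    · have h8 : charDegree (θ + s.sum) = charDegree θ + charDegree s.sum := by
        have := (h1.isCharacter.add h2).cast_charDegree
        rw [Pi.add_apply, ← h1.isCharacter.cast_charDegree, ← h2.cast_charDegree] at this
        exact_mod_cast this
      rw [h8, pow_add]
      refine (mul_dvd_mul ?_ h5).trans (Nat.factorial_mul_factorial_dvd_factorial_add _ _)
      rw [← hl, h7, Subgroup.normalCore_eq_ker, Subgroup.index_ker, H.index_eq_card, ← Nat.card_perm]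
      exact Subgroup.card_subgroup_dvd_card (MulAction.toPermHom P (P ⧸ H)).range

theorem aux2 {G : Type*} [Group G] [Finite G] {A K : Subgroup G} [A.Normal] {p k : ℕ} (hp : p.Prime)
    (h : ¬ p ∣ K.index) (h1 : p ^ k ∣ A.index) : p ^ k ∣ A.relIndex K := by
  rw [← Subgroup.relIndex_mul_index (le_sup_right : A ≤ K ⊔ A), Subgroup.relIndex_sup_right] at h1
  exact (((hp.coprime_iff_not_dvd.2 (not_dvd_index_of_le le_sup_left h)).pow_left k).dvd_mul_right).1 h1

/-- The classical bound for finite linear groups, in explicit form. Let the finite group G have a faithful character of degree n. Then G has an abelian normal subgroup whose index is at most n! · 12^(n·(π(n+1)+1)), π(k) denoting the number of primes not exceeding k. -/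
theorem result {G : Type*} [Group G] [Finite G] (χ : G → ℂ) (hχ : Cfsg.IsCharacter G χ) (hfaith : ∀ g : G, χ g = χ 1 → g = 1) (n : ℕ) (hn : Cfsg.charDegree χ = n) : ∃ A : Subgroup G, A.Normal ∧ (∀ x ∈ A, ∀ y ∈ A, x * y = y * x) ∧ A.index ≤ Nat.factorial n * 12 ^ (n * (Nat.primeCounting (n + 1) + 1)) := by
  obtain ⟨A, h1, h2, h3⟩ := jordan hχ hfaith
  obtain ⟨H, h4, h5⟩ := exists_hall_large n G hχ hfaith hn
  rw [hn] at h3
  refine ⟨A, h1, h2, ?_⟩
  have h6 : ∀ p : ℕ, ∃ k m, p.Prime → (p ^ k ∣ n.factorial ∧ 0 < m ∧ m ≤ p ^ k * 12 ^ n ∧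
      ∀ j, p ^ j ∣ A.index → p ^ j ∣ m) := fun p => by
    by_cases hp : p.Prime
    swap
    · exact ⟨0, 0, fun h => absurd h hp⟩
    haveI := Fact.mk hp
    obtain ⟨P⟩ : Nonempty (Sylow p G) := inferInstance
    obtain ⟨B, h6, k, h7, h8⟩ := aux1 P.isPGroup' (hχ.res (P : Subgroup G))
    refine ⟨k, A.relIndex P, fun _ => ⟨hn ▸ h8, Nat.pos_of_ne_zero Subgroup.index_ne_zero_of_finite, ?_,
      fun j => aux2 hp P.not_dvd_index⟩⟩
    have h9 := h3 (B.map (P : Subgroup G).subtype) (by
      rintro _ ⟨x, hx, rfl⟩ _ ⟨y, hy, rfl⟩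
      exact commutatorElement_eq_one_iff_mul_comm.1 (hfaith _ ((hχ.res (P : Subgroup G)).mem_charKer.1
        (h6 (Subgroup.commutator_mem_commutator hx hy)))))
    have h10 := Subgroup.map_subtype_le B
    calc A.relIndex P ≤ (A ⊓ B.map (P : Subgroup G).subtype).relIndex P :=
          Subgroup.relIndex_le_of_le_left inf_le_left Subgroup.index_ne_zero_of_finite
      _ = A.relIndex (B.map (P : Subgroup G).subtype) * B.index := by
          rw [← Subgroup.relIndex_mul_relIndex _ _ _ inf_le_right h10, Subgroup.inf_relIndex_right,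
            Solv.relIndex_map_subtype]
      _ ≤ _ := by rw [mul_comm]; exact Nat.mul_le_mul h7 h9
  choose k m h6 using h6
  have h7 : A.index ∣ A.relIndex H * ∏ p ∈ (n + 2).primesBelow, m p := by
    refine (Nat.dvd_iff_prime_pow_dvd_dvd _ _).2 fun p j hp h7 => ?_
    by_cases h8 : n + 1 < p
    · exact (aux2 hp (h5 p hp h8) h7).mul_right _
    · exact (((h6 p hp).2.2.2 j h7).trans (Finset.dvd_prod_of_mem _
        (Nat.mem_primesBelow.2 ⟨by omega, hp⟩))).mul_left _
  refine (Nat.le_of_dvd (Nat.mul_pos (Nat.pos_of_ne_zero Subgroup.index_ne_zero_of_finite)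
    (Finset.prod_pos fun p hp => (h6 p (Nat.prime_of_mem_primesBelow hp)).2.1)) h7).trans ?_
  refine (Nat.mul_le_mul (h3 H fun x hx y hy => (mem_Ce.1 (comm_of_large hχ hfaith
    (fun q hq h => hn ▸ Nat.lt_of_succ_lt (h4 q hq h)) hy) x hx))
    (Finset.prod_le_prod' fun p hp => (h6 p (Nat.prime_of_mem_primesBelow hp)).2.2.1)).trans ?_
  rw [Finset.prod_mul_distrib, Finset.prod_const, Nat.primesBelow_card_eq_primeCounting', ← pow_mul,
    mul_add, mul_one, pow_add, ← mul_assoc, mul_comm (12 ^ n), mul_assoc, mul_comm (12 ^ n)]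
  refine Nat.mul_le_mul_right _ (Nat.le_of_dvd n.factorial_pos (Finset.prod_dvd_of_isRelPrime
    (fun p hp q hq h => Nat.coprime_iff_isRelPrime.1 (Nat.coprime_pow_primes _ _
      (Nat.prime_of_mem_primesBelow hp) (Nat.prime_of_mem_primesBelow hq) h))
    fun p hp => (h6 p (Nat.prime_of_mem_primesBelow hp)).1))

end Cfsg.Agent.S4469
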