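import Cfsg.Statements.S4475
import Cfsg.Agent.Lib.Char.Forms

set_option autoImplicit false
open Cfsg

namespace Cfsg.Agent.S4475

open Cfsg.Agent.Char

/-- Let ρ be an irreducible representation of the finite group G on the coordinate space Fin n → ℂ whose character χ is real-valued, and let ν be the Frobenius–Schur indicator of χ (the average of χ(s²)). Writing X(g) for the matrix of ρ(g), there is a nonzero matrix M with X(g)ᵀ M X(g) = M for all g ∈ G; and every such M (zero or not) satisfies Mᵀ = ν·M. -/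
theorem result {G : Type*} [Group G] [Fintype G] (n : ℕ) (ρ : Representation ℂ G (Fin n → ℂ)) (hirr : ρ.IsIrreducible) (hreal : ∀ g : G, (ρ.character g).im = 0) : (∃ M : Matrix (Fin n) (Fin n) ℂ, M ≠ 0 ∧ ∀ g : G, (LinearMap.toMatrix' (ρ g)).transpose * M * LinearMap.toMatrix' (ρ g) = M) ∧ ∀ M : Matrix (Fin n) (Fin n) ℂ, (∀ g : G, (LinearMap.toMatrix' (ρ g)).transpose * M * LinearMap.toMatrix' (ρ g) = M) → M.transpose = ((Nat.card G : ℂ)⁻¹ * ∑ s : G, ρ.character (s * s)) • M := by
  have h0 := isIrrCharacter_rep ρ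
  have h2 : fsInd ρ.character ≠ 0 := by
    rcases h0.fsInd_eq_one_or (funext fun g => Complex.conj_eq_iff_im.2 (hreal g)) with h | h <;> simp [h]
  obtain ⟨N, h3, h4, h5⟩ := exists_form' ρ h2
  have := nontrivial_of_isIrreducible ρ
  rcases isEmpty_or_nonempty (Fin n) with _ | hn
  · exact absurd (Unique.instSubsingleton) (not_subsingleton (Fin n → ℂ))
  refine ⟨⟨N, fun h => h3 (h ▸ Matrix.det_zero), h5⟩, fun M hM => ?_⟩
  have h6 : ∀ M : Matrix (Fin n) (Fin n) ℂ, (∀ g, (mx ρ g).transpose * M * mx ρ g = M) → ∀ g,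
      M * mx ρ g = (mx ρ g⁻¹).transpose * M := fun M hM g => by
    conv_rhs => rw [← hM g, ← Matrix.mul_assoc, ← Matrix.mul_assoc, ← Matrix.transpose_mul, ← map_mul]
    simp
  obtain ⟨c, hc⟩ := mx_schur ρ (A := N⁻¹ * M) fun g => by
    rw [Matrix.mul_assoc, h6 M hM, ← Matrix.nonsing_inv_mul_cancel_left N (mx ρ g * _) h3.isUnit,
      ← Matrix.mul_assoc N, h6 N h5, Matrix.mul_assoc _ N, Matrix.mul_nonsing_inv_cancel_left _ _ h3.isUnit]
  rw [← Matrix.mul_nonsing_inv_cancel_left N M h3.isUnit, hc, Matrix.mul_smul, Matrix.mul_one,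
    Matrix.transpose_smul, h4, smul_comm]
  rfl

end Cfsg.Agent.S4475
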