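import Cfsg.Statements.S4476
import Cfsg.Agent.Lib.Char.Codeg

set_option autoImplicit false
open Cfsg

namespace Cfsg.Agent.S4476

open Cfsg.Agent.Char

/-- Let G be a finite group of even order g with exactly t involutions, and put α = (g − 1)/t (a rational number). Then (a) some non-identity element x of G has at most α² conjugates; and (b) some non-principal real-valued irreducible character of G has degree at most α. -/
theorem result {G : Type*} [Group G] [Fintype G] (heven : Even (Nat.card G)) (t : ℕ) (ht : Nat.card {x : G // orderOf x = 2} = t) : (∃ x : G, x ≠ 1 ∧ ((Subgroup.centralizer ({x} : Set G)).index : ℚ) ≤ (((Nat.card G : ℚ) - 1) / t) ^ 2) ∧ ∃ χ : Cfsg.IrrCharacter G, (χ : G → ℂ) ≠ (fun _ => 1) ∧ (∀ g : G, ((χ : G → ℂ) g).im = 0) ∧ (Cfsg.charDegree (χ : G → ℂ) : ℚ) ≤ ((Nat.card G : ℚ) - 1) / t := by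
  classical
  have := Fact.mk Nat.prime_two
  obtain ⟨s, hs⟩ := exists_prime_orderOf_dvd_card' (G := G) 2 heven.two_dvd
  have : Nonempty {x : G // orderOf x = 2} := ⟨⟨s, hs⟩⟩
  have h0 : (0 : ℚ) < t := by rw [← ht]; exact_mod_cast Nat.card_pos
  let S := (Finset.univ.erase (irrOne G)).filter fun χ => ∀ g, (χ.1 g).im = 0
  have h1 : (t : ℚ) ≤ ∑ χ ∈ S, (charDegree χ.1 : ℚ) := by
    have h2 := sum_fsInd_mul (G := G)
    rw [ht, ← Finset.add_sum_erase _ _ (Finset.mem_univ (irrOne G)), add_comm] at h2
    have h3 : fsInd (irrOne G).1 * (irrOne G).1 1 = 1 := by simp [fsInd]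
    have h4 := congrArg Complex.re (add_right_cancel (h3 ▸ h2))
    rw [Complex.natCast_re, Complex.re_sum] at h4
    have : (t : ℝ) ≤ ∑ χ ∈ S, (charDegree χ.1 : ℝ) := by
      rw [← h4, Finset.sum_filter]
      refine Finset.sum_le_sum fun χ _ => ?_
      rw [← χ.2.isCharacter.cast_charDegree]
      split_ifs with h
      · rcases χ.2.fsInd_eq_one_or (funext fun g => Complex.conj_eq_iff_im.2 (h g)) with h | h <;>
          simp [h]
      · simp [χ.2.fsInd_eq_zero fun h5 => h fun g => Complex.conj_eq_iff_im.1 (congrFun h5 g)]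
    exact_mod_cast this
  have h2 : ∑ χ ∈ S, (charDegree χ.1 : ℚ) ^ 2 ≤ Nat.card G - 1 := by
    have h3 := sum_charDegree_sq (G := G)
    rw [← Finset.add_sum_erase _ _ (Finset.mem_univ (irrOne G))] at h3
    have h4 : charDegree (irrOne G).1 = 1 := by simp [charDegree]
    rw [← h3, h4]
    push_cast
    rw [add_sub_cancel_left]
    exact Finset.sum_le_sum_of_subset_of_nonneg (Finset.filter_subset _ _) fun _ _ _ => by
      positivity
  refine ⟨?_, ?_⟩
  · by_contra! h3
    have h4 := sq_sum_le_card_mul_sum_sq (s := S) (f := fun χ => (charDegree χ.1 : ℚ))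
    have h5 : S.card + 1 ≤ Nat.card (IrrCharacter G) := by
      rw [Nat.card_eq_fintype_card, ← Finset.card_univ,
        ← Finset.card_erase_add_one (Finset.mem_univ (irrOne G))]
      exact Nat.succ_le_succ (Finset.card_filter_le _ _)
    have h6 := sum_card_centralizer (G := G)
    rw [← Finset.add_sum_erase _ _ (Finset.mem_univ 1),
      Subgroup.centralizer_eq_top_iff_subset.2 (by simp), Subgroup.card_top] at h6
    have h7 := Finset.sum_lt_sum_of_nonempty (s := Finset.univ.erase (1 : G))
      ⟨s, by simp [show s ≠ 1 from fun h => by simp [h] at hs]⟩ (g := fun _ => (Nat.card G : ℚ))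
      (f := fun x => Nat.card (Subgroup.centralizer ({x} : Set G)) * (((Nat.card G : ℚ) - 1) / t) ^ 2)
      fun x hx => by
        rw [← (Subgroup.centralizer {x}).card_mul_index, Nat.cast_mul]
        exact mul_lt_mul_of_pos_left (by
          rw [← Nat.cast_mul, Subgroup.card_mul_index]; exact h3 x (Finset.ne_of_mem_erase hx))
          (by exact_mod_cast Nat.card_pos)
    rw [← Finset.sum_mul, ← Nat.cast_sum, Finset.sum_const, Finset.card_erase_of_mem
      (Finset.mem_univ _), Finset.card_univ, Fintype.card_eq_nat_card, nsmul_eq_mul,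
      Nat.cast_sub Nat.card_pos, div_pow, ← mul_div_assoc, div_lt_iff₀ (by positivity)] at h7
    have h8 : (1 : ℚ) < Nat.card G := by
      have : Nontrivial G := ⟨⟨s, 1, fun h => by simp [h] at hs⟩⟩
      exact_mod_cast Finite.one_lt_card
    have h9 : (S.card : ℚ) * Nat.card G ≤
        (∑ x ∈ Finset.univ.erase (1 : G), Nat.card (Subgroup.centralizer ({x} : Set G)) : ℕ) := by
      exact_mod_cast (by nlinarith : S.card * Nat.card G ≤ _)
    have h10 : (t : ℚ) ^ 2 ≤ S.card * (Nat.card G - 1) :=
      ((pow_le_pow_left₀ h0.le h1 2).trans h4).trans (mul_le_mul_of_nonneg_left h2 (by positivity))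
    have h11 := mul_le_mul_of_nonneg_right h9 (sq_nonneg ((Nat.card G : ℚ) - 1))
    have h12 := mul_le_mul_of_nonneg_left h10 (show (0 : ℚ) ≤ (Nat.card G - 1) * Nat.card G by
      nlinarith)
    push_cast at h7 h11
    nlinarith
  · by_contra! h3
    have h4 : S.Nonempty := Finset.nonempty_of_sum_ne_zero (h0.trans_le h1).ne'
    have h5 := Finset.sum_lt_sum_of_nonempty h4 (f := fun χ => ((Nat.card G : ℚ) - 1) / t * charDegree χ.1)
      (g := fun χ => (charDegree χ.1 : ℚ) ^ 2) fun χ hχ => by
        simp only [S, Finset.mem_filter, Finset.mem_erase] at hχ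
        rw [sq]
        exact mul_lt_mul_of_pos_right (h3 χ (fun h => hχ.1.1 (Subtype.ext h)) hχ.2)
          (by exact_mod_cast χ.2.charDegree_pos)
    rw [← Finset.mul_sum] at h5
    have h6 : (0 : ℚ) ≤ Nat.card G - 1 := sub_nonneg.2 (by exact_mod_cast Nat.card_pos)
    have := mul_le_mul_of_nonneg_left h1 (div_nonneg h6 h0.le)
    rw [div_mul_cancel₀ _ h0.ne'] at this
    linarith

end Cfsg.Agent.S4476
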