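import Cfsg.Statements.S4478
import Cfsg.Agent.Lib.Char.Codeg

set_option autoImplicit false
open Cfsg

namespace Cfsg.Agent.S4478

open Cfsg.Agent.Char

/-- Let G be a finite group of even order and χ an irreducible character of G whose degree x is divisible by the full power of 2 dividing the order of G and, for every odd prime p such that G has an element of order 2p, by the full power of p dividing the order of G. Then all involutions of G are conjugate, the centralizer of every involution has order exactly x with x coprime to its index, and the Frobenius–Schur indicator of χ equals 1. -/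
theorem result {G : Type*} [Group G] [Fintype G] (heven : Even (Nat.card G)) (χ : Cfsg.IrrCharacter G) (h2 : 2 ^ (Nat.card G).factorization 2 ∣ Cfsg.charDegree (χ : G → ℂ)) (hp : ∀ p : ℕ, p.Prime → p ≠ 2 → (∃ g : G, orderOf g = 2 * p) → p ^ (Nat.card G).factorization p ∣ Cfsg.charDegree (χ : G → ℂ)) : (∀ s t : G, orderOf s = 2 → orderOf t = 2 → IsConj s t) ∧ (∀ s : G, orderOf s = 2 → Nat.card (Subgroup.centralizer ({s} : Set G)) = Cfsg.charDegree (χ : G → ℂ) ∧ (Nat.card (Subgroup.centralizer ({s} : Set G))).Coprime (Subgroup.centralizer ({s} : Set G)).index) ∧ (Nat.card G : ℂ)⁻¹ * ∑ g : G, (χ : G → ℂ) (g * g) = 1 := by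
  classical
  have hd := χ.2.isCharacter.cast_charDegree.symm
  have h1 : ∀ q : ℕ, q.Prime → (q = 2 ∨ ∃ g : G, orderOf g = 2 * q) →
      q ^ (Nat.card G).factorization q ∣ charDegree χ.1 := fun q hq h => by
    by_cases h3 : q = 2
    · exact h3 ▸ h2
    · exact hp q hq h3 (h.resolve_left h3)
  have h3 : ∀ (s : G) (q : ℕ), orderOf s = 2 → q.Prime →
      q ∣ Nat.card (Subgroup.centralizer ({s} : Set G)) →
      q ^ (Nat.card G).factorization q ∣ charDegree χ.1 := fun s q hs hq h => h1 q hq (by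
    refine or_iff_not_imp_left.2 fun h4 => ?_
    have := Fact.mk hq
    obtain ⟨⟨y, hy⟩, h5⟩ := exists_prime_orderOf_dvd_card' q h
    rw [Subgroup.orderOf_mk] at h5
    refine ⟨s * y, ?_⟩
    rw [Commute.orderOf_mul_eq_mul_orderOf_of_coprime
      (Subgroup.mem_centralizer_singleton_iff.1 hy).symm
      (by rw [hs, h5]; exact (Nat.coprime_primes Nat.prime_two hq).2 (Ne.symm h4)), hs, h5])
  have h4 : ∀ (q : ℕ) (g : G), q.Prime → (q = 2 ∨ ∃ g : G, orderOf g = 2 * q) → q ∣ orderOf g →
      χ.1 g = 0 := fun q g hq h => χ.2.eq_zero_of_defect_zero hq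
    (Nat.pow_succ_factorization_not_dvd Nat.card_pos.ne' hq) hd (h1 q hq h)
  have h5 : ∑ g, χ.1 (g * g) = Nat.card {s : G // orderOf s = 2} * charDegree χ.1 := by
    have e1 : ∑ g with Odd (orderOf g), χ.1 (g * g) = ∑ g with Odd (orderOf g), χ.1 g := by
      obtain ⟨k, hk⟩ : Odd (ordCompl[2] (Nat.card G)) := Nat.not_even_iff_odd.1 fun h =>
        Nat.not_dvd_ordCompl Nat.prime_two (Nat.card_pos (α := G)).ne' h.two_dvd
      have e : ∀ g : G, Odd (orderOf g) → (g * g) ^ (k + 1) = g := fun g hg => by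
        rw [← sq, ← pow_mul, show 2 * (k + 1) = 2 * k + 1 + 1 by ring, pow_succ, ← hk,
          orderOf_dvd_iff_pow_eq_one.1 (Nat.dvd_ordCompl_of_dvd_not_dvd (orderOf_dvd_natCard g)
            hg.not_two_dvd_nat), one_mul]
      refine Finset.sum_nbij' (fun g => g * g) (fun g => g ^ (k + 1)) (fun g hg => ?_)
        (fun g hg => ?_) (fun g hg => e g (by simpa using hg)) (fun g hg => ?_) fun _ _ => rfl
      · simp only [Finset.mem_filter, Finset.mem_univ, true_and, ← sq] at hg ⊢
        exact hg.of_dvd_nat (orderOf_pow_dvd 2)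
      · simp only [Finset.mem_filter, Finset.mem_univ, true_and] at hg ⊢
        exact hg.of_dvd_nat (orderOf_pow_dvd _)
      · rw [← (Commute.refl g).mul_pow]; exact e g (by simpa using hg)
    have e2 : ∑ g with Odd (orderOf g), χ.1 g = 0 := by
      rw [Finset.sum_filter_of_ne fun g _ h => Nat.not_even_iff_odd.1 fun h6 =>
        h (h4 2 g Nat.prime_two (.inl rfl) h6.two_dvd)]
      have := χ.2.classInner_of_ne isIrrCharacter_one fun h => by
        have := (dvd_pow_self 2 (Nat.Prime.factorization_pos_of_dvd Nat.prime_two Nat.card_pos.ne'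
          heven.two_dvd).ne').trans h2
        simp [h, charDegree] at this
      simpa [classInner_one_right] using this
    rw [← Finset.sum_filter_add_sum_filter_not _ (fun g => Odd (orderOf g)), e1, e2, zero_add,
      Nat.card_eq_fintype_card, Fintype.card_subtype, hd.symm, ← nsmul_eq_mul, ← Finset.sum_const,
      Finset.sum_filter, Finset.sum_filter]
    refine Finset.sum_congr rfl fun g _ => ?_
    by_cases e3 : orderOf g = 2
    · rw [if_pos e3, if_pos (by rw [e3]; decide), ← sq, ← e3, pow_orderOf_eq_one]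
    rw [if_neg e3]
    split_ifs with e4
    · rfl
    obtain ⟨m, hm⟩ := (Nat.not_odd_iff_even.1 e4).two_dvd
    have e5 : orderOf (g * g) = m := by
      rw [← sq, orderOf_pow_of_dvd two_ne_zero ⟨m, hm⟩, hm, Nat.mul_div_cancel_left _ two_pos]
    obtain ⟨q, hq, c, hc⟩ := Nat.exists_prime_and_dvd (show m ≠ 1 from fun h => e3 (by rw [hm, h, mul_one]))
    refine h4 q _ hq (.inr ⟨g ^ c, ?_⟩) (e5 ▸ ⟨c, hc⟩)
    have e6 : c ≠ 0 := fun h => (orderOf_pos g).ne' (by rw [hm, hc, h]; simp)
    rw [orderOf_pow_of_dvd e6 ⟨2 * q, by rw [hm, hc]; ring⟩, hm, hc, ← mul_assoc,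
      Nat.mul_div_cancel _ (Nat.pos_of_ne_zero e6)]
  have := Fact.mk Nat.prime_two
  obtain ⟨s₀, hs₀⟩ := exists_prime_orderOf_dvd_card' (G := G) 2 heven.two_dvd
  have : Nonempty {x : G // orderOf x = 2} := ⟨⟨s₀, hs₀⟩⟩
  have h6 : 0 < Nat.card {s : G // orderOf s = 2} * charDegree χ.1 :=
    Nat.mul_pos Nat.card_pos χ.2.charDegree_pos
  have h7 : fsInd χ.1 = 1 := by
    have e : Nat.card G * fsInd χ.1 = (Nat.card {s : G // orderOf s = 2} * charDegree χ.1 : ℕ) := by
      rw [fsInd, h5, mul_inv_cancel_left₀ (card_ne_zero' G), Nat.cast_mul]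
    by_cases h : (fun g => starRingEnd ℂ (χ.1 g)) = χ.1
    · refine (χ.2.fsInd_eq_one_or h).resolve_right fun h8 => ?_
      rw [h8, mul_neg_one, neg_eq_iff_add_eq_zero, ← Nat.cast_add, Nat.cast_eq_zero] at e
      omega
    · rw [χ.2.fsInd_eq_zero h, mul_zero, eq_comm, Nat.cast_eq_zero] at e
      omega
  have h8 : Nat.card {s : G // orderOf s = 2} * charDegree χ.1 = Nat.card G := by
    have := h7
    rw [fsInd, h5, inv_mul_eq_one₀ (card_ne_zero' G)] at this
    exact_mod_cast this.symm
  have h9 : ∀ s : G, orderOf s = 2 → Nat.card (Subgroup.centralizer ({s} : Set G)) = charDegree χ.1 ∧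
      ∀ t, orderOf t = 2 → IsConj s t := fun s hs => by
    have e1 : Nat.card (Subgroup.centralizer ({s} : Set G)) ∣ charDegree χ.1 :=
      (Nat.dvd_iff_prime_pow_dvd_dvd _ _).2 fun q k hq h => by
        rcases k.eq_zero_or_pos with rfl | hk
        · simp
        exact (pow_dvd_pow q ((hq.pow_dvd_iff_le_factorization Nat.card_pos.ne').1
          (h.trans (Subgroup.card_subgroup_dvd_card _)))).trans
            (h3 s q hs hq ((dvd_pow_self q hk.ne').trans h))
    have e2 := card_isConj_mul_card_centralizer s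
    let f : {x : G // IsConj s x} → {x : G // orderOf x = 2} := fun x => ⟨x, by
      obtain ⟨c, hc⟩ := isConj_iff.1 x.2
      rw [← hc, ← hs]; exact (MulAut.conj c).orderOf_eq s⟩
    have hf : Function.Injective f := fun x y h => Subtype.ext (congrArg (·.1) h)
    have e3 := Nat.card_le_card_of_injective f hf
    have e4 := Nat.le_of_dvd χ.2.charDegree_pos e1
    have e5 : 0 < Nat.card (Subgroup.centralizer ({s} : Set G)) := Nat.card_pos
    have e6 : Nat.card {x : G // IsConj s x} = Nat.card {x : G // orderOf x = 2} := by nlinarith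
    refine ⟨Nat.eq_of_mul_eq_mul_left Nat.card_pos (by rw [h8, ← e6, e2]), fun t ht => ?_⟩
    obtain ⟨x, hx⟩ := ((Nat.bijective_iff_injective_and_card f).2 ⟨hf, e6⟩).2 ⟨t, ht⟩
    exact (congrArg (·.1) hx : x.1 = t) ▸ x.2
  refine ⟨fun s t hs => (h9 s hs).2 t, fun s hs => ⟨(h9 s hs).1, Nat.coprime_of_dvd fun q hq e1 e2 =>
    Nat.pow_succ_factorization_not_dvd (Nat.card_pos (α := G)).ne' hq ?_⟩, h7⟩
  rw [pow_succ]
  conv_rhs => rw [← (Subgroup.centralizer {s}).card_mul_index, (h9 s hs).1]
  exact Nat.mul_dvd_mul (h3 s q hs hq e1) e2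

end Cfsg.Agent.S4478
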