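import Cfsg.Statements.S4480
import Cfsg.Agent.Lib.Block.Ord

set_option autoImplicit false
open Cfsg

namespace Cfsg.Agent.S4480

open Cfsg.Agent.Blk
open Cfsg.Agent.Char hiding cj cj_mul cj_inv_cj cj_cj_inv

/-- Same setting as the Klein-four order formula: G of order 4·g₀ (g₀ odd) with no normal 2-complement, P a Sylow 2-subgroup, J an involution of P, M over 2, principal 2-block {1, χ₁, χ₂, χ₃} with χ_i(J) = ε_i = ±1. Suppose ε₁ε₂ε₃ = −1 and ε₃ = −1, and put q = x₃ = χ₃(1). Then there is a natural number m with 4·c(J) = m·c(P)·(q + 1), and the order of G equals (m³·c(P)/4)·(q³ − q)/2, that is 8·#G = m³·c(P)·(q³ − q). -/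
theorem result {G : Type*} [Group G] [Finite G] (M : Ideal Cfsg.AlgInt) (hM : Cfsg.IsPModular 2 M) (g₀ : ℕ) (hg₀ : Odd g₀) (hG : Nat.card G = 4 * g₀) (hnc : ¬ ∃ N : Subgroup G, N.Normal ∧ Nat.card N = g₀) (P : Sylow 2 G) (J : G) (hJ : J ∈ (P : Subgroup G)) (hJ2 : orderOf J = 2) (χ₁ χ₂ χ₃ : Cfsg.IrrCharacter G) (ε₁ ε₂ ε₃ : ℤ) (hB : Cfsg.principalBlock M G = {χ : Cfsg.IrrCharacter G | (χ : G → ℂ) = (fun _ => 1) ∨ χ = χ₁ ∨ χ = χ₂ ∨ χ = χ₃}) (hdist : (χ₁ : G → ℂ) ≠ (fun _ => 1) ∧ (χ₂ : G → ℂ) ≠ (fun _ => 1) ∧ (χ₃ : G → ℂ) ≠ (fun _ => 1) ∧ χ₁ ≠ χ₂ ∧ χ₁ ≠ χ₃ ∧ χ₂ ≠ χ₃) (hε : (ε₁ = 1 ∨ ε₁ = -1) ∧ (ε₂ = 1 ∨ ε₂ = -1) ∧ (ε₃ = 1 ∨ ε₃ = -1)) (hval : (χ₁ : G → ℂ) J = ε₁ ∧ (χ₂ : G → ℂ) J = ε₂ ∧ (χ₃ : G → ℂ) J = ε₃) (hprod : ε₁ * ε₂ * ε₃ = -1) (hε₃ : ε₃ = -1) : ∃ m : ℕ, 4 * Nat.card (Subgroup.centralizer ({J} : Set G)) = m * Nat.card (Subgroup.centralizer ((P : Subgroup G) :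 Set G)) * (Cfsg.charDegree (χ₃ : G → ℂ) + 1) ∧ 8 * Nat.card G = m ^ 3 * Nat.card (Subgroup.centralizer ((P : Subgroup G) : Set G)) * (Cfsg.charDegree (χ₃ : G → ℂ) ^ 3 - Cfsg.charDegree (χ₃ : G → ℂ)) := by
  haveI : PMod M 2 := ⟨hM⟩
  have := Fintype.ofFinite G
  obtain ⟨h1, h7, h8⟩ := klein_data M hg₀ hG hnc P hJ hJ2
  have h2 := (isPBlock_principal (M := M) (G := G)).isUB.sum_degree_mul_eq_zero (p := 2) (y := J)
    (by rw [hJ2])
  rw [sum_fs_four hB hdist] at h1 h2 h7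
  have b0 : ∀ χ : IrrCharacter G, χ ∈ principalBlock M G → fsInd χ.1 = 1 ∨
      (fsInd χ.1 = 0 ∧ (fun g => starRingEnd ℂ (χ.1 g)) ≠ χ.1) := fun χ hχ => by
    by_cases h : (fun g => starRingEnd ℂ (χ.1 g)) = χ.1
    · exact .inl ((χ.2.fsInd_eq_one_or h).resolve_right fun h3 => h8 χ hχ
        (χ.2.even_of_fsInd h3 χ.2.isCharacter.cast_charDegree.symm).two_dvd)
    · exact .inr ⟨χ.2.fsInd_eq_zero h, h⟩
  have m1 : χ₁ ∈ principalBlock M G := by simp [hB]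
  have b1 : fsInd (irrOne G).1 = 1 := by
    simp [fsInd, irrOne]
  simp only [b1] at h7
  simp only [hval, ← χ₁.2.isCharacter.cast_charDegree, ← χ₂.2.isCharacter.cast_charDegree,
    ← χ₃.2.isCharacter.cast_charDegree, irrOne, map_div₀, map_pow, map_intCast, map_natCast,
    map_one] at h1 h2 h7
  have a1 := charDegree_ne_zero χ₁
  have a2 := charDegree_ne_zero χ₂
  have a3 := charDegree_ne_zero χ₃
  have h4 : (1 : ℤ) * 1 + charDegree χ₁.1 * ε₁ + charDegree χ₂.1 * ε₂ + charDegree χ₃.1 * ε₃ = 0 := by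
    exact_mod_cast h2
  subst hε₃
  obtain ⟨rfl, rfl⟩ : ε₁ = 1 ∧ ε₂ = 1 := by
    obtain ⟨rfl | rfl, rfl | rfl, -⟩ := hε <;> omega
  have b2 : (fun g => starRingEnd ℂ (χ₁.1 g)) ≠ χ₁.1 := by
    refine ((b0 _ m1).resolve_left fun h => ?_).2
    rcases b0 χ₂ (by simp [hB]) with h2 | ⟨h2, -⟩ <;>
    rcases b0 χ₃ (by simp [hB]) with h3 | ⟨h3, -⟩ <;> rw [h, h2, h3] at h7 <;> norm_num at h7
  have b3 : charDegree χ₂.1 = charDegree χ₁.1 := by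
    have h := (gal_mem_principal_iff (M := M) (p := 2) starRingAut).2 m1
    rw [hB] at h
    rcases h with h | h | h | h
    · exact absurd ((gal_eq_irrOne_iff _).1 (Transfer.irr_eq_one.2 h)) (Transfer.irr_ne_one.2 hdist.1)
    · exact absurd (funext fun g => (gal_apply starRingAut χ₁ g).symm.trans (by rw [h])) b2
    · rw [← h, charDegree_gal]
    · have h5 := gal_apply starRingAut χ₁ J
      rw [h, hval.1, hval.2.2] at h5
      norm_num at h5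
  obtain ⟨i, hi⟩ := (Ce1 J).card_subgroup_dvd_card
  obtain ⟨t, ht⟩ := Subgroup.card_dvd_of_le
    (show Ce (P : Subgroup G) ≤ Ce1 J from Ce_zpowers J ▸ Ce_anti (zpowers_le' hJ))
  have a4 : Nat.card (Ce1 J) ≠ 0 := Nat.card_pos.ne'
  have a5 : Nat.card (Ce (P : Subgroup G)) ≠ 0 := Nat.card_pos.ne'
  change ∃ m, 4 * Nat.card (Ce1 J) = m * Nat.card (Ce (P : Subgroup G)) * _ ∧
    _ = m ^ 3 * Nat.card (Ce (P : Subgroup G)) * _
  rw [b3] at h1 h4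
  generalize charDegree χ₁.1 = x at *
  obtain h9 : charDegree χ₃.1 = 2 * x + 1 := by omega
  rw [h9] at h1 ⊢
  rw [hi, ht] at h1 ⊢
  rw [ht] at a4
  generalize Nat.card (Ce (P : Subgroup G)) = d at *
  have a6 : t ≠ 0 := right_ne_zero_of_mul a4
  have h5 : i * (x + 1) ^ 2 = x * (2 * x + 1) * (2 * t) ^ 2 := by
    have a7 : (2 * x + 1 : ℂ) ≠ 0 := by exact_mod_cast Nat.succ_ne_zero (2 * x)
    push_cast at h1
    obtain ⟨y, hy⟩ : ∃ y : ℂ, y = 2 * x + 1 := ⟨_, rfl⟩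
    rw [← hy] at h1 a7
    field_simp at h1
    have : (2 : ℂ) * (i * (x + 1) ^ 2) = 2 * (x * (2 * x + 1) * (2 * t) ^ 2) := by
      subst hy
      linear_combination h1
    exact_mod_cast mul_left_cancel₀ two_ne_zero this
  obtain ⟨m, hm⟩ : x + 1 ∣ 2 * t := by
    rw [← Nat.pow_dvd_pow_iff two_ne_zero]
    refine Nat.Coprime.dvd_of_dvd_mul_left (Nat.Coprime.pow_left _ (Nat.Coprime.mul_right
      (Nat.coprime_self_add_left.2 (Nat.coprime_one_left _)) ?_)) ⟨i, by rw [← h5, mul_comm]⟩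
    rw [show 2 * x + 1 = x + (x + 1) by ring, Nat.coprime_add_self_right]
    simp
  rw [hm, mul_pow (x + 1), ← mul_assoc, mul_right_comm, mul_left_inj' (by positivity)] at h5
  refine ⟨m, by linear_combination 2 * d * hm, ?_⟩
  rw [show (2 * x + 1) ^ 3 - (2 * x + 1) = 4 * x * (x + 1) * (2 * x + 1) from
    Nat.sub_eq_of_eq_add (by ring), h5]
  linear_combination 4 * d * x * (2 * x + 1) * m ^ 2 * hm

end Cfsg.Agent.S4480
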