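import Cfsg.Statements.S4483
import Cfsg.Agent.Lib.Block.Rob

set_option autoImplicit false
open Cfsg

namespace Cfsg.Agent.S4483

open Cfsg.Agent.Blk
open Cfsg.Agent.Char hiding cj cj_mul cj_inv_cj cj_cj_inv

/-- Let G be a finite group of order 2^n·g₀ with g₀ odd, and M a maximal ideal of the algebraic integers containing 2. Every real-valued irreducible character of G of odd degree lies in the principal 2-block; consequently G has at most 2^(2n) real-valued irreducible characters of odd degree. -/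
theorem result {G : Type*} [Group G] [Finite G] (M : Ideal Cfsg.AlgInt) (hM : Cfsg.IsPModular 2 M) : (∀ χ : Cfsg.IrrCharacter G, (∀ g : G, ((χ : G → ℂ) g).im = 0) → Odd (Cfsg.charDegree (χ : G → ℂ)) → χ ∈ Cfsg.principalBlock M G) ∧ Nat.card {χ : Cfsg.IrrCharacter G // (∀ g : G, ((χ : G → ℂ) g).im = 0) ∧ Odd (Cfsg.charDegree (χ : G → ℂ))} ≤ 2 ^ (2 * (Nat.card G).factorization 2) := by
  haveI : PMod M 2 := ⟨hM⟩
  classical
  have key : ∀ χ : IrrCharacter G, (∀ g : G, ((χ : G → ℂ) g).im = 0) →
      Odd (charDegree (χ : G → ℂ)) → χ ∈ principalBlock M G := fun χ h1 h2 =>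
    mem_principal_of_real (by rwa [Nat.two_dvd_ne_zero, ← Nat.odd_iff]) rfl fun g _ => by
      rw [χ.2.isCharacter.apply_inv, Complex.conj_eq_iff_im.2 (h1 g)]
  refine ⟨key, ?_⟩
  have := Fintype.ofFinite G
  have hB := isPBlock_principal (M := M) (G := G)
  have h1 := hB.brauer_feit
  have h3 := Finset.card_nsmul_le_sum (fs (principalBlock M G))
    (fun χ => 2 ^ (2 * blockHeight 2 (principalBlock M G) χ)) 1
    fun _ _ => Nat.one_le_pow _ _ two_pos
  have h4 := defect_add_mnu (p := 2) hB.nonempty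
  have h5 : (2 ^ blockDefect 2 (principalBlock M G)) ^ 2 ≤ 2 ^ (2 * (Nat.card G).factorization 2) := by
    rw [← pow_mul]
    exact Nat.pow_le_pow_right two_pos (by omega)
  have h6 := Nat.one_le_pow (2 * (Nat.card G).factorization 2) 2 two_pos
  rw [card_subtype_fs]
  have h7 := Finset.card_le_card (s := fs {χ : IrrCharacter G | (∀ g : G, ((χ : G → ℂ) g).im = 0) ∧
    Odd (charDegree (χ : G → ℂ))}) (t := fs (principalBlock M G)) fun χ hχ => by
      rw [mem_fs] at hχ ⊢; exact key χ hχ.1 hχ.2
  simp only [smul_eq_mul, mul_one] at h3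
  omega

end Cfsg.Agent.S4483
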