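import Cfsg.Statements.S4485
import Cfsg.Agent.Lib.Block.BLeon

set_option autoImplicit false
open Cfsg

namespace Cfsg.Agent.S4485

open Cfsg.Agent.Blk
open Cfsg.Agent.Char hiding cj cj_mul cj_inv_cj cj_cj_inv
open scoped Classical

/-- Let G be a finite group and p a prime dividing its order such that every non-identity element of a Sylow p-subgroup P has the same centralizer as P itself (so P is abelian); let p^n be the order of P. If G has a faithful character of degree x with x² < p^n − 1, then P is normal in G. -/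
theorem result {G : Type*} [Group G] [Finite G] (p : ℕ) (hp : p.Prime) (hpG : p ∣ Nat.card G) (P : Sylow p G) (hstar : ∀ x ∈ (P : Subgroup G), x ≠ 1 → Subgroup.centralizer ({x} : Set G) = Subgroup.centralizer ((P : Subgroup G) : Set G)) (n : ℕ) (hn : Nat.card P = p ^ n) (χ : G → ℂ) (hχ : Cfsg.IsCharacter G χ) (hfaith : ∀ g : G, χ g = χ 1 → g = 1) (hdeg : Cfsg.charDegree χ ^ 2 + 1 < p ^ n) : (P : Subgroup G).Normal := by
  haveI : Fact p.Prime := ⟨hp⟩
  obtain ⟨M, hM⟩ := exists_pmod p
  refine normal_of_faithful (fun G _ _ P h1 h2 h3 h4 ψ h5 => ?_) G P (isSyl_sylow P) hstar hn hχ hfaith le_rfl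
  have := Fintype.ofFinite P
  by_cases h : ψ = irrOne G
  · exact charDegree_of_eq (by rw [h, irrOne_apply, Nat.cast_one])
  · exact (brauer_leonard M h2 h1 h4 h (by rw [h3]; nlinarith [Nat.pow_le_pow_left h5 2])).2

end Cfsg.Agent.S4485
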