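import Cfsg.Statements.S4488
import Cfsg.Agent.Lib.Char.LinChar

set_option autoImplicit false
open Cfsg

namespace Cfsg.Agent.S4488

open Cfsg.Agent.Char Finset

theorem geom (N : ℕ) (s : Multiset ℂ) (h : ∀ z ∈ s, z ^ N = 1) :
    0 ≤ (∑ k ∈ range N, (s.map fun z => z ^ k).sum).re := by
  induction s using Multiset.induction_on with
  | empty => simp
  | cons a s ih =>
    simp only [Multiset.map_cons, Multiset.sum_cons, sum_add_distrib, Complex.add_re]
    refine add_nonneg ?_ (ih fun z hz => h z (Multiset.mem_cons_of_mem hz))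
    by_cases ha : a = 1
    · simp [ha]
    · rw [geom_sum_eq ha, h a (Multiset.mem_cons_self _ _)]; simp

theorem val {G : Type*} [Group G] [Finite G] {p : ℕ} (hp : p.Prime) {χ : G → ℂ} (hχ : IsCharacter G χ) {n : ℕ}
    (hn : χ 1 = n) {g : G} {a : ℕ} (hg : g ^ p ^ a = 1) (h : ∀ k, ¬ p ∣ k → χ (g ^ k) = χ g) (h1 : χ g ≠ χ 1) :
    ∃ y ∈ range (n / (p - 1)), χ g = n - p * (y + 1 : ℕ) := by
  have ho := orderOf_pos g
  obtain ⟨t, ht⟩ := exists_int_of_forall_ringEquiv (hχ.isIntegral g) fun σ => by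
    obtain ⟨k, hk, hσ⟩ := exists_pow_of_ringHom (n := p * orderOf g) (Nat.mul_pos hp.pos ho).ne' σ.toRingHom
    exact (hχ.ringHom_apply σ.toRingHom g fun z hz => hσ z (by rw [mul_comm, pow_mul, hz, one_pow])).trans
      (h k ((Nat.Prime.coprime_iff_not_dvd hp).1 (Nat.Coprime.coprime_mul_right_right hk).symm))
  obtain ⟨s, hc, hs, hs'⟩ := hχ.exists_eigenvalues g
  have hs1 : ∀ z ∈ s, z ^ p ^ a = 1 := fun z hz => by
    obtain ⟨c, hc⟩ := orderOf_dvd_of_pow_eq_one hg
    rw [hc, pow_mul, hs z hz, one_pow]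
  have d : (p : ℤ) ∣ t - n := by
    let I : Ideal (integralClosure ℤ ℂ) := (Ideal.span {(p : integralClosure ℤ ℂ)}).radical
    obtain ⟨b, ⟨N, hb⟩, hb'⟩ : ∃ b ∈ I, (b : ℂ) = (s.map fun z => z - 1).sum := by
      refine Multiset.sum_induction (fun t : ℂ => ∃ b ∈ I, (b : ℂ) = t) _ ?_ ⟨0, zero_mem _, rfl⟩ ?_
      · rintro _ _ ⟨b, hb, rfl⟩ ⟨c, hc, rfl⟩; exact ⟨b + c, add_mem hb hc, rfl⟩
      · intro x hx
        obtain ⟨z, hz, rfl⟩ := Multiset.mem_map.1 hx
        let w : integralClosure ℤ ℂ := ⟨z, IsIntegral.of_pow (pow_pos hp.pos a) (hs1 z hz ▸ isIntegral_one)⟩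
        obtain ⟨r, hr⟩ := exists_add_pow_prime_pow_eq hp (w - 1) 1 a
        rw [sub_add_cancel, show w ^ p ^ a = 1 from Subtype.ext (hs1 z hz), one_pow] at hr
        exact ⟨w - 1, ⟨p ^ a, Ideal.mem_span_singleton'.2 ⟨-((w - 1) * r), by linear_combination hr⟩⟩, rfl⟩
    have e : (b : ℂ) = (t - n : ℤ) := by
      have := hs' 1
      simp only [zpow_one, Multiset.map_id'] at this
      rw [hb', Multiset.sum_map_sub]; simp [← this, ht, hc, hn]
    obtain ⟨w, hw⟩ := Ideal.mem_span_singleton'.1 hb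
    have hp0 : (p : ℂ) ≠ 0 := Nat.cast_ne_zero.2 hp.ne_zero
    refine (Nat.prime_iff_prime_int.1 hp).dvd_of_dvd_pow (n := N)
      (int_dvd_of_isIntegral_div (Nat.cast_ne_zero.2 hp.ne_zero) ?_)
    have := congrArg Subtype.val hw
    push_cast at this e ⊢
    rw [← e, ← this, mul_div_cancel_right₀ _ hp0]
    exact w.2
  have le : ∀ x, (χ x).re ≤ n := fun x =>
    (Complex.re_le_norm _).trans ((hχ.norm_le x).trans (by simp [hn]))
  have b1 : ∀ M : ℕ, (∑ k ∈ range (p * M), χ (g ^ k)).re ≤ M * (n + (p - 1) * t) := fun M => by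
    induction M with
    | zero => simp
    | succ M ih =>
      obtain ⟨q, rfl⟩ : ∃ q, p = q + 1 := ⟨p - 1, by have := hp.pos; omega⟩
      rw [mul_add, mul_one, sum_range_add, sum_range_succ', sum_congr rfl
        (f := fun i => χ (g ^ ((q + 1) * M + (i + 1)))) (g := fun _ => (t : ℂ)) fun i hi => by
        rw [h _ fun d => Nat.not_dvd_of_pos_of_lt i.succ_pos (by simpa using hi)
          ((Nat.dvd_add_right (dvd_mul_right _ _)).1 d), ht]]
      have := le (g ^ ((q + 1) * M + 0))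
      simp only [Complex.add_re, sum_const, card_range, nsmul_eq_mul, Complex.mul_re, Complex.natCast_re,
        Complex.intCast_re, Complex.natCast_im, zero_mul, sub_zero]
      push_cast at ih ⊢
      linarith
  have b2 := (geom (p * orderOf g) s fun z hz => by rw [mul_comm, pow_mul, hs z hz, one_pow]).trans
    ((le_of_eq (by
      congr 1
      exact sum_congr rfl fun k _ => by simpa using (hs' k).symm)).trans (b1 (orderOf g)))
  have b3 : (0 : ℤ) ≤ n + (p - 1) * t := by
    exact_mod_cast nonneg_of_mul_nonneg_right b2 (Nat.cast_pos.2 ho)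
  have b4 : t < n := lt_of_le_of_ne (by have := le g; rw [ht] at this; exact_mod_cast this)
    fun q => h1 (by rw [ht, hn, q]; simp)
  obtain ⟨c, hc⟩ := d
  have h2 := hp.two_le
  obtain ⟨y, rfl⟩ : ∃ y : ℕ, c = -(y + 1 : ℕ) := ⟨(-c - 1).toNat, by
    have : c < 0 := by nlinarith
    omega⟩
  refine ⟨y, mem_range.2 ((Nat.le_div_iff_mul_le (by omega)).2 ?_), ?_⟩
  · zify [hp.one_le]
    push_cast at hc
    nlinarith
  · rw [ht, show t = n - p * (y + 1 : ℕ) by linear_combination hc]; push_cast; rfl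

/-- Let the finite group G have a faithful p-rational character χ of degree n (all values of χ lie in the field generated over ℚ by a root of unity of order prime to p), and let p^a be the order of a Sylow p-subgroup of G. Then a ≤ Σ_{i ≥ 0} ⌊n / ((p − 1)·p^i)⌋ (a finite sum; the terms vanish once (p − 1)p^i > n). -/
theorem result {G : Type*} [Group G] [Finite G] (p : ℕ) (hp : p.Prime) (χ : G → ℂ) (hχ : Cfsg.IsCharacter G χ) (hfaith : ∀ g : G, χ g = χ 1 → g = 1) (hrat : (∃ r : ℕ, 0 < r ∧ ¬ p ∣ r ∧ ∀ g : G, χ g ∈ IntermediateField.adjoin ℚ ({Complex.exp (2 * Real.pi * Complex.I / r)} : Set ℂ))) (n : ℕ) (hn : Cfsg.charDegree χ = n) : (Nat.card G).factorization p ≤ ∑ i ∈ Finset.range (n + 1), n / ((p - 1) * p ^ i) := by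
  classical
  have := Fact.mk hp
  obtain ⟨P⟩ : Nonempty (Sylow p G) := inferInstance
  have := Fintype.ofFinite P
  obtain ⟨r, hr, hr', hrat⟩ := hrat
  have h1 : χ 1 = n := by rw [← hn, hχ.cast_charDegree]
  have key : ∀ g : P, g ≠ 1 → ∃ y ∈ range (n / (p - 1)), χ g = n - p * (y + 1 : ℕ) := fun g hg => by
    obtain ⟨a, ha⟩ := P.isPGroup' g
    have ha' : (g : G) ^ p ^ a = 1 := congrArg Subtype.val ha
    refine val hp hχ h1 ha' (fun k hk => ?_) fun q => hg (Subtype.ext (hfaith _ q))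
    obtain ⟨σ, h2, h3⟩ := exists_ringHom_pow_fix (m := p ^ a) (n := r) (k := k) (pow_pos hp.pos a).ne' hr.ne'
      (((Nat.Prime.coprime_iff_not_dvd hp).2 hr').pow_left a)
      (((Nat.Prime.coprime_iff_not_dvd hp).2 hk).symm.pow_right a)
    rw [← hχ.ringHom_apply σ (g : G) fun z hz => h2 z (by
      obtain ⟨c, hc⟩ := orderOf_dvd_of_pow_eq_one ha'
      rw [hc, pow_mul, hz, one_pow])]
    refine IntermediateField.adjoin_induction ℚ (p := fun x _ => σ x = x) ?_ ?_ ?_ ?_ ?_ (hrat g)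
    · rintro _ rfl; exact h3 _ (Complex.isPrimitiveRoot_exp r hr.ne').pow_eq_one
    · simp
    · intro x y _ _ hx hy; rw [map_add, hx, hy]
    · intro x _ hx; rw [map_inv₀, hx]
    · intro x y _ _ hx hy; rw [map_mul, hx, hy]
  set m := n / (p - 1) with hm
  have gen : IsGeneralizedCharacter P
      (∏ y ∈ range m, ((fun g : P => χ g) - ((n - p * (y + 1 : ℕ) : ℤ) : ℂ) • fun _ => (1 : ℂ))) :=
    prod_induction _ _ (fun _ _ => IsGeneralizedCharacter.mul) isCharacter_one.isGen fun y _ =>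
      (hχ.res P).isGen.sub (isCharacter_one.isGen.intCast_smul _)
  obtain ⟨c, hc⟩ := gen.classInner_eq_int isCharacter_one.isGen
  rw [classInner_one_right, sum_eq_single 1 (fun g _ hg => by
    obtain ⟨y, hy, hy'⟩ := key g hg
    rw [Finset.prod_apply]
    exact prod_eq_zero hy (by simp [hy'])) (by simp), inv_mul_eq_iff_eq_mul₀ (card_ne_zero' _)] at hc
  have h2 : ((p ^ m * m.factorial : ℕ) : ℂ) = Nat.card P * c := by
    rw [← hc, Finset.prod_apply, ← prod_range_add_one_eq_factorial]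
    simp [h1, prod_mul_distrib, -prod_range_add_one_eq_factorial]
  have h3 : Nat.card P ∣ p ^ m * m.factorial := Int.natCast_dvd_natCast.1 ⟨c, by exact_mod_cast h2⟩
  rw [P.card_eq_multiplicity, hp.pow_dvd_iff_le_factorization (Nat.mul_pos (pow_pos hp.pos m) m.factorial_pos).ne',
    Nat.factorization_mul (pow_pos hp.pos m).ne' m.factorial_ne_zero, hp.factorization_pow, Finsupp.add_apply,
    Finsupp.single_eq_same, Nat.factorization_factorial hp (b := n + 1)
      (Nat.lt_succ_of_le ((Nat.log_le_self _ _).trans (Nat.div_le_self _ _)))] at h3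
  rw [range_eq_Ico, sum_eq_sum_Ico_succ_bot n.succ_pos]
  simpa [← Nat.div_div_eq_div_mul] using h3

end Cfsg.Agent.S4488
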