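import Cfsg.Statements.S4490
import Cfsg.Agent.Lib.Block.Rob

set_option autoImplicit false
open Cfsg

namespace Cfsg.Agent.S4490

open Cfsg.Agent.Blk
open Cfsg.Agent.Char hiding cj cj_mul cj_inv_cj cj_cj_inv

/-- Let G be a finite group and M a maximal ideal of the algebraic integers containing 2. Every 2-block B of G whose defect groups are the Sylow 2-subgroups of G (a block of full defect) and which is not the principal block is different from its complex-conjugate block, the block formed by the complex conjugates of the members of B. -/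
theorem result {G : Type*} [Group G] [Finite G] (M : Ideal Cfsg.AlgInt) (hM : Cfsg.IsPModular 2 M) (B : Set (Cfsg.IrrCharacter G)) (hB : Cfsg.IsPBlock M B) (P : Sylow 2 G) (hfull : Cfsg.IsDefectGroup 2 M B (P : Subgroup G)) (hnp : B ≠ Cfsg.principalBlock M G) : {ψ : Cfsg.IrrCharacter G | ∃ χ ∈ B, (ψ : G → ℂ) = fun g => (starRingEnd ℂ) ((χ : G → ℂ) g)} ≠ B := by
  haveI : PMod M 2 := ⟨hM⟩
  intro h
  have : Fact (Nat.Prime 2) := ⟨Nat.prime_two⟩
  obtain ⟨χ, hχ, h0⟩ := exists_height_zero 2 hB.nonempty
  have h1 := hB.card_defectGroup hfull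
  rw [(isSyl_sylow P).card_eq, Subgroup.card_top] at h1
  have h2 := Nat.pow_right_injective le_rfl h1
  have h3 := defect_add_mnu (p := 2) hB.nonempty
  have h4 := height_add_mnu (p := 2) hχ
  have h5 : (⟨_, χ.2.conj⟩ : IrrCharacter G) ∈ B := h ▸ ⟨χ, hχ, rfl⟩
  refine hnp (hB.eq_of_mem isPBlock_principal hχ (mem_principal_of_real (fun hd => ?_)
    ((hB.blk_eq h5).trans (hB.blk_eq hχ).symm) fun g _ => (χ.2.isCharacter.apply_inv g).symm))
  have := Nat.prime_two.factorization_pos_of_dvd (charDegree_ne_zero χ) hd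
  simp only [nu] at h4
  omega

end Cfsg.Agent.S4490
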