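import Cfsg.Statements.S4492
import Cfsg.Agent.Lib.Block.Ker
import Cfsg.Agent.Lib.Comp.SPE
import Cfsg.Agent.Lib.Comp.Loc

set_option autoImplicit false
open Cfsg

namespace Cfsg.Agent.S4492

open Cfsg.Agent.Blk
open Cfsg.Agent.Char hiding cj cj_mul cj_inv_cj cj_cj_inv

/-- Let G be a finite p-solvable group, N = O_{p'}(G) its largest normal subgroup of order prime to p, and θ an irreducible character of N invariant under conjugation by G; fix a maximal ideal M of the algebraic integers containing p. Then the irreducible characters of G lying over θ (those whose restriction to N contains θ) form a single p-block of G, and the defect groups of that block are exactly the Sylow p-subgroups of G. -/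
theorem result {G : Type*} [Group G] [Fintype G] (p : ℕ) [Fact p.Prime] (M : Ideal Cfsg.AlgInt) (hM : Cfsg.IsPModular p M) (hsolv : Cfsg.IsPSolvable p G) (N : Subgroup G) [hN : N.Normal] [Fintype N] (hNdef : N = Cfsg.pPrimeCore p G) (θ : Cfsg.IrrCharacter N) (hinv : ∀ (g : G) (n : N), (θ : N → ℂ) ⟨g * n * g⁻¹, hN.conj_mem n n.2 g⟩ = (θ : N → ℂ) n) : ∃ B : Set (Cfsg.IrrCharacter G), Cfsg.IsPBlock M B ∧ (∀ χ : Cfsg.IrrCharacter G, χ ∈ B ↔ Cfsg.classInner (fun n : N => (χ : G → ℂ) n) (θ : N → ℂ) ≠ 0) ∧ (∀ P : Sylow p G, Cfsg.IsDefectGroup p M B (P : Subgroup G)) ∧ ∀ D : Subgroup G, Cfsg.IsDefectGroup p M B D → ∃ P : Sylow p G, D = (P : Subgroup G) := by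
  haveI : PMod M p := ⟨hM⟩
  subst hNdef
  haveI := Fact.mk (PMod.prime M)
  obtain ⟨n, hn⟩ := exists_relIndex_pPrimePCore (G := G) (p := p)
  obtain ⟨Q⟩ : Nonempty (Sylow p (pPrimePCore p G)) := inferInstance
  have hQ := isSyl_map Q
  have h1 := hQ.sup_eq_of_relIndex pPrimeCore_le_pPrimePCore hn
  haveI : ((Q : Subgroup _).map (pPrimePCore p G).subtype ⊔ pPrimeCore p G).Normal := by
    rw [h1, pPrimePCore]; infer_instance
  have hc := Comp.isPConstrained_iff.2 ((Comp.pSol_top_of_isPSolvable hsolv).PLay_eq_bot le_rfl) Q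
  obtain ⟨h2, h3, -⟩ := principal_type (M := M) (θ := θ) Solv.not_dvd_card_pPrimeCore hQ.pg
    (h1.symm ▸ hc) (fun g k k' h => by
      rw [← hinv g k, show k' = ⟨g * k * g⁻¹, hN.conj_mem k k.2 g⟩ from Subtype.ext h])
    (fun χ => Iff.rfl)
  exact ⟨_, h2, fun _ => Iff.rfl, fun P => (h3 P).2 (isSyl_sylow P), fun D hD =>
    (isSyl_top_iff.1 ((h3 D).1 hD)).imp fun _ h => h.symm⟩

end Cfsg.Agent.S4492
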