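import Cfsg.Statements.S4497
import Cfsg.Agent.Lib.Block.SelfC

set_option autoImplicit false
open Cfsg

namespace Cfsg.Agent.S4497

open Cfsg.Agent.Blk
open Cfsg.Agent.Char hiding cj cj_mul cj_inv_cj cj_cj_inv

/-- Let the finite group G contain an element x of prime order p with C_G(x) = ⟨x⟩, let t be the number of conjugacy classes of elements of order p, and let S* = O_{p′}(G) be the largest normal subgroup of order prime to p. Then S* ≤ G′; if t ≠ p − 1 the quotient G′/S* is simple (in particular non-trivial); if t = p − 1 then G′ = S*. -/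
theorem result {G : Type*} [Group G] [Finite G] (p : ℕ) (hp : p.Prime) (x : G) (hx : orderOf x = p) (hC : Subgroup.centralizer ({x} : Set G) = Subgroup.zpowers x) (t : ℕ) (ht : Nat.card {C : ConjClasses G // ∃ g ∈ C.carrier, orderOf g = p} = t) : Cfsg.pPrimeCore p G ≤ commutator G ∧ (t ≠ p - 1 → ∀ h : ((Cfsg.pPrimeCore p G).subgroupOf (commutator G)).Normal, IsSimpleGroup (↥(commutator G) ⧸ (Cfsg.pPrimeCore p G).subgroupOf (commutator G))) ∧ (t = p - 1 → commutator G = Cfsg.pPrimeCore p G) := by
  haveI := Fact.mk hp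
  have h : SC p x := ⟨hp, hx, hC⟩
  have h0 := h.le_commutator (S := pPrimeCore p G) Solv.not_dvd_card_pPrimeCore
  refine ⟨h0, fun h1 hn => ?_, fun h1 => le_antisymm (Solv.le_pPrimeCore
    (hp.coprime_iff_not_dvd.2 ((h.t_iff ht).1 h1)).symm) h0⟩
  have h2 : p ∣ Nat.card (commutator G) := by_contra fun h' => h1 ((h.t_iff ht).2 h')
  have h3 := h.sub (h.le_of_dvd h2 (Subgroup.mem_zpowers x))
  have h4 : (pPrimeCore p G).subgroupOf (commutator G) = pPrimeCore p (commutator G) := by
    rw [← Subgroup.inf_subgroupOf_right, ← Solv.map_subtype_pPrimeCore, Subgroup.subgroupOf,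
      Subgroup.comap_map_eq_self_of_injective (Subgroup.subtype_injective _)]
  have h5 : ∀ L : Subgroup (commutator G), L.Normal → p ∣ Nat.card L → L = ⊤ := fun L _ hL => by
    have h6 := h3.commutator_le hL
    by_cases h7 : commutator (commutator G) = ⊤
    · exact top_le_iff.1 (h7 ▸ h6)
    have h8 := h.not_dvd_of_ne h2 h7
    have h9 := Subgroup.index_dvd_of_le h6
    rw [h3.index_commutator h8, Nat.dvd_prime hp] at h9
    refine h9.elim Subgroup.index_eq_one.1 fun h10 => (h8 ?_).elim
    rwa [Subgroup.eq_of_le_of_card_ge h6 (le_of_eq (Nat.eq_of_mul_eq_mul_right hp.pos ?_))]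
    exact (h10 ▸ L.card_mul_index).trans
      (h3.index_commutator h8 ▸ (commutator (commutator G)).card_mul_index).symm
  haveI : Nontrivial (commutator G ⧸ (pPrimeCore p G).subgroupOf (commutator G)) := by
    refine QuotientGroup.nontrivial_iff.2 fun e => Solv.not_dvd_card_pPrimeCore (p := p) (G := commutator G) ?_
    rw [← h4, e, Subgroup.card_top]; exact h2
  refine ⟨fun L hL => ?_⟩
  by_cases h6 : p ∣ Nat.card (L.comap (QuotientGroup.mk' _))
  · right
    rw [← Subgroup.map_comap_eq_self_of_surjective (QuotientGroup.mk'_surjective _) L,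
      h5 _ inferInstance h6, Subgroup.map_top_of_surjective _ (QuotientGroup.mk'_surjective _)]
  · left
    rw [← Subgroup.map_comap_eq_self_of_surjective (QuotientGroup.mk'_surjective _) L,
      Subgroup.map_eq_bot_iff, QuotientGroup.ker_mk']
    exact (Solv.le_pPrimeCore (hp.coprime_iff_not_dvd.2 h6).symm).trans h4.ge

end Cfsg.Agent.S4497
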