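import Cfsg.Statements.S4731
import Cfsg.Agent.Lib.Block.Res

set_option autoImplicit false
open Cfsg

namespace Cfsg.Agent.S4731

open Cfsg.Agent.Blk
open Cfsg.Agent.Char hiding cj cj_mul cj_inv_cj cj_cj_inv
open scoped ComplexConjugate

/-- Let p ≠ q be primes, M_p and M_q maximal ideals of the algebraic integers containing p and q respectively, and G a finite group with no element of order pq; let q^b be the q-part of the order of G. For a p-block B_p (relative to M_p), a q-block B_q (relative to M_q) and a p-singular element y, the sum of χ(1)χ(y) over the irreducible characters χ lying in both B_p and B_q is q^b times an algebraic integer. -/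
theorem result {G : Type*} [Group G] [Finite G] (p q : ℕ) [Fact p.Prime] [Fact q.Prime] (hpq : p ≠ q) (Mp Mq : Ideal Cfsg.AlgInt) (hMp : Cfsg.IsPModular p Mp) (hMq : Cfsg.IsPModular q Mq) (hno : ∀ g : G, orderOf g ≠ p * q) (b : ℕ) (hb : (Nat.card G).factorization q = b) (Bp : Set (Cfsg.IrrCharacter G)) (hBp : Cfsg.IsPBlock Mp Bp) (Bq : Set (Cfsg.IrrCharacter G)) (hBq : Cfsg.IsPBlock Mq Bq) (y : G) (hy : p ∣ orderOf y) : ∃ ω : Cfsg.AlgInt, ∑ᶠ χ ∈ Bp ∩ Bq, (Cfsg.charDegree (χ : G → ℂ) : ℂ) * (χ : G → ℂ) y = (q : ℂ) ^ b * (ω : ℂ) := by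
  classical
  haveI : PMod Mp p := ⟨hMp⟩
  haveI : PMod Mq q := ⟨hMq⟩
  have := Fintype.ofFinite G
  have hp := (Fact.out : p.Prime)
  have hq := (Fact.out : q.Prime)
  have h0 : ∀ g : G, q ∣ orderOf g → ¬ p ∣ orderOf g := fun g h1 h2 => by
    have h3 : p * q ∣ orderOf g :=
      ((Nat.coprime_primes hp hq).2 hpq).mul_dvd_of_dvd_of_dvd h2 h1
    exact hno _ (orderOf_pow_orderOf_div (orderOf_pos g).ne' h3)
  set φ : G → ℂ := ∑ χ ∈ fs Bp, χ.1 y • χ.1 with hφ
  have h1 : ∀ g : G, q ∣ orderOf g → φ g = 0 := fun g hg => by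
    have h := hBp.isUB.weak_orthogonality (x := g) (y := y⁻¹) (h0 g hg) (by rwa [orderOf_inv])
    rw [sum_ite_fs] at h
    rw [← h, hφ, Finset.sum_apply]
    exact Finset.sum_congr rfl fun χ _ => by
      rw [χ.2.isCharacter.apply_inv, Complex.conj_conj, Pi.smul_apply, smul_eq_mul, mul_comm]
  have h2 : blockPart Bq φ = ∑ χ ∈ fs (Bp ∩ Bq), χ.1 y • χ.1 := by
    rw [hφ, blockPart_sum, show fs (Bp ∩ Bq) = (fs Bp).filter (· ∈ Bq) by ext; simp,
      Finset.sum_filter]
    refine Finset.sum_congr rfl fun χ _ => ?_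
    rw [blockPart_smul]
    split_ifs with h
    · rw [blockPart_irr_of_mem h]
    · rw [blockPart_irr_of_notMem h, smul_zero]
  obtain ⟨Q'⟩ : Nonempty (Sylow q G) := inferInstance
  obtain ⟨Q, hQ⟩ : ∃ Q : Subgroup G, Q = Q' := ⟨_, rfl⟩
  have := Fintype.ofFinite Q
  have h3 : ∀ x : Q, x ≠ 1 → blockPart Bq φ x = 0 := fun x hx => by
    have hx' := pelt_of_mem (hQ ▸ Q'.isPGroup' : IsPGroup q Q) x.2
    refine hBq.isUB.blockPart_eq_zero (x := (x : G)) (fun u z hz hc => h1 u ?_) (isPPart_self hx')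
      (IsConj.refl _)
    by_contra h
    rw [hz.eq_one_iff.2 h, isConj_one_left] at hc
    exact hx (Subtype.ext hc)
  have h4 : IsIntegral ℤ (classInner (fun x : Q => blockPart Bq φ x) fun _ => 1) := by
    have : (fun x : Q => blockPart Bq φ x) =
        ∑ χ ∈ fs (Bp ∩ Bq), χ.1 y • fun x : Q => χ.1 x := by
      ext x; simp [h2]
    rw [this, classInner_sum_left]
    refine IsIntegral.sum _ fun χ _ => ?_
    obtain ⟨n, hn⟩ := (χ.2.isCharacter.res Q).classInner_eq_nat isCharacter_one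
    rw [classInner_smul_left, hn]
    exact (χ.2.isCharacter.isIntegral y).mul (isIntegral_natCast n)
  refine ⟨⟨_, h4⟩, ?_⟩
  change _ = _ * classInner _ _
  have h5 : Nat.card Q = q ^ (Nat.card G).factorization q := hQ ▸ Q'.card_eq_multiplicity
  rw [classInner_one_right, Finset.sum_eq_single (1 : Q) (fun x _ hx => h3 x hx) (by simp),
    ← hb, ← Nat.cast_pow, ← h5, ← mul_assoc,
    mul_inv_cancel₀ (card_ne_zero' Q), one_mul, h2, finsum_fs, Finset.sum_apply]
  exact Finset.sum_congr rfl fun χ _ => by simp [cast_deg, mul_comm]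

end Cfsg.Agent.S4731
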