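import Cfsg.Statements.S4498
import Cfsg.Agent.Lib.Block.Res
import Cfsg.Agent.S4731

set_option autoImplicit false
open Cfsg

namespace Cfsg.Agent.S4498

open Cfsg.Agent.Blk
open Cfsg.Agent.Char hiding cj cj_mul cj_inv_cj cj_cj_inv

/-- Let p and q be distinct primes dividing the order of the finite group G, and suppose G has no element of order p·q. Fix maximal ideals M_p over p and M_q over q of the algebraic integers. Then the principal p-block and the principal q-block of G have a non-principal irreducible character in common. -/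
theorem result {G : Type*} [Group G] [Finite G] (p q : ℕ) [Fact p.Prime] [Fact q.Prime] (hpq : p ≠ q) (hp : p ∣ Nat.card G) (hq : q ∣ Nat.card G) (hno : ∀ g : G, orderOf g ≠ p * q) (Mp Mq : Ideal Cfsg.AlgInt) (hMp : Cfsg.IsPModular p Mp) (hMq : Cfsg.IsPModular q Mq) : ∃ χ : Cfsg.IrrCharacter G, (χ : G → ℂ) ≠ (fun _ => 1) ∧ χ ∈ Cfsg.principalBlock Mp G ∧ χ ∈ Cfsg.principalBlock Mq G := by
  haveI : PMod Mp p := ⟨hMp⟩
  haveI : PMod Mq q := ⟨hMq⟩
  by_contra h
  push Not at h
  obtain ⟨y, hy⟩ := exists_prime_orderOf_dvd_card' p hp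
  obtain ⟨ω, hω⟩ := S4731.result p q hpq Mp Mq hMp hMq hno _ rfl _ isPBlock_principal _
    isPBlock_principal y (hy ▸ dvd_rfl)
  have h1 : principalBlock Mp G ∩ principalBlock Mq G = {irrOne G} := by
    refine Set.eq_singleton_iff_unique_mem.2 ⟨⟨irrOne_mem_principal, irrOne_mem_principal⟩,
      fun χ hχ => by_contra fun h' => h χ (fun e => h' (Subtype.ext e)) hχ.1 hχ.2⟩
  rw [h1, finsum_mem_singleton, charDegree_irrOne, irrOne_apply, Nat.cast_one, mul_one] at hω
  refine not_LI_one (M := Mq) (hω ▸ LI_mul_right ?_ (coe_mem_O Mq ω))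
  rw [← Nat.cast_pow, LI_natCast_iff]
  exact dvd_pow_self _ ((Fact.out : q.Prime).factorization_pos_of_dvd Nat.card_pos.ne' hq).ne'

end Cfsg.Agent.S4498
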