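import Cfsg.Statements.S4500
import Cfsg.Agent.Lib.Block.Res
import Cfsg.Agent.Lib.Block.Lin
import Cfsg.Agent.Lib.Solv.Fact

set_option autoImplicit false
open Cfsg

namespace Cfsg.Agent.S4500

open Cfsg.Agent.Blk
open Cfsg.Agent.Char hiding cj cj_mul cj_inv_cj cj_cj_inv
theorem aux {G : Type*} [Group G] [Finite G] [Nontrivial G] (p q r a b c : ℕ) (hp : p.Prime) (hq : q.Prime) (hr : r.Prime) (hpq : p ≠ q) (hpr : p ≠ r) (ha : a ≤ 2) (hG : Nat.card G = p ^ a * q ^ b * r ^ c) : (∃ χ : IrrCharacter G, (χ : G → ℂ) ≠ (fun _ => 1) ∧ ∃ k : ℕ, charDegree (χ : G → ℂ) = q ^ k) := by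
  classical
  haveI := Fact.mk hp
  haveI := Fact.mk hr
  rcases Nat.eq_zero_or_pos a with rfl | h0
  · haveI := Solv.isSolvable_of_card_primeFactors_le_two (G := G) (by
      refine (Finset.card_le_card (t := {q, r}) fun s hs => ?_).trans Finset.card_le_two
      obtain ⟨h1, h2, -⟩ := Nat.mem_primeFactors.1 hs
      rw [hG, pow_zero, one_mul] at h2
      rcases h1.dvd_mul.1 h2 with h | h
      · simp [(Nat.prime_dvd_prime_iff_eq h1 hq).1 (h1.dvd_of_dvd_pow h)]
      · simp [(Nat.prime_dvd_prime_iff_eq h1 hr).1 (h1.dvd_of_dvd_pow h)])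
    have h1 := card_annih (le_refl (commutator G))
    have h2 : annih (commutator G) ≠ ⊥ := fun h => (IsSolvable.commutator_lt_top_of_nontrivial G).ne
      (Subgroup.index_eq_one.1 (by simp [← h1, h]))
    obtain ⟨l, -, hl⟩ := (Subgroup.bot_or_exists_ne_one _).resolve_left h2
    exact ⟨ilc l, fun h => hl (lc_injective h), 0, by simp [charDegree_ilc]⟩
  obtain ⟨M, hM⟩ := exists_pmod p
  obtain ⟨M', hM'⟩ := exists_pmod r
  have := Fintype.ofFinite G
  obtain ⟨u, hu⟩ := exists_prime_orderOf_dvd_card' (G := G) p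
    (hG ▸ ((dvd_pow_self p h0.ne').mul_right _).mul_right _)
  have h1 := (isPBlock_principal (M := M) (G := G)).isUB.sum_degree_mul_eq_zero (y := u) hu.symm.dvd
  rw [← Finset.add_sum_erase _ _ (mem_fs.2 irrOne_mem_principal)] at h1
  by_contra h2
  push Not at h2
  have h3 : MemLocalIdeal M' (∑ χ ∈ (fs (principalBlock M G)).erase (irrOne G), χ.1 1 * χ.1 u) := by
    refine LI_sum _ _ fun χ hχ => LI_mul_right ?_ (irr_mem_O M' χ u)
    rw [← cast_deg, LI_natCast_iff]
    by_contra h3
    have h4 := mem_fs.1 (Finset.mem_of_mem_erase hχ)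
    have h5 : ¬ p ∣ charDegree χ.1 := (height_principal_iff h4).1
      (isPBlock_principal.height_eq_zero_of_defect_le h4 (by
        rw [defect_principal, hG, Nat.factorization_mul (mul_ne_zero (pow_ne_zero _ hp.ne_zero)
          (pow_ne_zero _ hq.ne_zero)) (pow_ne_zero _ hr.ne_zero), Nat.factorization_mul
          (pow_ne_zero _ hp.ne_zero) (pow_ne_zero _ hq.ne_zero)]
        simp [hp.factorization_pow, hq.factorization_pow, hr.factorization_pow, hpq, hpr, ha]))
    have h6 := deg_dvd_card χ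
    rw [hG] at h6
    have h7 := (((hp.coprime_iff_not_dvd.2 h5).symm.pow_right a).dvd_of_dvd_mul_left
      (((hr.coprime_iff_not_dvd.2 h3).symm.pow_right c).dvd_of_dvd_mul_right h6))
    obtain ⟨k, -, hk⟩ := (Nat.dvd_prime_pow hq).1 h7
    exact h2 χ (fun h => Finset.ne_of_mem_erase hχ (Subtype.ext h)) k hk
  rw [← LI_neg_iff, ← eq_neg_of_add_eq_zero_left h1] at h3
  exact not_LI_one (by simpa using h3)

/-- Let G be a non-trivial finite group of order p^a · q^b · r^c with p, q, r distinct primes and a ≤ 2. Then G has a non-principal irreducible character whose degree is a power of q, and a non-principal irreducible character whose degree is a power of r; the power may be the zeroth, so a non-principal linear character serves for both. -/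
theorem result {G : Type*} [Group G] [Finite G] [Nontrivial G] (p q r a b c : ℕ) (hp : p.Prime) (hq : q.Prime) (hr : r.Prime) (hpq : p ≠ q) (hpr : p ≠ r) (hqr : q ≠ r) (ha : a ≤ 2) (hG : Nat.card G = p ^ a * q ^ b * r ^ c) : (∃ χ : Cfsg.IrrCharacter G, (χ : G → ℂ) ≠ (fun _ => 1) ∧ ∃ k : ℕ, Cfsg.charDegree (χ : G → ℂ) = q ^ k) ∧ ∃ χ : Cfsg.IrrCharacter G, (χ : G → ℂ) ≠ (fun _ => 1) ∧ ∃ k : ℕ, Cfsg.charDegree (χ : G → ℂ) = r ^ k := by
  exact ⟨aux p q r a b c hp hq hr hpq hpr ha hG,
    aux p r q a c b hp hr hq hpr hpq ha (by rw [hG]; ring)⟩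

end Cfsg.Agent.S4500
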