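import Cfsg.Statements.S4502
import Cfsg.Agent.Lib.Block.Cnt

set_option autoImplicit false
open Cfsg

namespace Cfsg.Agent.S4502

open Cfsg.Agent.Blk
open Cfsg.Agent.Char hiding cj cj_mul cj_inv_cj cj_cj_inv

/-- Let G be a finite group whose order is divisible by the prime p exactly once, and let P be a Sylow p-subgroup. Then the number of irreducible characters of G of degree not divisible by p equals the number of conjugacy classes of the normalizer of P. -/
theorem result {G : Type*} [Group G] [Finite G] (p : ℕ) [Fact p.Prime] (hdiv : p ∣ Nat.card G) (hsq : ¬ p ^ 2 ∣ Nat.card G) (P : Sylow p G) : Nat.card {χ : Cfsg.IrrCharacter G // ¬ p ∣ Cfsg.charDegree (χ : G → ℂ)} = Nat.card (ConjClasses (Subgroup.normalizer ((P : Subgroup G) : Set G))) := by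
  classical
  have := Fintype.ofFinite G
  have hp := (Fact.out : p.Prime)
  obtain ⟨M, hM⟩ := exists_pmod p
  haveI := normal_subgroupOf_No (P : Subgroup G)
  have hS := isSyl_sylow P
  have hc : Nat.card (P : Subgroup G) = p := by
    have h1 := (hp.pow_dvd_iff_le_factorization (k := 2) (Nat.card_pos (α := G)).ne').not.1 hsq
    have h2 := hp.factorization_pos_of_dvd (Nat.card_pos (α := G)).ne' hdiv
    rw [P.card_eq_multiplicity, show (Nat.card G).factorization p = 1 by omega, pow_one]
  have hcyc := isCyclic_of_prime_card hc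
  have h1 : (P : Subgroup G) ≠ ⊥ := ne_bot_of_card le_rfl (hc.trans (pow_one p).symm)
  have h2 : ∀ χ : IrrCharacter G, ¬ p ∣ charDegree χ.1 ↔ IsDef p ⊤ (blk M χ) P := fun χ => by
    have hB := isPBlock_blockOf (M := M) χ
    rw [← bar_blockOf]
    refine ⟨fun h => hB.isDef_of_mnu (mnu_eq_zero (mem_blockOf_self χ) h) hS, fun h => ?_⟩
    refine (height_eq_zero_iff_of_mnu (mem_blockOf_self χ) (hB.mnu_eq_zero_of_isDef hS h)).1
      (hB.height_eq_zero_of_defect_le (mem_blockOf_self χ) ?_)
    have := hB.card_isDef h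
    rw [hc] at this
    rw [← (Nat.pow_right_injective hp.two_le ((pow_one p).trans this))]
    norm_num
  have hA : IsUB M {χ : IrrCharacter G | ¬ p ∣ charDegree χ.1} := fun χ hχ ψ h =>
    (h2 ψ).2 (h ▸ (h2 χ).1 hχ)
  rw [← card_irr_eq_card_conjClasses, ← Nat.card_congr (Equiv.Set.univ (IrrCharacter (No (P : Subgroup G)))),
    card_eq_sum_blocks (M := M) isUB_univ]
  refine (card_eq_sum_blocks hA).trans (sum_brauer (M := M) P.isPGroup' (fun B => ?_) (fun b => ?_)
    fun b B hb hB h => card_eq_of_cyclic le_rfl hcyc h1 hB hb h)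
  · rw [hA.mem_blocksIn]
    refine and_congr_right fun hB => ?_
    rw [hB.isDefectGroup_iff]
    obtain ⟨χ, hχ⟩ := hB.nonempty
    exact ⟨fun h => hB.blk_eq hχ ▸ (h2 χ).1 (h hχ), fun h ψ hψ => (h2 ψ).2 ((hB.blk_eq hψ).symm ▸ h)⟩
  · rw [isUB_univ.mem_blocksIn]
    exact and_congr_right fun hb => ⟨fun _ => hb.isDefectGroup_iff.2
      (hb.isDef_of_normal_syl (hS.subgroupOf_top _ (le_No _))), fun _ => Set.subset_univ _⟩

end Cfsg.Agent.S4502
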