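import Cfsg.Statements.S4503
import Cfsg.Agent.Lib.Block.Br42

set_option autoImplicit false
open Cfsg

namespace Cfsg.Agent.S4503

open Cfsg.Agent.Blk
open Cfsg.Agent.Char hiding cj cj_mul cj_inv_cj cj_cj_inv

/-- Let G be a finite group whose order is divisible by the prime p exactly once and which has no normal subgroup of order p. Then every faithful character χ of G has degree at least (p − 1)/2: 2·χ(1) + 1 ≥ p. -/
theorem result {G : Type*} [Group G] [Finite G] (p : ℕ) (hp : p.Prime) (hdiv : p ∣ Nat.card G) (hsq : ¬ p ^ 2 ∣ Nat.card G) (hnn : ∀ H : Subgroup G, H.Normal → Nat.card H ≠ p) (χ : G → ℂ) (hχ : Cfsg.IsCharacter G χ) (hfaith : ∀ g : G, χ g = χ 1 → g = 1) : p ≤ 2 * Cfsg.charDegree χ + 1 := by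
  haveI : Fact p.Prime := ⟨hp⟩
  obtain ⟨M, hM⟩ := exists_pmod p
  obtain ⟨P⟩ : Nonempty (Sylow p G) := inferInstance
  have h1 : Nat.card P = p := by
    rw [P.card_eq_multiplicity, show (Nat.card G).factorization p = 1 from le_antisymm
      (Nat.lt_succ_iff.1 (not_le.1 (mt (hp.pow_dvd_iff_le_factorization Nat.card_pos.ne').2 hsq)))
      (hp.factorization_pos_of_dvd Nat.card_pos.ne' hdiv), pow_one]
  by_contra h
  refine hnn P (normal_of_faithful (c := p) (n := charDegree χ) (fun G _ _ P h2 _ h3 h4 ψ h5 =>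
    brauer42 M h2 h3 h4 (by omega)) G P (isSyl_sylow P) (uc_of_card h1) h1 hχ hfaith le_rfl) h1

end Cfsg.Agent.S4503
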