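import Cfsg.Statements.S4506
import Cfsg.Agent.Lib.Block.Prime

set_option autoImplicit false
open Cfsg

namespace Cfsg.Agent.S4506

open Cfsg.Agent.Blk
open Cfsg.Agent.Char hiding cj cj_mul cj_inv_cj cj_cj_inv

/-- Let G be a finite group, p a prime, p^a the p-part of the order of G and g′ its p′-part. Call two irreducible characters p-conjugate when one is obtained from the other by applying a field automorphism of ℂ that fixes the g′-th roots of unity, and let r be the number of characters p-conjugate to the irreducible character χ (χ included). Then the exponent of p in r·χ(1) is at most a; and if p^a divides r·χ(1) then p^a already divides χ(1). -/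
theorem result {G : Type*} [Group G] [Finite G] (p : ℕ) (hp : p.Prime) (χ : Cfsg.IrrCharacter G) (r : ℕ) (hr : Nat.card {ψ : Cfsg.IrrCharacter G // ∃ σ : ℂ ≃+* ℂ, σ (Complex.exp (2 * Real.pi * Complex.I / ((Nat.card G / p ^ (Nat.card G).factorization p) : ℕ))) = Complex.exp (2 * Real.pi * Complex.I / ((Nat.card G / p ^ (Nat.card G).factorization p) : ℕ)) ∧ (ψ : G → ℂ) = fun g => σ ((χ : G → ℂ) g)} = r) : (r * Cfsg.charDegree (χ : G → ℂ)).factorization p ≤ (Nat.card G).factorization p ∧ (p ^ (Nat.card G).factorization p ∣ r * Cfsg.charDegree (χ : G → ℂ) → p ^ (Nat.card G).factorization p ∣ Cfsg.charDegree (χ : G → ℂ)) := by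
  classical
  haveI := Fact.mk hp
  have := Fintype.ofFinite G
  obtain ⟨M, hM⟩ := exists_pmod p
  set B := blockOf M χ.1
  have hB : IsPBlock M B := isPBlock_blockOf χ
  have hχ : χ ∈ B := mem_blockOf_self χ
  set S : Set (IrrCharacter G) := {ψ | ∃ σ : ℂ ≃+* ℂ, PFix G p σ ∧ ψ.1 = fun g => σ (χ.1 g)}
  have hr' : Nat.card S = r := hr
  have h1 : ∀ ψ : S, ∃ k : ℕ, k.Coprime (Nat.card G) ∧ (∀ g : G, ¬ p ∣ orderOf g → g ^ k = g) ∧
      ψ.1.1 = fun g => χ.1 (g ^ k) := by
    rintro ⟨ψ, σ, h1, h2⟩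
    obtain ⟨k, h3, h4, h5⟩ := h1.exists_pow
    exact ⟨k, h3, h4, h2.trans (h5 χ)⟩
  choose k hk1 hk2 hk3 using h1
  have h2 : ∀ ψ ∈ S, reg p ψ.1 = reg p χ.1 := fun ψ hψ => by
    rw [hk3 ⟨ψ, hψ⟩, reg_comp_pow (hk2 _)]
  have h3 : ∀ ψ ∈ S, ψ ∈ B := fun ψ hψ => hB.mem_of_reg_eq hχ (h2 ψ hψ)
  have hχS : χ ∈ S := ⟨RingEquiv.refl ℂ, rfl, rfl⟩
  have hr0 : r ≠ 0 := by
    rw [← hr']
    have : Nonempty S := ⟨⟨χ, hχS⟩⟩
    exact Nat.card_pos.ne'
  have h4 : ∀ ψ ∈ S, am p B χ ψ = am p B χ χ := fun ψ hψ => by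
    refine Int.cast_injective (α := ℂ) ?_
    rw [am_cast hχ, am_cast hχ, classInner_reg_comm, h2 ψ hψ, classInner_reg_comm]
  have h5 : am p B χ χ ≠ 0 := fun h => by
    have := am_cast (p := p) hχ χ
    rw [h, Int.cast_zero] at this
    exact mul_ne_zero (pow_ne_zero _ (p_ne_zero M)) (classInner_reg_self_ne_zero χ) this.symm
  have h6 := hB.sum_am_mul hχ hχ
  rw [← Finset.sum_sdiff (s₁ := fs S) fun ψ hψ => mem_fs.2 (h3 ψ (mem_fs.1 hψ)),
    Finset.sum_congr (s₁ := fs S) rfl fun ψ hψ => by rw [h4 ψ (mem_fs.1 hψ)], Finset.sum_const,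
    ← card_fs, hr', nsmul_eq_mul] at h6
  have h7 : 0 ≤ ∑ ψ ∈ fs B \ fs S, am p B χ ψ * am p B χ ψ :=
    Finset.sum_nonneg fun _ _ => mul_self_nonneg _
  have hq : (0 : ℤ) < p ^ blockDefect p B := pow_pos (by exact_mod_cast hp.pos) _
  have hr1 : (0 : ℤ) < r := by exact_mod_cast Nat.pos_of_ne_zero hr0
  have h8 : 0 < am p B χ χ := by
    have := mul_pos hr1 (mul_self_pos.2 h5)
    exact (mul_pos_iff_of_pos_left hq).1 (by linarith)
  have h9 : r * am p B χ χ ≤ p ^ blockDefect p B := le_of_mul_le_mul_right (by linarith) h8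
  have h10 := Int.le_of_dvd h8 (pow_height_dvd_am hχ χ)
  have h11 : r * p ^ blockHeight p B χ ≤ p ^ blockDefect p B := by
    have : (r : ℤ) * p ^ blockHeight p B χ ≤ p ^ blockDefect p B := by nlinarith
    exact_mod_cast this
  have h12 : p ^ r.factorization p ≤ r := Nat.ordProj_le p hr0
  have h13 : r.factorization p + blockHeight p B χ ≤ blockDefect p B := by
    refine (Nat.pow_le_pow_iff_right hp.one_lt).1 (le_trans ?_ h11)
    rw [pow_add]
    exact Nat.mul_le_mul_right _ h12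
  have h14 := defect_eq_add (p := p) hχ
  have h15 := nu_le p χ
  have h16 : (r * charDegree χ.1).factorization p = r.factorization p + nu p χ := by
    rw [Nat.factorization_mul hr0 (charDegree_ne_zero χ)]; rfl
  refine ⟨by omega, fun h => ?_⟩
  rw [hp.pow_dvd_iff_le_factorization (mul_ne_zero hr0 (charDegree_ne_zero χ)), h16] at h
  rw [hp.pow_dvd_iff_le_factorization (charDegree_ne_zero χ)]
  change _ ≤ nu p χ
  by_contra h0
  have h17 : p ^ blockDefect p B ≤ r * p ^ blockHeight p B χ := by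
    refine le_trans ?_ (Nat.mul_le_mul_right _ h12)
    rw [← pow_add]
    exact Nat.pow_le_pow_right hp.pos (by omega)
  have h18 : (p : ℤ) ^ blockDefect p B ≤ r * p ^ blockHeight p B χ := by exact_mod_cast h17
  have h19 : ∑ ψ ∈ fs B \ fs S, am p B χ ψ * am p B χ ψ = 0 := by
    have := mul_le_mul_of_nonneg_right (h18.trans (mul_le_mul_of_nonneg_left h10 hr1.le)) h8.le
    rw [mul_assoc] at this
    linarith
  obtain ⟨ξ, hξ, h20⟩ := exists_height_zero p hB.nonempty
  have h21 : ξ ∈ S := by_contra fun h' => hB.am_ne_zero hχ hξ h20 (mul_self_eq_zero.1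
    ((Finset.sum_eq_zero_iff_of_nonneg fun _ _ => mul_self_nonneg _).1 h19 ξ (by simp [hξ, h'])))
  have h22 : blockHeight p B χ = 0 := by
    rw [← h20]
    exact height_congr (by rw [hk3 ⟨ξ, h21⟩]; simp)
  rw [h22, pow_zero, mul_one] at h17
  have hd : blockDefect p B ≠ 0 := by omega
  have hG : p ∣ Nat.card G := Nat.dvd_of_factorization_pos (by omega)
  have hk4 : ∀ ψ, (k ψ).Coprime (p ^ blockDefect p B) := fun ψ =>
    ((hk1 ψ).coprime_dvd_right hG).pow_right _
  have h23 : ∀ ψ φ : S, k ψ ≡ k φ [MOD p ^ blockDefect p B] → ∀ g, χ.1 (g ^ k ψ) ≠ 0 →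
      g ^ k ψ = g ^ k φ := fun ψ φ h g hg => by
    obtain ⟨x, hx⟩ := exists_isPPart p g
    have h24 := hx.zpow (k ψ)
    rw [zpow_natCast, zpow_natCast] at h24
    obtain ⟨D, hD, h25⟩ := hB.exists_isDef_mem hχ h24 hg
    have h26 : orderOf (x ^ k ψ) ∣ p ^ blockDefect p B := by
      rw [← hB.card_isDef hD]; exact Subgroup.orderOf_dvd_natCard D h25
    rw [((hk1 ψ).coprime_dvd_right (orderOf_dvd_natCard x)).symm.orderOf_pow] at h26
    have h27 : Commute x (x⁻¹ * g) := (Commute.refl x).inv_right.mul_right hx.commute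
    rw [← mul_inv_cancel_left x g, h27.mul_pow, h27.mul_pow, hk2 _ _ hx.preg, hk2 _ _ hx.preg,
      pow_eq_pow_iff_modEq.2 (h.of_dvd h26)]
  haveI : NeZero (p ^ blockDefect p B) := ⟨pow_ne_zero _ hp.ne_zero⟩
  have h24 := Nat.card_le_card_of_injective (fun ψ : S => ZMod.unitOfCoprime (k ψ) (hk4 ψ))
    fun ψ φ h => by
      have h25 : k ψ ≡ k φ [MOD p ^ blockDefect p B] :=
        (ZMod.natCast_eq_natCast_iff _ _ _).1 (congrArg Units.val h)
      refine Subtype.ext (Subtype.ext ?_)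
      rw [hk3, hk3]
      funext g
      by_cases h26 : χ.1 (g ^ k ψ) = 0
      · by_cases h27 : χ.1 (g ^ k φ) = 0
        · rw [h26, h27]
        · rw [h23 φ ψ h25.symm g h27]
      · rw [h23 ψ φ h25 g h26]
  rw [hr', Nat.card_eq_fintype_card, ZMod.card_units_eq_totient] at h24
  have := Nat.totient_lt _ (Nat.one_lt_pow hd hp.one_lt)
  omega

end Cfsg.Agent.S4506
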