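import Cfsg.Statements.S4507
import Cfsg.Agent.Lib.Block.Prime

set_option autoImplicit false
open Cfsg

namespace Cfsg.Agent.S4507

open Cfsg.Agent.Blk
open Cfsg.Agent.Char hiding cj cj_mul cj_inv_cj cj_cj_inv
open scoped Classical

/-- Let G be a finite group whose order g is divisible by the prime p exactly once, g′ = g/p, and fix a maximal ideal M of the algebraic integers containing p. Call two irreducible characters p-conjugate when a field automorphism of ℂ fixing the g′-th roots of unity carries one to the other. Let B be a p-block of positive defect (its defect group is a Sylow p-subgroup). Then B contains a subset Y (the exceptional family) such that: Y is a full p-conjugacy class (its members are pairwise p-conjugate and every p-conjugate of a member of Y lies in Y); every member of B outside Y is p-conjugate only to itself; the size t of Y divides p − 1 and B has exactly t + (p − 1)/t members; and there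 are signs δ_χ = ±1 (χ ∈ B) such that for every p-regular element x and every θ ∈ Y, Σ_{χ ∈ B ∖ Y} δ_χ χ(x) + δ_θ θ(x) = 0. -/
theorem result {G : Type*} [Group G] [Finite G] (p : ℕ) [Fact p.Prime] (M : Ideal Cfsg.AlgInt) (hM : Cfsg.IsPModular p M) (hdiv : p ∣ Nat.card G) (hsq : ¬ p ^ 2 ∣ Nat.card G) (B : Set (Cfsg.IrrCharacter G)) (hB : Cfsg.IsPBlock M B) (hd : 0 < Cfsg.blockDefect p B) : ∃ Y : Set (Cfsg.IrrCharacter G), Y ⊆ B ∧ Y.Nonempty ∧ (∀ θ ∈ Y, ∀ ψ : Cfsg.IrrCharacter G, (∃ σ : ℂ ≃+* ℂ, σ (Complex.exp (2 * Real.pi * Complex.I / ((Nat.card G / p ^ (Nat.card G).factorization p) : ℕ))) = Complex.exp (2 * Real.pi * Complex.I / ((Nat.card G / p ^ (Nat.card G).factorization p) : ℕ)) ∧ (ψ : G → ℂ) = fun g => σ ((θ : G → ℂ) g)) ↔ ψ ∈ Y) ∧ (∀ χ ∈ B, χ ∉ Y → ∀ ψ : Cfsg.IrrCharacter G, (∃ σ : ℂ ≃+* ℂ, σ (Complex.exp (2 * Real.pi * Complex.I / ((Nat.card G / p ^ (Nat.card G).factorization p) : ℕ))) = Complex.exp (2 *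 Real.pi * Complex.I / ((Nat.card G / p ^ (Nat.card G).factorization p) : ℕ)) ∧ (ψ : G → ℂ) = fun g => σ ((χ : G → ℂ) g)) → ψ = χ) ∧ Nat.card Y ∣ p - 1 ∧ Nat.card B = Nat.card Y + (p - 1) / Nat.card Y ∧ ∃ δ : Cfsg.IrrCharacter G → ℤ, (∀ χ ∈ B, δ χ = 1 ∨ δ χ = -1) ∧ ∀ x : G, ¬ p ∣ orderOf x → ∀ θ ∈ Y, (∑ᶠ χ ∈ B \ Y, (δ χ : ℂ) * (χ : G → ℂ) x) + (δ θ : ℂ) * (θ : G → ℂ) x = 0 := by
  haveI : PMod M p := ⟨hM⟩
  obtain ⟨P, hP⟩ := hB.exists_isDefectGroup (p := p)
  have := Fintype.ofFinite P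
  have hp : p.Prime := Fact.out
  have h1 : Nat.card P = p := by
    have h2 := hB.card_defectGroup hP
    have h3 := P.card_subgroup_dvd_card
    rw [h2] at h3 ⊢
    rw [show blockDefect p B = 1 from le_antisymm (not_lt.1 fun h => hsq ((pow_dvd_pow p h).trans h3)) hd, pow_one]
  obtain ⟨e, hm⟩ := hB.exists_mp (hB.isDefectGroup_iff.1 hP)
  have hU : UC P := uc_of_card h1
  obtain ⟨δ, ζ, c, h, -⟩ := hm.exists_dd_prime h1 hB.nonempty.choose_spec
  obtain ⟨u, hu⟩ := exists_ne_one_of_ne_bot h.ne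
  obtain ⟨l₀, hl₀⟩ := exists_lc_ne_one h.comm' hu
  have k1 := h.exc.card_exc h.exd
  rw [h1] at k1
  have k2 : p - 1 = (excSet ζ).card * Nat.card (autE P e) := by rw [mul_comm]; omega
  refine ⟨excSet ζ, fun χ hχ => mem_fs.1 (h.exc.subset hχ), ⟨_, EXC.mem_exc ζ hl₀⟩,
    fun θ hθ ψ => ?_, fun χ hχ h2 ψ ⟨σ, hσ, h3⟩ => ?_, by rw [card_coe_fs, k2]; exact dvd_mul_right _ _,
    by rw [card_coe_fs, card_fs, ← h.exc.card_add, h.card, k2,
      Nat.mul_div_cancel_left _ (EXC.card_pos ζ hl₀), add_comm],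
    fun χ => if χ ∈ excSet ζ then -δ else c χ, fun χ hχ => ?_, fun x hx θ hθ => ?_⟩
  · obtain ⟨l, hl, rfl⟩ := mem_excSet.1 hθ
    refine ⟨fun ⟨σ, hσ, h3⟩ => ?_, fun hψ => ?_⟩
    · obtain ⟨k, h4, h5, h6⟩ := PFix.exists_pow hσ
      obtain ⟨h7, rfl⟩ := hm.gal_exc hU h.ne h.exc h4 h5 hl (h3.trans (h6 _))
      exact EXC.mem_exc ζ h7
    · obtain ⟨m, hm1, rfl⟩ := mem_excSet.1 hψ
      obtain ⟨j, hj, rfl⟩ := exists_pow_eq_of_card (W := P →* ℂˣ) ((card_lc h.comm').trans h1) hl hm1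
      obtain ⟨σ, h3, k, h4, h5, h6, h7⟩ := exists_pfix (G := G) hj
      refine ⟨σ, h3, ?_⟩
      have h8 := (hm.gal_exc hU h.ne h.exc h4 h5 hl (h6 _)).2
      have h9 : l ^ k = l ^ j := (pow_eq_pow_iff_modEq (G := P →* ℂˣ)).2 (h7.of_dvd
        ((orderOf_dvd_of_pow_eq_one (lc_pow_card l)).trans (h1 ▸ dvd_pow_self p
          (hp.factorization_pos_of_dvd Nat.card_pos.ne' hdiv).ne')))
      rw [← h9, ← h8]; rfl
  · obtain ⟨k, h4, h5, h6⟩ := PFix.exists_pow hσ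
    exact hm.gal_nexc hU h.exc h4 h5 hχ h2 (h3.trans (h6 _))
  · beta_reduce
    split_ifs with h2
    · rcases h.exc.sign with h3 | h3 <;> simp [h3]
    · exact h.sgn χ hχ h2
  · have h2 : B \ (excSet ζ : Set _) = ((fs B \ excSet ζ : Finset _) : Set _) := by simp [coe_fs]
    beta_reduce
    rw [h2, finsum_mem_coe_finset, if_pos (by exact hθ), Finset.sum_congr rfl fun χ hχ => by
      rw [if_neg (Finset.mem_sdiff.1 hχ).2], ← h.apply_rel hθ hx]
    push_cast; ring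

end Cfsg.Agent.S4507
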