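import Cfsg.Statements.S4508
import Cfsg.Agent.Lib.Block.SelfC

set_option autoImplicit false
open Cfsg

namespace Cfsg.Agent.S4508

open Cfsg.Agent.Blk
open Cfsg.Agent.Char hiding cj cj_mul cj_inv_cj cj_cj_inv

/-- Let the finite group G contain an element x of prime order p with C_G(x) = ⟨x⟩, and let t be the number of conjugacy classes of elements of order p. If G has an irreducible character of degree p − 1, then t is even or the commutator subgroup has even index. -/
theorem result {G : Type*} [Group G] [Finite G] (p : ℕ) (hp : p.Prime) (x : G) (hx : orderOf x = p) (hC : Subgroup.centralizer ({x} : Set G) = Subgroup.zpowers x) (t : ℕ) (ht : Nat.card {C : ConjClasses G // ∃ g ∈ C.carrier, orderOf g = p} = t) (χ : Cfsg.IrrCharacter G) (hχ : Cfsg.charDegree (χ : G → ℂ) + 1 = p) : Even t ∨ Even (commutator G).index := by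
  classical
  haveI := Fact.mk hp
  have h : SC p x := ⟨hp, hx, hC⟩
  obtain ⟨M, hM⟩ := exists_pmod p
  by_contra h0
  rw [not_or, Nat.not_even_iff_odd, Nat.not_even_iff_odd] at h0
  have h2 := hp.two_le
  have h1 : t ≠ p - 1 := fun e => by
    have h3 := h0.2
    rw [h.index_commutator ((h.t_iff ht).1 e)] at h3
    obtain ⟨a, ha⟩ := h0.1
    obtain ⟨b, hb⟩ := h3
    omega
  have h3 := h.count' ht
  obtain ⟨P, hP⟩ : ∃ P, P = Subgroup.zpowers x := ⟨_, rfl⟩
  rw [← hP] at h3
  have hc : Nat.card P = p := hP ▸ h.card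
  have hCe : Ce P = P := hP ▸ h.Ce_eq
  have hS : IsSyl p P ⊤ := hP ▸ h.isSyl
  have := Fintype.ofFinite P
  have h4 : P.relIndex (No P) ≠ 1 := fun e => h1 (by rwa [e, mul_one] at h3)
  have h5 : P.relIndex (No P) ≤ p - 1 := Nat.le_of_dvd (by omega) ⟨_, h3.symm.trans (mul_comm _ _)⟩
  have hp2 : p ≠ 2 := fun e => h4 (Nat.eq_one_of_mul_eq_one_left (h3.trans (by omega)))
  have hχ0 : χ ∈ principalBlock M G := h.mem_principal fun e => by
    have := Nat.le_of_dvd (Nat.pos_of_ne_zero (charDegree_ne_zero χ)) e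
    omega
  obtain ⟨δ, ζ, a, hD, -⟩ := exists_dd0 M hS hc
  obtain ⟨m, hm⟩ := (χ.2.isCharacter.res P).classInner_eq_nat isCharacter_one
  have hd : χ.1 1 = ((p - 1 : ℕ) : ℂ) := by rw [← cast_deg]; congr 1; omega
  have hE : Nat.card (autE P (e0 M P)) = P.relIndex (No P) := by rw [card_autE_principal, hCe]
  have h6 : m = 0 := by
    rw [classInner_one_right, ← Finset.add_sum_erase _ _ (Finset.mem_univ (1 : P)), hc,
      inv_mul_eq_iff_eq_mul₀ (p_ne_zero M), OneMemClass.coe_one, hd] at hm
    by_cases h7 : χ ∈ excSet ζ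
    · obtain ⟨l, hl, rfl⟩ := mem_excSet.1 h7
      have h8 := classInner_eta (E := autE P (e0 M P)) l 1
      rw [if_neg fun h => h.ne_one hl rfl, lc_one, classInner_one_right, mul_eq_zero,
        ← Finset.add_sum_erase _ _ (Finset.mem_univ (1 : P)),
        hD.exd.free.eta_one hD.exd.comm hl, hE] at h8
      rw [Finset.sum_congr rfl fun u hu => hD.D_exc hl (Finset.mem_erase.1 hu).1, ← Finset.mul_sum,
        eq_neg_of_add_eq_zero_right (h8.resolve_left (inv_ne_zero (card_ne_zero' P)))] at hm
      have h9 : ((p - 1 : ℕ) : ℤ) + δ * -(P.relIndex (No P) : ℤ) = p * m := by exact_mod_cast hm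
      have h10 : P.relIndex (No P) ≠ 0 := Subgroup.index_ne_zero_of_finite
      rcases m with _ | _ | m
      · rfl
      all_goals
        rcases hD.exc.sign with e | e <;> rw [e] at h9 <;> push_cast at h9 <;>
        first | omega | (rw [mul_add, mul_add] at h9; have : (0 : ℤ) ≤ p * m := by positivity
                         omega)
    · rw [Finset.sum_congr rfl fun u hu => hD.D_nexc hχ0 h7 (Finset.mem_erase.1 hu).1,
        Finset.sum_const, Finset.card_erase_of_mem (Finset.mem_univ _), Finset.card_univ,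
        ← Nat.card_eq_fintype_card, hc, nsmul_eq_mul] at hm
      have h9 : ((p - 1 : ℕ) : ℤ) + (p - 1 : ℕ) * a χ = p * m := by exact_mod_cast hm
      rcases m with _ | _ | m
      · rfl
      all_goals
        rcases hD.sgn χ hχ0 h7 with e | e <;> rw [e] at h9 <;> push_cast at h9 <;>
        first | omega | (rw [mul_add, mul_add] at h9; have : (0 : ℤ) ≤ p * m := by positivity
                         omega)
  have h7 : ∀ g ∈ No P, g ∉ P → χ.1 g = 0 := fun g hg h7 => by
    have := Fintype.ofFinite (P.subgroupOf (No P))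
    have h8 := sum_coset_eq_zero (N := P.subgroupOf (No P)) (χ.2.isCharacter.res (No P))
      ((classInner_subgroupOf (le_No P) (fun u => χ.1 u) fun _ => 1).trans (by rw [hm, h6, Nat.cast_zero]))
      ⟨g, hg⟩
    rw [Finset.sum_congr rfl (g := fun _ => χ.1 g) fun u _ => ?_, Finset.sum_const, nsmul_eq_mul,
      mul_eq_zero] at h8
    · exact h8.resolve_left (Nat.cast_ne_zero.2 Fintype.card_ne_zero)
    obtain ⟨y, -, hy⟩ := Solv.exists_conj_eq_mul_of_fpf (K := P) hg (Solv.fpf_iff.2 fun k hk e =>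
      by_contra fun h' => h7 (hP ▸ h.Ce1_eq (hP ▸ hk) h' ▸ mem_Ce1.2 e)) u.2
    exact (congrArg χ.1 hy.symm).trans (χ.2.isClassFunction.apply_conj _ _)
  haveI : Fact (Nat.Prime 2) := ⟨Nat.prime_two⟩
  obtain ⟨T, hT⟩ := exists_isSyl 2 (No P)
  have h8 : ∀ g ∈ T, g ∈ P → g = 1 := fun g h1 h2 => by
    refine eq_one_of_pelt_of_preg (pelt_of_mem hT.pg h1) fun e => hp2 ?_
    exact ((Nat.prime_dvd_prime_iff_eq Nat.prime_two hp).1
      (hc ▸ e.trans (Subgroup.orderOf_dvd_natCard P h2))).symm
  have h9 : IsCyclic T := by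
    haveI := isCyclic_of_prime_card hc
    have : IsCyclic (MulAut P) := by
      have e := IsCyclic.mulAutMulEquiv P
      rw [hc] at e
      exact isCyclic_of_injective e.toMonoidHom e.injective
    refine isCyclic_of_injective (P.normalizerMonoidHom.comp (Subgroup.inclusion hT.le))
      ((injective_iff_map_eq_one _).2 fun g hg => Subtype.ext (h8 g g.2 (hCe.le ?_)))
    have : Subgroup.inclusion hT.le g ∈ P.normalizerMonoidHom.ker := hg
    rwa [Subgroup.normalizerMonoidHom_ker] at this
  obtain ⟨g, hg⟩ := h9.exists_generator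
  have h10 := Solv.card_mul_relIndex hT.le
  rw [← Solv.card_mul_relIndex (le_No P), hc] at h10
  have h11 : Odd (T.relIndex (No P)) := Nat.not_even_iff_odd.1 fun e =>
    hT.not_dvd_relIndex e.two_dvd
  have h12 : Even (P.relIndex (No P)) := by
    have : Even (t * P.relIndex (No P)) := h3 ▸ hp.even_sub_one hp2
    exact (Nat.even_mul.1 this).resolve_left (Nat.not_even_iff_odd.2 h0.1)
  have h13 : Even (Nat.card T) := (Nat.even_mul.1 (h10 ▸ h12.mul_left p)).resolve_right
    (Nat.not_even_iff_odd.2 h11)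
  have h14 : ∀ y ∈ T, y ≠ 1 → χ.1 y = 0 := fun y hy h => h7 y (hT.le hy) fun e => h (h8 y hy e)
  obtain ⟨n, hn⟩ := exists_degree_eq_of_vanish χ.2.isGen T h14
  have h15 : ((p - 1 : ℕ) : ℤ) = Nat.card T * n := by exact_mod_cast hd.symm.trans hn
  obtain ⟨k, rfl⟩ := Int.eq_ofNat_of_zero_le (show 0 ≤ n from
    nonneg_of_mul_nonneg_right (h15 ▸ Nat.cast_nonneg _) (by exact_mod_cast Nat.card_pos))
  have h16 : p - 1 = Nat.card T * k := by exact_mod_cast h15
  have h17 : Odd k := by
    have : p * k = t * T.relIndex (No P) := Nat.eq_of_mul_eq_mul_left (Nat.card_pos (α := T)) (by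
      rw [mul_left_comm, ← h16, mul_left_comm, h10, ← h3]; ring)
    exact (Nat.odd_mul.1 (this ▸ h0.1.mul h11)).2
  have h18 : (fun y : T => χ.1 y) = (k : ℂ) • regChar T := funext fun y => by
    by_cases e : y = 1
    · simp [e, regChar_one, hn, mul_comm]
    · simp [regChar_of_ne e, h14 y y.2 (coe_ne_one e)]
  obtain ⟨d, hd'⟩ := χ.2.isCharacter.exists_detChar
  have h19 := χ.2.isCharacter.detChar_res T g
  rw [h18, isCharacter_regChar.detChar_nsmul, detChar_regChar (eq_top_iff.2 fun y _ => hg y) h13,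
    h17.neg_one_pow, hd'] at h19
  have h20 := congrArg Units.val (pow_index_eq_one_of_trivial (N := commutator G) d
    (fun n => Abelianization.commutator_subset_ker d n.2) g)
  rw [Units.val_pow_eq_pow_val, ← show _ = (d g : ℂ) from h19, h0.2.neg_one_pow] at h20
  norm_num at h20

end Cfsg.Agent.S4508
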