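import Cfsg.Statements.S4509
import Cfsg.Agent.Lib.Block.SelfC

set_option autoImplicit false
open Cfsg

namespace Cfsg.Agent.S4509

open Cfsg.Agent.Blk
open Cfsg.Agent.Char hiding cj cj_mul cj_inv_cj cj_cj_inv

/-- Let the finite group G contain an element x of prime order p with C_G(x) = ⟨x⟩; let t be the number of conjugacy classes of elements of order p and 1 + n·p the number of subgroups of order p. Then G has a normal subgroup of order 1 + n·p if and only if either t = p − 1, or t < p − 1 and G″ ≠ G′. Moreover, if t = p − 1 then G′ has order 1 + n·p and G/G′ is cyclic of order p; and if t < p − 1 and G″ ≠ G′ then G″ has order 1 + n·p and G′ has order p·(1 + n·p). -/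
theorem result {G : Type*} [Group G] [Finite G] (p : ℕ) (hp : p.Prime) (x : G) (hx : orderOf x = p) (hC : Subgroup.centralizer ({x} : Set G) = Subgroup.zpowers x) (t : ℕ) (ht : Nat.card {C : ConjClasses G // ∃ g ∈ C.carrier, orderOf g = p} = t) (n : ℕ) (hn : Nat.card {H : Subgroup G // Nat.card H = p} = 1 + n * p) : ((∃ S : Subgroup G, S.Normal ∧ Nat.card S = 1 + n * p) ↔ (t = p - 1 ∨ (t < p - 1 ∧ derivedSeries G 2 ≠ derivedSeries G 1))) ∧ (t = p - 1 → Nat.card (commutator G) = 1 + n * p ∧ IsCyclic (G ⧸ commutator G) ∧ (commutator G).index = p) ∧ (t < p - 1 → derivedSeries G 2 ≠ derivedSeries G 1 → Nat.card (derivedSeries G 2) = 1 + n * p ∧ Nat.card (commutator G) = p * (1 + n * p)) := by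
  haveI := Fact.mk hp
  have h : SC p x := ⟨hp, hx, hC⟩
  rw [h.card_sub] at hn
  have e1 : derivedSeries G 1 = commutator G := derivedSeries_one G
  have e2 : derivedSeries G 2 = (commutator (commutator G)).map (Subgroup.subtype _) := by
    rw [derivedSeries_succ, e1, Subgroup.map_subtype_commutator]
  have h1 : t = p - 1 → Nat.card (commutator G) = 1 + n * p ∧ IsCyclic (G ⧸ commutator G) ∧
      (commutator G).index = p := fun h1 => by
    have h2 := (h.t_iff ht).1 h1
    refine ⟨Nat.eq_of_mul_eq_mul_right hp.pos ?_, isCyclic_of_prime_card (h.index_commutator h2),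
      h.index_commutator h2⟩
    rw [← hn, h.No_eq_iff.2 h2]
    exact (h.index_commutator h2 ▸ (commutator G).card_mul_index).trans
      (h.card ▸ (Subgroup.zpowers x).index_mul_card).symm
  have h2 : t < p - 1 → derivedSeries G 2 ≠ derivedSeries G 1 →
      Nat.card (derivedSeries G 2) = 1 + n * p ∧ Nat.card (commutator G) = p * (1 + n * p) := by
    intro h2 h3
    have h4 : p ∣ Nat.card (commutator G) := by_contra fun h' => h2.ne ((h.t_iff ht).2 h')
    have h5 := h.le_of_dvd h4
    have h6 := h.sub (h5 (Subgroup.mem_zpowers x))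
    have h7 := h.not_dvd_of_ne h4 fun e => h3 (by
      rw [e2, e, e1, ← MonoidHom.range_eq_map, Subgroup.range_subtype])
    have h8 : No (Subgroup.zpowers x) ⊓ commutator G = Subgroup.zpowers x := by
      refine le_antisymm (fun g hg => ?_) (le_inf (le_No _) h5)
      have h9 : (⟨g, hg.2⟩ : commutator G) ∈ No (Subgroup.zpowers
          (⟨x, h5 (Subgroup.mem_zpowers x)⟩ : commutator G)) := by
        refine mem_No_of_forall fun u hu => ?_
        obtain ⟨k, rfl⟩ := Subgroup.mem_zpowers_iff.1 hu
        obtain ⟨j, hj⟩ := Subgroup.mem_zpowers_iff.1 ((mem_No.1 hg.1).le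
          (conj_mem_cs.2 (Subgroup.zpow_mem_zpowers x k)))
        exact Subgroup.mem_zpowers_iff.2 ⟨j, Subtype.ext hj⟩
      rw [h6.No_eq_iff.2 h7] at h9
      obtain ⟨k, hk⟩ := Subgroup.mem_zpowers_iff.1 h9
      exact Subgroup.mem_zpowers_iff.2 ⟨k, congrArg Subtype.val hk⟩
    have h9 := Solv.card_sup_mul_card_inf (H := No (Subgroup.zpowers x)) (N := commutator G)
      Subgroup.le_normalizer_of_normal
    rw [h.No_sup h5, h8, h.card, Subgroup.card_top, ← (No (Subgroup.zpowers x)).card_mul_index,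
      hn, mul_assoc] at h9
    have h10 := (Nat.eq_of_mul_eq_mul_left Nat.card_pos h9).symm.trans (mul_comm _ _)
    refine ⟨Nat.eq_of_mul_eq_mul_right hp.pos ?_, h10⟩
    rw [e2, Subgroup.card_map_of_injective (Subgroup.subtype_injective _), mul_comm _ p,
      mul_comm _ p, ← h10]
    exact h6.index_commutator h7 ▸ (commutator (commutator G)).index_mul_card
  refine ⟨⟨?_, ?_⟩, h1, h2⟩
  · rintro ⟨S, hS, h3⟩
    have h4 : ¬ p ∣ Nat.card S := by
      rw [h3, Nat.dvd_add_left (dvd_mul_left _ _)]
      exact hp.not_dvd_one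
    have h5 := h.card_mul_index_sup h4
    rw [hn, ← h3, Nat.mul_eq_left Nat.card_pos.ne', Subgroup.index_eq_one] at h5
    have h6 := h.count' ht
    have h7 : t ≤ p - 1 := Nat.le_of_dvd (by have := hp.two_le; omega) ⟨_, h6.symm⟩
    refine h7.eq_or_lt.imp id fun h8 => ⟨h8, fun e => h4 ?_⟩
    have h9 : p ∣ Nat.card (commutator G) := by_contra fun h' => h8.ne ((h.t_iff ht).2 h')
    refine h9.trans (Subgroup.card_dvd_of_le ?_)
    have h10 : (Subgroup.zpowers x ⊔ S).Normal := by
      refine normal_of_top_le_No (h5 ▸ sup_le (fun g hg => No_sup_le _ _ ⟨hg, top_le_No S trivial⟩)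
        (le_sup_right.trans (le_No _)))
    have h11 : commutator G ≤ Subgroup.zpowers x ⊔ S :=
      h.commutator_le (h.card ▸ Subgroup.card_dvd_of_le le_sup_left)
    rw [← e1, ← e, derivedSeries_succ, e1]
    refine (Subgroup.commutator_mono h11 h11).trans (Subgroup.commutator_le.2 fun a ha b hb => ?_)
    rw [← SetLike.mem_coe, Subgroup.mul_normal] at ha hb
    obtain ⟨a, ha, s, hs, rfl⟩ := ha
    obtain ⟨b, hb, r, hr, rfl⟩ := hb
    rw [← QuotientGroup.eq_one_iff, commutatorElement_def]
    have := congrArg (QuotientGroup.mk (s := S)) (mem_Ce.1 (h.Ce_eq.ge hb) a ha)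
    simp only [QuotientGroup.mk_mul] at this
    simp [(QuotientGroup.eq_one_iff s).2 hs, (QuotientGroup.eq_one_iff r).2 hr, this]
  · rintro (h3 | ⟨h3, h4⟩)
    · exact ⟨_, inferInstance, (h1 h3).1⟩
    · exact ⟨_, derivedSeries_normal G 2, (h2 h3 h4).1⟩

end Cfsg.Agent.S4509
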