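import Cfsg.Statements.S4510
import Cfsg.Agent.Lib.Block.Rob

set_option autoImplicit false
open Cfsg

namespace Cfsg.Agent.S4510

open Cfsg.Agent.Blk
open Cfsg.Agent.Char hiding cj cj_mul cj_inv_cj cj_cj_inv

/-- Let G be a finite group, p a prime, M a maximal ideal of the algebraic integers containing p, and call the defect of a conjugacy class the exponent of p in the order of the centralizer of its elements. Two irreducible characters lying in p-blocks of defect exactly d lie in the same block if and only if their central characters (class size times χ(x)/χ(1)) agree modulo the local ideal at M at every p-regular element x whose class has defect exactly d. -/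
theorem result {G : Type*} [Group G] [Finite G] (p : ℕ) [Fact p.Prime] (M : Ideal Cfsg.AlgInt) (hM : Cfsg.IsPModular p M) (d : ℕ) (χ ψ : Cfsg.IrrCharacter G) (hχ : Cfsg.blockDefect p (Cfsg.blockOf M (χ : G → ℂ)) = d) (hψ : Cfsg.blockDefect p (Cfsg.blockOf M (ψ : G → ℂ)) = d) : Cfsg.SameBlock M (χ : G → ℂ) (ψ : G → ℂ) ↔ ∀ x : G, ¬ p ∣ orderOf x → (Nat.card (Subgroup.centralizer ({x} : Set G))).factorization p = d → Cfsg.MemLocalIdeal M (Cfsg.centralChar (χ : G → ℂ) x - Cfsg.centralChar (ψ : G → ℂ) x) := by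
  haveI : PMod M p := ⟨hM⟩
  refine ⟨fun h x _ _ => h x, fun h => ?_⟩
  have := Fintype.ofFinite (ConjClasses G)
  have h1 := isPBlock_blockOf (M := M) χ
  have h2 := isPBlock_blockOf (M := M) ψ
  rw [sameBlock_iff, ← bar_blockOf, ← bar_blockOf]
  refine h2.isBlock.eq_of_lam_ne_zero h1.isBlock ?_
  have h3 := h1.isBlock.lam_self
  rw [h1.isBlock.lam_eq_sum_cls h1.isBlock.mem] at h3
  rw [h2.isBlock.lam_eq_sum_cls h1.isBlock.mem, ← Finset.sum_congr rfl fun C _ => ?_, h3]
  · exact one_ne_zero
  by_cases h4 : (bar M (blockOf M (χ : G → ℂ))).coeff (rp C) = 0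
  · rw [h4, zero_mul, zero_mul]
  congr 1
  have h5 := h1.cd_le_defect h4
  rcases h5.lt_or_eq with h6 | h6
  · rw [not_not.1 (mt h1.defect_le_cd h6.not_ge), not_not.1 (mt h2.defect_le_cd (by omega))]
  · rw [h1.lam_cls (mem_blockOf_self χ), h2.lam_cls (mem_blockOf_self ψ),
      rd_eq_iff (centralChar_mem_O χ.2 _) (centralChar_mem_O ψ.2 _)]
    exact h _ (h1.isUB.preg_of_coeff_bar h4) (h6.trans hχ)

end Cfsg.Agent.S4510
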