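import Cfsg.Statements.S4513
import Cfsg.Agent.Lib.Block.Klein

set_option autoImplicit false
open Cfsg

namespace Cfsg.Agent.S4513

open Cfsg.Agent.Blk
open Cfsg.Agent.Char hiding cj cj_mul cj_inv_cj cj_cj_inv

/-- Blocks of defect one for p = 2. Let M be a maximal ideal of the algebraic integers containing 2, B a 2-block of the finite group G whose defect group is the subgroup generated by an involution x, C = C_G(x), b a block of C inducing B and θ a member of b taking the same value at x as at 1 (there is exactly one). Then B consists of exactly two irreducible characters, which agree on every element of odd order, and they can be labelled χ₁, χ₂ with signs ε₁, ε₂ = ±1, ε₁ε₂ = −1, such that χᵢ(x y) = εᵢ θ(y) for every element y of C of odd order. -/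
theorem result {G : Type*} [Group G] [Finite G] (M : Ideal Cfsg.AlgInt) (hM : Cfsg.IsPModular 2 M) (x : G) (hx : orderOf x = 2)
    (B : Set (Cfsg.IrrCharacter G)) (hB : Cfsg.IsPBlock M B) (hBD : Cfsg.IsDefectGroup 2 M B (Subgroup.zpowers x))
    (b : Set (Cfsg.IrrCharacter ↥(Subgroup.centralizer ({x} : Set G)))) (hb : Cfsg.IsInducedBlock M (Subgroup.centralizer ({x} : Set G)) b B)
    (θ : Cfsg.IrrCharacter ↥(Subgroup.centralizer ({x} : Set G))) (hθ : θ ∈ b)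
    (hθx : ∀ z : ↥(Subgroup.centralizer ({x} : Set G)), (z : G) = x → (θ : ↥(Subgroup.centralizer ({x} : Set G)) → ℂ) z = (θ : ↥(Subgroup.centralizer ({x} : Set G)) → ℂ) 1) :
    Nat.card B = 2 ∧ (∀ χ ∈ B, ∀ ψ ∈ B, ∀ g : G, ¬ 2 ∣ orderOf g → (χ : G → ℂ) g = (ψ : G → ℂ) g) ∧
      ∃ χ₁ ∈ B, ∃ χ₂ ∈ B, χ₁ ≠ χ₂ ∧ ∃ ε₁ ε₂ : ℤ, (ε₁ = 1 ∨ ε₁ = -1) ∧ (ε₂ = 1 ∨ ε₂ = -1) ∧ ε₁ * ε₂ = -1 ∧
        ∀ y : ↥(Subgroup.centralizer ({x} : Set G)), ¬ 2 ∣ orderOf y →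
          (χ₁ : G → ℂ) (x * y) = (ε₁ : ℂ) * (θ : ↥(Subgroup.centralizer ({x} : Set G)) → ℂ) y ∧ (χ₂ : G → ℂ) (x * y) = (ε₂ : ℂ) * (θ : ↥(Subgroup.centralizer ({x} : Set G)) → ℂ) y := by
  haveI : PMod M 2 := ⟨hM⟩
  classical
  haveI : Fact (Nat.Prime 2) := ⟨Nat.prime_two⟩
  have := Fintype.ofFinite (Subgroup.zpowers x)
  have := Fintype.ofFinite (Ce1 x)
  obtain ⟨e, hm⟩ := hB.exists_mp (hB.isDefectGroup_iff.1 hBD)
  have hf := hm.fa_of_isCyclic inferInstance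
  have hc : Nat.card (Subgroup.zpowers x) = 2 := by rw [Nat.card_zpowers, hx]
  have hx1 : x ≠ 1 := fun h => by rw [h, orderOf_one] at hx; omega
  have hxx : x * x = 1 := by rw [← sq, ← hx, pow_orderOf_eq_one]
  have hxP := Subgroup.mem_zpowers x
  have hall : ∀ u : Subgroup.zpowers x, u ≠ 1 → u = ⟨x, hxP⟩ := fun u hu =>
    ((Nat.card_eq_two_iff' 1).1 hc).unique hu fun h => hx1 (congrArg Subtype.val h)
  obtain ⟨h1, h2⟩ := hf.dn_eq_sign hxP hx1 hxx (by omega)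
  have h3 : locSet M (Ce1 x) B = sb 2 (Subgroup.zpowers x) e x := hm.locSet_eq hxP fun g hg =>
    congrArg Subtype.val (hall ⟨_, hg⟩ fun h => hx1 (by simpa using congrArg Subtype.val h))
  have h4 : sb 2 (Subgroup.zpowers x) e x = b := (hm.sb_blk hxP).eq_of_mem hb.1 (h3 ▸ hb.subset_locSet hθ) hθ
  have hn := hf.nilp_sb hxP hx1
  have h5 : ∀ χ ∈ B, ∀ y : Ce1 x, ¬ 2 ∣ orderOf y →
      χ.1 (x * y) = dn 2 x (sb 2 (Subgroup.zpowers x) e x) χ.1 * θ.1 y := fun χ hχ y hy => by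
    rw [apply_eq_loc_locSet hB.isUB (hm.pelt hxP) hχ hy, h3, hn.loc_eq,
      ← hn.reg_eq_phi (h4 ▸ hθ) (hn.blk.height_eq_zero_of_defect_le (h4 ▸ hθ) ?_), Pi.smul_apply,
      reg_of_preg hy, smul_eq_mul]
    have := hm.card_eq
    rw [hc, eq_comm, Nat.pow_eq_self_iff one_lt_two] at this
    rw [hm.defect_sb ⟨hxP, hf.comm hxP⟩]; omega
  have h6 := (hf.exd (D := fun χ _ => dn 2 x (sb 2 (Subgroup.zpowers x) e x) χ.1) (ε := fun _ => 1)
    (fun χ _ u hu => by rw [hall u hu, one_mul]) (fun _ _ => by simp) (fun χ hχ => by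
      rcases h2 χ hχ with h | h <;> rw [h]
      · exact isCharacter_one.isGen
      · exact isCharacter_one.isGen.neg) fun _ _ _ _ => rfl).reg0 ⟨x, hxP⟩
    fun h => hx1 (congrArg Subtype.val h)
  obtain ⟨χ₁, χ₂, h7, h8⟩ := Finset.card_eq_two.1 (h1.trans hc)
  have m1 : χ₁ ∈ B := mem_fs.1 (by simp [h8])
  have m2 : χ₂ ∈ B := mem_fs.1 (by simp [h8])
  rw [h8, Finset.sum_pair h7] at h6
  have h9 := congrFun h6 1
  simp only [Pi.add_apply, Pi.smul_apply, reg_of_preg (p := 2) preg_one, ← cast_deg] at h9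
  have d1 := charDegree_ne_zero χ₁
  have h10 : ∃ ε₁ ε₂ : ℤ, (ε₁ = 1 ∨ ε₁ = -1) ∧ (ε₂ = 1 ∨ ε₂ = -1) ∧ ε₁ * ε₂ = -1 ∧
      dn 2 x (sb 2 (Subgroup.zpowers x) e x) χ₁.1 = ε₁ ∧ dn 2 x (sb 2 (Subgroup.zpowers x) e x) χ₂.1 = ε₂ := by
    rcases h2 χ₁ m1 with h | h <;> rcases h2 χ₂ m2 with h' | h' <;> rw [h, h'] at h9 ⊢
    · simp only [map_one, one_smul, Pi.zero_apply] at h9
      norm_cast at h9; omega
    · exact ⟨1, -1, by simp⟩
    · exact ⟨-1, 1, by simp⟩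
    · simp only [map_neg, map_one, neg_smul, one_smul, Pi.zero_apply, ← neg_add, neg_eq_zero] at h9
      norm_cast at h9; omega
  obtain ⟨ε₁, ε₂, e1, e2, e3, e4, e5⟩ := h10
  have h11 : reg 2 χ₁.1 = reg 2 χ₂.1 := by
    rw [e4, e5] at h6
    rcases e1 with rfl | rfl <;> rcases e2 with rfl | rfl
    · omega
    · simpa [add_neg_eq_zero] using h6
    · simpa [neg_add_eq_zero] using h6
    · omega
  refine ⟨(card_fs B).trans (h1.trans hc), fun χ hχ ψ hψ g hg => ?_, χ₁, m1, χ₂, m2, h7, ε₁, ε₂, e1,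
    e2, e3, fun y hy => ⟨by rw [h5 _ m1 y hy, e4], by rw [h5 _ m2 y hy, e5]⟩⟩
  have h12 := congrFun h11 g
  rw [reg_of_preg hg, reg_of_preg hg] at h12
  rw [← mem_fs, h8, Finset.mem_insert, Finset.mem_singleton] at hχ hψ
  rcases hχ with rfl | rfl <;> rcases hψ with rfl | rfl <;> simp [h12]

end Cfsg.Agent.S4513
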