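import Cfsg.Statements.S4518
import Cfsg.Agent.Lib.Block.Fix

set_option autoImplicit false
open Cfsg

namespace Cfsg.Agent.S4518

open Cfsg.Agent.Blk
open Cfsg.Agent.Char hiding cj cj_mul cj_inv_cj cj_cj_inv

/-- Let N be a normal subgroup of the finite group G whose index is not divisible by the prime p, and let k be coprime to the order of G with k ^ (p ^ e) ≡ 1 modulo the order of G for some e (so g ↦ g ^ k induces a field automorphism of p-power order on character values). If an irreducible character χ of G satisfies χ (g ^ k) = χ g for all g, then every irreducible constituent θ of the restriction of χ to N satisfies θ (n ^ k) = θ n for all n. -/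
theorem result {G : Type*} [Group G] [Fintype G] (p : ℕ) [Fact p.Prime] (N : Subgroup G) [N.Normal] [Fintype N] (hidx : ¬ p ∣ N.index) (k e : ℕ) (hk : Nat.Coprime k (Nat.card G)) (hke : k ^ (p ^ e) ≡ 1 [MOD Nat.card G]) (χ : Cfsg.IrrCharacter G) (hχ : ∀ g : G, (χ : G → ℂ) (g ^ k) = (χ : G → ℂ) g) (θ : Cfsg.IrrCharacter N) (hθ : Cfsg.classInner (fun n : N => (χ : G → ℂ) n) (θ : N → ℂ) ≠ 0) : ∀ n : N, (θ : N → ℂ) (n ^ k) = (θ : N → ℂ) n := by
  classical
  obtain ⟨σ, hσ⟩ := exists_gal_pow (Nat.card_pos (α := G)).ne' hk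
  have hN := Subgroup.card_subgroup_dvd_card N
  have h1 := em_ne_zero_iff.2 hθ
  have h2 := (gal_eq_iff_pow hσ dvd_rfl χ).2 hχ
  obtain ⟨φ, h3, h4⟩ := exists_fixed_not_dvd (p := p) (irrGalois σ : Equiv.Perm (IrrCharacter N))
    (gal_pow_eq_one hσ hN (pow_eq_of_modEq hN hke)) (fun φ => if em N χ φ ≠ 0 then 1 else 0)
    (fun φ => by rw [← em_gal σ χ φ, h2]) (by
      rw [← Finset.card_filter, ← Fintype.card_subtype, ← Nat.card_eq_fintype_card, card_under h1]
      exact fun h => hidx (h.trans (index_inertia_dvd θ)))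
  have h5 : em N χ φ ≠ 0 := fun h => h4 (by simp [h])
  exact (gal_eq_iff_pow hσ hN θ).1 (gal_eq_of_em h3 h5 h1)

end Cfsg.Agent.S4518
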