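import Cfsg.Statements.S4520
import Cfsg.Agent.Lib.Block.Fix

set_option autoImplicit false
open Cfsg

namespace Cfsg.Agent.S4520

open Cfsg.Agent.Blk
open Cfsg.Agent.Char hiding cj cj_mul cj_inv_cj cj_cj_inv

/-- Let N be a normal subgroup of odd index in the finite group G, M a maximal ideal of the algebraic integers containing 2, and k coprime to the order of G with k ^ (2 ^ e) ≡ 1 modulo the order of G for some e and g ^ k = g⁻¹ for every element g of odd order. Let θ be an irreducible character of N and χ an irreducible character of G over θ, both unchanged by composing with g ↦ g ^ k. Then χ lies in the principal 2-block of G if and only if θ lies in the principal 2-block of N. -/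
theorem result {G : Type*} [Group G] [Fintype G] (M : Ideal Cfsg.AlgInt) (hM : Cfsg.IsPModular 2 M) (N : Subgroup G) [N.Normal] [Fintype N] (hidx : Odd N.index) (k e : ℕ) (hk : Nat.Coprime k (Nat.card G)) (hke : k ^ (2 ^ e) ≡ 1 [MOD Nat.card G]) (hk₂ : ∀ g : G, Odd (orderOf g) → g ^ k = g⁻¹) (θ : Cfsg.IrrCharacter N) (hθ : ∀ n : N, (θ : N → ℂ) (n ^ k) = (θ : N → ℂ) n) (χ : Cfsg.IrrCharacter G) (hχ : ∀ g : G, (χ : G → ℂ) (g ^ k) = (χ : G → ℂ) g) (hover : Cfsg.classInner (fun n : N => (χ : G → ℂ) n) (θ : N → ℂ) ≠ 0) : χ ∈ Cfsg.principalBlock M G ↔ θ ∈ Cfsg.principalBlock M N := by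
  haveI : PMod M 2 := ⟨hM⟩
  classical
  have := Fact.mk Nat.prime_two
  obtain ⟨σ, hσ⟩ := exists_gal_pow (Nat.card_pos (α := G)).ne' hk
  have hN := Subgroup.card_subgroup_dvd_card N
  have h1 := (gal_eq_iff_pow hσ hN θ).2 hθ
  have h2 := pow_mul_mem_of_odd hidx hk₂
  have h0 := em_ne_zero_iff.2 hover
  refine ⟨fun h => mem_principal_of_em h h0, fun h => ?_⟩
  have hB := (isPBlock_principal (M := M) (G := G)).isUB
  have hπ := gal_pow_eq_one hσ dvd_rfl (pow_eq_of_modEq (G := G) dvd_rfl hke)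
  set f : IrrCharacter N → IrrCharacter G → ℕ := fun φ ψ =>
    if ψ ∈ principalBlock M G then em N ψ φ ^ 2 else 0 with hf
  have hf1 : ∀ φ, irrGalois σ φ = φ → ∀ ψ, f φ (irrGalois σ ψ) = f φ ψ := fun φ h3 ψ => by
    simp only [hf, gal_mem_principal_iff]
    rw [← em_gal σ ψ φ, h3]
  have hf2 : ∀ φ, om φ.1 (rs N (fC (principalBlock M G))) * N.index =
      ((∑ ψ, f φ ψ) * (inertia N φ.1).index : ℕ) := fun φ => by
    have h3 := om_rs_fC (principalBlock M G) φ
    simp only [em_mul_deg_eq] at h3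
    rw [← Finset.sum_mul, ← mul_assoc, ← mul_assoc, Nat.cast_mul] at h3
    rw [mul_right_cancel₀ (Nat.cast_ne_zero.2 (charDegree_ne_zero φ)) h3, sum_ite_fs]
  have hi : ¬ MemLocalIdeal M (N.index : ℂ) := by
    rw [LI_natCast_iff]; exact Nat.not_even_iff_odd.2 hidx ∘ even_iff_two_dvd.2
  have hf3 : ∀ φ : IrrCharacter N, MemLocalIdeal M (om φ.1 (rs N (fC (principalBlock M G)))) ↔
      2 ∣ ∑ ψ, f φ ψ := fun φ => by
    rw [← LI_mul_unit_iff (natCast_mem _ _) hi, hf2, LI_natCast_iff, Nat.prime_two.dvd_mul,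
      or_iff_left]
    exact fun h => hi (LI_natCast_iff.2 (h.trans (index_inertia_dvd φ)))
  have h3 : ¬ 2 ∣ ∑ ψ, f (irrOne N) ψ := by
    rw [(modEq_sum_fixed _ hπ _ (hf1 _ (gal_irrOne σ))).dvd_iff dvd_rfl,
      Finset.sum_eq_single (irrOne G)]
    · simp only [hf]
      rw [if_pos irrOne_mem_principal, em_of_res_self fun _ => rfl]; norm_num
    · intro ψ h4 h5
      simp only [hf]
      split_ifs
      · by_contra h6
        exact h5 ((existsUnique_fixed_over hσ dvd_rfl hidx h2 (gal_irrOne σ)).unique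
          ⟨ne_zero_pow two_ne_zero h6, (Finset.mem_filter.1 h4).2⟩
          ⟨by rw [em_of_res_self fun _ => rfl]; exact one_ne_zero, gal_irrOne σ⟩)
      · rfl
    · simp [gal_irrOne]
  have h4 : ¬ 2 ∣ ∑ ψ, f θ ψ := by
    rw [← hf3] at h3 ⊢
    intro h5
    have h6 := LI_sub h5 (hB.LI_om_rs_fC_sub (mem_principal_iff_blk.1 h))
    rw [sub_sub_cancel] at h6
    exact h3 h6
  obtain ⟨ψ, h5, h6⟩ := exists_fixed_not_dvd _ hπ _ (hf1 θ h1) h4
  simp only [hf] at h6
  split_ifs at h6 with h7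
  · rwa [(existsUnique_fixed_over hσ dvd_rfl hidx h2 h1).unique
      ⟨h0, (gal_eq_iff_pow hσ dvd_rfl χ).2 hχ⟩ ⟨fun h => h6 (by simp [h]), h5⟩]
  · simp at h6

end Cfsg.Agent.S4520
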