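import Cfsg.Statements.S4521
import Cfsg.Agent.Lib.Block.Max
import Cfsg.Agent.Lib.Char.FS
import Cfsg.Agent.Lib.Block.Quot

set_option autoImplicit false
open Cfsg

namespace Cfsg.Agent.S4521

open Cfsg.Agent.Blk
open Cfsg.Agent.Char hiding cj cj_mul cj_inv_cj cj_cj_inv

/-- Let the finite group G be generated by subgroups U₁ and U₂ that commute elementwise and whose intersection is a p-group, and let M be a maximal ideal of the algebraic integers containing the prime p. If the irreducible character χ of G has the irreducible constituents ψ₁ on U₁ and ψ₂ on U₂, then χ lies in the principal block of G if and only if ψ₁ and ψ₂ lie in the principal blocks of U₁ and U₂. -/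
theorem result {G : Type*} [Group G] [Fintype G] (p : ℕ) [Fact p.Prime] (M : Ideal Cfsg.AlgInt) (hM : Cfsg.IsPModular p M) (U₁ U₂ : Subgroup G) [Fintype U₁] [Fintype U₂] (hcomm : ∀ u ∈ U₁, ∀ v ∈ U₂, u * v = v * u) (hgen : U₁ ⊔ U₂ = ⊤) (hZ : IsPGroup p ↥(U₁ ⊓ U₂)) (χ : Cfsg.IrrCharacter G) (ψ₁ : Cfsg.IrrCharacter U₁) (ψ₂ : Cfsg.IrrCharacter U₂) (h₁ : Cfsg.classInner (fun u : U₁ => (χ : G → ℂ) u) (ψ₁ : U₁ → ℂ) ≠ 0) (h₂ : Cfsg.classInner (fun u : U₂ => (χ : G → ℂ) u) (ψ₂ : U₂ → ℂ) ≠ 0) : χ ∈ Cfsg.principalBlock M G ↔ (ψ₁ ∈ Cfsg.principalBlock M U₁ ∧ ψ₂ ∈ Cfsg.principalBlock M U₂) := by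
  haveI : PMod M p := ⟨hM⟩
  classical
  have hp : p.Prime := Fact.out
  let f : U₁ × U₂ →* G := MonoidHom.noncommCoprod U₁.subtype U₂.subtype fun u v => hcomm u u.2 v v.2
  have hf : ∀ x, f x = x.1 * x.2 := fun x => rfl
  have hs : Function.Surjective f := by
    rw [← MonoidHom.range_eq_top, eq_top_iff, ← hgen]
    exact sup_le (fun x hx => ⟨(⟨x, hx⟩, 1), by simp [hf]⟩) fun x hx => ⟨(1, ⟨x, hx⟩), by simp [hf]⟩
  obtain ⟨α, β, hα, hβ, h⟩ := (infl hs χ).2.exists_prod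
  have h' : ∀ (u : U₁) (v : U₂), χ.1 (u * v) = α u * β v := fun u v => congrFun h (u, v)
  have h3 : (fun u : U₁ => χ.1 u) = β 1 • α := by
    ext u; simpa [mul_comm] using h' u 1
  have h4 : (fun u : U₂ => χ.1 u) = α 1 • β := by
    ext u; simpa using h' 1 u
  rw [h3, classInner_smul_left] at h₁
  rw [h4, classInner_smul_left] at h₂
  obtain rfl := hα.eq_of_classInner_ne_zero ψ₁.2 (right_ne_zero_of_mul h₁)
  obtain rfl := hβ.eq_of_classInner_ne_zero ψ₂.2 (right_ne_zero_of_mul h₂)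
  rw [mem_principal_iff_sum, mem_principal_iff_sum, mem_principal_iff_sum, ← mul_ne_zero_iff,
    Finset.sum_mul_sum, ← Finset.sum_product']
  refine (Eq.congr_left ?_).not
  have h5 : ∀ x : U₁ × U₂, reg p ψ₁.1 x.1 * reg p ψ₂.1 x.2 =
      if ¬ p ∣ orderOf x.1 ∧ ¬ p ∣ orderOf x.2 then χ.1 (x.1 * x.2) else 0 := fun x => by
    simp only [reg, h']
    by_cases h1 : p ∣ orderOf x.1 <;> by_cases h2 : p ∣ orderOf x.2 <;> simp [h1, h2]
  have h6 : ∀ g, reg p χ.1 g = if ¬ p ∣ orderOf g then χ.1 g else 0 := fun g => by simp [reg]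
  simp only [h5, h6, ← Finset.sum_filter]
  refine (Finset.sum_bij (fun x _ => (x.1 : G) * x.2) (fun x hx => ?_) (fun x hx y hy hxy => ?_)
    (fun g hg => ?_) fun _ _ => rfl).symm
  · simp only [Finset.mem_filter, Finset.mem_univ, true_and] at hx ⊢
    exact preg_mul (hcomm _ x.1.2 _ x.2.2) (by simpa using hx.2.1) (by simpa using hx.2.2)
  · simp only [Finset.mem_filter] at hx hy
    have h7 : (y.1 : G)⁻¹ * x.1 = y.2 * (x.2 : G)⁻¹ := by
      rw [inv_mul_eq_iff_eq_mul, ← mul_assoc, ← hxy, mul_inv_cancel_right]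
    have h8 : (y.1 : G)⁻¹ * x.1 ∈ U₁ ⊓ U₂ := ⟨(y.1⁻¹ * x.1).2, h7 ▸ (y.2 * x.2⁻¹).2⟩
    have h9 := isPPart_mul (p := p) (hcomm _ y.1.2 _ h8.2).symm (pelt_of_mem hZ h8)
      (by simpa using hy.2.1)
    rw [← hcomm _ y.1.2 _ h8.2, mul_inv_cancel_left] at h9
    have h10 := h9.eq_one_iff.2 (by simpa using hx.2.1)
    exact Prod.ext (Subtype.ext (inv_mul_eq_one.1 h10).symm)
      (Subtype.ext (mul_inv_eq_one.1 (h7 ▸ h10)).symm)
  · simp only [Finset.mem_filter, Finset.mem_univ, true_and] at hg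
    obtain ⟨⟨u, v⟩, rfl⟩ := hs g
    obtain ⟨a, ha⟩ := exists_isPPart p u
    obtain ⟨b, hb⟩ := exists_isPPart p v
    refine ⟨(a⁻¹ * u, b⁻¹ * v), by simp [ha.preg, hb.preg], ?_⟩
    have c1 := hcomm _ a.2 _ b.2
    have c2 : Commute (f (a, b)) (f (a⁻¹ * u, b⁻¹ * v)) :=
      (Commute.prod ((Commute.refl a).inv_right.mul_right ha.commute)
        ((Commute.refl b).inv_right.mul_right hb.commute)).map f
    have h7 := isPPart_mul (p := p) c2 (pelt_mul c1 ha.coe.pelt hb.coe.pelt)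
      (preg_mul (hcomm _ (a⁻¹ * u).2 _ (b⁻¹ * v).2) ha.coe.preg hb.coe.preg)
    rw [← map_mul, Prod.mk_mul_mk, mul_inv_cancel_left, mul_inv_cancel_left] at h7
    have h8 := h7.eq_one_iff.2 hg
    rw [← one_mul (_ * _), ← h8, ← hf (a⁻¹ * u, b⁻¹ * v), ← map_mul, Prod.mk_mul_mk,
      mul_inv_cancel_left, mul_inv_cancel_left]

end Cfsg.Agent.S4521
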