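import Cfsg.Statements.S4528
import Cfsg.Agent.Lib.Block.TameR

set_option autoImplicit false
open Cfsg

namespace Cfsg.Agent.S4528

open Cfsg.Agent.Blk
open Cfsg.Agent.Char hiding cj cj_mul cj_inv_cj cj_cj_inv

/-- Let B be a 2-block of the finite group G (relative to a maximal ideal M of the algebraic integers containing 2) whose defect group D is dihedral of order 2 ^ n with n ≥ 3. Then B contains exactly 2 ^ (n - 2) + 3 irreducible characters, its 2-regular rank (the number of irreducible Brauer characters) is between 1 and 3, exactly four of its members have height zero, and every member has height at most one. -/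
theorem result {G : Type*} [Group G] [Finite G] (M : Ideal Cfsg.AlgInt) (hM : Cfsg.IsPModular 2 M) (B : Set (Cfsg.IrrCharacter G)) (hB : Cfsg.IsPBlock M B) (D : Subgroup G) (hD : Cfsg.IsDefectGroup 2 M B D) (n : ℕ) (hn : 3 ≤ n) (hdih : Nonempty (D ≃* DihedralGroup (2 ^ (n - 1)))) : Nat.card B = 2 ^ (n - 2) + 3 ∧ 1 ≤ Cfsg.blockRank 2 B ∧ Cfsg.blockRank 2 B ≤ 3 ∧ Nat.card {χ : Cfsg.IrrCharacter G // χ ∈ B ∧ Cfsg.blockHeight 2 B (χ : G → ℂ) = 0} = 4 ∧ ∀ χ ∈ B, Cfsg.blockHeight 2 B (χ : G → ℂ) ≤ 1 := by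
  haveI : PMod M 2 := ⟨hM⟩
  have h0 := hB.isDefectGroup_iff.1 hD
  obtain ⟨e, h⟩ := hB.exists_mp h0
  obtain ⟨a, b, n', h1, h2, h3, h4⟩ := Transfer.mc_of_dihedral h0.pg
    (Nat.le_self_pow (by omega) 2) hdih.some
  obtain rfl : n = n' + 2 := by have := Nat.pow_right_injective le_rfl h4; omega
  obtain ⟨a1, a2, a3, a4, a5, -⟩ := h.dih ⟨h1, h2, h3⟩ (by omega)
  exact ⟨a1, a2, a3, a4, a5⟩

end Cfsg.Agent.S4528
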