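import Cfsg.Statements.S4531
import Cfsg.Agent.Lib.Block.TameR

set_option autoImplicit false
open Cfsg

namespace Cfsg.Agent.S4531

open Cfsg.Agent.Blk
open Cfsg.Agent.Char hiding cj cj_mul cj_inv_cj cj_cj_inv

/-- Let the finite group G have a 2-block B (relative to a maximal ideal M of the algebraic integers containing 2) of 2-regular rank three (three irreducible Brauer characters) whose defect group D is dihedral of order 2 ^ n with n ≥ 3 or semidihedral. Then the centre of G has odd order and G is not solvable. -/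
theorem result {G : Type*} [Group G] [Finite G] (M : Ideal Cfsg.AlgInt) (hM : Cfsg.IsPModular 2 M) (B : Set (Cfsg.IrrCharacter G)) (hB : Cfsg.IsPBlock M B) (D : Subgroup G) (hD : Cfsg.IsDefectGroup 2 M B D) (hD' : (∃ n : ℕ, 3 ≤ n ∧ Nonempty (D ≃* DihedralGroup (2 ^ (n - 1)))) ∨ Cfsg.IsQuasiDihedral D) (hl : Cfsg.blockRank 2 B = 3) : Odd (Nat.card (Subgroup.center G)) ∧ ¬ Group.IsSolvable G := by
  haveI : PMod M 2 := ⟨hM⟩
  have h0 := hB.isDefectGroup_iff.1 hD
  obtain ⟨e, h⟩ := hB.exists_mp h0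
  rcases hD' with ⟨n, hn, hdih⟩ | hsd
  · obtain ⟨a, b, n', h1, h2, h3, h4⟩ := Transfer.mc_of_dihedral h0.pg
      (Nat.le_self_pow (by omega) 2) hdih.some
    have h5 : 1 ≤ n' := by have := Nat.pow_right_injective le_rfl h4; omega
    have h6 : DH D a b n' := ⟨h1, h2, h3⟩
    exact h.of_fused h1 h5 h2 (.inr (h6.sq_out' h1.mem_ab h1.ab_out)) ((h.dih h6 h5).2.2.2.2.2 hl)
  · obtain ⟨a, b, n', h1⟩ := Transfer.qd_of hsd
    exact h.of_fused h1.toMC h1.one h1.sq1 (.inl h1.two) ((h.sd h1).2.2.2.2.2.2.2.2 hl)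

end Cfsg.Agent.S4531
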