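import Cfsg.Statements.S4541
import Cfsg.Agent.Lib.Block.Two

set_option autoImplicit false
open Cfsg

namespace Cfsg.Agent.S4541

open Cfsg.Agent.Blk
open Cfsg.Agent.Char hiding cj cj_mul cj_inv_cj cj_cj_inv

/-- Let B be a 2-block of the finite group G (relative to a maximal ideal M of the algebraic integers containing 2), u a 2-element, and b a block of the centralizer of u inducing B (a subsection (u, b)), of defect q and 2-regular rank l; write s for the integer square root of l and k₀(B) for the number of members of B of height zero. If s is odd then k₀(B) ≤ s·2 ^ q, and otherwise (s + 1)·k₀(B) ≤ l·2 ^ q; in particular k₀(B) ≤ 2 ^ q when l ≤ 3. -/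
theorem result {G : Type*} [Group G] [Finite G] (M : Ideal Cfsg.AlgInt) (hM : Cfsg.IsPModular 2 M) (B : Set (Cfsg.IrrCharacter G)) (hB : Cfsg.IsPBlock M B) (u : G) (hu : ∃ j : ℕ, orderOf u = 2 ^ j) (b : Set (Cfsg.IrrCharacter ↥(Subgroup.centralizer ({u} : Set G)))) (hb : Cfsg.IsInducedBlock M (Subgroup.centralizer ({u} : Set G)) b B) : (Odd (Nat.sqrt (Cfsg.blockRank 2 b)) → Nat.card {χ : Cfsg.IrrCharacter G // χ ∈ B ∧ Cfsg.blockHeight 2 B (χ : G → ℂ) = 0} ≤ Nat.sqrt (Cfsg.blockRank 2 b) * 2 ^ Cfsg.blockDefect 2 b) ∧ (¬ Odd (Nat.sqrt (Cfsg.blockRank 2 b)) → (Nat.sqrt (Cfsg.blockRank 2 b) + 1) * Nat.card {χ : Cfsg.IrrCharacter G // χ ∈ B ∧ Cfsg.blockHeight 2 B (χ : G → ℂ) = 0} ≤ Cfsg.blockRank 2 b * 2 ^ Cfsg.blockDefect 2 b) ∧ (Cfsg.blockRank 2 b ≤ 3 → Nat.card {χ : Cfsg.IrrCharacter G // χ ∈ B ∧ Cfsg.blockHeight 2 B (χ : G → ℂ) = 0} ≤ 2 ^ Cfsg.blockDefect 2 b) := by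
  haveI : PMod M 2 := ⟨hM⟩
  classical
  obtain ⟨t, ⟨r, rfl⟩, h1, h2⟩ := hb.exists_odd hu
  have h3 : Nat.card {χ : IrrCharacter G // χ ∈ B ∧ blockHeight 2 B (χ : G → ℂ) = 0} =
      ((fs B).filter fun χ : IrrCharacter G => blockHeight 2 B χ = 0).card := by
    rw [card_subtype_fs]; congr 1; ext; simp
  have h4 : 0 < blockRank 2 b := blockRank_pos (isInducedBlock_iff.1 hb).1.nonempty
  rw [h3]
  generalize ((fs B).filter fun χ : IrrCharacter G => blockHeight 2 B χ = 0).card = k at *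
  generalize 2 ^ blockDefect 2 b = q at *
  generalize blockRank 2 b = l at *
  have h5 := Nat.sqrt_le l
  have h6 := Nat.lt_succ_sqrt l
  have h7 : Odd l.sqrt → k ≤ l.sqrt * q := by
    rintro ⟨s, hs⟩
    rw [hs] at h5 h6 ⊢
    rcases le_or_gt r s with h | h
    · exact h1.trans (by gcongr)
    · refine Nat.le_of_mul_le_mul_left ?_ (show 0 < 2 * s + 3 by omega)
      calc _ ≤ (2 * r + 1) * k := Nat.mul_le_mul_right _ (by omega)
        _ ≤ l * q := h2
        _ ≤ (2 * s + 3) * (2 * s + 1) * q := by gcongr; nlinarith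
        _ = _ := mul_assoc _ _ _
  refine ⟨h7, fun h => ?_, fun h => ?_⟩
  · obtain ⟨s, hs⟩ := Nat.not_odd_iff_even.1 h
    rw [hs] at h5 h6 ⊢
    rcases le_or_gt s r with h | h
    · exact le_trans (Nat.mul_le_mul_right _ (by omega)) h2
    · calc _ ≤ (s + s + 1) * ((2 * r + 1) * q) := by gcongr
        _ = (s + s + 1) * (2 * r + 1) * q := (mul_assoc _ _ _).symm
        _ ≤ _ := by gcongr; nlinarith
  · have h8 : l.sqrt = 1 := by interval_cases l <;> norm_num
    simpa [h8] using h7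

end Cfsg.Agent.S4541
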