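import Cfsg.Statements.S4549
import Cfsg.Agent.Lib.Block.Res
import Cfsg.Agent.Lib.Block.Gal
import Cfsg.Agent.Lib.Char.Glaub

set_option autoImplicit false
open Cfsg

namespace Cfsg.Agent.S4549

open Cfsg.Agent.Blk
open Cfsg.Agent.Char hiding cj cj_mul cj_inv_cj cj_cj_inv
open scoped Classical in
theorem gal_thm {G : Type*} [Group G] [Finite G] {p : ℕ} [hp : Fact p.Prime] (M : Ideal AlgInt) [PMod M p]
    (σ : ℂ ≃+* ℂ) {e : ℕ}
    (hσ : (irrGalois σ : Equiv.Perm (IrrCharacter (pResidual p G))) ^ p ^ e = 1)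
    (h : ∀ χ ∈ principalBlock M G, ¬ p ∣ charDegree χ.1 → irrGalois σ χ = χ → charDegree χ.1 = 1) :
    HasNormalPComplement p G := by
  rw [Transfer.hasNPC_iff_not_dvd]
  intro hd
  obtain ⟨n, hn⟩ := Transfer.index_pResidual (p := p) (G := G)
  set N := pResidual p G with hN
  have hNN : pResidual p N = ⊤ := pResidual_res_top
  set A : Set (IrrCharacter G) := {χ | χ ∈ principalBlock M G ∧ ∀ x : N, σ (χ.1 x) = χ.1 x}
  set b : Set (IrrCharacter N) := {θ | θ ∈ principalBlock M N ∧ irrGalois σ θ = θ}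
  have hfix : ∀ θ : IrrCharacter N, irrGalois σ θ = θ ↔ ∀ x, σ (θ.1 x) = θ.1 x := fun θ =>
    ⟨fun h x => by rw [← gal_apply, h], fun h => Subtype.ext (funext h)⟩
  have hA : ∀ (χ : IrrCharacter G) (θ : IrrCharacter N), (∀ x : N, χ.1 x = θ.1 x) → (χ ∈ A ↔ θ ∈ b) := by
    intro χ θ h
    refine and_congr (mem_principal_iff_of_index hn (by rw [em_of_res_self h]; exact one_ne_zero)) ?_
    simp only [hfix, h]
  have h1 := sum_sq_modEq (p := p) rfl A b (fun g θ => and_congr (icj_mem_principal_iff g) (by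
    rw [gal_icj]
    refine ⟨fun h => ?_, fun h => by rw [h]⟩
    have := congrArg (icj (pResidual p G) g⁻¹) h
    rwa [← icj_mul, ← icj_mul, mul_inv_cancel, icj_one, icj_one] at this)) hA
  let L : Subgroup (G →* ℂˣ) :=
    { carrier := {l | ilc l ∈ A}
      one_mem' := ⟨irrOne_mem_principal, fun x => by simp⟩
      mul_mem' := fun {a b} ha hb => ⟨(linP G M).mul_mem ha.1 hb.1, fun x => by
        have h1 := ha.2 x
        have h2 := hb.2 x
        simp only [ilc_apply] at h1 h2 ⊢
        simp [h1, h2]⟩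
      inv_mem' := fun {a} ha => ⟨(linP G M).inv_mem ha.1, fun x => by
        have h1 := ha.2 x
        simp only [ilc_apply] at h1 ⊢
        simp [h1]⟩ }
  rw [sum_sq_eq_card_pregSub (L := L) (fun _ => Iff.rfl) (fun χ hχ hdeg => by
    obtain ⟨θ, hθ⟩ := exists_res_of_not_dvd hn hdeg
    have hb := (hA χ θ hθ).1 hχ
    have h7 : ¬ p ∣ charDegree θ.1 := deg_eq_of_res hθ ▸ hdeg
    obtain ⟨ψ, ⟨h8, h9⟩, hu⟩ := existsUnique_canon hn (icj_eq_of_res hθ) h7
      (not_dvd_detOrder hNN θ.2.isCharacter)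
    have h10 : irrGalois σ ψ = ψ := hu _ ⟨fun hd => h8 (hd.trans
      (ψ.2.isCharacter.detOrder_map_dvd (σ : ℂ →+* ℂ))), fun x => by
        rw [gal_apply, h9, (hfix θ).1 hb.2]⟩
    rw [deg_eq_of_res hθ, ← deg_eq_of_res h9]
    exact h ψ ((hA ψ θ h9).2 hb).1 (deg_eq_of_res h9 ▸ h7) h10)] at h1
  refine not_dvd_card_pregSub p _ ((h1.dvd_iff dvd_rfl).1 ?_)
  have h2 := modEq_sum_fixed (p := p) _ hσ
    (fun θ => if θ ∈ principalBlock M N then charDegree θ.1 ^ 2 else 0)
    (fun θ => by simp only [gal_mem_principal_iff, charDegree_gal])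
  have h3 := (isPBlock_principal (M := M) (G := N)).isUB.dvd_sum_sq hd
  have h4 : ∑ θ ∈ fs (principalBlock M N), charDegree θ.1 ^ 2 =
      ∑ θ, if θ ∈ principalBlock M N then charDegree θ.1 ^ 2 else 0 := by
    rw [← Finset.sum_filter]
    exact Finset.sum_congr (by ext; simp) fun _ _ => rfl
  rw [h4, h2.dvd_iff dvd_rfl, ← Finset.sum_filter, Finset.filter_filter] at h3
  convert h3 using 2
  ext θ
  simp only [b, mem_fs, Set.mem_setOf_eq, Finset.mem_filter, Finset.mem_univ, true_and, and_comm]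
  exact Iff.rfl

/-- Let G be a finite group and M a maximal ideal of the algebraic integers containing 2. Let k be a natural number with g ^ k = g ^ 3 for every 2-element g and g ^ k = g for every element g of odd order (such k exist); an irreducible character χ is unchanged by g ↦ g ^ k exactly when it is fixed by the field automorphism that cubes the 2-power roots of unity and fixes the roots of unity of odd order. Then G has a normal 2-complement if and only if every member χ of the principal 2-block of odd degree with χ (g ^ k) = χ g for all g has degree one. -/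
theorem result {G : Type*} [Group G] [Finite G] (M : Ideal Cfsg.AlgInt) (hM : Cfsg.IsPModular 2 M) (k : ℕ) (hk₁ : ∀ g : G, (∃ j : ℕ, orderOf g = 2 ^ j) → g ^ k = g ^ 3) (hk₂ : ∀ g : G, Odd (orderOf g) → g ^ k = g) : Cfsg.HasNormalPComplement 2 G ↔ ∀ χ ∈ Cfsg.principalBlock M G, Odd (Cfsg.charDegree (χ : G → ℂ)) → (∀ g : G, (χ : G → ℂ) (g ^ k) = (χ : G → ℂ) g) → Cfsg.charDegree (χ : G → ℂ) = 1 := by
  haveI : PMod M 2 := ⟨hM⟩
  haveI : Fact (Nat.Prime 2) := ⟨Nat.prime_two⟩
  constructor
  · intro h χ hχ h0 _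
    rw [Transfer.hasNPC_iff_not_dvd] at h
    obtain ⟨n, hn⟩ := Transfer.index_pResidual (p := 2) (G := G)
    have h1 := le_charKer_of_principal h hχ
    obtain ⟨θ, hθ⟩ := exists_res_of_not_dvd hn (Odd.not_two_dvd_nat h0)
    have h2 := eq_of_res_of_em hθ (em_irrOne_ne_zero_iff.2 h1)
    rw [deg_eq_of_res hθ, ← h2, charDegree_irrOne]
  · intro h
    have hk : k.Coprime (Nat.card G) := by
      refine Nat.coprime_of_dvd fun q hq h1 h2 => ?_
      haveI := Fact.mk hq
      obtain ⟨g, hg⟩ := exists_prime_orderOf_dvd_card' q h2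
      have h3 : g ^ k = 1 := orderOf_dvd_iff_pow_eq_one.1 (hg ▸ h1)
      rcases hq.eq_two_or_odd' with rfl | h4
      · rw [hk₁ g ⟨1, by simpa using hg⟩, ← orderOf_dvd_iff_pow_eq_one, hg] at h3
        omega
      · rw [hk₂ g (hg ▸ h4)] at h3
        rw [h3, orderOf_one] at hg
        exact hq.one_lt.ne hg
    obtain ⟨σ, hσ⟩ := exists_gal_pow Nat.card_pos.ne' hk
    set a := (Nat.card G).factorization 2
    have hpow : ∀ (m : ℕ) (g : G), (∃ j : ℕ, orderOf g = 2 ^ j) → g ^ k ^ m = g ^ 3 ^ m := by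
      intro m g hg
      induction m with
      | zero => simp
      | succ m ih =>
        rw [pow_succ, pow_mul, ih, ← pow_mul, mul_comm, pow_mul, hk₁ g hg, ← pow_mul, pow_succ']
    have hpow' : ∀ (m : ℕ) (g : G), Odd (orderOf g) → g ^ k ^ m = g := by
      intro m g hg
      induction m with
      | zero => simp
      | succ m ih => rw [pow_succ, pow_mul, ih, hk₂ g hg]
    have hall : ∀ g : G, g ^ k ^ 2 ^ a = g := by
      intro g
      obtain ⟨x, hx⟩ := exists_isPPart 2 g
      have h1 : g = x * (x⁻¹ * g) := by group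
      have h2 : Commute x (x⁻¹ * g) := (Commute.refl x).inv_right.mul_right hx.commute
      have h3 : x ^ 3 ^ 2 ^ a = x := by
        obtain ⟨j, hj⟩ := hx.pelt
        have h4 : j ≤ a := by
          have := orderOf_dvd_natCard x
          rw [hj] at this
          exact (Nat.prime_two.pow_dvd_iff_le_factorization Nat.card_pos.ne').1 this
        have h5 : 3 ^ 2 ^ a ≡ 1 [MOD 2 ^ j] := by
          have h6 := Nat.ModEq.pow_totient (x := 3) (n := 2 ^ j)
            (Nat.Coprime.pow_right _ (by norm_num))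
          have h7 : Nat.totient (2 ^ j) ∣ 2 ^ a := by
            rcases j with _ | j
            · simp
            · rw [Nat.totient_prime_pow_succ Nat.prime_two]
              simpa using pow_dvd_pow 2 (by omega)
          obtain ⟨c, hc⟩ := h7
          rw [hc, pow_mul]
          simpa using h6.pow c
        rw [← hj] at h5
        simpa using pow_eq_pow_iff_modEq.2 h5
      rw [h1, h2.mul_pow, hpow _ _ hx.pelt, h3,
        hpow' _ _ (Nat.odd_iff.2 (Nat.two_dvd_ne_zero.1 hx.preg))]
    refine gal_thm M σ (e := a) ?_ fun χ hχ h1 h2 =>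
      h χ hχ (Nat.odd_iff.2 (Nat.two_dvd_ne_zero.1 h1)) ((gal_eq_iff_pow hσ dvd_rfl χ).1 h2)
    have h5 : ∀ (m : ℕ) (θ : IrrCharacter (pResidual 2 G)) (g : pResidual 2 G),
        (((irrGalois σ : Equiv.Perm (IrrCharacter (pResidual 2 G))) ^ m) θ).1 g = θ.1 (g ^ k ^ m) := by
      intro m θ
      induction m with
      | zero => simp
      | succ m ih =>
        intro g
        rw [pow_succ', Equiv.Perm.mul_apply,
          gal_apply_pow_card hσ (Subgroup.card_subgroup_dvd_card _), ih, ← pow_mul, pow_succ']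
    ext θ g
    rw [h5]
    exact congrArg θ.1 (Subtype.ext (hall g))

end Cfsg.Agent.S4549
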