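import Cfsg.Statements.S4550
import Cfsg.Agent.Lib.Block.Fix

set_option autoImplicit false
open Cfsg

namespace Cfsg.Agent.S4550

open Cfsg.Agent.Blk
open Cfsg.Agent.Char hiding cj cj_mul cj_inv_cj cj_cj_inv

/-- Let G be a finite group of even order and M a maximal ideal of the algebraic integers containing 2. Let k be a natural number with g ^ k = g ^ 3 for every 2-element g and g ^ k = g for every element g of odd order (such k exist); an irreducible character χ is unchanged by g ↦ g ^ k exactly when it is fixed by the field automorphism that cubes the 2-power roots of unity and fixes the roots of unity of odd order. Then the number of members χ of the principal 2-block of odd degree with χ (g ^ k) = χ g for all g is even. -/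
theorem result {G : Type*} [Group G] [Finite G] (M : Ideal Cfsg.AlgInt) (hM : Cfsg.IsPModular 2 M) (hev : Even (Nat.card G)) (k : ℕ) (hk₁ : ∀ g : G, (∃ j : ℕ, orderOf g = 2 ^ j) → g ^ k = g ^ 3) (hk₂ : ∀ g : G, Odd (orderOf g) → g ^ k = g) : Even (Nat.card {χ : Cfsg.IrrCharacter G // χ ∈ Cfsg.principalBlock M G ∧ Odd (Cfsg.charDegree (χ : G → ℂ)) ∧ ∀ g : G, (χ : G → ℂ) (g ^ k) = (χ : G → ℂ) g}) := by
  haveI : PMod M 2 := ⟨hM⟩
  classical
  have := Fact.mk Nat.prime_two
  have hk : k.Coprime (Nat.card G) := by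
    rw [Nat.coprime_comm]
    refine Nat.coprime_of_dvd fun q hq h1 h2 => ?_
    have := Fact.mk hq
    obtain ⟨g, hg⟩ := exists_prime_orderOf_dvd_card' q h1
    have h3 : g ^ k = 1 := orderOf_dvd_iff_pow_eq_one.1 (hg ▸ h2)
    rcases hq.eq_two_or_odd' with rfl | h4
    · rw [hk₁ g ⟨1, by simpa using hg⟩, ← orderOf_dvd_iff_pow_eq_one, hg] at h3
      omega
    · rw [hk₂ g (hg ▸ h4)] at h3
      rw [h3, orderOf_one] at hg
      exact hq.one_lt.ne hg
  obtain ⟨σ, hσ⟩ := exists_gal_pow (Nat.card_pos (α := G)).ne' hk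
  have hπ : ∀ g : G, g ^ k ^ 2 ^ (Nat.card G) = g := by
    intro g
    obtain ⟨x, hx⟩ := exists_isPPart 2 g
    have h3 : Commute x (x⁻¹ * g) := (Commute.refl x).inv_right.mul_right hx.commute
    have h4 : ∀ j, (x⁻¹ * g) ^ k ^ j = x⁻¹ * g := fun j => by
      induction j with
      | zero => simp
      | succ j ih =>
        rw [pow_succ, pow_mul, ih, hk₂ _ (Nat.odd_iff.2 (by have := hx.preg; omega))]
    have h5 : x ^ k ^ 2 ^ (Nat.card G) = x := by
      obtain ⟨j, hj⟩ := hx.pelt
      rcases Nat.eq_zero_or_pos j with rfl | hj0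
      · rw [pow_zero, orderOf_eq_one_iff] at hj; simp [hj]
      conv_rhs => rw [← pow_one x]
      rw [pow_eq_pow_iff_modEq, hj]
      have h6 : k.Coprime (2 ^ j) := hk.coprime_dvd_right (hj ▸ orderOf_dvd_natCard x)
      have h7 := Nat.ModEq.pow_totient h6
      rw [Nat.totient_prime_pow Nat.prime_two hj0] at h7
      have h8 : j - 1 ≤ Nat.card G := by
        have := Nat.le_of_dvd Nat.card_pos (hj ▸ orderOf_dvd_natCard x)
        have := Nat.lt_two_pow_self (n := j)
        omega
      obtain ⟨c, hc⟩ := Nat.exists_eq_add_of_le h8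
      have h9 := h7.pow (2 ^ c)
      rwa [← pow_mul, one_pow, show 2 - 1 = 1 from rfl, mul_one, ← pow_add, ← hc] at h9
    conv_lhs => rw [show g = x * (x⁻¹ * g) by group, h3.mul_pow, h4, h5]
    group
  have h1 := modEq_card_fixed (p := 2) _ (gal_pow_eq_one hσ dvd_rfl hπ)
    (fun χ => χ ∈ principalBlock M G ∧ Odd (charDegree χ.1))
    (fun χ => by rw [gal_mem_principal_iff, charDegree_gal])
  simp only [gal_eq_iff_pow hσ dvd_rfl, and_assoc] at h1
  rw [even_iff_two_dvd, ← h1.dvd_iff dvd_rfl, card_subtype_fs]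
  have := Fintype.ofFinite G
  have h2 := (isPBlock_principal (M := M) (G := G)).factorization_sum_sq
  rw [defect_principal] at h2
  have h3 : 0 < (Nat.card G).factorization 2 :=
    Nat.prime_two.factorization_pos_of_dvd Nat.card_pos.ne' hev.two_dvd
  have h4 : 2 ∣ ∑ χ ∈ fs (principalBlock M G), charDegree χ.1 ^ 2 :=
    Nat.dvd_of_factorization_pos (by omega)
  rw [← even_iff_two_dvd, Finset.even_sum_iff_even_card_odd] at h4
  rw [← even_iff_two_dvd]
  refine (congrArg (fun s => Even (Finset.card s)) ?_).mpr h4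
  ext χ
  simp [Nat.odd_pow_iff]

end Cfsg.Agent.S4550
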