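import Cfsg.Statements.S4552
import Cfsg.Agent.Lib.Block.Glue

set_option autoImplicit false
open Cfsg

namespace Cfsg.Agent.S4552

open Cfsg.Agent.Blk
open Cfsg.Agent.Char hiding cj cj_mul cj_inv_cj cj_cj_inv

/-- Let B be a 2-block of the finite group G (relative to a maximal ideal M of the algebraic integers containing 2) whose defect group D is the direct product of two cyclic groups of the same order 2 ^ m, m ≥ 2. Then either B has 2-regular rank one and exactly 4 ^ m irreducible characters, or B has 2-regular rank three and exactly (4 ^ m + 8) / 3 irreducible characters. -/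
theorem result {G : Type*} [Group G] [Finite G] (M : Ideal Cfsg.AlgInt) (hM : Cfsg.IsPModular 2 M) (B : Set (Cfsg.IrrCharacter G)) (hB : Cfsg.IsPBlock M B) (D : Subgroup G) (hD : Cfsg.IsDefectGroup 2 M B D) (m : ℕ) (hm : 2 ≤ m) (hiso : Nonempty (D ≃* Multiplicative (ZMod (2 ^ m) × ZMod (2 ^ m)))) : (Cfsg.blockRank 2 B = 1 ∧ Nat.card B = 4 ^ m) ∨ (Cfsg.blockRank 2 B = 3 ∧ 3 * Nat.card B = 4 ^ m + 8) := by
  haveI : PMod M 2 := ⟨hM⟩
  haveI : Fact (Nat.Prime 2) := ⟨Nat.prime_two⟩
  obtain ⟨κ⟩ := hiso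
  obtain ⟨e, he⟩ := hB.exists_mp (hB.isDefectGroup_iff.1 hD)
  obtain ⟨hf, h1⟩ := he.fa_of_omega_four (fun x hx => mem_Ce.2 fun y hy =>
    congrArg Subtype.val (homo_comm κ ⟨y, hy⟩ ⟨x, hx⟩)) (homo_omega (by omega) κ)
  have h2 := homo_card κ
  have h3 : 1 < 4 ^ m := Nat.one_lt_pow (by omega) (by norm_num)
  have h4 := (hf.counts fun h => by simp [h] at h2; omega).2.2.2 (by omega)
  have h5 := hf.card_eq_rank
  rw [card_fs]
  rw [h4, h2] at h5
  refine h1.imp (fun h => ?_) fun h => ?_ <;> rw [h] at h4 h5 <;> omega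

end Cfsg.Agent.S4552
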