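import Cfsg.Statements.S4553
import Cfsg.Agent.Lib.Block.AD

set_option autoImplicit false
open Cfsg

namespace Cfsg.Agent.S4553

open Cfsg.Agent.Blk
open Cfsg.Agent.Char hiding cj cj_mul cj_inv_cj cj_cj_inv

/-- Let G be a finite group, p a prime, P a Sylow p-subgroup, N the p-residual of G (the subgroup generated by the elements of order prime to p, the smallest normal subgroup with G/N a p-group), and M a maximal ideal of the algebraic integers containing p; suppose G/N is cyclic and nontrivial. Let k be a natural number with g ^ k = g ^ (1 + p) for every p-element g and g ^ k = g for every element g of order prime to p (so that χ (g ^ k) is the image of χ g under the field automorphism that raises p-power roots of unity to the power 1 + p and fixes the roots of unity of order prime to p). Then the number of members χ of the principal block of G of degree prime to p with χ (g ^ k) = χ g for all g equals p times the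 number of members θ of the principal block of N of degree prime to p that are invariant under conjugation by P and satisfy θ (n ^ k) = θ n for all n. -/
theorem result {G : Type*} [Group G] [Finite G] (p : ℕ) [Fact p.Prime] (M : Ideal Cfsg.AlgInt) (hM : Cfsg.IsPModular p M) (P : Sylow p G) (N : Subgroup G) [hN : N.Normal] (hNres : N = Cfsg.pResidual p G) (hcyc : IsCyclic (G ⧸ N)) (hnt : N ≠ ⊤) (k : ℕ) (hk₁ : ∀ g : G, (∃ j : ℕ, orderOf g = p ^ j) → g ^ k = g ^ (1 + p)) (hk₂ : ∀ g : G, Nat.Coprime (orderOf g) p → g ^ k = g) : Nat.card {χ : Cfsg.IrrCharacter G // χ ∈ Cfsg.principalBlock M G ∧ ¬ p ∣ Cfsg.charDegree (χ : G → ℂ) ∧ ∀ g : G, (χ : G → ℂ) (g ^ k) = (χ : G → ℂ) g} = p * Nat.card {θ : Cfsg.IrrCharacter ↥N // θ ∈ Cfsg.principalBlock M ↥N ∧ ¬ p ∣ Cfsg.charDegree (θ : ↥N → ℂ) ∧ (∀ x ∈ (P : Subgroup G), ∀ n : ↥N, (θ : ↥N → ℂ) ⟨x * n * x⁻¹, hN.conj_mem n n.2 x⟩ = (θ : ↥N → ℂ) n) ∧ ∀ n : ↥N, (θ : ↥N → ℂ) (n ^ k) = (θ :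 ↥N → ℂ) n} := by
  haveI : PMod M p := ⟨hM⟩
  classical
  have hp : p.Prime := Fact.out
  obtain ⟨n, hn⟩ : ∃ n, N.index = p ^ n := hNres ▸ Transfer.index_pResidual
  have hNP : N ⊔ P = ⊤ := hNres ▸ Transfer.pResidual_sup_sylow P
  have hNN : pResidual p N = ⊤ := hNres ▸ pResidual_res_top
  have hk : k.Coprime (Nat.card G) := by
    refine Nat.coprime_of_dvd fun q hq h1 h2 => ?_
    haveI := Fact.mk hq
    obtain ⟨g, hg⟩ := exists_prime_orderOf_dvd_card' q h2
    have h3 : g ^ k = 1 := orderOf_dvd_iff_pow_eq_one.1 (hg ▸ h1)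
    have h5 : g = 1 := by
      by_cases h4 : q = p
      · rwa [hk₁ g ⟨1, by simp [hg, h4]⟩, pow_add, ← h4, ← hg, pow_orderOf_eq_one, mul_one,
          pow_one] at h3
      · rwa [hk₂ g (hg ▸ (Nat.coprime_primes hq hp).2 h4)] at h3
    rw [h5, orderOf_one] at hg
    exact hq.one_lt.ne hg
  obtain ⟨σ, hσ⟩ := exists_gal_pow Nat.card_pos.ne' hk
  letI := IsCyclic.commGroup (α := G ⧸ N)
  let K : Subgroup G := (powMonoidHom p : G ⧸ N →* G ⧸ N).range.comap (QuotientGroup.mk' N)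
  have hab : commutator G ≤ N := by
    rw [← QuotientGroup.ker_mk' N]
    exact Abelianization.commutator_subset_ker _
  have hNK : N ≤ K := fun x hx => ⟨1, by simp [(QuotientGroup.eq_one_iff x).2 hx]⟩
  have hK : Nat.card (annih K) = p := by
    rw [card_annih (hab.trans hNK), Subgroup.index_comap_of_surjective _
      (QuotientGroup.mk'_surjective N), IsCyclic.index_powMonoidHom_range]
    refine Nat.gcd_eq_right ?_
    rw [← Subgroup.index, hn]
    exact dvd_pow_self _ fun h => hnt (Subgroup.index_eq_one.1 (by simp [hn, h]))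
  have hK' : ∀ l : G →* ℂˣ, l ∈ annih K ↔ (∀ x : N, l x = 1) ∧ ∀ g, l g ^ p = 1 := fun l => by
    refine ⟨fun h => ⟨fun x => mem_annih.1 h _ (hNK x.2), fun g => ?_⟩,
      fun h => mem_annih.2 fun x ⟨y, hy⟩ => ?_⟩
    · rw [← map_pow]
      exact mem_annih.1 h _ ⟨g, rfl⟩
    · obtain ⟨y, rfl⟩ := QuotientGroup.mk'_surjective N y
      have h1 : (y ^ p)⁻¹ * x ∈ N := QuotientGroup.eq.1 hy
      rw [← mul_inv_cancel_left (y ^ p) x, map_mul, map_pow, h.2, h.1 ⟨_, h1⟩, one_mul]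
  have hl : ∀ l : G →* ℂˣ, (∀ x : N, l x = 1) → ∀ g, l (g ^ k) = l g ^ p * l g := fun l h g => by
    obtain ⟨y, hy⟩ := exists_isPPart p g
    have h2 : Commute y (y⁻¹ * g) := (Commute.refl y).inv_right.mul_right hy.commute
    have h3 : l (y⁻¹ * g) = 1 := h ⟨_, preg_mem_of_index hn hy.preg⟩
    rw [← mul_inv_cancel_left y g, h2.mul_pow, hk₁ _ hy.pelt,
      hk₂ _ (hp.coprime_iff_not_dvd.2 hy.preg).symm, map_mul, map_mul l y, h3, map_pow, mul_one, mul_one,
      pow_add, pow_one, mul_comm]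
  set Θ := {θ : IrrCharacter ↥N // θ ∈ principalBlock M ↥N ∧ ¬ p ∣ charDegree (θ : ↥N → ℂ) ∧ (∀ x ∈ (P : Subgroup G), ∀ n : ↥N, (θ : ↥N → ℂ) ⟨x * n * x⁻¹, hN.conj_mem n n.2 x⟩ = (θ : ↥N → ℂ) n) ∧ ∀ n : ↥N, (θ : ↥N → ℂ) (n ^ k) = (θ : ↥N → ℂ) n}
  have h1 : ∀ θ : Θ, ∃ χ : IrrCharacter G, (∀ x : N, χ.1 x = θ.1.1 x) ∧ ∀ g, χ.1 (g ^ k) = χ.1 g := by
    rintro ⟨θ, -, h1, h2, h3⟩
    obtain ⟨ψ, ⟨h8, h9⟩, hu⟩ := existsUnique_canon hn
      (icj_eq_of_sup hNP fun x hx => Subtype.ext (funext (h2 x hx))) h1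
      (not_dvd_detOrder hNN θ.2.isCharacter)
    refine ⟨ψ, h9, (gal_eq_iff_pow hσ dvd_rfl ψ).1 (hu _ ⟨fun hd => h8 (hd.trans
      (ψ.2.isCharacter.detOrder_map_dvd (σ : ℂ →+* ℂ))), fun x => ?_⟩)⟩
    rw [gal_apply_pow_card hσ dvd_rfl, ← h3, ← h9]
    rfl
  choose e he he' using h1
  have hdeg : ∀ (l : G →* ℂˣ) (χ : G → ℂ), charDegree (fun g => l g * χ g) = charDegree χ :=
    fun l χ => by simp [charDegree]
  have hinj : ∀ (θ : Θ) (l l' : G →* ℂˣ), (∀ x : N, l x = 1) → (∀ x : N, l' x = 1) →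
      (∀ g, l g * (e θ).1 g = l' g * (e θ).1 g) → l = l' := fun θ l l' h1 h2 h3 =>
    lc_injective (eq_of_mul_eq_of_le_charKer (isIrr_lc l) (fun x hx g => by simp [h1 ⟨x, hx⟩])
      (isIrr_lc l') (fun x hx g => by simp [h2 ⟨x, hx⟩]) (e θ).2.isCharacter
      (isIrr_res_of_ext (he θ)) (funext h3))
  have hmem : ∀ x : annih K × Θ, (⟨_, (e x.2).2.mul_units x.1.1⟩ : IrrCharacter G) ∈ principalBlock M G ∧
      ¬ p ∣ charDegree (fun g => x.1.1 g * (e x.2).1 g) ∧ ∀ g : G,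
      x.1.1 (g ^ k) * (e x.2).1 (g ^ k) = x.1.1 g * (e x.2).1 g := fun x => by
    refine ⟨?_, ?_, fun g => ?_⟩
    · refine (mem_principal_iff_of_index hn ?_).2 x.2.2.1
      rw [em_of_res_self fun n => by simp [((hK' _).1 x.1.2).1, he]]
      exact one_ne_zero
    · rw [hdeg, deg_eq_of_res (he _)]
      exact x.2.2.2.1
    · simp only [hl _ ((hK' _).1 x.1.2).1, ((hK' _).1 x.1.2).2, one_mul, he']
  rw [show p * Nat.card Θ = Nat.card (annih K × Θ) by rw [Nat.card_prod, hK]]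
  refine (Nat.card_eq_of_bijective (fun x : annih K × Θ =>
    ⟨⟨_, (e x.2).2.mul_units x.1.1⟩, hmem x⟩) ⟨?_, ?_⟩).symm
  · rintro ⟨l, θ⟩ ⟨l', θ'⟩ h
    have h2 := congrFun (congrArg Subtype.val (congrArg Subtype.val h))
    obtain rfl : θ = θ' := Subtype.ext (Subtype.ext (funext fun x => by
      simpa [((hK' _).1 l.2).1, ((hK' _).1 l'.2).1, he] using h2 x))
    rw [show l = l' from Subtype.ext (hinj θ _ _ ((hK' _).1 l.2).1 ((hK' _).1 l'.2).1 h2)]
  · rintro ⟨χ, h1, h2, h3⟩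
    obtain ⟨θ, hθ⟩ := exists_res_of_not_dvd hn h2
    let θ' : Θ := ⟨θ, mem_principal_of_em h1 (by rw [em_of_res_self hθ]; exact one_ne_zero),
      deg_eq_of_res hθ ▸ h2, fun x _ n => congrFun (congrArg Subtype.val (icj_eq_of_res hθ x)) n,
      fun n => by rw [← hθ, ← hθ]; exact h3 n⟩
    obtain ⟨l, h4, h5⟩ := exists_lc_of_ext (e θ').2.isCharacter χ.2.isCharacter (he θ') hθ
    have h6 := hinj θ' (l ^ p * l) l (fun x => by simp [h4]) h4 fun g => by
      rw [← h5, ← h3, h5, hl l h4, he']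
      rfl
    refine ⟨⟨⟨l, (hK' l).2 ⟨h4, fun g => ?_⟩⟩, θ'⟩, Subtype.ext (Subtype.ext (funext h5).symm)⟩
    simpa using DFunLike.congr_fun h6 g

end Cfsg.Agent.S4553
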