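import Cfsg.Statements.S4563
import Cfsg.Agent.Lib.Block.FR
import Cfsg.Agent.S0006

set_option autoImplicit false
open Cfsg

namespace Cfsg.Agent.S4563

open Cfsg.Agent.Blk
open Cfsg.Agent.Char hiding cj cj_mul cj_inv_cj cj_cj_inv

/-- Let χ be an irreducible character of the finite group H that is fully ramified over the normal subgroup Z: the restriction of χ to Z is e times an irreducible character of Z with e ^ 2 equal to the index of Z. If K is a proper normal subgroup of H containing Z and χ is induced from a character of K, then H/K is solvable; in particular, if K is solvable then so is H. -/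
theorem result {H : Type*} [Group H] [Fintype H] (Z : Subgroup H) [Z.Normal] (χ : Cfsg.IrrCharacter H) (hfr : ∃ (θ : Cfsg.IrrCharacter ↥Z) (e : ℕ), e ^ 2 = Z.index ∧ ∀ z : ↥Z, (χ : H → ℂ) z = (e : ℂ) * (θ : ↥Z → ℂ) z) (K : Subgroup H) [K.Normal] [Fintype K] (hZK : Z ≤ K) (hK : K ≠ ⊤) (φ : ↥K → ℂ) (hφ : Cfsg.IsCharacter ↥K φ) (hind : Cfsg.indFun K φ = (χ : H → ℂ)) : Group.IsSolvable (H ⧸ K) ∧ (Group.IsSolvable ↥K → Group.IsSolvable H) := by
  obtain ⟨θ, e, h1, h2⟩ := hfr
  have h : FR Z χ θ e := ⟨h1, h2⟩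
  let φ' : IrrCharacter K := ⟨φ, hφ.isIrr_of_ind (hind ▸ χ.2)⟩
  have h3 : em K χ φ' ≠ 0 := by
    rw [← Nat.cast_ne_zero (R := ℂ), ← classInner_indFun_eq_em, hind, χ.2.classInner_self]
    exact one_ne_zero
  have h4 : K.index * charDegree φ = e * charDegree θ.1 := by
    have := indFun_one K φ
    rw [hind, ← χ.2.isCharacter.cast_charDegree, ← hφ.cast_charDegree, h.deg] at this
    exact_mod_cast this.symm
  have h5 : Group.IsSolvable (H ⧸ K) := S0006.result fun p hp => by
    haveI := Fact.mk hp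
    obtain ⟨M, h5, h6⟩ := h.exists_compl hZK p fun S hS ψ a ξ _ ⟨k, h5⟩ h6 _ h7 h8 h9 h10 => by
      have hL : Z ≤ S ⊓ K := le_inf hS hZK
      have h11 : charDegree ξ.1 ∣ charDegree φ'.1 := by
        rw [deg_eq_sum_em ((S ⊓ K).subgroupOf K)]
        refine Finset.dvd_sum fun η _ => ?_
        obtain ⟨η, rfl⟩ := (irrMap (Subgroup.subgroupOfEquivOfLe (inf_le_right : S ⊓ K ≤ K)).symm).surjective η
        by_cases h11 : em _ φ' (sgo inf_le_right η) = 0
        · simp [sgo] at h11; simp [h11]
        · rw [charDegree_irrMap, h8 η (em_ne_zero_trans inf_le_right h3 h11)]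
          exact dvd_mul_left _ _
      have h12 := h7.clifford (Subgroup.subgroupOf_mono S hL) h10
      simp only [sgo, charDegree_irrMap] at h12
      have hd := θ.2.charDegree_pos
      rw [h.deg_sub hL h9] at h11 h12
      generalize em _ ξ (sgo hL θ) = f at *
      rw [Subgroup.relIndex_subgroupOf inf_le_left, mul_pow, ← mul_assoc,
        Nat.mul_left_inj (pow_pos hd 2).ne'] at h12
      have h13 := Subgroup.relIndex_mul_relIndex Z _ S hL inf_le_left
      rw [Subgroup.inf_relIndex_left, ← h12] at h13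
      have h14 : K.relIndex S * f ∣ e := Nat.dvd_of_mul_dvd_mul_right hd (by
        rw [← h4, mul_assoc]; exact mul_dvd_mul (Subgroup.relIndex_dvd_index_of_normal K S) h11)
      have h15 := pow_dvd_pow_of_dvd h14 2
      rw [h1, ← Subgroup.relIndex_mul_index hS] at h15
      have h16 : (K.relIndex S * f).Coprime S.index := Nat.Coprime.coprime_dvd_left
        (show _ ∣ p ^ k from ⟨_ * f, by rw [← h5, ← h13]; ring⟩) ((hp.coprime_iff_not_dvd.2 h6).pow_left k)
      have h17 := (h16.pow_left 2).dvd_of_dvd_mul_right h15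
      have h18 : 0 < f ^ 2 * K.relIndex S := Nat.pos_of_mul_pos_left (b := _) (by
        rw [← mul_assoc, h13, h5]; exact pow_pos hp.pos k)
      exact Nat.le_of_dvd (Nat.pos_of_ne_zero Subgroup.index_ne_zero_of_finite)
        (Nat.dvd_of_mul_dvd_mul_right h18 (by convert h17 using 1; ring; rw [← h13, mul_assoc]; rfl))
    exact ⟨M.map (QuotientGroup.mk' K), (Subgroup.index_map_eq M (QuotientGroup.mk'_surjective K)
      (by rwa [QuotientGroup.ker_mk'])).trans h6⟩
  exact ⟨h5, fun _ => solvable_of_ker_le_range K.subtype (QuotientGroup.mk' K) (by simp)⟩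

end Cfsg.Agent.S4563
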