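import Cfsg.Statements.S4564
import Cfsg.Agent.Lib.Block.FR

set_option autoImplicit false
open Cfsg

namespace Cfsg.Agent.S4564

open Cfsg.Agent.Blk
open Cfsg.Agent.Char hiding cj cj_mul cj_inv_cj cj_cj_inv

/-- Let χ be an irreducible character of the finite group H that is fully ramified over the normal subgroup Z: the restriction of χ to Z is e times an irreducible character of Z with e ^ 2 equal to the index of Z. Let K be a normal subgroup of H containing Z and P a cyclic Sylow p-subgroup of H/K. Then P has a complement in H/K: a subgroup meeting P trivially whose product with P is the whole group. -/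
theorem result {H : Type*} [Group H] [Finite H] (Z : Subgroup H) [Z.Normal] (χ : Cfsg.IrrCharacter H) (hfr : ∃ (θ : Cfsg.IrrCharacter ↥Z) (e : ℕ), e ^ 2 = Z.index ∧ ∀ z : ↥Z, (χ : H → ℂ) z = (e : ℂ) * (θ : ↥Z → ℂ) z) (K : Subgroup H) [K.Normal] (hZK : Z ≤ K) (p : ℕ) [Fact p.Prime] (P : Sylow p (H ⧸ K)) (hcyc : IsCyclic P) : ∃ M : Subgroup (H ⧸ K), M.IsComplement' (P : Subgroup (H ⧸ K)) := by
  obtain ⟨θ, e, h1, h2⟩ := hfr
  obtain ⟨M, h3, h4⟩ := FR.exists_compl ⟨h1, h2⟩ hZK p fun S hS ψ a ξ _ _ _ h5 h6 _ _ h7 => by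
    obtain ⟨Q, hQ⟩ := h5.exists_le_sylow
    haveI := isCyclic_of_surjective _ (P.equiv Q).surjective
    haveI := isCyclic_quot_sub (Subgroup.isCyclic_of_le hQ)
    have := h6.index_le_of_cyclic (Subgroup.subgroupOf_mono S (le_inf hS hZK))
      (isCyclic_of_surjective _ (QuotientGroup.quotientMulEquivOfEq
        (Subgroup.inf_subgroupOf_left K S).symm).surjective) h7
    exact (Subgroup.inf_relIndex_left S K).ge.trans this
  have h5 := Subgroup.index_map_eq M (QuotientGroup.mk'_surjective K) (by rwa [QuotientGroup.ker_mk'])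
  rw [h4, K.index_eq_card, ← P.card_eq_multiplicity] at h5
  refine ⟨M.map (QuotientGroup.mk' K), Subgroup.isComplement'_of_coprime
    (by rw [← h5, Subgroup.card_mul_index]) ?_⟩
  have h6 := (M.map (QuotientGroup.mk' K)).card_mul_index
  rw [h5, ← (P : Subgroup (H ⧸ K)).index_mul_card, Nat.mul_left_inj Nat.card_pos.ne'] at h6
  rw [h6]
  exact P.card_coprime_index.symm

end Cfsg.Agent.S4564
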