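import Cfsg.Statements.S4565
import Cfsg.Agent.Lib.Block.FR

set_option autoImplicit false
open Cfsg

namespace Cfsg.Agent.S4565

open Cfsg.Agent.Blk
open Cfsg.Agent.Char hiding cj cj_mul cj_inv_cj cj_cj_inv

/-- Let χ be an irreducible character of the finite group H that is fully ramified over the normal subgroup Z: the restriction of χ to Z is e times an irreducible character of Z with e ^ 2 equal to the index of Z. If Z ≠ H, then H/Z has no cyclic subgroup that is its own centralizer. -/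
theorem result {H : Type*} [Group H] [Finite H] (Z : Subgroup H) [Z.Normal] (χ : Cfsg.IrrCharacter H) (hfr : ∃ (θ : Cfsg.IrrCharacter ↥Z) (e : ℕ), e ^ 2 = Z.index ∧ ∀ z : ↥Z, (χ : H → ℂ) z = (e : ℂ) * (θ : ↥Z → ℂ) z) (hZ : Z ≠ ⊤) (C : Subgroup (H ⧸ Z)) (hC : IsCyclic C) : Subgroup.centralizer (C : Set (H ⧸ Z)) ≠ C := by
  obtain ⟨θ, e, h1, h2⟩ := hfr
  have h : FR Z χ θ e := ⟨h1, h2⟩
  intro h3
  obtain ⟨g, rfl⟩ := C.isCyclic_iff_exists_zpowers_eq_top.1 hC
  obtain ⟨g, rfl⟩ := QuotientGroup.mk_surjective g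
  have hg : g ∉ Z := fun hg => by
    rw [(QuotientGroup.eq_one_iff g).2 hg, Subgroup.zpowers_one_eq_bot] at h3
    haveI := QuotientGroup.nontrivial_iff.2 hZ
    exact top_ne_bot (Ce_bot.symm.trans h3)
  classical
  let U := (Subgroup.zpowers (g : H ⧸ Z)).comap (QuotientGroup.mk' Z)
  have hU : Z ≤ U := fun z hz => Subgroup.mem_comap.2
    (by rw [QuotientGroup.mk'_apply, (QuotientGroup.eq_one_iff z).2 hz]; exact one_mem _)
  have := Fintype.ofFinite H
  have := Fintype.ofFinite U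
  have := Fintype.ofFinite (Z.subgroupOf U)
  obtain ⟨η, h4, h5⟩ := (sgo hU θ).2.exists_ext_of_cyclic (cj_eq_of_icj (h.inv_sgo hU)) (isCyclic_quot_sub (by
    rw [Subgroup.map_comap_eq_self_of_surjective (QuotientGroup.mk'_surjective Z)]; infer_instance))
  have h6 : IsIrrCharacter (Z.subgroupOf U) fun n => η n := funext h5 ▸ (sgo hU θ).2
  let g' : U := ⟨g, Subgroup.mem_zpowers _⟩
  let F : U → ℂ := fun u => if ((u : H) : H ⧸ Z) = g then η u else 0
  have h7 : ∀ x : H, x ∈ U ↔ (x : H ⧸ Z) * g * (x : H ⧸ Z)⁻¹ = g := fun x => by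
    rw [mul_inv_eq_iff_eq_mul, ← mem_Ce1, ← Ce_zpowers]
    exact (SetLike.ext_iff.1 h3 _).symm
  have hF : IsClassFunction U F := fun u v => by
    simp only [F, h4.isClassFunction u v, Subgroup.coe_mul, Subgroup.coe_inv, QuotientGroup.mk_mul,
      QuotientGroup.mk_inv]
    refine if_congr ⟨fun h8 => ?_, fun h8 => h8 ▸ (h7 v).1 v.2⟩ rfl rfl
    rwa [← (h7 v).1 v.2, mul_left_inj, mul_right_inj] at h8
  have h8 : ∀ ψ : U → ℂ, classInner ψ F = (Nat.card U : ℂ)⁻¹ *
      ∑ n : Z.subgroupOf U, ψ (n * g') * (starRingEnd ℂ) (η (n * g')) := fun ψ => by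
    rw [classInner]
    congr 1
    symm
    refine Finset.sum_of_injOn (fun n => (n : U) * g') (fun a _ b _ h => Subtype.ext (mul_right_cancel h))
      (fun _ _ => Finset.mem_univ _) (fun u _ hu => ?_) fun n _ => ?_
    · rw [show F u = 0 from if_neg fun h8 => hu ⟨⟨u * g'⁻¹, (QuotientGroup.eq_one_iff (N := Z) _).1
        (by simp [h8, g'])⟩, Finset.mem_coe.2 (Finset.mem_univ _), by simp⟩]
      simp
    · rw [show F (n * g') = _ from if_pos (by simp [g', Subgroup.mem_subgroupOf.1 n.2])]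
  have h9 : indFun U F = 0 := (isClassFunction_indFun U F).eq_zero_of_orthogonal fun ψ hψ => by
    rw [frobenius_left _ _ hψ.isClassFunction, classInner_eq_zero_comm]
    by_cases h9 : ψ = χ.1
    · rw [h8, Finset.sum_eq_zero, mul_zero]
      intro n _
      rw [h9, h.zero (g := (n * g' : U)) fun h => hg ((mul_mem_cancel_left (H := Z) n.2).1 h), zero_mul]
    rw [show (fun x : U => ψ x) = ∑ ξ : IrrCharacter U, (em U ⟨ψ, hψ⟩ ξ : ℂ) • ξ.1 from
      funext fun x => by simpa using res_eq_sum_em ⟨ψ, hψ⟩ x, classInner_sum_left]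
    refine Finset.sum_eq_zero fun ξ _ => ?_
    by_cases h10 : em U ⟨ψ, hψ⟩ ξ = 0
    · simp [h10]
    have h11 := coset_average_eq_zero ξ.2 h4.isCharacter h6 (by
      rw [funext h5, em_spec, Nat.cast_eq_zero]
      exact by_contra fun h11 => h9 (congrArg Subtype.val (h.eq_of_em (em_ne_zero_trans hU h10 h11)))) g'
    rw [mul_eq_zero_iff_left (inv_ne_zero (Nat.cast_ne_zero.2 Nat.card_pos.ne'))] at h11
    rw [classInner_smul_left, h8, h11, mul_zero, mul_zero]
  have h10 := coset_average_norm h4.isCharacter h6 g'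
  rw [Finset.sum_eq_zero, mul_zero] at h10
  · exact zero_ne_one h10
  intro n _
  have h11 : (((n * g' : U) : H) : H ⧸ Z) = g := by simp [g', Subgroup.mem_subgroupOf.1 n.2]
  have h12 := indFun_apply_of_TI U hF (n * g') fun x hx _ => if_neg fun h12 => hx ((h7 x).2 (by
    rwa [QuotientGroup.mk_mul, QuotientGroup.mk_mul, h11, QuotientGroup.mk_inv] at h12))
  rw [h9, show F (n * g') = _ from if_pos h11] at h12
  rw [← h12, Pi.zero_apply, zero_mul]

end Cfsg.Agent.S4565
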