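import Cfsg.Statements.S4566
import Cfsg.Agent.Lib.Block.Gal
import Cfsg.Agent.Lib.Char.Triple

set_option autoImplicit false
open Cfsg

namespace Cfsg.Agent.S4566

open Cfsg.Agent.Blk
open Cfsg.Agent.Char hiding cj cj_mul cj_inv_cj cj_cj_inv

/-- Let N be a central subgroup of the finite group G, ψ a faithful irreducible (hence degree-one) character of N, and χ an irreducible character of G whose restriction to N contains ψ. If g ∈ G and some x ∈ G has commutator x⁻¹ g⁻¹ x g in N but different from 1, then χ g = 0. -/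
theorem result {G : Type*} [Group G] [Fintype G] (N : Subgroup G) [Fintype N] (hN : N ≤ Subgroup.center G) (ψ : Cfsg.IrrCharacter ↥N) (hfaith : ∀ n : ↥N, (ψ : ↥N → ℂ) n = (ψ : ↥N → ℂ) 1 → n = 1) (χ : Cfsg.IrrCharacter G) (hover : Cfsg.classInner (fun n : ↥N => (χ : G → ℂ) n) (ψ : ↥N → ℂ) ≠ 0) (g x : G) (hcomm : x⁻¹ * g⁻¹ * x * g ∈ N) (hne : x⁻¹ * g⁻¹ * x * g ≠ 1) : (χ : G → ℂ) g = 0 := by
  have : N.Normal := normal_of_le_center hN
  have h1 : ψ.1 1 = 1 := ψ.2.apply_one_of_comm fun a b =>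
    Subtype.ext ((Subgroup.mem_center_iff.1 (hN b.2)) a)
  obtain ⟨ν, hν⟩ := ψ.2.isCharacter.exists_units_of_apply_one h1
  have hinv : ∀ g, Char.cj N g (fun n => (ν n : ℂ)) = fun n => (ν n : ℂ) := fun g => by
    ext n
    rw [cj_apply]
    congr 2
    ext
    simp [(Subgroup.mem_center_iff.1 (hN n.2)) g]
  rw [hν] at hover
  obtain ⟨h2, h3⟩ := χ.2.le_charCenter_of_over_units hinv hover
  have h4 := IsCharacter.apply_mul_of_mem_charCenter (h2 hcomm) g⁻¹
  rw [h3 ⟨_, hcomm⟩, show x⁻¹ * g⁻¹ * x * g * g⁻¹ = x⁻¹ * g⁻¹ * x by group,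
    χ.2.isClassFunction.apply_conj'] at h4
  have h5 : (ν ⟨_, hcomm⟩ : ℂ) ≠ 1 := fun h => hne (congrArg Subtype.val (hfaith ⟨_, hcomm⟩ (by
    rw [h1, hν]; exact h)))
  have h6 : χ.1 g⁻¹ * χ.1 1 * (1 - ν ⟨_, hcomm⟩) = 0 := by linear_combination h4
  rcases mul_eq_zero.1 h6 with h | h
  · rcases mul_eq_zero.1 h with h | h
    · rw [χ.2.isCharacter.apply_inv] at h; simpa using h
    · exact absurd h χ.2.apply_one_ne_zero
  · exact absurd (sub_eq_zero.1 h).symm h5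

end Cfsg.Agent.S4566
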