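import Cfsg.Statements.S4567
import Cfsg.Agent.Lib.Block.FR

set_option autoImplicit false
open Cfsg

namespace Cfsg.Agent.S4567

open Cfsg.Agent.Blk
open Cfsg.Agent.Char hiding cj cj_mul cj_inv_cj cj_cj_inv

/-- Let N be a central subgroup of the finite group G and ψ a faithful irreducible (hence degree-one) character of N. Call a coset g N special when every x ∈ G whose commutator x⁻¹ g⁻¹ x g lies in N actually commutes with g (this depends only on the coset). Then the number of irreducible characters of G whose restriction to N contains ψ equals the number of conjugacy classes of G/N consisting of special cosets. -/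
theorem result {G : Type*} [Group G] [Fintype G] (N : Subgroup G) [N.Normal] [Fintype N] (hN : N ≤ Subgroup.center G) (ψ : Cfsg.IrrCharacter ↥N) (hfaith : ∀ n : ↥N, (ψ : ↥N → ℂ) n = (ψ : ↥N → ℂ) 1 → n = 1) : Nat.card {χ : Cfsg.IrrCharacter G // Cfsg.classInner (fun n : ↥N => (χ : G → ℂ) n) (ψ : ↥N → ℂ) ≠ 0} = Nat.card {C : ConjClasses (G ⧸ N) // ∃ g : G, ConjClasses.mk (g : G ⧸ N) = C ∧ ∀ x : G, x⁻¹ * g⁻¹ * x * g ∈ N → x * g = g * x} := by
  classical
  have hc : ∀ n : N, ∀ g : G, g * n = n * g := fun n g => Subgroup.mem_center_iff.1 (hN n.2) g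
  obtain ⟨l, rfl⟩ := (lcEquiv fun a b : N => Subtype.ext (hc b a)).surjective ψ
  simp only [lcEquiv_apply, lc_apply, map_one, Units.val_one] at hfaith ⊢
  let S : G → Prop := fun g => ∀ x : G, x⁻¹ * g⁻¹ * x * g ∈ N → x * g = g * x
  have h1 : ∀ χ : IrrCharacter G, ∑ g, ∑ n : N, (starRingEnd ℂ) (l n) * (χ.1 (g * n) * (starRingEnd ℂ) (χ.1 g)) =
      Nat.card G * Nat.card N * if classInner (fun n : N => χ.1 n) (lc l) ≠ 0 then 1 else 0 := fun χ => by
    have h1 : ∀ n : N, ∑ g, χ.1 (g * n) * (starRingEnd ℂ) (χ.1 g) = Nat.card G * χ.1 n / χ.1 1 := fun n => by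
      simpa [mul_comm] using χ.2.sum_conj_mul_apply_mul χ.2 n
    have h2 : ∑ n : N, χ.1 n * (starRingEnd ℂ) (l n) =
        Nat.card N * classInner (fun n : N => χ.1 n) (lc l) := by
      rw [classInner, mul_inv_cancel_left₀ (Nat.cast_ne_zero.2 Nat.card_pos.ne')]
    rw [Finset.sum_comm]
    simp only [← Finset.mul_sum, h1]
    rw [Finset.sum_congr rfl fun (n : N) _ => show _ = Nat.card G / χ.1 1 * (χ.1 n * (starRingEnd ℂ) (l n)) by ring,
      ← Finset.mul_sum, h2]
    split_ifs with h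
    · have := congrFun (χ.2.res_eq_smul_of_invariant (isIrr_lc l) (fun g => funext fun n => congrArg (lc l)
        (Subtype.ext (by simp [hc n g]))) h) 1
      simp only [OneMemClass.coe_one, Pi.smul_apply, lc_apply, map_one, Units.val_one, smul_eq_mul,
        mul_one] at this
      have h0 := χ.2.apply_one_ne_zero
      rw [← this]
      field_simp
    · simp [not_not.1 h]
  have h2 : ∀ g : G, ∑ n : N, (if IsConj (g * n) g then (starRingEnd ℂ) (l n) else 0) = if S g then 1 else 0 := by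
    intro g
    split_ifs with h
    · rw [Finset.sum_eq_single 1 (fun n _ hn => if_neg fun h2 => hn ?_) (by simp)]
      · simp [-isConj_iff, IsConj.refl]
      obtain ⟨x, hx⟩ := isConj_iff.1 h2
      have h3 : x⁻¹ * g⁻¹ * x * g = (n : G)⁻¹ := by
        conv_lhs => lhs; rw [← hx]
        simp [mul_assoc]
      have h4 := h x (h3 ▸ inv_mem n.2)
      rw [mul_assoc, mul_assoc, h4, inv_mul_cancel_left, inv_mul_cancel] at h3
      exact Subtype.ext (inv_eq_one.1 h3.symm)
    · simp only [S, not_forall] at h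
      obtain ⟨x, h3, h4⟩ := h
      refine eq_zero_of_mul_eq_self_left (b := (starRingEnd ℂ) (l ⟨_, h3⟩)) (fun h5 => h4 ?_) ?_
      · have := congrArg Subtype.val (hfaith _ ((map_eq_one_iff _ (RingHom.injective _)).1 h5))
        simpa [mul_assoc, inv_mul_eq_iff_eq_mul] using this
      rw [Finset.mul_sum]
      refine Fintype.sum_equiv (Equiv.mulLeft ⟨_, h3⟩) _ _ fun n => ?_
      have h5 : IsConj (g * (x⁻¹ * g⁻¹ * x * g * n)) (g * n) := isConj_iff.2 ⟨x⁻¹, by
        have := hc (⟨_, h3⟩ * n) x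
        rw [inv_inv, mul_assoc, mul_assoc g]
        simp only [Subgroup.coe_mul] at this
        rw [← this]
        group⟩
      simp only [Equiv.coe_mulLeft, Subgroup.coe_mul, map_mul, Units.val_mul, mul_ite, mul_zero]
      exact if_congr ⟨h5.trans, h5.symm.trans⟩ rfl rfl
  have h3 := Finset.sum_congr rfl fun χ (_ : χ ∈ Finset.univ) => h1 χ
  rw [Finset.sum_comm, ← Finset.mul_sum, Finset.sum_boole] at h3
  have h4 : ∀ g : G, ∑ χ : IrrCharacter G, ∑ n : N, (starRingEnd ℂ) (l n) * (χ.1 (g * n) *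
      (starRingEnd ℂ) (χ.1 g)) = Nat.card N * ((if ∃ y : G, ConjClasses.mk (y : G ⧸ N) =
        ConjClasses.mk (QuotientGroup.mk' N g) ∧ S y then Nat.card (Ce1 (QuotientGroup.mk' N g)) else 0 : ℕ) : ℂ) := by
    intro g
    rw [Finset.sum_comm]
    simp only [← Finset.mul_sum, column_orthogonality]
    rw [Finset.sum_congr rfl fun (n : N) _ => show _ = (Nat.card (Ce1 g) : ℂ) *
      if IsConj (g * n) g then (starRingEnd ℂ) (l n) else 0 from ?_, ← Finset.mul_sum, h2]
    · by_cases h : S g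
      · rw [if_pos h, if_pos ⟨g, rfl, h⟩, mul_comm (Nat.card N : ℂ), ← Nat.cast_mul, ← Solv.card_comap_mk, mul_one]
        congr 3
        ext x
        refine ⟨fun hx => mem_Ce1.2 (congrArg (QuotientGroup.mk' N) (mem_Ce1.1 hx)), fun hx => mem_Ce1.2
          (h x ((QuotientGroup.eq_one_iff _).1 ?_))⟩
        have : (x : G ⧸ N) * g = g * x := mem_Ce1.1 hx
        simp [mul_assoc, this]
      · rw [if_neg h, if_neg, mul_zero, Nat.cast_zero, mul_zero]
        rintro ⟨y, h4, h5⟩
        obtain ⟨c, h4⟩ := isConj_iff.1 (ConjClasses.mk_eq_mk_iff_isConj.1 h4)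
        obtain ⟨c, rfl⟩ := QuotientGroup.mk_surjective c
        obtain ⟨n, hn⟩ : ∃ n : N, g = c * y * c⁻¹ * n := ⟨⟨_, QuotientGroup.eq.1 h4⟩, (mul_inv_cancel_left _ _).symm⟩
        refine h fun x hx => ?_
        have h6 := h5 (c⁻¹ * x * c) ((QuotientGroup.eq_one_iff _).1 (by
          have := (QuotientGroup.eq_one_iff _).2 hx
          simp only [QuotientGroup.mk_mul, QuotientGroup.mk_inv] at this ⊢
          rw [← show _ = (g : G ⧸ N) from h4] at this
          calc _ = (c : G ⧸ N)⁻¹ * ((x : G ⧸ N)⁻¹ * (c * y * (c : G ⧸ N)⁻¹)⁻¹ * x * (c * y * (c : G ⧸ N)⁻¹)) * c := by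
                group
            _ = 1 := by rw [this, mul_one, inv_mul_cancel]))
        rw [hn, ← mul_assoc x, mul_assoc _ (n : G), ← hc n x, ← mul_assoc _ x, mul_left_inj]
        calc x * (c * y * c⁻¹) = c * (c⁻¹ * x * c * y) * c⁻¹ := by group
          _ = _ := by rw [h6]; group
    · split_ifs with h
      · obtain ⟨c, hc⟩ := isConj_iff.1 h
        rw [mul_comm, ← Transfer.card_centralizer_conj c, hc]
      · simp
  have h5 : (∑ q : G ⧸ N, if ∃ y : G, ConjClasses.mk (y : G ⧸ N) = ConjClasses.mk q ∧ S y then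
      Nat.card (Ce1 q) else 0) = Nat.card (G ⧸ N) *
        Nat.card {C // ∃ y : G, ConjClasses.mk (y : G ⧸ N) = C ∧ S y} := by
    convert sum_ite_card_centralizer fun C => ∃ y : G, ConjClasses.mk (y : G ⧸ N) = C ∧ S y
  rw [Finset.sum_congr rfl fun g _ => h4 g, ← Finset.mul_sum, sum_comp_surjective _
    (QuotientGroup.mk'_surjective N) (fun q => ((if ∃ y : G, ConjClasses.mk (y : G ⧸ N) =
      ConjClasses.mk q ∧ S y then Nat.card (Ce1 q) else 0 : ℕ) : ℂ)), ← Nat.cast_sum,
    h5, QuotientGroup.ker_mk',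
    Subgroup.card_eq_card_quotient_mul_card_subgroup N] at h3
  rw [Nat.card_eq_fintype_card, Fintype.card_subtype]
  norm_cast at h3
  refine Nat.eq_of_mul_eq_mul_left (Nat.mul_pos (Nat.mul_pos (Nat.card_pos (α := G ⧸ N))
    (Nat.card_pos (α := N))) (Nat.card_pos (α := N))) (h3.symm.trans (by ring))

end Cfsg.Agent.S4567
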