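import Cfsg.Statements.S4571
import Cfsg.Agent.Lib.Block.Quot

set_option autoImplicit false
open Cfsg

namespace Cfsg.Agent.S4571

open Cfsg.Agent.Blk
open Cfsg.Agent.Char hiding cj cj_mul cj_inv_cj cj_cj_inv

/-- Let Q be a normal p-subgroup of the finite group G with G = Q·C_G(Q), and M a maximal ideal of the algebraic integers containing p. Then the principal p-blocks of G and of G/Q have the same p-regular rank (the same number of irreducible Brauer characters). -/
theorem result {G : Type*} [Group G] [Finite G] (p : ℕ) [Fact p.Prime] (M : Ideal Cfsg.AlgInt) (hM : Cfsg.IsPModular p M) (Q : Subgroup G) [Q.Normal] (hQ : IsPGroup p Q) (hsup : Q ⊔ Subgroup.centralizer (Q : Set G) = ⊤) : Cfsg.blockRank p (Cfsg.principalBlock M G) = Cfsg.blockRank p (Cfsg.principalBlock M (G ⧸ Q)) := by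
  haveI : PMod M p := ⟨hM⟩
  have hφ := QuotientGroup.mk'_surjective Q
  have hP' : IsPGroup p (QuotientGroup.mk' Q).ker := by rwa [QuotientGroup.ker_mk']
  have h1 : ∀ g, ¬ p ∣ orderOf g → g ∈ Ce (QuotientGroup.mk' Q).ker := fun g hg => by
    rw [QuotientGroup.ker_mk']
    obtain ⟨n, hn⟩ := relIndex_sup_pow hQ (le_No_of_normal Q (Ce Q))
    rw [hsup, Subgroup.relIndex_top_right] at hn
    exact mem_of_preg_of_index hn hg
  rw [← preimage_principal hφ (exists_lift_top_of_preg hφ hP' h1),
    isPBlock_principal.isUB.blockRank_preimage (M := M) hφ hP' h1]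

end Cfsg.Agent.S4571
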