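import Cfsg.Statements.S4574
import Cfsg.Agent.Lib.Char.Zeros

set_option autoImplicit false
open Cfsg

namespace Cfsg.Agent.S4574

open Cfsg.Agent.Char

/-- Let χ be an irreducible character of the finite group G, of degree d, and let Z(χ) be the set of elements g with |χ g| = d (the centre of χ). Then χ vanishes on at least (d ^ 2 - 1) · |Z(χ)| elements of G, with equality when every value |χ g| is 0, 1 or d. -/
theorem result {G : Type*} [Group G] [Fintype G] [DecidableEq G] (χ : G → ℂ) (hχ : Cfsg.IsIrrCharacter G χ) : (Cfsg.charDegree χ ^ 2 - 1) * (Finset.univ.filter (fun g : G => ‖χ g‖ = (Cfsg.charDegree χ : ℝ))).card ≤ (Finset.univ.filter (fun g : G => χ g = 0)).card ∧ ((∀ g : G, ‖χ g‖ = 0 ∨ ‖χ g‖ = 1 ∨ ‖χ g‖ = (Cfsg.charDegree χ : ℝ)) → (Cfsg.charDegree χ ^ 2 - 1) * (Finset.univ.filter (fun g : G => ‖χ g‖ = (Cfsg.charDegree χ : ℝ))).card = (Finset.univ.filter (fun g : G => χ g = 0)).card) := by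
  classical
  have e : ∀ g, ‖χ g‖ = charDegree χ ↔ g ∈ charCenter χ := fun g => by
    rw [hχ.isCharacter.mem_charCenter, ← hχ.isCharacter.cast_charDegree, Complex.norm_natCast]
  have h0 : 0 < charDegree χ := Nat.pos_of_ne_zero fun h => hχ.apply_one_ne_zero (by
    rw [← hχ.isCharacter.cast_charDegree, h, Nat.cast_zero])
  have h1 := card_ne_zero_le_sum hχ.isGen (Finset.univ.filter fun g => ¬ ‖χ g‖ = charDegree χ)
    (fun k hk g => by simp [e, pow_mem_iff_of_coprime_card _ hk]) 2
  have h2 := hχ.sum_norm_sq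
  rw [← Finset.sum_filter_add_sum_filter_not _ (fun g => ‖χ g‖ = charDegree χ),
    Finset.sum_congr rfl fun g hg => by rw [(Finset.mem_filter.1 hg).2], Finset.sum_const,
    nsmul_eq_mul] at h2
  have h3 := Finset.card_filter_add_card_filter_not
    (s := Finset.univ.filter fun g => ¬ ‖χ g‖ = charDegree χ) (fun g => χ g ≠ 0)
  have h4 := Finset.card_filter_add_card_filter_not (s := Finset.univ)
    (fun g => ‖χ g‖ = charDegree χ)
  have h5 : (Finset.univ.filter fun g => ¬ ‖χ g‖ = charDegree χ).filter (fun g => ¬ χ g ≠ 0) =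
      Finset.univ.filter fun g => χ g = 0 := by
    ext g
    simp only [Finset.mem_filter, Finset.mem_univ, true_and, not_not, and_iff_right_iff_imp]
    intro h
    simpa [h, eq_comm] using h0.ne'
  rw [h5] at h3
  rw [Nat.card_eq_fintype_card, ← Finset.card_univ, ← h4, ← h3] at h2
  push_cast at h2
  refine ⟨?_, fun h => ?_⟩
  · rw [← Nat.cast_le (α := ℝ)]
    push_cast [Nat.cast_sub (Nat.one_le_pow 2 _ h0)]
    linarith
  · rw [← Finset.sum_filter_of_ne (p := fun g => χ g ≠ 0) fun g _ h1 h2 => h1 (by simp [h2]),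
      Finset.sum_congr rfl (g := fun _ => 1) fun g hg => by
        simp only [Finset.mem_filter] at hg
        rw [((h g).resolve_left (norm_ne_zero_iff.2 hg.2)).resolve_right hg.1.2, one_pow],
      Finset.sum_const, nsmul_eq_mul] at h2
    rw [← Nat.cast_inj (R := ℝ)]
    push_cast [Nat.cast_sub (Nat.one_le_pow 2 _ h0)]
    linarith

end Cfsg.Agent.S4574
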