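import Cfsg.Statements.S4580
import Cfsg.Agent.Lib.Block.Rob
import Cfsg.Agent.Lib.Char.Gallagher

set_option autoImplicit false
open Cfsg

namespace Cfsg.Agent.S4580

open Cfsg.Agent.Blk
open Cfsg.Agent.Char hiding cj cj_mul cj_inv_cj cj_cj_inv

/-- Let N be a normal subgroup of the finite group G, M a maximal ideal of the algebraic integers containing 2, and θ a real-valued irreducible character of N of odd degree that extends to G (some irreducible character of G restricts to θ). Then θ has an extension to G lying in the principal 2-block of G. -/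
theorem result {G : Type*} [Group G] [Finite G] (N : Subgroup G) [N.Normal] (M : Ideal Cfsg.AlgInt) (hM : Cfsg.IsPModular 2 M) (θ : Cfsg.IrrCharacter N) (hreal : ∀ n : N, ((θ : N → ℂ) n).im = 0) (hodd : Odd (Cfsg.charDegree (θ : N → ℂ))) (hext : ∃ η : Cfsg.IrrCharacter G, ∀ n : N, (η : G → ℂ) n = (θ : N → ℂ) n) :
    ∃ η : Cfsg.IrrCharacter G, (∀ n : N, (η : G → ℂ) n = (θ : N → ℂ) n) ∧ η ∈ Cfsg.principalBlock M G := by
  haveI : PMod M 2 := ⟨hM⟩
  have := Fintype.ofFinite N
  obtain ⟨η, hη⟩ := hext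
  have hN : (fun n : N => (η : G → ℂ) n) = θ := funext hη
  have hconj : (fun n : N => (starRingEnd ℂ) ((η : G → ℂ) n)) = θ := funext fun n => by
    rw [hη, Complex.conj_eq_iff_im.2 (hreal n)]
  obtain ⟨β, hβ, hk, h1⟩ := η.2.conj.exists_eq_mul_of_over (N := N) η.2.isCharacter (hN ▸ θ.2)
    (by rw [hN, hconj, θ.2.classInner_self]; exact one_ne_zero)
  have h2 : β 1 = 1 := by
    have := congrFun h1 1
    simp only [Pi.mul_apply, η.2.isCharacter.conj_apply_one] at this
    exact (mul_eq_right₀ η.2.apply_one_ne_zero).1 this.symm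
  obtain ⟨lam, rfl⟩ := hβ.isCharacter.exists_units_of_apply_one h2
  obtain ⟨a, m, hm, hcard⟩ := Nat.exists_eq_two_pow_mul_odd (Nat.card_pos (α := G)).ne'
  obtain ⟨j, hj⟩ := hm
  have hlam : ∀ n : N, lam n = 1 := fun n => Units.ext (by
    simpa using hβ.isCharacter.mem_charKer.1 (hk n.2))
  refine ⟨⟨_, η.2.mul_units (lam ^ (j + 1))⟩, fun n => by simp [hlam, hη], ?_⟩
  refine mem_principal_of_real (ψ := ⟨_, η.2.mul_units (lam ^ (j + 1))⟩) (fun hd => ?_) rfl
    fun g hg => ?_
  · have h3 : charDegree (fun g => ((lam ^ (j + 1)) g : ℂ) * (η : G → ℂ) g) = charDegree (θ : N → ℂ) := by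
      simp only [charDegree, map_one, Units.val_one, one_mul]
      rw [← hη 1]; rfl
    rw [h3] at hd
    exact (Nat.not_even_iff_odd.2 hodd) (even_iff_two_dvd.2 hd)
  · have h3 : orderOf g ∣ m := by
      have := orderOf_dvd_natCard g
      rw [hcard] at this
      exact (Nat.Coprime.pow_right a (Nat.prime_two.coprime_iff_not_dvd.2 hg).symm).dvd_of_dvd_mul_left this
    have h4 : lam g ^ (2 * j + 1) = 1 := by
      rw [← hj, ← map_pow, orderOf_dvd_iff_pow_eq_one.1 h3, map_one]
    have h5 := congrFun h1 g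
    simp only [Pi.mul_apply] at h5
    simp only [MonoidHom.pow_apply, map_inv, η.2.isCharacter.apply_inv, h5]
    rw [← mul_assoc, ← Units.val_mul]
    congr 2
    rw [← mul_one (_ * lam g), ← h4]
    group

end Cfsg.Agent.S4580
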