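import Cfsg.Statements.S4582
import Cfsg.Agent.Lib.Block.Stab

set_option autoImplicit false
open Cfsg

namespace Cfsg.Agent.S4582

open Cfsg.Agent.Blk
open Cfsg.Agent.Char hiding cj cj_mul cj_inv_cj cj_cj_inv
open scoped commutatorElement

/-- Let N be a normal subgroup of the finite group G, P a Sylow 2-subgroup of G and Q = P ∩ N. Suppose that P/QP' and Q/Q' are elementary abelian (every square of an element of P lies in the subgroup generated by Q and the derived subgroup of P, and every square of an element of Q lies in the derived subgroup of Q), and that the commutator factor group N/N' has odd order. Then P/P' is elementary abelian. -/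
theorem result {G : Type*} [Group G] [Finite G] (N : Subgroup G) [N.Normal] (P : Sylow 2 G)
    (hP : ∀ x ∈ (P : Subgroup G), x ^ 2 ∈ ((P : Subgroup G) ⊓ N) ⊔ ⁅(P : Subgroup G), (P : Subgroup G)⁆)
    (hQ : ∀ x ∈ (P : Subgroup G) ⊓ N, x ^ 2 ∈ ⁅(P : Subgroup G) ⊓ N, (P : Subgroup G) ⊓ N⁆)
    (hodd : Odd (Nat.card (Abelianization N))) :
    ∀ x ∈ (P : Subgroup G), x ^ 2 ∈ ⁅(P : Subgroup G), (P : Subgroup G)⁆ := by
  let L := N ⊔ (P : Subgroup G)
  have hNL : N ≤ L := le_sup_left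
  have hPL : (P : Subgroup G) ≤ L := le_sup_right
  let A := Abelianization P
  let lam : ((P : Subgroup G).subgroupOf L) →* A :=
    Abelianization.of.comp (Subgroup.subgroupOfEquivOfLe hPL).toMonoidHom
  let V : L →* A := MonoidHom.transfer lam
  have hA : IsPGroup 2 A := P.isPGroup'.of_surjective Abelianization.of QuotientGroup.mk_surjective
  have hcomm : ∀ x : P, (x : G) ∈ ⁅(P : Subgroup G), (P : Subgroup G)⁆ ↔ Abelianization.of x = 1 := by
    intro x
    rw [← MonoidHom.mem_ker, Abelianization.ker_of, ← Subgroup.map_subtype_commutator]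
    exact Subgroup.mem_map_iff_mem (P : Subgroup G).subtype_injective
  have h1 : ∀ n : N, V ⟨n, hNL n.2⟩ = 1 := fun n => by
    obtain ⟨k, hk⟩ := IsPGroup.iff_orderOf.1 hA (V ⟨n, hNL n.2⟩)
    rw [← orderOf_eq_one_iff]
    refine Nat.eq_one_of_dvd_coprimes ((Nat.coprime_two_left.2 hodd).pow_left k) (hk ▸ dvd_rfl) ?_
    exact (orderOf_map_dvd (Abelianization.lift (V.comp (Subgroup.inclusion hNL)))
      (Abelianization.of n)).trans (orderOf_dvd_natCard _)
  have h2 : ((P : Subgroup G) ⊓ N) ⊔ ⁅(P : Subgroup G), (P : Subgroup G)⁆ ≤ V.ker.map L.subtype := by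
    refine sup_le (fun x hx => ⟨⟨x, hNL hx.2⟩, h1 ⟨x, hx.2⟩, rfl⟩)
      (Subgroup.commutator_le.2 fun a ha b hb => ⟨⁅(⟨a, hPL ha⟩ : L), ⟨b, hPL hb⟩⁆, ?_, rfl⟩)
    rw [SetLike.mem_coe, MonoidHom.mem_ker, map_commutatorElement]
    exact commutatorElement_eq_one_iff_mul_comm.2 (mul_comm _ _)
  intro x hx
  obtain ⟨y, h3, h4⟩ := h2 (hP x hx)
  obtain rfl : y = ⟨x, hPL hx⟩ ^ 2 := Subtype.ext (h4.trans (Subgroup.coe_pow _ (⟨x, hPL hx⟩ : L) 2).symm)
  have h5 : V ⟨x, hPL hx⟩ ^ 2 = (Abelianization.of (⟨x, hx⟩ : P) ^ 2) ^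
      ((P : Subgroup G).subgroupOf L).index := by
    have : Fintype (Quotient (MulAction.orbitRel (Subgroup.zpowers (⟨x, hPL hx⟩ : L))
      (L ⧸ (P : Subgroup G).subgroupOf L))) := Fintype.ofFinite _
    rw [Subgroup.index_eq_sum_minimalPeriod _ (⟨x, hPL hx⟩ : L), ← Finset.prod_pow_eq_pow_sum,
      MonoidHom.transfer_eq_prod_quotient_orbitRel_zpowers_quot, ← Finset.prod_pow]
    refine Finset.prod_congr rfl fun q _ => ?_
    generalize_proofs _ _ h5
    generalize Function.minimalPeriod _ q.out = m at h5 ⊢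
    generalize q.out.out = g at h5 ⊢
    obtain ⟨s, hs, n, hn, h6⟩ := exists_mul_of_mem_sup (C := P) (N := N)
      Subgroup.le_normalizer_of_normal (by rw [sup_comm]; exact g.2)
    have h7 : (g : G)⁻¹ * x ^ m * g ∈ (P : Subgroup G) := h5
    have h8 : (s⁻¹ * x ^ m * s)⁻¹ * ((g : G)⁻¹ * x ^ m * g) ∈ (P : Subgroup G) ⊓ N := by
      refine Subgroup.mem_inf.2 ⟨P.1.mul_mem (P.1.inv_mem (P.1.mul_mem (P.1.mul_mem (P.1.inv_mem hs)
        (P.1.pow_mem hx m)) hs)) h7, ?_⟩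
      have := N.mul_mem (‹N.Normal›.conj_mem _ (N.inv_mem hn) (s⁻¹ * x ^ m * s)⁻¹) hn
      rw [h6]
      convert this using 1
      group
    have h9 := (hcomm (⟨_, h8.1⟩ ^ 2)).1
      (Subgroup.commutator_mono inf_le_left inf_le_left (hQ _ h8))
    have h10 : lam ⟨_, h5⟩ = Abelianization.of ((⟨s, hs⟩⁻¹ * ⟨x, hx⟩ ^ m * ⟨s, hs⟩ : P) *
        ⟨_, h8.1⟩) := congrArg Abelianization.of (Subtype.ext (mul_inv_cancel_left _ _).symm)
    rw [h10, map_mul, mul_pow, ← map_pow _ (⟨_, h8.1⟩ : P), h9, mul_one, map_mul, map_mul, map_inv,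
      map_pow, mul_comm _⁻¹, inv_mul_cancel_right, ← pow_mul, ← pow_mul, mul_comm]
  rw [SetLike.mem_coe, MonoidHom.mem_ker, map_pow, h5] at h3
  refine (hcomm (⟨x, hx⟩ ^ 2)).2 ?_
  obtain ⟨k, hk⟩ := IsPGroup.iff_orderOf.1 hA (Abelianization.of (⟨x, hx⟩ : P) ^ 2)
  rw [map_pow, ← orderOf_eq_one_iff]
  refine Nat.eq_one_of_dvd_coprimes ((Nat.prime_two.coprime_iff_not_dvd.2
    ((isSyl_sylow P).of_le hPL le_top).not_dvd_relIndex).pow_left k) (hk ▸ dvd_rfl)
    (orderOf_dvd_of_pow_eq_one h3)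

end Cfsg.Agent.S4582
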