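import Cfsg.Statements.S4583
import Cfsg.Agent.Lib.Block.AD2
import Cfsg.Agent.Lib.Block.Stab

set_option autoImplicit false
open Cfsg

namespace Cfsg.Agent.S4583

open Cfsg.Agent.Blk
open Cfsg.Agent.Char hiding cj cj_mul cj_inv_cj cj_cj_inv

/-- Let N be a normal subgroup of the finite group G, p a prime, M a maximal ideal of the algebraic integers containing p, and P a Sylow p-subgroup of G. Let θ be an irreducible character of N of degree prime to p lying in the principal p-block of N, and suppose θ extends to the subgroup NP (some irreducible character of NP restricts to θ). Then some irreducible character χ of G of degree prime to p in the principal p-block of G lies over θ (θ is a constituent of the restriction of χ to N). -/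
theorem result {G : Type*} [Group G] [Finite G] (N : Subgroup G) [N.Normal] (p : ℕ) [Fact p.Prime] (M : Ideal Cfsg.AlgInt) (hM : Cfsg.IsPModular p M) (P : Sylow p G)
    (θ : Cfsg.IrrCharacter N) (hθ : θ ∈ Cfsg.principalBlock M N) (hdeg : ¬ p ∣ Cfsg.charDegree (θ : N → ℂ))
    (hext : ∃ η : Cfsg.IrrCharacter ↥(N ⊔ (P : Subgroup G)), ∀ n : N, (η : ↥(N ⊔ (P : Subgroup G)) → ℂ) (Subgroup.inclusion le_sup_left n) = (θ : N → ℂ) n) :
    ∃ χ : Cfsg.IrrCharacter G, χ ∈ Cfsg.principalBlock M G ∧ ¬ p ∣ Cfsg.charDegree (χ : G → ℂ) ∧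
      haveI := Fintype.ofFinite N; Cfsg.classInner (fun n : N => (χ : G → ℂ) n) (θ : N → ℂ) ≠ 0 := by
  haveI : PMod M p := ⟨hM⟩
  let H := N ⊔ (P : Subgroup G)
  obtain ⟨η, hη⟩ : ∃ η : IrrCharacter H, ∀ n : N, η.1 ⟨n, Subgroup.mem_sup_left n.2⟩ = θ.1 n := hext
  let K := H ⊔ Ce (P : Subgroup G)
  have hHK : H ≤ K := le_sup_left
  have hNH : N ≤ H := le_sup_left
  have hPH : (P : Subgroup G) ≤ H := le_sup_right
  have h1 : K ≤ No H := sup_le (le_No _) fun x hx =>
    No_sup_le _ _ ⟨mem_No.2 (cs_normal x N), Ce_le_No _ hx⟩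
  haveI : (H.subgroupOf K).Normal := (Subgroup.normal_subgroupOf_iff_le_normalizer hHK).2 h1
  have h2 : ADH p (H.subgroupOf K) ((P : Subgroup G).subgroupOf K) :=
    adh_sub hPH hHK ((isSyl_sylow P).of_le (hPH.trans hHK) le_top).not_dvd_relIndex fun g hg => by
      exact exists_mul_of_mem_sup' (le_sup_right.trans h1) (by rwa [sup_comm])
  have h3 : η ∈ principalBlock M H := by
    obtain ⟨n, hn⟩ := P.isPGroup'.exists_card_eq
    have h3 : N.relIndex H ∣ p ^ n := by
      rw [Subgroup.relIndex_sup_left, ← hn]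
      exact Subgroup.relIndex_dvd_card _ _
    obtain ⟨a, -, ha⟩ := (Nat.dvd_prime_pow Fact.out).1 h3
    refine (mem_principal_iff_of_index (N := N.subgroupOf H) ha ?_).2
      ((irrMap_mem_principal_iff (Subgroup.subgroupOfEquivOfLe hNH).symm).2 hθ)
    rw [em_of_res_self (θ := irrMap (Subgroup.subgroupOfEquivOfLe hNH).symm θ) fun n => hη ⟨_, n.2⟩]
    exact one_ne_zero
  obtain ⟨ξ, ⟨h4, h5⟩, -⟩ := (h2.adf (M := M)).2 _
    ((irrMap_mem_principal_iff (Subgroup.subgroupOfEquivOfLe hHK).symm).2 h3)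
  have h6 : ∀ n : N, ξ.1 ⟨n, hHK (hNH n.2)⟩ = θ.1 n := fun n =>
    (h5 ⟨⟨n, _⟩, hNH n.2⟩).trans (hη n)
  have h7 : charDegree ξ.1 = charDegree θ.1 := by
    rw [charDegree, charDegree, ← h6 1]; rfl
  obtain ⟨χ, h8, h9, h10⟩ := (isInducedBlock_principal (M := M) (isSyl_sylow P) (hPH.trans hHK)
    le_sup_right).exists_not_dvd h4 fun hd => ((Fact.out : p.Prime).dvd_mul.1 hd).elim
      (fun hd => P.not_dvd_index (hd.trans (Subgroup.index_dvd_of_le (hPH.trans hHK))))
      (h7 ▸ hdeg)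
  refine ⟨χ, h8, h10, ?_⟩
  letI := Fintype.ofFinite N
  classical
  have h11 : (fun n : N => χ.1 n) = ∑ ζ : IrrCharacter K,
      (em K χ ζ : ℂ) • fun n : N => ζ.1 ⟨n, hHK (hNH n.2)⟩ := by
    ext n
    rw [Finset.sum_apply]
    exact res_eq_sum_em χ ⟨n, hHK (hNH n.2)⟩
  have h12 : ∀ ζ : IrrCharacter K, ∃ k : ℕ,
      classInner (fun n : N => ζ.1 ⟨n, hHK (hNH n.2)⟩) θ.1 = k := fun ζ =>
    (ζ.2.isCharacter.comp (Subgroup.inclusion (hNH.trans hHK))).classInner_eq_nat θ.2.isCharacter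
  choose k hk using h12
  rw [h11, classInner_sum_left]
  simp only [classInner_smul_left, hk]
  norm_cast
  intro h13
  rw [Finset.sum_eq_zero_iff] at h13
  have h14 := hk ξ
  rw [funext h6, θ.2.classInner_self] at h14
  have h15 := h13 ξ (Finset.mem_univ _)
  rw [show k ξ = 1 by exact_mod_cast h14.symm, mul_one] at h15
  exact h9 (h15 ▸ dvd_zero _)

end Cfsg.Agent.S4583
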