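import Cfsg.Statements.S4584
import Cfsg.Agent.Lib.Char.Comm1

set_option autoImplicit false
open Cfsg

namespace Cfsg.Agent.S4584

open Cfsg.Agent.Char

/-- Let p be a prime and P a group of order p^4. Then the derived subgroup P' has order p if and only if the centre Z(P) has index p^2 in P. -/
theorem result {P : Type*} [Group P] [Finite P] (p : ℕ) [Fact p.Prime] (hP : Nat.card P = p ^ 4) :
    Nat.card (commutator P) = p ↔ (Subgroup.center P).index = p ^ 2 := by
  have hp1 := (Fact.out : p.Prime).one_lt
  have h2 := (Subgroup.center P).card_mul_index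
  by_cases h : commutator P = ⊥
  · rw [h, Subgroup.card_bot, (commutator_eq_bot_iff_center_eq_top P).1 h, Subgroup.index_top]
    exact iff_of_false hp1.ne (Nat.one_lt_pow two_ne_zero hp1).ne
  have h1 := card_center_mul_of_four hP h
  have h3 : (Subgroup.center P).index = p * Nat.card (commutator P) :=
    Nat.eq_of_mul_eq_mul_left Nat.card_pos (by rw [h2, hP, mul_left_comm, h1]; ring)
  rw [h3, sq, Nat.mul_left_cancel_iff (by omega)]

end Cfsg.Agent.S4584
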