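import Cfsg.Statements.S4585
import Cfsg.Agent.Lib.Char.Comm1
import Cfsg.Agent.Lib.BG.Pgp

set_option autoImplicit false
open Cfsg

namespace Cfsg.Agent.S4585

open Cfsg.Agent.Char

/-- Let p be a prime and P a group of order p^4. Then P' has index p^2 in P if and only if P has maximal nilpotency class, that is, nilpotency class exactly 3. -/
theorem result {P : Type*} [Group P] [Finite P] (p : ℕ) [Fact p.Prime] (hP : Nat.card P = p ^ 4) :
    (commutator P).index = p ^ 2 ↔ Group.nilpotencyClass P = 3 := by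
  have hp1 := (Fact.out : p.Prime).one_lt
  have hG : IsPGroup p P := .of_card hP
  have := hG.isNilpotent
  have h2 := (commutator P).card_mul_index
  have e : (commutator P).index = p ^ 2 ↔ Nat.card (commutator P) = p ^ 2 :=
    ⟨fun h => Nat.eq_of_mul_eq_mul_right (pow_pos (zero_lt_one.trans hp1) 2) (by rw [← pow_add, ← hP, ← h2, h]),
    fun h => Nat.eq_of_mul_eq_mul_left (pow_pos (zero_lt_one.trans hp1) 2) (by rw [← pow_add, ← hP, ← h2, h])⟩
  have e2 : Group.nilpotencyClass P ≤ 2 ↔ commutator P ≤ Subgroup.center P := by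
    rw [← Subgroup.lowerCentralSeries_eq_bot_iff_nilpotencyClass_le]
    exact Subgroup.commutator_eq_bot_iff_le_centralizer.trans (by
      rw [Subgroup.coe_top, Subgroup.centralizer_univ]; rfl)
  have e3 := fun (N : Subgroup P) [N.Normal] k => BG.card_commutator_le (k := k)
    (hG.to_subgroup ⊤) (hG.to_subgroup N) Subgroup.le_normalizer_of_normal
  rw [e]
  refine ⟨fun h => ?_, fun h => ?_⟩
  · have h3 := card_center_mul_of_four hP fun h1 => by
      rw [h1, Subgroup.card_bot] at h; exact (Nat.one_lt_pow two_ne_zero hp1).ne h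
    have h4 : Group.nilpotencyClass P ≤ 3 :=
      Subgroup.lowerCentralSeries_eq_bot_iff_nilpotencyClass_le.1
        (Subgroup.eq_bot_of_card_le _ (e3 _ 0 (e3 _ 1 h.le)))
    refine le_antisymm h4 (Nat.lt_of_not_le fun h5 => ?_)
    have := Nat.mul_le_mul_right (Nat.card (commutator P)) (Subgroup.card_le_of_le (e2.1 h5))
    rw [h3, h, ← pow_add, Nat.pow_le_pow_iff_right hp1] at this
    omega
  have h3 : ¬ commutator P ≤ Subgroup.center P := fun h1 => by have := e2.2 h1; omega
  have h4 := card_center_mul_of_four hP fun h1 => h3 (h1 ▸ bot_le)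
  obtain ⟨k, hk, h5⟩ := (Nat.dvd_prime_pow Fact.out).1 (Dvd.intro_left _ h4)
  have h6 : ¬ k ≤ 1 := fun h6 => h3 (by
    have := Subgroup.eq_bot_of_card_le _ (e3 (commutator P) 0 (h5 ▸ Nat.pow_le_pow_right hp1.le h6))
    rwa [Subgroup.commutator_eq_bot_iff_le_centralizer, Subgroup.coe_top,
      Subgroup.centralizer_univ] at this)
  have h7 : k ≠ 3 := fun h7 => by
    rw [h5, h7, Nat.mul_eq_right (by positivity)] at h4
    have : Nontrivial P := by
      rw [← Finite.one_lt_card_iff_nontrivial, hP]; exact Nat.one_lt_pow (by norm_num) hp1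
    have := hG.center_nontrivial
    exact Finite.one_lt_card.ne' h4
  rw [h5, show k = 2 by omega]

end Cfsg.Agent.S4585
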