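import Cfsg.Statements.S4586
import Cfsg.Agent.Lib.Char.Comm1

set_option autoImplicit false
open Cfsg

namespace Cfsg.Agent.S4586

open Cfsg.Agent.Char

/-- Let p be a prime, P a finite p-group and N a normal subgroup of P of index p. For x ∈ P write c(x) for the number of elements n of N whose commutator x n x⁻¹ n⁻¹ lies in the derived subgroup N' (so c(x)/#N' is the order of the centralizer of x acting on N/N'). Then [P : P'] = p² if and only if c(x) = p·#N' for every x ∈ P outside N, and also if and only if c(x) = p·#N' for some x ∈ P outside N. -/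
theorem result {P : Type*} [Group P] [Finite P] (p : ℕ) [Fact p.Prime] (hP : IsPGroup p P) (N : Subgroup P) [N.Normal] (hN : N.index = p) :
    ((commutator P).index = p ^ 2 ↔ ∀ x : P, x ∉ N →
        Nat.card {n : N // x * n * x⁻¹ * (n : P)⁻¹ ∈ (commutator N).map N.subtype} = p * Nat.card (commutator N)) ∧
    ((commutator P).index = p ^ 2 ↔ ∃ x : P, x ∉ N ∧
        Nat.card {n : N // x * n * x⁻¹ * (n : P)⁻¹ ∈ (commutator N).map N.subtype} = p * Nat.card (commutator N)) := by
  have hp : p.Prime := Fact.out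
  have e : ∀ x ∉ N, (commutator P).index = p ^ 2 ↔ Nat.card {n : N // x * n * x⁻¹ * (n : P)⁻¹ ∈
      (commutator N).map N.subtype} = p * Nat.card (commutator N) := fun x hx => by
    have h1 := card_mul_card_commutator (sup_zpowers_eq_top_of_prime (hN ▸ hp) hx)
    rw [← Subgroup.card_map_of_injective N.subtype_injective, Subgroup.map_subtype_commutator]
    have h2 := (commutator P).card_mul_index
    rw [← N.card_mul_index, hN] at h2
    have h3 : 0 < Nat.card (commutator P) := Nat.card_pos
    have h4 : 0 < Nat.card (⁅N, N⁆ : Subgroup P) := Nat.card_pos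
    generalize Nat.card {n : N // x * n * x⁻¹ * (n : P)⁻¹ ∈ ⁅N, N⁆} = c at *
    have h5 : (commutator P).index * Nat.card (⁅N, N⁆ : Subgroup P) = p * c :=
      Nat.eq_of_mul_eq_mul_left h3 (by rw [← mul_assoc, h2, mul_right_comm, h1]; ring)
    refine ⟨fun h => Nat.eq_of_mul_eq_mul_left hp.pos (by rw [← h5, h]; ring),
      fun h => Nat.eq_of_mul_eq_mul_right h4 (by rw [h5, h]; ring)⟩
  obtain ⟨x, -, hx⟩ := SetLike.exists_of_lt (lt_top_iff_ne_top.2 fun h : N = ⊤ =>
    hp.ne_one (by rw [← hN, h, Subgroup.index_top]))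
  exact ⟨⟨fun h y hy => (e y hy).1 h, fun h => (e x hx).2 (h x hx)⟩,
    fun h => ⟨x, hx, (e x hx).1 h⟩, fun ⟨y, hy, h⟩ => (e y hy).2 h⟩

end Cfsg.Agent.S4586
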