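import Cfsg.Statements.S4588
import Cfsg.Agent.Lib.Block.Bound

set_option autoImplicit false
open Cfsg

namespace Cfsg.Agent.S4588

open Cfsg.Agent.Blk
open Cfsg.Agent.Char hiding cj cj_mul cj_inv_cj cj_cj_inv

/-- Let G be a finite group, p a prime and M a maximal ideal of the algebraic integers containing p. If some p-element x of G (possibly x = 1) has centralizer whose order has p-part at most p², then the principal p-block of G contains at most p² irreducible characters of degree prime to p. -/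
theorem result {G : Type*} [Group G] [Finite G] (p : ℕ) [Fact p.Prime] (M : Ideal Cfsg.AlgInt) (hM : Cfsg.IsPModular p M)
    (hx : ∃ x : G, (∃ k : ℕ, orderOf x = p ^ k) ∧ (Nat.card (Subgroup.centralizer ({x} : Set G))).factorization p ≤ 2) :
    Nat.card {χ : Cfsg.IrrCharacter G // χ ∈ Cfsg.principalBlock M G ∧ ¬ p ∣ Cfsg.charDegree (χ : G → ℂ)} ≤ p ^ 2 := by
  haveI : PMod M p := ⟨hM⟩
  classical
  obtain ⟨x, hx, h⟩ := hx
  have hp : p.Prime := Fact.out
  have hB := isPBlock_principal (M := M) (G := G)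
  have h0 : mnu p (principalBlock M G) = 0 :=
    Nat.le_zero.1 ((mnu_le p irrOne_mem_principal).trans (by
      rw [nu, charDegree_of_eq (χ := irrOne G) (n := 1) (by simp)]; simp))
  rw [card_subtype_fs]
  by_cases h1 : x = 1
  · have h2 : blockDefect p (principalBlock M G) ≤ 2 := by
      rw [h1, show Subgroup.centralizer ({1} : Set G) = ⊤ by simp [eq_top_iff, SetLike.le_def, mem_Ce1],
        Subgroup.card_top] at h
      have := defect_add_mnu (p := p) hB.nonempty
      omega
    exact (Finset.card_le_card fun χ hχ => mem_fs.2 (mem_fs.1 hχ).1).trans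
      ((hB.card_le_of_defect_le h2).trans (Nat.pow_le_pow_right hp.pos h2))
  have := Fintype.ofFinite (Ce1 x)
  have hb := isPBlock_principal (M := M) (G := Ce1 x)
  obtain ⟨B, hI⟩ := exists_inducedBlock_Ce1 hx hb
  obtain rfl := (third_main hI).2 rfl
  obtain ⟨Q, hQ⟩ := hb.isBlockS.exists_isDef p
  have h2 : x ∈ Q := Subgroup.zpowers_le.1
    (hb.isBlockS.le_of_isDef hQ (isPGroup_zpowers hx) (zpowers_le_Ce1 x) (Ce1_le_No x))
  have h3 : Nat.card Q ≤ p ^ 2 := by
    rw [hb.card_isDefS hQ]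
    refine Nat.pow_le_pow_right hp.pos (le_trans ?_ h)
    exact le_of_add_le_left (defect_add_mnu (p := p) hb.nonempty).le
  obtain ⟨y, hy, h4⟩ := exists_gen_of_card_le hQ.pg h3 ⟨h2, mem_Ce_iff_le.2 hQ.le⟩ h1
  refine (hI.card_le_of_cyclic hx hQ hy h4 (fun χ hχ => mem_fs.2 (mem_fs.1 hχ).1)
    fun χ hχ => ne_zero_of_not_LI ((hI.not_LI_cm_iff hx _ _).2 ?_)).trans h3
  obtain ⟨h5, h6⟩ := mem_fs.1 hχ
  have h7 := (height_eq_zero_iff h5).2 ((Nat.factorization_eq_zero_of_not_dvd h6).trans h0.symm)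
  exact ⟨⟨h5, h7⟩, h5, h7⟩

end Cfsg.Agent.S4588
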