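import Cfsg.Statements.S4591
import Cfsg.Agent.Lib.Block.KerP

set_option autoImplicit false
open Cfsg

namespace Cfsg.Agent.S4591

open Cfsg.Agent.Blk
open Cfsg.Agent.Char hiding cj cj_mul cj_inv_cj cj_cj_inv

/-- Let G be a finite group, p a prime and P a Sylow p-subgroup, and let N be the largest normal subgroup of G in which P has trivial centralizer (N is normal with C_N(P) = 1 and contains every normal subgroup with that property). Then the intersection of the kernels of the irreducible characters of G of degree prime to p is the normal core in G of the subgroup N·P' (P' the derived subgroup of P). In particular, when G has no nontrivial normal subgroup of order prime to p, that intersection is the normal core of P'. -/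
theorem result {G : Type*} [Group G] [Finite G] (p : ℕ) [Fact p.Prime] (P : Sylow p G) (N : Subgroup G) [N.Normal]
    (hN : N ⊓ Subgroup.centralizer ((P : Subgroup G) : Set G) = ⊥)
    (hmax : ∀ L : Subgroup G, L.Normal → L ⊓ Subgroup.centralizer ((P : Subgroup G) : Set G) = ⊥ → L ≤ N) :
    {g : G | ∀ χ : Cfsg.IrrCharacter G, ¬ p ∣ Cfsg.charDegree (χ : G → ℂ) → (χ : G → ℂ) g = (χ : G → ℂ) 1} =
      ((N ⊔ ⁅(P : Subgroup G), (P : Subgroup G)⁆).normalCore : Set G) := by
  let K : Subgroup G := ⨅ χ : {χ : IrrCharacter G // ¬ p ∣ charDegree χ.1}, charKer χ.1.1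
  haveI : K.Normal := Subgroup.normal_iInf_normal fun χ => χ.1.2.isCharacter.normal_charKer
  have hK : ∀ χ : IrrCharacter G, ¬ p ∣ charDegree χ.1 → K ≤ charKer χ.1 := fun χ h =>
    iInf_le (fun χ : {χ : IrrCharacter G // ¬ p ∣ charDegree χ.1} => charKer χ.1.1) ⟨χ, h⟩
  have h1 := inf_le_commutator_of_ker P hK
  have h2 := Transfer.hasNPC_sub_iff.1 (S0081.result P K
    (h1.trans (Subgroup.map_mono (Solv.commutator_le_frattini_of_isPGroup P.isPGroup'))))
  haveI : (Transfer.res p K).Normal := Subgroup.normalizer_eq_top_iff.1 (top_le_iff.1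
    ((le_No_of_normal ⊤ K).trans (Transfer.normalizer_le_normalizer_res K)))
  have h3 := hmax _ this (inf_Ce_eq_bot_of_ker P h2 fun χ h => (Transfer.res_le K).trans (hK χ h))
  have h4 : K ≤ (N ⊔ ⁅(P : Subgroup G), (P : Subgroup G)⁆).normalCore := by
    rw [Subgroup.normal_le_normalCore, ← (Transfer.isSyl_inf_normal P K).res_sup, inf_comm,
      ← Subgroup.map_subtype_commutator]
    exact sup_le_sup h3 h1
  ext g
  exact ⟨fun h => h4 (Subgroup.mem_iInf.2 fun χ => χ.1.2.isCharacter.mem_charKer.2 (h χ.1 χ.2)),
    fun h χ hχ => χ.2.isCharacter.mem_charKer.1 (le_charKer_of_inf_Ce P.isPGroup'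
      (not_dvd_of_inf_Ce P hN) hN (Subgroup.normalCore_le _) hχ h)⟩

end Cfsg.Agent.S4591
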