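import Cfsg.Statements.S4593
import Cfsg.Agent.Lib.Transfer.AutS2

set_option autoImplicit false
open Cfsg

namespace Cfsg.Agent.S4593

set_option linter.unusedSectionVars false
set_option linter.unusedVariables false
set_option linter.style.haveILetI false
set_option linter.unusedSimpArgs false

open Subgroup Transfer MS

/-- Let G be a finite group with trivial centre and no nontrivial normal subgroup of odd order, whose Sylow 2-subgroups are abelian, and let P be a Sylow 2-subgroup. Every automorphism of G of 2-power order that fixes P elementwise is inner. -/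
theorem result {G : Type*} [Group G] [Finite G] (hZ : Subgroup.center G = ⊥) (hcore : Cfsg.pPrimeCore 2 G = ⊥) (P : Sylow 2 G) (hab : IsMulCommutative (P : Subgroup G))
    (α : MulAut G) (h2 : ∃ j : ℕ, orderOf α = 2 ^ j) (hfix : ∀ x ∈ (P : Subgroup G), α x = x) :
    ∃ g : G, ∀ x : G, α x = g * x * g⁻¹ := by
  obtain ⟨j, hj⟩ := h2
  set K := (⊤ : Subgroup G).map (hl : G →* Hol G) with hK
  set S := (P : Subgroup G).map (hl : G →* Hol G) with hS
  have h1 : IsSyl 2 S K := (isSyl_top P).map _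
  have hT : IsPGroup 2 (zpowers (hr α : Hol G)) :=
    isPGroup_zpowers_of_orderOf ((orderOf_injective _ hr_injective α).trans hj)
  have h3 : zpowers (hr α : Hol G) ≤ CC S := zpowers_le.2 (hr_mem_centralizer_iff.2 hfix)
  obtain ⟨hP, hPK, hres⟩ := isSyl_sup h1 hT (nn_of_cc h3) nn_normal
  have hab' : IsMulCommutative (S ⊔ zpowers (hr α) : Subgroup (Hol G)) :=
    comm_sup (BG.comm_map _ hab) (ab_of_cyc (cyc_zpowers _)) (cc_symm h3)
  set Q := S ⊔ zpowers (hr α : Hol G) with hQ
  set H := K ⊔ zpowers (hr α : Hol G) with hH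
  have hO : O {2}ᶜ H = ⊥ := O_eq_bot_of_res le_sup_left hres (O_hl_eq_bot hcore)
  have h4 : ⁅Q, H ⊓ NN Q⁆ ≤ K := by
    refine (commutator_mono hP.le inf_le_left).trans ((der_sup_le nn_normal).trans ?_)
    rw [ab_iff_der.1 (ab_of_cyc (cyc_zpowers _)), sup_bot_eq]
  have h5 : hr α ∈ ⁅Q, H ⊓ NN Q⁆ ⊔ Q ⊓ CC (H ⊓ NN Q) :=
    (ab_syl_decomp hP hab').1.ge (mem_sup_right (mem_zpowers _))
  obtain ⟨a, ha, c, hc, e⟩ := (mem_sup_l (inf_le_left.trans (left_nn_comm _ _))).1 h5
  have h6 := zstar_sub_cc hP hc.1 hO fun g hg hgx => by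
    obtain ⟨n, hn, e⟩ := burnside_fus hP (ab_cc hab' hc.1) hg (ab_cc hab' hgx)
    rw [← e]; exact conj_eq_of_C1 (le_C1_iff.2 hc.2 hn)
  obtain ⟨g, -, rfl⟩ := h4 ha
  refine ⟨g, fun x => hl_injective ?_⟩
  rw [← hol_conj, e, map_mul, map_mul, map_inv, mul_inv_rev]
  have := conj_eq_of_cc h6 (mem_sup_left (mem_map_of_mem hl (mem_top x)) : hl x ∈ H)
  conv_rhs => rw [← this]
  rw [this]
  conv_rhs => rw [← this]
  group

end Cfsg.Agent.S4593
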