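import Cfsg.Statements.S4604
import Cfsg.Agent.Lib.Char.Codeg

set_option autoImplicit false
open Cfsg

namespace Cfsg.Agent.S4604

open Cfsg.Agent.Char

/-- Let G be a finite group, p a prime and p^a the p-part of the order of G. Let x, y ∈ G and let x′, y′ be their p-regular parts: x′ has order prime to p, commutes with x·x′⁻¹, and x·x′⁻¹ has p-power order (likewise for y). Then x′ and y′ are conjugate in G if and only if for every irreducible character χ of G the algebraic integer χ(x)^(p^a) − χ(y)^(p^a) is p times an algebraic integer. -/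
theorem result {G : Type*} [Group G] [Finite G] (p : ℕ) [Fact p.Prime] (x y x' y' : G)
    (hx : (∃ k : ℕ, orderOf (x * x'⁻¹) = p ^ k) ∧ Commute (x * x'⁻¹) x' ∧ ¬ p ∣ orderOf x')
    (hy : (∃ k : ℕ, orderOf (y * y'⁻¹) = p ^ k) ∧ Commute (y * y'⁻¹) y' ∧ ¬ p ∣ orderOf y') :
    IsConj x' y' ↔ ∀ χ : Cfsg.IrrCharacter G, ∃ γ : Cfsg.AlgInt,
      (χ : G → ℂ) x ^ (p ^ (Nat.card G).factorization p) - (χ : G → ℂ) y ^ (p ^ (Nat.card G).factorization p) = (p : ℂ) * (γ : ℂ) := by
  classical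
  have hp : p.Prime := Fact.out
  have := Fintype.ofFinite G
  have e : ∀ x x' : G, (∃ k : ℕ, orderOf (x * x'⁻¹) = p ^ k) → Commute (x * x'⁻¹) x' →
      x ^ p ^ (Nat.card G).factorization p = x' ^ p ^ (Nat.card G).factorization p := by
    rintro x x' ⟨k, hk⟩ h
    conv_lhs => rw [← inv_mul_cancel_right x x', h.mul_pow, orderOf_dvd_iff_pow_eq_one.1 (hk ▸
      pow_dvd_pow p ((hp.pow_dvd_iff_le_factorization Nat.card_pos.ne').1
        (hk ▸ orderOf_dvd_natCard _))), one_mul]
  have e2 : ∀ χ : IrrCharacter G, ∃ r, IsIntegral ℤ r ∧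
      χ.1 x ^ p ^ (Nat.card G).factorization p - χ.1 y ^ p ^ (Nat.card G).factorization p =
      χ.1 (x' ^ p ^ (Nat.card G).factorization p) - χ.1 (y' ^ p ^ (Nat.card G).factorization p) +
        p * r := fun χ => by
    obtain ⟨r, h1, h2⟩ := χ.2.isCharacter.pow_prime_pow hp ((Nat.card G).factorization p) x
    obtain ⟨r', h3, h4⟩ := χ.2.isCharacter.pow_prime_pow hp ((Nat.card G).factorization p) y
    exact ⟨r - r', h1.sub h3, by rw [h2, h4, e x x' hx.1 hx.2.1, e y y' hy.1 hy.2.1]; ring⟩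
  choose r h1 h2 using e2
  generalize (Nat.card G).factorization p = a at *
  refine ⟨fun h χ => ⟨⟨r χ, h1 χ⟩, by
    rw [h2, χ.2.isClassFunction.eq_of_isConj (h.pow _), sub_self, zero_add]⟩, fun h => ?_⟩
  choose γ hγ using h
  have h3 : IsConj (x' ^ p ^ a) (y' ^ p ^ a) := by
    by_contra h3
    let n := ordCompl[p] (Nat.card G)
    let θ : G → ℂ := fun g => if IsConj (piPart {p}ᶜ g) (y' ^ p ^ a) then (n : ℂ) else 0
    have h4 := fun χ : IrrCharacter G => isIntegral_classInner_piSection {p}ᶜ (y' ^ p ^ a) (n := n)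
      (fun B hB => (Nat.dvd_ordCompl_of_dvd_not_dvd B.card_subgroup_dvd_card
        fun h => hB p hp h rfl)) χ.2.isGen
    have h5 : IsClassFunction G θ := fun g z => by
      have h := isConj_piPart {p}ᶜ (isConj_iff.2 ⟨z, rfl⟩ : IsConj g (z * g * z⁻¹))
      exact if_congr ⟨h.trans, h.symm.trans⟩ rfl rfl
    have h6 := h5.apply_eq_sum (x' ^ p ^ a)
    have h7 := h5.apply_eq_sum (y' ^ p ^ a)
    simp only [θ, piPart_of_isPiElt (((isPiElt_compl_singleton_iff hp).2 hx.2.2).pow _),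
      piPart_of_isPiElt (((isPiElt_compl_singleton_iff hp).2 hy.2.2).pow _), h3, IsConj.refl,
      if_true, if_false] at h6 h7
    refine Nat.not_dvd_ordCompl hp (Nat.card_pos (α := G)).ne' (nat_dvd_of_isIntegral_div hp.ne_zero ?_)
    have : (n : ℂ) / p = ∑ χ : IrrCharacter G, classInner θ χ * (r χ - γ χ) := by
      rw [div_eq_iff (Nat.cast_ne_zero.2 hp.ne_zero), Finset.sum_mul]
      refine ((sub_zero _).symm.trans (congrArg₂ (· - ·) h7 h6)).trans ?_
      rw [← Finset.sum_sub_distrib]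
      refine Finset.sum_congr rfl fun χ _ => ?_
      linear_combination (classInner θ χ) * (h2 χ - hγ χ)
    rw [this]
    exact IsIntegral.sum _ fun χ _ => (h4 χ).mul ((h1 χ).sub (γ χ).2)
  obtain ⟨m, hm⟩ := exists_pow_eq_self_of_coprime (x := ((x', y') : G × G)) (n := p ^ a)
    (Nat.Coprime.pow_left _ (by
      rw [Prod.orderOf_mk]
      exact (Nat.Coprime.mul_right (hp.coprime_iff_not_dvd.2 hx.2.2)
        (hp.coprime_iff_not_dvd.2 hy.2.2)).coprime_dvd_right (Nat.lcm_dvd_mul _ _)))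
  have := h3.pow m
  rwa [show (x' ^ p ^ a) ^ m = x' from congrArg Prod.fst hm,
    show (y' ^ p ^ a) ^ m = y' from congrArg Prod.snd hm] at this

end Cfsg.Agent.S4604
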