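import Cfsg.Statements.S4607
import Cfsg.Agent.Lib.Block.Sym

set_option autoImplicit false
open Cfsg

namespace Cfsg.Agent.S4607

open Cfsg.Agent.Blk
open Cfsg.Agent.Char hiding cj cj_mul cj_inv_cj cj_cj_inv

/-- Let G be a finite group, p a prime, M a maximal ideal of the algebraic integers containing p, and B a p-block of G with defect group D. Then B contains exactly two irreducible characters if and only if D has order 2. -/
theorem result {G : Type*} [Group G] [Finite G] (p : ℕ) [Fact p.Prime] (M : Ideal Cfsg.AlgInt) (hM : Cfsg.IsPModular p M) (B : Set (Cfsg.IrrCharacter G)) (hB : Cfsg.IsPBlock M B) (D : Subgroup G) (hD : Cfsg.IsDefectGroup p M B D) : Nat.card B = 2 ↔ Nat.card D = 2 := by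
  haveI : PMod M p := ⟨hM⟩
  haveI : Fact p.Prime := ⟨PMod.prime M⟩
  rw [card_fs]
  have hD' := hB.isDefectGroup_iff.1 hD
  constructor
  · intro hk
    have := Fintype.ofFinite G
    have h1 := blockRank_le_card (p := p) B
    have h2 := blockRank_pos (p := p) hB.nonempty
    have h3 : blockRank p B ≠ 2 := fun h3 => by
      have h4 : D = ⊥ := (Subgroup.eq_bot_iff_forall _).2 fun x hx => by
        obtain ⟨χ, hχ, h5⟩ := hB.exists_apply_ne_zero hD' hx
        by_contra h6
        exact h5 (hB.isUB.apply_eq_zero_of_rank (hk.trans h3.symm) hχ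
          (dvd_orderOf_of_pelt (pelt_of_mem hD'.pg hx) h6))
      have h5 := hB.card_defectGroup hD
      rw [h4, Subgroup.card_bot, eq_comm, Nat.pow_eq_one] at h5
      obtain ⟨χ, hχ⟩ := hB.nonempty
      have h6 := defect_eq_add (p := p) hχ
      have h7 := nu_le p χ
      have h8 := h5.resolve_left (PMod.prime M).ne_one
      rw [← card_fs, hB.eq_singleton_of_nu hχ (by omega)] at hk
      simp at hk
    exact (hB.card_defectGroup hD).trans ((hB.card_eq_of_rank (by omega) (by omega)).symm.trans hk)
  · intro h2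
    obtain ⟨e, he⟩ := hB.exists_mp hD'
    have h3 := he.fa_of_card_le (by omega)
    have h1 : D ≠ ⊥ := (Subgroup.one_lt_card_iff_ne_bot D).1 (by omega)
    obtain ⟨u, hu⟩ := (Subgroup.nontrivial_iff_ne_bot D).2 h1 |>.exists_pair_ne
    obtain ⟨v, hv⟩ := hu
    have h4 := h3.free.card_lt (mul_inv_eq_one.not.2 hv)
    have h5 : 0 < Nat.card (autE D e) := Nat.card_pos
    have h6 := (h3.counts h1).2.2.2 (by omega)
    have h7 := h3.card_eq_rank
    rw [show Nat.card (autE D e) = 1 by omega] at h6 h7
    omega

end Cfsg.Agent.S4607
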