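import Cfsg.Statements.S4611
import Cfsg.Agent.Lib.Block.Max

set_option autoImplicit false
open Cfsg

namespace Cfsg.Agent.S4611

open Cfsg.Agent.Blk
open Cfsg.Agent.Char hiding cj cj_mul cj_inv_cj cj_cj_inv

/-- Let G be a finite solvable group and π a nonempty set of primes, each dividing the order of G; fix for each p in π a maximal ideal M p of the algebraic integers containing p. Then the only irreducible character lying in the principal p-block for every p in π is the principal character if and only if G is generated by the subgroups O_{p'}(G), p in π (the largest normal subgroups of order prime to p). -/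
theorem result {G : Type*} [Group G] [Finite G] [Group.IsSolvable G] (π : Set ℕ) (hπ : ∀ p ∈ π, p.Prime ∧ p ∣ Nat.card G) (hne : π.Nonempty) (M : ℕ → Ideal Cfsg.AlgInt) (hM : ∀ p ∈ π, Cfsg.IsPModular p (M p)) :
    (∀ χ : Cfsg.IrrCharacter G, (∀ p ∈ π, χ ∈ Cfsg.principalBlock (M p) G) → (χ : G → ℂ) = fun _ => 1) ↔
      ⨆ p ∈ π, Cfsg.pPrimeCore p G = ⊤ := by
  have key : ∀ χ : IrrCharacter G, (∀ p ∈ π, χ ∈ principalBlock (M p) G) ↔
      ⨆ p ∈ π, pPrimeCore p G ≤ charKer χ.1 := by
    intro χ
    rw [iSup₂_le_iff]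
    refine forall₂_congr fun p hp => ?_
    have : PMod (M p) p := ⟨hM p hp⟩
    have := Fact.mk (hπ p hp).1
    exact mem_principal_iff_of_constrained (isPConstrained_of_pSol pSol_of_solvable)
  simp only [key]
  constructor
  · intro h
    by_contra hc
    have : (⨆ p ∈ π, pPrimeCore p G).Normal := by infer_instance
    have := QuotientGroup.nontrivial_iff.2 hc
    obtain ⟨g, hg⟩ := exists_ne (1 : G ⧸ ⨆ p ∈ π, pPrimeCore p G)
    obtain ⟨ψ, h1, h2⟩ := exists_irr_apply_ne hg
    have h3 := h (infl (QuotientGroup.mk'_surjective _) ⟨ψ, h1⟩)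
      (by simpa using ker_le_charKer_infl (QuotientGroup.mk'_surjective _) ⟨ψ, h1⟩)
    obtain ⟨g, rfl⟩ := QuotientGroup.mk_surjective g
    exact h2 ((congrFun h3 g).trans (congrFun h3 1).symm)
  · intro h χ h1
    rw [h] at h1
    exact χ.2.eq_one_of_forall fun g => χ.2.isCharacter.mem_charKer.1 (h1 trivial)

end Cfsg.Agent.S4611
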