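import Cfsg.Statements.S4620
import Cfsg.Agent.Lib.Block.PSyl

set_option autoImplicit false
open scoped Pointwise
open Cfsg

namespace Cfsg.Agent.S4620

open Cfsg.Agent.Blk
open Cfsg.Agent.Char hiding cj cj_mul cj_inv_cj cj_cj_inv

/-- Let H be a finite group with no nontrivial normal p-subgroup and no nontrivial normal subgroup of order prime to p, whose Sylow p-subgroup P is nontrivial and a trivial-intersection set (P meets its conjugates by elements outside N_H(P) trivially). Then H has a unique minimal normal subgroup N; N is non-abelian simple with trivial centralizer in H (so H embeds in Aut(N)), and a Sylow p-subgroup of N is again a nontrivial trivial-intersection set in N. -/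
theorem result {H : Type*} [Group H] [Finite H] (p : ℕ) [Fact p.Prime] (hOp : Cfsg.pCore p H = ⊥) (hOp' : Cfsg.pPrimeCore p H = ⊥) (P : Sylow p H) (hP1 : (P : Subgroup H) ≠ ⊥)
    (hTI : ∀ g : H, g ∉ Subgroup.normalizer ((P : Subgroup H) : Set H) → (P : Subgroup H) ⊓ (MulAut.conj g • (P : Subgroup H)) = ⊥) :
    ∃ N : Subgroup H, N.Normal ∧ N ≠ ⊥ ∧ (∀ K : Subgroup H, K.Normal → K ≠ ⊥ → N ≤ K) ∧
      IsSimpleGroup N ∧ ¬ IsMulCommutative N ∧ Subgroup.centralizer (N : Set H) = ⊥ ∧
      ∀ Q : Sylow p N, (Q : Subgroup N) ≠ ⊥ ∧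
        ∀ n : N, n ∉ Subgroup.normalizer ((Q : Subgroup N) : Set N) → (Q : Subgroup N) ⊓ (MulAut.conj n • (Q : Subgroup N)) = ⊥ := by
  have hc := fun A B : Subgroup H => ti_comm (A := A) (B := B) hTI hOp hOp'
  obtain ⟨N, -, h1, h2, h3⟩ := Solv.exists_minimal_normal_le (⊤ : Subgroup H)
    fun h => hP1 (eq_bot_iff.2 (h ▸ le_top))
  have h4 : Ce N = ⊥ := (hc _ N (Subgroup.Normal.isSubnormal inferInstance) h1.isSubnormal le_rfl).resolve_right h2
  have h5 : ∀ K : Subgroup N, K.Normal → K ≠ ⊥ → K = ⊤ := fun K hK h5 => by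
    obtain ⟨M, h7, h6, h8, h9⟩ := Solv.exists_minimal_normal_le K h5
    have h10 : (M.map N.subtype).IsSubnormal := h6.isSubnormal.trans' h1.isSubnormal
    have h11 : M.map N.subtype ≠ ⊥ := fun h =>
      h8 ((Subgroup.map_eq_bot_iff_of_injective _ N.subtype_injective).1 h)
    have h12 : N ≤ No (M.map N.subtype) := (Subgroup.normal_subgroupOf_iff_le_normalizer
      (Subgroup.map_subtype_le M)).1 (by rwa [Solv.map_subtype_subgroupOf])
    have h13 : (M.map N.subtype).Normal := Solv.normal_iff_top_le_normalizer.2 fun g _ => by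
      have h13 : cs g (M.map N.subtype) ≤ N := (cs_mono g (Subgroup.map_subtype_le M)).trans_eq (cs_normal g N)
      have h14 : N ≤ No (cs g (M.map N.subtype)) := by
        rw [← cs_No]; exact (cs_normal g N).ge.trans (cs_mono g h12)
      haveI := (Subgroup.normal_subgroupOf_iff_le_normalizer h13).2 h14
      rcases h9 (M ⊓ (cs g (M.map N.subtype)).subgroupOf N) inferInstance inf_le_left with h15 | h15
      · refine ((hc _ _ h10 (h10.smul (MulAut.conj g)) (Solv.le_centralizer_of_inf_eq_bot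
          ((Subgroup.map_subtype_le M).trans h14) (h13.trans h12) ?_)).elim h11 fun h => h11 ?_).elim
        · rw [eq_bot_iff]
          rintro _ ⟨⟨x, hx, rfl⟩, h16⟩
          exact Subgroup.mem_bot.2 (congrArg Subtype.val (Subgroup.mem_bot.1 (h15 ▸ ⟨hx, h16⟩)))
        · exact cs_injective g (h.trans (cs_bot g).symm)
      · exact mem_No.2 (Subgroup.eq_of_le_of_card_ge (Subgroup.map_le_iff_le_comap.2
          (inf_eq_left.1 h15)) (card_cs g _).le).symm
    exact eq_top_iff.2 fun x _ => by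
      obtain ⟨y, hy, h14⟩ := ((h3 _ h13 (Subgroup.map_subtype_le M)).resolve_left h11).ge x.2
      exact h7 (Subtype.ext h14 ▸ hy)
  haveI := (Subgroup.nontrivial_iff_ne_bot N).2 h2
  refine ⟨N, h1, h2, fun K hK h6 => inf_eq_left.1 ((h3 _ inferInstance inf_le_left).resolve_left fun h7 =>
    (hc _ _ h1.isSubnormal hK.isSubnormal (Solv.le_centralizer_of_inf_eq_bot Subgroup.le_normalizer_of_normal
      Subgroup.le_normalizer_of_normal h7)).elim h2 h6), ⟨fun K hK => or_iff_not_imp_left.2 (h5 K hK)⟩,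
    fun h => h2 (eq_bot_iff.2 (h4 ▸ Subgroup.le_centralizer N)), h4, fun Q => ⟨fun h => ?_, fun n hn => ?_⟩⟩
  · have := Q.not_dvd_index
    rw [h, Subgroup.index_bot] at this
    exact h2 (eq_bot_iff.2 (hOp' ▸ Solv.le_pPrimeCore ((Fact.out : p.Prime).coprime_iff_not_dvd.2 this).symm))
  obtain ⟨R, hR⟩ := Q.exists_comap_subtype_eq
  have h6 : (n : H) ∉ No (R : Subgroup H) := fun h => hn (by
    rw [← hR]; exact Subgroup.le_normalizer_comap _ h)
  refine eq_bot_iff.2 fun x hx => Subgroup.mem_bot.2 (Subtype.ext (Subgroup.mem_bot.1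
    (ti_all hTI R n h6 ▸ ⟨?_, mem_cs.2 ?_⟩)))
  · have := hx.1
    rwa [← hR] at this
  · have := mem_cs.1 hx.2
    rwa [← hR] at this

end Cfsg.Agent.S4620
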