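import Cfsg.Statements.S4623
import Cfsg.Agent.Lib.Fusion.SymSyl

set_option autoImplicit false
open Cfsg

namespace Cfsg.Agent.S4623

open Subgroup Fusion Fusion.Sym Equiv

theorem gen {G : Type*} [Group G] {p : ℕ} (h : ∀ T : Subgroup G, (∀ x, x ^ p = 1 → x ∈ T) → ∀ x, x ∈ T)
    (x : G) : x ^ p ∈ commutator G := by
  have := h ((powMonoidHom p).ker.comap Abelianization.of) (fun x hx => by
    rw [mem_comap, MonoidHom.mem_ker, powMonoidHom_apply, ← map_pow, hx, map_one]) x
  rwa [mem_comap, MonoidHom.mem_ker, powMonoidHom_apply, ← map_pow, ← MonoidHom.mem_ker,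
    Abelianization.ker_of] at this

/-- For every prime p and every n, a Sylow p-subgroup P of the symmetric group on n letters has P/P' elementary abelian (the p-th power of every element of P lies in the derived subgroup of P), and the same holds for a Sylow p-subgroup of the alternating group on n letters. -/
theorem result (p : ℕ) [Fact p.Prime] (n : ℕ) (P : Sylow p (Equiv.Perm (Fin n))) (Q : Sylow p (alternatingGroup (Fin n))) :
    (∀ x : (P : Subgroup (Equiv.Perm (Fin n))), x ^ p ∈ commutator (P : Subgroup (Equiv.Perm (Fin n)))) ∧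
    (∀ x : (Q : Subgroup (alternatingGroup (Fin n))), x ^ p ∈ commutator (Q : Subgroup (alternatingGroup (Fin n)))) := by
  have hp : p.Prime := Fact.out
  refine ⟨gen fun T h x => (mem_map_iff_mem P.1.subtype_injective).1 (gen_sym _ _ rfl P (T.map P.1.subtype)
    (fun y hy e => ⟨⟨y, hy⟩, h _ (Subtype.ext e), rfl⟩) x.2), gen fun T h x => ?_⟩
  have hJ : Fintype.card (Fin (n % p)) < p := by simpa using Nat.mod_lt _ hp.pos
  have e : Om p (Fin (n / p)) (Fin (n % p)) ≃ Fin n := Fintype.equivOfCardEq (by simp [Nat.div_add_mod'])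
  obtain ⟨Q'⟩ : Nonempty (Sylow p (Perm (Fin (n / p)))) := inferInstance
  obtain ⟨R, hR⟩ := (sylow_alt hJ Q').exists_sylow
  obtain ⟨φ⟩ := sylow_equiv_of_hom e.altCongrHom.toMonoidHom R (fun x _ h => by simpa using h)
    (by rw [Nat.card_congr e.altCongrHom.toEquiv]) Q
  obtain ⟨x, rfl⟩ := φ.surjective x
  exact (mem_map_iff_mem R.1.subtype_injective).1 ((mem_map_iff_mem (subtype_injective _)).1
    (gen_alt Q' (((T.comap φ.toMonoidHom).map R.1.subtype).map (Subgroup.subtype _)) (fun y hy e =>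
      ⟨⟨y, hy.2⟩, ⟨⟨⟨y, hy.2⟩, hR ▸ hy⟩, h _ ((map_pow φ _ _).symm.trans
        ((map_eq_one_iff _ φ.injective).2 (Subtype.ext (Subtype.ext e)))), rfl⟩, rfl⟩)
      (mem_subgroupOf.1 (hR ▸ x.2))))

end Cfsg.Agent.S4623
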