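import Cfsg.Statements.S4626
import Cfsg.Agent.Lib.Block.Max

set_option autoImplicit false
open Cfsg

namespace Cfsg.Agent.S4626

open Cfsg.Agent.Blk
open Cfsg.Agent.Char hiding cj cj_mul cj_inv_cj cj_cj_inv

/-- Let G be a finite group, p a prime, M a maximal ideal of the algebraic integers containing p, P a Sylow p-subgroup of G and N a normal subgroup of index prime to p containing the centralizer C_G(P). Then every irreducible character of G whose kernel contains N lies in the principal p-block of G. -/
theorem result {G : Type*} [Group G] [Finite G] (p : ℕ) [Fact p.Prime] (M : Ideal Cfsg.AlgInt) (hM : Cfsg.IsPModular p M) (P : Sylow p G) (N : Subgroup G) [N.Normal] (hidx : ¬ p ∣ N.index)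
    (hC : Subgroup.centralizer ((P : Subgroup G) : Set G) ≤ N) (χ : Cfsg.IrrCharacter G) (hker : ∀ n ∈ N, (χ : G → ℂ) n = (χ : G → ℂ) 1) :
    χ ∈ Cfsg.principalBlock M G := by
  haveI : PMod M p := ⟨hM⟩
  have hk : N ≤ charKer χ.1 := fun n hn => χ.2.isCharacter.mem_charKer.2 (hker n hn)
  have hd : ¬ p ∣ charDegree χ.1 := fun h => hidx (h.trans
    (χ.2.degree_dvd_index (hk.trans (charKer_le_charCenter _)) (cast_deg χ).symm))
  have hB := isPBlock_blockOf (M := M) χ
  have hχ := mem_blockOf_self (M := M) χ
  obtain ⟨b, hb⟩ := hB.exists_root (hB.isDef_of_mnu (mnu_eq_zero hχ hd) (isSyl_sylow P))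
  obtain ⟨ξ, h1, h2⟩ := hb.exists_em hχ (height_eq_zero_of_not_dvd hχ hd)
  have h3 : ξ = irrOne _ := by
    have := Fintype.ofFinite (Ce (P : Subgroup G))
    by_contra hc
    apply em_ne_zero_iff.1 h2
    rw [show (fun n : Ce (P : Subgroup G) => χ.1 n) = χ.1 1 • (irrOne _).1 from
      funext fun n => by simpa using hker n (hC n.2), classInner_smul_left, classInner_irr,
      if_neg (Ne.symm hc), mul_zero]
  rw [← (third_main hb).2 ((isInducedBlock_iff.1 hb).1.eq_of_mem isPBlock_principal h1
    (h3 ▸ irrOne_mem_principal))]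
  exact hχ

end Cfsg.Agent.S4626
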