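import Cfsg.Statements.S4633
import Cfsg.Agent.Lib.Block.Cyc

set_option autoImplicit false
open Cfsg

namespace Cfsg.Agent.S4633

open Cfsg.Agent.Blk
open Cfsg.Agent.Char hiding cj cj_mul cj_inv_cj cj_cj_inv

/-- Let B be a block of the finite group G relative to a maximal ideal M of the algebraic integers containing the prime p, with a nontrivial cyclic defect group P. Let c be a block of C_G(P) inducing B and T the stabilizer of c in N_G(P) (the elements of N_G(P) conjugating c to itself); T contains C_G(P). Then T/C_G(P) is cyclic of order dividing p − 1, and it acts freely on the non-identity elements of P: an element of T fixing some non-identity element of P under conjugation lies in C_G(P). -/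
theorem result {G : Type*} [Group G] [Finite G] (p : ℕ) [Fact p.Prime] (M : Ideal Cfsg.AlgInt) (hM : Cfsg.IsPModular p M) (B : Set (Cfsg.IrrCharacter G)) (hB : Cfsg.IsPBlock M B) (P : Subgroup G) (hPD : Cfsg.IsDefectGroup p M B P) (hP1 : P ≠ ⊥) (hcyc : IsCyclic P) (c : Set (Cfsg.IrrCharacter (Subgroup.centralizer (P : Set G)))) (hc : Cfsg.IsInducedBlock M (Subgroup.centralizer (P : Set G)) c B) (T : Subgroup G) (hT : ∀ g : G, g ∈ T ↔ (g ∈ Subgroup.normalizer (P : Set G) ∧ Cfsg.StabilizesBlock (Subgroup.centralizer (P : Set G)) c g)) [hn : ((Subgroup.centralizer (P : Set G)).subgroupOf T).Normal] : IsCyclic (T ⧸ (Subgroup.centralizer (P : Set G)).subgroupOf T) ∧ (Subgroup.centralizer (P : Set G)).relIndex T ∣ p - 1 ∧ ∀ g ∈ T, ∀ x ∈ P, x ≠ 1 → g * x * g⁻¹ = x → g ∈ Subgroup.centralizer (P : Set G) := by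
  haveI : PMod M p := ⟨hM⟩
  have hp := (Fact.out : p.Prime)
  have hm := isMP_of_isInducedBlock hPD hc
  obtain rfl := hc.1.eq_stab hT
  have hfree := fun g hg x hx hx1 h => hm.mem_Ce_of_fix hcyc (g := g) (x := x) hg hx hx1 h
  obtain ⟨n, hn'⟩ := hm.bp.pg.exists_card_eq
  obtain ⟨z, hz⟩ := exists_prime_orderOf_dvd_card' (G := P) p (by
    rw [hn']
    refine dvd_pow_self p fun h => hP1 ?_
    rw [h, pow_zero] at hn'
    exact Subgroup.eq_bot_of_card_eq P hn')
  have hz' : orderOf (z : G) = p := by rwa [Subgroup.orderOf_coe]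
  have hZP : Subgroup.zpowers (z : G) ≤ P := Subgroup.zpowers_le.2 z.2
  have hTZ : stab (⊤ ⊓ No P) (barS M (Ce P) c) ≤ No (Subgroup.zpowers (z : G)) := fun g hg =>
    Solv.normalizer_le_normalizer_of_le_isCyclic hcyc hZP hg.1.2
  let φ := (Fusion.cAut (Subgroup.zpowers (z : G))).comp (Subgroup.inclusion hTZ)
  have hker : (Ce P).subgroupOf _ = φ.ker := by
    ext g
    rw [MonoidHom.mem_ker, Subgroup.mem_subgroupOf]
    constructor
    · intro h
      refine Fusion.aut_ext fun u hu => ?_
      rw [Fusion.afun_one, MonoidHom.comp_apply, Fusion.afun_cAut _ hu]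
      exact conj_eq_of_mem_Ce h (hZP hu)
    · intro h
      refine hfree g g.2 z z.2 (fun h1 => hp.one_lt.ne' (by rw [← hz', h1, orderOf_one])) ?_
      have := Fusion.afun_cAut (Subgroup.inclusion hTZ g) (Subgroup.mem_zpowers (z : G))
      rw [← MonoidHom.comp_apply, h, Fusion.afun_one] at this
      exact this.symm
  have hcZ : Nat.card (Subgroup.zpowers (z : G)) = p := by rw [Nat.card_zpowers, hz']
  have hcA : IsCyclic (MulAut (Subgroup.zpowers (z : G))) := by
    have := ZMod.isCyclic_units_prime (hcZ ▸ hp : (Nat.card (Subgroup.zpowers (z : G))).Prime)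
    exact isCyclic_of_injective (IsCyclic.mulAutMulEquiv _).toMonoidHom
      (IsCyclic.mulAutMulEquiv _).injective
  have e := (QuotientGroup.quotientMulEquivOfEq hker).trans (QuotientGroup.quotientKerEquivRange φ)
  refine ⟨isCyclic_of_injective e.toMonoidHom e.injective, ?_, hfree⟩
  rw [Subgroup.relIndex, Subgroup.index, Nat.card_congr e.toEquiv, ← Nat.totient_prime hp,
    ← congrArg Nat.totient hcZ, ← IsCyclic.card_mulAut]
  exact Subgroup.card_subgroup_dvd_card _

end Cfsg.Agent.S4633
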