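import Cfsg.Statements.S4634
import Cfsg.Agent.Lib.Block.Perf

set_option autoImplicit false
open Cfsg

namespace Cfsg.Agent.S4634

open Cfsg.Agent.Blk
open Cfsg.Agent.Char hiding cj cj_mul cj_inv_cj cj_cj_inv
open scoped Classical

/-- Let B be a block of the finite group G relative to a maximal ideal M of the algebraic integers containing the prime p, with a nontrivial cyclic defect group P, let c be a block of C_G(P) inducing B, T the stabilizer of c in N_G(P) and e the index of C_G(P) in T. Let F be any finite group of order #P · e having a cyclic subgroup Q of order #P that is its own centralizer (F is then the semidirect product of Q by a cyclic group of order e acting faithfully). Then there is a perfect isometry from the set of all irreducible characters of F onto B whose signs agree on all the characters of F that do not contain Q in their kernel. -/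
theorem result {G : Type*} [Group G] [Finite G] (p : ℕ) [Fact p.Prime] (M : Ideal Cfsg.AlgInt) (hM : Cfsg.IsPModular p M) (B : Set (Cfsg.IrrCharacter G)) (hB : Cfsg.IsPBlock M B) (P : Subgroup G) (hPD : Cfsg.IsDefectGroup p M B P) (hP1 : P ≠ ⊥) (hcyc : IsCyclic P) (c : Set (Cfsg.IrrCharacter (Subgroup.centralizer (P : Set G)))) (hc : Cfsg.IsInducedBlock M (Subgroup.centralizer (P : Set G)) c B) (T : Subgroup G) (hT : ∀ g : G, g ∈ T ↔ (g ∈ Subgroup.normalizer (P : Set G) ∧ Cfsg.StabilizesBlock (Subgroup.centralizer (P : Set G)) c g)) (e : ℕ) (he : (Subgroup.centralizer (P : Set G)).relIndex T = e) (F : Type*) [Group F] [Finite F] (hF : Nat.card F = Nat.card P * e) (Q : Subgroup F) (hQ : IsCyclic Q) (hQcard : Nat.card Q = Nat.card P) (hQC : Subgroup.centralizer (Q : Set F) = Q) : ∃ (I : Cfsg.IrrCharacter F → Cfsg.IrrCharacter G) (ε : Cfsg.IrrCharacter F → ℤ), Cfsg.IsPerfectIsometry p M (Set.univ : Set (Cfsg.IrrCharacter F)) B I ε ∧ ∀ η η' : Cfsg.IrrCharacter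 F, (∃ x ∈ Q, (η : F → ℂ) x ≠ (η : F → ℂ) 1) → (∃ x ∈ Q, (η' : F → ℂ) x ≠ (η' : F → ℂ) 1) → ε η = ε η' := by
  haveI : PMod M p := ⟨hM⟩
  have hp : p.Prime := Fact.out
  have hm := mp_of_ind hPD hc
  obtain rfl := hc.1.eq_stab hT
  rw [← card_autE] at he
  have := Fintype.ofFinite P
  have := Fintype.ofFinite Q
  have h0 := hm.card_autE_dvd hcyc hP1
  obtain ⟨n, hn⟩ := hm.mp.bp.pg.exists_card_eq
  have hi : Q.index = e := Nat.eq_of_mul_eq_mul_left Nat.card_pos
    ((Q.card_mul_index.trans hF).trans (by rw [hQcard]))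
  have h1 : e < p := lt_of_le_of_lt (Nat.le_of_dvd (Nat.sub_pos_of_lt hp.one_lt) (he ▸ h0))
    (Nat.sub_one_lt hp.ne_zero)
  have he0 : 0 < e := he ▸ Nat.card_pos
  have hQp : IsPGroup p Q := IsPGroup.of_card (hQcard.trans hn)
  let S := hQp.toSylow (hi ▸ Nat.not_dvd_of_pos_of_lt he0 h1)
  have hs : IsSyl p Q ⊤ := isSyl_sylow S
  have hN : No Q = ⊤ := by
    have h2 := S.card_eq_index_normalizer
    have h3 := card_sylow_modEq_one p F
    have h4 : (No Q).index ≤ e := hi ▸ Nat.le_of_dvd (hi ▸ he0) (Subgroup.index_dvd_of_le (le_No Q))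
    rw [h2] at h3
    exact Subgroup.index_eq_one.1 (h3.eq_of_lt_of_lt (h4.trans_lt h1) hp.one_lt)
  have hu : principalBlock M F = Set.univ := isPBlock_principal.isUB.bar_inj isUB_univ (by
    rw [isPBlock_principal.isBlock.eq_one_of_Ce_le hQp le_top hN.ge
      (inf_le_right.trans hQC.le), bar_univ])
  have hm' := mp_principal (M := M) hs
  have hQ1 : Q ≠ ⊥ := fun h => hP1 (by rw [← Subgroup.card_eq_one, ← hQcard, h, Subgroup.card_bot])
  have hf := hm'.fa_of_isCyclic hQ
  have he' : Nat.card (autE Q (e0 M Q)) = e := by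
    rw [card_autE_principal, hN, Subgroup.relIndex_top_right, show Ce Q = Q from hQC, hi]
  obtain ⟨χ, hχ⟩ : ∃ χ : IrrCharacter F, (∃ η : IrrCharacter F, ∃ x ∈ Q, η.1 x ≠ η.1 1) →
      ∃ x ∈ Q, χ.1 x ≠ χ.1 1 := by
    by_cases h : ∃ η : IrrCharacter F, ∃ x ∈ Q, η.1 x ≠ η.1 1
    exacts [⟨_, fun _ => h.choose_spec⟩, ⟨irrOne F, fun h' => (h h').elim⟩]
  obtain ⟨δ', ζ', a', h7, h7'⟩ := hf.exists_dd (ε := fun _ => 1) hQ1 (fun χ hχ u hu => by
    rw [one_mul, hf.dn_principal u.2 (coe_ne_one hu) hχ]) (fun _ _ => by simp)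
    hf.exd_principal (hm'.rank_eq hQ hQ1) (hu ▸ Set.mem_univ χ)
  obtain ⟨D, ε, δ, ζ, a, h6, -⟩ := hm.exists_dd hcyc hP1 hB.nonempty.choose_spec
  obtain ⟨I, s, h8, h9⟩ := h6.perfect h7 (mulEquivOfCyclicCardEq hQcard) (aut_eq_of_card hcyc
    hm.mp.bp.pg (by rw [Subgroup.card_map_of_injective (MulAut.congr _).injective, he, he'])
    (by rwa [Subgroup.card_map_of_injective (MulAut.congr _).injective, he', ← he]))
  refine ⟨I, s, hu ▸ h8, fun η η' h10 h11 => ?_⟩
  obtain ⟨u, hu1⟩ := exists_ne_one_of_ne_bot hQ1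
  have k1 := h7.exc.card_exc h7.exd
  have k2 : ∀ η : IrrCharacter F, (∃ x ∈ Q, η.1 x ≠ η.1 1) → ∀ c : ℤ, c * c = 1 →
      (∀ u : Q, u ≠ 1 → η.1 u = c) → (excSet ζ').card = 1 ∧ charDegree η.1 = e ∧ η ≠ irrOne F := by
    rintro η ⟨x, hx, h12⟩ c h13 h14
    obtain ⟨θ, h15, h16⟩ := (η.2.isCharacter.res Q).exists_irr_constituent
      fun h => η.2.apply_one_ne_zero (congrFun h 1)
    obtain ⟨l, rfl⟩ := (lcEquiv hf.comm').surjective ⟨θ, h15⟩ |>.imp fun _ => congrArg Subtype.val
    obtain ⟨k, hk⟩ := (η.2.isCharacter.res Q).classInner_eq_nat h15.isCharacter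
    have h17 := η.2.degree_le_index_mul h15.isCharacter hk (cast_deg η).symm (d := 1)
      (by simp [lcEquiv_apply])
    have h18 : k ≠ 0 := fun h => h16 (by rw [hk, h, Nat.cast_zero])
    have h19 : charDegree η.1 ≤ e := (Nat.le_mul_of_pos_left _ (Nat.pos_of_ne_zero h18)).trans
      (by rwa [hi, mul_one] at h17)
    have h20 : Nat.card Q ≤ charDegree η.1 + 1 := not_lt.1 fun h => h12
      (eq_of_const hf.comm' (η.2.isCharacter.res Q) h14 (cast_deg η).symm h ⟨x, hx⟩)
    obtain ⟨l, hl⟩ := exists_lc_ne_one hf.comm' hu1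
    have := EXC.card_pos ζ' hl
    rw [he'] at k1
    exact ⟨by nlinarith, by nlinarith, fun h => h12 (by rw [h]; rfl)⟩
  have k3 : ∀ η : IrrCharacter F, (∃ x ∈ Q, η.1 x ≠ η.1 1) → η ∈ excSet ζ' := fun η h12 => by
    by_contra h13
    have h14 : η ∈ principalBlock M F := hu ▸ Set.mem_univ η
    obtain ⟨h15, h16, h17⟩ := k2 η h12 _ (h7.a_sq h14 h13) fun u => h7.D_nexc h14 h13
    have h18 : χ ∈ excSet ζ' := h7' h15 ▸ Finset.mem_singleton_self χ
    obtain ⟨l, hl, h19⟩ := mem_excSet.1 h18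
    obtain ⟨-, h20, h21⟩ := k2 χ (hχ ⟨η, h12⟩) (-δ') (by rw [neg_mul_neg, h7.δ_sq]) fun u hu => by
      have := h7.D_exc hl hu
      rw [eta_of_orb hf.comm' (h7.exc.orb_of_card h15.le) hl hu, h19] at this
      simpa using this
    have h22 : ∑ ψ : IrrCharacter F, charDegree ψ.1 ^ 2 = Nat.card F := by
      have := sum_degree_sq (G := F)
      simp only [← cast_deg] at this
      exact_mod_cast this
    have h23 : η ≠ χ := fun h => h13 (h ▸ h18)
    have h24 := Finset.sum_le_sum_of_subset (f := fun ψ : IrrCharacter F => charDegree ψ.1 ^ 2)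
      (Finset.subset_univ {η, χ, irrOne F})
    rw [Finset.sum_insert (by simp [h23, h17]), Finset.sum_pair h21, h22, h16, h20, hF, ← hQcard,
      ← k1, he', h15] at h24
    have := charDegree_ne_zero (irrOne F)
    nlinarith [Nat.pos_of_ne_zero this]
  rw [h9 η (k3 η h10), h9 η' (k3 η' h11)]

end Cfsg.Agent.S4634
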