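import Cfsg.Statements.S4635
import Cfsg.Agent.Lib.Block.Perf

set_option autoImplicit false
open Cfsg

namespace Cfsg.Agent.S4635

open Cfsg.Agent.Blk
open Cfsg.Agent.Char hiding cj cj_mul cj_inv_cj cj_cj_inv

/-- Let B be a block of the finite group G relative to a maximal ideal M of the algebraic integers containing the prime p, with a nontrivial cyclic defect group P; let Z be the subgroup of order p of P and H = N_G(Z), which contains N_G(P). Let c be the block of H with defect group P that induces B. Then B and c contain the same number of irreducible characters, have the same p-regular rank, and there is a perfect isometry from c onto B. -/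
theorem result {G : Type*} [Group G] [Finite G] (p : ℕ) [Fact p.Prime] (M : Ideal Cfsg.AlgInt) (hM : Cfsg.IsPModular p M) (B : Set (Cfsg.IrrCharacter G)) (hB : Cfsg.IsPBlock M B) (P : Subgroup G) (hPD : Cfsg.IsDefectGroup p M B P) (hP1 : P ≠ ⊥) (hcyc : IsCyclic P) (Z : Subgroup G) (hZ : Z ≤ P) (hZcard : Nat.card Z = p) (H : Subgroup G) (hH : H = Subgroup.normalizer (Z : Set G)) (c : Set (Cfsg.IrrCharacter H)) (hcD : Cfsg.IsDefectGroup p M c (P.subgroupOf H)) (hc : Cfsg.IsInducedBlock M H c B) : Nat.card c = Nat.card B ∧ Cfsg.blockRank p c = Cfsg.blockRank p B ∧ ∃ (I : Cfsg.IrrCharacter H → Cfsg.IrrCharacter G) (ε : Cfsg.IrrCharacter H → ℤ), Cfsg.IsPerfectIsometry p M c B I ε := by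
  haveI : PMod M p := ⟨hM⟩
  have hb := hB.isBlock
  have hP := (hB.isDefectGroup_iff.1 hPD).pg
  have hK : No P ≤ H := hH ▸ No_le_No_of_cyclic hcyc hP hZ hZcard
  obtain ⟨e, h1, h2, h3⟩ := exists_mp_pair hK hPD hcD hc
  have κ := Subgroup.subgroupOfEquivOfLe ((le_No P).trans hK)
  have := Fintype.ofFinite P
  have := Fintype.ofFinite (P.subgroupOf H)
  have h4 : IsCyclic (P.subgroupOf H) := isCyclic_of_surjective _ κ.symm.surjective
  have h5 : P.subgroupOf H ≠ ⊥ := fun h => hP1 (by
    rw [← Subgroup.card_eq_one, ← Nat.card_congr κ.toEquiv, h, Subgroup.card_bot])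
  obtain ⟨D, ε, δ, ζ, a, h6, -⟩ := h1.exists_dd hcyc hP1 hB.nonempty.choose_spec
  obtain ⟨D', ε', δ', ζ', a', h7, -⟩ := h2.exists_dd h4 h5 hc.1.nonempty.choose_spec
  obtain ⟨I, s, h8, -⟩ := h6.perfect h7 _ h3
  exact ⟨Nat.card_congr (h8.1.equiv I), by rw [h6.rank_eq, h7.rank_eq, ← h3,
    Subgroup.card_map_of_injective (MulAut.congr _).injective], I, s, h8⟩

end Cfsg.Agent.S4635
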