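import Cfsg.Statements.S4636
import Cfsg.Agent.Lib.Block.Cyc

set_option autoImplicit false
open scoped Pointwise
open Cfsg

namespace Cfsg.Agent.S4636

open Cfsg.Agent.Blk
open Cfsg.Agent.Char hiding cj cj_mul cj_inv_cj cj_cj_inv

/-- Let P be a nontrivial cyclic p-subgroup of the finite group G and Z its subgroup of order p. For every x outside N_G(Z), P meets its conjugate xPx⁻¹ trivially; consequently N_G(Q) ≤ N_G(Z) for every nontrivial subgroup Q of P. -/
theorem result {G : Type*} [Group G] [Finite G] (p : ℕ) [Fact p.Prime] (P : Subgroup G) (hP : IsPGroup p P) (hP1 : P ≠ ⊥) (hcyc : IsCyclic P) (Z : Subgroup G) (hZ : Z ≤ P) (hZcard : Nat.card Z = p) : (∀ x : G, x ∉ Subgroup.normalizer (Z : Set G) → P ⊓ MulAut.conj x • P = ⊥) ∧ ∀ Q : Subgroup G, Q ≤ P → Q ≠ ⊥ → Subgroup.normalizer (Q : Set G) ≤ Subgroup.normalizer (Z : Set G) := by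
  have hp := (Fact.out : p.Prime)
  refine ⟨fun x hx => ?_, fun Q hQ hQ1 => Solv.normalizer_le_normalizer_of_le_isCyclic
    (Subgroup.isCyclic_of_le hQ) (le_of_isCyclic_of_card_prime hcyc hP hZ (hZcard ▸ hp) hQ hQ1)⟩
  by_contra h
  change P ⊓ cs x P ≠ ⊥ at h
  have h1 := le_of_isCyclic_of_card_prime hcyc hP hZ (hZcard ▸ hp) inf_le_left h
  have h2 : IsCyclic (cs x P) := isCyclic_of_surjective _ (conjIso (rfl : cs x P = _)).surjective
  exact hx (mem_No.2 (Solv.eq_of_isCyclic_of_card_eq h2 (cs_mono x hZ) (h1.trans inf_le_right)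
    (card_cs x Z)))

end Cfsg.Agent.S4636
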