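import Cfsg.Statements.S4638
import Cfsg.Agent.Lib.Block.Perf

set_option autoImplicit false
open Cfsg

namespace Cfsg.Agent.S4638

open Cfsg.Agent.Blk
open Cfsg.Agent.Char hiding cj cj_mul cj_inv_cj cj_cj_inv

/-- Let B be a block of the finite group G relative to a maximal ideal M of the algebraic integers containing 2, with a Klein four defect group P, and let c be its Brauer correspondent: the block of N_G(P) with defect group P that induces B. Then there is a perfect isometry from c onto B. -/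
theorem result {G : Type*} [Group G] [Finite G] (M : Ideal Cfsg.AlgInt) (hM : Cfsg.IsPModular 2 M) (B : Set (Cfsg.IrrCharacter G)) (hB : Cfsg.IsPBlock M B) (P : Subgroup G) (hPD : Cfsg.IsDefectGroup 2 M B P) (hV : IsKleinFour P) (c : Set (Cfsg.IrrCharacter (Subgroup.normalizer (P : Set G)))) (hcD : Cfsg.IsDefectGroup 2 M c (P.subgroupOf (Subgroup.normalizer (P : Set G)))) (hc : Cfsg.IsInducedBlock M (Subgroup.normalizer (P : Set G)) c B) : ∃ (I : Cfsg.IrrCharacter (Subgroup.normalizer (P : Set G)) → Cfsg.IrrCharacter G) (ε : Cfsg.IrrCharacter (Subgroup.normalizer (P : Set G)) → ℤ), Cfsg.IsPerfectIsometry 2 M c B I ε := by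
  haveI : PMod M 2 := ⟨hM⟩
  haveI : Fact (Nat.Prime 2) := ⟨Nat.prime_two⟩
  obtain ⟨e, h1, h2, h3⟩ := exists_mp_pair le_rfl hPD hcD hc
  have κ := Subgroup.subgroupOfEquivOfLe (le_No P)
  have := Fintype.ofFinite P
  have := Fintype.ofFinite (P.subgroupOf (No P))
  obtain ⟨D, δ, ζ, a, h6⟩ := h1.exists_dd_klein hV.card_four IsKleinFour.mul_self
  obtain ⟨D', δ', ζ', a', h7⟩ := h2.exists_dd_klein ((Nat.card_congr κ.toEquiv).trans hV.card_four)
    fun u => κ.injective (by rw [map_mul, IsKleinFour.mul_self, map_one])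
  obtain ⟨I, s, h8, -⟩ := h6.perfect h7 _ h3
  exact ⟨I, s, h8⟩

end Cfsg.Agent.S4638
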