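import Cfsg.Statements.S4640
import Cfsg.Agent.Lib.Block.Major

set_option autoImplicit false
open Cfsg

namespace Cfsg.Agent.S4640

open Cfsg.Agent.Blk
open Cfsg.Agent.Char hiding cj cj_mul cj_inv_cj cj_cj_inv
open scoped ComplexConjugate

/-- Let N be a normal subgroup of the finite group G of index a power of the prime p, M a maximal ideal of the algebraic integers containing p, b a block of N stabilized by every element of G, and B a block of G covering b (some member of B has a member of b as a constituent of its restriction to N). Suppose that B has a commutative defect group P. Then G = NP and P ∩ N is a defect group of b; every member of B restricts to a member of b; every member of b is the restriction of exactly [G : N] members of B; B contains exactly [G : N] times as many irreducible characters as b; and B and b have the same p-regular rank. -/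
theorem result {G : Type*} [Group G] [Fintype G] (p : ℕ) [Fact p.Prime] (M : Ideal Cfsg.AlgInt) (hM : Cfsg.IsPModular p M) (N : Subgroup G) [N.Normal] [Fintype N] (hNi : ∃ k : ℕ, N.index = p ^ k) (b : Set (Cfsg.IrrCharacter N)) (hb : Cfsg.IsPBlock M b) (hstab : ∀ g : G, Cfsg.StabilizesBlock N b g) (B : Set (Cfsg.IrrCharacter G)) (hB : Cfsg.IsPBlock M B) (hcov : ∃ χ ∈ B, ∃ θ ∈ b, Cfsg.classInner (fun n : N => (χ : G → ℂ) n) (θ : N → ℂ) ≠ 0) (P : Subgroup G) (hPD : Cfsg.IsDefectGroup p M B P) (hPab : ∀ x ∈ P, ∀ y ∈ P, x * y = y * x) : N ⊔ P = ⊤ ∧ Cfsg.IsDefectGroup p M b ((P ⊓ N).subgroupOf N) ∧ (∀ χ ∈ B, ∃ θ ∈ b, ∀ n : N, (χ : G → ℂ) n = (θ : N → ℂ) n) ∧ (∀ θ ∈ b, Nat.card {χ : Cfsg.IrrCharacter G // χ ∈ B ∧ ∀ n : N, (χ : G → ℂ) n = (θ : N → ℂ) n} = N.index) ∧ Nat.card B = N.index * Nat.card b ∧ Cfsg.blockRank p B = Cfsg.blockRank p b := by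
  haveI : PMod M p := ⟨hM⟩
  classical
  obtain ⟨k, hk⟩ := hNi
  have hP := hB.isDefectGroup_iff.1 hPD
  have hc := (hB.isUB.cover_iff hb.isUB).1 hcov
  have hinv : barS M N b ∈ inv (kk M) (⊤ : Subgroup G) := mem_inv.2 fun g _ =>
    (mem_stab.1 ((hb.stabilizes_normal_iff g).1 (hstab g))).2
  have hreg : ∀ g : G, ¬ p ∣ orderOf g → g ∈ N := fun g hg => mem_of_preg_of_index hk hg
  have hBb : bar M B = barS M N b := by
    rw [hb.isBlockS.eq_orb_of_preg le_top (top_le_No N) hB.isBlock (fun g _ => hreg g) hc,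
      orb_of_inv hinv]
  have hNP : N ⊔ P = ⊤ := by
    have h1 := IsDef.not_dvd_index hb.isBlockS le_top (top_le_No N) hinv (hBb ▸ hP)
    rw [sup_comm]
    exact eq_of_relIndex_pow le_sup_right le_top (n := k) (by simpa using hk) h1
  have hcomm : commutator G ≤ N := by
    rw [commutator_def, Subgroup.commutator_le]
    intro x _ y _
    obtain ⟨a, ha, n, hn, rfl⟩ := exists_mul_of_mem_sup (le_No_of_normal P N)
      (show x ∈ P ⊔ N by rw [sup_comm, hNP]; trivial)
    obtain ⟨c, hc, m, hm, rfl⟩ := exists_mul_of_mem_sup (le_No_of_normal P N)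
      (show y ∈ P ⊔ N by rw [sup_comm, hNP]; trivial)
    rw [← QuotientGroup.eq_one_iff, ← QuotientGroup.mk'_apply, map_commutatorElement,
      commutatorElement_eq_one_iff_mul_comm]
    simp only [map_mul, QuotientGroup.mk'_apply, (QuotientGroup.eq_one_iff n).2 hn,
      (QuotientGroup.eq_one_iff m).2 hm, mul_one]
    rw [← QuotientGroup.mk_mul, hPab a ha c hc, QuotientGroup.mk_mul]
  have hirr : ∀ χ ∈ B, IsIrrCharacter N fun n : N => χ.1 n := fun χ hχ => by
    refine (χ.2.res_irr_or_vanish hcomm).resolve_right ?_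
    rintro ⟨U, h1, h2, h3⟩
    apply h1
    rw [eq_top_iff, ← hNP]
    refine sup_le h2 fun u hu => by_contra fun hn => ?_
    obtain ⟨s, -, hs, h4⟩ := hB.exists_apply_mul_ne_zero hP
      ⟨hu, mem_Ce.2 fun q hq => hPab q hq u hu⟩ hχ
    exact h4 (h3 _ fun h5 => hn (by simpa using U.mul_mem h5 (U.inv_mem (h2 (hreg s hs)))))
  have hres : ∀ χ ∈ B, ∃ θ ∈ b, ∀ n : N, χ.1 n = θ.1 n := fun χ hχ => by
    obtain ⟨θ, hθ, h⟩ := hb.exists_under_mem hB hc hχ
    exact ⟨θ, hθ, congrFun ((hirr χ hχ).eq_of_classInner_ne_zero θ.2 h)⟩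
  have hover : ∀ θ ∈ b, ∀ χ : IrrCharacter G, em N χ θ ≠ 0 → χ ∈ B := fun θ hθ χ h => by
    have h1 := blk_mul_ne_zero_of_em (M := M) h
    rw [hb.es_blk_eq hθ, ← hBb] at h1
    exact hB.mem_iff.2 ((isBlock_blk χ).eq_of_mul_ne_zero hB.isBlock h1)
  have hcnt : ∀ θ ∈ b, (Finset.univ.filter fun χ : IrrCharacter G =>
      χ ∈ B ∧ ∀ n : N, χ.1 n = θ.1 n).card = N.index := fun θ hθ => by
    obtain ⟨χ₀, h0, h1⟩ := hb.exists_over_of_cover hB.isUB hc hθ
    have h2 := (hirr χ₀ h0).eq_of_classInner_ne_zero θ.2 h1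
    have h3 : inertia N θ.1 = ⊤ := eq_top_iff.2 fun g _ => icj_eq_iff.1 (Subtype.ext (by
      funext n
      rw [icj_apply, ← h2]; exact χ₀.2.isClassFunction.apply_conj _ _))
    have h4 := sum_em_sq θ
    rw [h3, Subgroup.index_top, mul_one] at h4
    rw [← h4, Finset.card_filter]
    refine Finset.sum_congr rfl fun χ _ => ?_
    split_ifs with h
    · rw [em_of_res_self h.2, one_pow]
    · by_contra h5
      have h6 : em N χ θ ≠ 0 := fun h7 => h5 (by rw [h7]; simp)
      obtain ⟨φ, -, h7⟩ := hres χ (hover θ hθ χ h6)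
      exact h ⟨hover θ hθ χ h6, by rw [eq_of_res_of_em h7 h6]; exact h7⟩
  have hsum : ∀ F : IrrCharacter G → ℂ, ∀ F' : IrrCharacter N → ℂ,
      (∀ χ θ, (∀ n : N, χ.1 n = θ.1 n) → F χ = F' θ) →
      ∑ χ ∈ fs B, F χ = N.index * ∑ θ ∈ fs b, F' θ := fun F F' h => by
    choose! r hr1 hr2 using hres
    rw [← Finset.sum_fiberwise_of_maps_to (g := r) (t := fs b)
      (fun χ hχ => mem_fs.2 (hr1 χ (mem_fs.1 hχ))), Finset.mul_sum]
    refine Finset.sum_congr rfl fun θ hθ => ?_
    rw [← hcnt θ (mem_fs.1 hθ), ← nsmul_eq_mul, ← Finset.sum_const]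
    refine Finset.sum_congr ?_ fun χ hχ => h _ _ (Finset.mem_filter.1 hχ).2.2
    ext χ
    simp only [Finset.mem_filter, mem_fs, Finset.mem_univ, true_and]
    refine and_congr_right fun hχ => ⟨fun h1 => h1 ▸ hr2 χ hχ, fun h1 => ?_⟩
    exact Subtype.ext (funext fun n => (hr2 χ hχ n).symm.trans (h1 n))
  refine ⟨hNP, ?_, hres, fun θ hθ => ?_, ?_, ?_⟩
  · exact (hb.isDefectGroup_subgroupOf_iff inf_le_right).2
      (hb.isBlockS.knorr_stable le_top (top_le_No N) hB.isBlock hc hinv hP)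
  · rw [← hcnt θ hθ, Nat.card_eq_fintype_card, Fintype.card_subtype]
  · have := hsum (fun _ => 1) (fun _ => 1) fun _ _ _ => rfl
    rw [card_fs, card_fs]
    simp only [Finset.sum_const, nsmul_eq_mul, mul_one] at this
    exact_mod_cast this
  · apply Nat.cast_injective (R := ℂ)
    have h0 : (N.index : ℂ) ≠ 0 := Nat.cast_ne_zero.2 Subgroup.index_ne_zero_of_finite
    rw [hB.isUB.blockRank_eq_sum, hb.isUB.blockRank_eq_sum,
      hsum _ (fun θ => (N.index : ℂ)⁻¹ * classInner (reg p θ.1) θ.1), ← Finset.mul_sum,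
      mul_inv_cancel_left₀ h0]
    intro χ θ h
    unfold classInner
    rw [← N.index_mul_card, Nat.cast_mul, mul_inv, mul_assoc]
    congr 2
    rw [← Finset.sum_subset (Finset.subset_univ (Finset.univ.filter (· ∈ N))) fun g _ hg => by
      rw [reg_of_dvd (by_contra fun h1 => hg (by simpa using hreg g h1)), zero_mul]]
    rw [Finset.sum_filter, ← sum_subgroup]
    refine Finset.sum_congr rfl fun n _ => ?_
    rw [reg, reg, Subgroup.orderOf_coe, h]

end Cfsg.Agent.S4640
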