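import Cfsg.Statements.S4644
import Cfsg.Agent.Lib.Block.Wat

set_option autoImplicit false
open Cfsg

namespace Cfsg.Agent.S4644

open Cfsg.Agent.Blk
open Cfsg.Agent.Char hiding cj cj_mul cj_inv_cj cj_cj_inv

/-- Let B be a block of the finite group G relative to a maximal ideal M of the algebraic integers containing the prime p, with a commutative defect group P; let c be a block of C_G(P) inducing B and T the stabilizer of c in N_G(P). Let u be an element of P fixed under conjugation by every element of T, H = C_G(u) (so C_G(P) ≤ H), and f the block of H induced by c inside H. Then B and f have the same p-regular rank and the same number of irreducible characters. -/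
theorem result {G : Type*} [Group G] [Finite G] (p : ℕ) [Fact p.Prime] (M : Ideal Cfsg.AlgInt) (hM : Cfsg.IsPModular p M) (B : Set (Cfsg.IrrCharacter G)) (hB : Cfsg.IsPBlock M B) (P : Subgroup G) (hPD : Cfsg.IsDefectGroup p M B P) (hPab : ∀ x ∈ P, ∀ y ∈ P, x * y = y * x) (c : Set (Cfsg.IrrCharacter (Subgroup.centralizer (P : Set G)))) (hc : Cfsg.IsInducedBlock M (Subgroup.centralizer (P : Set G)) c B) (T : Subgroup G) (hT : ∀ g : G, g ∈ T ↔ (g ∈ Subgroup.normalizer (P : Set G) ∧ Cfsg.StabilizesBlock (Subgroup.centralizer (P : Set G)) c g)) (u : G) (hu : u ∈ P) (huT : ∀ g ∈ T, g * u * g⁻¹ = u) (H : Subgroup G) (hH : H = Subgroup.centralizer ({u} : Set G)) (f : Set (Cfsg.IrrCharacter H)) (hf : Cfsg.IsInducedBlockIn M H (Subgroup.centralizer (P : Set G)) c f) : Cfsg.blockRank p B = Cfsg.blockRank p f ∧ Nat.card B = Nat.card f := by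
  haveI : PMod M p := ⟨hM⟩
  subst hH
  have h : MP p B P (barS M (Ce P) c) := ⟨hB, isMP_of_isInducedBlock hPD hc⟩
  have hcP : P ≤ Ce P := fun x hx => mem_Ce.2 fun y hy => hPab y hy x hx
  have hcb := (isInducedBlock_iff.1 hc).1
  have h1 : ∀ t ∈ stab (⊤ ⊓ No P) (barS M (Ce P) c), t * u * t⁻¹ = u := fun t ht =>
    huT t ((hT t).2 ⟨ht.1.2, hcb.isUB.stabilizesBlock_iff.2 ⟨No_le_No_Ce _ ht.1.2, ht.2⟩⟩)
  have h2 := Subgroup.zpowers_le_of_mem hu
  have h3 : ∀ (K : Subgroup G) (hK : K = Ce (Subgroup.zpowers u)) (f : Set (IrrCharacter K)),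
      IsInducedBlockIn M K (Ce P) c f →
      blockRank p B = blockRank p f ∧ Nat.card B = Nat.card f := by
    rintro K rfl f hf
    obtain ⟨-, h3, h4⟩ := (isInducedBlockIn_Ce_iff h.bp.pg h2 (hcP.trans (Ce_anti h2))).1 hf
    have h5 := h.card_watanabe hcP hu h1
    have h6 := (h.rank_sb hu).symm.trans (h.watanabe hcP hu h1)
    rw [rk] at h6
    rw [h.bp.lb_eq h4, h3.cb_barS] at h5 h6
    exact ⟨h6.symm, by rw [card_fs, card_fs, h5]⟩
  exact h3 _ (Ce_zpowers u).symm f hf

end Cfsg.Agent.S4644
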