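import Cfsg.Statements.S4645
import Cfsg.Agent.Lib.Block.Nil

set_option autoImplicit false
open Cfsg

namespace Cfsg.Agent.S4645

open Cfsg.Agent.Blk
open Cfsg.Agent.Char hiding cj cj_mul cj_inv_cj cj_cj_inv

/-- Let B be a block of the finite group G relative to a maximal ideal M of the algebraic integers containing the prime p, with a nontrivial cyclic defect group P; let c be a block of C_G(P) inducing B and T the stabilizer of c in N_G(P). Let Q be a nontrivial subgroup of P (so C_G(P) ≤ C_G(Q)), f the block of C_G(Q) induced by c inside C_G(Q), and T' the stabilizer of f in N_G(Q). Then T' = T·C_G(Q), the index of C_G(Q) in T' equals the index of C_G(P) in T, f has p-regular rank 1, and f is a nilpotent block of C_G(Q). -/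
theorem result {G : Type*} [Group G] [Finite G] (p : ℕ) [Fact p.Prime] (M : Ideal Cfsg.AlgInt) (hM : Cfsg.IsPModular p M) (B : Set (Cfsg.IrrCharacter G)) (hB : Cfsg.IsPBlock M B) (P : Subgroup G) (hPD : Cfsg.IsDefectGroup p M B P) (hP1 : P ≠ ⊥) (hcyc : IsCyclic P) (c : Set (Cfsg.IrrCharacter (Subgroup.centralizer (P : Set G)))) (hc : Cfsg.IsInducedBlock M (Subgroup.centralizer (P : Set G)) c B) (T : Subgroup G) (hT : ∀ g : G, g ∈ T ↔ (g ∈ Subgroup.normalizer (P : Set G) ∧ Cfsg.StabilizesBlock (Subgroup.centralizer (P : Set G)) c g)) (Q : Subgroup G) (hQP : Q ≤ P) (hQ1 : Q ≠ ⊥) (f : Set (Cfsg.IrrCharacter (Subgroup.centralizer (Q : Set G)))) (hf : Cfsg.IsInducedBlockIn M (Subgroup.centralizer (Q : Set G)) (Subgroup.centralizer (P : Set G)) c f) (T' : Subgroup G) (hT' : ∀ g : G, g ∈ T' ↔ (g ∈ Subgroup.normalizer (Q : Set G) ∧ Cfsg.StabilizesBlock (Subgroup.centralizer (Q : Set G)) f g)) : T' = T ⊔ Subgroup.centralizer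 (Q : Set G) ∧ (Subgroup.centralizer (Q : Set G)).relIndex T' = (Subgroup.centralizer (P : Set G)).relIndex T ∧ Cfsg.blockRank p f = 1 ∧ Cfsg.IsNilpotentBlock p M f := by
  haveI : PMod M p := ⟨hM⟩
  haveI : Fact p.Prime := ⟨PMod.prime M⟩
  have hm := isMP_of_isInducedBlock hPD hc
  have hPP := le_Ce_self_of_isCyclic hcyc
  have hPQ : P ≤ Ce Q := hPP.trans (Ce_anti hQP)
  obtain ⟨hcb, hfb, hle⟩ := (isInducedBlockIn_Ce_iff hm.bp.pg hQP hPQ).1 hf
  obtain rfl := hcb.eq_stab hT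
  obtain rfl := hfb.eq_stab hT'
  obtain ⟨x, hx, hx1⟩ : ∃ x ∈ Q, x ≠ 1 := by
    by_contra h; push Not at h; exact hQ1 ((Subgroup.eq_bot_iff_forall _).2 h)
  have h1 : stab (⊤ ⊓ No P) (barS M (Ce P) c) ≤ stab (⊤ ⊓ No Q) (barS M (Ce Q) f) := fun y hy =>
    hle.stab_le hm.bp (mi hy (by
      have h0 : cs y Q ≤ P := by rw [← mem_No.1 (mem_stab.1 hy).1.2]; exact cs_mono _ hQP
      exact mem_No.2 (Subgroup.eq_of_le_of_card_ge
        (Solv.le_of_isCyclic_of_card_dvd hcyc h0 hQP (by rw [card_cs])) (by rw [card_cs]))))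
  have h2 : Ce Q ≤ stab (⊤ ⊓ No Q) (barS M (Ce Q) f) := fun y hy =>
    mem_stab.2 ⟨mi (Subgroup.mem_top _) (Ce_le_No _ hy), mem_inv.1 hfb.isBlockS.inv y hy⟩
  have h3 : stab (⊤ ⊓ No Q) (barS M (Ce Q) f) = stab (⊤ ⊓ No P) (barS M (Ce P) c) ⊔ Ce Q :=
    le_antisymm (fun y hy => by
      obtain ⟨a, ha, b, hb, rfl⟩ := hm.exists_mul_of_le_Ce hle hPQ hy
      exact Subgroup.mul_mem_sup ha hb.2) (sup_le h1 h2)
  have h4 : Ce Q ⊓ stab (⊤ ⊓ No P) (barS M (Ce P) c) = Ce P ⊓ stab (⊤ ⊓ No P) (barS M (Ce P) c) :=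
    le_antisymm (fun y hy => mi (hm.mem_Ce_of_fix hcyc hy.2 (hQP hx) hx1
      (conj_eq_of_mem_Ce hy.1 hx)) hy.2) (inf_le_inf_right _ (Ce_anti hQP))
  have h5 : IsNilpotentBlock p M f := isNilpotentBlock_iffS.2 ⟨hfb, by
    have h6 := hm.local_Ce hle hPQ
    rw [top_inf_eq] at h6
    refine (h6.nilp_iff_of_comm hPP).2 fun y hy => ?_
    obtain ⟨h7, h8⟩ := mem_stab.1 hy
    exact (h4.le (mi h7.1 (mem_stab.2 ⟨mi (Subgroup.mem_top _) h7.2, h8⟩))).1⟩
  refine ⟨h3, ?_, h5.rank, h5⟩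
  rw [h3, relIndex_sup_eq (fun y hy => No_le_No_Ce _ (mem_stab.1 (h1 hy)).1.2) le_rfl,
    ← Subgroup.inf_relIndex_right, h4, Subgroup.inf_relIndex_right]

end Cfsg.Agent.S4645
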