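import Cfsg.Statements.S4646
import Cfsg.Agent.Lib.Block.More
import Cfsg.Agent.Lib.Transfer.Alperin

set_option autoImplicit false
open Cfsg

namespace Cfsg.Agent.S4646

open Cfsg.Agent.Blk
open Cfsg.Agent.Char hiding cj cj_mul cj_inv_cj cj_cj_inv

/-- For a finite group G, a prime p and a maximal ideal M of the algebraic integers containing p: the principal block of G is nilpotent if and only if its p-regular rank is 1 (the trivial Brauer character is its only irreducible Brauer character). -/
theorem result {G : Type*} [Group G] [Finite G] (p : ℕ) [Fact p.Prime] (M : Ideal Cfsg.AlgInt) (hM : Cfsg.IsPModular p M) : Cfsg.IsNilpotentBlock p M (Cfsg.principalBlock M G) ↔ Cfsg.blockRank p (Cfsg.principalBlock M G) = 1 := by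
  haveI : PMod M p := ⟨hM⟩
  classical
  have hp := (Fact.out : p.Prime)
  rw [isNilpotentBlock_iff, and_iff_right isPBlock_principal, isNilp_principal_iff]
  have h1 : reg p (irrOne G).1 ∈ regSpan p (principalBlock M G) :=
    reg_mem_regSpan irrOne_mem_principal
  have h0 : reg p (irrOne G).1 ≠ 0 := fun h => by
    have := congrFun h 1
    rw [reg_of_preg preg_one] at this
    simp at this
  constructor
  · intro h
    obtain ⟨P⟩ : Nonempty (Sylow p G) := inferInstance
    have hN := Transfer.hasNPC_of_res_normalizer_le P fun B hB _ => Transfer.res_le_iff.2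
      fun g hg hc => h B (isPGroup_le P.isPGroup' hB) g hg (hp.coprime_iff_not_dvd.1 hc.symm)
    rw [Transfer.hasNPC_iff_not_dvd] at hN
    refine le_antisymm ?_ (blockRank_pos isPBlock_principal.nonempty)
    rw [blockRank_eq, ← finrank_span_singleton (K := ℂ) h0]
    refine Submodule.finrank_mono (Submodule.span_le.2 ?_)
    rintro _ ⟨χ, hχ, rfl⟩
    refine Submodule.mem_span_singleton.2 ⟨χ.1 1, ?_⟩
    rw [← reg_smul]
    refine reg_congr fun x hx => ?_
    have := le_charKer_of_principal hN hχ
      (Transfer.mem_pResidual_of_coprime (hp.coprime_iff_not_dvd.2 hx).symm)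
    rw [χ.2.isCharacter.mem_charKer] at this
    simp [this]
  · intro h
    have h2 : ∀ χ ∈ principalBlock M G, ∀ x, ¬ p ∣ orderOf x → χ.1 x = χ.1 1 := by
      intro χ hχ x hx
      rw [blockRank_eq, finrank_eq_one_iff_of_nonzero' ⟨_, h1⟩ (by simpa using h0)] at h
      obtain ⟨c, hc⟩ := h ⟨_, reg_mem_regSpan hχ⟩
      have h3 := congrArg Subtype.val hc
      have h4 := congrFun h3 x
      have h5 := congrFun h3 1
      simp only [SetLike.val_smul, Pi.smul_apply, reg_of_preg hx, reg_of_preg preg_one,
        irrOne_apply] at h4 h5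
      rw [← h4, ← h5]
    have h3 : ¬ p ∣ Nat.card (pResidual p G) := by
      intro hd
      obtain ⟨x, hx⟩ := exists_prime_orderOf_dvd_card' p hd
      refine isPBlock_principal.isUB.preg_of_ker (isPBlock_principal (M := M)).nonempty
        (g := (x : G)) (fun χ hχ => ?_) (by rw [Subgroup.orderOf_coe, hx])
      have : pResidual p G ≤ charKer χ.1 := by
        rw [← Transfer.res_top, Transfer.res_le_iff]
        exact fun g _ hg => χ.2.isCharacter.mem_charKer.2
          (h2 χ hχ g (hp.coprime_iff_not_dvd.1 hg.symm))
      exact χ.2.isCharacter.mem_charKer.1 (this x.2)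
    intro Q hQ x hx hx'
    exact Transfer.mem_centralizer_of_hasNPC (H := ⊤)
      (Transfer.hasNPC_subgroup (Transfer.hasNPC_iff_not_dvd.2 h3) ⊤) hQ le_top trivial hx
      (hp.coprime_iff_not_dvd.2 hx').symm

end Cfsg.Agent.S4646
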