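import Cfsg.Statements.S4647
import Cfsg.Agent.Lib.Block.Dim

set_option autoImplicit false
open Cfsg

namespace Cfsg.Agent.S4647

open Cfsg.Agent.Blk
open Cfsg.Agent.Char hiding cj cj_mul cj_inv_cj cj_cj_inv

/-- Let B be a block of the finite group G relative to a maximal ideal M of the algebraic integers containing the prime p, p^a the p-part of the order of G and p^d the order of a defect group D of B. If Σ_{χ ∈ B} χ(1)² = p^(2a−d) (the least possible value), then B is nilpotent. -/
theorem result {G : Type*} [Group G] [Finite G] (p : ℕ) [Fact p.Prime] (M : Ideal Cfsg.AlgInt) (hM : Cfsg.IsPModular p M) (B : Set (Cfsg.IrrCharacter G)) (hB : Cfsg.IsPBlock M B) (D : Subgroup G) (hD : Cfsg.IsDefectGroup p M B D) (a d : ℕ) (ha : (Nat.card G).factorization p = a) (hd : Nat.card D = p ^ d) (hmin : ∑ᶠ χ ∈ B, Cfsg.charDegree (χ : G → ℂ) ^ 2 = p ^ (2 * a - d)) : Cfsg.IsNilpotentBlock p M B := by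
  haveI : PMod M p := ⟨hM⟩
  haveI : Fact p.Prime := ⟨PMod.prime M⟩
  rw [hB.isDefectGroup_iff] at hD
  refine isNilpotentBlock_iff.2 ⟨hB, nilp_of_finrank hB.isBlock hD ?_⟩
  have h1 := defect_add_mnu (p := p) hB.nonempty
  have h2 := hB.card_isDef hD
  rw [hd, Nat.pow_right_inj (PMod.prime M).one_lt] at h2
  rw [hB.isUB.finrank_bar, ← finsum_fs, hmin, hd, ← pow_add, ha]
  exact Nat.pow_le_pow_right (PMod.prime M).pos (by omega)

end Cfsg.Agent.S4647
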