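import Cfsg.Statements.S4648
import Cfsg.Agent.Lib.Block.Sym

set_option autoImplicit false
open Cfsg

namespace Cfsg.Agent.S4648

open Cfsg.Agent.Blk
open Cfsg.Agent.Char hiding cj cj_mul cj_inv_cj cj_cj_inv

/-- Let B be a block of the finite group G relative to a maximal ideal M of the algebraic integers containing the prime p, with a nontrivial defect group D. If B has p-regular rank 1 and at most four irreducible characters, then B is nilpotent, D has exactly as many elements as B has irreducible characters, and p is 2 or 3. -/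
theorem result {G : Type*} [Group G] [Finite G] (p : ℕ) [Fact p.Prime] (M : Ideal Cfsg.AlgInt) (hM : Cfsg.IsPModular p M) (B : Set (Cfsg.IrrCharacter G)) (hB : Cfsg.IsPBlock M B) (D : Subgroup G) (hD : Cfsg.IsDefectGroup p M B D) (hD1 : D ≠ ⊥) (hl : Cfsg.blockRank p B = 1) (hk : Nat.card B ≤ 4) : Cfsg.IsNilpotentBlock p M B ∧ Nat.card D = Nat.card B ∧ (p = 2 ∨ p = 3) := by
  haveI : PMod M p := ⟨hM⟩
  haveI : Fact p.Prime := ⟨PMod.prime M⟩
  rw [card_fs] at hk ⊢
  have h1 := (hB.card_eq_of_rank hl hk).trans (hB.card_defectGroup hD).symm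
  obtain ⟨e, he⟩ := hB.exists_mp (hB.isDefectGroup_iff.1 hD)
  have h2 := he.fa_of_card_le (h1 ▸ hk)
  have h3 := h2.card_eq_rank
  have h4 : 1 < Nat.card D := (Subgroup.one_lt_card_iff_ne_bot D).2 hD1
  rw [hl, ← h1] at h3
  rw [← h1] at h4
  refine ⟨(he.nilp_iff h2.comm).2 ?_, h1.symm, ?_⟩
  · have h5 : 0 < Nat.card (autE D e) := Nat.card_pos
    nlinarith
  · have h5 : p ∣ (fs B).card := by
      rw [hB.card_eq_of_rank hl hk] at h4 ⊢
      exact dvd_pow_self _ (by rintro h; rw [h] at h4; simp at h4)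
    have h6 := (PMod.prime M).two_le
    have h7 := Nat.le_of_dvd (by omega) h5
    have h8 : p ≠ 4 := by rintro rfl; exact absurd (PMod.prime M) (by decide)
    omega

end Cfsg.Agent.S4648
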