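import Cfsg.Statements.S4650
import Cfsg.Agent.Lib.Block.Fong

set_option autoImplicit false
open Cfsg

namespace Cfsg.Agent.S4650

open Cfsg.Agent.Blk
open Cfsg.Agent.Char hiding cj cj_mul cj_inv_cj cj_cj_inv

/-- Let B be a block of the finite group G relative to a maximal ideal M of the algebraic integers containing the prime p, with a nontrivial commutative defect group P; let c be a block of C_G(P) inducing B and T the stabilizer of c in N_G(P). Then T/C_G(P) acts freely on the non-identity elements of P (an element of T fixing a non-identity element of P under conjugation lies in C_G(P)) if and only if, for every nontrivial subgroup Q of P, the block of C_G(Q) induced by c inside C_G(Q) is a nilpotent block of C_G(Q). -/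
theorem result {G : Type*} [Group G] [Finite G] (p : ℕ) [Fact p.Prime] (M : Ideal Cfsg.AlgInt) (hM : Cfsg.IsPModular p M) (B : Set (Cfsg.IrrCharacter G)) (hB : Cfsg.IsPBlock M B) (P : Subgroup G) (hPD : Cfsg.IsDefectGroup p M B P) (hPab : ∀ x ∈ P, ∀ y ∈ P, x * y = y * x) (hP1 : P ≠ ⊥) (c : Set (Cfsg.IrrCharacter (Subgroup.centralizer (P : Set G)))) (hc : Cfsg.IsInducedBlock M (Subgroup.centralizer (P : Set G)) c B) (T : Subgroup G) (hT : ∀ g : G, g ∈ T ↔ (g ∈ Subgroup.normalizer (P : Set G) ∧ Cfsg.StabilizesBlock (Subgroup.centralizer (P : Set G)) c g)) : (∀ g ∈ T, ∀ x ∈ P, x ≠ 1 → g * x * g⁻¹ = x → g ∈ Subgroup.centralizer (P : Set G)) ↔ ∀ Q : Subgroup G, Q ≤ P → Q ≠ ⊥ → ∀ f : Set (Cfsg.IrrCharacter (Subgroup.centralizer (Q : Set G))), Cfsg.IsInducedBlockIn M (Subgroup.centralizer (Q : Set G)) (Subgroup.centralizer (P : Set G)) c f → Cfsg.IsNilpotentBlock p M f := by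
  haveI : PMod M p := ⟨hM⟩
  have hm := isMP_of_isInducedBlock hPD hc
  obtain rfl := hc.1.eq_stab hT
  have hP : P ≤ Ce P := fun x hx => mem_Ce.2 fun q hq => hPab q hq x hx
  have key : ∀ Q, Q ≤ P → ∀ f : Set (IrrCharacter (Ce Q)), IsInducedBlockIn M (Ce Q) (Ce P) c f →
      (IsNilpotentBlock p M f ↔ stab ((⊤ ⊓ Ce Q) ⊓ No P) (barS M (Ce P) c) ≤ Ce P) := by
    intro Q hQ f hf
    obtain ⟨-, hf1, h1⟩ := (isInducedBlockIn_Ce_iff hm.bp.pg hQ (hP.trans (Ce_anti hQ))).1 hf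
    rw [isNilpotentBlock_iffS, and_iff_right hf1,
      ← (hm.local_Ce h1 (hP.trans (Ce_anti hQ))).nilp_iff_of_comm hP, top_inf_eq]
  constructor
  · intro h Q hQ hQ1 f hf
    refine (key Q hQ f hf).2 fun g hg => ?_
    obtain ⟨⟨x, hx⟩, hx1⟩ := Subgroup.ne_bot_iff_exists_ne_one.1 hQ1
    exact h g ⟨⟨trivial, hg.1.2⟩, hg.2⟩ x (hQ hx) (fun h => hx1 (Subtype.ext h))
      (conj_eq_of_mem_Ce hg.1.1.2 hx)
  · intro h g hg x hx hx1 hgx
    have hQ : Subgroup.zpowers x ≤ P := Subgroup.zpowers_le.2 hx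
    obtain ⟨a, ha⟩ := hm.bp.exists_PLe hQ
    obtain ⟨f, hf, rfl⟩ := (ha.left hm.bp).exists_isPBlock
    have h1 := (isInducedBlockIn_Ce_iff hm.bp.pg hQ (hP.trans (Ce_anti hQ))).2 ⟨hc.1, hf, ha⟩
    refine (key _ hQ f h1).1 (h _ hQ (by rwa [Ne, Subgroup.zpowers_eq_bot]) f h1)
      ⟨⟨⟨trivial, ?_⟩, hg.1.2⟩, hg.2⟩
    rw [Ce_zpowers]
    exact mem_Ce1.2 (mul_inv_eq_iff_eq_mul.1 hgx)

end Cfsg.Agent.S4650
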