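import Cfsg.Statements.S4651
import Cfsg.Agent.Lib.Block.Chain

set_option autoImplicit false
open Cfsg

namespace Cfsg.Agent.S4651

open Cfsg.Agent.Blk
open Cfsg.Agent.Char hiding cj cj_mul cj_inv_cj cj_cj_inv

/-- An alternating-sum identity over chains of p-subgroups (the character-count form behind the chain reformulation of Alperin's weight conjecture, which holds unconditionally for the difference k − l). Let b be a block of the finite group G relative to a maximal ideal M of the algebraic integers containing the prime p. Consider the nonempty chains s = {Q_0 < Q_1 < ⋯ < Q_m} of nontrivial p-subgroups of G in which every member is normal in the largest member; let N_G(s) be the intersection of the normalizers of the members (the stabilizer of the chain), and let b_s be the set of irreducible characters of N_G(s) lying in blocks of N_G(s) that induce b. Then #G · (k(b) − l(b)) equals the sum over all such chains s of (−1)^m · #N_G(s) ·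 (k(b_s) − l(b_s)), where k counts irreducible characters and l is the p-regular rank; equivalently, k(b) − l(b) is the alternating sum of k(b_s) − l(b_s) over representatives of the conjugacy classes of such chains. -/
theorem result {G : Type*} [Group G] [Finite G] (p : ℕ) [Fact p.Prime] (M : Ideal Cfsg.AlgInt) (hM : Cfsg.IsPModular p M) (b : Set (Cfsg.IrrCharacter G)) (hb : Cfsg.IsPBlock M b) : (Nat.card G : ℤ) * ((Nat.card b : ℤ) - (Cfsg.blockRank p b : ℤ)) = ∑ᶠ s ∈ {s : Finset (Subgroup G) | s.Nonempty ∧ (∀ Q ∈ s, ∀ R ∈ s, Q ≤ R ∨ R ≤ Q) ∧ (∀ Q ∈ s, Q ≠ ⊥ ∧ IsPGroup p Q) ∧ ∃ T ∈ s, ∀ Q ∈ s, Q ≤ T ∧ T ≤ Subgroup.normalizer ((Q : Subgroup G) : Set G)}, (-1 : ℤ) ^ (s.card - 1) * (Nat.card (((⨅ Q ∈ s, Subgroup.normalizer ((Q : Subgroup G) : Set G) : Subgroup G))) : ℤ) * ((Nat.card {ψ : Cfsg.IrrCharacter (((⨅ Q ∈ s, Subgroup.normalizer ((Q : Subgroup G) : Set G) : Subgroup G))) | ∃ β : Set (Cfsg.IrrCharacter (((⨅ Q ∈ s, Subgroup.normalizer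 ((Q : Subgroup G) : Set G) : Subgroup G)))), ψ ∈ β ∧ Cfsg.IsInducedBlock M (((⨅ Q ∈ s, Subgroup.normalizer ((Q : Subgroup G) : Set G) : Subgroup G))) β b} : ℤ) - (Cfsg.blockRank p {ψ : Cfsg.IrrCharacter (((⨅ Q ∈ s, Subgroup.normalizer ((Q : Subgroup G) : Set G) : Subgroup G))) | ∃ β : Set (Cfsg.IrrCharacter (((⨅ Q ∈ s, Subgroup.normalizer ((Q : Subgroup G) : Set G) : Subgroup G)))), ψ ∈ β ∧ Cfsg.IsInducedBlock M (((⨅ Q ∈ s, Subgroup.normalizer ((Q : Subgroup G) : Set G) : Subgroup G))) β b} : ℤ)) := by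
  haveI : PMod M p := ⟨hM⟩
  classical
  have := Fintype.ofFinite G
  have h1 := hb.isUB.sum_chain (p := p)
  have h2 : ∀ s : Finset (Subgroup G), s ∈ (Finset.univ.filter (NCh p)).erase ∅ ↔ s.Nonempty ∧
      (∀ Q ∈ s, ∀ R ∈ s, Q ≤ R ∨ R ≤ Q) ∧ (∀ Q ∈ s, Q ≠ ⊥ ∧ IsPGroup p Q) ∧
      ∃ T ∈ s, ∀ Q ∈ s, Q ≤ T ∧ T ≤ No Q := fun s => by
    rw [Finset.mem_erase, Finset.mem_filter, ← Finset.nonempty_iff_ne_empty]
    refine and_congr_right fun ⟨Q, hQ⟩ => ⟨fun ⟨_, h⟩ => ⟨h.chain, h.pg, s.sup id,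
      (sup_mem_of_chain h.chain).resolve_left fun h3 => (h.pg Q hQ).1
        (le_bot_iff.1 (h3 ▸ Finset.le_sup (f := id) hQ)),
      fun R hR => ⟨Finset.le_sup (f := id) hR, h.norm R hR⟩⟩, fun ⟨h3, h4, T, _, h5⟩ =>
      ⟨Finset.mem_univ _, h3, h4, fun R hR =>
        (Finset.sup_le fun S hS => (h5 S hS).1).trans (h5 R hR).2⟩⟩
  rw [finsum_mem_eq_finite_toFinset_sum _ (Set.toFinite _), eq_neg_of_add_eq_zero_left h1,
    ← Finset.sum_neg_distrib]
  refine Finset.sum_congr (by ext s; rw [Set.Finite.mem_toFinset]; exact h2 s) fun s hs => ?_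
  rw [Set.Finite.mem_toFinset] at hs
  have hs' := (Finset.mem_filter.1 (Finset.mem_of_mem_erase ((h2 s).2 hs))).2
  rw [setOf_induced_eq hs'.sup_pg hs'.sup_le_Ks (fun g hg => mem_Ks.2 fun Q hQ =>
        Ce_le_No Q (Ce_anti (Finset.le_sup (f := id) hQ) hg))
        (fun g hg => mem_No_sup (mem_Ks.1 hg)) hb]
  obtain ⟨n, hn⟩ := Nat.exists_eq_succ_of_ne_zero (Finset.card_pos.2 hs.1).ne'
  rw [hn, Nat.succ_sub_one, pow_succ]
  ring

end Cfsg.Agent.S4651
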