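import Cfsg.Statements.S4654
import Cfsg.Agent.Lib.Block.Fong

set_option autoImplicit false
open Cfsg

namespace Cfsg.Agent.S4654

open Cfsg.Agent.Blk
open Cfsg.Agent.Char hiding cj cj_mul cj_inv_cj cj_cj_inv
theorem mul_orb_eq_O {G R : Type*} [Group G] [Finite G] [CommRing R] (a : MonoidAlgebra R G)
    (h : orb ⊤ a * a = a) : IsIdempotentElem (orb ⊤ a) := by
  unfold IsIdempotentElem
  conv_lhs => rw [orb, Finset.mul_sum]
  refine Finset.sum_congr rfl fun f hf => ?_
  obtain ⟨x, hx, rfl⟩ := mem_orbit.1 hf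
  conv_rhs => rw [← h, map_mul, mem_inv.1 (orb_mem_inv ⊤ a) x hx]
  rfl

/-- Fix a prime p and a maximal ideal M of the algebraic integers containing p. Let P be a normal p-subgroup of the finite group G, B a p-block of G and e a p-block of C_G(P) such that (P, e) is a Brauer pair of B (as P is normal, this says that e occurs in the idempotent of B, which is supported on C_G(P)). Let T be the stabilizer of e in G under conjugation. Then the idempotent of e is a block idempotent of T: some block E of T has, at every element of T, the same idempotent coefficient as e (zero off C_G(P)); and the idempotent of B is the sum of the distinct G-conjugates of the idempotent of e: its coefficient at g is the sum over all x in G of the coefficient of e at x⁻¹ g x, divided by the order of T. -/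
theorem result {G : Type*} [Group G] [Fintype G] (p : ℕ) [Fact p.Prime] (M : Ideal Cfsg.AlgInt) (hM : Cfsg.IsPModular p M) (P : Subgroup G) [P.Normal] (hP : IsPGroup p P) (B : Set (Cfsg.IrrCharacter G)) (e : Set (Cfsg.IrrCharacter (Subgroup.centralizer (P : Set G)))) (hBe : Cfsg.IsBrauerPairOf p M B P e) (T : Subgroup G) (hT : ∀ x : G, x ∈ T ↔ Cfsg.StabilizesBlock (Subgroup.centralizer (P : Set G)) e x) : (∃ E : Set (Cfsg.IrrCharacter T), Cfsg.IsPBlock M E ∧ ∀ t : T, Cfsg.blockCoeff E t = Cfsg.subgroupBlockCoeff (Subgroup.centralizer (P : Set G)) e (t : G)) ∧ ∀ g : G, Cfsg.blockCoeff B g = (Nat.card T : ℂ)⁻¹ * ∑ x : G, Cfsg.subgroupBlockCoeff (Subgroup.centralizer (P : Set G)) e (x⁻¹ * g * x) := by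
  haveI : PMod M p := ⟨hM⟩
  classical
  obtain ⟨hB, he, h1, h2⟩ := isBrauerPairOf_iff'.1 hBe
  have hN : (Ce P).Normal := Subgroup.normalizer_eq_top_iff.1
    (top_le_iff.1 ((top_le_No P).trans (No_le_No_Ce P)))
  have heS := he.isBlockS
  obtain rfl : T = stab ⊤ (barS M (Ce P) e) :=
    Subgroup.ext fun g => (hT g).trans (he.stabilizes_normal_iff g)
  have h0 : ⊤ ⊓ No P = ⊤ := inf_eq_left.2 (top_le_No P)
  constructor
  · obtain ⟨E, hE, -, h3⟩ := exists_isPBlock_coeff he.isUB (heS.le_stab' le_top)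
      (by have := h1.isBlock_stab; rwa [h0] at this)
    exact ⟨E, hE, h3⟩
  · intro g
    rw [hB.isBlock.Br_eq_self hP le_top (top_le_No P)] at h2
    have h3 := heS.eq_orb le_top (top_le_No _) hB.isBlock (hB.isBlock.mem_sup_Ce hP le_top
      (top_le_No P)) (h2.symm ▸ heS.ne)
    have hcj : ∀ x, cj x (fOS M (Ce P) e) = fOS M (Ce P) (irrMap (conjIso (cs_normal x _)) '' e) :=
      fun x => (fOS_image_conj _ e).symm
    have hub : ∀ x, IsUB M (irrMap (conjIso (cs_normal x (Ce P))) '' e) :=
      fun x => (isUB_image_iff _).2 he.isUB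
    have h4 : stab ⊤ (fOS M (Ce P) e) = stab ⊤ (barS M (Ce P) e) := Subgroup.ext fun x =>
      and_congr_right fun _ => ⟨fun h => by rw [← toK_fOS, ← cf_cj, h],
        he.isUB.cj_fOS (top_le_No _ trivial)⟩
    have hinj : ∀ a ∈ orbit ⊤ (fOS M (Ce P) e), ∀ b ∈ orbit ⊤ (fOS M (Ce P) e),
        toK M a = toK M b → a = b := by
      intro a ha b hb h
      obtain ⟨x, -, rfl⟩ := mem_orbit.1 ha
      obtain ⟨y, -, rfl⟩ := mem_orbit.1 hb
      rw [hcj, hcj, toK_fOS, toK_fOS] at h
      rw [hcj, hcj, (hub x).barS_inj (hub y) h]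
    have h5 : toK M (orb ⊤ (fOS M (Ce P) e)) = bar M B := by
      rw [h3, orb, orb, map_sum]
      refine Finset.sum_bij (fun a _ => toK M a) ?_ (fun a ha b hb => hinj a ha b hb) ?_
        (fun _ _ => rfl)
      · intro a ha
        obtain ⟨x, -, rfl⟩ := mem_orbit.1 ha
        rw [cf_cj, toK_fOS]; exact cj_mem_orbit (Subgroup.mem_top x) _
      · intro a ha
        obtain ⟨x, -, rfl⟩ := mem_orbit.1 ha
        exact ⟨_, cj_mem_orbit (Subgroup.mem_top x) _, by rw [cf_cj, toK_fOS]⟩
    have h6 : IsIdempotentElem (orb ⊤ (fOS M (Ce P) e)) := by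
      refine mul_orb_eq_O _ ?_
      rw [orb, Finset.sum_mul, Finset.sum_eq_single (fOS M (Ce P) e)]
      · exact he.isUB.fOS_idem
      · intro a ha hne
        obtain ⟨x, -, rfl⟩ := mem_orbit.1 ha
        refine idem_eq_zero_of_toK (IsIdempotentElem.mul_of_commute ?_ (hcj x ▸ (hub x).fOS_idem)
          he.isUB.fOS_idem) ?_
        · rw [hcj]; exact Z_comm (fOS_mem _ _) (fOS_mem _ _)
        · rw [map_mul, cf_cj, toK_fOS]
          refine (heS.cj_of_mem_No (top_le_No _ trivial)).mul_eq_zero heS fun h => hne ?_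
          exact he.isUB.cj_fOS (top_le_No _ trivial) h
      · exact fun h => absurd (mem_orbit_self _ _) h
    have h7 : fO M B = orb ⊤ (fOS M (Ce P) e) := idem_eq_of_toK_eq hB.isUB.fO_idem h6
      (Z_top_comm (fO_mem B) _) (by rw [h5, toK_fO])
    have h8 := congrArg (fun a => ((a.coeff g : O M) : ℂ)) (Blk.sum_cj_eq ⊤ (fOS M (Ce P) e))
    simp only [Subgroup.mem_top, Finset.filter_true, coeff_sum', coeff_cj, h4, ← h7] at h8
    rw [← Nat.cast_smul_eq_nsmul (O M), coeff_smul'] at h8
    push_cast at h8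
    simp only [he.isUB.coeff_fOS, hB.isUB.coeff_fO] at h8
    rw [h8, ← mul_assoc, inv_mul_cancel₀ (card_ne_zero' _), one_mul]

end Cfsg.Agent.S4654
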