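import Cfsg.Statements.S4657
import Cfsg.Agent.Lib.Block.PDict

set_option autoImplicit false
open Cfsg

namespace Cfsg.Agent.S4657

open Cfsg.Agent.Blk
open Cfsg.Agent.Char hiding cj cj_mul cj_inv_cj cj_cj_inv

/-- Fix a prime p and a maximal ideal M of the algebraic integers containing p. Every Brauer pair (P, e) of the finite group G is a Brauer pair of exactly one p-block B of G. -/
theorem result {G : Type*} [Group G] [Fintype G] (p : ℕ) [Fact p.Prime] (M : Ideal Cfsg.AlgInt) (hM : Cfsg.IsPModular p M) (P : Subgroup G) (e : Set (Cfsg.IrrCharacter (Subgroup.centralizer (P : Set G)))) (hPe : Cfsg.IsBrauerPair p M P e) : ∃! B : Set (Cfsg.IrrCharacter G), Cfsg.IsBrauerPairOf p M B P e := by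
  haveI : PMod M p := ⟨hM⟩
  obtain ⟨b, ⟨hb, h1⟩, h2⟩ := existsUnique_block_Br (H := ⊤) (K := Ce P) hPe.1 le_top inf_le_right
    le_top (Ce_le_No P) hPe.2.isBlockS
  obtain ⟨B, hB, rfl⟩ := exists_isPBlock_bar_eq hb
  refine ⟨B, isBrauerPairOf_iff.2 ⟨hPe.1, hPe.2, hB, h1⟩, fun B' hB' => ?_⟩
  obtain ⟨-, -, h3, h4⟩ := isBrauerPairOf_iff.1 hB'
  exact h3.bar_inj hB (h2 _ ⟨h3.isBlock, h4⟩)

end Cfsg.Agent.S4657
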