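import Cfsg.Statements.S4662
import Cfsg.Agent.Lib.Block.PDict

set_option autoImplicit false
open Cfsg

namespace Cfsg.Agent.S4662

open Cfsg.Agent.Blk
open Cfsg.Agent.Char hiding cj cj_mul cj_inv_cj cj_cj_inv

/-- Fix a prime p and a maximal ideal M of the algebraic integers containing p. Let (P, e) be a maximal Brauer pair of the p-block B of the finite group G, Q ≤ P, and f the p-block of C_G(Q) with (Q, f) ≤ (P, e). Let T be the stabilizer of f in N_G(Q). Then the idempotent of f is a block idempotent of T, and N_P(Q) is contained in a defect group of that block of T; moreover for some x in G the conjugate pair (x Q x⁻¹, conjugate of f) again lies below (P, e) and, with T' the stabilizer of the conjugate of f in N_G(x Q x⁻¹), N_P(x Q x⁻¹) is a defect group of the block of T' whose idempotent is that of the conjugate of f. -/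
theorem result {G : Type*} [Group G] [Fintype G] (p : ℕ) [Fact p.Prime] (M : Ideal Cfsg.AlgInt) (hM : Cfsg.IsPModular p M) (B : Set (Cfsg.IrrCharacter G)) (P Q : Subgroup G) (e : Set (Cfsg.IrrCharacter (Subgroup.centralizer (P : Set G)))) (f : Set (Cfsg.IrrCharacter (Subgroup.centralizer (Q : Set G)))) (hmax : Cfsg.IsMaximalBrauerPair p M B P e) (hQP : Q ≤ P) (hf : Cfsg.IsPBlock M f) (hle : Cfsg.SubpairLE p M Q f P e) (T : Subgroup G) (hT : ∀ y : G, y ∈ T ↔ y ∈ Subgroup.normalizer (Q : Set G) ∧ Cfsg.StabilizesBlock (Subgroup.centralizer (Q : Set G)) f y) : (∃ F : Set (Cfsg.IrrCharacter T), Cfsg.IsPBlock M F ∧ (∀ t : T, Cfsg.blockCoeff F t = Cfsg.subgroupBlockCoeff (Subgroup.centralizer (Q : Set G)) f (t : G)) ∧ ∃ D : Subgroup T, Cfsg.IsDefectGroup p M F D ∧ (P ⊓ Subgroup.normalizer (Q : Set G)).subgroupOf T ≤ D) ∧ ∃ x : G, Cfsg.SubpairLE p M (Q.map (MulAut.conj x).toMonoidHom) (Cfsg.conjBlock Q x f) P e ∧ ∀ (T' : Subgroup G), (∀ y :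 G, y ∈ T' ↔ y ∈ Subgroup.normalizer ((Q.map (MulAut.conj x).toMonoidHom) : Set G) ∧ Cfsg.StabilizesBlock (Subgroup.centralizer ((Q.map (MulAut.conj x).toMonoidHom) : Set G)) (Cfsg.conjBlock Q x f) y) → ∃ F' : Set (Cfsg.IrrCharacter T'), Cfsg.IsPBlock M F' ∧ (∀ t : T', Cfsg.blockCoeff F' t = Cfsg.subgroupBlockCoeff (Subgroup.centralizer ((Q.map (MulAut.conj x).toMonoidHom) : Set G)) (Cfsg.conjBlock Q x f) (t : G)) ∧ Cfsg.IsDefectGroup p M F' ((P ⊓ Subgroup.normalizer ((Q.map (MulAut.conj x).toMonoidHom) : Set G)).subgroupOf T') := by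
  haveI : PMod M p := ⟨hM⟩
  have hm := hmax.isMP
  have h1 := hle.ple
  obtain rfl := hf.eq_stab hT
  have hb := h1.left hm.bp
  have hCT : ∀ {Q : Subgroup G} {a : MonoidAlgebra (kk M) G}, IsBP p ⊤ Q a → Ce Q ≤ stab (⊤ ⊓ No Q) a :=
    fun h => le_trans (le_trans (le_inf le_top le_rfl) le_sup_right) h.sup_le_stab
  constructor
  · obtain ⟨F, hF, h2, h3⟩ := exists_isPBlock_coeff hf.isUB (hCT hb) hb.isBlock_stab
    obtain ⟨D, hD, h4⟩ := hb.isBlock_stab.exists_isDef_ge (Q := P ⊓ No Q)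
      (h1.inf_stab hm.bp ▸ inf_le_right) (isPGroup_le hm.bp.pg inf_le_left) (h1.Br_ne hm.bp)
    exact ⟨F, hF, h3, D.subgroupOf _, (hF.isDefectGroup_subgroupOf_iff hD.le).2 (by rw [h2]; exact hD),
      Subgroup.subgroupOf_mono _ h4⟩
  · obtain ⟨D, hD⟩ := hb.isBlock_stab.exists_isDef p
    obtain ⟨x, hx, h2, h3⟩ := hm.exists_cs_isDef hb (hm.eq_of_PLe h1) (stab_le _ _)
      (mem_inv_stab _ _) hD
    refine ⟨x, (subpairLE_conj_iff hf hmax.blocke).2 h2, fun T' hT' => ?_⟩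
    have hf' := (isPBlock_conjBlock_iff (x := x)).2 hf
    obtain rfl := hf'.eq_stab hT'
    have h4 := hD.cs x
    rw [h3, cs_stab, cs_inf_No hx, h2.inf_stab hm.bp, ← barS_conjBlock] at h4
    rw [← barS_conjBlock] at h2
    have hb' := h2.left hm.bp
    obtain ⟨F, hF, h5, h6⟩ := exists_isPBlock_coeff hf'.isUB (hCT hb') hb'.isBlock_stab
    exact ⟨F, hF, h6, (hF.isDefectGroup_subgroupOf_iff h4.le).2 (by rw [h5]; exact h4)⟩

end Cfsg.Agent.S4662
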