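import Cfsg.Statements.S4664
import Cfsg.Agent.Lib.Block.Gal

set_option autoImplicit false
open Cfsg

namespace Cfsg.Agent.S4664

open Cfsg.Agent.Blk
open Cfsg.Agent.Char hiding cj cj_mul cj_inv_cj cj_cj_inv

/-- Fix a prime p and a maximal ideal M of the algebraic integers containing p, and let B be a p-block of the finite group G. Let m be the p'-part of the order of G and η = exp(2πi/m). Then every coefficient of the idempotent of B lies in the cyclotomic field ℚ(η). -/
theorem result {G : Type*} [Group G] [Fintype G] (p : ℕ) [Fact p.Prime] (M : Ideal Cfsg.AlgInt) (hM : Cfsg.IsPModular p M) (B : Set (Cfsg.IrrCharacter G)) (hB : Cfsg.IsPBlock M B) (g : G) : Cfsg.blockCoeff B g ∈ IntermediateField.adjoin ℚ ({Complex.exp (2 * Real.pi * Complex.I / ((Nat.card G / p ^ (Nat.card G).factorization p : ℕ) : ℂ))} : Set ℂ) := by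
  haveI : PMod M p := ⟨hM⟩
  classical
  have := Fact.mk (PMod.prime M)
  by_cases hg : p ∣ orderOf g
  · rw [hB.isUB.blockCoeff_eq_zero hg]; exact zero_mem _
  rw [blockCoeff_fs]
  refine mul_mem (inv_mem (natCast_mem _ _)) (sum_mem fun χ _ => mul_mem ?_ ?_)
  · rw [← cast_deg]; exact natCast_mem _ _
  rw [← χ.2.isCharacter.apply_inv]
  obtain ⟨s, -, h1, h2⟩ := χ.2.isCharacter.exists_eigenvalues g
  have h3 := h2 (-1)
  rw [zpow_neg_one] at h3
  rw [h3]
  refine multiset_sum_mem _ fun z hz => ?_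
  obtain ⟨w, hw, rfl⟩ := Multiset.mem_map.1 hz
  refine zpow_mem ?_ _
  have hm := pcompl_ne_zero p G
  have : NeZero (Nat.card G / p ^ (Nat.card G).factorization p) := ⟨hm⟩
  obtain ⟨i, -, rfl⟩ := (Complex.isPrimitiveRoot_exp _ hm).eq_pow_of_pow_eq_one
    (pow_eq_one_of_orderOf_dvd (orderOf_dvd_pcompl hg) (h1 w hw))
  exact pow_mem (IntermediateField.mem_adjoin_simple_self ℚ _) _

end Cfsg.Agent.S4664
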