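import Cfsg.Statements.S4665
import Cfsg.Agent.Lib.Block.Contrib

set_option autoImplicit false
open Cfsg

namespace Cfsg.Agent.S4665

open Cfsg.Agent.Blk
open Cfsg.Agent.Char hiding cj cj_mul cj_inv_cj cj_cj_inv

/-- Fix a prime p, a maximal ideal M of the algebraic integers containing p, and a p-block B of the finite group G, and let p^a be the p-part of the order of G. Let χ be an integer combination of the irreducible characters in B. If the function that agrees with χ on p-regular elements and vanishes on p-singular elements is again an integer combination of the irreducible characters in B, then p^a divides χ(1). -/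
theorem result {G : Type*} [Group G] [Fintype G] (p : ℕ) [Fact p.Prime] (M : Ideal Cfsg.AlgInt) (hM : Cfsg.IsPModular p M) (B : Set (Cfsg.IrrCharacter G)) (hB : Cfsg.IsPBlock M B) (χ : G → ℂ) (hχ : (∃ n : Cfsg.IrrCharacter G → ℤ, ∀ g : G, χ g = ∑ᶠ ψ ∈ B, (n ψ : ℂ) * (ψ : G → ℂ) g)) (h0 : (∃ n : Cfsg.IrrCharacter G → ℤ, ∀ g : G, Cfsg.pRegularPart p χ g = ∑ᶠ ψ ∈ B, (n ψ : ℂ) * (ψ : G → ℂ) g)) : ∃ k : ℤ, χ 1 = (p ^ (Nat.card G).factorization p : ℂ) * k := by
  haveI : PMod M p := ⟨hM⟩
  have := Fact.mk (PMod.prime M)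
  obtain ⟨n, hn⟩ := h0
  have h1 : reg p χ = ∑ ψ ∈ fs B, (n ψ : ℂ) • ψ.1 := funext fun g => by
    rw [← pRegularPart_eq, hn, finsum_fs, Finset.sum_apply]; rfl
  obtain ⟨k, hk⟩ := exists_degree_of_sing (p := p) (χ := reg p χ)
    (h1 ▸ isGen_sum_int _ _ fun ψ _ => ψ.2.isGen) fun x hx => reg_of_dvd hx
  exact ⟨k, by rw [← hk, reg_of_preg preg_one]⟩

end Cfsg.Agent.S4665
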