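import Cfsg.Statements.S4668
import Cfsg.Agent.Lib.Block.Cyc

set_option autoImplicit false
open Cfsg

namespace Cfsg.Agent.S4668

open Cfsg.Agent.Blk
open Cfsg.Agent.Char hiding cj cj_mul cj_inv_cj cj_cj_inv

/-- Fix a prime p and a maximal ideal M of the algebraic integers containing p. Let Q₀ < Q₁ < ⋯ < Q_m be a strictly increasing chain of p-subgroups of the finite group G and N the intersection of their normalizers. Then every block idempotent of N is supported on C_G(Q_m): for every p-block E of N, the idempotent coefficient of E vanishes at every element of N outside C_G(Q_m). -/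
theorem result {G : Type*} [Group G] [Fintype G] (p : ℕ) [Fact p.Prime] (M : Ideal Cfsg.AlgInt) (hM : Cfsg.IsPModular p M) (m : ℕ) (Q : Fin (m + 1) → Subgroup G) (hQ : StrictMono Q) (hQp : ∀ i, IsPGroup p (Q i)) (N : Subgroup G) (hN : ∀ g : G, g ∈ N ↔ ∀ i, g ∈ Subgroup.normalizer (Q i : Set G)) (E : Set (Cfsg.IrrCharacter N)) (hE : Cfsg.IsPBlock M E) (n : N) (hn : (n : G) ∉ Subgroup.centralizer (Q (Fin.last m) : Set G)) : Cfsg.blockCoeff E n = 0 := by
  haveI : PMod M p := ⟨hM⟩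
  by_cases hp : p ∣ orderOf n
  · exact hE.isUB.blockCoeff_eq_zero hp
  have hN' : ∀ i, N ≤ No (Q i) := fun i g hg => (hN g).1 hg i
  have h1 := hE.isBlockS.mem_sup_Ce (P := Q (Fin.last m) ⊓ N) (isPGroup_le (hQp _) inf_le_left)
    inf_le_right (le_trans (le_inf (hN' _) (le_No N)) (No_inf_le _ _))
  by_contra h0
  have h2 : (n : G) ∈ Ce (Q (Fin.last m) ⊓ N) := by
    by_contra h2
    obtain ⟨A, hA, h3⟩ := exists_isUB_barS_eq (M := M) (K := N ⊓ Ce (Q (Fin.last m) ⊓ N))
      (mem_Z.2 ⟨mem_sup_inf.2 ⟨hE.isBlockS.sup, h1⟩, inv_anti inf_le_left hE.isBlockS.inv⟩)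
      hE.isBlockS.idem
    rw [(hA.forall_coeff_eq_iff inf_le_left hE.isUB).2 h3.symm n, subgroupBlockCoeff,
      dif_neg fun h => h2 h.2] at h0
    exact h0 rfl
  have hp' : ¬ p ∣ orderOf (n : G) := by rwa [Subgroup.orderOf_coe]
  have key : ∀ i, (∀ j < i, (n : G) ∈ Ce (Q j)) → (n : G) ∈ Ce (Q i) := by
    intro i ih
    refine Solv.zpowers_le_centralizer_iff.1 (Solv.coprime_le_centralizer_of_self_centralizing
      (hQp i).isNilpotent (Subgroup.zpowers_le.2 (hN' i n.2)) (coprime_card_zpowers hp' (hQp i))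
      fun u hu => ?_)
    change u ∈ Ce _
    rw [Ce_zpowers]
    refine mem_Ce1.2 (mem_Ce.1 h2 u ⟨hQ.monotone (Fin.le_last i) hu.1, (hN u).2 fun j => ?_⟩)
    rcases lt_or_ge j i with h | h
    · refine Ce_le_No _ (Ce_anti (le_inf (hQ h).le fun v hv => ?_) hu.2)
      change v ∈ Ce _
      rw [Ce_zpowers]
      exact mem_Ce1.2 (mem_Ce.1 (ih j h) v hv)
    · exact le_No _ (hQ.monotone h hu.1)
  exact hn ((wellFounded_lt (α := Fin (m + 1))).induction (C := fun i => (n : G) ∈ Ce (Q i)) _ key)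

end Cfsg.Agent.S4668
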