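import Cfsg.Statements.S4669
import Cfsg.Agent.Lib.Block.Quot

set_option autoImplicit false
open Cfsg

namespace Cfsg.Agent.S4669

open Cfsg.Agent.Blk
open Cfsg.Agent.Char hiding cj cj_mul cj_inv_cj cj_cj_inv

/-- Fix a prime p and a maximal ideal M of the algebraic integers containing p. If the p-block B of the finite group G has a defect group P contained in the centre of G, then B has p-regular rank one (a single irreducible Brauer character). -/
theorem result {G : Type*} [Group G] [Fintype G] (p : ℕ) [Fact p.Prime] (M : Ideal Cfsg.AlgInt) (hM : Cfsg.IsPModular p M) (B : Set (Cfsg.IrrCharacter G)) (hB : Cfsg.IsPBlock M B) (P : Subgroup G) (hD : Cfsg.IsDefectGroup p M B P) (hPZ : P ≤ Subgroup.center G) : Cfsg.blockRank p B = 1 := by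
  haveI : PMod M p := ⟨hM⟩
  have : P.Normal := ⟨fun n hn g => by
    rwa [Subgroup.mem_center_iff.1 (hPZ hn) g, mul_inv_cancel_right]⟩
  have hφ := QuotientGroup.mk'_surjective P
  have hD' := hB.isDefectGroup_iff.1 hD
  have hP' : IsPGroup p (QuotientGroup.mk' P).ker := by rw [QuotientGroup.ker_mk']; exact hD'.pg
  have h1 : ∀ g, ¬ p ∣ orderOf g → g ∈ Ce (QuotientGroup.mk' P).ker := fun g hg => by
    rw [QuotientGroup.ker_mk']
    exact mem_Ce.2 fun q hq => (Subgroup.mem_center_iff.1 (hPZ hq) g).symm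
  obtain ⟨χ, h2, h3⟩ := hB.exists_infl_mem hφ hP' hD'
  rw [← hB.isUB.blockRank_preimage hφ hP' h1]
  have hb := isPBlock_blockOf (M := M) χ
  rw [(Subgroup.map_eq_bot_iff _).2 (by rw [QuotientGroup.ker_mk']), ← bar_blockOf,
    ← hb.defect_eq_zero_iff_isDef, hb.defect_eq_zero_iff (mem_blockOf_self χ)] at h3
  have h4 : infl hφ ⁻¹' B = {χ} := by
    rw [← hb.eq_singleton_of_nu (mem_blockOf_self χ) h3]
    ext ξ
    rw [Set.mem_preimage, mem_blockOf, hB.mem_iff, ← hB.blk_eq h2,
      blk_infl_eq_iff hφ (exists_lift_top_of_preg hφ hP' h1)]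
  rw [h4]
  refine le_antisymm ((blockRank_le_card _).trans ?_) (blockRank_pos ⟨χ, rfl⟩)
  rw [← card_fs]; simp

end Cfsg.Agent.S4669
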