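import Cfsg.Statements.S4670
import Cfsg.Agent.Lib.Block.Fong

set_option autoImplicit false
open Cfsg

namespace Cfsg.Agent.S4670

open Cfsg.Agent.Blk
open Cfsg.Agent.Char hiding cj cj_mul cj_inv_cj cj_cj_inv

/-- Fix a prime p and a maximal ideal M of the algebraic integers containing p. Let P be a p-subgroup of the finite group G and H a subgroup containing N_G(P). For every p-block B of G with defect group P there is exactly one p-block c of H with defect group P whose idempotent agrees with that of B, modulo the local ideal at M, at every element of C_G(P) (their Brauer-map images at P coincide); and every p-block c of H with defect group P arises in this way from exactly one such B. This is the Brauer correspondence over H. -/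
theorem result {G : Type*} [Group G] [Fintype G] (p : ℕ) [Fact p.Prime] (M : Ideal Cfsg.AlgInt) (hM : Cfsg.IsPModular p M) (P H : Subgroup G) (hP : IsPGroup p P) (hH : Subgroup.normalizer (P : Set G) ≤ H) : (∀ B : Set (Cfsg.IrrCharacter G), Cfsg.IsPBlock M B → Cfsg.IsDefectGroup p M B P → ∃! c : Set (Cfsg.IrrCharacter H), Cfsg.IsPBlock M c ∧ Cfsg.IsDefectGroup p M c (P.subgroupOf H) ∧ ∀ x : G, x ∈ Subgroup.centralizer (P : Set G) → Cfsg.MemLocalIdeal M (Cfsg.blockCoeff B x - Cfsg.subgroupBlockCoeff H c x)) ∧ (∀ c : Set (Cfsg.IrrCharacter H), Cfsg.IsPBlock M c → Cfsg.IsDefectGroup p M c (P.subgroupOf H) → ∃! B : Set (Cfsg.IrrCharacter G), Cfsg.IsPBlock M B ∧ Cfsg.IsDefectGroup p M B P ∧ ∀ x : G, x ∈ Subgroup.centralizer (P : Set G) → Cfsg.MemLocalIdeal M (Cfsg.blockCoeff B x - Cfsg.subgroupBlockCoeff H c x)) := by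
  haveI : PMod M p := ⟨hM⟩
  have h0 : H ⊓ No P = ⊤ ⊓ No P := by rw [top_inf_eq, inf_eq_right.2 hH]
  have hPH : P ≤ H := (le_No P).trans hH
  have key : ∀ (B : Set (IrrCharacter G)) (c : Set (IrrCharacter H)), IsPBlock M B → IsPBlock M c →
      ((∀ x : G, x ∈ Ce P → MemLocalIdeal M (blockCoeff B x - subgroupBlockCoeff H c x)) ↔
        Br P (bar M B) = Br P (barS M H c)) := by
    intro B c hB hc
    have h1 : ∀ x, MemLocalIdeal M (blockCoeff B x - subgroupBlockCoeff H c x) ↔
        (bar M B).coeff x = (barS M H c).coeff x := fun x => by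
      rw [coeff_bar, ← toK_fOS, coeff_toK, hc.isUB.coeff_fOS, rd_eq_iff (hB.blockCoeff_mem x)
        (hc.isUB.coeff_fOS x ▸ Subtype.property _)]
    simp only [h1]
    constructor
    · intro h
      classical
      refine ext' fun x => ?_
      rw [coeff_tr, coeff_tr]
      split_ifs with hx
      exacts [h x hx, rfl]
    · intro h x hx
      rw [← coeff_tr_of_mem (S := Ce P) _ hx, ← coeff_tr_of_mem (S := Ce P) (barS M H c) hx]
      exact congrArg (fun a => a.coeff x) h
  have uniq : ∀ {K : Subgroup G} {a b : MonoidAlgebra (kk M) G}, P ≤ K → IsBlock K a → IsBlock K b →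
      Br P a = Br P b → Br P b ≠ 0 → a = b := fun hK ha hb h h1 =>
    ha.eq_of_mul_ne_zero hb fun h2 => h1 (by
      have h3 := Br_mul hP (inv_anti hK ha.inv) (inv_anti hK hb.inv)
      rw [h2, map_zero, h, hb.Br_mul_Br hP hK] at h3
      exact h3.symm)
  have step : ∀ {K L : Subgroup G} {a : MonoidAlgebra (kk M) G}, No P ≤ K → No P ≤ L → IsBlock K a →
      IsDef p K a P → ∃ b, IsBlock L b ∧ IsDef p L b P ∧ Br P b = Br P a := by
    intro K L a hK hL ha hD
    have h1 : K ⊓ No P = L ⊓ No P := by rw [inf_eq_right.2 hK, inf_eq_right.2 hL]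
    have h2 := ha.isBlock_Br hD
    have h3 := ha.isDef_Br hD
    rw [h1] at h2 h3
    obtain ⟨b, ⟨hb, h4⟩, -⟩ := existsUnique_block_Br hP ((le_No P).trans hL) (inf_Ce_le_inf_No L P)
      inf_le_left inf_le_right h2
    have h5 := isDef_of_Br_mul h2 h3 hb h4
    exact ⟨b, hb, h5, (hb.eq_Br_of_mul h5 h2 h4).symm⟩
  constructor
  · intro B hB hD
    have hD' := hB.isDefectGroup_iff.1 hD
    obtain ⟨b, hb, h1, h2⟩ := step le_top hH hB.isBlock hD'
    obtain ⟨c, hc, rfl⟩ := exists_isPBlock_barS_eq hb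
    exact ⟨c, ⟨hc, (hc.isDefectGroup_subgroupOf_iff hPH).2 h1, (key B c hB hc).2 h2.symm⟩,
      fun c' h => h.1.barS_inj hc (uniq hPH h.1.isBlockS hb
        (((key B c' hB h.1).1 h.2.2).symm.trans h2.symm) h1.ne)⟩
  · intro c hc hD
    have hD' := (hc.isDefectGroup_subgroupOf_iff hPH).1 hD
    obtain ⟨b, hb, h1, h2⟩ := step hH le_top hc.isBlockS hD'
    obtain ⟨B, hB, rfl⟩ := exists_isPBlock_bar_eq hb
    exact ⟨B, ⟨hB, hB.isDefectGroup_iff.2 h1, (key B c hB hc).2 h2⟩,
      fun B' h => h.1.bar_inj hB (uniq le_top h.1.isBlock hb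
        (((key B' c h.1 hc).1 h.2.2).trans h2.symm) h1.ne)⟩

end Cfsg.Agent.S4670
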