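import Cfsg.Statements.S4671
import Cfsg.Agent.Lib.Block.Fong

set_option autoImplicit false
open Cfsg

namespace Cfsg.Agent.S4671

open Cfsg.Agent.Blk
open Cfsg.Agent.Char hiding cj cj_mul cj_inv_cj cj_cj_inv

/-- Fix a prime p and a maximal ideal M of the algebraic integers containing p. Let N be a normal subgroup of the finite group G, B a p-block of G and P a defect group of B. Then there is a p-block c of N, stable under conjugation by P and covered by B (some member of B has a constituent in c on restriction to N), such that P ∩ N is a defect group of c. -/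
theorem result {G : Type*} [Group G] [Fintype G] (p : ℕ) [Fact p.Prime] (M : Ideal Cfsg.AlgInt) (hM : Cfsg.IsPModular p M) (N : Subgroup G) [N.Normal] [Fintype N] (B : Set (Cfsg.IrrCharacter G)) (hB : Cfsg.IsPBlock M B) (P : Subgroup G) (hP : Cfsg.IsDefectGroup p M B P) : ∃ c : Set (Cfsg.IrrCharacter N), Cfsg.IsPBlock M c ∧ (∀ x ∈ P, Cfsg.StabilizesBlock N c x) ∧ (∃ χ ∈ B, ∃ θ ∈ c, Cfsg.classInner (fun n : N => (χ : G → ℂ) n) (θ : N → ℂ) ≠ 0) ∧ Cfsg.IsDefectGroup p M c ((P ⊓ N).subgroupOf N) := by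
  haveI : PMod M p := ⟨hM⟩
  obtain ⟨b, hb, h1⟩ := hB.isBlock.exists_covered N
  obtain ⟨x, -, h2, -, h3⟩ := hb.knorr_conj le_top (top_le_No N) hB.isBlock h1
    (hB.isDefectGroup_iff.1 hP)
  obtain ⟨c, hc, h4⟩ := exists_isPBlock_barS_eq (hb.cj_of_mem_No (top_le_No N (Subgroup.mem_top x)))
  refine ⟨c, hc, fun y hy => (hc.stabilizes_normal_iff y).2 ⟨trivial, h4 ▸ mem_inv.1 h2 y hy⟩,
    (hB.isUB.cover_iff hc.isUB).2 ?_, (hc.isDefectGroup_subgroupOf_iff inf_le_right).2 (h4 ▸ h3)⟩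
  rw [h4]
  exact mul_ne_zero_of_mem_orbit hB.isBlock.inv (cj_mem_orbit (Subgroup.mem_top x) b) h1

end Cfsg.Agent.S4671
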