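import Cfsg.Statements.S4672
import Cfsg.Agent.Lib.Block.Fong

set_option autoImplicit false
open Cfsg

namespace Cfsg.Agent.S4672

open Cfsg.Agent.Blk
open Cfsg.Agent.Char hiding cj cj_mul cj_inv_cj cj_cj_inv

/-- Fix a prime p and a maximal ideal M of the algebraic integers containing p. Let N be a normal subgroup of the finite group G of p-power index and c a p-block of N stable under conjugation by G. Then the idempotent of c is a block idempotent of G: there is a p-block B of G whose idempotent coefficients agree with those of c on N and vanish off N; and for every defect group P of such a block B, G = NP and P ∩ N is a defect group of c. -/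
theorem result {G : Type*} [Group G] [Fintype G] (p : ℕ) [Fact p.Prime] (M : Ideal Cfsg.AlgInt) (hM : Cfsg.IsPModular p M) (N : Subgroup G) [N.Normal] (hN : ∃ k : ℕ, N.index = p ^ k) (c : Set (Cfsg.IrrCharacter N)) (hc : Cfsg.IsPBlock M c) (hst : ∀ x : G, Cfsg.StabilizesBlock N c x) : (∃ B : Set (Cfsg.IrrCharacter G), Cfsg.IsPBlock M B ∧ ∀ g : G, Cfsg.blockCoeff B g = Cfsg.subgroupBlockCoeff N c g) ∧ ∀ B : Set (Cfsg.IrrCharacter G), Cfsg.IsPBlock M B → (∀ g : G, Cfsg.blockCoeff B g = Cfsg.subgroupBlockCoeff N c g) → ∀ P : Subgroup G, Cfsg.IsDefectGroup p M B P → N ⊔ P = ⊤ ∧ Cfsg.IsDefectGroup p M c ((P ⊓ N).subgroupOf N) := by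
  haveI : PMod M p := ⟨hM⟩
  obtain ⟨n, hn⟩ := hN
  have hcS := hc.isBlockS
  have hinv : barS M N c ∈ inv (kk M) ⊤ :=
    mem_inv.2 fun g _ => ((hc.stabilizes_normal_iff g).1 (hst g)).2
  have h1 : IsBlock ⊤ (barS M N c) := by
    have := hcS.isBlock_orb_of_preg le_top (top_le_No N) fun g _ h => mem_of_preg_of_index hn h
    rwa [orb_of_inv hinv] at this
  constructor
  · obtain ⟨B, hB, h2⟩ := exists_isPBlock_bar_eq h1
    exact ⟨B, hB, (hc.isUB.forall_coeff_eq_iff_top hB.isUB).2 h2⟩
  · intro B hB h2 P hP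
    have h3 := hB.isDefectGroup_iff.1 hP
    rw [(hc.isUB.forall_coeff_eq_iff_top hB.isUB).1 h2] at h3
    refine ⟨?_, (hc.isDefectGroup_subgroupOf_iff inf_le_right).2 (hcS.knorr_stable le_top
      (top_le_No N) h1 (hcS.mul_self.symm ▸ hcS.ne) hinv h3)⟩
    rw [sup_comm]
    exact eq_of_relIndex_pow le_sup_right le_top (by rw [Subgroup.relIndex_top_right, hn])
      (h3.not_dvd_index hcS le_top (top_le_No N) hinv)

end Cfsg.Agent.S4672
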