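import Cfsg.Statements.S4673
import Cfsg.Agent.Lib.Block.Fong

set_option autoImplicit false
open Cfsg

namespace Cfsg.Agent.S4673

open Cfsg.Agent.Blk
open Cfsg.Agent.Char hiding cj cj_mul cj_inv_cj cj_cj_inv

/-- Fix a prime p and a maximal ideal M of the algebraic integers containing p. Let N ≤ L be normal subgroups of the finite group G with L/N a p-group, let B be a p-block of G covering the p-block c of N (some member of B has a constituent in c on restriction to N), and suppose that N contains a defect group of B. Then the stabilizer T of c in G satisfies T ∩ L = N. -/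
theorem result {G : Type*} [Group G] [Fintype G] (p : ℕ) [Fact p.Prime] (M : Ideal Cfsg.AlgInt) (hM : Cfsg.IsPModular p M) (N L : Subgroup G) [N.Normal] [L.Normal] [Fintype N] (hNL : N ≤ L) (hLN : ∃ k : ℕ, (N.subgroupOf L).index = p ^ k) (B : Set (Cfsg.IrrCharacter G)) (hB : Cfsg.IsPBlock M B) (c : Set (Cfsg.IrrCharacter N)) (hc : Cfsg.IsPBlock M c) (hcov : (∃ χ ∈ B, ∃ θ ∈ c, Cfsg.classInner (fun n : N => (χ : G → ℂ) n) (θ : N → ℂ) ≠ 0)) (hD : ∃ D : Subgroup G, Cfsg.IsDefectGroup p M B D ∧ D ≤ N) (T : Subgroup G) (hT : ∀ x : G, x ∈ T ↔ Cfsg.StabilizesBlock N c x) : T ⊓ L = N := by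
  haveI : PMod M p := ⟨hM⟩
  obtain ⟨n, hn⟩ := hLN
  obtain ⟨D, hD, hDN⟩ := hD
  have hcS := hc.isBlockS
  obtain rfl : T = stab ⊤ (barS M N c) :=
    Subgroup.ext fun g => (hT g).trans (hc.stabilizes_normal_iff g)
  have h1 := (hB.isUB.cover_iff hc.isUB).1 hcov
  have h2 : N ≤ stab ⊤ (barS M N c) ⊓ L := le_inf (hcS.le_stab' le_top) hNL
  have h3 := hcS.isBlock_orb_of_preg hNL (le_No_of_normal L N)
    fun g hg h => mem_of_preg_of_relIndex (le_No_of_normal L N) hn hg h
  have h4 : bar M B * orb L (barS M N c) ≠ 0 := fun h => h1 (by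
    rw [← hcS.orb_mul_self (le_No_of_normal L N), ← mul_assoc, h, zero_mul])
  have hinv := inv_anti (inf_le_left (b := L)) (mem_inv_stab ⊤ (barS M N c))
  obtain ⟨D', hD'1, hD'2, h5, h6⟩ := hcS.exists_Br_ne_zero_index (p := p) h2
    (le_No_of_normal _ N) hinv
  have hD'L := hD'1.trans inf_le_right
  rw [← hcS.orb_mul_self (le_No_of_normal L N), Br_mul hD'2 (inv_anti hD'L h3.inv)
    (inv_anti hD'1 hinv)] at h5
  have h7 := left_ne_zero_of_mul (h3.Br_mul_Br_ne_zero le_top (top_le_No L) hB.isBlock h4 hD'2 hD'L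
    (left_ne_zero_of_mul h5))
  obtain ⟨x, -, h8⟩ := (hB.isDefectGroup_iff.1 hD).sub D' le_top hD'2 h7
  have h9 : D' ≤ N := by
    have := cs_le_iff.1 (h8.trans hDN)
    rwa [cs_normal] at this
  rw [sup_eq_right.2 h9] at h6
  have h10 : N.relIndex (stab ⊤ (barS M N c) ⊓ L) ∣ p ^ n := by
    rw [← hn]
    exact Dvd.intro _ (Subgroup.relIndex_mul_relIndex _ _ _ h2 inf_le_right)
  obtain ⟨m, -, hm⟩ := (Nat.dvd_prime_pow Fact.out).1 h10
  exact (eq_of_relIndex_pow le_rfl h2 hm h6).symm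

end Cfsg.Agent.S4673
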