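import Cfsg.Statements.S4674
import Cfsg.Agent.Lib.Block.Fong

set_option autoImplicit false
open Cfsg

namespace Cfsg.Agent.S4674

open Cfsg.Agent.Blk
open Cfsg.Agent.Char hiding cj cj_mul cj_inv_cj cj_cj_inv

/-- Fix a prime p and a maximal ideal M of the algebraic integers containing p. Let N be a normal subgroup of the finite group G, Q a p-subgroup of N, H = N_G(Q) and L = H ∩ N = N_N(Q). Let d be a p-block of N with defect group Q and e the p-block of L with defect group Q that induces d inside N (its Brauer correspondent). Then block induction from H to G is a bijection from the p-blocks of H covering e onto the p-blocks of G covering d: every block of H covering e induces exactly one block of G, and that block covers d; and every block of G covering d is induced by exactly one block of H covering e. -/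
theorem result {G : Type*} [Group G] [Fintype G] (p : ℕ) [Fact p.Prime] (M : Ideal Cfsg.AlgInt) (hM : Cfsg.IsPModular p M) (N : Subgroup G) [N.Normal] [Fintype N] (Q : Subgroup G) (hQ : IsPGroup p Q) (hQN : Q ≤ N) [Fintype ↥(Subgroup.normalizer (Q : Set G) ⊓ N)] (d : Set (Cfsg.IrrCharacter N)) (hd : Cfsg.IsPBlock M d) (hdQ : Cfsg.IsDefectGroup p M d (Q.subgroupOf N)) (e : Set (Cfsg.IrrCharacter ↥(Subgroup.normalizer (Q : Set G) ⊓ N))) (he : Cfsg.IsPBlock M e) (heQ : Cfsg.IsDefectGroup p M e (Q.subgroupOf (Subgroup.normalizer (Q : Set G) ⊓ N))) (hed : Cfsg.IsInducedBlockIn M N (Subgroup.normalizer (Q : Set G) ⊓ N) e d) : (∀ c : Set (Cfsg.IrrCharacter ↥(Subgroup.normalizer (Q : Set G))), Cfsg.IsPBlock M c → (∃ ψ ∈ c, ∃ ξ ∈ e, Cfsg.classInner (fun l : ↥(Subgroup.normalizer (Q : Set G) ⊓ N) => (ψ : ↥(Subgroup.normalizer (Q : Set G)) → ℂ) (Subgroup.inclusion inf_le_left l)) (ξ : ↥(Subgroup.normalizer (Q : Set G) ⊓ N) → ℂ) ≠ 0)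 → ∃! B : Set (Cfsg.IrrCharacter G), Cfsg.IsInducedBlock M (Subgroup.normalizer (Q : Set G)) c B ∧ (∃ χ ∈ B, ∃ θ ∈ d, Cfsg.classInner (fun n : N => (χ : G → ℂ) n) (θ : N → ℂ) ≠ 0)) ∧ (∀ B : Set (Cfsg.IrrCharacter G), Cfsg.IsPBlock M B → (∃ χ ∈ B, ∃ θ ∈ d, Cfsg.classInner (fun n : N => (χ : G → ℂ) n) (θ : N → ℂ) ≠ 0) → ∃! c : Set (Cfsg.IrrCharacter ↥(Subgroup.normalizer (Q : Set G))), (Cfsg.IsPBlock M c ∧ ∃ ψ ∈ c, ∃ ξ ∈ e, Cfsg.classInner (fun l : ↥(Subgroup.normalizer (Q : Set G) ⊓ N) => (ψ : ↥(Subgroup.normalizer (Q : Set G)) → ℂ) (Subgroup.inclusion inf_le_left l)) (ξ : ↥(Subgroup.normalizer (Q : Set G) ⊓ N) → ℂ) ≠ 0) ∧ Cfsg.IsInducedBlock M (Subgroup.normalizer (Q : Set G)) c B) := by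
  haveI : PMod M p := ⟨hM⟩
  have hdS := hd.isBlockS
  have hQd := (hd.isDefectGroup_subgroupOf_iff hQN).1 hdQ
  have h0 : ⊤ ⊓ No Q = No Q := top_inf_eq _
  have h1 : barS M _ e = Br Q (barS M N d) := by
    obtain ⟨-, -, h1⟩ := (isInducedBlockIn_iff inf_le_right).1 hed
    refine hdS.eq_Br_of_mul hQd (by rw [inf_comm]; exact he.isBlockS) ?_
    exact (ind_iff_Br hQ (le_inf (le_No Q) hQN) (le_inf (inf_le_right.trans (Ce_le_No Q)) inf_le_left)
      inf_le_right inf_le_left he.isBlockS hdS).1 h1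
  have hind : ∀ {c : Set (IrrCharacter (No Q))} {B : Set (IrrCharacter G)}, IsPBlock M c →
      IsPBlock M B → (IsInducedBlock M (No Q) c B ↔ Br Q (bar M B) * barS M _ c = barS M _ c) :=
    fun hc hB => by
      rw [isInducedBlock_iff, and_iff_right hc, and_iff_right hB, ind_iff_Br hQ (le_No Q)
        (inf_le_right.trans (Ce_le_No Q)) le_top le_rfl hc.isBlockS hB.isBlock]
  constructor
  · intro c hc hcov
    have h2 := (hc.isUB.cover_iffS inf_le_left he.isUB).1 hcov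
    obtain ⟨B, ⟨hB, h3⟩, -⟩ := existsUnique_block_Br (H := ⊤) hQ le_top
      (inf_le_right.trans (Ce_le_No Q)) le_top le_rfl hc.isBlockS
    obtain ⟨B, hB', rfl⟩ := exists_isPBlock_bar_eq hB
    refine ⟨B, ⟨(hind hc hB').2 h3, (hB'.isUB.cover_iff hd.isUB).2 fun h4 => h2 ?_⟩,
      fun B' hB' => hB'.1.unique ((hind hc ‹_›).2 h3)⟩
    rw [← h3, (Z_comm (by simpa using hB.Br_mem_Z_No Q) hc.isBlockS.mem).eq, mul_assoc, h1,
      ← Br_mul hQ (inv_anti le_top hB.inv) (inv_anti hQN hdS.inv), h4, map_zero, mul_zero]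
  · intro B hB hcov
    have h2 := (hB.isUB.cover_iff hd.isUB).1 hcov
    have h3 := hdS.Br_mul_Br_ne_zero le_top (top_le_No N) hB.isBlock h2 hQ hQN hQd.ne
    obtain ⟨c, hc, h4⟩ := exists_block_mul_ne_zero' (No Q) h3
    obtain ⟨c, hc', rfl⟩ := exists_isPBlock_barS_eq hc
    have h5 := h0 ▸ hB.isBlock.Br_mem_Z_No Q
    rw [← mul_assoc, (Z_comm hc.mem h5).eq] at h4
    have h6 := hc.mul_eq_self_of_ne_zero h5 (hB.isBlock.Br_mul_Br hQ le_top) (left_ne_zero_of_mul h4)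
    rw [h6, ← h1] at h4
    exact ⟨c, ⟨⟨hc', (hc'.isUB.cover_iffS inf_le_left he.isUB).2 h4⟩, (hind hc' hB).2 h6⟩,
      fun c' h => h.1.1.barS_inj hc' (hdS.HK_unique le_top (top_le_No N) hB.isBlock h2 hQd
        (h0.symm ▸ h.1.1.isBlockS) (h0.symm ▸ hc) ((hind h.1.1 hB).1 h.2) h6)⟩

end Cfsg.Agent.S4674
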