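import Cfsg.Statements.S4675
import Cfsg.Agent.Lib.Block.Cent

set_option autoImplicit false
open Cfsg

namespace Cfsg.Agent.S4675

open Cfsg.Agent.Blk
open Cfsg.Agent.Char hiding cj cj_mul cj_inv_cj cj_cj_inv

/-- Fix a prime p and a maximal ideal M of the algebraic integers containing p. Let B be a p-block of the finite group G with defect group P and p-regular rank one (a single irreducible Brauer character). Then there are a function φ on G that is, on the p-regular elements, an integer combination of the members of B, and natural numbers d_χ (χ ∈ B), such that every χ ∈ B agrees with d_χ·φ on the p-regular elements and Σ_{χ ∈ B} d_χ² equals the order of P (the single Cartan invariant of B is the order of P). -/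
theorem result {G : Type*} [Group G] [Fintype G] (p : ℕ) [Fact p.Prime] (M : Ideal Cfsg.AlgInt) (hM : Cfsg.IsPModular p M) (B : Set (Cfsg.IrrCharacter G)) (hB : Cfsg.IsPBlock M B) (P : Subgroup G) (hP : Cfsg.IsDefectGroup p M B P) (hl : Cfsg.blockRank p B = 1) : ∃ φ : G → ℂ, ∃ d : Cfsg.IrrCharacter G → ℕ, (∃ n : Cfsg.IrrCharacter G → ℤ, ∀ x : G, Cfsg.IsPRegular p x → φ x = ∑ᶠ ψ ∈ B, (n ψ : ℂ) * (ψ : G → ℂ) x) ∧ (∀ χ ∈ B, ∀ x : G, Cfsg.IsPRegular p x → (χ : G → ℂ) x = (d χ : ℂ) * φ x) ∧ ∑ᶠ χ ∈ B, d χ ^ 2 = Nat.card P := by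
  haveI : PMod M p := ⟨hM⟩
  classical
  obtain ⟨g, hg⟩ : ∃ g, g = (fs B).gcd fun χ => (charDegree χ.1 : ℤ) := ⟨_, rfl⟩
  obtain ⟨n, hn⟩ := Finset.gcd_eq_sum_mul (fs B) fun χ => (charDegree χ.1 : ℤ)
  rw [← hg] at hn
  have h1 : ∀ χ ∈ B, g ∣ charDegree χ.1 := fun χ hχ => hg ▸ Finset.gcd_dvd (mem_fs.2 hχ)
  obtain ⟨θ, hθ, hθ0⟩ := exists_height_zero p hB.nonempty
  have hg0 : g ≠ 0 := fun h => charDegree_ne_zero θ (by
    exact_mod_cast (zero_dvd_iff.1 (h ▸ h1 θ hθ)))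
  obtain ⟨g, rfl⟩ : ∃ g' : ℕ, g = g' :=
    ⟨g.natAbs, by rw [Int.natCast_natAbs, hg, Int.abs_eq_normalize, Finset.normalize_gcd]⟩
  have hg1 : (g : ℂ) ≠ 0 := by exact_mod_cast hg0
  have h2 : ∀ χ ∈ B, g ∣ charDegree χ.1 := fun χ hχ => by exact_mod_cast h1 χ hχ
  let φ : G → ℂ := ∑ ψ ∈ fs B, (n ψ : ℂ) • ψ.1
  have h3 : ∀ χ ∈ B, reg p χ.1 = ((charDegree χ.1 / g : ℕ) : ℂ) • reg p φ := fun χ hχ => by
    rw [reg_sum, Finset.sum_congr rfl fun ψ hψ => by
      rw [reg_smul, exists_reg_eq_of_rank hl (mem_fs.1 hψ) hχ, smul_smul], ← Finset.sum_smul,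
      smul_smul, Nat.cast_div (h2 χ hχ) hg1]
    have h4 : (g : ℂ) = ∑ ψ ∈ fs B, ψ.1 1 * n ψ := by
      simp_rw [← cast_deg]; exact_mod_cast hn
    have := χ.2.apply_one_ne_zero
    rw [show ∑ ψ ∈ fs B, (n ψ : ℂ) * (ψ.1 1 / χ.1 1) = g / χ.1 1 by
      rw [h4, Finset.sum_div]; exact Finset.sum_congr rfl fun _ _ => by ring, cast_deg,
      show χ.1 1 / g * (g / χ.1 1) = 1 by field_simp, one_smul]
  refine ⟨φ, fun χ => charDegree χ.1 / g, ⟨n, fun x _ => by
    rw [finsum_fs]; simp [φ, Finset.sum_apply]⟩, fun χ hχ x hx => by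
      simpa [reg_of_preg hx] using congrFun (h3 χ hχ) x, ?_⟩
  rw [finsum_fs, hB.card_defectGroup hP]
  have h4 := hB.isUB.blockRank_eq_sum (p := p)
  rw [hl, Finset.sum_congr rfl fun χ hχ => by
    rw [← classInner_reg_reg, h3 χ (mem_fs.1 hχ), classInner_smul_left, classInner_smul_right,
      Complex.conj_natCast, ← mul_assoc, ← sq], ← Finset.sum_mul] at h4
  have h5 : (p : ℂ) ^ blockDefect p B * classInner (reg p φ) (reg p φ) =
      (∑ χ ∈ fs B, ∑ ψ ∈ fs B, n χ * n ψ * am p B χ ψ : ℤ) := by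
    rw [classInner_reg_reg, reg_sum, classInner_sum_left, Finset.mul_sum]
    push_cast
    refine Finset.sum_congr rfl fun χ hχ => ?_
    rw [classInner_sum_right, Finset.mul_sum]
    refine Finset.sum_congr rfl fun ψ _ => ?_
    rw [reg_smul, classInner_smul_left, classInner_smul_right, map_intCast, am_cast (mem_fs.1 hχ)]
    ring
  have h6 : ((∑ χ ∈ fs B, (charDegree χ.1 / g) ^ 2 : ℕ) : ℤ) ∣ (p ^ blockDefect p B : ℕ) :=
    ⟨_, by
      have : (((p ^ blockDefect p B : ℕ) : ℤ) : ℂ) = (((∑ χ ∈ fs B, (charDegree χ.1 / g) ^ 2 : ℕ) : ℤ) *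
          (∑ χ ∈ fs B, ∑ ψ ∈ fs B, n χ * n ψ * am p B χ ψ : ℤ) : ℤ) := by
        rw [Int.cast_mul, ← h5, Int.cast_natCast, Int.cast_natCast]
        simp only [Nat.cast_sum, Nat.cast_pow, Nat.cast_one] at h4 ⊢
        linear_combination (p : ℂ) ^ blockDefect p B * h4
      exact_mod_cast this⟩
  obtain ⟨j, -, hj⟩ := (Nat.dvd_prime_pow Fact.out).1 (Int.natCast_dvd_natCast.1 h6)
  have h7 := hB.factorization_sum_sq
  have hg2 : g ≠ 0 := by exact_mod_cast hg0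
  rw [Finset.sum_congr rfl fun χ hχ => by
    rw [← Nat.mul_div_cancel' (h2 χ (mem_fs.1 hχ)), mul_pow], ← Finset.mul_sum, hj,
    Nat.factorization_mul (pow_ne_zero _ hg2) (pow_ne_zero _ (Fact.out : p.Prime).ne_zero),
    Finsupp.add_apply, factorization_pow_self, Nat.factorization_pow, Finsupp.smul_apply,
    smul_eq_mul] at h7
  have h8 := (Nat.factorization_le_iff_dvd hg2 (charDegree_ne_zero θ)).2 (h2 θ hθ) p
  have h9 : p ^ mnu p B ∣ g := by
    have : ((p ^ mnu p B : ℕ) : ℤ) ∣ g := hg ▸ Finset.dvd_gcd fun χ hχ =>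
      Int.natCast_dvd_natCast.2 (pow_mnu_dvd (mem_fs.1 hχ))
    exact_mod_cast this
  have h10 := ((Fact.out : p.Prime).pow_dvd_iff_le_factorization hg2).1 h9
  have h11 := (height_eq_zero_iff hθ).1 hθ0
  have h12 := defect_add_mnu (p := p) hB.nonempty
  rw [hj]
  congr 1
  rw [nu] at h11
  omega

end Cfsg.Agent.S4675
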