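import Cfsg.Statements.S4681
import Cfsg.Agent.Lib.Block.PDict

set_option autoImplicit false
open Cfsg

namespace Cfsg.Agent.S4681

open Cfsg.Agent.Blk
open Cfsg.Agent.Char hiding cj cj_mul cj_inv_cj cj_cj_inv

/-- Fix a prime p and a maximal ideal M of the algebraic integers containing p. Let B₀ be the principal p-block of the finite group G, P a Sylow p-subgroup and e₀ the principal p-block of C_G(P). Then (P, e₀) is a maximal Brauer pair of B₀, and the fusion system of B₀ on (P, e₀) is the fusion system of G on P: its maps from each subgroup of P are exactly the conjugation maps into P by elements of G. -/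
theorem result {G : Type*} [Group G] [Fintype G] (p : ℕ) [Fact p.Prime] (M : Ideal Cfsg.AlgInt) (hM : Cfsg.IsPModular p M) (S : Sylow p G) : Cfsg.IsMaximalBrauerPair p M (Cfsg.principalBlock M G) (S : Subgroup G) (Cfsg.principalBlock M (Subgroup.centralizer ((S : Subgroup G) : Set G))) ∧ ∀ F : Cfsg.FusionSystem (S : Subgroup G), Cfsg.IsBlockFusionSystemOn p M (Cfsg.principalBlock M G) (S : Subgroup G) (Cfsg.principalBlock M (Subgroup.centralizer ((S : Subgroup G) : Set G))) F → ∀ Q : Subgroup G, F.Hom Q = (Cfsg.groupFusionSystem (S : Subgroup G)).Hom Q := by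
  haveI : PMod M p := ⟨hM⟩
  have hS := S.isPGroup'
  have hb := (isPBlock_principal (M := M) (G := Ce (S : Subgroup G))).isBP hS
  refine ⟨isMaximalBrauerPair_iff.2 ⟨isPBlock_principal, isPBlock_principal, hb,
    isPBlock_principal.isBlock, (principal_Br_mul_iff hS isPBlock_principal).2 rfl,
    isDef_principal_iff.2 (isSyl_sylow S)⟩, fun F hF => Fusion.hom_eq_iff.2 fun Q φ => ?_⟩
  rw [hF.isBFS, Fusion.mor_group_iff]
  constructor
  · rintro ⟨x, h1, h2⟩
    exact ⟨h1.le, fun u hu => by rw [h2 u hu]; exact h1.cs_le (conj_mem_cs.2 hu), x, h2⟩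
  · rintro ⟨h1, h2, x, h3⟩
    refine ⟨x, ⟨trivial, _, principal_PLe hS h1, ?_⟩, h3⟩
    rw [cj_barS_principal (cs_Ce x Q)]
    refine principal_PLe hS ?_
    rw [← img_eq_cs h3]; exact Fusion.img_le_iff.2 h2

end Cfsg.Agent.S4681
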