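import Cfsg.Statements.S4682
import Cfsg.Agent.Lib.Block.PDict

set_option autoImplicit false
open Cfsg

namespace Cfsg.Agent.S4682

open Cfsg.Agent.Blk
open Cfsg.Agent.Char hiding cj cj_mul cj_inv_cj cj_cj_inv

/-- Fix a prime p and a maximal ideal M of the algebraic integers containing p, a p-block B of the finite group G with maximal Brauer pair (P, e), P abelian, and a Brauer pair (Q, f) ≤ (P, e). Let T_Q be the stabilizer of f in N_G(Q) and T_P the stabilizer of e in N_G(P). Then every element of T_Q is a product of an element of T_P and an element of C_G(Q); and the index of C_G(Q) in T_Q equals the index of T_P ∩ C_G(Q) in T_P ∩ N_G(Q). -/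
theorem result {G : Type*} [Group G] [Fintype G] (p : ℕ) [Fact p.Prime] (M : Ideal Cfsg.AlgInt) (hM : Cfsg.IsPModular p M) (B : Set (Cfsg.IrrCharacter G)) (P : Subgroup G) (e : Set (Cfsg.IrrCharacter (Subgroup.centralizer (P : Set G)))) (hmax : Cfsg.IsMaximalBrauerPair p M B P e) (hab : ∀ x ∈ P, ∀ y ∈ P, x * y = y * x) (Q : Subgroup G) (f : Set (Cfsg.IrrCharacter (Subgroup.centralizer (Q : Set G)))) (hQP : Q ≤ P) (hf : Cfsg.IsPBlock M f) (hle : Cfsg.SubpairLE p M Q f P e) (TQ : Subgroup G) (hTQ : ∀ y : G, y ∈ TQ ↔ y ∈ Subgroup.normalizer (Q : Set G) ∧ Cfsg.StabilizesBlock (Subgroup.centralizer (Q : Set G)) f y) (TP : Subgroup G) (hTP : ∀ y : G, y ∈ TP ↔ y ∈ Subgroup.normalizer (P : Set G) ∧ Cfsg.StabilizesBlock (Subgroup.centralizer (P : Set G)) e y) : (∀ x ∈ TQ, ∃ y ∈ TP, ∃ c ∈ Subgroup.centralizer (Q : Set G), x = y * c) ∧ ((Subgroup.centralizer (Q : Set G)).subgroupOf TQ).index = ((TP ⊓ Subgroup.centralizer (Q : Set G)).subgroupOf (TP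 ⊓ Subgroup.normalizer (Q : Set G))).index := by
  haveI : PMod M p := ⟨hM⟩
  have hm := hmax.isMP
  have h1 := hle.ple
  obtain rfl := hf.eq_stab hTQ
  obtain rfl := hmax.blocke.eq_stab hTP
  have hP : P ≤ Ce Q := fun x hx => mem_Ce.2 fun q hq => hab q (hQP hq) x hx
  have h2 := fun x hx => hm.exists_mul_of_le_Ce h1 hP (x := x) hx
  refine ⟨fun x hx => ?_, ?_⟩
  · obtain ⟨y, hy, c, hc, h3⟩ := h2 x hx
    exact ⟨y, hy, c, hc.2, h3⟩
  · change (Ce Q).relIndex _ = (_ ⊓ Ce Q).relIndex (_ ⊓ No Q)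
    rw [relIndex_eq_of_forall (h1.stab_le hm.bp) fun x hx => ?_]
    · rw [← Subgroup.inf_relIndex_left]
      conv_rhs => rw [← Subgroup.inf_relIndex_left]
      congr 1
      ext y
      simp only [Subgroup.mem_inf]
      tauto
    · obtain ⟨y, hy, c, hc, rfl⟩ := h2 x hx
      refine ⟨y, ⟨hy, ?_⟩, by simpa using hc.2⟩
      simpa using (No Q).mul_mem hx.1.2 ((No Q).inv_mem (Ce_le_No Q hc.2))

end Cfsg.Agent.S4682
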