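import Cfsg.Statements.S4683
import Cfsg.Agent.Lib.Block.Sect

set_option autoImplicit false
open Cfsg

namespace Cfsg.Agent.S4683

open Cfsg.Agent.Blk
open Cfsg.Agent.Char hiding cj cj_mul cj_inv_cj cj_cj_inv

/-- Fix a prime p and a maximal ideal M of the algebraic integers containing p, a p-block B of the finite group G, a p-element u and a p-block e of C = C_G(u) such that (⟨u⟩, e) is a Brauer pair of B (a Brauer element of B). For χ ∈ B let χ_u be the e-part of the class function c ↦ χ(u c) on C and χ_u' the e-part of c ↦ χ(u⁻¹ c). Then the sum over χ ∈ B and over the p-regular elements s of C of χ_u(s)·χ_u'(s⁻¹) equals the order of C times the p-regular rank of e (the number of irreducible Brauer characters of e). -/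
theorem result {G : Type*} [Group G] [Fintype G] (p : ℕ) [Fact p.Prime] (M : Ideal Cfsg.AlgInt) (hM : Cfsg.IsPModular p M) (B : Set (Cfsg.IrrCharacter G)) (u : G) (hu : ∃ k : ℕ, orderOf u = p ^ k) (e : Set (Cfsg.IrrCharacter (Subgroup.centralizer (Subgroup.zpowers u : Set G)))) (hBe : Cfsg.IsBrauerPairOf p M B (Subgroup.zpowers u) e) : ∑ᶠ χ ∈ B, ∑ᶠ s : Subgroup.centralizer (Subgroup.zpowers u : Set G), Cfsg.pRegularPart p (Cfsg.blockPart e (fun c : Subgroup.centralizer (Subgroup.zpowers u : Set G) => (χ : G → ℂ) (u * c))) s * Cfsg.blockPart e (fun c : Subgroup.centralizer (Subgroup.zpowers u : Set G) => (χ : G → ℂ) (u⁻¹ * c)) s⁻¹ = (Nat.card (Subgroup.centralizer (Subgroup.zpowers u : Set G)) : ℂ) * (Cfsg.blockRank p e : ℂ) := by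
  haveI : PMod M p := ⟨hM⟩
  obtain ⟨-, he, hB, h⟩ := isBrauerPairOf_iff.1 hBe
  clear hBe
  have key : ∀ (C : Subgroup G) (_ : C = Ce1 u) (e : Set (IrrCharacter C)), IsPBlock M e →
      Br (Subgroup.zpowers u) (bar M B) * barS M C e = barS M C e →
      ∑ᶠ χ ∈ B, ∑ᶠ s : C, pRegularPart p (blockPart e (fun c : C => (χ : G → ℂ) (u * c))) s *
        blockPart e (fun c : C => (χ : G → ℂ) (u⁻¹ * c)) s⁻¹ = (Nat.card C : ℂ) * (blockRank p e : ℂ) := by
    rintro C rfl e he h
    have := Fintype.ofFinite (Ce1 u)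
    rw [← ((isInducedBlock_Ce1_iff hu hB he).2 h).sum_classInner_loc hu, finsum_fs, Finset.mul_sum]
    refine Finset.sum_congr rfl fun χ _ => ?_
    rw [he.isUB.classInner_loc_loc χ.2.isClassFunction, ← Set.inter_self e, ← he.isUB.blockPart_loc,
      Set.inter_self, classInner_blockPart_comm, classInner, mul_inv_cancel_left₀ (card_ne_zero' _),
      finsum_eq_sum_of_fintype]
    refine Finset.sum_congr rfl fun s _ => ?_
    rw [pRegularPart_eq, ← blockPart_conj_inv]
    congr 2
    funext c
    simp only [Ru, Subgroup.coe_inv]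
    rw [← χ.2.isCharacter.apply_inv, mul_inv_rev, inv_inv, (commute_Ce1 c).inv_left.eq]
  exact key _ (Ce_zpowers u) e he h

end Cfsg.Agent.S4683
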