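import Cfsg.Statements.S4686
import Cfsg.Agent.Lib.Block.PDict

set_option autoImplicit false
open Cfsg

namespace Cfsg.Agent.S4686

open Cfsg.Agent.Blk
open Cfsg.Agent.Char hiding cj cj_mul cj_inv_cj cj_cj_inv

/-- Fix a prime p and a maximal ideal M of the algebraic integers containing p, a p-block B of the finite group G with maximal Brauer pair (P, e) and fusion system F on P. Then B is nilpotent (for every Brauer pair (Q, f) of B the stabilizer of f in N_G(Q) is C_G(Q) extended by a p-group) if and only if F is the inner fusion system of P: its maps from each subgroup of P are exactly the conjugations by elements of P. -/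
theorem result {G : Type*} [Group G] [Fintype G] (p : ℕ) [Fact p.Prime] (M : Ideal Cfsg.AlgInt) (hM : Cfsg.IsPModular p M) (B : Set (Cfsg.IrrCharacter G)) (P : Subgroup G) (e : Set (Cfsg.IrrCharacter (Subgroup.centralizer (P : Set G)))) (hmax : Cfsg.IsMaximalBrauerPair p M B P e) (F : Cfsg.FusionSystem P) (hF : Cfsg.IsBlockFusionSystemOn p M B P e F) : Cfsg.IsNilpotentBlock p M B ↔ ∀ Q : Subgroup G, F.Hom Q = (Cfsg.innerFusionSystem P).Hom Q := by
  haveI : PMod M p := ⟨hM⟩
  rw [isNilpotentBlock_iff, and_iff_right hmax.blockB, hmax.isMP.nilp_iff_inner, Fusion.hom_eq_iff]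
  constructor
  · intro h Q φ
    refine ⟨fun h1 => ?_, Fusion.le_iff_mor.1 (Fusion.inner_le F) Q φ⟩
    obtain ⟨x, h2, h3⟩ := (hF.isBFS _ _).1 h1
    obtain ⟨s, hs, h4⟩ := h Q x h2
    exact Fusion.mor_inner_iff.2 ⟨h2.le, s, hs, fun u hu => (h3 u hu).trans (h4 u hu)⟩
  · intro h Q x hx
    exact (Fusion.mor_inner_iff.1 ((h Q fun u => x * u * x⁻¹).1
      ((hF.isBFS _ _).2 ⟨x, hx, fun _ _ => rfl⟩))).2

end Cfsg.Agent.S4686
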