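import Cfsg.Statements.S4690
import Cfsg.Agent.Lib.Block.Nil

set_option autoImplicit false
open Cfsg

namespace Cfsg.Agent.S4690

open Cfsg.Agent.Blk
open Cfsg.Agent.Char hiding cj cj_mul cj_inv_cj cj_cj_inv

/-- Fix a prime p and a maximal ideal M of the algebraic integers containing p, and a nilpotent p-block B of the finite group G with defect group P. Then there is a bijection from B onto the irreducible characters of P carrying the height of each χ ∈ B to the exponent of p in the degree of its image. -/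
theorem result {G : Type*} [Group G] [Fintype G] (p : ℕ) [Fact p.Prime] (M : Ideal Cfsg.AlgInt) (hM : Cfsg.IsPModular p M) (B : Set (Cfsg.IrrCharacter G)) (hnil : Cfsg.IsNilpotentBlock p M B) (P : Subgroup G) (hP : Cfsg.IsDefectGroup p M B P) : ∃ Φ : B ≃ Cfsg.IrrCharacter P, ∀ χ : B, Cfsg.blockHeight p B ((χ : Cfsg.IrrCharacter G) : G → ℂ) = (Cfsg.charDegree ((Φ χ : Cfsg.IrrCharacter P) : P → ℂ)).factorization p := by
  haveI : PMod M p := ⟨hM⟩
  obtain ⟨hB, hn⟩ := isNilpotentBlock_iff.1 hnil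
  obtain ⟨e, h⟩ := hB.exists_mp (hB.isDefectGroup_iff.1 hP)
  obtain ⟨χ₀, h1, h0⟩ := exists_height_zero p hB.nonempty
  obtain ⟨Φ, hΦ⟩ := h.exists_equiv_nilp hn h1 h0
  refine ⟨Φ.symm, fun χ => ?_⟩
  obtain ⟨η, rfl⟩ := Φ.surjective χ
  rw [Equiv.symm_apply_apply]
  have h2 : charDegree (Φ η).1.1 = charDegree η.1 * charDegree χ₀.1 := by
    apply Nat.cast_injective (R := ℂ)
    rw [Nat.cast_mul, cast_deg, cast_deg, cast_deg, hΦ,
      h.st_apply_one (h.stable_nilp hn η.2.isClassFunction) (blockPart_irr_of_mem h1)]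
  have h3 := height_add_mnu (p := p) (Φ η).2
  rw [nu, h2, Nat.factorization_mul (charDegree_ne_zero η) (charDegree_ne_zero χ₀),
    ← (height_eq_zero_iff h1).1 h0] at h3
  exact Nat.add_right_cancel h3

end Cfsg.Agent.S4690
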