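import Cfsg.Statements.S4691
import Cfsg.Agent.Lib.Block.PDict
import Cfsg.Agent.Lib.Transfer.Alperin

set_option autoImplicit false
open Cfsg

namespace Cfsg.Agent.S4691

open Cfsg.Agent.Blk
open Cfsg.Agent.Char hiding cj cj_mul cj_inv_cj cj_cj_inv

/-- Fix a prime p and a maximal ideal M of the algebraic integers containing p. A finite group G has a normal p-complement if and only if its principal p-block is nilpotent. -/
theorem result {G : Type*} [Group G] [Fintype G] (p : ℕ) [Fact p.Prime] (M : Ideal Cfsg.AlgInt) (hM : Cfsg.IsPModular p M) : Cfsg.HasNormalPComplement p G ↔ Cfsg.IsNilpotentBlock p M (Cfsg.principalBlock M G) := by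
  haveI : PMod M p := ⟨hM⟩
  have hp := (Fact.out : p.Prime)
  rw [isNilpotentBlock_iff, and_iff_right isPBlock_principal, isNilp_principal_iff,
    ← Transfer.hasNPC_top]
  exact ⟨fun h Q hQ x hx hxp => Transfer.mem_centralizer_of_hasNPC h hQ le_top trivial hx
      (hp.coprime_iff_not_dvd.2 hxp).symm,
    fun h => Transfer.hasNPC_sub_of_forall fun Q _ hQ _ x _ hx hxp =>
      h Q hQ x hx (hp.coprime_iff_not_dvd.1 hxp.symm)⟩

end Cfsg.Agent.S4691
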