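import Cfsg.Statements.S4693
import Cfsg.Agent.Lib.Block.PDict

set_option autoImplicit false
open Cfsg

namespace Cfsg.Agent.S4693

open Cfsg.Agent.Blk
open Cfsg.Agent.Char hiding cj cj_mul cj_inv_cj cj_cj_inv

/-- Fix a prime p and a maximal ideal M of the algebraic integers containing p, a p-block B of the finite group G with maximal Brauer pair (P, e) and fusion system F on P, and a Brauer pair (Q, f) ≤ (P, e) with Q centric in F. Suppose every element of G normalizes Q and stabilizes f. Then the idempotent of B agrees with that of f modulo M at every element of G, and f is the idempotent of a nilpotent block of Q·C_G(Q): some p-block of Q·C_G(Q) has the idempotent coefficients of f and is nilpotent. -/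
theorem result {G : Type*} [Group G] [Fintype G] (p : ℕ) [Fact p.Prime] (M : Ideal Cfsg.AlgInt) (hM : Cfsg.IsPModular p M) (B : Set (Cfsg.IrrCharacter G)) (P : Subgroup G) (e : Set (Cfsg.IrrCharacter (Subgroup.centralizer (P : Set G)))) (hmax : Cfsg.IsMaximalBrauerPair p M B P e) (F : Cfsg.FusionSystem P) (hF : Cfsg.IsBlockFusionSystemOn p M B P e F) (Q : Subgroup G) (f : Set (Cfsg.IrrCharacter (Subgroup.centralizer (Q : Set G)))) (hQP : Q ≤ P) (hf : Cfsg.IsPBlock M f) (hle : Cfsg.SubpairLE p M Q f P e) (hcen : F.IsCentric Q) (hG : ∀ x : G, x ∈ Subgroup.normalizer (Q : Set G) ∧ Cfsg.StabilizesBlock (Subgroup.centralizer (Q : Set G)) f x) : (∀ g : G, Cfsg.MemLocalIdeal M (Cfsg.blockCoeff B g - Cfsg.subgroupBlockCoeff (Subgroup.centralizer (Q : Set G)) f g)) ∧ ∃ F' : Set (Cfsg.IrrCharacter ↥(Q ⊔ Subgroup.centralizer (Q : Set G))), Cfsg.IsPBlock M F' ∧ (∀ t : ↥(Q ⊔ Subgroup.centralizer (Q : Set G)), Cfsg.blockCoeff F' t = Cfsg.subgroupBlockCoeff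 (Subgroup.centralizer (Q : Set G)) f (t : G)) ∧ Cfsg.IsNilpotentBlock p M F' := by
  haveI : PMod M p := ⟨hM⟩
  have hm := hmax.isMP
  have h1 := hle.ple
  have hb := h1.left hm.bp
  have hB := hmax.blockB
  have h2 : ∀ x, x ∈ stab (⊤ ⊓ No Q) (barS M (Ce Q) f) := fun x => hf.mem_stab_iff.2 (hG x)
  have hQ : ⊤ ≤ No Q := fun x _ => (hG x).1
  have h3 : IsBlock ⊤ (barS M (Ce Q) f) :=
    hb.isBlock_of_inv le_top (le_inf le_rfl hQ) (mem_inv.2 fun x _ => (h2 x).2)
  have h4 : bar M B = barS M (Ce Q) f := by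
    have := hm.eq_of_PLe h1
    rw [hB.isBlock.Br_eq_self hb.pg le_top hQ] at this
    exact hB.isBlock.eq_of_mul_ne_zero h3 (this.symm ▸ h3.ne)
  refine ⟨fun g => ?_, ?_⟩
  · rw [(hf.isUB.forall_coeff_eq_iff_top hB.isUB).2 h4 g, sub_self]
    exact LI_zero
  · have h5 : IsBlock (Q ⊔ Ce Q) (barS M (Ce Q) f) := by simpa using hb.isBlock_sup
    obtain ⟨F', hF', h6, h7⟩ := exists_isPBlock_coeff hf.isUB le_sup_right h5
    refine ⟨F', hF', h7, isNilpotentBlock_iffS.2 ⟨hF', h6 ▸ isNilp_of_forall_le h5 hb.pg le_rfl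
      fun R hR hRp hne => ?_⟩⟩
    obtain ⟨x, -, -, h8⟩ := hm.exists_cs_PLe_le hb (hm.eq_of_PLe h1) hRp (le_inf le_top (le_top.trans hQ))
      (mem_inv.2 fun x _ => (h2 x).2) hne
    rw [← cs_le_cs_iff (x := x), mem_No.1 (hG x).1]
    intro y hy
    have h9 : y ∈ Q ⊔ Ce Q := by
      have := cs_mono x hR hy
      rwa [cs_sup, cs_Ce, mem_No.1 (hG x).1] at this
    obtain ⟨s, hs, c, hc, rfl⟩ := exists_mul_of_mem_sup ((le_No Q).trans (No_le_No_Ce Q)) h9
    refine Q.mul_mem hs (Fusion.IsCentric.cent_le hcen ⟨?_, hc⟩)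
    simpa using P.mul_mem (P.inv_mem (hQP hs)) (h8 hy)

end Cfsg.Agent.S4693
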