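import Cfsg.Statements.S4694
import Cfsg.Agent.Lib.Block.Cent

set_option autoImplicit false
open Cfsg

namespace Cfsg.Agent.S4694

open Cfsg.Agent.Blk
open Cfsg.Agent.Char hiding cj cj_mul cj_inv_cj cj_cj_inv

/-- Fix a prime p and a maximal ideal M of the algebraic integers containing p, a p-block B of the finite group G and a Brauer pair (Q, e) of B. Let T be the stabilizer of e in N_G(Q) and suppose that (Q, e) carries a weight: the block of T whose idempotent is that of e contains an irreducible character χ that is constant on the cosets of Q and whose degree has p-part equal to the p-part of the index of Q in T. Then Z(Q) is a defect group of e as a block of C_G(Q), and Q is the largest normal p-subgroup of T: every p-subgroup of T normalized by T lies in Q. -/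
theorem result {G : Type*} [Group G] [Fintype G] (p : ℕ) [Fact p.Prime] (M : Ideal Cfsg.AlgInt) (hM : Cfsg.IsPModular p M) (B : Set (Cfsg.IrrCharacter G)) (Q : Subgroup G) (e : Set (Cfsg.IrrCharacter (Subgroup.centralizer (Q : Set G)))) (hQe : Cfsg.IsBrauerPairOf p M B Q e) (T : Subgroup G) (hT : ∀ y : G, y ∈ T ↔ y ∈ Subgroup.normalizer (Q : Set G) ∧ Cfsg.StabilizesBlock (Subgroup.centralizer (Q : Set G)) e y) (F' : Set (Cfsg.IrrCharacter T)) (hF' : Cfsg.IsPBlock M F') (hF'e : ∀ t : T, Cfsg.blockCoeff F' t = Cfsg.subgroupBlockCoeff (Subgroup.centralizer (Q : Set G)) e (t : G)) (χ : Cfsg.IrrCharacter T) (hχ : χ ∈ F') (hχQ : ∀ q : G, q ∈ Q → ∀ t : T, ∀ t' : T, (t' : G) = q * (t : G) → (χ : T → ℂ) t' = (χ : T → ℂ) t) (hdeg : (Cfsg.charDegree (χ : T → ℂ)).factorization p + (Nat.card Q).factorization p = (Nat.card T).factorization p) : Cfsg.IsDefectGroup p M e ((Q ⊓ Subgroup.centralizer (Q : Set G)).subgroupOf (Subgroup.centralizer (Q : Set G))) ∧ ∀ R : Subgroup G, R ≤ T → IsPGroup p R → (∀ t ∈ T, t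 ∈ Subgroup.normalizer (R : Set G)) → R ≤ Q := by
  haveI : PMod M p := ⟨hM⟩
  obtain ⟨hB, he, hb, -⟩ := isBrauerPairOf_iff'.1 hQe
  have hT' := he.eq_stab hT
  have h1 : Q ⊔ Ce Q ≤ T := by
    have := hb.sup_le_stab
    rwa [top_inf_eq (Ce Q), ← hT'] at this
  have hTN : T ≤ No Q := hT'.le.trans ((stab_le _ _).trans inf_le_right)
  have hQT : Q ≤ T := le_sup_left.trans h1
  have h2 := (he.isUB.forall_coeff_eq_iff (le_sup_right.trans h1) hF'.isUB).1 hF'e
  have hker : Q.subgroupOf T ≤ charKer χ.1 := fun q hq => mem_charKer.2 fun x => hχQ q hq x _ rfl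
  constructor
  · let K := Q ⊔ Ce Q
    have hKN : T ≤ No K := hTN.trans ((le_inf le_rfl (No_le_No_Ce Q)).trans (No_sup_le _ _))
    have hN : (K.subgroupOf T).Normal := (Subgroup.normal_subgroupOf_iff_le_normalizer h1).2 hKN
    have := Fintype.ofFinite (K.subgroupOf T)
    have := Fintype.ofFinite K
    obtain ⟨θ, hθ, h3⟩ := (χ.2.isCharacter.res_le h1).exists_irr_constituent fun h =>
      χ.2.apply_one_ne_zero (congrFun h 1)
    have h4 := blk_mul_ne_zeroS (M := M) h1 (θ := ⟨θ, hθ⟩) h3
    have hK : IsBlock K (barS M (Ce Q) e) := by simpa only [top_inf_eq] using hb.isBlock_sup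
    rw [hF'.es_blk_eq hχ, h2] at h4
    have h5 := hK.eq_of_mul_ne_zero (isBlock_es_blk _) h4
    rw [← classInner_subgroupOf h1] at h3
    obtain ⟨n, hn, h6⟩ := χ.2.exists_degree_eq_mul ((isIrr_subgroupOf_iff h1).2 hθ) h3
    have hsup := subgroupOf_sup_Ce (le_sup_left : Q ≤ K) le_rfl
    have := normal_of_sup_Ce hsup
    have hpg : IsPGroup p (Q.subgroupOf K) :=
      hb.pg.of_equiv (Subgroup.subgroupOfEquivOfLe le_sup_left).symm
    rw [classInner_subgroupOf h1 (fun n => χ.1 ⟨n, h1 n.2⟩) θ] at h3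
    have h7 := isDef_of_canon (M := M) (θ := ⟨θ, hθ⟩) hpg (fun g => mem_Ce_of_preg hpg hsup)
      (le_trans (fun q hq => mem_charKer.2 fun x => hχQ q hq _ _ rfl)
        ((χ.2.isCharacter.res_le h1).charKer_le_of_constituent hθ h3)) ?_
    · rw [← isDef_es_iff, ← h5, Subgroup.map_subgroupOf_eq_of_le le_sup_left] at h7
      rw [he.isDefectGroup_subgroupOf_iff inf_le_right]
      exact he.isBlockS.knorr_stable le_sup_right ((h1.trans hTN).trans (No_le_No_Ce Q)) hK
        (by rw [hK.mul_self]; exact hK.ne) hK.inv h7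
    change χ.1 1 = n * θ 1 at h6
    rw [← hθ.isCharacter.cast_charDegree, ← Nat.cast_mul] at h6
    have hn0 : n ≠ 0 := ne_zero_of_dvd_ne_zero Subgroup.index_ne_zero_of_finite hn
    rw [charDegree_of_eq h6, Nat.factorization_mul hn0 (charDegree_ne_zero ⟨θ, hθ⟩),
      Finsupp.add_apply] at hdeg
    have h8 := (Nat.factorization_le_iff_dvd hn0 Subgroup.index_ne_zero_of_finite).2 hn p
    have h9 := factorization_index_add p (K.subgroupOf T)
    have h10 := factorization_index_add p (Q.subgroupOf K)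
    rw [Nat.card_congr (Subgroup.subgroupOfEquivOfLe h1).toEquiv] at h9
    rw [Nat.card_congr (Subgroup.subgroupOfEquivOfLe le_sup_left).toEquiv] at h10
    change _ ≤ (charDegree θ).factorization p
    change n.factorization p + (charDegree θ).factorization p + _ = _ at hdeg
    simp only [K] at *
    omega
  · intro R hRT hR hN
    have : (Q.subgroupOf T).Normal := (Subgroup.normal_subgroupOf_iff_le_normalizer hQT).2 hTN
    have : (R.subgroupOf T).Normal := (Subgroup.normal_subgroupOf_iff_le_normalizer hRT).2 hN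
    have hφ := QuotientGroup.mk'_surjective (Q.subgroupOf T)
    obtain ⟨ξ, rfl⟩ := exists_infl_eq hφ ((QuotientGroup.ker_mk' _).le.trans hker)
    have hb := isPBlock_blockOf (M := M) ξ
    have h10 := factorization_index_add p (Q.subgroupOf T)
    rw [Nat.card_congr (Subgroup.subgroupOfEquivOfLe hQT).toEquiv] at h10
    rw [charDegree_infl] at hdeg
    have h3 := hb.defect_eq_zero_iff_isDef.1 ((hb.defect_eq_zero_iff (mem_blockOf_self ξ)).2
      (by change (charDegree ξ.1).factorization p = (Q.subgroupOf T).index.factorization p; omega))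
    have : ((R.subgroupOf T).map (QuotientGroup.mk' (Q.subgroupOf T))).Normal :=
      Subgroup.Normal.map inferInstance _ hφ
    have h4 := hb.isBlock.le_of_isDef h3 ((hR.of_equiv (Subgroup.subgroupOfEquivOfLe hRT).symm).map
      (QuotientGroup.mk' (Q.subgroupOf T))) le_top (top_le_No _)
    rw [le_bot_iff, Subgroup.map_eq_bot_iff, QuotientGroup.ker_mk'] at h4
    exact fun x hx => @h4 ⟨x, hRT hx⟩ hx

end Cfsg.Agent.S4694
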