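import Cfsg.Statements.S4696
import Cfsg.Agent.Lib.Block.Dade

set_option autoImplicit false
open Cfsg

namespace Cfsg.Agent.S4696

open Cfsg.Agent.Blk
open Cfsg.Agent.Char hiding cj cj_mul cj_inv_cj cj_cj_inv
open scoped Classical

/-- Let p be a prime, M a maximal ideal of the algebraic integers containing p, and B a p-block of the finite group G whose defect group D is cyclic of order p^a with a ≥ 1. Let C = C_G(D), let b be a block of C inducing B, let T be the stabilizer of b in N_G(D) (the elements g of N_G(D) such that the g-conjugate of every member of b is again in b), and let e be the index of C in T (the inertial index of B). Then e divides p − 1, every irreducible character in B has height zero, and B is the disjoint union of a set X of e characters and a set Y of (p^a − 1)/e characters, the members of Y agreeing on p-regular elements, for which there are signs δ_χ =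 ±1 (χ ∈ X) and δ₀ = ±1 such that: for every ψ ∈ Y and every p-regular g, δ₀ ψ(g) + Σ_{χ ∈ X} δ_χ χ(g) = 0; for all χ, χ' ∈ X the integers δ_χ χ(1) and δ_χ' χ'(1) are congruent modulo p^a; and for ψ ∈ Y and χ ∈ X, ψ(1) ≡ −e δ₀ δ_χ χ(1) modulo p^a. -/
theorem result {G : Type*} [Group G] [Finite G] (p : ℕ) [Fact p.Prime] (M : Ideal Cfsg.AlgInt) (hM : Cfsg.IsPModular p M) (D : Subgroup G) (hD : IsCyclic D) (a : ℕ) (ha : 1 ≤ a) (hDa : Nat.card D = p ^ a) (B : Set (Cfsg.IrrCharacter G)) (hB : Cfsg.IsPBlock M B) (hBD : Cfsg.IsDefectGroup p M B D) (b : Set (Cfsg.IrrCharacter (Subgroup.centralizer (D : Set G)))) (hind : Cfsg.IsInducedBlock M (Subgroup.centralizer (D : Set G)) b B) (T : Subgroup G) (hT : ∀ g : G, g ∈ T ↔ (g ∈ Subgroup.normalizer (D : Set G) ∧ ∀ θ ∈ b, ∀ θ' : Cfsg.IrrCharacter (Subgroup.centralizer (D : Set G)), (∀ h h' : Subgroup.centralizer (D : Set G), (h' : G) = g * h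 * g⁻¹ → (θ' : Subgroup.centralizer (D : Set G) → ℂ) h' = (θ : Subgroup.centralizer (D : Set G) → ℂ) h) → θ' ∈ b)) (e : ℕ) (he : (Subgroup.centralizer (D : Set G)).relIndex T = e) : e ∣ p - 1 ∧ (∀ χ ∈ B, Cfsg.blockHeight p B (χ : G → ℂ) = 0) ∧ ∃ X Y : Set (Cfsg.IrrCharacter G), B = X ∪ Y ∧ Disjoint X Y ∧ Nat.card X = e ∧ Nat.card Y = (p ^ a - 1) / e ∧ (∀ ψ ∈ Y, ∀ ψ' ∈ Y, ∀ g : G, ¬ p ∣ orderOf g → (ψ : G → ℂ) g = (ψ' : G → ℂ) g) ∧ ∃ (δ : Cfsg.IrrCharacter G → ℤ) (δ₀ : ℤ), (∀ χ ∈ X, δ χ = 1 ∨ δ χ = -1) ∧ (δ₀ = 1 ∨ δ₀ = -1) ∧ (∀ ψ ∈ Y, ∀ g : G, ¬ p ∣ orderOf g → (δ₀ : ℂ) * (ψ : G → ℂ) g + ∑ᶠ χ ∈ X, (δ χ : ℂ) * (χ : G → ℂ) g = 0) ∧ (∀ χ ∈ X, ∀ χ' ∈ X, δ χ * (Cfsg.charDegree (χ : G → ℂ) : ℤ) ≡ δ χ' * (Cfsg.charDegree (χ' : G → ℂ) : ℤ) [ZMOD (p : ℤ) ^ a]) ∧ (∀ ψ ∈ Y, ∀ χ ∈ X, (Cfsg.charDegree (ψ : G → ℂ) : ℤ) ≡ -((e : ℤ) * δ₀ * δ χ * (Cfsg.charDegree (χ : G → ℂ) : ℤ)) [ZMOD (p : ℤ) ^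 a]) := by
  haveI : PMod M p := ⟨hM⟩
  obtain rfl := hind.1.eq_stab' hT
  have := Fintype.ofFinite D
  have hm := mp_of_ind hBD hind
  have h1 := ne_bot_of_card ha hDa
  rw [← card_autE] at he
  subst he
  obtain ⟨χ, hχ⟩ := hB.nonempty
  obtain ⟨D', ε, δ, ζ, c, h, -, -⟩ := hm.exists_dd hD h1 hχ
  refine ⟨hm.card_autE_dvd hD h1, fun χ hχ => h.height hχ, _, _, h.union,
    Finset.disjoint_coe.2 Finset.sdiff_disjoint, (card_coe_fs _).trans h.card,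
    by rw [card_coe_fs, h.card_exc, hDa], fun ψ h2 ψ' h3 g hg => h.apply_exc h2 h3 hg, c, -δ,
    fun χ hχ => ?_, by rcases h.exc.sign with h | h <;> simp [h], fun ψ h2 g hg => ?_,
    fun χ h2 χ' h3 => ?_, fun ψ h2 χ h3 => ?_⟩
  · simp only [Finset.coe_sdiff, coe_fs] at hχ
    exact h.sgn χ hχ.1 hχ.2
  · rw [finsum_mem_coe_finset, ← h.apply_rel h2 hg]; simp
  · simp only [Finset.coe_sdiff, coe_fs] at h2 h3
    exact (Int.modEq_iff_dvd.2 ((h.pow_dvd hDa).trans (h.nexc_cong h3.1 h3.2 h2.1 h2.2)))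
  · simp only [Finset.coe_sdiff, coe_fs] at h3
    refine (Int.modEq_iff_dvd.2 ((h.pow_dvd hDa).trans ?_)).symm
    simpa using h.exc_cong h2 h3.1 h3.2

end Cfsg.Agent.S4696
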