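import Cfsg.Statements.S4697
import Cfsg.Agent.Lib.Block.Bound

set_option autoImplicit false
open Cfsg

namespace Cfsg.Agent.S4697

open Cfsg.Agent.Blk
open Cfsg.Agent.Char hiding cj cj_mul cj_inv_cj cj_cj_inv

/-- Let p be a prime, M a maximal ideal of the algebraic integers containing p, and B a p-block of the finite group G with an abelian defect group D of order p^d. If D has rank 2 (its least number of generators is 2) then B contains at most p^d irreducible characters; if D has rank 3 then the number k of irreducible characters in B satisfies k^3 ≤ p^(5d). -/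
theorem result {G : Type*} [Group G] [Finite G] (p : ℕ) [Fact p.Prime] (M : Ideal Cfsg.AlgInt) (hM : Cfsg.IsPModular p M) (B : Set (Cfsg.IrrCharacter G)) (hB : Cfsg.IsPBlock M B) (D : Subgroup G) (hBD : Cfsg.IsDefectGroup p M B D) (hab : IsMulCommutative D) (d : ℕ) (hDd : Nat.card D = p ^ d) : (Group.rank D = 2 → Nat.card B ≤ p ^ d) ∧ (Group.rank D = 3 → Nat.card B ^ 3 ≤ p ^ (5 * d)) := by
  haveI : PMod M p := ⟨hM⟩
  classical
  have hD := hB.isDefectGroup_iff.1 hBD
  have hc : D ≤ Ce D := fun x hx => mem_Ce.2 fun y hy =>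
    congrArg Subtype.val (hab.is_comm.comm (⟨y, hy⟩ : D) ⟨x, hx⟩)
  obtain ⟨S, hS, hS'⟩ := Group.rank_spec D
  rw [card_fs]
  refine ⟨fun h => ?_, fun h => ?_⟩
  · obtain ⟨x, y, -, rfl⟩ := Finset.card_eq_two.1 (hS.trans h)
    rw [← hDd]
    refine hB.card_le_of_cyclic hD ⟨x.2, hc x.2⟩ y.2 fun z hz => ?_
    obtain ⟨i, j, h1⟩ := exists_zpow_of_mem_closure (x := x) (y := y) (z := ⟨z, hz⟩)
      (hab.is_comm.comm _ _) (by rw [← Finset.coe_pair, hS']; trivial)
    exact ⟨i, j, congrArg Subtype.val h1⟩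
  obtain ⟨x, hx, h1⟩ := S.exists_max_image orderOf (Finset.card_pos.1 (by omega))
  obtain ⟨y, z, -, h2⟩ := Finset.card_eq_two.1
    ((Finset.card_erase_of_mem hx).trans (by rw [hS, h]))
  letI : CommGroup D := { (inferInstance : Group D) with mul_comm := hab.is_comm.comm }
  have h3 : ∀ w : D, ∃ i j k : ℤ, w = x ^ i * y ^ j * z ^ k := fun w => by
    have h4 : w ∈ Subgroup.closure ({x} ∪ {y, z} : Set D) := by
      rw [← Finset.insert_erase hx, h2] at hS'
      simp only [Finset.coe_insert, Finset.coe_singleton] at hS'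
      rw [Set.singleton_union, hS']; trivial
    rw [Subgroup.closure_union, Subgroup.mem_sup] at h4
    obtain ⟨a, ha, c, hc, rfl⟩ := h4
    obtain ⟨i, rfl⟩ := Subgroup.mem_closure_singleton.1 ha
    obtain ⟨j, k, rfl⟩ := exists_zpow_of_mem_closure (mul_comm y z) hc
    exact ⟨i, j, k, (mul_assoc _ _ _).symm⟩
  have h4 := hB.card_mul_le_of_three hD hc x.2 y.2 z.2 fun w hw => by
    obtain ⟨i, j, k, h5⟩ := h3 ⟨w, hw⟩
    exact ⟨i, j, k, congrArg Subtype.val h5⟩
  have h5 : ∀ w ∈ S, w ^ orderOf x = 1 := fun w hw => by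
    obtain ⟨i, hi⟩ := (IsPGroup.iff_orderOf.1 hD.pg) w
    obtain ⟨j, hj⟩ := (IsPGroup.iff_orderOf.1 hD.pg) x
    have h6 := h1 w hw
    rw [hi, hj, Nat.pow_le_pow_iff_right (Fact.out : p.Prime).one_lt] at h6
    rw [← orderOf_dvd_iff_pow_eq_one, hi, hj]
    exact pow_dvd_pow _ h6
  have h6 := card_dvd_exponent_pow_rank' D (n := orderOf x) fun w => by
    obtain ⟨i, j, k, rfl⟩ := h3 w
    have h7 : ∀ (v : D) (i : ℤ), v ∈ S → (v ^ i) ^ orderOf x = 1 := fun v i hv => by
      rw [← zpow_natCast, ← zpow_mul, mul_comm, zpow_mul, zpow_natCast, h5 v hv, one_zpow]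
    rw [mul_pow, mul_pow, h7 x i hx, h7 y j (Finset.mem_of_mem_erase (by rw [h2]; simp)),
      h7 z k (Finset.mem_of_mem_erase (by rw [h2]; simp)), one_mul, one_mul]
  rw [Subgroup.orderOf_coe, hDd] at h4
  rw [h, hDd] at h6
  have h7 := Nat.le_of_dvd (pow_pos (orderOf_pos x) _) h6
  refine Nat.le_of_mul_le_mul_right ?_ (pow_pos (Fact.out : p.Prime).pos d)
  calc _ ≤ ((fs B).card * orderOf x) ^ 3 := by rw [mul_pow]; exact Nat.mul_le_mul_left _ h7
    _ ≤ ((p ^ d) ^ 2) ^ 3 := Nat.pow_le_pow_left h4 _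
    _ = _ := by ring

end Cfsg.Agent.S4697
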