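import Cfsg.Statements.S4702
import Mathlib
import Cfsg.Agent.Lib.Perm.Br12

set_option autoImplicit false
open Cfsg

namespace Cfsg.Agent.S4702



/-- Let G be a triply transitive permutation group on a finite set of odd size m ≥ 3 in which only the identity fixes three or more points. Then m = 2^a + 1 for some a ≥ 1 and G is isomorphic to SL(2, 2^a). -/
theorem result {α : Type*} [Fintype α] [DecidableEq α] (hm : 3 ≤ Fintype.card α) (hodd : Odd (Fintype.card α)) (G : Subgroup (Equiv.Perm α)) (h3 : MulAction.IsMultiplyPretransitive G α 3) (hfix : ∀ g : G, 3 ≤ Nat.card (MulAction.fixedBy α g) → g = 1) : ∃ a : ℕ, 1 ≤ a ∧ Fintype.card α = 2 ^ a + 1 ∧ ∃ (F : Type) (_ : Field F) (_ : Fintype F), Fintype.card F = 2 ^ a ∧ Nonempty (G ≃* Matrix.SpecialLinearGroup (Fin 2) F) := by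
  open Perm.Br in
  have hs : ∀ x : Fin 3 ↪ α, MulAction.stabilizer G x = ⊥ := fun x => eq_bot_iff.2 fun g hg =>
    hfix g ((Nat.card_fin 3).ge.trans (Nat.card_le_card_of_injective (fun i => (⟨x i, (Perm.mem_stab_emb x _).1 hg i⟩ :
      MulAction.fixedBy α g)) fun i j e => x.injective (congrArg Subtype.val e)))
  rcases hm.eq_or_lt with h | h
  · obtain ⟨F, _, _, h1, ⟨e⟩⟩ := Zass.small_pgl G h3 (Or.inl rfl) h.symm
    have h2 := two_eq_zero (m := 1) h1
    exact ⟨1, le_rfl, h.symm, F, _, _, h1, ⟨(e.trans (Subgroup.topEquiv.symm.trans ((MulEquiv.subgroupCongr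
      (Perm.GL2.PS_eq_top h2).symm).trans Perm.GL2.psEquiv.symm))).trans (Perm.GL2.toPEquiv h2).symm⟩⟩
  · rw [← Nat.card_eq_fintype_card] at h hodd ⊢
    obtain ⟨a, F, _, _, h1, h2⟩ := sl_of_sharp h3 hs (by obtain ⟨k, hk⟩ := hodd; omega) hodd
    exact ⟨a, Nat.pos_of_ne_zero (by rintro rfl; omega), h1, F, _, _, h2⟩

end Cfsg.Agent.S4702
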