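import Cfsg.Statements.S4706
import Mathlib
import Cfsg.Agent.Lib.Perm.Br12

set_option autoImplicit false
open Cfsg

namespace Cfsg.Agent.S4706



/-- Let p > 2 be a prime and G a permutation group on p letters whose Sylow p-subgroup P has normalizer of order 2p. Then either P is normal in G, or p − 1 = 2^a for some a and G is isomorphic to SL(2, 2^a). -/
theorem result {α : Type*} [Fintype α] [DecidableEq α] {p : ℕ} [Fact p.Prime] (hp : 2 < p) (hα : Fintype.card α = p) (G : Subgroup (Equiv.Perm α)) (P : Sylow p G) (hN : Nat.card (Subgroup.normalizer ((P : Subgroup G) : Set G)) = 2 * p) : (P : Subgroup G).Normal ∨ ∃ (a : ℕ) (F : Type) (_ : Field F) (_ : Fintype F), p = 2 ^ a + 1 ∧ Fintype.card F = 2 ^ a ∧ Nonempty (G ≃* Matrix.SpecialLinearGroup (Fin 2) F) := by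
  open Perm.Br in
  classical
  have hα' := Nat.card_eq_fintype_card.trans hα
  refine or_iff_not_imp_left.2 fun hn => ?_
  have h1 : p ∣ Nat.card G := by
    by_contra h1
    obtain ⟨k, hk⟩ := P.2.exists_card_eq
    rcases k with _ | k
    · exact hn (Subgroup.card_eq_one.1 hk ▸ inferInstance)
    · exact h1 ((dvd_pow_self p k.succ_ne_zero).trans (hk ▸ Subgroup.card_subgroup_dvd_card _))
  have hP := card_syl_prime hα' P h1
  have : MulAction.IsPretransitive G α := ⟨fun a b => (trans_of_card hα' hP a b).imp fun _ h => h.2⟩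
  have := simple_of_prime hα' P hn (by
    have h2 := Solv.card_mul_relIndex (P : Subgroup G).le_normalizer
    rw [hP, hN, mul_comm] at h2
    exact Nat.eq_of_mul_eq_mul_right (by omega) h2 ▸ Nat.prime_two)
  exact sl_of_two hα' (perf_of_simple fun h => hn ⟨fun n hn g => by rwa [h.1.1 g, mul_inv_cancel_right]⟩) P hP hN

end Cfsg.Agent.S4706
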