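import Cfsg.Statements.S4707
import Mathlib
import Cfsg.Agent.Lib.Perm.Br13
import Cfsg.Agent.S0494

set_option autoImplicit false
open Cfsg

namespace Cfsg.Agent.S4707

open Subgroup MulAction Cfsg.Agent.Perm Cfsg.Agent.Perm.Br Cfsg.Agent.Char
open scoped _root_.Classical Pointwise

attribute [-instance] Fintype.decidablePiFintype

theorem simple_of {G : Type*} [Group G] [Finite G] {p : ℕ} [hp : Fact p.Prime] (P : Sylow p G)
    (hP : Nat.card P = p) (hN : Nat.card (normalizer ((P : Subgroup G) : Set G)) = 2 * p)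
    (h : ∀ M : Subgroup G, M.Normal → M ≠ ⊥ → 2 * p ∣ Nat.card M) : IsSimpleGroup G := by
  have : Nontrivial G := by
    by_contra h
    have := not_nontrivial_iff_subsingleton.1 h
    have := hp.out.pos
    rw [Nat.card_unique] at hN
    omega
  refine ⟨fun M hM => or_iff_not_imp_left.2 fun h0 => ?_⟩
  have h1 : (P : Subgroup G) ≤ M := by
    obtain ⟨⟨x, hx⟩, h3⟩ := exists_prime_orderOf_dvd_card' p ((Dvd.intro_left _ rfl).trans (h M hM h0))
    replace h3 : orderOf x = p := (Subgroup.orderOf_coe _).trans h3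
    obtain ⟨Q, hQ⟩ := (IsPGroup.of_card (G := zpowers x) (p := p) (n := 1) (by
      rw [Nat.card_zpowers, h3, pow_one])).exists_le_sylow
    obtain ⟨c, rfl⟩ := exists_smul_eq G Q P
    rw [← zpowers_eq hp.out hP ((conj_mem_smul Q c x).2 (hQ (mem_zpowers x))) (fun e => by
      rw [show x = 1 by simpa using e, orderOf_one] at h3; exact hp.out.one_lt.ne h3)]
    exact zpowers_le.2 (Normal.conj_mem ‹_› x hx c)
  have h2 := P.normalizer_sup_eq_top' h1
  have h3 := relIndex_mul_relIndex (P : Subgroup G) (M ⊓ normalizer ((P : Subgroup G) : Set G)) _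
    (le_inf h1 le_normalizer) inf_le_right
  have ht := Solv.card_mul_relIndex (P : Subgroup G).le_normalizer
  rw [hP, hN, mul_comm] at ht
  rw [Nat.eq_of_mul_eq_mul_right hp.out.pos ht] at h3
  rcases (Nat.dvd_prime Nat.prime_two).1 (Dvd.intro _ h3) with h4 | h4
  · have h5 : normalizer ((P.subtype h1 : Subgroup M) : Set M) ≤ centralizer ((P.subtype h1 : Subgroup M) : Set M) :=
      fun n hn y hy => Subtype.ext (comm_of_card hp.out hP hy
        (relIndex_eq_one.1 h4 ⟨n.2, by rwa [P.coe_subtype, ← subgroupOf_normalizer_eq h1] at hn⟩))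
    have h6 := MonoidHom.ker_transferSylow_isComplement' _ h5
    have h7 : Nat.card (P.subtype h1) = p := (Nat.card_congr (subgroupOfEquivOfLe h1).toEquiv).trans hP
    have h8 : ¬ p ∣ Nat.card (MonoidHom.transferSylow _ h5).ker := h6.index_eq_card ▸ (P.subtype h1).not_dvd_index
    generalize MonoidHom.transferSylow _ h5 = f at h6 h8
    by_cases h9 : f.ker.map M.subtype = ⊥
    · rw [map_eq_bot_iff_of_injective _ M.subtype_injective] at h9
      rw [h9, isComplement'_bot_left] at h6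
      have := Nat.le_of_dvd Nat.card_pos (h M hM h0)
      rw [h6, card_top] at h7
      have := hp.out.pos
      omega
    refine (h8 (((Dvd.intro_left _ rfl).trans (h _ ⟨?_⟩ h9)).trans (card_map_of_injective M.subtype_injective).dvd)).elim
    rintro _ ⟨x, hx, rfl⟩ g
    refine ⟨⟨_, hM.conj_mem _ x.2 g⟩, orderOf_eq_one_iff.1 (Nat.eq_one_of_dvd_coprimes
      ((hp.out.coprime_iff_not_dvd).2 h8) ((_root_.orderOf_dvd_natCard _).trans h7.dvd) ((orderOf_map_dvd _ _).trans ?_)), rfl⟩
    rw [← orderOf_coe, ← SemiconjBy.orderOf_eq g (show SemiconjBy g (x : G) (g * x * g⁻¹) by simp [SemiconjBy]),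
      orderOf_coe]
    exact f.ker.orderOf_dvd_natCard hx
  · rw [h4, mul_right_eq_self₀, relIndex_eq_one] at h3
    rw [← h2]
    exact (sup_eq_right.2 ((h3.resolve_right two_ne_zero).trans inf_le_left)).symm

theorem arith {q k l h s t : ℕ} (hq : ∃ b, q = 2 ^ (b + 1)) (h1 : h = q * (2 * q - 1)) (h2 : k + l = 4 * q + 1)
    (h3 : k * s = h) (h4 : l * t = h) (h5 : Odd k) (h6 : Odd t) : q = 2 := by
  obtain ⟨b, hb⟩ := hq
  have h7 : k ∣ 2 * q - 1 := (hb ▸ (Nat.coprime_two_right.2 h5).pow_right _).dvd_of_dvd_mul_left ⟨s, h1 ▸ h3.symm⟩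
  obtain ⟨j, rfl⟩ : q ∣ l := (hb ▸ (Nat.coprime_two_left.2 h6).pow_left _).dvd_of_dvd_mul_right ⟨_, h4.trans h1⟩
  have h8 : 2 ≤ q := by rw [hb, pow_succ]; have := Nat.one_le_two_pow (n := b); omega
  have h9 : j * t = 2 * q - 1 := Nat.eq_of_mul_eq_mul_left (show 0 < q by omega) (by rw [← mul_assoc, h4, h1])
  have h10 := Nat.le_of_dvd (by omega) h7
  have := h5.pos
  have h11 : j ≠ 4 := by rintro rfl; omega
  obtain rfl : j = 3 := by
    have : 2 < j := by by_contra; have := Nat.mul_le_mul_left q (show j ≤ 2 by omega); omega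
    have : j < 5 := by by_contra; nlinarith
    omega
  obtain rfl : k = q + 1 := by omega
  have := Nat.le_of_dvd (by norm_num) ((Nat.dvd_add_right h7).1 (show q + 1 ∣ 2 * q - 1 + 3 from ⟨2, by omega⟩))
  omega

theorem arith2 {p d c γ w j : ℤ} (hp : 3 < p) (hd : d = 1 ∨ d = -1) (k3 : 0 ≤ c) (k2 : 0 ≤ γ) (k1 : 0 ≤ w)
    (h : 2 ≤ p * j + d) (c3 : 2 * p = 1 + c * (p * j + d) + (p * j + d + d) * γ + p * w)
    (c4 : 2 * p = p + c * (p * j + d + (p - 1) * d) + (p * j + d + d - d * 2) * γ + p * w) :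
    d = -1 ∧ c = 1 ∧ γ = 0 ∧ j + w = 2 := by
  have k5 : 1 ≤ j := by
    by_contra
    have : p * j ≤ 0 := mul_nonpos_of_nonneg_of_nonpos (by omega) (by omega)
    omega
  rcases hd with rfl | rfl
  · have k4 : 1 = c * (j + 1) + j * γ + w := mul_left_cancel₀ (a := p) (by omega) (by linear_combination c4)
    obtain rfl : c = 0 := by nlinarith
    have k7 : γ ≤ 1 := by nlinarith
    have k8 : p - 1 = 2 * γ := by linear_combination c3 - c4
    omega
  · have k4 : 1 = c * (j - 1) + j * γ + w := mul_left_cancel₀ (a := p) (by omega) (by linear_combination c4)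
    have k7 : γ ≤ 1 := by nlinarith
    have k8 : (c - 1) * (p - 1) = 2 * γ := by linear_combination c4 - c3
    obtain rfl : c = 1 := by
      have : 0 ≤ c - 1 := by by_contra; nlinarith
      have : c - 1 ≤ 0 := by by_contra; nlinarith
      omega
    obtain rfl : γ = 0 := by omega
    exact ⟨rfl, rfl, rfl, by omega⟩

/-- Let p > 3 be a prime and G a primitive permutation group of degree 2p that is not doubly transitive. If a Sylow p-subgroup of G has normalizer of order 2p, then p = 5 and G is isomorphic to the alternating group of degree 5. -/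
theorem result {α : Type*} [Fintype α] [DecidableEq α] {p : ℕ} [Fact p.Prime] (hp : 3 < p) (hα : Fintype.card α = 2 * p) (G : Subgroup (Equiv.Perm α)) (hprim : MulAction.IsPreprimitive G α) (hnot2 : ¬ MulAction.IsMultiplyPretransitive G α 2) (P : Sylow p G) (hN : Nat.card (Subgroup.normalizer ((P : Subgroup G) : Set G)) = 2 * p) : p = 5 ∧ Nonempty (G ≃* alternatingGroup (Fin 5)) := by
  have hpp : p.Prime := Fact.out
  have := Fintype.ofFinite G
  have hα' := Nat.card_eq_fintype_card.trans hα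
  obtain ⟨a⟩ : Nonempty α := Fintype.card_pos_iff.1 (by omega)
  have h0 : ∀ M : Subgroup G, M.Normal → M ≠ ⊥ → 2 * p ∣ Nat.card M := fun M _ h => by
    have := normal_trans_of_prim (α := α) M h
    exact ⟨_, hα' ▸ card_eq_mul_stab (G := M) a⟩
  have hG := card_eq_mul_stab (G := G) a
  rw [hα'] at hG
  have hP : Nat.card P = p := by
    obtain ⟨k, hk0, hk⟩ := P.2.nontrivial_iff_card.1 ((P : Subgroup G).nontrivial_iff_ne_bot.2
      (P.ne_bot_of_dvd_card ⟨2 * Nat.card (stabilizer G a), by rw [hG]; ring⟩))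
    have h2 := card_dvd_of_le (P : Subgroup G).le_normalizer
    rw [hN, hk] at h2
    rw [hk, le_antisymm ((Nat.pow_dvd_pow_iff_le_right hpp.one_lt).1 ((((Nat.coprime_primes hpp Nat.prime_two).2
      (by omega)).pow_left k).dvd_of_dvd_mul_left (by rwa [pow_one]))) hk0, pow_one]
  have := simple_of P hP hN h0
  have hnc : ¬ IsMulCommutative G := noncomm_of_card fun h => by
    rw [hG, mul_assoc] at h
    exact Nat.not_prime_mul (by norm_num) (by have := Nat.card_pos (α := stabilizer G a); nlinarith) h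
  have h1 := Solv.card_mul_relIndex (P : Subgroup G).le_normalizer
  rw [hP, hN, mul_comm] at h1
  have hC : centralizer ((P : Subgroup G) : Set G) = P := by
    have h2 : (P : Subgroup G) ≤ centralizer ((P : Subgroup G) : Set G) := fun _ ha _ hb => comm_of_card hpp hP hb ha
    have h3 := relIndex_mul_relIndex _ _ _ h2 (centralizer_le_normalizer _)
    rw [Nat.eq_of_mul_eq_mul_right hpp.pos h1] at h3
    rcases (Nat.dvd_prime Nat.prime_two).1 (Dvd.intro _ h3) with h4 | h4
    · exact le_antisymm (relIndex_eq_one.1 h4) h2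
    · rw [h4, mul_right_eq_self₀, relIndex_eq_one] at h3
      exact (not_burnside hnc P (hP ▸ card_subgroup_dvd_card _) (h3.resolve_right two_ne_zero)).elim
  have hsr : ∀ b : α, ∀ x ∈ (P : Subgroup G), x • b = b → x = 1 := fun b x hx h => by
    by_contra h2
    have h3 := (stabilizer G b).orderOf_dvd_natCard h
    rw [order_eq hpp hP hx h2, card_stab_eq b a] at h3
    have h4 := (P : Subgroup G).card_mul_index
    rw [hP, hG, mul_right_comm, mul_comm _ p, Nat.mul_right_inj hpp.ne_zero] at h4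
    exact P.not_dvd_index (h4 ▸ h3.mul_left 2)
  obtain ⟨e, X, Y, δ, ε, S, h⟩ := exists_bd (perf_of_simple hnc) P hP
  obtain rfl : e = 2 := by rw [← h.he, hC]; exact Nat.eq_of_mul_eq_mul_right hpp.pos h1
  obtain ⟨θ, hθ⟩ := h.Y_ne
  obtain ⟨χ, rfl, rfl, h2⟩ := h.two hθ
  have hχ := Finset.mem_singleton_self χ
  obtain ⟨f, f0, f1, fX, fY, fW⟩ := h.exists_fx hC
  obtain ⟨c, c1, c2, c3, c4⟩ := BD.decomp f0 (isCharacter_perm α) (d := 2 * p) (m := 2 * p) (by simp [hα]) (by
    rw [Finset.sum_eq_single 1 (fun x _ hx => by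
      have : IsEmpty (fixedBy α (x : G)) := ⟨fun b => hx (Subtype.ext (hsr b x x.2 b.2))⟩
      simp) (by simp)]
    simp [hα])
  have c5 : c (irrOne G) = 1 := by exact_mod_cast (c1 (irrOne G)).symm.trans (classInner_pc_one' a)
  have c6 : Nat.card (orbitRel.Quotient (stabilizer G a) α) = ∑ ψ, c ψ * c ψ := by
    have := classInner_pc_self (G := G) a
    rw [show classInner (pc G α) (pc G α) = classInner (pc G α) (∑ ψ, (c ψ : ℂ) • ψ.1) from
      congrArg _ (funext fun g => (c2 g).trans (by simp)), classInner_sum_right] at this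
    simp only [classInner_smul_right, c1, map_natCast] at this
    exact_mod_cast this.symm
  rw [sum_split h.disj h.oneX h.oneY, c5, Finset.sum_singleton] at c3 c4 c6
  rw [Finset.sum_congr rfl (s₁ := Y) (g := fun ψ => (dg θ : ℤ) * c ψ) fun θ' h7 => by
    rw [h.dg_eq h7 hθ, mul_comm], ← Finset.mul_sum Y, show dg (irrOne G) = 1 by simp [charDegree],
    Finset.sum_congr rfl (s₁ := _ᶜ) (g := fun ψ => (p * (c ψ * f ψ) : ℤ)) fun ψ hψ => by
      rw [fW ψ hψ]; push_cast; ring, ← Finset.mul_sum] at c3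
  rw [Finset.sum_congr rfl (s₁ := Y) (g := fun ψ => (dg θ - δ χ * 2 : ℤ) * c ψ) fun θ' h7 => by
    rw [fY _ h7, h.dg_eq h7 hθ, mul_comm]; rfl, ← Finset.mul_sum Y, f1, fX _ hχ,
    Finset.sum_congr rfl (s₁ := _ᶜ) (g := fun ψ => (p * (c ψ * f ψ) : ℤ)) fun ψ hψ => by ring, ← Finset.mul_sum] at c4
  have n1 : ∀ ψ ∈ (insert (irrOne G) ({χ} ∪ Y))ᶜ, (0 : ℤ) ≤ c ψ * f ψ := fun _ _ => by positivity
  have n2 : ∀ ψ ∈ Y, (0 : ℤ) ≤ c ψ := fun _ _ => by positivity
  have k1 := Finset.sum_nonneg n1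
  have k2 := Finset.sum_nonneg n2
  obtain ⟨j, hj⟩ := h.dvdX hχ
  have h3 := two_le_dg h.perf (h.ne_one (Finset.mem_union_left _ hχ))
  obtain ⟨h4, h5, h6, h7⟩ : δ χ = -1 ∧ c χ = 1 ∧ ∑ ψ ∈ Y, (c ψ : ℤ) = 0 ∧
      j + ∑ ψ ∈ (insert (irrOne G) ({χ} ∪ Y))ᶜ, (c ψ * f ψ : ℤ) = 2 := by
    rw [h2, sub_eq_iff_eq_add.1 hj] at c3 c4
    exact (arith2 (p := p) (c := c χ) (j := j) (by exact_mod_cast hp) h.esgn (by positivity) k2 k1 (by omega) (by simpa using c3)
      (by simpa using c4)).imp_right fun h => ⟨by omega, h.2⟩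
  have k5 : 1 ≤ j := by
    by_contra
    have : (p : ℤ) * j ≤ 0 := mul_nonpos_of_nonneg_of_nonpos (by positivity) (by omega)
    omega
  have h8 : (Nat.card (orbitRel.Quotient (stabilizer G a) α) : ℤ) ≤ 4 - j := by
    rw [c6, h5, Finset.sum_eq_zero (s := Y) fun ψ hψ => by
      simpa using (Finset.sum_eq_zero_iff_of_nonneg n2).1 h6 ψ hψ]
    have : ∑ ψ ∈ (insert (irrOne G) ({χ} ∪ Y))ᶜ, (c ψ * c ψ : ℤ) ≤ 2 - j := by
      rw [← h7, add_sub_cancel_left]
      refine Finset.sum_le_sum fun ψ hψ => ?_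
      have k6 := Finset.single_le_sum n1 hψ
      have k7 : 0 < f ψ := Nat.pos_of_mul_pos_left (fW ψ hψ ▸ dg_pos ψ)
      rcases Nat.eq_zero_or_pos (c ψ) with k8 | k8
      · simp [k8]
      have k9 : (c ψ : ℤ) * 1 ≤ c ψ * f ψ := mul_le_mul_of_nonneg_left (by omega) (by positivity)
      exact mul_le_mul_of_nonneg_left (by omega) (by positivity)
    push_cast; linarith
  have h9 : ∀ x : α, x ≠ a → (Quotient.mk'' a : orbitRel.Quotient (stabilizer G a) α) ≠ Quotient.mk'' x :=
    fun x hx h => by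
      obtain ⟨l, hl⟩ := Quotient.exact' h.symm
      exact hx (hl.symm.trans l.2)
  obtain ⟨y, z, hy, hz, hyz⟩ : ∃ y z : α, y ≠ a ∧ z ≠ a ∧
      (Quotient.mk'' y : orbitRel.Quotient (stabilizer G a) α) ≠ Quotient.mk'' z := by
    by_contra! h10
    refine hnot2 (two_trans_of_stab a fun b c hb hc => ?_)
    obtain ⟨l, hl⟩ := Quotient.exact' (h10 c b hc hb)
    exact ⟨l, l.2, hl⟩
  have h10 : 3 ≤ Nat.card (orbitRel.Quotient (stabilizer G a) α) :=
    (Nat.card_fin 3).ge.trans (Nat.card_le_card_of_injective _ (inj3 (h9 y hy) (h9 z hz) hyz))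
  obtain rfl : j = 1 := by omega
  obtain ⟨h11, b, hb⟩ := h.order_two hC h4 (by omega) (fsInd_eq_one_of_odd_pc a χ.2 (funext (h.two_rat hC _))
    odd_one (by rw [c1, h5]))
  have h12 : ∀ v : G, orderOf v = 2 → Nat.card (fixedBy α v) ≤ 2 := fun v hv => by
    obtain ⟨u, hu, h12⟩ := h.conj_of_two hC (by omega) rfl hv
    obtain ⟨g, rfl⟩ := isConj_iff.1 h12
    have ho := (SemiconjBy.orderOf_eq _ h12.choose_spec).symm.trans hv
    have := SylNum.card_mul_fix_le (S := fixedBy α (g * v * g⁻¹)) hu (fun x hx h => by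
      by_contra h13
      have := order_eq hpp hP (hC.le (mem_cent hpp hP hx h13 h)) (by rintro e; simp [e] at ho)
      omega) (fun _ h => h) fun b _ => hsr b
    rw [hP, hα', ← Nat.card_coe_set_eq, card_fixedBy_conj, mul_comm] at this
    exact Nat.le_of_mul_le_mul_right this hpp.pos
  have h13 : ∀ y z : α, y ≠ a → z ≠ a → (Quotient.mk'' y : orbitRel.Quotient (stabilizer G a) α) ≠ Quotient.mk'' z →
      Odd (Nat.card (orbit (stabilizer G a) y)) → Odd (Nat.card (stabilizer (stabilizer G a) z)) :=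
    fun y z hy hz hyz ho => by
      by_contra h13
      obtain ⟨v, hv⟩ := exists_prime_orderOf_dvd_card' 2 (Nat.not_odd_iff_even.1 h13).two_dvd
      have h14 := card_modEq_fixedBy (α := orbit (stabilizer G a) y) Nat.prime_two (g := v.1) (k := 1)
        (by rw [pow_one, ← hv, ← Subgroup.coe_pow, pow_orderOf_eq_one]; rfl)
      obtain ⟨w, hw⟩ : Nonempty (fixedBy (orbit (stabilizer G a) y) v.1) :=
        (Nat.card_pos_iff.1 (by obtain ⟨k, hk⟩ := ho; unfold Nat.ModEq at h14; omega)).1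
      have h15 : (Quotient.mk'' w.1 : orbitRel.Quotient (stabilizer G a) α) = Quotient.mk'' y := Quotient.sound' w.2
      have := Nat.card_le_card_of_injective (β := fixedBy α (v.1 : G))
        ![⟨a, v.1.2⟩, ⟨z, v.2⟩, ⟨w, congrArg Subtype.val hw⟩]
        (inj3 (fun e => hz (congrArg Subtype.val e).symm) (fun e => h9 y hy (h15 ▸ congrArg _ (congrArg Subtype.val e)))
          fun e => hyz (h15 ▸ congrArg _ (congrArg Subtype.val e).symm))
      have := h12 v (by simpa using hv)
      simp at *; omega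
  have h14 : Nat.card (orbit (stabilizer G a) y) + Nat.card (orbit (stabilizer G a) z) + 1 = 2 * p := by
    have := Fintype.ofFinite (orbitRel.Quotient (stabilizer G a) α)
    have h14 := ((Nat.bijective_iff_injective_and_card _).2 ⟨inj3 (h9 y hy) (h9 z hz) hyz, by
      exact (Nat.card_fin 3).trans (show 3 = Nat.card (orbitRel.Quotient (stabilizer G a) α) by omega)⟩)
    have h15 : ∀ x : α, orbit (stabilizer G a) (Quotient.mk'' x : orbitRel.Quotient (stabilizer G a) α).out =
        orbit (stabilizer G a) x := fun x => orbit_eq_iff.2 (Quotient.mk_out' (s₁ := orbitRel _ _) x)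
    rw [← hα', ← sum_card_orbit (Ω := α) (stabilizer G a), ← h14.sum_comp, Fin.sum_univ_three]
    simp only [Matrix.cons_val_zero, Matrix.cons_val_one, Matrix.cons_val_two, Matrix.head_cons, Matrix.tail_cons, h15]
    rw [show orbit (stabilizer G a) a = {a} from Set.eq_singleton_iff_unique_mem.2 ⟨mem_orbit_self a, fun _ ⟨g, hg⟩ => hg.symm.trans g.2⟩]
    simp; ring
  obtain ⟨b, rfl⟩ : ∃ k, b = k + 2 := by
    rcases b with _ | _ | b
    exacts [by omega, by omega, ⟨b, rfl⟩]
  have h15 : Nat.card (stabilizer G a) = 2 ^ (b + 1) * (2 * 2 ^ (b + 1) - 1) :=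
    Nat.eq_of_mul_eq_mul_left (show 0 < 2 * p by omega) (by
      rw [← hG, h11, show p - 1 = 2 * 2 ^ (b + 1) by rw [hb, pow_succ']; rfl,
        show p - 2 = 2 * 2 ^ (b + 1) - 1 by rw [hb, pow_succ']; rfl]; ring)
  have h16 : 2 ^ (b + 1) = 2 := by
    rw [pow_succ'] at hb
    rcases Nat.even_or_odd (Nat.card (orbit (stabilizer G a) y)) with h16 | h16
    · have h17 : Odd (Nat.card (orbit (stabilizer G a) z)) := by rw [Nat.odd_iff]; obtain ⟨k, hk⟩ := h16; omega
      exact arith ⟨b, rfl⟩ h15 (by omega) (card_orbit_mul_stab z) (card_orbit_mul_stab y) h17 (h13 z y hz hy hyz.symm h17)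
    · exact arith ⟨b, rfl⟩ h15 (by omega) (card_orbit_mul_stab y) (card_orbit_mul_stab z) h16 (h13 y z hy hz hyz h16)
  obtain rfl : p = 5 := by rw [pow_succ] at hb; omega
  exact ⟨rfl, S0494.result h11⟩

end Cfsg.Agent.S4707
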