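import Cfsg.Statements.S4708
import Cfsg.Agent.Lib.Block.Max

set_option autoImplicit false
open Cfsg

namespace Cfsg.Agent.S4708

open Cfsg.Agent.Blk
open Cfsg.Agent.Char hiding cj cj_mul cj_inv_cj cj_cj_inv

/-- Let p be a prime, M a maximal ideal of the algebraic integers containing p, G a finite group and H a normal subgroup. Write λ(X) for the sum of the squares of the degrees of the irreducible characters in the principal p-block of a group X. Then λ(H) ≤ λ(G) ≤ [G : H]·λ(H). -/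
theorem result {G : Type*} [Group G] [Finite G] (p : ℕ) [Fact p.Prime] (M : Ideal Cfsg.AlgInt) (hM : Cfsg.IsPModular p M) (H : Subgroup G) [H.Normal] : (∑ᶠ θ ∈ Cfsg.principalBlock M H, Cfsg.charDegree (θ : H → ℂ) ^ 2) ≤ (∑ᶠ χ ∈ Cfsg.principalBlock M G, Cfsg.charDegree (χ : G → ℂ) ^ 2) ∧ (∑ᶠ χ ∈ Cfsg.principalBlock M G, Cfsg.charDegree (χ : G → ℂ) ^ 2) ≤ H.index * ∑ᶠ θ ∈ Cfsg.principalBlock M H, Cfsg.charDegree (θ : H → ℂ) ^ 2 := by
  haveI : PMod M p := ⟨hM⟩
  classical
  rw [finsum_fs, finsum_fs]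
  have h1 : ∑ χ ∈ fs (principalBlock M G), charDegree χ.1 ^ 2 =
      ∑ θ ∈ fs (principalBlock M H), (∑ χ ∈ fs (principalBlock M G), em H χ θ * charDegree χ.1) *
        charDegree θ.1 := by
    rw [sum_fs_eq_univ (principalBlock M H)]
    · simp only [Finset.sum_mul]
      rw [Finset.sum_comm]
      refine Finset.sum_congr rfl fun χ _ => ?_
      rw [sq]
      nth_rewrite 2 [deg_eq_sum_em H χ]
      rw [Finset.mul_sum]
      exact Finset.sum_congr rfl fun θ _ => by ring
    · intro θ hθ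
      rw [Finset.sum_eq_zero, zero_mul]
      intro χ hχ
      by_contra hc
      exact hθ (mem_principal_of_em (mem_fs.1 hχ) (left_ne_zero_of_mul hc))
  rw [h1, Finset.mul_sum]
  refine ⟨Finset.sum_le_sum fun θ hθ => ?_, Finset.sum_le_sum fun θ hθ => ?_⟩
  · obtain ⟨χ, h2, h3⟩ := exists_em_principal (mem_fs.1 hθ)
    rw [sq]
    refine Nat.mul_le_mul_right _ (le_trans ?_ (Finset.single_le_sum
      (f := fun χ => em H χ θ * charDegree χ.1) (fun _ _ => Nat.zero_le _) (mem_fs.2 h2)))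
    exact (deg_le_of_em h3).trans (Nat.le_mul_of_pos_left _ (Nat.pos_of_ne_zero h3))
  · rw [sq, ← mul_assoc, ← sum_em_mul_deg]
    exact Nat.mul_le_mul_right _ (Finset.sum_le_sum_of_subset (Finset.subset_univ _))

end Cfsg.Agent.S4708
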