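import Cfsg.Statements.S4709
import Cfsg.Agent.Lib.Block.Klein

set_option autoImplicit false
open Cfsg

namespace Cfsg.Agent.S4709

open Cfsg.Agent.Blk
open Cfsg.Agent.Char hiding cj cj_mul cj_inv_cj cj_cj_inv

/-- Let p be a prime, M a maximal ideal of the algebraic integers containing p, and G a finite group with a nontrivial abelian Sylow p-subgroup P; put N = N_G(P), C = C_G(P). Suppose N/C is cyclic of order m with 1 < m < #P − 1 (C has index m in N and N is generated by C and one element), and C_G(y) ∩ N = C for every non-identity y ∈ P. Put r = (#P − 1)/m. Then there is s ≤ m such that the principal p-block is the disjoint union of a set X of s characters containing the principal character and a set Y of r characters, with integers a_χ ≠ 0 (χ ∈ X), d and a sign δ = ±1, such that: every χ ∈ X takes the value a_χ at every element whose p-part is a non-identity element of P;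 there is a map ζ from the non-principal linear characters ψ of P onto Y, constant on N-conjugacy classes, with ζ_ψ(z) = d + δ·Σ ψ'(y) for every z whose p-part y is a non-identity element of P, the sum running over the N-conjugates ψ' of ψ; (d − δ)^2 + (r − 1) d^2 + Σ_{χ ∈ X} a_χ^2 = m + 1; all members of Y agree on p-regular elements; and (r d − δ) η(g) + Σ_{χ ∈ X} a_χ χ(g) = 0 for every η ∈ Y and every p-regular g. -/
theorem result {G : Type*} [Group G] [Finite G] (p : ℕ) [Fact p.Prime] (M : Ideal Cfsg.AlgInt) (hM : Cfsg.IsPModular p M) (P : Sylow p G) (hab : IsMulCommutative P) (hP1 : Nat.card P ≠ 1) (m : ℕ) (hm1 : 1 < m) (hm2 : m + 1 < Nat.card P) (hCN : (Subgroup.centralizer ((P : Subgroup G) : Set G)).relIndex (Subgroup.normalizer ((P : Subgroup G) : Set G)) = m) (hcyc : ∃ g : G, g ∈ Subgroup.normalizer ((P : Subgroup G) : Set G) ∧ Subgroup.centralizer ((P : Subgroup G) :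 Set G) ⊔ Subgroup.zpowers g = Subgroup.normalizer ((P : Subgroup G) : Set G)) (hfrob : ∀ y : G, y ∈ (P : Subgroup G) → y ≠ 1 → Subgroup.centralizer ({y} : Set G) ⊓ Subgroup.normalizer ((P : Subgroup G) : Set G) = Subgroup.centralizer ((P : Subgroup G) : Set G)) : ∃ (s : ℕ) (X Y : Set (Cfsg.IrrCharacter G)), s ≤ m ∧ Cfsg.principalBlock M G = X ∪ Y ∧ Disjoint X Y ∧ Nat.card X = s ∧ Nat.card Y = (Nat.card P - 1) / m ∧ (∃ χ₁ ∈ X, (χ₁ : G → ℂ) = fun _ => 1) ∧ ∃ (a : Cfsg.IrrCharacter G → ℤ) (d δ : ℤ) (ζ : (↥(P : Subgroup G) →* ℂˣ) → Cfsg.IrrCharacter G), (δ = 1 ∨ δ = -1) ∧ (∀ χ ∈ X, a χ ≠ 0 ∧ ∀ z y : G, Cfsg.IsPPart p z y → y ∈ (P : Subgroup G) → y ≠ 1 → (χ : G → ℂ) z = (a χ : ℂ)) ∧ (∀ ψ : ↥(P : Subgroup G) →* ℂˣ, ψ ≠ 1 → ζ ψ ∈ Y) ∧ (∀ η ∈ Y, ∃ ψ : ↥(P : Subgroup G) →* ℂˣ, ψ ≠ 1 ∧ ζ ψ = η) ∧ (∀ ψ ψ' : ↥(P : Subgroup G) →* ℂˣ, ψ ≠ 1 → (∃ n : G, n ∈ Subgroup.normalizer ((P : Subgroup G)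 : Set G) ∧ ∀ w w' : ↥(P : Subgroup G), (w' : G) = n * w * n⁻¹ → ψ' w' = ψ w) → ζ ψ' = ζ ψ) ∧ (∀ ψ : ↥(P : Subgroup G) →* ℂˣ, ψ ≠ 1 → ∀ (z : G) (y : ↥(P : Subgroup G)), Cfsg.IsPPart p z (y : G) → (y : G) ≠ 1 → (ζ ψ : G → ℂ) z = (d : ℂ) + (δ : ℂ) * ∑ᶠ ψ' ∈ {ψ' : ↥(P : Subgroup G) →* ℂˣ | ∃ n : G, n ∈ Subgroup.normalizer ((P : Subgroup G) : Set G) ∧ ∀ w w' : ↥(P : Subgroup G), (w' : G) = n * w * n⁻¹ → ψ' w' = ψ w}, ((ψ' y : ℂˣ) : ℂ)) ∧ ((d - δ) ^ 2 + ((Nat.card P - 1) / m - 1 : ℤ) * d ^ 2 + ∑ᶠ χ ∈ X, a χ ^ 2 = (m : ℤ) + 1) ∧ (∀ η ∈ Y, ∀ η' ∈ Y, ∀ g : G, ¬ p ∣ orderOf g → (η : G → ℂ) g = (η' : G → ℂ) g) ∧ (∀ η ∈ Y, ∀ g : G, ¬ p ∣ orderOf g → ((((Nat.card P - 1) / m : ℕ) : ℂ) * d - δ) * (η : G → ℂ) g + ∑ᶠ χ ∈ X, (a χ : ℂ) * (χ : G → ℂ) g = 0) := by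
  haveI : PMod M p := ⟨hM⟩
  classical
  have := Fintype.ofFinite (P : Subgroup G)
  have hS := isSyl_sylow P
  have hc : (P : Subgroup G) ≤ Ce P := fun x hx => mem_Ce.2 fun y hy =>
    congrArg Subtype.val (hab.1.1 (⟨y, hy⟩ : (P : Subgroup G)) ⟨x, hx⟩)
  have hf : FA p (principalBlock M G) P (e0 M P) := fa_principal hS hc fun t ht u hu h1 h2 => by
    have : t ∈ Ce1 u ⊓ No (P : Subgroup G) := ⟨mem_Ce1.2 (mul_inv_eq_iff_eq_mul.1 h2), ht⟩
    rwa [hfrob u hu h1] at this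
  have hE := card_autE_principal (M := M) (P := (P : Subgroup G))
  rw [hCN] at hE
  have hd := hf.exd_principal
  obtain ⟨δ, d, ζ, a, hx⟩ := hd.exists_exc ⟨_, irrOne_mem_principal⟩
  have : Nontrivial (P : Subgroup G) := Finite.one_lt_card_iff_nontrivial.1 (by omega)
  obtain ⟨u, hu⟩ := exists_ne (1 : (P : Subgroup G))
  have h1 := hx.card_exc hd
  rw [hE] at h1
  have h2 : (Nat.card (P : Subgroup G) - 1) / m = (excSet ζ).card := by
    rw [← h1, Nat.add_sub_cancel, Nat.mul_div_cancel_left _ (by omega)]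
  have h3 : 1 < (excSet ζ).card := by
    by_contra h
    have : m * (excSet ζ).card ≤ m * 1 := Nat.mul_le_mul_left _ (by omega)
    omega
  have h4 : ∀ ψ ψ' : (P : Subgroup G) →* ℂˣ, (∃ n : G, n ∈ No (P : Subgroup G) ∧
      ∀ w w' : (P : Subgroup G), (w' : G) = n * w * n⁻¹ → ψ' w' = ψ w) ↔
      Orb (autE (P : Subgroup G) (e0 M (P : Subgroup G))) ψ ψ' := fun ψ ψ' => by
    rw [orb_comm]
    constructor
    · rintro ⟨n, hn, h⟩
      obtain ⟨σ, hσ, h5⟩ := exists_autE (e := e0 M (P : Subgroup G)) (by rwa [stab_principal])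
      exact ⟨σ, hσ, MonoidHom.ext fun w => h w _ (h5 w)⟩
    · rintro ⟨σ, hσ, rfl⟩
      obtain ⟨n, hn, h5⟩ := mem_autE_principal.1 hσ
      exact ⟨n, hn, fun w w' h => by rw [lcomp_apply, Subtype.ext ((h5 w).trans h.symm)]⟩
  have h5 : ∀ χ, χ ∈ fs (principalBlock M G) \ excSet ζ ↔ χ ∈ principalBlock M G ∧ χ ∉ excSet ζ :=
    fun χ => by rw [Finset.mem_sdiff, mem_fs]
  obtain ⟨l, hl⟩ := exists_lc_ne_one hd.comm hu
  refine ⟨_, ↑(fs (principalBlock M G) \ excSet ζ), ↑(excSet ζ), hE ▸ hx.card_nexc_le hd hu, ?_,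
    Finset.disjoint_coe.2 Finset.sdiff_disjoint, Nat.card_eq_finsetCard _,
    (Nat.card_eq_finsetCard _).trans h2.symm, ⟨irrOne G, (h5 _).2 ⟨irrOne_mem_principal,
      hx.notMem_of_const h3 (c := 1) fun _ _ => rfl⟩, rfl⟩, a, d, δ, ζ, hx.sign,
    fun χ hχ => ⟨hx.a_ne hd hu ((h5 χ).1 hχ).1 ((h5 χ).1 hχ).2, fun z y hz hy hy1 => ?_⟩,
    fun ψ hψ => EXC.mem_exc ζ hψ, fun η hη => mem_excSet.1 hη, fun ψ ψ' hψ h => ?_,
    fun ψ hψ z y hz hy => ?_, ?_, fun η hη η' hη' g hg => ?_, fun η hη g hg => ?_⟩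
  · rw [← Finset.coe_union, Finset.sdiff_union_of_subset hx.subset, coe_fs]
  · rw [hf.apply_principal hz hy hy1 ((h5 χ).1 hχ).1]
    exact hx.nexc χ ((h5 χ).1 hχ).1 (notMem_excSet.1 ((h5 χ).1 hχ).2) ⟨y, hy⟩
      fun h => hy1 (congrArg Subtype.val h)
  · rw [h4] at h
    exact ((hx.inj _ _ hψ (h.ne_one hψ)).2 h).symm
  · rw [hf.apply_principal hz y.2 hy (hx.mem ψ hψ)]
    simp only [h4]
    rw [← eta_eq_finsum]
    exact hx.exc ψ hψ y fun h => hy (congrArg Subtype.val h)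
  · rw [finsum_mem_coe_finset, ← hE, ← hx.norm_eq hd hl, ← h2, hE, Int.natCast_div,
      Nat.cast_pred Nat.card_pos]
  · simpa [reg_of_preg hg] using congrFun (hx.reg_eq' hd hη hη') g
  · obtain ⟨l, hl, rfl⟩ := mem_excSet.1 hη
    rw [finsum_mem_coe_finset, h2]
    simpa [reg_of_preg hg, Finset.sum_apply] using congrFun (hx.reg_rel hd hl) g

end Cfsg.Agent.S4709
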