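import Cfsg.Statements.S4712
import Cfsg.Agent.Lib.Block.Rat

set_option autoImplicit false
open Cfsg

namespace Cfsg.Agent.S4712

open Cfsg.Agent.Blk
open Cfsg.Agent.Char hiding cj cj_mul cj_inv_cj cj_cj_inv

/-- Let p be an odd prime, M a maximal ideal of the algebraic integers containing p, G a finite group of order n with p-part p^a, and B a p-block of G. Call an irreducible character χ p-rational when χ(g^k) = χ(g) for every g and every k coprime to n with k ≡ 1 modulo n/p^a (χ is fixed by the Galois automorphisms fixing the roots of unity of order prime to p). Then the number of p-rational irreducible characters in B is at least the p-regular rank of B (the number of irreducible Brauer characters in B). -/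
theorem result {G : Type*} [Group G] [Finite G] (p : ℕ) [Fact p.Prime] (hodd : p ≠ 2) (M : Ideal Cfsg.AlgInt) (hM : Cfsg.IsPModular p M) (B : Set (Cfsg.IrrCharacter G)) (hB : Cfsg.IsPBlock M B) : Cfsg.blockRank p B ≤ Nat.card {χ : Cfsg.IrrCharacter G // χ ∈ B ∧ ∀ k : ℕ, Nat.Coprime k (Nat.card G) → k ≡ 1 [MOD Nat.card G / p ^ (Nat.card G).factorization p] → ∀ g : G, (χ : G → ℂ) (g ^ k) = (χ : G → ℂ) g} := by
  haveI : PMod M p := ⟨hM⟩
  have hp : p.Prime := Fact.out
  have hn : Nat.card G ≠ 0 := Nat.card_pos.ne'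
  set a := (Nat.card G).factorization p
  set m := Nat.card G / p ^ a
  have h1 : p ^ a * m = Nat.card G := Nat.ordProj_mul_ordCompl_eq_self _ _
  have h2 : (p ^ a).Coprime m := (Nat.coprime_ordCompl hp hn).pow_left _
  haveI : NeZero (p ^ a) := ⟨pow_ne_zero _ hp.ne_zero⟩
  obtain ⟨g, hg⟩ := (ZMod.isCyclic_units_of_prime_pow p hp hodd a).exists_monoid_generator
  obtain ⟨k, h3, h4⟩ := Nat.chineseRemainder h2 (g : ZMod (p ^ a)).val 1
  have h5 : k.Coprime (Nat.card G) := by
    rw [← h1]
    refine Nat.Coprime.mul_right ?_ ?_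
    · rw [Nat.Coprime, h3.gcd_eq]
      exact ZMod.val_coe_unit_coprime g
    · rw [Nat.Coprime, h4.gcd_eq, Nat.gcd_one_left]
  obtain ⟨σ, hσ⟩ := exists_gal_pow hn h5
  have h6 : ∀ s : G, ¬ p ∣ orderOf s → s ^ k = s := fun s hs => by
    conv_rhs => rw [← pow_one s]
    exact pow_eq_pow_iff_modEq.2 (h4.of_dvd (orderOf_dvd_pcompl hs))
  refine (hB.isUB.rank_le_card_fixed h6 fun χ hχ => ⟨irrGalois σ χ, (hB.gal_mem_iff fun x hx => ?_).2 hχ,
    gal_apply_pow_card hσ dvd_rfl χ⟩).trans_eq (Nat.card_congr (Equiv.subtypeEquivRight fun χ =>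
      and_congr_right fun _ => ⟨fun h l h7 h8 x => ?_, fun h => h k h5 h4⟩))
  · rw [← gal_apply, gal_apply_pow_card hσ dvd_rfl, h6 x hx]
  · obtain ⟨j, hj⟩ := hg (ZMod.unitOfCoprime l (h7.of_dvd_right (h1 ▸ dvd_mul_right _ _)))
    have h9 : l ≡ k ^ j [MOD Nat.card G] := by
      rw [← h1, ← Nat.modEq_and_modEq_iff_modEq_mul h2]
      refine ⟨?_, h8.trans (by simpa using (h4.pow j).symm)⟩
      rw [← ZMod.natCast_eq_natCast_iff, Nat.cast_pow, (ZMod.natCast_eq_natCast_iff _ _ _).2 h3,
        ZMod.natCast_zmod_val, ← Units.val_pow_eq_pow_val, show g ^ j = _ from hj,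
        ZMod.coe_unitOfCoprime]
    rw [pow_eq_pow_iff_modEq.2 (h9.of_dvd (orderOf_dvd_natCard x))]
    clear hj h9
    induction j with
    | zero => simp
    | succ j ih => rw [pow_succ, pow_mul, h, ih]

end Cfsg.Agent.S4712
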