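import Cfsg.Statements.S4714
import Cfsg.Agent.Lib.Block.Cent

set_option autoImplicit false
open Cfsg

namespace Cfsg.Agent.S4714

open Cfsg.Agent.Blk
open Cfsg.Agent.Char hiding cj cj_mul cj_inv_cj cj_cj_inv

/-- Let p be a prime, M a maximal ideal of the algebraic integers containing p, D a p-subgroup of the finite group G with G = D·C_G(D), and B a p-block with defect group D. Let χ be a member of B having D in its kernel (there is exactly one, the canonical character of B). Then the irreducible characters in B are exactly the functions θ on G for which there is an irreducible character ζ of D such that θ(yx) = ζ(y)χ(x) whenever y ∈ D, x has order prime to p and x commutes with y, and θ(z) = 0 whenever the p-part of z does not lie in D. -/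
theorem result {G : Type*} [Group G] [Finite G] (p : ℕ) [Fact p.Prime] (M : Ideal Cfsg.AlgInt) (hM : Cfsg.IsPModular p M) (D : Subgroup G) (hD : IsPGroup p D) (hG : D ⊔ Subgroup.centralizer (D : Set G) = ⊤) (B : Set (Cfsg.IrrCharacter G)) (hB : Cfsg.IsPBlock M B) (hBD : Cfsg.IsDefectGroup p M B D) (χ : Cfsg.IrrCharacter G) (hχ : χ ∈ B) (hχD : ∀ y ∈ D, (χ : G → ℂ) y = (χ : G → ℂ) 1) : (∀ θ : Cfsg.IrrCharacter G, θ ∈ B ↔ ∃ ζ : Cfsg.IrrCharacter D, (∀ (y : D) (x : G), ¬ p ∣ orderOf x → Commute (y : G) x → (θ : G → ℂ) ((y : G) * x) = (ζ : D → ℂ) y * (χ : G → ℂ) x) ∧ (∀ z : G, (∀ y : G, Cfsg.IsPPart p z y → y ∉ D) → (θ : G → ℂ) z = 0)) ∧ ∀ ζ : Cfsg.IrrCharacter D, ∃ θ ∈ B, (∀ (y : D) (x : G), ¬ p ∣ orderOf x → Commute (y : G) x → (θ : G → ℂ) ((y : G) * x) = (ζ : D → ℂ) y * (χ : G → ℂ) x) ∧ (∀ z : G, (∀ y : G, Cfsg.IsPPart p z y → y ∉ D) → (θ : G → ℂ) z = 0) := by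
  haveI : PMod M p := ⟨hM⟩
  have hD' := hB.isDefectGroup_iff.1 hBD
  have := normal_of_sup_Ce hG
  have := Fintype.ofFinite D
  have h1 : D ≤ charKer χ.1 := fun y hy => χ.2.isCharacter.mem_charKer.2 (hχD y hy)
  have h2 : ∀ θ ∈ B, ∀ z : G, (∀ y : G, IsPPart p z y → y ∉ D) → θ.1 z = 0 := fun θ hθ z hz => by
    obtain ⟨x, hx⟩ := exists_isPPart p z
    exact hB.apply_eq_zero_of_notMem hD' hθ z x hx (hz x hx)
  have h3 : ∀ ζ : IrrCharacter D, ∃ θ ∈ B, (∀ (y : D) (x : G), ¬ p ∣ orderOf x → Commute (y : G) x →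
      (θ : G → ℂ) ((y : G) * x) = (ζ : D → ℂ) y * (χ : G → ℂ) x) ∧
      (∀ z : G, (∀ y : G, IsPPart p z y → y ∉ D) → (θ : G → ℂ) z = 0) := fun ζ => by
    obtain ⟨θ, hθ, h4⟩ := hB.exists_over_pgroup hD ζ
    exact ⟨θ, hθ, fun y x hx _ => hB.apply_mul_canon hD' hG hχ h1 hθ h4 y hx, h2 θ hθ⟩
  refine ⟨fun θ => ⟨fun hθ => ?_, fun ⟨ζ, h4, h5⟩ => ?_⟩, h3⟩
  · obtain ⟨ζ, hζ⟩ := exists_under θ D
    exact ⟨ζ, fun y x hx _ => hB.apply_mul_canon hD' hG hχ h1 hθ hζ y hx, h2 θ hθ⟩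
  · obtain ⟨ψ, hψ, h6, h7⟩ := h3 ζ
    have : θ = ψ := Subtype.ext (eq_of_eq_on_section (p := p) (P := D)
      (fun g x hx h8 => h5 g fun y hy => hx.unique hy ▸ h8)
      (fun g x hx h8 => h7 g fun y hy => hx.unique hy ▸ h8)
      fun y s hs hc => by rw [h4 y s hs hc, h6 y s hs hc])
    rwa [this]

end Cfsg.Agent.S4714
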