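import Cfsg.Statements.S4715
import Cfsg.Agent.Lib.Block.Major

set_option autoImplicit false
open Cfsg

namespace Cfsg.Agent.S4715

open Cfsg.Agent.Blk
open Cfsg.Agent.Char hiding cj cj_mul cj_inv_cj cj_cj_inv
open scoped ComplexConjugate

/-- Let p be a prime, M a maximal ideal of the algebraic integers containing p, B a p-block of the finite group G with defect group D of order p^d, H = D·C_G(D), b a block of H inducing B, T the stabilizer of b in N_G(D) and e = [T : H] the inertial index of B; let n be the integer with p^n ≤ e < p^(n+1) and p^c the order of the centre of D. Then every irreducible character in B has height h with h + c ≤ n + d. -/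
theorem result {G : Type*} [Group G] [Finite G] (p : ℕ) [Fact p.Prime] (M : Ideal Cfsg.AlgInt) (hM : Cfsg.IsPModular p M) (B : Set (Cfsg.IrrCharacter G)) (hB : Cfsg.IsPBlock M B) (D : Subgroup G) (hBD : Cfsg.IsDefectGroup p M B D) (d : ℕ) (hDd : Nat.card D = p ^ d) (H : Subgroup G) (hH : H = D ⊔ Subgroup.centralizer (D : Set G)) (b : Set (Cfsg.IrrCharacter H)) (hind : Cfsg.IsInducedBlock M H b B) (T : Subgroup G) (hT : ∀ g : G, g ∈ T ↔ (g ∈ Subgroup.normalizer (D : Set G) ∧ ∀ θ ∈ b, ∀ θ' : Cfsg.IrrCharacter H, (∀ h h' : H, (h' : G) = g * h * g⁻¹ → (θ' : H → ℂ) h' = (θ : H → ℂ) h) → θ' ∈ b)) (e : ℕ) (he : H.relIndex T = e) (n : ℕ) (hn : p ^ n ≤ e ∧ e < p ^ (n + 1)) (c : ℕ) (hc : Nat.card (Subgroup.center D) = p ^ c) : ∀ χ ∈ B, Cfsg.blockHeight p B (χ : G → ℂ) + c ≤ n + d := by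
  haveI : PMod M p := ⟨hM⟩
  classical
  intro χ hχ
  have := Fintype.ofFinite G
  have hD := hB.isDefectGroup_iff.1 hBD
  obtain ⟨hb, -, hI⟩ := isInducedBlock_iff.1 hind
  subst hH
  have hle : D ⊔ Ce D ≤ No D := sup_le (le_No D) (Ce_le_No D)
  set e₀ := barS M (D ⊔ Ce D) b with he₀
  have hb0 : IsBlock (D ⊔ Ce D) e₀ := hb.isBlockS
  have h1 : Br D (bar M B) * e₀ = e₀ :=
    (ind_iff_Br hD.pg le_sup_left (inf_le_right.trans le_sup_right) le_top hle hb0 hB.isBlock).1 hI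
  have hsup := hb0.mem_sup_Ce hD.pg le_sup_left hle
  have hb1 : IsBlock (⊤ ⊓ Ce D) e₀ := by
    rw [top_inf_eq]
    refine ⟨⟨hsup, inv_anti le_sup_right hb0.inv⟩, hb0.idem, hb0.ne, fun z hz hzi => ?_⟩
    exact hb0.prim z ⟨sup_mono le_sup_right hz.1, mem_inv_sup.2 ⟨sup_le_inv_Ce D hz.1, hz.2⟩⟩ hzi
  have hm : IsMP p ⊤ (bar M B) D e₀ := ⟨⟨hD.pg, le_top, hb1⟩, hB.isBlock, h1, hD⟩
  have hT' : T = stab (⊤ ⊓ No D) e₀ := by
    ext g
    rw [hT, mem_stab, top_inf_eq]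
    refine and_congr_right fun hg => hb.forall_conj_mem_iff ?_
    exact No_sup_le _ _ ⟨hg, No_le_No_Ce D hg⟩
  -- the major subsections
  have hex : ∀ z ∈ D ⊓ Ce D, ∃ f : Set (IrrCharacter (Ce1 z)), IsPBlock M f ∧
      PLe p ⊤ (Subgroup.zpowers z) (barS M (Ce1 z) f) D e₀ := fun z hz => by
    obtain ⟨f, hf⟩ := hm.bp.exists_PLe (Subgroup.zpowers_le.2 hz.1)
    have h2 := (hf.left hm.bp).blk
    rw [top_inf_eq, Ce_zpowers] at h2
    obtain ⟨f, h3, rfl⟩ := exists_isPBlock_barS_eq h2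
    exact ⟨f, h3, hf⟩
  choose! f hf1 hf2 using hex
  have hzp : ∀ z ∈ D ⊓ Ce D, ∃ k, orderOf z = p ^ k := fun z hz => pelt_of_mem hD.pg hz.1
  have hzC : ∀ z ∈ D ⊓ Ce D, D ≤ Ce (Subgroup.zpowers z) := fun z hz => by
    rw [Ce_zpowers]; exact mem_Ce_iff_le.1 hz.2
  have hfi : ∀ z ∈ D ⊓ Ce D, IsInducedBlock M (Ce1 z) (f z) B := fun z hz =>
    (isInducedBlock_Ce1_iff (hzp z hz) hB (hf1 z hz)).2 (hm.eq_of_PLe (hf2 z hz))
  have hdB : blockDefect p B = d := by
    have := hB.card_defectGroup hBD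
    rw [hDd] at this
    exact (Nat.pow_right_injective (Fact.out : p.Prime).two_le this).symm
  have hfd : ∀ z ∈ D ⊓ Ce D, blockDefect p (f z) = blockDefect p B := fun z hz => by
    have h2 := hm.isDef_Ce_of_le (hf2 z hz) (hzC z hz)
    rw [top_inf_eq, Ce_zpowers] at h2
    obtain ⟨E, h3, h4⟩ := (hf1 z hz).exists_isDefectGroup_map h2
    have h5 := (hf1 z hz).card_defectGroup h3
    rw [← Subgroup.card_map_of_injective (Ce1 z).subtype_injective, h4, hDd] at h5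
    rw [hdB]
    exact (Nat.pow_right_injective (Fact.out : p.Prime).two_le h5).symm
  -- representatives
  let r : Setoid G := ⟨fun z w => ∃ t ∈ T, t * z * t⁻¹ = w, fun z => ⟨1, T.one_mem, by simp⟩,
    fun ⟨t, ht, h⟩ => ⟨t⁻¹, T.inv_mem ht, by rw [← h]; group⟩,
    fun ⟨t, ht, h⟩ ⟨s, hs, h'⟩ => ⟨s * t, T.mul_mem hs ht, by rw [← h', ← h]; group⟩⟩
  let ρ : G → G := fun z => (Quotient.mk r z).out
  have hρ : ∀ z, r (ρ z) z := fun z => Quotient.mk_out (s := r) z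
  have hTN : T ≤ No D := hT' ▸ (stab_le _ _).trans inf_le_right
  have hZT : ∀ z w, r z w → w ∈ D ⊓ Ce D → z ∈ D ⊓ Ce D := fun z w ⟨t, ht, h⟩ hw => by
    have : z = t⁻¹ * w * t := by rw [← h]; group
    rw [this]
    exact ⟨conj_mem_of_No' (hTN ht) hw.1, conj_mem_of_No' (No_le_No_Ce D (hTN ht)) hw.2⟩
  set Zs := Finset.univ.filter (· ∈ D ⊓ Ce D) with hZs
  set S := Zs.image ρ with hS
  have hSZ : ∀ z ∈ S, z ∈ D ⊓ Ce D := fun z hz => by
    obtain ⟨w, hw, rfl⟩ := Finset.mem_image.1 hz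
    exact hZT _ _ (hρ w) (Finset.mem_filter.1 hw).2
  have hSr : ∀ z ∈ S, ∀ w ∈ S, r z w → z = w := fun z hz w hw h => by
    obtain ⟨z, -, rfl⟩ := Finset.mem_image.1 hz
    obtain ⟨w, -, rfl⟩ := Finset.mem_image.1 hw
    have : Quotient.mk r z = Quotient.mk r w :=
      Quotient.sound (r.trans (r.symm (hρ z)) (r.trans h (hρ w)))
    simp only [ρ, this]
  have hcard : p ^ c ≤ e * S.card := by
    have h2 : Zs.card = p ^ c := by
      rw [← hc, hZs, ← Fintype.card_subtype, ← Nat.card_eq_fintype_card]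
      exact Nat.card_congr
        ⟨fun z => ⟨⟨z, z.2.1⟩, Subgroup.mem_center_iff.2 fun q => Subtype.ext (z.2.2 q q.2)⟩,
          fun z => ⟨z.1.1, z.1.2, fun q hq =>
            congrArg Subtype.val (Subgroup.mem_center_iff.1 z.2 ⟨q, hq⟩)⟩,
          fun _ => rfl, fun _ => rfl⟩
    rw [← h2]
    refine Finset.card_le_mul_card_image _ _ fun z hz => ?_
    rw [← he, Subgroup.relIndex, Subgroup.index, Nat.card_eq_fintype_card, ← Finset.card_univ]
    refine Finset.card_le_card_of_surjOn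
      (fun q : T ⧸ (D ⊔ Ce D).subgroupOf T => (q.out : G) * z * (q.out : G)⁻¹) fun w hw => ?_
    obtain ⟨-, h3⟩ := Finset.mem_filter.1 (Finset.mem_coe.1 hw)
    obtain ⟨t, ht, h4⟩ := hρ w
    rw [h3] at h4
    refine ⟨(⟨t, ht⟩ : T), Finset.mem_coe.2 (Finset.mem_univ _), ?_⟩
    obtain ⟨y, hy⟩ := QuotientGroup.mk_out_eq_mul ((D ⊔ Ce D).subgroupOf T) ⟨t, ht⟩
    have h5 : ((y : T) : G) ∈ Ce1 z :=
      sup_le (mem_Ce_iff_le.1 (hSZ z hz).2) (fun g hg => mem_Ce1.2 (hg z (hSZ z hz).1).symm) y.2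
    simp only [hy, Subgroup.coe_mul]
    rw [mul_assoc t, mem_Ce1.1 h5, ← h4]; group
  have horth : ∀ z ∈ S, ∀ w ∈ S, z ≠ w →
      classInner (sec p z (f z) χ.1) (sec p w (f w) χ.1) = 0 := fun z hz w hw hne => by
    have hz' := hSZ z hz
    have hw' := hSZ w hw
    refine classInner_sec_eq_zero (hzp z hz') (hzp w hw') (hf1 z hz') (hf1 w hw')
      (fun x hx h => hne (hSr w hw z hz ?_).symm) χ.2.isClassFunction χ.2.isClassFunction
    have hcs : cs x (Subgroup.zpowers w) = Subgroup.zpowers z := by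
      rw [← hx]; exact MonoidHom.map_zpowers _ _
    have h3 := hm.local_Ce (hf2 z hz') (hzC z hz')
    have h4 : PLe p ⊤ (Subgroup.zpowers z) (barS M (Ce1 z) (f z)) (cs x D) (cj x e₀) := by
      have := (hf2 w hw').cs (Subgroup.mem_top x)
      rwa [hcs, h] at this
    have h5 := (hm.cs (Subgroup.mem_top x)).local_Ce h4 (by
      rw [← hcs, ← cs_Ce]; exact cs_mono x (hzC w hw'))
    obtain ⟨y, hy, h6, h7⟩ := h3.conj h5
    refine ⟨y * x, hT' ▸ mem_stab.2 ⟨⟨trivial, mem_No.2 (by rw [cs_mul, h6])⟩, by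
      rw [cj_mul, h7]⟩, ?_⟩
    have h8 : y ∈ Ce1 z := Ce_zpowers z ▸ hy.2
    rw [mul_inv_rev, mul_assoc y, mul_assoc y, ← mul_assoc (x * w), hx, ← mul_assoc,
      mem_Ce1.1 h8, mul_inv_cancel_right]
  have hproj : ∀ z ∈ S, classInner (sec p z (f z) χ.1) χ.1 =
      classInner (sec p z (f z) χ.1) (sec p z (f z) χ.1) := fun z hz => by
    have := Fintype.ofFinite (Ce1 z)
    rw [(hf1 z (hSZ z hz)).isUB.classInner_sec χ.2.isClassFunction χ.2.isClassFunction,
      (hf1 z (hSZ z hz)).isUB.classInner_sec_sec (hzp z (hSZ z hz)) χ.2.isClassFunction]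
  have hss : classInner (∑ z ∈ S, sec p z (f z) χ.1) (∑ z ∈ S, sec p z (f z) χ.1) =
      ∑ z ∈ S, classInner (sec p z (f z) χ.1) (sec p z (f z) χ.1) := by
    rw [classInner_sum_left]
    refine Finset.sum_congr rfl fun z hz => ?_
    rw [classInner_sum_right, Finset.sum_eq_single_of_mem z hz fun w hw hne =>
      horth z hz w hw hne.symm]
  have hs1 : classInner (∑ z ∈ S, sec p z (f z) χ.1) χ.1 =
      ∑ z ∈ S, classInner (sec p z (f z) χ.1) (sec p z (f z) χ.1) := by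
    rw [classInner_sum_left]; exact Finset.sum_congr rfl hproj
  have hs2 : classInner χ.1 (∑ z ∈ S, sec p z (f z) χ.1) =
      ∑ z ∈ S, classInner (sec p z (f z) χ.1) (sec p z (f z) χ.1) := by
    rw [← conj_classInner, hs1, map_sum]
    exact Finset.sum_congr rfl fun z _ => conj_classInner _ _
  have hh := height_le_defect (p := p) hχ
  have hp0 := p_ne_zero M
  have hkey : ∀ z ∈ S, ∃ w, IsIntegral ℤ w ∧ w ≠ 0 ∧ w = ((p ^ (d - blockHeight p B χ.1) : ℕ) : ℂ) *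
      classInner (sec p z (f z) χ.1) (sec p z (f z) χ.1) := fun z hz => by
    have := Fintype.ofFinite (Ce1 z)
    have hz' := hSZ z hz
    obtain ⟨w, h2, h3⟩ := (hf1 z hz').isUB.exists_cm_eq (hzp z hz') hχ (hfd z hz') χ.2.isGen
    refine ⟨w, h2, fun h0 => (hfi z hz').cm_self_ne_zero (hzp z hz') (hfd z hz') hχ
      (by rw [h3, h0, mul_zero]), ?_⟩
    rw [(hf1 z hz').isUB.classInner_sec_sec (hzp z hz') χ.2.isClassFunction]
    rw [cm, hfd z hz', hdB] at h3
    apply mul_left_cancel₀ (pow_ne_zero (blockHeight p B χ.1) hp0)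
    rw [← h3, ← mul_assoc, Nat.cast_pow, ← pow_add, Nat.add_sub_cancel' (hdB ▸ hh)]
  have hle2 : S.card ≤ p ^ (d - blockHeight p B χ.1) := by
    refine card_le_of_TP S (fun z => ((p ^ (d - blockHeight p B χ.1) : ℕ) : ℂ) *
      classInner (sec p z (f z) χ.1) (sec p z (f z) χ.1))
      (fun z hz => by obtain ⟨w, h2, -, h3⟩ := hkey z hz; exact h3 ▸ h2)
      (fun z hz => (TP.nat _).mul (TP.classInner (sec_mem_CM (hzp z (hSZ z hz)) _ χ.2.isGen)))
      (fun z hz => by obtain ⟨w, -, h2, h3⟩ := hkey z hz; exact h3 ▸ h2)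
      (w := ((p ^ (d - blockHeight p B χ.1) : ℕ) : ℂ) *
        classInner (χ.1 - ∑ z ∈ S, sec p z (f z) χ.1) (χ.1 - ∑ z ∈ S, sec p z (f z) χ.1))
      ((TP.nat _).mul (TP.classInner fun g => sub_mem (char_mem_CM χ.2.isGen g) ?_)) ?_
    · rw [Finset.sum_apply]
      exact sum_mem fun z hz => sec_mem_CM (hzp z (hSZ z hz)) _ χ.2.isGen g
    · rw [classInner_sub_left, classInner_sub_right, classInner_sub_right, hss, hs1, hs2,
        χ.2.classInner_self, ← Finset.mul_sum]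
      ring
  have h9 : p ^ c < p ^ (n + 1 + (d - blockHeight p B χ.1)) := by
    rw [pow_add]
    exact lt_of_le_of_lt (hcard.trans (Nat.mul_le_mul_left _ hle2))
      (Nat.mul_lt_mul_of_pos_right hn.2 (pow_pos (Fact.out : p.Prime).pos _))
  have := (Nat.pow_lt_pow_iff_right (Fact.out : p.Prime).one_lt).1 h9
  omega

end Cfsg.Agent.S4715
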