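import Cfsg.Statements.S4717
import Cfsg.Agent.Lib.Block.More

set_option autoImplicit false
open Cfsg

namespace Cfsg.Agent.S4717

open Cfsg.Agent.Blk
open Cfsg.Agent.Char hiding cj cj_mul cj_inv_cj cj_cj_inv

/-- Let p be a prime, M a maximal ideal of the algebraic integers containing p, and r a natural number; say that a finite group X has deficiency class r when X has no non-principal p-block of defect ≥ r. If G has deficiency class r then so does the centralizer of every p-element of G; conversely, if r > 0 and the centralizer of every element of order p has deficiency class r, then G has deficiency class r. -/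
theorem result {G : Type*} [Group G] [Finite G] (p : ℕ) [Fact p.Prime] (M : Ideal Cfsg.AlgInt) (hM : Cfsg.IsPModular p M) (r : ℕ) : ((∀ B' : Set (Cfsg.IrrCharacter G), Cfsg.IsPBlock M B' → B' ≠ Cfsg.principalBlock M G → Cfsg.blockDefect p B' < r) → ∀ y : G, (∃ k : ℕ, orderOf y = p ^ k) → (∀ B' : Set (Cfsg.IrrCharacter ↥(Subgroup.centralizer ({y} : Set G))), Cfsg.IsPBlock M B' → B' ≠ Cfsg.principalBlock M ↥(Subgroup.centralizer ({y} : Set G)) → Cfsg.blockDefect p B' < r)) ∧ (0 < r → (∀ y : G, orderOf y = p → (∀ B' : Set (Cfsg.IrrCharacter ↥(Subgroup.centralizer ({y} : Set G))), Cfsg.IsPBlock M B' → B' ≠ Cfsg.principalBlock M ↥(Subgroup.centralizer ({y} : Set G)) → Cfsg.blockDefect p B' < r)) → (∀ B' : Set (Cfsg.IrrCharacter G), Cfsg.IsPBlock M B' → B' ≠ Cfsg.principalBlock M G → Cfsg.blockDefect p B' < r)) := by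
  haveI : PMod M p := ⟨hM⟩
  refine ⟨fun h y hy b hb hne => ?_, fun hr h B hB hne => ?_⟩
  · obtain ⟨B, hind⟩ := exists_inducedBlock_Ce1 hy hb
    obtain ⟨-, hB, h1⟩ := isInducedBlock_iff.1 hind
    obtain ⟨D, hD⟩ := hb.isBlockS.exists_isDef p
    obtain ⟨P, hP⟩ := hB.isBlock.exists_isDef p
    have := h1.card_le le_top hb.isBlockS hB.isBlock hD hP
    rw [hb.card_isDefS hD, hB.card_isDef hP,
      Nat.pow_le_pow_iff_right (Fact.out : p.Prime).one_lt] at this
    exact this.trans_lt (h B hB fun h2 => hne ((third_main hind).1 h2))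
  · obtain ⟨P, hP⟩ := hB.isBlock.exists_isDef p
    by_cases h0 : P ⊓ Ce P = ⊥
    · have h1 := eq_bot_of_inf_Ce hP.pg h0
      rw [h1] at hP
      rwa [hB.defect_eq_zero_iff_isDef.2 hP]
    have h4 : p ∣ Nat.card ↥(P ⊓ Ce P) := by
      rcases (isPGroup_le hP.pg inf_le_left : IsPGroup p ↥(P ⊓ Ce P)).card_eq_or_dvd with h | h
      · exact absurd (Subgroup.card_eq_one.1 h) h0
      · exact h
    obtain ⟨x, hx⟩ := exists_prime_orderOf_dvd_card' p h4
    obtain ⟨b, hind, -, h1⟩ := hB.exists_major hP x.2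
    rw [← h1]
    exact h x (by rwa [Subgroup.orderOf_coe]) b (isInducedBlock_iff.1 hind).1
      fun h2 => hne ((third_main hind).2 h2)

end Cfsg.Agent.S4717
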