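import Cfsg.Statements.S4718
import Cfsg.Agent.Lib.Block.More

set_option autoImplicit false
universe u
open Cfsg

namespace Cfsg.Agent.S4718

open Cfsg.Agent.Blk
open Cfsg.Agent.Char hiding cj cj_mul cj_inv_cj cj_cj_inv
theorem landau (k : ℕ) : ∀ r : ℚ, ∃ N : ℕ, ∀ (ι : Type) (s : Finset ι) (n : ι → ℕ), s.card = k →
    (∀ i ∈ s, 0 < n i) → ∑ i ∈ s, (n i : ℚ)⁻¹ = r → ∀ i ∈ s, n i ≤ N := by
  induction k with
  | zero => exact fun r => ⟨0, fun ι s n hs _ _ i hi => by simp [Finset.card_eq_zero.1 hs] at hi⟩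
  | succ k ih =>
    intro r
    classical
    choose f hf using ih
    obtain ⟨m, hm⟩ := exists_nat_ge (((k + 1 : ℕ) : ℚ) / r)
    refine ⟨m + ∑ j ∈ Finset.range (m + 1), f (r - (j : ℚ)⁻¹), fun ι s n hs h0 hsum i hi => ?_⟩
    obtain ⟨j, hj, hmin⟩ := s.exists_min_image n ⟨i, hi⟩
    have hr : 0 < r := hsum ▸ Finset.sum_pos (fun i hi => by have := h0 i hi; positivity) ⟨i, hi⟩
    have h1 : r ≤ ((k + 1 : ℕ) : ℚ) * (n j : ℚ)⁻¹ := by
      rw [← hsum, ← hs, ← nsmul_eq_mul]
      exact Finset.sum_le_card_nsmul _ _ _ fun i hi =>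
        inv_anti₀ (by exact_mod_cast h0 j hj) (by exact_mod_cast hmin i hi)
    have h2 : n j ≤ m := by
      have h3 : (0 : ℚ) < n j := by exact_mod_cast h0 j hj
      have : (n j : ℚ) ≤ ((k + 1 : ℕ) : ℚ) / r := by
        rw [le_div_iff₀ hr]
        rw [← div_eq_mul_inv, le_div_iff₀ h3] at h1
        linarith
      exact_mod_cast this.trans hm
    by_cases hij : i = j
    · subst hij; omega
    have := hf (r - (n j : ℚ)⁻¹) ι (s.erase j) n (by rw [Finset.card_erase_of_mem hj, hs]; rfl)
      (fun i hi => h0 i (Finset.mem_of_mem_erase hi))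
      (by rw [← hsum, ← Finset.add_sum_erase _ _ hj]; ring) i (Finset.mem_erase.2 ⟨hij, hi⟩)
    have h4 := Finset.single_le_sum (f := fun j : ℕ => f (r - (j : ℚ)⁻¹)) (fun _ _ => Nat.zero_le _)
      (Finset.mem_range.2 (Nat.lt_add_one_of_le h2))
    omega

theorem landau_group (k : ℕ) : ∃ N : ℕ, ∀ (G : Type*) [Group G] [Finite G],
    Nat.card (ConjClasses G) ≤ k → Nat.card G ≤ N := by
  classical
  choose f hf using fun j => landau j 1
  refine ⟨∑ j ∈ Finset.range (k + 1), f j, fun G _ _ hk => ?_⟩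
  have := Fintype.ofFinite G
  have := Fintype.ofFinite (ConjClasses G)
  obtain ⟨e⟩ := Finite.card_eq.1 (Nat.card_fin (Nat.card (ConjClasses G)))
  have h0 : (Nat.card G : ℚ) ≠ 0 := by exact_mod_cast Nat.card_pos.ne'
  choose r hr using fun C : ConjClasses G => ConjClasses.mk_surjective C
  have h1 := hf (Nat.card (ConjClasses G)) _ Finset.univ (fun i => Nat.card (Ce1 (r (e i)))) (by simp)
    (fun _ _ => Nat.card_pos) (by
      rw [e.sum_comp fun C => ((Nat.card (Ce1 (r C)) : ℚ))⁻¹]
      have h2 := sum_conjClasses_card_eq_card G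
      apply mul_left_cancel₀ h0
      rw [← Nat.card_eq_fintype_card] at h2
      rw [mul_one, Finset.mul_sum]
      refine Eq.trans ?_ (congrArg Nat.cast h2)
      rw [Nat.cast_sum]
      refine Finset.sum_congr rfl fun C _ => ?_
      have h3 := card_isConj_mul_card_centralizer (r C)
      have h4 : (Nat.card (Ce1 (r C)) : ℚ) ≠ 0 := by exact_mod_cast Nat.card_pos.ne'
      rw [← h3, Nat.cast_mul, mul_inv_cancel_right₀ h4,
        ← Nat.card_eq_card_toFinset]
      congr 1
      refine Nat.card_congr (Equiv.subtypeEquivRight fun x => ?_)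
      rw [ConjClasses.mem_carrier_iff_mk_eq, isConj_comm, ← ConjClasses.mk_eq_mk_iff_isConj, hr]) (e.symm 1) (Finset.mem_univ _)
  have h5 : r 1 = 1 := isConj_one_left.1 (ConjClasses.mk_eq_mk_iff_isConj.1 (hr 1))
  simp only [Equiv.apply_symm_apply, h5] at h1
  rw [show Ce1 (1 : G) = ⊤ from eq_top_iff.2 fun x _ => mem_Ce1.2 (by simp), Subgroup.card_top] at h1
  exact h1.trans (Finset.single_le_sum (f := f) (fun _ _ => Nat.zero_le _)
    (Finset.mem_range.2 (Nat.lt_succ_of_le hk)))

/-- Let p be a prime and a a natural number. There is a bound N such that every finite group whose Sylow p-subgroups have order p^a and whose only p-block (relative to a maximal ideal of the algebraic integers containing p) is the principal block has order at most N. -/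
theorem result (p : ℕ) [Fact p.Prime] (a : ℕ) : ∃ N : ℕ, ∀ (G : Type u) [Group G] [Finite G] (M : Ideal Cfsg.AlgInt), Cfsg.IsPModular p M → (Nat.card G).factorization p = a → (∀ B : Set (Cfsg.IrrCharacter G), Cfsg.IsPBlock M B → B = Cfsg.principalBlock M G) → Nat.card G ≤ N := by
  obtain ⟨N, hN⟩ := landau_group (p ^ (2 * a) + 4)
  refine ⟨N, fun G _ _ M hM ha h => hN G ?_⟩
  haveI : PMod M p := ⟨hM⟩
  have := Fintype.ofFinite G
  have hB := isPBlock_principal (M := M) (G := G)
  have h1 := hB.brauer_feit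
  have h2 : fs (principalBlock M G) = Finset.univ := Finset.eq_univ_of_forall fun χ => by
    rw [mem_fs, ← h _ (isPBlock_blockOf χ)]; exact mem_blockOf_self χ
  have h3 := Finset.card_nsmul_le_sum (fs (principalBlock M G))
    (fun χ => p ^ (2 * blockHeight p (principalBlock M G) χ)) 1
    fun _ _ => Nat.one_le_pow _ _ (Fact.out : p.Prime).pos
  have h4 := defect_add_mnu (p := p) hB.nonempty
  have h5 : (p ^ blockDefect p (principalBlock M G)) ^ 2 ≤ p ^ (2 * a) := by
    rw [← pow_mul]
    exact Nat.pow_le_pow_right (Fact.out : p.Prime).pos (by omega)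
  rw [← card_irr_eq_card_conjClasses, Nat.card_eq_fintype_card, ← Finset.card_univ, ← h2]
  simp only [smul_eq_mul, mul_one] at h3
  omega

end Cfsg.Agent.S4718
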