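import Cfsg.Statements.S4719
import Cfsg.Agent.Lib.Block.KF
import Cfsg.Agent.Lib.Block.Quot
import Cfsg.Agent.Lib.Block.More
import Cfsg.Agent.S4717
import Cfsg.Agent.S4718

set_option autoImplicit false
universe u
open Cfsg

namespace Cfsg.Agent.S4719

open Cfsg.Agent.Blk
open Cfsg.Agent.Char hiding cj cj_mul cj_inv_cj cj_cj_inv
universe v

theorem quot {G H : Type*} [Group G] [Finite G] [Group H] [Finite H] {p : ℕ} {M : Ideal AlgInt}
    [PMod M p] {φ : G →* H} (hφ : Function.Surjective φ) (hk : Nat.card φ.ker = p)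
    (hc : ∀ g, g ∈ Ce φ.ker) {r : ℕ}
    (h : ∀ B : Set (IrrCharacter G), IsPBlock M B → B ≠ principalBlock M G → blockDefect p B < r + 1)
    (b : Set (IrrCharacter H)) (hb : IsPBlock M b) (hne : b ≠ principalBlock M H) :
    blockDefect p b < r := by
  haveI : Fact p.Prime := ⟨PMod.prime M⟩
  have hN : IsPGroup p φ.ker := IsPGroup.of_card (n := 1) (by rw [hk, pow_one])
  have hl := exists_lift_top_of_preg (M := M) hφ hN fun g _ => hc g
  obtain ⟨χ, hχ⟩ := hb.nonempty
  have hB := isPBlock_blockOf (M := M) (infl hφ χ)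
  obtain ⟨D, hD⟩ := hB.isBlock.exists_isDef p
  obtain ⟨ψ, h1, h2⟩ := hB.exists_infl_mem hφ hN hD
  rw [(blk_infl_eq_iff hφ hl).1 (mem_blockOf.1 h1), hb.blk_eq hχ] at h2
  have h3 := h _ hB fun e => hne (by
    have h4 : χ ∈ infl hφ ⁻¹' principalBlock M G := by
      rw [Set.mem_preimage, ← e]; exact mem_blockOf_self _
    rw [preimage_principal hφ hl] at h4
    exact hb.eq_of_mem isPBlock_principal hχ h4)
  have h4 : φ.ker ≤ D := hB.isBlock.le_of_isDef hD hN le_top (top_le_No _)
  have h5 : Nat.card (D.map φ) * p = Nat.card D := by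
    rw [← Subgroup.relIndex_ker, ← hk, Subgroup.relIndex,
      ← Subgroup.index_mul_card (φ.ker.subgroupOf D)]
    congr 1
    exact Nat.card_congr (Subgroup.subgroupOfEquivOfLe h4).toEquiv.symm
  rw [hb.card_isDef h2, hB.card_isDef hD, ← pow_succ] at h5
  have := Nat.pow_right_injective (Fact.out : p.Prime).two_le h5
  omega

theorem main (r a : ℕ) : ∃ N : ℕ, ∀ (G : Type v) [Group G] [Finite G] (M : Ideal AlgInt),
    IsPModular 2 M → (Nat.card G).factorization 2 ≤ a →
    (∀ B : Set (IrrCharacter G), IsPBlock M B → B ≠ principalBlock M G → blockDefect 2 B < r) →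
    ∀ E : Subgroup G, (∀ x ∈ E, x * x = 1) → 2 ^ (r + 1) ≤ Nat.card E → Nat.card G ≤ N := by
  induction r with
  | zero =>
    choose N hN using S4718.result.{v} 2
    refine ⟨∑ i ∈ Finset.range (a + 1), N i, fun G _ _ M hM ha h _ _ _ => ?_⟩
    refine (hN _ G M hM rfl fun B hB => ?_).trans
      (Finset.single_le_sum (f := N) (fun _ _ => Nat.zero_le _) (Finset.mem_range.2 (by omega)))
    by_contra hne
    exact absurd (h B hB hne) (Nat.not_lt_zero _)
  | succ r ih =>
    obtain ⟨N, hN⟩ := ih
    obtain ⟨N', hN'⟩ := KF.exists_bound.{v} (N * 2)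
    refine ⟨N', fun G _ _ M hM ha h E hE hc => ?_⟩
    haveI : PMod M 2 := ⟨hM⟩
    have hcomm : ∀ x ∈ E, ∀ y ∈ E, x * y = y * x := by
      intro x hx y hy
      have h1 := inv_eq_of_mul_eq_one_right (hE _ (E.mul_mem hx hy))
      rw [mul_inv_rev, inv_eq_of_mul_eq_one_right (hE x hx),
        inv_eq_of_mul_eq_one_right (hE y hy)] at h1
      exact h1.symm
    have hord : ∀ t ∈ E, t ≠ 1 → orderOf t = 2 := fun t ht h1 =>
      orderOf_eq_prime (by rw [pow_two, hE t ht]) h1
    have key : ∀ t ∈ E, t ≠ 1 → Nat.card (Subgroup.centralizer ({t} : Set G)) ≤ N * 2 := by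
      intro t ht h1
      have h2 := (S4717.result 2 M hM (r + 1)).1 h t ⟨1, by rw [hord t ht h1, pow_one]⟩
      have hEC : E ≤ Subgroup.centralizer ({t} : Set G) := fun x hx =>
        KF.mem_cent.2 (hcomm x hx t ht)
      generalize hC : Subgroup.centralizer ({t} : Set G) = C at h2 hEC
      have hC' : ∀ g ∈ C, g * t = t * g := fun g hg => KF.mem_cent.1 (hC ▸ hg)
      let t' : C := ⟨t, hEC ht⟩
      have h3 : ∀ g : C, g ∈ Ce (Subgroup.zpowers t') := by
        intro g
        rw [Subgroup.mem_centralizer_iff]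
        rintro _ ⟨k, rfl⟩
        exact (Commute.zpow_left (show Commute t' g from Subtype.ext (hC' g g.2).symm) k).eq
      haveI : (Subgroup.zpowers t').Normal := ⟨fun x hx g => by
        have := Subgroup.mem_centralizer_iff.1 (h3 g) x hx
        rwa [← this, mul_inv_cancel_right]⟩
      have h4 : Nat.card (Subgroup.zpowers t') = 2 := by
        rw [Nat.card_zpowers, ← Subgroup.orderOf_coe]; exact hord t ht h1
      have hφ := QuotientGroup.mk'_surjective (Subgroup.zpowers t')
      have h5 := quot (M := M) (p := 2) hφ (by rw [QuotientGroup.ker_mk', h4])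
        (by rw [QuotientGroup.ker_mk']; exact h3) h2
      have h6 : Nat.card C = Nat.card (C ⧸ Subgroup.zpowers t') * 2 := by
        rw [← h4]; exact Subgroup.card_eq_card_quotient_mul_card_subgroup _
      rw [h6]
      refine Nat.mul_le_mul_right _ (hN _ M hM (le_trans ?_ ha) h5
        ((E.subgroupOf C).map (QuotientGroup.mk' _)) ?_ ?_)
      · have : Nat.card (C ⧸ Subgroup.zpowers t') ∣ Nat.card G :=
          (Dvd.intro _ h6.symm).trans (Subgroup.card_subgroup_dvd_card C)
        exact (Nat.factorization_le_iff_dvd Nat.card_pos.ne' Nat.card_pos.ne').2 this 2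
      · rintro _ ⟨x, hx, rfl⟩
        rw [← map_mul, show x * x = 1 from Subtype.ext (hE _ hx), map_one]
      · have h7 : Nat.card (E.subgroupOf C) = Nat.card E :=
          Nat.card_congr (Subgroup.subgroupOfEquivOfLe hEC).toEquiv
        have h8 := Subgroup.index_mul_card ((Subgroup.zpowers t').subgroupOf (E.subgroupOf C))
        have h9 : Nat.card ((Subgroup.zpowers t').subgroupOf (E.subgroupOf C)) = 2 := by
          rw [← h4]
          exact Nat.card_congr (Subgroup.subgroupOfEquivOfLe
            (Subgroup.zpowers_le.2 (show t' ∈ E.subgroupOf C from ht))).toEquiv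
        rw [← Subgroup.relIndex_ker, QuotientGroup.ker_mk', Subgroup.relIndex]
        rw [h9, h7] at h8
        rw [pow_succ] at hc
        omega
    have h4 : 4 ≤ Nat.card E := le_trans (by
      have := Nat.pow_le_pow_right (show 0 < 2 by norm_num) (show 2 ≤ r + 1 + 1 by omega)
      omega) hc
    obtain ⟨t, ht, ht1⟩ : ∃ t ∈ E, t ≠ 1 := by
      by_contra hn
      push Not at hn
      rw [(Subgroup.eq_bot_iff_forall E).2 hn, Subgroup.card_bot] at h4
      omega
    obtain ⟨w, hw, hw1⟩ : ∃ w ∈ E, w ∉ Subgroup.zpowers t := by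
      by_contra hn
      push Not at hn
      have := Subgroup.card_le_of_le (show E ≤ Subgroup.zpowers t from hn)
      rw [Nat.card_zpowers, hord t ht ht1] at this
      omega
    refine hN' G t w ⟨hE t ht, hE w hw, hcomm t ht w hw, key t ht ht1,
      key w hw (fun e => hw1 (e ▸ one_mem _)), key _ (E.mul_mem ht hw) fun e => hw1 ?_⟩
    rw [← inv_eq_of_mul_eq_one_right e]
    exact inv_mem (Subgroup.mem_zpowers t)

/-- For every natural number a there is a bound N with the following property. Let G be a finite group with Sylow 2-subgroups of order 2^a and r ≥ 0 such that G has no non-principal 2-block (relative to a maximal ideal of the algebraic integers containing 2) of defect ≥ r, and suppose a Sylow 2-subgroup of G contains an elementary abelian subgroup of order 2^(r+1). Then the order of G is at most N. -/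
theorem result (a : ℕ) : ∃ N : ℕ, ∀ (G : Type u) [Group G] [Finite G] (M : Ideal Cfsg.AlgInt) (r : ℕ) (P : Sylow 2 G), Cfsg.IsPModular 2 M → Nat.card P = 2 ^ a → (∀ B : Set (Cfsg.IrrCharacter G), Cfsg.IsPBlock M B → B ≠ Cfsg.principalBlock M G → Cfsg.blockDefect 2 B < r) → (∃ E : Subgroup G, E ≤ (P : Subgroup G) ∧ IsMulCommutative E ∧ (∀ x ∈ E, x * x = 1) ∧ Nat.card E = 2 ^ (r + 1)) → Nat.card G ≤ N := by
  choose N hN using fun r => main.{u} r a
  refine ⟨∑ i ∈ Finset.range (a + 1), N i, fun G _ _ M r P hM hP h ⟨E, h1, _, h2, h3⟩ => ?_⟩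
  have h4 := Subgroup.card_le_of_le h1
  rw [hP, h3, Nat.pow_le_pow_iff_right (by norm_num)] at h4
  refine (hN r G M hM ?_ h E h2 h3.ge).trans
    (Finset.single_le_sum (f := N) (fun _ _ => Nat.zero_le _) (Finset.mem_range.2 (by omega)))
  rw [P.card_eq_multiplicity] at hP
  exact (Nat.pow_right_injective le_rfl hP).le

end Cfsg.Agent.S4719
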