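import Cfsg.Statements.S4721
import Cfsg.Agent.Lib.Block.Glue
import Cfsg.Agent.Lib.Block.Homo
import Cfsg.Agent.Lib.Transfer.Col

set_option autoImplicit false
open Cfsg

namespace Cfsg.Agent.S4721

open Cfsg.Agent.Blk
open Cfsg.Agent.Char hiding cj cj_mul cj_inv_cj cj_cj_inv
open scoped ComplexConjugate

theorem alg {a b c y z w : ℤ} {m n k : ℕ} (ha : a = 1 ∨ a = -1) (hb : b = 1 ∨ b = -1)
    (hc : c = 1 ∨ c = -1) (hm : m ≠ 0) (hn : n ≠ 0) (hk : k ≠ 0)
    (h1 : (1 + a * m + b * n + c * k : ℚ) = 0) (h2 : (1 + a * y + b * z + c * w : ℚ) = 0)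
    (h3 : (1 + a * (y ^ 2 / m) + b * (z ^ 2 / n) + c * (w ^ 2 / k) : ℚ) = 0) (hz : (z : ℚ) ≠ n) :
    a * b * c = 1 ∧ ¬ (a = 1 ∧ b = 1 ∧ c = 1) ∧ IsSquare (k * (m * n)) := by
  have hm' : (0 : ℚ) < m := by positivity
  have hn' : (0 : ℚ) < n := by positivity
  have hk' : (0 : ℚ) < k := by positivity
  obtain ⟨u, hu⟩ : ∃ u : ℚ, (y : ℚ) = m * (u + 1) := ⟨y / m - 1, by field_simp; ring⟩
  obtain ⟨v, hv⟩ : ∃ u : ℚ, (z : ℚ) = n * (u + 1) := ⟨z / n - 1, by field_simp; ring⟩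
  obtain ⟨s, hs⟩ : ∃ u : ℚ, (w : ℚ) = k * (u + 1) := ⟨w / k - 1, by field_simp; ring⟩
  have hv0 : v ≠ 0 := fun h => hz (by rw [hv, h]; ring)
  have e1 : (y : ℚ) ^ 2 / m = m * (u + 1) ^ 2 := by rw [hu]; field_simp
  have e2 : (z : ℚ) ^ 2 / n = n * (v + 1) ^ 2 := by rw [hv]; field_simp
  have e3 : (w : ℚ) ^ 2 / k = k * (s + 1) ^ 2 := by rw [hs]; field_simp
  rw [e1, e2, e3] at h3
  rw [hu, hv, hs] at h2
  set A : ℚ := a * m with hA
  set B : ℚ := b * n with hB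
  set C : ℚ := c * k with hC
  have f1 : A * u + B * v + C * s = 0 := by rw [hA, hB, hC] at *; linear_combination h2 - h1
  have f2 : A * u ^ 2 + B * v ^ 2 + C * s ^ 2 = 0 := by
    rw [hA, hB, hC] at *; linear_combination h3 - 2 * h2 + h1
  have f3 : A * B * C = (((A ^ 2 + A * C) * u + A * B * v) / v) ^ 2 := by
    field_simp
    have g1 : C * s = -(A * u + B * v) := by linear_combination f1
    have g2 : (A ^ 2 + A * C) * u ^ 2 + 2 * A * B * u * v + (B ^ 2 + B * C) * v ^ 2 = 0 := by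
      linear_combination C * f2 - (C * s - (A * u + B * v)) * g1
    linear_combination (-(A ^ 2 + A * C)) * g2 + A * B * C * v ^ 2 * h1
  have f4 : A * B * C = (a * b * c : ℤ) * (k * (m * n) : ℕ) := by
    rw [hA, hB, hC]; push_cast; ring
  have f5 : (0 : ℚ) < (k * (m * n) : ℕ) := by positivity
  have f6 : a * b * c = 1 := by
    have : a * b * c = 1 ∨ a * b * c = -1 := by
      rcases ha with rfl | rfl <;> rcases hb with rfl | rfl <;> rcases hc with rfl | rfl <;> simp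
    refine this.resolve_right fun h => ?_
    rw [h] at f4
    have := sq_nonneg (((A ^ 2 + A * C) * u + A * B * v) / v)
    rw [← f3, f4] at this
    push_cast at this f5
    linarith
  refine ⟨f6, fun ⟨g1, g2, g3⟩ => ?_, ?_⟩
  · rw [hA, hB, hC, g1, g2, g3] at h1
    push_cast at h1
    linarith
  · rw [f6, Int.cast_one, one_mul, f3] at f4
    exact Rat.isSquare_natCast_iff.1 ⟨_, f4.symm.trans (sq _)⟩

open Classical in
theorem sum_eta {W : Type*} [Group W] [Fintype W] {E : Subgroup (MulAut W)} (hE : FreeAut E)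
    (hc : ∀ a b : W, a * b = b * a) {t u : W}
    (hu : ∀ σ ∈ E, ∀ ρ ∈ E, ∀ τ ∈ E, ρ t * τ t ≠ σ u) :
    ∑ l ∈ Finset.univ.erase (1 : W →* ℂˣ), eta E l t ^ 2 * conj (eta E l u) =
      -(Nat.card E : ℂ) ^ 3 := by
  have := Fintype.ofFinite E
  have h1 : ∑ l : W →* ℂˣ, (∑ σ : E, (l (σ.1 t) : ℂ)) ^ 2 * conj (∑ σ : E, (l (σ.1 u) : ℂ)) = 0 := by
    simp only [sq, map_sum, Finset.sum_mul, Finset.mul_sum]
    refine Finset.sum_comm.trans (Finset.sum_eq_zero fun σ _ => Finset.sum_comm.trans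
      (Finset.sum_eq_zero fun τ _ => Finset.sum_comm.trans (Finset.sum_eq_zero fun ρ _ => ?_)))
    have h2 := sum_lc hc (ρ.1 t * τ.1 t * (σ.1 u)⁻¹)
    rw [if_neg fun h => hu σ σ.2 ρ ρ.2 τ τ.2 (mul_inv_eq_one.1 h)] at h2
    rw [← h2]
    refine Finset.sum_congr rfl fun l _ => ?_
    rw [map_mul, map_mul, map_inv, Units.val_mul, Units.val_mul, Units.val_inv_eq_inv_val,
      eq_inv_of_mul_eq_one_right (lc_mul_conj l _)]
  rw [← Finset.add_sum_erase _ _ (Finset.mem_univ 1)] at h1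
  rw [Finset.sum_congr rfl fun l hl => by
    rw [hE.eta_apply hc (Finset.mem_erase.1 hl).1, hE.eta_apply hc (Finset.mem_erase.1 hl).1],
    eq_neg_of_add_eq_zero_right h1]
  simp [pow_succ]

open Classical in
theorem sum_eta1 {W : Type*} [Group W] [Fintype W] {E : Subgroup (MulAut W)} (hE : FreeAut E)
    (hc : ∀ a b : W, a * b = b * a) {u : W} (hu : u ≠ 1) :
    ∑ l ∈ Finset.univ.erase (1 : W →* ℂˣ), eta E l u = -(Nat.card E : ℂ) := by
  have := Fintype.ofFinite E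
  rw [Finset.sum_congr rfl fun l hl => hE.eta_apply hc (Finset.mem_erase.1 hl).1 u,
    Finset.sum_comm, Finset.sum_congr rfl fun σ _ => sum_erase_lc hc (u := σ.1 u)
      (by rwa [Ne, MulEquiv.map_eq_one_iff])]
  simp

theorem exists_good {W : Type*} [Group W] [Fintype W] {E : Subgroup (MulAut W)}
    (hE : Nat.card E = 3) (hc : ∀ a b : W, a * b = b * a) (h4 : 4 < Nat.card W) {t : W}
    (ht : t * t = 1) : ∃ u, u ≠ 1 ∧ ∀ σ ∈ E, ∀ ρ ∈ E, ∀ τ ∈ E, ρ t * τ t ≠ σ u := by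
  classical
  have := Fintype.ofFinite E
  rw [Nat.card_eq_fintype_card, ← Finset.card_univ] at hE h4
  obtain ⟨α, β, γ, -, -, -, h⟩ := Finset.card_eq_three.1 hE
  obtain ⟨u, -, hu⟩ := Finset.exists_mem_notMem_of_card_lt_card
    (s := ({1, α.1 t * β.1 t, α.1 t * γ.1 t, β.1 t * γ.1 t} : Finset W))
    (Finset.card_le_four.trans_lt h4)
  simp only [Finset.mem_insert, Finset.mem_singleton, not_or] at hu
  refine ⟨u, hu.1, fun σ hσ ρ hρ τ hτ h1 => ?_⟩
  have h2 : u = (σ⁻¹ * ρ) t * (σ⁻¹ * τ) t := by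
    rw [MulAut.mul_apply, MulAut.mul_apply, ← map_mul, h1, MulAut.inv_apply_self]
  have h3 : ∀ x : E, x = α ∨ x = β ∨ x = γ := fun x => by simpa [h] using Finset.mem_univ x
  have h5 : ∀ x : MulAut W, x t * x t = 1 := fun x => by rw [← map_mul, ht, map_one]
  obtain ⟨k1, k2, k3, k4⟩ := hu
  rcases h3 ⟨_, E.mul_mem (E.inv_mem hσ) hρ⟩ with e | e | e <;>
  rcases h3 ⟨_, E.mul_mem (E.inv_mem hσ) hτ⟩ with f | f | f <;>
  rw [show σ⁻¹ * ρ = _ from congrArg Subtype.val e, show σ⁻¹ * τ = _ from congrArg Subtype.val f] at h2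
  exacts [k1 (h2.trans (h5 _)), k2 h2, k3 h2, k2 (h2.trans (hc _ _)), k1 (h2.trans (h5 _)), k4 h2,
    k3 (h2.trans (hc _ _)), k4 (h2.trans (hc _ _)), k1 (h2.trans (h5 _))]

/-- Let p be a prime, M a maximal ideal of the algebraic integers containing p, and G a finite group with a nontrivial abelian Sylow p-subgroup P, N = N_G(P), C = C_G(P), such that N/C is cyclic of order 3, #P > 4, and C_G(y) ∩ N = C for every non-identity y ∈ P. Then the principal p-block is the disjoint union of a set X of exactly 3 characters containing the principal character and a set Y of (#P − 1)/3 characters, with signs a_χ = ±1 (χ ∈ X, a = 1 at the principal character) and δ = ±1 such that every χ ∈ X takes the value a_χ at every element whose p-part is a non-identity element of P, and there is a map ζ from the non-principal linear characters of P onto Y, constant on N-conjugacy classes, with ζ_ψ(z) = δ·Σ ψ'(y) over the N-orbit of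 ψ, for z with p-part y ≠ 1 in P. If moreover G has an involution lying in no proper normal subgroup of G, then exactly two of the three numbers −δ and a_χ (χ ∈ X non-principal) equal −1, and the product of the degrees of the two non-principal members of X and of any member of Y is a perfect square. -/
theorem result {G : Type*} [Group G] [Finite G] (p : ℕ) [Fact p.Prime] (M : Ideal Cfsg.AlgInt) (hM : Cfsg.IsPModular p M) (P : Sylow p G) (hab : IsMulCommutative P) (hP1 : Nat.card P ≠ 1) (hCN : (Subgroup.centralizer ((P : Subgroup G) : Set G)).relIndex (Subgroup.normalizer ((P : Subgroup G) : Set G)) = 3) (hcyc : ∃ g : G, g ∈ Subgroup.normalizer ((P : Subgroup G) : Set G) ∧ Subgroup.centralizer ((P : Subgroup G) : Set G) ⊔ Subgroup.zpowers g = Subgroup.normalizer ((P : Subgroup G) : Set G)) (hm2 : 3 + 1 < Nat.card P) (hfrob : ∀ y : G, y ∈ (P : Subgroup G) → y ≠ 1 → Subgroup.centralizer ({y} : Set G) ⊓ Subgroup.normalizer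 ((P : Subgroup G) : Set G) = Subgroup.centralizer ((P : Subgroup G) : Set G)) : ∃ (X Y : Set (Cfsg.IrrCharacter G)), Cfsg.principalBlock M G = X ∪ Y ∧ Disjoint X Y ∧ Nat.card X = 3 ∧ Nat.card Y = (Nat.card P - 1) / 3 ∧ (∃ χ₁ ∈ X, (χ₁ : G → ℂ) = fun _ => 1) ∧ ∃ (a : Cfsg.IrrCharacter G → ℤ) (δ : ℤ) (ζ : (↥(P : Subgroup G) →* ℂˣ) → Cfsg.IrrCharacter G), (δ = 1 ∨ δ = -1) ∧ (∀ χ ∈ X, (a χ = 1 ∨ a χ = -1) ∧ ∀ z y : G, Cfsg.IsPPart p z y → y ∈ (P : Subgroup G) → y ≠ 1 → (χ : G → ℂ) z = (a χ : ℂ)) ∧ (∀ ψ : ↥(P : Subgroup G) →* ℂˣ, ψ ≠ 1 → ζ ψ ∈ Y) ∧ (∀ η ∈ Y, ∃ ψ : ↥(P : Subgroup G) →* ℂˣ, ψ ≠ 1 ∧ ζ ψ = η) ∧ (∀ ψ ψ' : ↥(P : Subgroup G) →* ℂˣ, ψ ≠ 1 → (∃ n : G, n ∈ Subgroup.normalizer ((P : Subgroup G) : Set G) ∧ ∀ w w' : ↥(P : Subgroup G), (w' : G) = n * w * n⁻¹ → ψ' w' = ψ w) → ζ ψ' = ζ ψ) ∧ (∀ ψ : ↥(P : Subgroup G) →* ℂˣ, ψ ≠ 1 → ∀ (z : G) (y : ↥(P : Subgroup G)), Cfsg.IsPPart p z (y : G) → (y : G) ≠ 1 → (ζ ψ : G →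 ℂ) z = (δ : ℂ) * ∑ᶠ ψ' ∈ {ψ' : ↥(P : Subgroup G) →* ℂˣ | ∃ n : G, n ∈ Subgroup.normalizer ((P : Subgroup G) : Set G) ∧ ∀ w w' : ↥(P : Subgroup G), (w' : G) = n * w * n⁻¹ → ψ' w' = ψ w}, ((ψ' y : ℂˣ) : ℂ)) ∧ ((∃ t : G, orderOf t = 2 ∧ ∀ K : Subgroup G, K.Normal → t ∈ K → K = ⊤) → Nat.card {χ : Cfsg.IrrCharacter G // χ ∈ X ∧ (χ : G → ℂ) ≠ (fun _ => 1) ∧ a χ = -1} + (if δ = 1 then 1 else 0) = 2 ∧ ∀ η ∈ Y, IsSquare (Cfsg.charDegree (η : G → ℂ) * ∏ᶠ χ ∈ {χ : Cfsg.IrrCharacter G | χ ∈ X ∧ (χ : G → ℂ) ≠ fun _ => 1}, Cfsg.charDegree (χ : G → ℂ))) := by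
  haveI : PMod M p := ⟨hM⟩
  classical
  have := Fintype.ofFinite (P : Subgroup G)
  have hS := isSyl_sylow P
  have hc : (P : Subgroup G) ≤ Ce P := fun x hx => mem_Ce.2 fun y hy =>
    congrArg Subtype.val (hab.1.1 (⟨y, hy⟩ : (P : Subgroup G)) ⟨x, hx⟩)
  have hf : FA p (principalBlock M G) P (e0 M P) := fa_principal hS hc fun t ht u hu h1 h2 => by
    have : t ∈ Ce1 u ⊓ No (P : Subgroup G) := ⟨mem_Ce1.2 (mul_inv_eq_iff_eq_mul.1 h2), ht⟩
    rwa [hfrob u hu h1] at this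
  have hE := card_autE_principal (M := M) (P := (P : Subgroup G))
  rw [hCN] at hE
  have hd := hf.exd_principal
  have : Nontrivial (P : Subgroup G) := Finite.one_lt_card_iff_nontrivial.1 (by omega)
  obtain ⟨u, hu⟩ := exists_ne (1 : (P : Subgroup G))
  have hP0 : (P : Subgroup G) ≠ ⊥ := (Subgroup.nontrivial_iff_ne_bot _).1 this
  obtain ⟨-, -, c3, c4⟩ := hf.counts hP0
  have c5 := c3.2 (c4 hE.le)
  obtain ⟨δ₀, d₀, ζ₀, a₀, hx₀⟩ := hd.exists_exc ⟨_, irrOne_mem_principal⟩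
  have c6 := hx₀.card_exc hd
  rw [hE] at c5 c6
  obtain ⟨δ, ζ, a, hx, hX3, ha, -⟩ := hd.exists_exc_zero hu irrOne_mem_principal (by
    rw [hE, c5]; omega)
  clear hx₀ c6 c3 c4
  have h1 := hx.card_exc hd
  rw [hE] at h1 hX3
  have h2 : (Nat.card (P : Subgroup G) - 1) / 3 = (excSet ζ).card := by omega
  have h3 : 1 < (excSet ζ).card := by omega
  have h4 : ∀ ψ ψ' : (P : Subgroup G) →* ℂˣ, (∃ n : G, n ∈ No (P : Subgroup G) ∧
      ∀ w w' : (P : Subgroup G), (w' : G) = n * w * n⁻¹ → ψ' w' = ψ w) ↔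
      Orb (autE (P : Subgroup G) (e0 M (P : Subgroup G))) ψ ψ' := fun ψ ψ' => by
    rw [orb_comm]
    constructor
    · rintro ⟨n, hn, h⟩
      obtain ⟨σ, hσ, h5⟩ := exists_autE (e := e0 M (P : Subgroup G)) (by rwa [stab_principal])
      exact ⟨σ, hσ, MonoidHom.ext fun w => h w _ (h5 w)⟩
    · rintro ⟨σ, hσ, rfl⟩
      obtain ⟨n, hn, h5⟩ := mem_autE_principal.1 hσ
      exact ⟨n, hn, fun w w' h => by rw [lcomp_apply, Subtype.ext ((h5 w).trans h.symm)]⟩
  have h5 : ∀ χ, χ ∈ fs (principalBlock M G) \ excSet ζ ↔ χ ∈ principalBlock M G ∧ χ ∉ excSet ζ :=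
    fun χ => by rw [Finset.mem_sdiff, mem_fs]
  have h6 : irrOne G ∈ fs (principalBlock M G) \ excSet ζ := (h5 _).2 ⟨irrOne_mem_principal,
      hx.notMem_of_const h3 (c := 1) fun _ _ => rfl⟩
  have hv : ∀ χ ∈ fs (principalBlock M G) \ excSet ζ, ∀ v : (P : Subgroup G), v ≠ 1 →
      χ.1 v = a χ := fun χ hχ v h =>
    hx.nexc χ ((h5 χ).1 hχ).1 (notMem_excSet.1 ((h5 χ).1 hχ).2) v h
  refine ⟨↑(fs (principalBlock M G) \ excSet ζ), ↑(excSet ζ), ?_,
    Finset.disjoint_coe.2 Finset.sdiff_disjoint, (Nat.card_eq_finsetCard _).trans hX3,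
    (Nat.card_eq_finsetCard _).trans h2.symm, ⟨irrOne G, h6, rfl⟩, a, δ, ζ, hx.sign,
    fun χ hχ => ⟨ha χ ((h5 χ).1 hχ).1 ((h5 χ).1 hχ).2, fun z y hz hy hy1 => ?_⟩,
    fun ψ hψ => EXC.mem_exc ζ hψ, fun η hη => mem_excSet.1 hη, fun ψ ψ' hψ h => ?_,
    fun ψ hψ z y hz hy => ?_, ?_⟩
  · rw [← Finset.coe_union, Finset.sdiff_union_of_subset hx.subset, coe_fs]
  · rw [hf.apply_principal hz hy hy1 ((h5 χ).1 hχ).1]
    exact hv χ hχ ⟨y, hy⟩ fun h => hy1 (congrArg Subtype.val h)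
  · rw [h4] at h
    exact ((hx.inj _ _ hψ (h.ne_one hψ)).2 h).symm
  · rw [hf.apply_principal hz y.2 hy (hx.mem ψ hψ)]
    simp only [h4]
    rw [← eta_eq_finsum]
    simpa using hx.exc ψ hψ y fun h => hy (congrArg Subtype.val h)
  rintro ⟨t, ht, hgen⟩
  have ht2 : t * t = 1 := by rw [← sq, ← ht, pow_orderOf_eq_one]
  obtain ⟨χ₂, χ₃, h9, h10⟩ := Finset.card_eq_two.1 (show ((fs (principalBlock M G) \ excSet ζ).erase
    (irrOne G)).card = 2 by rw [Finset.card_erase_of_mem h6]; omega)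
  have m2 := Finset.mem_erase.1 (h10 ▸ (by simp : χ₂ ∈ ({χ₂, χ₃} : Finset _)))
  have m3 := Finset.mem_erase.1 (h10 ▸ (by simp : χ₃ ∈ ({χ₂, χ₃} : Finset _)))
  have a1 : (a (irrOne G) : ℂ) = 1 := (hv _ h6 u hu).symm
  have hδ : (δ : ℂ) ^ 2 = 1 := by rcases hx.sign with h | h <;> simp [h]
  have hcj : ∀ v w : (P : Subgroup G), v ≠ 1 → IsConj (v : G) w →
      ∃ σ ∈ autE (P : Subgroup G) (e0 M (P : Subgroup G)), σ v = w := fun v w h1 h => by
    have hw : w ≠ 1 := by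
      rintro rfl
      exact h1 (Subtype.ext (isConj_one_left.1 h))
    by_contra h'
    have e1 := hd.orth v w h1 hw
    have e2 := hd.orth v v h1 h1
    rw [if_neg h'] at e1
    rw [if_pos ⟨1, one_mem _, rfl⟩] at e2
    simp only [fun χ : IrrCharacter G => (χ.2.isClassFunction.eq_of_isConj h).symm] at e1
    exact card_ne_zero' _ (e2.symm.trans e1)
  have hb : Transfer.b0 M G = fs (principalBlock M G) := by ext; rw [Transfer.mem_b0, mem_fs]
  have hrel : ∀ l, l ≠ 1 → ∀ g : G, ¬ p ∣ orderOf g →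
      1 + a χ₂ * χ₂.1 g + a χ₃ * χ₃.1 g + -δ * (ζ l).1 g = 0 := fun l hl g hg => by
    have h11 := congrFun (hx.reg_rel hd hl) g
    rw [← Finset.add_sum_erase _ _ h6, h10, Finset.sum_pair h9] at h11
    simp only [Pi.add_apply, Pi.smul_apply, reg_of_preg hg, smul_eq_mul, a1,
      Pi.zero_apply, show (irrOne G).1 g = 1 from rfl] at h11
    push_cast at h11
    linear_combination h11
  obtain ⟨y, hy⟩ := Transfer.exists_int_of_invol χ₂ ht2
  obtain ⟨z, hz⟩ := Transfer.exists_int_of_invol χ₃ ht2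
  have key : ∀ l, l ≠ 1 → ∃ w : ℤ, (1 + a χ₂ * y + a χ₃ * z + -δ * w : ℂ) = 0 ∧
      1 + a χ₂ * (y ^ 2 / χ₂.1 1) + a χ₃ * (z ^ 2 / χ₃.1 1) + -δ * (w ^ 2 / (ζ l).1 1) = 0 := by
    intro l hl
    have hr : ∀ l', l' ≠ 1 → ∀ g : G, ¬ p ∣ orderOf g → (ζ l').1 g = (ζ l).1 g :=
      fun l' hl' g hg => by
        simpa only [reg_of_preg hg] using congrFun (hx.reg_eq hd hl' hl) g
    by_cases hp : p = 2
    · obtain ⟨g, hg⟩ := Transfer.exists_conj_mem_sylow P (k := 1) (x := t) (by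
        rw [pow_one, hp, sq, ht2])
      set s : (P : Subgroup G) := ⟨_, hg⟩ with hs
      have hs1 : s ≠ 1 := fun h => by
        have : g * t * g⁻¹ = 1 := congrArg Subtype.val h
        rw [conj_eq_one_iff] at this
        simp [this] at ht
      have hts : IsConj t s := isConj_iff.2 ⟨g, rfl⟩
      have hs2 : s * s = 1 := Subtype.ext (Transfer.conj_mul_self ht2 g)
      obtain ⟨v, hv1, hv2⟩ := exists_good hE hd.comm (by omega) hs2
      have h12 := Transfer.b0_class_mul (M := M) (a := t) (b := t) (x := (v : G))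
        (fun a' b' z' ha' hb' hz' hvz => ?_) (isPPart_self (hf.pelt v.2)) (IsConj.refl _)
      swap
      · obtain ⟨c, rfl⟩ := isConj_iff.1 ha'
        obtain ⟨d, rfl⟩ := isConj_iff.1 hb'
        set a' := c * t * c⁻¹
        set b' := d * t * d⁻¹
        have e1 : a' * a' = 1 := Transfer.conj_mul_self ht2 c
        have e2 : b' * b' = 1 := Transfer.conj_mul_self ht2 d
        have e3 := Transfer.inverts_of_mem_zpowers (Transfer.inverts_mul_left e1 e2) hz'.mem_zpowers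
        have e4 : IsConj t (z' * a') := by
          obtain ⟨i, hi⟩ := hz'.mem_zpowers
          have hi : (a' * b') ^ i = z' := hi
          rcases Transfer.conj_or_conj_of_zpow_mul e1 e2 i with ⟨k, -, h⟩ | ⟨k, -, h⟩
          · exact ha'.trans (isConj_iff.2 ⟨k, hi ▸ h⟩)
          · exact hb'.trans (isConj_iff.2 ⟨k, hi ▸ h⟩)
        obtain ⟨x, -, hx'⟩ := hS.exists_cs_le (isPGroup_sup (isPGroup_zpowers (x := a')
          ⟨1, by rw [← orderOf_of_isConj ha', ht, hp, pow_one]⟩) hz'.isPGroup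
          (Subgroup.zpowers_le.2 (mem_No_of_forall fun v hv => by
            obtain ⟨k, rfl⟩ := Subgroup.mem_zpowers_iff.1 hv
            rw [← conj_zpow, e3]
            exact Subgroup.zpow_mem _ (Subgroup.inv_mem _ (Subgroup.mem_zpowers _)) _))) le_top
        have f1 := hx' (conj_mem_cs.2 (Subgroup.mem_sup_left (Subgroup.mem_zpowers a')))
        have f2 := hx' (conj_mem_cs.2 (Subgroup.mem_sup_right (Subgroup.mem_zpowers z')))
        obtain ⟨σ, hσ, g1⟩ := hcj v ⟨_, f2⟩ hv1 (hvz.trans (isConj_iff.2 ⟨x, rfl⟩))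
        obtain ⟨τ, hτ, g2⟩ := hcj s ⟨_, f1⟩ hs1 (hts.symm.trans (ha'.trans (isConj_iff.2 ⟨x, rfl⟩)))
        obtain ⟨ρ, hρ, g3⟩ := hcj s (⟨_, f2⟩ * ⟨_, f1⟩) hs1 (hts.symm.trans (e4.trans
          (isConj_iff.2 ⟨x, by simp [mul_assoc]⟩)))
        refine hv2 σ hσ ρ hρ τ hτ ?_
        rw [g1, g2, g3, mul_assoc, ← g2, ← map_mul, hs2, map_one, mul_one]
      have e : ∀ χ : IrrCharacter G, χ.1 t = χ.1 s := fun χ => χ.2.isClassFunction.eq_of_isConj hts
      rw [hb, ← Finset.sum_sdiff hx.subset, ← Finset.add_sum_erase _ _ h6, h10, Finset.sum_pair h9,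
        hv _ h6 _ hv1, hv _ m2.2 _ hv1, hv _ m3.2 _ hv1, hy, hz] at h12
      have h13 := hx.sum_exc hd fun χ => χ.1 t * χ.1 t / χ.1 1 * conj (χ.1 v)
      rw [Finset.sum_congr (s₁ := Finset.univ.erase 1) rfl fun l' hl' => show _ = δ / (ζ l).1 1 *
        (eta (autE (P : Subgroup G) (e0 M (P : Subgroup G))) l' s ^ 2 *
          conj (eta (autE (P : Subgroup G) (e0 M (P : Subgroup G))) l' v)) by
          have hl' := (Finset.mem_erase.1 hl').1
          rw [e, hx.exc l' hl' s hs1, hx.exc l' hl' v hv1, hr l' hl' 1 preg_one]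
          simp only [Int.cast_zero, zero_add, map_mul, map_intCast]
          linear_combination δ / (ζ l).1 1 *
            (eta (autE (P : Subgroup G) (e0 M (P : Subgroup G))) l' s ^ 2 *
            conj (eta (autE (P : Subgroup G) (e0 M (P : Subgroup G))) l' v)) * hδ,
        ← Finset.mul_sum, sum_eta hd.free hd.comm hv2, hE, nsmul_eq_mul] at h13
      rw [e, hv _ m2.2 _ hs1] at hy
      rw [e, hv _ m3.2 _ hs1] at hz
      have b2 : (a χ₂ : ℂ) ^ 2 = 1 := by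
        rcases ha _ ((h5 _).1 m2.2).1 ((h5 _).1 m2.2).2 with h | h <;> simp [h]
      have b3 : (a χ₃ : ℂ) ^ 2 = 1 := by
        rcases ha _ ((h5 _).1 m3.2).1 ((h5 _).1 m3.2).2 with h | h <;> simp [h]
      refine ⟨3 * δ, ?_, ?_⟩
      · rw [← hy, ← hz]; push_cast; linear_combination b2 + b3 - 3 * hδ
      · simp only [map_intCast, a1, show ∀ g, (irrOne G).1 g = 1 from fun _ => rfl, map_one] at h12
        push_cast at h13 ⊢
        linear_combination h12 - h13 / 3 - 9 * δ / (ζ l).1 1 * hδ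
    · have hpt : ¬ p ∣ orderOf t := fun h => hp ((Nat.prime_dvd_prime_iff_eq Fact.out
        Nat.prime_two).1 (ht ▸ h))
      obtain ⟨w, hw⟩ := Transfer.exists_int_of_invol (ζ l) ht2
      have h12 := Transfer.b0_invol (M := M) (t := t) (x := (u : G)) ht2
        (fun g hg => ?_) (isPPart_self (hf.pelt u.2))
      swap
      · obtain ⟨σ, hσ, h⟩ := hcj u u⁻¹ hu (isConj_iff.2 ⟨_, hg⟩)
        have e1 : σ * σ = 1 := hd.free _ (mul_mem hσ hσ) u hu (by
          rw [MulAut.mul_apply, h, map_inv, h, inv_inv])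
        have e2 : σ ^ 3 = 1 := by
          have := pow_card_eq_one' (x := (⟨σ, hσ⟩ : autE (P : Subgroup G) (e0 M (P : Subgroup G))))
          rw [hE] at this
          exact congrArg Subtype.val this
        rw [pow_succ, sq, e1, one_mul] at e2
        rw [e2, MulAut.one_apply, ← mul_eq_one_iff_eq_inv, ← sq, ← orderOf_dvd_iff_pow_eq_one] at h
        refine hp ((Nat.prime_dvd_prime_iff_eq Fact.out Nat.prime_two).1 ((dvd_orderOf_of_pelt
          (hf.pelt u.2) fun h => hu (Subtype.ext h)).trans ?_))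
        rwa [Subgroup.orderOf_coe]
      rw [hb, ← Finset.sum_sdiff hx.subset, ← Finset.add_sum_erase _ _ h6, h10, Finset.sum_pair h9,
        hv _ h6 _ hu, hv _ m2.2 _ hu, hv _ m3.2 _ hu, hy, hz] at h12
      have h13 := hx.sum_exc hd fun χ => χ.1 t ^ 2 / χ.1 1 * conj (χ.1 u)
      rw [Finset.sum_congr (s₁ := Finset.univ.erase 1) rfl fun l' hl' => show _ =
        δ * (w ^ 2 / (ζ l).1 1) *
          conj (eta (autE (P : Subgroup G) (e0 M (P : Subgroup G))) l' u) by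
          have hl' := (Finset.mem_erase.1 hl').1
          rw [hx.exc l' hl' u hu, hr l' hl' 1 preg_one, hr l' hl' t hpt, hw]
          simp only [Int.cast_zero, zero_add, map_mul, map_intCast]
          ring,
        ← Finset.mul_sum, ← map_sum, sum_eta1 hd.free hd.comm hu, hE, nsmul_eq_mul] at h13
      refine ⟨w, by rw [← hy, ← hz, ← hw]; exact hrel l hl t hpt, ?_⟩
      simp only [map_intCast, a1, show ∀ g, (irrOne G).1 g = 1 from fun _ => rfl, map_one,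
        map_neg, map_natCast] at h12 h13
      push_cast at h13
      linear_combination h12 - h13 / 3
  have key2 : ∀ l, l ≠ 1 → a χ₂ * a χ₃ * -δ = 1 ∧ ¬ (a χ₂ = 1 ∧ a χ₃ = 1 ∧ -δ = 1) ∧
      IsSquare (charDegree (ζ l).1 * (charDegree χ₂.1 * charDegree χ₃.1)) := fun l hl => by
    obtain ⟨w, k1, k2⟩ := key l hl
    have k0 := hrel l hl 1 preg_one
    simp only [← cast_deg] at k0 k2
    refine alg (y := y) (z := z) (w := w) (ha _ ((h5 _).1 m2.2).1 ((h5 _).1 m2.2).2)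
      (ha _ ((h5 _).1 m3.2).1 ((h5 _).1 m3.2).2) (by rcases hx.sign with h | h <;> simp [h])
      (charDegree_ne_zero _) (charDegree_ne_zero _) (charDegree_ne_zero _) (by exact_mod_cast k0)
      (by exact_mod_cast k1) (by exact_mod_cast k2) fun h => ?_
    refine χ₃.2.charKer_ne_top (Transfer.irr_ne_one.1 m3.1) (hgen _ χ₃.2.isCharacter.normal_charKer
      (χ₃.2.isCharacter.mem_charKer.2 ?_))
    rw [hz, ← cast_deg]
    exact_mod_cast h
  have hset : ∀ χ : IrrCharacter G, (χ ∈ (↑(fs (principalBlock M G) \ excSet ζ) : Set _) ∧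
      (χ : G → ℂ) ≠ fun _ => 1) ↔ χ ∈ ({χ₂, χ₃} : Finset _) := fun χ => by
    rw [← h10, Finset.mem_erase, Finset.mem_coe, Transfer.irr_ne_one, and_comm]
  constructor
  · obtain ⟨l, hl⟩ := exists_lc_ne_one hd.comm hu
    obtain ⟨k1, k2, -⟩ := key2 l hl
    rw [Nat.subtype_card (({χ₂, χ₃} : Finset _).filter fun χ => a χ = -1) fun χ => by
      rw [Finset.mem_filter, ← hset, and_assoc], Finset.card_filter, Finset.sum_pair h9]
    rcases ha _ ((h5 _).1 m2.2).1 ((h5 _).1 m2.2).2 with e1 | e1 <;>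
    rcases ha _ ((h5 _).1 m3.2).1 ((h5 _).1 m3.2).2 with e2 | e2 <;>
    rcases hx.sign with e3 | e3 <;> simp [e1, e2, e3] at k1 k2 ⊢
  · intro η hη
    obtain ⟨l, hl, rfl⟩ := mem_excSet.1 hη
    rw [show {χ : IrrCharacter G | χ ∈ (↑(fs (principalBlock M G) \ excSet ζ) : Set _) ∧
      (χ : G → ℂ) ≠ fun _ => 1} = ↑({χ₂, χ₃} : Finset _) from Set.ext hset, finprod_mem_coe_finset,
      Finset.prod_pair h9]
    exact (key2 l hl).2.2

end Cfsg.Agent.S4721
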