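import Cfsg.Statements.S4722
import Cfsg.Agent.Lib.Transfer.Col

set_option autoImplicit false
open Cfsg

namespace Cfsg.Agent.S4722

set_option linter.unusedSectionVars false
set_option linter.unusedVariables false
set_option linter.style.haveILetI false
set_option linter.unusedSimpArgs false

open Subgroup Cfsg.Agent.Transfer Cfsg.Agent.Blk Cfsg.Agent.Char
open scoped ComplexConjugate

/-- Let M be a maximal ideal of the algebraic integers containing 2, P a 2-subgroup of the finite group G, U a subset of P, and t an involution of G such that no element of U is inverted by any conjugate of t. Let θ be a generalized character of P vanishing outside U, and for χ in the principal 2-block B₀ put a_χ = #P⁻¹ Σ_{y ∈ P} χ(y) θ(y⁻¹). Then Σ_{χ ∈ B₀} a_χ χ(t)^2/χ(1) = 0, Σ_{χ ∈ B₀} a_χ χ(1) = 0 and Σ_{χ ∈ B₀} a_χ χ(t) = 0. If moreover #P⁻¹ Σ_{y ∈ P} θ(y) ≠ 0, then either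 at least two of the a_χ have positive real part and at least two have negative real part, or G has a proper normal subgroup containing O_2'(G) and t. -/
theorem result {G : Type*} [Group G] [Finite G] (M : Ideal Cfsg.AlgInt) (hM : Cfsg.IsPModular 2 M) (P : Subgroup G) (hP : IsPGroup 2 P) (U : Set G) (hUP : U ⊆ (P : Set G)) (t : G) (ht : orderOf t = 2) (hinv : ∀ u ∈ U, ∀ g : G, (g * t * g⁻¹) * u * (g * t * g⁻¹)⁻¹ ≠ u⁻¹) (θ : ↥P → ℂ) (hθ : Cfsg.IsGeneralizedCharacter ↥P θ) (hθU : ∀ y : ↥P, (y : G) ∉ U → θ y = 0) : (∑ᶠ χ ∈ Cfsg.principalBlock M G, ((Nat.card ↥P : ℂ)⁻¹ * ∑ᶠ y : ↥P, (χ : G → ℂ) (y : G) * θ y⁻¹) * (χ : G → ℂ) t ^ 2 / (χ : G → ℂ) 1 = 0) ∧ (∑ᶠ χ ∈ Cfsg.principalBlock M G, ((Nat.card ↥P : ℂ)⁻¹ * ∑ᶠ y : ↥P, (χ : G → ℂ) (y : G) * θ y⁻¹) * (χ : G → ℂ) 1 = 0) ∧ (∑ᶠ χ ∈ Cfsg.principalBlock M G, ((Nat.card ↥P : ℂ)⁻¹ * ∑ᶠ y : ↥P, (χ : G → ℂ) (y : G) * θ y⁻¹) *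 (χ : G → ℂ) t = 0) ∧ ((Nat.card ↥P : ℂ)⁻¹ * ∑ᶠ y : ↥P, θ y ≠ 0 → (2 ≤ Nat.card {χ : Cfsg.IrrCharacter G // χ ∈ Cfsg.principalBlock M G ∧ 0 < (((Nat.card ↥P : ℂ)⁻¹ * ∑ᶠ y : ↥P, (χ : G → ℂ) (y : G) * θ y⁻¹)).re} ∧ 2 ≤ Nat.card {χ : Cfsg.IrrCharacter G // χ ∈ Cfsg.principalBlock M G ∧ (((Nat.card ↥P : ℂ)⁻¹ * ∑ᶠ y : ↥P, (χ : G → ℂ) (y : G) * θ y⁻¹)).re < 0}) ∨ ∃ K : Subgroup G, K.Normal ∧ K ≠ ⊤ ∧ Cfsg.pPrimeCore 2 G ≤ K ∧ t ∈ K) := by
  classical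
  haveI : PMod M 2 := ⟨hM⟩
  haveI := Fintype.ofFinite P
  have ht2 := mul_self_of_orderOf ht
  have key : ∀ f : IrrCharacter G → ℂ,
      (∀ u ∈ U, ∑ χ ∈ b0 M G, f χ * conj ((χ : G → ℂ) u) = 0) →
      ∑ χ ∈ b0 M G, ((Nat.card P : ℂ)⁻¹ * ∑ y : P, (χ : G → ℂ) y * θ y⁻¹) * f χ = 0 := by
    intro f hf
    have : ∀ χ : IrrCharacter G, ((Nat.card P : ℂ)⁻¹ * ∑ y : P, (χ : G → ℂ) y * θ y⁻¹) * f χ =
        ∑ y : P, (Nat.card P : ℂ)⁻¹ * θ y⁻¹ * (f χ * conj ((χ : G → ℂ) (y⁻¹ : P))) := fun χ => by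
      rw [Finset.mul_sum, Finset.sum_mul]
      refine Finset.sum_congr rfl fun y _ => ?_
      rw [Subgroup.coe_inv, χ.2.isCharacter.apply_inv, Complex.conj_conj]; ring
    simp only [this]
    rw [Finset.sum_comm]
    refine Finset.sum_eq_zero fun y _ => ?_
    rw [← Finset.mul_sum]
    by_cases h : ((y⁻¹ : P) : G) ∈ U
    · rw [hf _ h, mul_zero]
    · rw [hθU _ h]; simp
  have hpe : ∀ u ∈ U, IsPPart 2 u u := fun u hu => isPPart_self (pelt_of_mem hP (hUP hu))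
  have k1 := key (fun χ => (χ : G → ℂ) t ^ 2 / (χ : G → ℂ) 1)
    fun u hu => b0_invol ht2 (hinv u hu) (hpe u hu)
  have k2 := key (fun χ => (χ : G → ℂ) 1) fun u hu =>
    b0_orth (isPPart_self pelt_one) (hpe u hu) fun h => hinv u hu 1 (by
      rw [isConj_one_right.1 h]; simp)
  have k3 := key (fun χ => (χ : G → ℂ) t) fun u hu =>
    b0_orth (isPPart_self ⟨1, by simpa using ht⟩) (hpe u hu) fun h => by
      obtain ⟨c, rfl⟩ := isConj_iff.1 h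
      exact hinv _ hu c (by rw [mul_inv_cancel_right, eq_inv_iff_mul_eq_one, conj_mul_self ht2])
  rw [finsum_b0, finsum_b0, finsum_b0]
  simp only [finsum_eq_sum_of_fintype, mul_div_assoc]
  refine ⟨k1, k2, k3, fun h0 => ?_⟩
  have hint : ∀ χ : IrrCharacter G, ∃ n : ℤ,
      (Nat.card P : ℂ)⁻¹ * ∑ y : P, (χ : G → ℂ) y * θ y⁻¹ = n := fun χ => by
    obtain ⟨n, hn⟩ := (χ.2.isGen.res P).classInner_eq_int hθ
    exact ⟨n, by simpa only [classInner, hθ.apply_inv] using hn⟩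
  choose a ha using hint
  simp only [ha, Complex.intCast_re, Int.cast_pos, Int.cast_lt_zero] at k1 k2 k3 ⊢
  have ha1 : a (irrOne G) ≠ 0 := by
    intro h
    have := ha (irrOne G)
    simp only [irrOne_apply, one_mul, h, Int.cast_zero] at this
    apply h0
    rw [← this, ← Equiv.sum_comp (Equiv.inv P)]
    simp
  rw [or_iff_not_imp_left]
  intro h
  have : ∃ j, (∀ i ∈ b0 M G, i ≠ j → 0 ≤ a i) ∨ ∀ i ∈ b0 M G, i ≠ j → a i ≤ 0 := by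
    have aux : ∀ Q : IrrCharacter G → Prop, ¬ 2 ≤ Nat.card {χ // Q χ} →
        ∃ j, ∀ i, i ≠ j → ¬ Q i := fun Q hQ => by
      have : Subsingleton {χ // Q χ} := Finite.card_le_one_iff_subsingleton.1 (by omega)
      by_cases h : ∃ j, Q j
      · obtain ⟨j, hj⟩ := h
        exact ⟨j, fun i hi h => hi (congrArg Subtype.val (Subsingleton.elim (⟨i, h⟩ : {χ // Q χ})
          ⟨j, hj⟩))⟩
      · exact ⟨irrOne G, fun i _ hi => h ⟨i, hi⟩⟩
    rcases not_and_or.1 h with h | h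
    · obtain ⟨j, hj⟩ := aux _ h
      exact ⟨j, .inr fun i hi h => not_lt.1 fun h' => hj i h ⟨mem_b0.1 hi, h'⟩⟩
    · obtain ⟨j, hj⟩ := aux _ h
      exact ⟨j, .inl fun i hi h => not_lt.1 fun h' => hj i h ⟨mem_b0.1 hi, h'⟩⟩
  obtain ⟨j, hj⟩ := this
  obtain ⟨χ, h1, h2, -, h4⟩ := b0_exists_ker ht2 ha1 k2 k3 k1 hj
  exact ⟨charKer χ, χ.2.isCharacter.normal_charKer, χ.2.charKer_ne_top (irr_ne_one.1 h2),
    le_charKer_of_b0 h1, χ.2.isCharacter.mem_charKer.2 h4⟩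

end Cfsg.Agent.S4722
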