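import Cfsg.Statements.S4723
import Cfsg.Agent.Lib.Block.AD
import Cfsg.Agent.Lib.Block.Loc

set_option autoImplicit false
open Cfsg

namespace Cfsg.Agent.S4723

open Cfsg.Agent.Blk
open Cfsg.Agent.Char hiding cj cj_mul cj_inv_cj cj_cj_inv

/-- Let p be a prime, M a maximal ideal of the algebraic integers containing p, H a normal subgroup of the finite group G and b a p-block of H. Let T be the stabilizer of b in G. Then b contains a character θ of height zero whose own stabilizer in G (the elements g with θ(g h g⁻¹) = θ(h) for all h ∈ H) has index prime to p in T, i.e. contains a Sylow p-subgroup of T. -/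
theorem result {G : Type*} [Group G] [Finite G] (p : ℕ) [Fact p.Prime] (M : Ideal Cfsg.AlgInt) (hM : Cfsg.IsPModular p M) (H : Subgroup G) [H.Normal] (b : Set (Cfsg.IrrCharacter ↥H)) (hb : Cfsg.IsPBlock M b) (T : Subgroup G) (hT : (∀ g : G, g ∈ T ↔ ∀ θ ∈ b, ∀ θ' : Cfsg.IrrCharacter ↥H, (∀ h h' : ↥H, (h' : G) = g * h * g⁻¹ → (θ' : ↥H → ℂ) h' = (θ : ↥H → ℂ) h) → θ' ∈ b)) : ∃ θ ∈ b, Cfsg.blockHeight p b (θ : ↥H → ℂ) = 0 ∧ ∃ S : Subgroup G, S ≤ T ∧ (∀ g : G, g ∈ S ↔ (g ∈ T ∧ ∀ h h' : ↥H, (h' : G) = g * h * g⁻¹ → (θ : ↥H → ℂ) h' = (θ : ↥H → ℂ) h)) ∧ ¬ p ∣ S.relIndex T := by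
  haveI : PMod M p := ⟨hM⟩
  have hp : p.Prime := Fact.out
  obtain ⟨S, hS⟩ := exists_isSyl p T
  let L := H ⊔ S
  have hHL : H ≤ L := le_sup_left
  have h1 : barS M H b ∈ inv (kk M) L := by
    refine (le_stab.1 (sup_le (le_stab.2 ⟨hHL, hb.isBlockS.inv⟩) fun g hg =>
      mem_stab.2 ⟨Subgroup.mem_sup_right hg, ?_⟩)).2
    obtain ⟨θ, hθ⟩ := hb.nonempty
    rw [← barS_image_conj (cs_normal g H), ((isPBlock_image_iff _).2 hb).eq_of_mem hb ⟨θ, hθ, rfl⟩
      ((hT g).1 (hS.le hg) θ hθ _ ((conj_iff_eq_irrMap (cs_normal g H)).2 rfl))]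
  have h2 := le_No_of_normal L H
  obtain ⟨B, P, hB, h3, hP, h4⟩ := hb.isBlockS.exists_cover_index hHL h2 h1
  have h5 := hb.isBlockS.knorr_stable hHL h2 hB h3 h1 hP
  obtain ⟨B, hB', rfl⟩ := exists_isPBlock_barS_eq hB
  obtain ⟨χ, hχ, h0⟩ := exists_height_zero p hB'.nonempty
  obtain ⟨θ', h6⟩ := exists_em_under χ (H.subgroupOf L)
  let ε := Subgroup.subgroupOfEquivOfLe hHL
  have h7 : irrMap ε θ' ∈ b := by
    have h7 := (es_injective L).ne (blk_mul_ne_zero_of_em (M := M) h6)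
    rw [map_mul, map_zero, hB'.es_blk_eq hχ, ← es_emb_of ε.toMonoidHom (fun _ => rfl),
      ← blk_irrMap] at h7
    obtain ⟨x, hx, h8⟩ := mem_orbit.1
      (hb.isBlockS.mem_orbit_of_cover (isBlock_es_blk _) hHL h2 hB h3 h7)
    exact hb.mem_iffS.2 (h8.symm.trans (h1 x hx))
  obtain ⟨a, ha⟩ : ∃ a, H.relIndex L = p ^ a := by
    obtain ⟨n, hn⟩ := hS.pg.exists_card_eq
    have h3 : H.relIndex L ∣ p ^ n := by
      rw [Subgroup.relIndex_sup_left, ← hn]
      exact Subgroup.relIndex_dvd_card _ _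
    obtain ⟨a, -, ha⟩ := (Nat.dvd_prime_pow hp).1 h3
    exact ⟨a, ha⟩
  have h8 : P ⊔ H = L := eq_of_relIndex_pow le_sup_right (sup_le hP.le hHL) ha h4
  have h9 : mnu p B = mnu p b := by
    have e1 := defect_add_mnu (p := p) hB'.nonempty
    have e2 := defect_add_mnu (p := p) hb.nonempty
    have e3 := card_inf_mul_relIndex' H P
    have e4 := card_inf_mul_relIndex' H L
    rw [← Subgroup.relIndex_sup_right, h8, ha, hB'.card_isDefS hP, hb.card_isDefS h5, ← pow_add] at e3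
    rw [inf_eq_right.2 hHL, ha] at e4
    have e5 := Nat.pow_right_injective hp.two_le e3
    rw [← e4, Nat.factorization_mul Nat.card_pos.ne' (pow_ne_zero _ hp.ne_zero), Finsupp.add_apply,
      factorization_pow_self] at e1
    omega
  have h10 := deg_eq_em_mul h6
  have h11 : nu p χ = (em _ χ θ').factorization p + (inertia _ θ'.1).index.factorization p +
      nu p (irrMap ε θ') := by
    rw [nu, nu, h10, charDegree_irrMap, Nat.factorization_mul (mul_ne_zero h6
      Subgroup.index_ne_zero_of_finite) (charDegree_ne_zero _), Nat.factorization_mul h6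
      Subgroup.index_ne_zero_of_finite]
    rfl
  have h12 := mnu_le p h7
  rw [(height_eq_zero_iff hχ).1 h0, h9] at h11
  have h13 : inertia _ θ'.1 = ⊤ := by
    obtain ⟨c, -, hc⟩ := (Nat.dvd_prime_pow hp).1 ((index_inertia_dvd θ').trans ha.dvd)
    rw [hc, factorization_pow_self] at h11
    rw [← Subgroup.index_eq_one, hc, show c = 0 by omega, pow_zero]
  refine ⟨_, h7, (height_eq_zero_iff h7).2 (by omega), T ⊓ inertia H (irrMap ε θ').1, inf_le_left,
    fun g => and_congr_right fun _ => ?_, not_dvd_relIndex_of_isSyl hS (le_inf hS.le fun g hg => ?_)⟩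
  · refine icj_eq_iff.symm.trans ⟨fun h x y hxy => ?_, fun h => Subtype.ext (funext fun x => h _ _ rfl)⟩
    rw [← congrFun (congrArg Subtype.val h) x, icj_apply]
    exact congrArg _ (Subtype.ext hxy)
  · refine icj_eq_iff.1 (Subtype.ext (funext fun x => ?_))
    exact congrFun (congrArg Subtype.val (icj_eq_iff.2 (h13 ▸ Subgroup.mem_top
      (⟨g, Subgroup.mem_sup_right hg⟩ : L)))) (ε.symm x)

end Cfsg.Agent.S4723
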