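import Cfsg.Statements.S4725
import Cfsg.Agent.Lib.Block.More

set_option autoImplicit false
open Cfsg

namespace Cfsg.Agent.S4725

open Cfsg.Agent.Blk
open Cfsg.Agent.Char hiding cj cj_mul cj_inv_cj cj_cj_inv

/-- Let p be a prime, M a maximal ideal of the algebraic integers containing p, H a subgroup of the finite group G, and b a p-block of H inducing the p-block B of G, with b and B of the same defect. Then for every height-zero ζ ∈ b there is a height-zero χ ∈ B whose multiplicity in the character induced from ζ is not divisible by p. -/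
theorem result {G : Type*} [Group G] [Fintype G] (p : ℕ) [Fact p.Prime] (M : Ideal Cfsg.AlgInt) (hM : Cfsg.IsPModular p M) (H : Subgroup G) (b : Set (Cfsg.IrrCharacter ↥H)) (B : Set (Cfsg.IrrCharacter G)) (hind : Cfsg.IsInducedBlock M H b B) (hdef : Cfsg.blockDefect p b = Cfsg.blockDefect p B) (ζ : Cfsg.IrrCharacter ↥H) (hζ : ζ ∈ b) (hζ0 : Cfsg.blockHeight p b (ζ : ↥H → ℂ) = 0) : ∃ χ ∈ B, Cfsg.blockHeight p B (χ : G → ℂ) = 0 ∧ ∃ a : ℕ, Cfsg.classInner (Cfsg.indFun H (ζ : ↥H → ℂ)) (χ : G → ℂ) = (a : ℂ) ∧ ¬ p ∣ a := by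
  haveI : PMod M p := ⟨hM⟩
  classical
  have := Fintype.ofFinite H
  have hp := (Fact.out : p.Prime)
  obtain ⟨hb, hB, -⟩ := isInducedBlock_iff.1 hind
  obtain ⟨χ₀, hχ₀⟩ := hB.nonempty
  have h1 := (hind.LI_om_rs_iff hζ hχ₀ (fC_mem B) hB.isUB.isInt).not.2
    (by rw [om_fC_of_mem hχ₀]; exact not_LI_one)
  have hc := ζ.2.isCharacter.ind
  rw [← om_indFun H _ (fC_mem B), Blk.om, ← mul_one (fC B), ch_fC_mul_eq hc.isClassFunction,
    sum_ite_fs, Finset.sum_div] at h1
  by_contra hn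
  push Not at hn
  refine h1 (LI_sum _ _ fun χ hχ => ?_)
  rw [mem_fs] at hχ
  obtain ⟨a, ha⟩ := hc.classInner_eq_nat χ.2.isCharacter
  have hi : H.index ≠ 0 := Subgroup.index_ne_zero_of_finite
  rw [ha, ch_one, indFun_one, ← cast_deg, ← cast_deg, ← Nat.cast_mul, ← Nat.cast_mul]
  rcases eq_or_ne a 0 with rfl | ha0
  · simpa using LI_zero
  rw [LI_natDiv_iff (mul_ne_zero ha0 (charDegree_ne_zero χ)) (mul_ne_zero hi (charDegree_ne_zero ζ)),
    Nat.factorization_mul ha0 (charDegree_ne_zero χ),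
    Nat.factorization_mul hi (charDegree_ne_zero ζ)]
  have h2 := defect_eq_add (p := p) hχ
  have h3 := defect_eq_add (p := p) hζ
  have h4 := nu_le p χ
  have h5 := nu_le p ζ
  have h6 := factorization_index_add p H
  simp only [nu, Finsupp.add_apply] at h2 h3 h4 h5 ⊢
  by_cases h0 : blockHeight p B χ = 0
  · have := hp.factorization_pos_of_dvd ha0 (hn χ hχ h0 a ha)
    omega
  · omega

end Cfsg.Agent.S4725
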