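import Cfsg.Statements.S4726
import Cfsg.Agent.Lib.Block.More

set_option autoImplicit false
open Cfsg

namespace Cfsg.Agent.S4726

open Cfsg.Agent.Blk
open Cfsg.Agent.Char hiding cj cj_mul cj_inv_cj cj_cj_inv

/-- Let p be a prime, M a maximal ideal of the algebraic integers containing p, H a subgroup of the finite group G and b a p-block of H with defect group D₀ such that C_G(D₀) ≤ H. Then b induces a block of G, and for every block B of G induced by b there is a defect group D of B with Z(D) ≤ Z(D₀) ≤ D₀ ≤ D (as subgroups of G). In particular, if the defect groups of B are abelian then D₀ is a defect group of B. -/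
theorem result {G : Type*} [Group G] [Finite G] (p : ℕ) [Fact p.Prime] (M : Ideal Cfsg.AlgInt) (hM : Cfsg.IsPModular p M) (H : Subgroup G) (b : Set (Cfsg.IrrCharacter ↥H)) (hb : Cfsg.IsPBlock M b) (D₀ : Subgroup ↥H) (hD₀ : Cfsg.IsDefectGroup p M b D₀) (hC : Subgroup.centralizer ((D₀.map H.subtype : Subgroup G) : Set G) ≤ H) : Cfsg.InducedBlockDefined M H b ∧ ∀ B : Set (Cfsg.IrrCharacter G), Cfsg.IsInducedBlock M H b B → (∃ D : Subgroup G, Cfsg.IsDefectGroup p M B D ∧ (Subgroup.center ↥D).map D.subtype ≤ ((Subgroup.center ↥D₀).map D₀.subtype).map H.subtype ∧ ((Subgroup.center ↥D₀).map D₀.subtype).map H.subtype ≤ D₀.map H.subtype ∧ D₀.map H.subtype ≤ D) ∧ (∀ D : Subgroup G, Cfsg.IsDefectGroup p M B D → IsMulCommutative ↥D → Cfsg.IsDefectGroup p M B (D₀.map H.subtype)) := by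
  haveI : PMod M p := ⟨hM⟩
  rw [hb.isDefectGroup_iffS] at hD₀
  set D₁ := D₀.map H.subtype with hD₁
  have hC' : ⊤ ⊓ Ce D₁ ≤ H := inf_le_right.trans hC
  refine ⟨?_, fun B hind => ?_⟩
  · obtain ⟨B, hB, h⟩ := exists_ind_of_isDef hb.isBlockS hD₀ hC' le_top
    obtain ⟨B, hB', rfl⟩ := exists_isPBlock_bar_eq hB
    exact ⟨B, isInducedBlock_iff.2 ⟨hb, hB', h⟩⟩
  obtain ⟨-, hB, h⟩ := isInducedBlock_iff.1 hind
  obtain ⟨e, he⟩ := hD₀.exists_isMP hb.isBlockS
  have h1 := (ind_iff_Br_Br hb.isBlockS hD₀ hC' le_top hB.isBlock).1 h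
  have h2 : Br D₁ (bar M B) * e = e := by rw [← he.eq, ← mul_assoc, h1]
  have h3 := he.bp.of_sub hC' le_top le_rfl
  obtain ⟨D, f, h4, h5⟩ := h3.exists_isMP hB.isBlock h2
  have h6 := he.isDef_Ce
  have h7 : D ⊓ Ce D₁ = D₁ ⊓ Ce D₁ := h6.eq_of_le
    (le_inf (inf_le_right.trans hC) inf_le_right) (isPGroup_le h5.bp.pg inf_le_left)
    (h4.Br_inf_ne h5.bp (Ce_le_No _)) (inf_le_inf_right _ h4.le)
  refine ⟨⟨D, hB.isDefectGroup_iff.2 h5.isDef, ?_, Subgroup.map_mono (Subgroup.map_subtype_le _),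
    h4.le⟩, fun E hE hab => ?_⟩
  · rintro _ ⟨z, hz, rfl⟩
    have h8 : (z : G) ∈ D ⊓ Ce D₁ := mi z.2 (mem_Ce.2 fun q hq =>
      congrArg Subtype.val (Subgroup.mem_center_iff.1 hz ⟨q, h4.le hq⟩))
    rw [h7] at h8
    obtain ⟨y, hy, hyz⟩ := mi1 h8
    refine ⟨y, ⟨⟨y, hy⟩, Subgroup.mem_center_iff.2 fun w => Subtype.ext (Subtype.ext ?_), rfl⟩, hyz⟩
    have := mem_Ce.1 (mi2 h8) w ⟨w, w.2, rfl⟩
    rw [← hyz] at this
    exact this
  · rw [hB.isDefectGroup_iff] at hE ⊢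
    obtain ⟨x, -, hx⟩ := h5.isDef.exists_cs_eq hE
    have h8 : E ≤ Ce E := fun a ha => mem_Ce.2 fun q hq =>
      congrArg Subtype.val (hab.is_comm.comm (⟨q, hq⟩ : E) ⟨a, ha⟩)
    have h9 : D ≤ Ce D := by rw [← hx, ← cs_Ce]; exact cs_mono x h8
    have h10 : D ≤ D₁ := by
      have : D ≤ D ⊓ Ce D₁ := le_inf le_rfl (h9.trans (Ce_anti h4.le))
      rw [h7] at this
      exact this.trans inf_le_left
    rw [le_antisymm h4.le h10]; exact h5.isDef

end Cfsg.Agent.S4726
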