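import Cfsg.Statements.S4727
import Cfsg.Agent.Lib.Block.Ker

set_option autoImplicit false
open Cfsg

namespace Cfsg.Agent.S4727

open Cfsg.Agent.Blk
open Cfsg.Agent.Char hiding cj cj_mul cj_inv_cj cj_cj_inv

/-- Let p be a prime, π a set of primes containing p, M a maximal ideal of the algebraic integers containing p, and B a p-block of the finite group G with defect group D; let B₁ be the block of N_G(D) with defect group D that induces B (the Brauer correspondent of B). Suppose every element of O_π'(N_G(D)), the largest normal subgroup of N_G(D) whose order has no prime divisor in π, lies in the kernel of every member of B₁. If y is a p-element whose centralizer C has a normal Hall π'-subgroup (every element of C whose order has no prime divisor in π lies in O_π'(C)), then χ(y x) = χ(y) for every χ ∈ B and every x ∈ C whose order has no prime divisor in π. -/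
theorem result {G : Type*} [Group G] [Finite G] (p : ℕ) [Fact p.Prime] (M : Ideal Cfsg.AlgInt) (hM : Cfsg.IsPModular p M) (π : Set ℕ) (hpπ : p ∈ π) (B : Set (Cfsg.IrrCharacter G)) (hB : Cfsg.IsPBlock M B) (D : Subgroup G) (hBD : Cfsg.IsDefectGroup p M B D) (B₁ : Set (Cfsg.IrrCharacter ↥(Subgroup.normalizer (D : Set G)))) (hB₁ : Cfsg.IsInducedBlock M (Subgroup.normalizer (D : Set G)) B₁ B) (hB₁D : Cfsg.IsDefectGroup p M B₁ (D.subgroupOf (Subgroup.normalizer (D : Set G)))) (hker : ∀ n : ↥(Subgroup.normalizer (D : Set G)), n ∈ Cfsg.piCore {q | q ∉ π} ↥(Subgroup.normalizer (D : Set G)) → n ∈ Cfsg.blockKer B₁) (y : G) (hy : ∃ k : ℕ, orderOf y = p ^ k) (hC : ∀ x : ↥(Subgroup.centralizer ({y} : Set G)), (∀ q : ℕ, q.Prime → q ∣ orderOf x → q ∉ π) → x ∈ Cfsg.piCore {q | q ∉ π} ↥(Subgroup.centralizer ({y} : Set G))) : ∀ χ ∈ B, ∀ x : G, x ∈ Subgroup.centralizer ({y} : Set G) → (∀ q : ℕ, q.Prime → q ∣ orderOf x → q ∉ π) → (χ : G → ℂ) (y * x) = (χ : G → ℂ) y :=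 by
  haveI : PMod M p := ⟨hM⟩
  haveI := Fact.mk (PMod.prime M)
  classical
  haveI := Fintype.ofFinite G
  obtain ⟨hb1, -, h1⟩ := isInducedBlock_iff.1 hB₁
  have hp' : p ∉ {q | q ∉ π} := fun h => h hpπ
  have hD := hB.isDefectGroup_iff.1 hBD
  have h2 : barS M (No D) B₁ = Br D (bar M B) := eq_Br_of_ind hB.isBlock hD
    (by rw [top_inf_eq]; exact hb1.isBlockS) (by rwa [top_inf_eq])
  have h3 := (hb1.eK_mul_iff (not_dvd_piCoreOf hp' (No D)) (piCoreOf_le _ _)
    ((le_No _).trans (No_le_No_piCoreOf _ _))).2 fun h hh => hker h (mem_piCoreOf.1 hh)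
  rw [h2, ← top_inf_eq (No D)] at h3
  intro χ hχ x hx hq
  have hxp : ¬ p ∣ orderOf x := fun h => hq p Fact.out h hpπ
  have h4 := apply_eq_sum_locSet (H := Ce1 y) hB.isUB hχ (h := uC y * ⟨x, hx⟩) (x := y)
    (show IsPPart p (y * x) y from isPPart_mul (mem_Ce1.1 hx).symm hy hxp) le_rfl
  have h5 := apply_eq_sum_locSet (H := Ce1 y) hB.isUB hχ (h := uC y) (x := y)
    (isPPart_self hy) le_rfl
  refine h4.trans (Eq.trans (Finset.sum_congr rfl fun ξ _ => ?_) h5.symm)
  split_ifs with h6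
  swap
  · rfl
  have h7 := isPBlock_blockOf (M := M) ξ
  have h8 := (isInducedBlock_Ce1_iff hy hB h7).1 ((subset_locSet_iff hy hB h7).1
    ((isUB_locSet _ _).eq_of_forall h6))
  have h9 : IsBP p ⊤ (Subgroup.zpowers y) (barS M (Ce1 y) (blockOf M (ξ : Ce1 y → ℂ))) :=
    ⟨isPGroup_zpowers hy, le_top, by rw [top_inf_eq, Ce_zpowers]; exact h7.isBlockS⟩
  have h10 := h9.eK_core hB.isBlock hD h8 hp' h3
  rw [top_inf_eq, Ce_zpowers] at h10
  have h11 := (h7.eK_mul_iff (not_dvd_piCoreOf hp' _) (piCoreOf_le _ _)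
    ((le_No _).trans (No_le_No_piCoreOf _ _))).1 h10 ⟨x, hx⟩ (mem_piCoreOf.2 (hC ⟨x, hx⟩
      fun q h1 h2 => hq q h1 (by rwa [← Subgroup.orderOf_coe] at h2))) ξ (mem_blockOf_self ξ)
  obtain ⟨ω, -, hω⟩ := exists_root_mul ξ.2 (mem_center_Ce1 y)
  have h12 := hω 1
  rw [mul_one] at h12
  congr 1
  exact (hω _).trans (by rw [h11]; exact h12.symm)

end Cfsg.Agent.S4727
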