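import Cfsg.Statements.S4728
import Cfsg.Agent.Lib.Block.Ker

set_option autoImplicit false
open Cfsg

namespace Cfsg.Agent.S4728

open Cfsg.Agent.Blk
open Cfsg.Agent.Char hiding cj cj_mul cj_inv_cj cj_cj_inv

/-- Let p be a prime, π a set of primes containing p, M a maximal ideal of the algebraic integers containing p, B a p-block of the finite group G with defect group D, and B₁ the block of N_G(D) with defect group D inducing B. Let D₀ be a p-subgroup, H₀ = D₀·C_G(D₀), and b a block of H₀ inducing B. Write O_π'(X) for the largest normal subgroup of X whose order has no prime divisor in π. Suppose that O_π'(C_G(D₀)) is a normal Hall π'-subgroup of C_G(D₀) (it contains every element of C_G(D₀) whose order has no prime divisor in π) and that every element of it lies in the kernel of every member of b. Then every element of O_π'(N_G(D)) lies in the kernel of every member of B₁. -/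
theorem result {G : Type*} [Group G] [Finite G] (p : ℕ) [Fact p.Prime] (M : Ideal Cfsg.AlgInt) (hM : Cfsg.IsPModular p M) (π : Set ℕ) (hpπ : p ∈ π) (B : Set (Cfsg.IrrCharacter G)) (hB : Cfsg.IsPBlock M B) (D : Subgroup G) (hBD : Cfsg.IsDefectGroup p M B D) (B₁ : Set (Cfsg.IrrCharacter ↥(Subgroup.normalizer (D : Set G)))) (hB₁ : Cfsg.IsInducedBlock M (Subgroup.normalizer (D : Set G)) B₁ B) (hB₁D : Cfsg.IsDefectGroup p M B₁ (D.subgroupOf (Subgroup.normalizer (D : Set G)))) (D₀ : Subgroup G) (hD₀ : IsPGroup p D₀) (H₀ : Subgroup G) (hH₀ : H₀ = D₀ ⊔ Subgroup.centralizer (D₀ : Set G)) (b : Set (Cfsg.IrrCharacter ↥H₀)) (hb : Cfsg.IsInducedBlock M H₀ b B) (hcompl : ∀ x : ↥(Subgroup.centralizer (D₀ : Set G)), (∀ q : ℕ, q.Prime → q ∣ orderOf x → q ∉ π) → x ∈ Cfsg.piCore {q | q ∉ π} ↥(Subgroup.centralizer (D₀ : Set G))) (hkerb : ∀ x : ↥(Subgroup.centralizer (D₀ : Set G)), x ∈ Cfsg.piCore {q | q ∉ π} ↥(Subgroup.centralizer (D₀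 : Set G)) → ∀ θ ∈ b, ∀ h : ↥H₀, (h : G) = (x : G) → (θ : ↥H₀ → ℂ) h = (θ : ↥H₀ → ℂ) 1) : ∀ n : ↥(Subgroup.normalizer (D : Set G)), n ∈ Cfsg.piCore {q | q ∉ π} ↥(Subgroup.normalizer (D : Set G)) → n ∈ Cfsg.blockKer B₁ := by
  haveI : PMod M p := ⟨hM⟩
  haveI := Fact.mk (PMod.prime M)
  obtain ⟨hb1, -, h1⟩ := isInducedBlock_iff.1 hB₁
  obtain ⟨hb0, -, h0⟩ := isInducedBlock_iff.1 hb
  have hp' : p ∉ {q | q ∉ π} := fun h => h hpπ
  have hD := hB.isDefectGroup_iff.1 hBD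
  have h2 : barS M (No D) B₁ = Br D (bar M B) := eq_Br_of_ind hB.isBlock hD
    (by rw [top_inf_eq]; exact hb1.isBlockS) (by rwa [top_inf_eq])
  subst hH₀
  have hH : D₀ ⊔ Ce D₀ ≤ No D₀ := sup_le (le_No _) (Ce_le_No _)
  have h3 := (hb0.eK_mul_iff (not_dvd_piCoreOf hp' (Ce D₀)) ((piCoreOf_le _ _).trans le_sup_right)
    (hH.trans ((No_le_No_Ce _).trans (No_le_No_piCoreOf _ _)))).2 fun h hh θ hθ =>
      hkerb ⟨h, piCoreOf_le _ _ hh⟩ (mem_piCoreOf.1 hh) θ hθ h rfl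
  have h4 : IsBP p ⊤ D₀ (barS M (D₀ ⊔ Ce D₀) b) := ⟨hD₀, le_top, (isBlock_sup_iff hD₀ le_top).1
    (by rw [top_inf_eq]; exact hb0.isBlockS)⟩
  have h5 := (ind_iff_Br hD₀ le_sup_left (inf_le_right.trans le_sup_right) le_top hH hb0.isBlockS
    hB.isBlock).1 h0
  have h6 := h4.eK_core_up hB.isBlock hD h5 hp' (by
    rw [top_inf_eq]
    exact fun x hx hq => (mem_piCoreOf (x := ⟨x, hx⟩)).2 (hcompl ⟨x, hx⟩ fun q h1 h2 =>
      hq q h1 (by rwa [← Subgroup.orderOf_coe] at h2))) (by rwa [top_inf_eq])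
  rw [← h2, top_inf_eq] at h6
  exact fun x hx => (hb1.eK_mul_iff (not_dvd_piCoreOf hp' _) (piCoreOf_le _ _)
    ((le_No _).trans (No_le_No_piCoreOf _ _))).1 h6 x (mem_piCoreOf.2 hx)

end Cfsg.Agent.S4728
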