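import Cfsg.Statements.S4729
import Cfsg.Agent.Lib.Block.AD

set_option autoImplicit false
open Cfsg

namespace Cfsg.Agent.S4729

open Cfsg.Agent.Blk
open Cfsg.Agent.Char hiding cj cj_mul cj_inv_cj cj_cj_inv

/-- Let p be a prime, M a maximal ideal of the algebraic integers containing p, G a finite perfect group and P a Sylow p-subgroup. If the principal p-block of G contains a faithful irreducible character of degree less than 2p, then the centralizer of P is a p-group. -/
theorem result {G : Type*} [Group G] [Finite G] (p : ℕ) [Fact p.Prime] (M : Ideal Cfsg.AlgInt) (hM : Cfsg.IsPModular p M) (hperf : commutator G = ⊤) (P : Sylow p G) (χ : Cfsg.IrrCharacter G) (hχ : χ ∈ Cfsg.principalBlock M G) (hfaith : ∀ g : G, (χ : G → ℂ) g = (χ : G → ℂ) 1 → g = 1) (hdeg : Cfsg.charDegree (χ : G → ℂ) < 2 * p) : IsPGroup p ↥(Subgroup.centralizer ((P : Subgroup G) : Set G)) := by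
  haveI : PMod M p := ⟨hM⟩
  classical
  rw [IsPGroup.iff_orderOf]
  by_contra h
  push Not at h
  obtain ⟨x, hx⟩ := h
  obtain ⟨y, hy⟩ := exists_isPPart p x
  set z := y⁻¹ * x
  have hz : z ≠ 1 := fun h => by
    obtain ⟨k, hk⟩ := hy.pelt
    exact hx k (inv_mul_eq_one.1 h ▸ hk)
  set R := Subgroup.zpowers (z : G)
  have := Fintype.ofFinite R
  have hR : ¬ p ∣ Nat.card R := by
    rw [Nat.card_zpowers, Subgroup.orderOf_coe]; exact hy.preg
  have hc : ∀ a b : R, a * b = b * a := fun a b => mul_comm' a b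
  have h1 : ∀ r : R, MemLocalIdeal M (χ.1 r - χ.1 1) := fun r => by
    have h1 : ¬ p ∣ (Ce1 (r : G)).index := fun hd => P.not_dvd_index (hd.trans
      (Subgroup.index_dvd_of_le (mem_Ce_iff_le.1 (Subgroup.zpowers_le_of_mem z.2 r.2))))
    have h2 := LI_mul_left (irr_mem_O M χ 1) (LI_centralChar_of_principal hχ r)
    rw [LI_sub_comm, ← LI_mul_unit_iff (natCast_mem _ _) (LI_natCast_iff.not.2 h1)]
    convert h2 using 1
    have := χ.2.apply_one_ne_zero
    rw [centralChar]
    field_simp
  have h2 : ∀ θ : IrrCharacter R, θ ≠ irrOne R → p ∣ em R χ θ := fun θ hθ => by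
    have h2 := (irrOne R).2.classInner_of_ne θ.2 fun h => hθ (Subtype.ext h.symm)
    rw [← LI_natCast_iff (M := M), ← em_spec, ← sub_zero (classInner _ _), ← mul_zero (χ.1 1), ← h2,
      classInner, classInner, mul_left_comm, ← mul_sub, Finset.mul_sum, ← Finset.sum_sub_distrib]
    refine LI_mul_left (natCast_inv_mem_O hR) (LI_sum _ _ fun r _ => ?_)
    convert LI_mul_right (h1 r) (conj_irr_mem_O M θ r) using 1
    simp [sub_mul]
  have hdeg1 : ∀ θ : IrrCharacter R, charDegree θ.1 = 1 := fun θ => by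
    simp [charDegree, θ.2.apply_one_of_comm hc]
  obtain ⟨θ, h3, h4⟩ : ∃ θ : IrrCharacter R, θ ≠ irrOne R ∧ em R χ θ ≠ 0 := by
    by_contra h3
    push Not at h3
    have h4 : ∀ r : R, χ.1 r = em R χ (irrOne R) := fun r => by
      rw [res_eq_sum_em, Finset.sum_eq_single (irrOne R) (fun θ _ h => by simp [h3 θ h]) (by simp)]
      simp
    exact hz (Subtype.ext (hfaith _ ((h4 ⟨_, Subgroup.mem_zpowers _⟩).trans (h4 1).symm)))
  have h5 := deg_eq_sum_em R χ
  simp only [hdeg1, mul_one] at h5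
  have h6 : ∀ φ : IrrCharacter R, φ ≠ irrOne R → φ ≠ θ → em R χ φ = 0 := fun φ h6 h7 => by
    by_contra h8
    have h9 := Nat.le_of_dvd (Nat.pos_of_ne_zero h8) (h2 φ h6)
    have h10 := Nat.le_of_dvd (Nat.pos_of_ne_zero h4) (h2 θ h3)
    have h11 := Finset.add_le_sum (f := fun φ => em R χ φ) (fun _ _ => Nat.zero_le _)
      (Finset.mem_univ φ) (Finset.mem_univ θ) h7
    omega
  have h7 : em R χ θ = p := by
    obtain ⟨c, hc⟩ := h2 θ h3
    have h10 := Finset.single_le_sum (f := fun φ => em R χ φ) (fun _ _ => Nat.zero_le _)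
      (Finset.mem_univ θ)
    have h11 : p * c < p * 2 := by omega
    have h12 := Nat.lt_of_mul_lt_mul_left h11
    rcases c with _ | _ | c
    · exact absurd hc h4
    · simpa using hc
    · omega
  have h8 : (fun r : R => χ.1 r) = (em R χ (irrOne R) : ℂ) • (irrOne R).1 + (p : ℂ) • θ.1 := by
    ext r
    rw [res_eq_sum_em, Finset.sum_eq_add (irrOne R) θ h3.symm
      (fun φ _ h => by simp [h6 φ h.1 h.2]) (by simp) (by simp), h7]
    simp
  obtain ⟨l, rfl⟩ := exists_ilc (hdeg1 θ)
  obtain ⟨δ, hδ⟩ := χ.2.isCharacter.exists_detChar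
  refine h3 (congrArg ilc (show l = 1 from MonoidHom.ext fun r => ?_))
  have h9 := χ.2.isCharacter.detChar_res R r
  have h10 : δ r = 1 := Abelianization.commutator_subset_ker δ (hperf ▸ Subgroup.mem_top _)
  rw [h8, ((irrOne R).2.isCharacter.natCast_smul _).detChar_add
    ((ilc l).2.isCharacter.natCast_smul _), (irrOne R).2.isCharacter.detChar_nsmul,
    (ilc l).2.isCharacter.detChar_nsmul, hδ, show detChar (ilc l).1 = _ from detChar_units l,
    show detChar (irrOne R).1 = _ from detChar_units 1] at h9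
  simp only [h10, MonoidHom.one_apply, Units.val_one, one_pow, one_mul] at h9
  rw [MonoidHom.one_apply, ← orderOf_eq_one_iff]
  exact Nat.eq_one_of_dvd_coprimes (((Fact.out : p.Prime).coprime_iff_not_dvd.2 hR))
    (orderOf_dvd_of_pow_eq_one (Units.ext (by simpa using h9)))
    ((orderOf_map_dvd l r).trans (orderOf_dvd_natCard r))

end Cfsg.Agent.S4729
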