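import Cfsg.Statements.S4730
import Cfsg.Agent.Lib.Block.More

set_option autoImplicit false
open Cfsg

namespace Cfsg.Agent.S4730

open Cfsg.Agent.Blk
open Cfsg.Agent.Char hiding cj cj_mul cj_inv_cj cj_cj_inv

/-- Let p be a prime, M a maximal ideal of the algebraic integers containing p, and G a finite group with trivial centre, Sylow p-subgroup P of order p^a and centre Z(P) of order p^b. If χ is a faithful irreducible character of G whose degree is a power of p, then the p-block of χ has defect at most a − b; in particular, if P is abelian then χ lies in a block of defect zero. -/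
theorem result {G : Type*} [Group G] [Finite G] (p : ℕ) [Fact p.Prime] (M : Ideal Cfsg.AlgInt) (hM : Cfsg.IsPModular p M) (hZ : Subgroup.center G = ⊥) (P : Sylow p G) (a b : ℕ) (ha : Nat.card P = p ^ a) (hb : Nat.card (Subgroup.center ↥(P : Subgroup G)) = p ^ b) (χ : Cfsg.IrrCharacter G) (hfaith : ∀ g : G, (χ : G → ℂ) g = (χ : G → ℂ) 1 → g = 1) (n : ℕ) (hdeg : Cfsg.charDegree (χ : G → ℂ) = p ^ n) : Cfsg.blockDefect p (Cfsg.blockOf M (χ : G → ℂ)) ≤ a - b ∧ (IsMulCommutative ↥(P : Subgroup G) → Cfsg.blockDefect p (Cfsg.blockOf M (χ : G → ℂ)) = 0) := by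
  haveI : PMod M p := ⟨hM⟩
  classical
  have := Fintype.ofFinite G
  have hp := (Fact.out : p.Prime)
  have hB := isPBlock_blockOf (M := M) χ
  have hχ := mem_blockOf_self (M := M) χ
  set B := blockOf M (χ : G → ℂ)
  have hker : charKer (χ : G → ℂ) = ⊥ :=
    eq_bot_iff.2 fun g hg => hfaith g (χ.2.isCharacter.mem_charKer.1 hg)
  have hdeg' : (χ : G → ℂ) 1 = ((p ^ n : ℕ) : ℂ) := by rw [← hdeg, cast_deg]
  have ha' : (Nat.card G).factorization p = a := by
    have := (isSyl_sylow P).card_eq
    rw [ha, Subgroup.card_top] at this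
    exact (Nat.pow_right_injective hp.two_le this).symm
  have key : blockDefect p B + b ≤ a := by
    obtain ⟨ψ, hψ, h0⟩ := exists_height_zero p hB.nonempty
    set Z := (Subgroup.center (P : Subgroup G)).map (P : Subgroup G).subtype with hZdef
    have hZc : Nat.card Z = p ^ b := by
      rw [hZdef, Subgroup.card_map_of_injective (Subgroup.subtype_injective _), hb]
    have h1 : ∀ z : Z, z ≠ 1 → MemLocalIdeal M ((ψ : G → ℂ) z / (ψ : G → ℂ) 1) := by
      rintro ⟨_, z, hz, rfl⟩ hz1
      have h2 : ¬ p ∣ (Ce1 (z : G)).index := by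
        have := not_dvd_relIndex_of_isSyl (isSyl_sylow P) (K := Ce1 (z : G)) fun x hx =>
          mem_Ce1.2 (congrArg Subtype.val (Subgroup.mem_center_iff.1 hz ⟨x, hx⟩))
        rwa [Subgroup.relIndex_top_right] at this
      have h3 : (χ : G → ℂ) z = 0 := by
        refine (χ.2.eq_zero_or_norm_eq_of_coprime hdeg'
          ((hp.coprime_iff_not_dvd.2 h2).pow_left n)).resolve_right fun h5 => ?_
        rw [← χ.2.isCharacter.mem_charCenter, χ.2.charCenter_eq_center hker, hZ,
          Subgroup.mem_bot] at h5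
        exact hz1 (Subtype.ext h5)
      have h4 := hB.sameBlock hψ hχ z
      rw [centralChar, centralChar, h3, mul_zero, zero_div, sub_zero, mul_div_assoc, mul_comm,
        LI_mul_unit_iff (natCast_mem _ _) (by rwa [LI_natCast_iff])] at h4
      exact h4
    obtain ⟨m, hm⟩ := (ψ.2.isCharacter.res Z).classInner_eq_nat isCharacter_one
    rw [classInner_one_right, ← Finset.add_sum_erase _ _ (Finset.mem_univ 1)] at hm
    have h2 : MemLocalIdeal M (∑ z ∈ Finset.univ.erase (1 : Z), (ψ : G → ℂ) z / (ψ : G → ℂ) 1) :=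
      LI_sum _ _ fun z hz => h1 z (Finset.ne_of_mem_erase hz)
    set s := ∑ z ∈ Finset.univ.erase (1 : Z), (ψ : G → ℂ) z / (ψ : G → ℂ) 1 with hs
    have h3 : ¬ MemLocalIdeal M (1 + s) := fun h => not_LI_one (by simpa using LI_sub h h2)
    have h4 : ((charDegree (ψ : G → ℂ) : ℂ) / (p ^ b : ℕ)) * (1 + s) = m := by
      have := ψ.2.apply_one_ne_zero
      rw [← hm, hs, ← Finset.sum_div, cast_deg, hZc]
      simp only [OneMemClass.coe_one]
      field_simp
    have h5 : ((charDegree (ψ : G → ℂ) : ℂ) / (p ^ b : ℕ)) ∈ O M := by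
      rw [← mul_unit_mem_O_iff (add_mem (one_mem _) (LI_mem_O h2)) h3, h4]
      exact natCast_mem _ _
    rw [natDiv_mem_O_iff (charDegree_ne_zero ψ) (pow_ne_zero _ hp.ne_zero),
      factorization_pow_self] at h5
    have h6 := defect_eq_add (p := p) hψ
    have h7 := nu_le p ψ
    simp only [nu] at h6 h7
    omega
  refine ⟨by omega, fun hab => ?_⟩
  have : Subgroup.center (P : Subgroup G) = ⊤ := Subgroup.center_eq_top_iff.2 hab
  rw [this, Subgroup.card_top, ha] at hb
  have := Nat.pow_right_injective hp.two_le hb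
  omega

end Cfsg.Agent.S4730
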