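import Cfsg.Statements.S4733
import Cfsg.Agent.Lib.Block.Sect

set_option autoImplicit false
open Cfsg

namespace Cfsg.Agent.S4733

open Cfsg.Agent.Blk
open Cfsg.Agent.Char hiding cj cj_mul cj_inv_cj cj_cj_inv

/-- Let p be a prime, M a maximal ideal of the algebraic integers containing p, and B a p-block of the finite group G with k irreducible characters and p-regular rank l (the number of irreducible Brauer characters). Then l ≤ k, and the following are equivalent: B has defect 0; k = l = 1; k = l. -/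
theorem result {G : Type*} [Group G] [Finite G] (p : ℕ) [Fact p.Prime] (M : Ideal Cfsg.AlgInt) (hM : Cfsg.IsPModular p M) (B : Set (Cfsg.IrrCharacter G)) (hB : Cfsg.IsPBlock M B) : Cfsg.blockRank p B ≤ Nat.card B ∧ (Cfsg.blockDefect p B = 0 ↔ (Nat.card B = 1 ∧ Cfsg.blockRank p B = 1)) ∧ (Cfsg.blockDefect p B = 0 ↔ Nat.card B = Cfsg.blockRank p B) := by
  haveI : PMod M p := ⟨hM⟩
  have := Fact.mk (PMod.prime M)
  have h1 := blockRank_le_card (p := p) B
  have h2 := blockRank_pos (p := p) hB.nonempty
  obtain ⟨χ, hχ⟩ := hB.nonempty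
  have h3 : blockDefect p B = 0 → (fs B).card = 1 := fun h => by
    rw [← card_fs, hB.eq_singleton_of_nu hχ ((hB.defect_eq_zero_iff hχ).1 h)]; simp
  have h4 : (fs B).card = blockRank p B → blockDefect p B = 0 := fun h =>
    (hB.defect_eq_zero_iff hχ).2 (nu_eq_of_vanish fun x hx h1 =>
      hB.isUB.apply_eq_zero_of_rank h hχ (dvd_orderOf_of_pelt hx h1))
  rw [card_fs]
  refine ⟨h1, ⟨fun h => ?_, fun h => h4 (by omega)⟩, fun h => ?_, h4⟩
  · have := h3 h; omega
  · have := h3 h; omega

end Cfsg.Agent.S4733
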