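import Cfsg.Statements.S4734
import Cfsg.Agent.Lib.Block.Ker

set_option autoImplicit false
open Cfsg

namespace Cfsg.Agent.S4734

open Cfsg.Agent.Blk
open Cfsg.Agent.Char hiding cj cj_mul cj_inv_cj cj_cj_inv

/-- Let p be a prime, π a set of primes containing p, M a maximal ideal of the algebraic integers containing p, B a p-block of the finite group G with defect group D, and B₁ the block of N_G(D) with defect group D inducing B. Write O_π'(X) for the largest normal subgroup of X whose order has no prime divisor in π, and suppose every element of O_π'(N_G(D)) lies in the kernel of every member of B₁. Let G₀ be a subgroup and B₀ a block of G₀ with defect group D₀ such that C_G(D₀) ≤ G₀ and B₀ induces B. Then every element of O_π'(G₀) lies in the kernel of every member of B₀. -/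
theorem result {G : Type*} [Group G] [Finite G] (p : ℕ) [Fact p.Prime] (M : Ideal Cfsg.AlgInt) (hM : Cfsg.IsPModular p M) (π : Set ℕ) (hpπ : p ∈ π) (B : Set (Cfsg.IrrCharacter G)) (hB : Cfsg.IsPBlock M B) (D : Subgroup G) (hBD : Cfsg.IsDefectGroup p M B D) (B₁ : Set (Cfsg.IrrCharacter ↥(Subgroup.normalizer (D : Set G)))) (hB₁ : Cfsg.IsInducedBlock M (Subgroup.normalizer (D : Set G)) B₁ B) (hB₁D : Cfsg.IsDefectGroup p M B₁ (D.subgroupOf (Subgroup.normalizer (D : Set G)))) (hker : ∀ n : ↥(Subgroup.normalizer (D : Set G)), n ∈ Cfsg.piCore {q | q ∉ π} ↥(Subgroup.normalizer (D : Set G)) → n ∈ Cfsg.blockKer B₁) (G₀ : Subgroup G) (B₀ : Set (Cfsg.IrrCharacter ↥G₀)) (hB₀ : Cfsg.IsInducedBlock M G₀ B₀ B) (D₀ : Subgroup ↥G₀) (hD₀ : Cfsg.IsDefectGroup p M B₀ D₀) (hC : Subgroup.centralizer ((D₀.map G₀.subtype : Subgroup G) : Set G) ≤ G₀) : ∀ x : ↥G₀, x ∈ Cfsg.piCore {q | q ∉ π} ↥G₀ → x ∈ Cfsg.blockKer B₀ := by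
  haveI : PMod M p := ⟨hM⟩
  haveI := Fact.mk (PMod.prime M)
  obtain ⟨hb1, -, h1⟩ := isInducedBlock_iff.1 hB₁
  obtain ⟨hb0, -, h0⟩ := isInducedBlock_iff.1 hB₀
  have hp' : p ∉ {q | q ∉ π} := fun h => h hpπ
  have hD := hB.isDefectGroup_iff.1 hBD
  have h2 : barS M (No D) B₁ = Br D (bar M B) := eq_Br_of_ind hB.isBlock hD
    (by rw [top_inf_eq]; exact hb1.isBlockS) (by rwa [top_inf_eq])
  have h3 := (hb1.eK_mul_iff (not_dvd_piCoreOf hp' (No D)) (piCoreOf_le _ _)
    ((le_No _).trans (No_le_No_piCoreOf _ _))).2 fun h hh => hker h (mem_piCoreOf.1 hh)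
  rw [h2, ← top_inf_eq (No D)] at h3
  obtain ⟨e, hm⟩ := (hb0.isDefectGroup_iffS.1 hD₀).exists_isMP hb0.isBlockS
  obtain ⟨h4, h5⟩ := hm.pair_of_ind (H := ⊤) (inf_le_right.trans hC) le_top hB.isBlock h0
  have h6 := h4.eK_core hB.isBlock hD h5 hp' h3
  rw [← inf_Ce_eq_of_le (inf_le_right.trans hC) le_top le_rfl] at h6
  have h7 := ((hm.bp.nsub_bot_iff hm.blkB).2 hm.eq).ple.eK_down hp' h6
  rw [Ce_bot, inf_top_eq] at h7
  exact fun x hx => (hb0.eK_mul_iff (not_dvd_piCoreOf hp' G₀) (piCoreOf_le _ _)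
    ((le_No _).trans (No_le_No_piCoreOf _ _))).1 h7 x (mem_piCoreOf.2 hx)

end Cfsg.Agent.S4734
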