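import Cfsg.Statements.S4735
import Cfsg.Agent.Lib.Block.Gal
import Cfsg.Agent.Lib.Solv.Cores

set_option autoImplicit false
open Cfsg

namespace Cfsg.Agent.S4735

open Cfsg.Agent.Blk
open Cfsg.Agent.Char hiding cj cj_mul cj_inv_cj cj_cj_inv
open scoped ComplexConjugate

/-- Let p be a prime, M a maximal ideal of the algebraic integers containing p, G a finite group, H = O_p'(G) and Ḡ = G/H. For x ∈ G write λ(G, x) for the sum of |χ(x)|^2 over the irreducible characters χ in the principal p-block of G. Then λ(G, x) is a positive integer, λ(G, x) = λ(Ḡ, x̄) where x̄ is the image of x, and λ(G, x) ≤ #C_Ḡ(x̄). Moreover λ(G, 1) = [G : H] if and only if the principal block is the only p-block of Ḡ. -/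
theorem result {G : Type*} [Group G] [Finite G] (p : ℕ) [Fact p.Prime] (M : Ideal Cfsg.AlgInt) (hM : Cfsg.IsPModular p M) (x : G) : (∃ n : ℕ, 0 < n ∧ ∑ᶠ χ ∈ Cfsg.principalBlock M G, Complex.normSq ((χ : G → ℂ) x) = n) ∧ ∑ᶠ χ ∈ Cfsg.principalBlock M G, Complex.normSq ((χ : G → ℂ) x) = ∑ᶠ ψ ∈ Cfsg.principalBlock M (G ⧸ Cfsg.pPrimeCore p G), Complex.normSq ((ψ : G ⧸ Cfsg.pPrimeCore p G → ℂ) (QuotientGroup.mk x)) ∧ ∑ᶠ χ ∈ Cfsg.principalBlock M G, Complex.normSq ((χ : G → ℂ) x) ≤ (Nat.card ↥(Subgroup.centralizer ({(QuotientGroup.mk x : G ⧸ Cfsg.pPrimeCore p G)} : Set (G ⧸ Cfsg.pPrimeCore p G))) : ℝ) ∧ ((∑ᶠ χ ∈ Cfsg.principalBlock M G, Cfsg.charDegree (χ : G → ℂ) ^ 2) = (Cfsg.pPrimeCore p G).index ↔ ∀ B : Set (Cfsg.IrrCharacter (G ⧸ Cfsg.pPrimeCore p G)), Cfsg.IsPBlock M B → B = Cfsg.principalBlock M (G ⧸ Cfsg.pPrimeCore p G)) := by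
  haveI : PMod M p := ⟨hM⟩
  classical
  have := Fintype.ofFinite G
  set N := pPrimeCore p G with hN
  have := Fintype.ofFinite (G ⧸ N)
  have hs : Function.Surjective (QuotientGroup.mk' N) := QuotientGroup.mk'_surjective N
  have hnd : ¬ p ∣ Nat.card N := Solv.not_dvd_card_pPrimeCore
  have hpre := preimage_principal (M := M) hs fun f hf =>
    exists_emb_eq_of_not_dvd (p := p) hs (by rwa [QuotientGroup.ker_mk']) hf.mem
  have hsum : ∀ {β : Type} [AddCommMonoid β] (F : IrrCharacter G → β),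
      ∑ᶠ χ ∈ principalBlock M G, F χ = ∑ᶠ ψ ∈ principalBlock M (G ⧸ N), F (infl hs ψ) := by
    intro β _ F
    rw [finsum_fs, finsum_fs]
    symm
    refine Finset.sum_bij (fun ψ _ => infl hs ψ) (fun ψ h => ?_) (fun _ _ _ _ h => infl_injective hs h)
      (fun χ h => ?_) (fun _ _ => rfl)
    · rw [mem_fs, ← hpre] at h; exact mem_fs.2 h
    · rw [mem_fs] at h
      obtain ⟨ψ, rfl⟩ := exists_infl_eq hs (χ := χ) (by
        rw [QuotientGroup.ker_mk']; exact le_charKer_of_principal hnd h)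
      exact ⟨ψ, mem_fs.2 (hpre ▸ h), rfl⟩
  refine ⟨?_, hsum _, ?_, ?_⟩
  · rw [finsum_fs]
    have h1 : ((∑ χ ∈ fs (principalBlock M G), Complex.normSq ((χ : G → ℂ) x) : ℝ) : ℂ) =
        ∑ χ ∈ fs (principalBlock M G), (χ : G → ℂ) x * conj ((χ : G → ℂ) x) := by
      push_cast
      exact Finset.sum_congr rfl fun χ _ => (Complex.mul_conj _).symm
    obtain ⟨n, hn⟩ := exists_int_of_forall_ringEquiv
      (z := ∑ χ ∈ fs (principalBlock M G), (χ : G → ℂ) x * conj ((χ : G → ℂ) x))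
      (IsIntegral.sum _ fun χ _ => (χ.2.isCharacter.isIntegral x).mul
        (isIntegral_conj (χ.2.isCharacter.isIntegral x))) (fun σ => by
      rw [map_sum]
      refine Finset.sum_bij (fun χ _ => irrGalois σ χ) (fun χ h => ?_)
        (fun _ _ _ _ h => (irrGalois σ).injective h) (fun χ h => ?_) (fun χ _ => ?_)
      · rw [mem_fs] at h ⊢; exact (gal_mem_principal_iff σ).2 h
      · rw [mem_fs] at h
        exact ⟨irrGalois σ.symm χ, mem_fs.2 ((gal_mem_principal_iff _).2 h), gal_gal_symm σ χ⟩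
      · rw [map_mul, map_conj_irr, gal_apply])
    rw [hn] at h1
    have h2 : (∑ χ ∈ fs (principalBlock M G), Complex.normSq ((χ : G → ℂ) x) : ℝ) = n := by
      exact_mod_cast h1
    have h3 : (1 : ℝ) ≤ ∑ χ ∈ fs (principalBlock M G), Complex.normSq ((χ : G → ℂ) x) := by
      have := Finset.single_le_sum (f := fun χ : IrrCharacter G => Complex.normSq ((χ : G → ℂ) x))
        (fun χ _ => Complex.normSq_nonneg _) (mem_fs.2 (irrOne_mem_principal (M := M) (G := G)))
      simpa using this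
    rw [h2] at h3 ⊢
    have h4 : (1 : ℤ) ≤ n := by exact_mod_cast h3
    refine ⟨n.toNat, by omega, ?_⟩
    rw [← Int.cast_natCast, Int.toNat_of_nonneg (by omega)]
  · rw [hsum, finsum_fs, ← sum_norm_sq_column]
    simp only [infl_apply, Complex.normSq_eq_norm_sq]
    exact Finset.sum_le_sum_of_subset_of_nonneg (Finset.subset_univ _) fun _ _ _ => by positivity
  · rw [hsum, finsum_fs]
    simp only [charDegree_infl]
    rw [Subgroup.index, ← sum_charDegree_sq (G := G ⧸ N)]
    constructor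
    · intro h B hB
      obtain ⟨χ, hχ⟩ := hB.nonempty
      refine hB.eq_of_mem isPBlock_principal hχ (by_contra fun hn => ?_)
      have := Finset.sum_lt_sum_of_subset (Finset.subset_univ (fs (principalBlock M (G ⧸ N))))
        (Finset.mem_univ χ) (by simpa using hn)
        (f := fun χ : IrrCharacter (G ⧸ N) => charDegree χ.1 ^ 2)
        (pow_pos (Nat.pos_of_ne_zero (charDegree_ne_zero χ)) 2) (fun _ _ _ => Nat.zero_le _)
      exact this.ne h
    · intro h
      refine Finset.sum_congr (Finset.eq_univ_of_forall fun χ => mem_fs.2 ?_) fun _ _ => rfl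
      rw [← h _ (isPBlock_blockOf χ)]; exact mem_blockOf_self χ

end Cfsg.Agent.S4735
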