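import Cfsg.Statements.S4736
import Cfsg.Agent.Lib.Block.Max
import Cfsg.Agent.Lib.Char.ItoP
import Cfsg.Agent.Lib.Block.Quot

set_option autoImplicit false
open Cfsg

namespace Cfsg.Agent.S4736

open Cfsg.Agent.Blk
open Cfsg.Agent.Char hiding cj cj_mul cj_inv_cj cj_cj_inv

/-- Let p be a prime, M a maximal ideal of the algebraic integers containing p, and G a finite p-solvable group with Sylow p-subgroup P. Then P is abelian if and only if every irreducible character in the principal p-block of G has height zero. -/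
theorem result {G : Type*} [Group G] [Finite G] (p : ℕ) [Fact p.Prime] (M : Ideal Cfsg.AlgInt) (hM : Cfsg.IsPModular p M) (hsolv : Cfsg.IsPSolvable p G) (P : Sylow p G) : IsMulCommutative P ↔ ∀ χ ∈ Cfsg.principalBlock M G, Cfsg.blockHeight p (Cfsg.principalBlock M G) (χ : G → ℂ) = 0 := by
  haveI : PMod M p := ⟨hM⟩
  have hs := QuotientGroup.mk'_surjective (pPrimeCore p G)
  have h1 := Transfer.psol_surj hs (Comp.pSol_top_of_isPSolvable hsolv)
  set Q := P.mapSurjective hs
  constructor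
  · intro hab χ hχ
    rw [height_principal_iff hχ]
    obtain ⟨ψ, rfl⟩ := exists_infl_eq hs (χ := χ) (by
      rw [QuotientGroup.ker_mk']; exact (mem_principal_iff_of_pSolvable hsolv).1 hχ)
    have h2 : ∀ a ∈ Q.1, ∀ b ∈ Q.1, a * b = b * a := by
      rintro _ ⟨a, ha, rfl⟩ _ ⟨b, hb, rfl⟩
      rw [← map_mul, ← map_mul]
      exact congrArg _ (congrArg Subtype.val (hab.is_comm.comm ⟨a, ha⟩ ⟨b, hb⟩))
    have h3 : pCore p (G ⧸ pPrimeCore p G) ≤ Q := Solv.pCore_le_sylow Q
    have h4 : Q.1 ≤ pCore p (G ⧸ pPrimeCore p G) := fun a ha =>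
      Transfer.psol_charP h1 Solv.pPrimeCore_quotient_pPrimeCore
        (Subgroup.mem_centralizer_iff.2 fun b hb => h2 b (h3 hb) a ha)
    have := Fintype.ofFinite (G ⧸ pPrimeCore p G)
    have h5 := ψ.2.degree_dvd_index_of_comm (N := pCore p _) (fun a ha b hb => h2 a (h3 ha) b (h3 hb))
      (cast_deg ψ).symm
    rw [charDegree_infl]
    exact fun hd => Q.not_dvd_index ((hd.trans h5).trans (Subgroup.index_dvd_of_le h4))
  · intro h
    obtain ⟨-, h2⟩ := ito_sylow h1 (fun ψ hψ => by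
      have h2 : infl hs ⟨ψ, hψ⟩ ∈ principalBlock M G := (mem_principal_iff_of_pSolvable hsolv).2 (by
        simpa using ker_le_charKer_infl hs ⟨ψ, hψ⟩)
      exact (height_principal_iff h2).1 (h _ h2)) Q
    refine ⟨⟨fun a b => Subtype.ext ?_⟩⟩
    have h3 : ((a * b : G) : G ⧸ pPrimeCore p G) = (b * a : G) :=
      congrArg Subtype.val (h2.is_comm.comm ⟨_, a, a.2, rfl⟩ ⟨_, b, b.2, rfl⟩)
    rw [QuotientGroup.eq] at h3
    have h4 := eq_one_of_pelt_of_preg (pelt_of_mem P.isPGroup' ((a * b)⁻¹ * (b * a)).2) fun hd =>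
      Solv.not_dvd_card_pPrimeCore (hd.trans (Subgroup.orderOf_dvd_natCard _ h3))
    exact inv_mul_eq_one.1 h4

end Cfsg.Agent.S4736
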