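import Cfsg.Statements.S4737
import Cfsg.Agent.Lib.Block.Trace

set_option autoImplicit false
open Cfsg

namespace Cfsg.Agent.S4737

open Cfsg.Agent.Blk
open Cfsg.Agent.Char hiding cj cj_mul cj_inv_cj cj_cj_inv
open scoped ComplexConjugate
open MonoidAlgebra

/-- Let G be a finite group of order divisible by 6. Then the number of irreducible characters of G whose degree has the same 2-part as the order of G (the characters of 2-defect zero, each forming a 2-block of defect zero on its own) is at least the number of conjugacy classes of elements of order 3 that normalize no nontrivial 2-subgroup of G. In particular G has a 2-block of defect zero as soon as some element of order 3 normalizes no nontrivial 2-subgroup. -/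
theorem result {G : Type*} [Group G] [Finite G] (h6 : 6 ∣ Nat.card G) : Nat.card {C : ConjClasses G // ∃ g ∈ C.carrier, orderOf g = 3 ∧ ∀ Q : Subgroup G, IsPGroup 2 ↥Q → g ∈ Subgroup.normalizer (Q : Set G) → Q = ⊥} ≤ Nat.card {χ : Cfsg.IrrCharacter G // (Cfsg.charDegree (χ : G → ℂ)).factorization 2 = (Nat.card G).factorization 2} := by
  classical
  have := Fintype.ofFinite G
  have := Fintype.ofFinite (ConjClasses G)
  obtain ⟨M, hM⟩ := exists_pmod 2
  set R : ConjClasses G → Prop := fun C => ∃ g ∈ C.carrier, orderOf g = 3 ∧ ∀ Q : Subgroup G,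
    IsPGroup 2 ↥Q → g ∈ Subgroup.normalizer (Q : Set G) → Q = ⊥ with hR
  have hR1 : ∀ g, R (ConjClasses.mk g) → orderOf g = 3 ∧ ∀ Q : Subgroup G,
      IsPGroup 2 ↥Q → g ∈ No Q → Q = ⊥ := by
    rintro g ⟨y, h1, h2, h3⟩
    obtain ⟨x, rfl⟩ := isConj_iff.1 (ConjClasses.mk_eq_mk_iff_isConj.1
      (ConjClasses.mem_carrier_iff_mk_eq.1 h1))
    refine ⟨by rwa [orderOf_conj'], fun Q hQ h => cs_injective x⁻¹ ?_⟩
    rw [cs_bot]
    refine h3 _ (isPGroup_cs _ hQ) ?_
    change y ∈ No _
    rw [← cs_No, mem_cs]; simpa using h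
  have hcd : ∀ g, R (ConjClasses.mk g) → ¬ 2 ∣ Nat.card (Ce1 g) := fun g h h2 => by
    obtain ⟨D, hD⟩ := exists_isSyl 2 (Ce1 g)
    have h3 := (hR1 g h).2 D hD.pg (Ce_le_No D (mem_Ce_iff_le.2 hD.le))
    apply hD.not_dvd_relIndex
    rwa [h3, Subgroup.relIndex_bot_left]
  let L : ({C // R C} → kk M) →ₗ[kk M] ({χ : IrrCharacter G // (charDegree (χ : G → ℂ)).factorization 2 =
      (Nat.card G).factorization 2} → kk M) :=
    Matrix.mulVecLin (Matrix.of fun χ C => rd M (centralChar χ.1.1 (rp C.1)))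
  have hL : Function.Injective L := by
    refine (injective_iff_map_eq_zero L).2 fun c hc => ?_
    choose c' hc' using fun C => res_surjective (M := M) (c C)
    let F : G → ℂ := fun g => if h : R (ConjClasses.mk g) then c' ⟨_, h⟩ else 0
    have hF0 : ∀ g, F g ∈ O M := fun g => by
      simp only [F]; split_ifs; exacts [(c' _).2, zero_mem _]
    have hF1 : ∀ x g, F (x * g * x⁻¹) = F g := fun x g => by
      have : ConjClasses.mk (x * g * x⁻¹) = ConjClasses.mk g :=
        ConjClasses.mk_eq_mk_iff_isConj.2 (isConj_iff.2 ⟨x, rfl⟩).symm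
      simp only [F, this]
    have hF2 : ∀ g, F g ≠ 0 → R (ConjClasses.mk g) := fun g h => by_contra fun h' => h (dif_neg h')
    have hz : ofFun F ∈ Z ℂ (⊤ : Subgroup G) := ofFun_mem_Z hF1
    have hom : ∀ χ : IrrCharacter G, om χ (ofFun F) = ∑ C, F (rp C) * centralChar χ.1 (rp C) :=
      fun χ => by
      conv_lhs => rw [Z_eq_sum_cls hz, om_sum]
      exact Finset.sum_congr rfl fun C _ => by
        rw [om_smul, om_cls χ.2.isClassFunction, coeff_ofFun]
    have h1 : ∀ χ : IrrCharacter G, MemLocalIdeal M (om χ (ofFun F)) := fun χ => by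
      rw [hom]
      by_cases h : nu 2 χ = (Nat.card G).factorization 2
      · have h2 := congrFun hc ⟨χ, h⟩
        simp only [L, Matrix.mulVecLin_apply, Matrix.mulVec, dotProduct, Matrix.of_apply,
          Pi.zero_apply] at h2
        rw [← rd_eq_zero_iff (sum_mem fun C _ => mul_mem (hF0 _) (centralChar_mem_O χ.2 _)),
          rd_sum _ _ fun C _ => mul_mem (hF0 _) (centralChar_mem_O χ.2 _), ← h2,
          ← Finset.sum_subset (Finset.subset_univ (Finset.univ.filter R)) fun C _ hC => by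
            have : F (rp C) = 0 := by_contra fun h0 => hC (by simpa using hF2 _ h0)
            rw [this, zero_mul, rd_zero], Finset.sum_subtype (p := R) _ (by simp)]
        refine Finset.sum_congr rfl fun C _ => ?_
        rw [rd_mul (hF0 _) (centralChar_mem_O χ.2 _), mul_comm, ← hc']
        simp only [F, mk_rp, dif_pos C.2, rd_coe]
      · refine LI_sum _ _ fun C _ => ?_
        by_cases h0 : F (rp C) = 0
        · rw [h0, zero_mul]; exact LI_zero
        refine LI_mul_left (hF0 _) (by_contra fun h2 => h (le_antisymm (nu_le _ _) ?_))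
        have h3 := nu_ge_of_centralChar χ h2
        have h4 := factorization_index_add 2 (Ce1 (rp C))
        rw [Nat.factorization_eq_zero_of_not_dvd (hcd _ (hF2 _ h0))] at h4
        omega
    have h2 : ∀ χ : IrrCharacter G, (Nat.card G : ℂ)⁻¹ * (om χ (ofFun F) * χ.1 1) ∈ O M :=
      fun χ => by
      rw [hom, Finset.sum_mul, Finset.mul_sum]
      refine sum_mem fun C _ => ?_
      by_cases h0 : F (rp C) = 0
      · rw [h0]; simp
      rw [← om_cls χ.2.isClassFunction, mul_assoc, ← ch_eq_om χ.2, ch_cls χ.2.isClassFunction,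
        ← (Ce1 (rp C)).index_mul_card, Nat.cast_mul]
      have h3 : ((Ce1 (rp C)).index : ℂ) ≠ 0 := Nat.cast_ne_zero.2 Subgroup.index_ne_zero_of_finite
      convert mul_mem (natCast_inv_mem_O (M := M) (hcd _ (hF2 _ h0)))
        (mul_mem (hF0 (rp C)) (irr_mem_O M χ (rp C))) using 1
      field_simp
    funext C
    obtain ⟨C, hC⟩ := C
    set x := rp C with hx
    have hx1 : R (ConjClasses.mk x) := by rwa [hx, mk_rp]
    have hx3 : x ^ 3 = 1 := by rw [← (hR1 x hx1).1, pow_orderOf_eq_one]
    have h3 : MemLocalIdeal M ((ofFun F * ofFun F).coeff x⁻¹) := by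
      rw [coeff_Z_eq_sum (mul_mem hz hz), Finset.mul_sum]
      refine LI_sum _ _ fun χ _ => ?_
      rw [om_mul χ.2 hz]
      convert LI_mul_left (mul_mem (h2 χ) (conj_irr_mem_O M χ x⁻¹)) (h1 χ) using 1
      ring
    have h4 : ∀ g, F g * F (g⁻¹ * x⁻¹) ∈ O M := fun g => mul_mem (hF0 _) (hF0 _)
    rw [coeff_mul_left] at h3
    simp only [coeff_ofFun] at h3
    have hx2 : x⁻¹ = x * x := by
      rw [inv_eq_iff_mul_eq_one, ← mul_assoc, ← pow_three', hx3]
    let π : Equiv.Perm G := Function.Involutive.toPerm (fun g => x * g⁻¹ * x) fun g => by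
      simp [mul_assoc]
    rw [← rd_eq_zero_iff (sum_mem fun g _ => h4 g), rd_sum _ _ fun g _ => h4 g,
      sum_eq_sum_fixed_perm (p := 2) π (e := 1) (by ext g; simp [π, pow_two, mul_assoc]) _
        (fun g => by
          have e1 : x * g⁻¹ * x = x * (g⁻¹ * x⁻¹) * x⁻¹ := by
            rw [mul_assoc x, mul_assoc x, mul_assoc g⁻¹, ← mul_inv_rev, ← hx2,
              inv_inv]
          have e2 : (x * g⁻¹ * x)⁻¹ * x⁻¹ = x⁻¹ * g * x⁻¹⁻¹ := by
            rw [inv_inv, mul_inv_rev, mul_inv_rev, inv_inv, mul_assoc, mul_assoc, mul_assoc,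
              ← mul_inv_rev, ← hx2, inv_inv]
          change rd M (F (x * g⁻¹ * x) * F ((x * g⁻¹ * x)⁻¹ * x⁻¹)) = _
          rw [e2, e1, hF1, hF1, mul_comm]),
      Finset.sum_eq_single_of_mem x (Finset.mem_filter.2 ⟨Finset.mem_univ _, by
        change x * x⁻¹ * x = x; simp⟩)] at h3
    · have e1 : x⁻¹ * x⁻¹ = x := by rw [← mul_inv_rev, ← hx2, inv_inv]
      rw [e1, rd_mul (hF0 _) (hF0 _), mul_self_eq_zero] at h3
      rw [Pi.zero_apply, ← hc', ← h3]
      simp only [F, hx, mk_rp, dif_pos hC, rd_coe]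
    · intro g hg hne
      have h5 : x * g⁻¹ * x = g := (Finset.mem_filter.1 hg).2
      by_contra h6
      have h7 : F g ≠ 0 := fun h => h6 (by rw [h, zero_mul, rd_zero])
      have h8 : F (g⁻¹ * x⁻¹) ≠ 0 := fun h => h6 (by rw [h, mul_zero, rd_zero])
      apply hne
      -- `w = g⁻¹ x` is an involution whose conjugates under `x` form a four-group
      obtain ⟨w, hw⟩ : ∃ w, w = g⁻¹ * x := ⟨_, rfl⟩
      have hg' : g = x * w := by rw [hw, ← mul_assoc, h5]
      have hw2 : w * w = 1 := by
        rw [hw, mul_assoc, ← mul_assoc x, h5, inv_mul_cancel]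
      have hg3 : g ^ 3 = 1 := by rw [← (hR1 g (hF2 g h7)).1, pow_orderOf_eq_one]
      have hwi : w⁻¹ = w := inv_eq_of_mul_eq_one_right hw2
      have h9 : w * (x * w * x⁻¹) = x⁻¹ * w * x := by
        rw [hg', pow_three'] at hg3
        have e1 : w * x * w = x⁻¹ * w⁻¹ * x⁻¹ := by
          rw [← mul_inv_rev, ← mul_inv_rev, eq_inv_iff_mul_eq_one]
          have : x * w * (x * w) * (x * w) = x * (w * x * w * (x * (w * x))) * x⁻¹ := by group
          rw [this] at hg3
          simpa using hg3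
        rw [← mul_assoc, ← mul_assoc, e1, hwi, mul_assoc, ← mul_inv_rev, ← hx2, inv_inv]
      have h10 : Commute w (x * w * x⁻¹) := by
        have e1 : (x * w * x⁻¹)⁻¹ = x * w * x⁻¹ := by rw [conj_inv, hwi]
        have e2 : (x⁻¹ * w * x)⁻¹ = x⁻¹ * w * x := by
          rw [mul_inv_rev, mul_inv_rev, hwi, inv_inv, mul_assoc]
        rw [Commute, SemiconjBy, h9, ← e2, ← h9, mul_inv_rev, e1, hwi]
      have hp2 : ∀ y : G, y * y = 1 → IsPGroup 2 (Subgroup.zpowers y) := fun y hy =>
        isPGroup_zpowers (pelt_iff.2 ⟨1, by rwa [pow_one, pow_two]⟩)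
      have h11 := (hR1 x hx1).2 (Subgroup.zpowers w ⊔ Subgroup.zpowers (x * w * x⁻¹))
        (isPGroup_sup (hp2 w hw2) (hp2 _ (by rw [conj_mul, hw2]; simp))
          (Subgroup.zpowers_le.2 (Ce_le_No _ (by rw [Ce_zpowers]; exact mem_Ce1.2 h10))))
        (mem_No.2 (Subgroup.eq_of_le_of_card_ge ?_ (card_cs _ _).ge))
      · have : w = 1 := by
          rw [← Subgroup.mem_bot, ← h11]; exact Subgroup.mem_sup_left (Subgroup.mem_zpowers w)
        rw [hg', this, mul_one]
      rw [cs_sup]
      refine sup_le ?_ ?_ <;> rw [cs, MonoidHom.map_zpowers, Subgroup.zpowers_le]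
      · exact Subgroup.mem_sup_right (Subgroup.mem_zpowers _)
      · have : x * (x * w * x⁻¹) * x⁻¹ = w * (x * w * x⁻¹) := by
          rw [h9, ← mul_assoc, ← mul_assoc, ← hx2, mul_assoc, ← mul_inv_rev, ← hx2, inv_inv]
        change x * (x * w * x⁻¹) * x⁻¹ ∈ _
        rw [this]
        exact Subgroup.mul_mem_sup (Subgroup.mem_zpowers _) (Subgroup.mem_zpowers _)
  simpa using LinearMap.finrank_le_finrank_of_injective hL

end Cfsg.Agent.S4737
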