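import Cfsg.Statements.S4738
import Cfsg.Agent.Lib.Block.Ker

set_option autoImplicit false
open Cfsg

namespace Cfsg.Agent.S4738

open Cfsg.Agent.Blk
open Cfsg.Agent.Char hiding cj cj_mul cj_inv_cj cj_cj_inv

/-- Let p be an odd prime and G a finite group of even order containing no element of order 2p. Then either G has an irreducible character of p-defect zero (its degree has the same p-part as the order of G), or every Sylow p-subgroup of G is abelian and all involutions of G are conjugate. -/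
theorem result {G : Type*} [Group G] [Finite G] (p : ℕ) [Fact p.Prime] (hp2 : p ≠ 2) (hG : Even (Nat.card G)) (h2p : ∀ g : G, orderOf g ≠ 2 * p) : (∃ χ : Cfsg.IrrCharacter G, (Cfsg.charDegree (χ : G → ℂ)).factorization p = (Nat.card G).factorization p) ∨ ((∀ P : Sylow p G, IsMulCommutative ↥(P : Subgroup G)) ∧ ∀ s t : G, orderOf s = 2 → orderOf t = 2 → IsConj s t) := by
  refine (defect_zero_or_inverted hp2 fun g h1 hg => ?_).elim Or.inl fun h => ?_
  · refine Nat.not_even_iff_odd.1 fun h => ?_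
    obtain ⟨t, ht⟩ := exists_prime_orderOf_dvd_card' 2 (even_iff_two_dvd.1 h)
    rw [← Subgroup.orderOf_coe] at ht
    obtain ⟨m, hm⟩ := dvd_orderOf_of_pelt hg h1
    have hp : p.Prime := Fact.out
    have h2 : orderOf (g ^ m) = p := by
      have h0 : m ≠ 0 := fun h => (orderOf_pos g).ne' (by rw [hm, h, mul_zero])
      rw [orderOf_pow_of_dvd h0 (Dvd.intro_left _ hm.symm), hm, Nat.mul_div_cancel _ (Nat.pos_of_ne_zero h0)]
    have hc : Commute (t : G) (g ^ m) := Commute.pow_right (mem_Ce1.1 t.2) m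
    refine h2p (t * g ^ m) ?_
    rw [hc.orderOf_mul_eq_mul_orderOf_of_coprime (by
      rw [ht, h2]; exact (Nat.coprime_primes Nat.prime_two hp).2 hp2.symm), ht, h2]
  by_cases hpG : p ∣ Nat.card G
  swap
  · refine Or.inl ⟨irrOne G, ?_⟩
    rw [Nat.factorization_eq_zero_of_not_dvd hpG, Nat.factorization_eq_zero_of_not_dvd
      fun h => hpG (h.trans (deg_dvd_card _))]
  obtain ⟨t, ht⟩ := exists_prime_orderOf_dvd_card' 2 (even_iff_two_dvd.1 hG)
  refine Or.inr ⟨fun P => ?_, fun s t hs ht => ?_⟩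
  · obtain ⟨s, -, hs⟩ := h t ht P (isSyl_sylow P)
    exact comm_of_inverted hs
  obtain ⟨P, hP⟩ := exists_isSyl p (⊤ : Subgroup G)
  obtain ⟨s', h1, h2⟩ := h s hs P hP
  obtain ⟨t', h3, h4⟩ := h t ht P hP
  obtain ⟨z, hz⟩ := exists_prime_orderOf_dvd_card' (G := P) p (by
    rw [hP.card_eq, Subgroup.card_top]
    exact dvd_pow_self _ ((Fact.out : p.Prime).factorization_pos_of_dvd Nat.card_pos.ne' hpG).ne')
  rw [← Subgroup.orderOf_coe] at hz
  have hs' : s' * s' = 1 := by rw [← sq, ← hs, orderOf_of_isConj h1, pow_orderOf_eq_one]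
  have ht' : t' * t' = 1 := by rw [← sq, ← ht, orderOf_of_isConj h3, pow_orderOf_eq_one]
  have hc : Commute (s' * t') z := by
    have h5 := h4 z z.2
    have h6 := h2 _ (inv_mem z.2)
    rw [inv_inv, ← h5] at h6
    calc s' * t' * z = (s' * (t' * z * t'⁻¹) * s'⁻¹) * (s' * t') := by group
      _ = _ := by rw [h6]
  have hodd : Odd (orderOf (s' * t')) := by
    refine Nat.not_even_iff_odd.1 fun ⟨m, hm⟩ => ?_
    have h0 : m ≠ 0 := fun h => (orderOf_pos (s' * t')).ne' (by rw [hm, h])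
    have h5 : orderOf ((s' * t') ^ m) = 2 := by
      rw [orderOf_pow_of_dvd h0 ⟨2, by omega⟩, hm, ← mul_two, Nat.mul_div_cancel_left _ (Nat.pos_of_ne_zero h0)]
    refine h2p ((s' * t') ^ m * z) ?_
    rw [(hc.pow_left m).orderOf_mul_eq_mul_orderOf_of_coprime (by
      rw [hz, h5]; exact (Nat.coprime_primes Nat.prime_two Fact.out).2 hp2.symm), hz, h5]
  obtain ⟨m, hm⟩ := hodd
  have h5 : (s' * t') ^ (2 * m + 1) = 1 := by rw [← hm, pow_orderOf_eq_one]
  have h6 : t' * (s' * t') * t'⁻¹ = (s' * t')⁻¹ := by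
    rw [mul_inv_rev, inv_eq_of_mul_eq_one_right hs', inv_eq_of_mul_eq_one_right ht']
    simp [mul_assoc, ht']
  have h7 : t' * (s' * t') ^ (m + 1) * t'⁻¹ = ((s' * t') ^ (m + 1))⁻¹ := by
    rw [← conj_pow, h6, inv_pow]
  have h8 : IsConj t' s' := isConj_iff.2 ⟨(s' * t') ^ (m + 1), by
    rw [← h7]
    calc _ = (s' * t') ^ (m + 1) * (t' * t') * (s' * t') ^ (m + 1) * t'⁻¹ := by group
      _ = (s' * t') ^ (2 * m + 1) * (s' * t') * t'⁻¹ := by
        rw [ht', mul_one, ← pow_add, ← pow_succ]; congr 2; ring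
      _ = _ := by rw [h5]; group⟩
  exact h1.trans (h8.symm.trans h3.symm)

end Cfsg.Agent.S4738
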