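import Cfsg.Statements.S4740
import Cfsg.Agent.Lib.Block.Rob

set_option autoImplicit false
open Cfsg

namespace Cfsg.Agent.S4740

open Cfsg.Agent.Blk
open Cfsg.Agent.Char hiding cj cj_mul cj_inv_cj cj_cj_inv

/-- Let p be an odd prime, G a finite group of even order, x an involution of G and P a subgroup of G of order p ^ c such that no conjugate of x inverts a non-identity element of P. If p ^ a is the p-part of the order of C_G(x), then some irreducible character of G has degree divisible by p ^ (c - a). -/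
theorem result {G : Type*} [Group G] [Finite G] (p : ℕ) [Fact p.Prime] (hp2 : p ≠ 2) (hG : Even (Nat.card G)) (x : G) (hx : orderOf x = 2) (P : Subgroup G) (c : ℕ) (hP : Nat.card ↥P = p ^ c) (hinv : ∀ g : G, IsConj x g → ∀ z ∈ P, z ≠ 1 → g * z * g⁻¹ ≠ z⁻¹) (a : ℕ) (ha : (Nat.card ↥(Subgroup.centralizer ({x} : Set G))).factorization p = a) : ∃ χ : Cfsg.IrrCharacter G, p ^ (c - a) ∣ Cfsg.charDegree (χ : G → ℂ) := by
  have hp := (Fact.out : p.Prime)
  obtain ⟨χ, hχ⟩ := exists_nu_ge_of_sep p (P := P) (x := x) fun g h h1 h2 h3 => by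
    by_contra hne
    have h4 : g * g = 1 := by rw [← sq, ← hx, orderOf_of_isConj h1, pow_orderOf_eq_one]
    have h5 : h * h = 1 := by rw [← sq, ← hx, orderOf_of_isConj h2, pow_orderOf_eq_one]
    refine hinv g h1 _ h3 (fun h4 => hne (mul_inv_eq_one.1 h4).symm) ?_
    rw [mul_inv_rev, inv_inv, inv_eq_of_mul_eq_one_right h5, inv_eq_of_mul_eq_one_right h4]
    simp [mul_assoc, h4]
  have h1 := factorization_index_add p (Ce1 x)
  have h2 := factorization_index_add p P
  rw [hP, factorization_pow_self] at h2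
  refine ⟨χ, (hp.pow_dvd_iff_le_factorization (charDegree_ne_zero χ)).2 ?_⟩
  simp only [nu] at hχ
  change (Nat.card (Ce1 x)).factorization p = a at ha
  omega

end Cfsg.Agent.S4740
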