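import Cfsg.Statements.S4741
import Cfsg.Agent.Lib.Block.Rob

set_option autoImplicit false
open Cfsg

namespace Cfsg.Agent.S4741

open Cfsg.Agent.Blk
open Cfsg.Agent.Char hiding cj cj_mul cj_inv_cj cj_cj_inv

/-- Let p be a prime, M a maximal ideal of the algebraic integers containing p, and D a subgroup of the finite group G. Let x₁, …, x_r be pairwise non-conjugate elements of G such that D is a Sylow p-subgroup of the centralizer of each xᵢ, and such that for any conjugates g of some xᵢ and h of some xⱼ the element g h⁻¹ is never a non-identity p-element. Then there are r distinct p-blocks B₁, …, B_r of G, each having D as a defect group, such that for every choice of characters χᵢ ∈ Bᵢ of height zero the determinant of the r × r matrix (χᵢ(xⱼ)) does not lie in the local ideal at M. -/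
theorem result {G : Type*} [Group G] [Finite G] (p : ℕ) [Fact p.Prime] (M : Ideal Cfsg.AlgInt) (hM : Cfsg.IsPModular p M) (D : Subgroup G) {r : ℕ} (x : Fin r → G) (hx : ∀ i j : Fin r, IsConj (x i) (x j) → i = j) (hD : ∀ i : Fin r, ∃ S : Sylow p ↥(Subgroup.centralizer ({x i} : Set G)), (S : Subgroup ↥(Subgroup.centralizer ({x i} : Set G))).map (Subgroup.centralizer ({x i} : Set G)).subtype = D) (hsep : ∀ i j : Fin r, ∀ g h : G, IsConj (x i) g → IsConj (x j) h → ∀ k : ℕ, 0 < k → orderOf (g * h⁻¹) ≠ p ^ k) : ∃ B : Fin r → Set (Cfsg.IrrCharacter G), Function.Injective B ∧ (∀ i : Fin r, Cfsg.IsPBlock M (B i) ∧ Cfsg.IsDefectGroup p M (B i) D) ∧ ∀ χ : Fin r → Cfsg.IrrCharacter G, (∀ i : Fin r, χ i ∈ B i ∧ Cfsg.blockHeight p (B i) (χ i : G → ℂ) = 0) → ¬ Cfsg.MemLocalIdeal M (Matrix.det (Matrix.of fun i j : Fin r => (χ i : G → ℂ) (x j))) := by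
  haveI : PMod M p := ⟨hM⟩
  classical
  have := Fintype.ofFinite G
  obtain ⟨P, hP⟩ := exists_isSyl p (⊤ : Subgroup G)
  have hS : ∀ i, IsSyl p D (⊤ ⊓ Ce1 (x i)) := fun i => by rw [top_inf_eq]; exact isSyl_iff.2 (hD i)
  have hi := hP.not_dvd_relIndex
  rw [Subgroup.relIndex_top_right] at hi
  let Y : Matrix (Fin r) (IrrCharacter G) (kk M) :=
    Matrix.of fun i χ => pm P χ * rd M ((starRingEnd ℂ) ((χ : G → ℂ) (x i)))
  let X : Matrix (IrrCharacter G) (Fin r) (kk M) :=
    Matrix.of fun χ j => lam (blk M χ) (cls (kk M) ⊤ (x j))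
  have h1 : Y * X = Matrix.diagonal fun _ => (P.index : kk M) := by
    ext i j
    have h2 := congrArg (rd M) (robinson_sep (P := P) (x := x i) (y := x j) fun g h h1 h2 h3 => by
      obtain ⟨n, hn⟩ := pelt_of_mem hP.pg h3
      rcases n.eq_zero_or_pos with rfl | h0
      · exact (mul_inv_eq_one.1 (orderOf_eq_one_iff.1 (by simpa using hn))).symm
      · exact absurd hn (hsep j i h g h2 h1 n h0))
    rw [rd_sum _ _ fun χ _ => mul_mem (mul_mem (natCast_mem _ _) (centralChar_mem_O χ.2 _))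
      (conj_irr_mem_O M χ _)] at h2
    rw [Matrix.mul_apply, Matrix.diagonal_apply]
    convert h2 using 1
    · refine Finset.sum_congr rfl fun χ _ => ?_
      rw [rd_mul (mul_mem (natCast_mem _ _) (centralChar_mem_O χ.2 _)) (conj_irr_mem_O M χ _),
        rd_mul (natCast_mem _ _) (centralChar_mem_O χ.2 _), rd_natCast]
      simp only [X, Y, Matrix.of_apply, lam_blk_cls]
      ring
    · by_cases h : i = j
      · subst h; rw [if_pos rfl, if_pos (IsConj.refl _), rd_natCast]
      · rw [if_neg h, if_neg fun h' => h (hx i j h'), rd_zero]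
  obtain ⟨f, -, h2, h3⟩ := exists_minor_ne_zero Y X (by
    rw [h1, Matrix.det_diagonal, Finset.prod_const]
    exact pow_ne_zero _ (by rwa [Ne, CharP.cast_eq_zero_iff (kk M) p]))
  have hB : ∀ i, IsPBlock M (blockOf M (f i : G → ℂ)) := fun i => isPBlock_blockOf _
  have hcd : ∀ i, Nat.card D = p ^ cd p (x i) := fun i => (hS i).card_eq_cd
  have hp := (Fact.out : p.Prime)
  have h4 : ∀ i, cd p (x i) ≤ blockDefect p (blockOf M (f i : G → ℂ)) := fun i => by
    by_contra hlt
    have := LI_apply_of_lt (M := M) (mem_blockOf_self (M := M) (f i)) (g := (x i)⁻¹) (p := p) (by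
      have : cd p (x i)⁻¹ = cd p (x i) := by
        have h5 := factorization_index_add p (Ce1 (x i))
        have h6 := factorization_index_add p (Ce1 (x i)⁻¹)
        rw [index_Ce1_inv] at h6
        simp only [cd]; omega
      omega)
    rw [(f i).2.isCharacter.apply_inv, ← rd_eq_zero_iff (conj_irr_mem_O M _ _)] at this
    exact h2 i (by simp [Y, this])
  have h5 : ∀ i, IsDef p ⊤ (bar M (blockOf M (f i : G → ℂ))) D := fun i => by
    obtain ⟨j, hj⟩ : ∃ j, X (f i) j ≠ 0 := by
      by_contra hn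
      push Not at hn
      exact h3 (Matrix.det_eq_zero_of_row_eq_zero i hn)
    obtain ⟨E, hE⟩ := (hB i).isBlock.exists_isDef p
    refine (hB i).isBlock.isDef_of_lam_of_card hE trivial (by rwa [bar_blockOf]) (hS j) ?_
    rw [(hB i).card_isDef hE, hcd i]
    exact Nat.pow_le_pow_right hp.pos (h4 i)
  refine ⟨fun i => blockOf M (f i : G → ℂ), fun i j hij => ?_,
    fun i => ⟨hB i, (hB i).isDefectGroup_iff.2 (h5 i)⟩, fun χ hχ => ?_⟩
  · by_contra hne
    refine h3 (Matrix.det_zero_of_row_eq hne (funext fun l => ?_))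
    have : blk M (f i) = blk M (f j) := by rw [← bar_blockOf, ← bar_blockOf]; exact congrArg _ hij
    simp [X, this]
  have hd : ∀ i j, blockDefect p (blockOf M (f i : G → ℂ)) = cd p (x j) := fun i j =>
    Nat.pow_right_injective hp.two_le (((hB i).card_isDef (h5 i)).symm.trans (hcd j))
  let A : Matrix (Fin r) (Fin r) (O M) := Matrix.of fun i j => ⟨_, irr_mem_O M (χ i) (x j)⟩
  have h6 : (Matrix.of fun i j => (χ i : G → ℂ) (x j)) = (O M).subtype.mapMatrix A := by
    ext; rfl
  rw [h6, ← RingHom.map_det]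
  change ¬ MemLocalIdeal M (A.det : O M)
  rw [← res_eq_zero_iff, RingHom.map_det]
  rcases Nat.eq_zero_or_pos r with rfl | hr
  · simp
  set i₀ : Fin r := ⟨0, hr⟩
  have h0 : ∀ j, ((Ce1 (x j)).index : ℂ) ≠ 0 := fun j =>
    Nat.cast_ne_zero.2 Subgroup.index_ne_zero_of_finite
  have h8 : ∀ i j, (charDegree (χ i : G → ℂ) : ℂ) / (Ce1 (x j)).index ∈ O M := fun i j =>
    (deg_div_index_mem_O_iff (hχ i).1).2 (by rw [hd i j]; omega)
  have h9 : ∀ i j, ¬ MemLocalIdeal M ((charDegree (χ i : G → ℂ) : ℂ) / (Ce1 (x j)).index) :=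
    fun i j => (LI_deg_div_index_iff (hχ i).1).not.2 (by rw [hd i j, (hχ i).2]; omega)
  have h7 : (res M).mapMatrix A = Matrix.diagonal (fun i =>
      rd M ((charDegree (χ i : G → ℂ) : ℂ) / (Ce1 (x i₀)).index)) * X.submatrix f id *
      Matrix.diagonal (fun j => rd M ((charDegree (χ i₀ : G → ℂ) : ℂ) / (Ce1 (x j)).index) *
        (rd M ((charDegree (χ i₀ : G → ℂ) : ℂ) / (Ce1 (x i₀)).index))⁻¹) := by
    ext i j
    rw [Matrix.mul_diagonal, Matrix.diagonal_mul, ← rd_inv (h8 _ _) (h9 _ _),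
      ← rd_mul (h8 _ _) (inv_mem_O_of_not_LI (h8 _ _) (h9 _ _))]
    simp only [X, Matrix.submatrix_apply, Matrix.of_apply, id]
    rw [← mem_blockOf.1 (hχ i).1, lam_blk_cls, ← rd_mul (h8 _ _) (centralChar_mem_O (χ i).2 _),
      ← rd_mul (mul_mem (h8 _ _) (centralChar_mem_O (χ i).2 _))
        (mul_mem (h8 _ _) (inv_mem_O_of_not_LI (h8 _ _) (h9 _ _)))]
    change res M ⟨_, irr_mem_O M (χ i) (x j)⟩ = _
    rw [← rd_eq, apply_eq_centralChar]
    congr 1
    have := h0 j
    have := h0 i₀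
    have : (charDegree (χ i₀ : G → ℂ) : ℂ) ≠ 0 := Nat.cast_ne_zero.2 (charDegree_ne_zero _)
    field_simp
  rw [h7, Matrix.det_mul, Matrix.det_mul, Matrix.det_diagonal, Matrix.det_diagonal]
  have h10 : ∀ i j, rd M ((charDegree (χ i : G → ℂ) : ℂ) / (Ce1 (x j)).index) ≠ 0 := fun i j =>
    (rd_eq_zero_iff (h8 i j)).not.2 (h9 i j)
  exact mul_ne_zero (mul_ne_zero (Finset.prod_ne_zero_iff.2 fun i _ => h10 _ _) h3)
    (Finset.prod_ne_zero_iff.2 fun i _ => mul_ne_zero (h10 _ _) (inv_ne_zero (h10 _ _)))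

end Cfsg.Agent.S4741
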