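import Cfsg.Statements.S4742
import Cfsg.Agent.Lib.Block.Rob

set_option autoImplicit false
open Cfsg

namespace Cfsg.Agent.S4742

open Cfsg.Agent.Blk
open Cfsg.Agent.Char hiding cj cj_mul cj_inv_cj cj_cj_inv

/-- Let p ≠ q be primes dividing the order of the finite group G, and suppose the centralizer of every non-identity p-element of G has order prime to q. Then either G has an irreducible character of p-defect zero, or for every non-identity q-element z of G there are conjugates g, h of z such that g h⁻¹ is a non-identity p-element. -/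
theorem result {G : Type*} [Group G] [Finite G] (p q : ℕ) [Fact p.Prime] [Fact q.Prime] (hppq : p ≠ q) (hpG : p ∣ Nat.card G) (hqG : q ∣ Nat.card G) (hC : ∀ g : G, g ≠ 1 → (∃ k : ℕ, orderOf g = p ^ k) → ¬ q ∣ Nat.card ↥(Subgroup.centralizer ({g} : Set G))) : (∃ χ : Cfsg.IrrCharacter G, (Cfsg.charDegree (χ : G → ℂ)).factorization p = (Nat.card G).factorization p) ∨ ∀ z : G, z ≠ 1 → (∃ k : ℕ, orderOf z = q ^ k) → ∃ g h : G, IsConj z g ∧ IsConj z h ∧ g * h⁻¹ ≠ 1 ∧ ∃ k : ℕ, orderOf (g * h⁻¹) = p ^ k := by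
  refine or_iff_not_imp_left.2 fun hn z hz1 hz => ?_
  by_contra h
  push Not at h
  refine hn (exists_defect_zero_of_sep p (x := z) (fun hd => ?_) fun g k h1 h2 h3 => ?_)
  · obtain ⟨x, hx⟩ := exists_prime_orderOf_dvd_card' p hd
    rw [← Subgroup.orderOf_coe] at hx
    refine hC x (fun h1 => (Fact.out : p.Prime).ne_one (by rw [← hx, h1, orderOf_one]))
      ⟨1, by rw [hx, pow_one]⟩ ((dvd_orderOf_of_pelt hz hz1).trans
        (Subgroup.orderOf_dvd_natCard _ (mem_Ce1.2 (mem_Ce1.1 x.2).symm)))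
  · by_contra hne
    obtain ⟨n, hn⟩ := h3
    exact h k g h2 h1 (fun h4 => hne (mul_inv_eq_one.1 h4).symm) n hn

end Cfsg.Agent.S4742
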