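import Cfsg.Statements.S4743
import Cfsg.Agent.Lib.Block.Ker
import Cfsg.Agent.Lib.Comp.SPE
import Cfsg.Agent.Lib.Comp.Loc

set_option autoImplicit false
open Cfsg

namespace Cfsg.Agent.S4743

open Cfsg.Agent.Blk
open Cfsg.Agent.Char hiding cj cj_mul cj_inv_cj cj_cj_inv
theorem aux1 {G : Type*} [Group G] [Finite G] {a b : ℕ} [Fact a.Prime] [Fact b.Prime]
    (hC : ∀ g : G, orderOf g = a → ¬ b ∣ Nat.card (Ce1 g)) (N : Subgroup G) [hN : N.Normal]
    (h1 : a ∣ Nat.card N) (h2 : ¬ b ∣ Nat.card N) :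
    ∃ χ : IrrCharacter G, nu b χ = (Nat.card G).factorization b := by
  obtain ⟨x, hx⟩ := exists_prime_orderOf_dvd_card' a h1
  rw [← Subgroup.orderOf_coe] at hx
  refine exists_defect_zero_of_sep b (hC x hx) fun g h h3 h4 h5 => ?_
  obtain ⟨c, rfl⟩ := isConj_iff.1 h3
  obtain ⟨d, rfl⟩ := isConj_iff.1 h4
  exact (mul_inv_eq_one.1 (eq_one_of_pelt_of_preg h5 fun h => h2 (h.trans
    (Subgroup.orderOf_dvd_natCard _ (mul_mem (hN.conj_mem _ x.2 _)
      (inv_mem (hN.conj_mem _ x.2 _))))))).symm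

theorem aux2 {G : Type*} [Group G] [Finite G] {a b : ℕ} [Fact a.Prime] [Fact b.Prime]
    (hC : ∀ g : G, orderOf g = a → ¬ b ∣ Nat.card (Ce1 g)) :
    ∀ g : G, orderOf g = b → ¬ a ∣ Nat.card (Ce1 g) := fun g hg h => by
  obtain ⟨x, hx⟩ := exists_prime_orderOf_dvd_card' a h
  rw [← Subgroup.orderOf_coe] at hx
  exact hC x hx (hg ▸ Subgroup.orderOf_dvd_natCard _ (mem_Ce1.2 (mem_Ce1.1 x.2).symm))

theorem aux3 {G : Type*} [Group G] [Finite G] {a b : ℕ} [ha : Fact a.Prime] [hb : Fact b.Prime]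
    (hab : a ≠ b) (hC : ∀ g : G, orderOf g = a → ¬ b ∣ Nat.card (Ce1 g)) (haG : a ∣ Nat.card G)
    (hs : IsPSolvable a G) : (∃ χ : IrrCharacter G, nu a χ = (Nat.card G).factorization a) ∨
      ∃ χ : IrrCharacter G, nu b χ = (Nat.card G).factorization b := by
  by_cases h : b ∣ Nat.card (pPrimeCore a G)
  · exact Or.inl (aux1 (aux2 hC) _ h Solv.not_dvd_card_pPrimeCore)
  obtain ⟨n, hn⟩ := exists_relIndex_pPrimePCore (G := G) (p := a)
  haveI : (pPrimePCore a G).Normal := by rw [pPrimePCore]; infer_instance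
  have h1 := card_inf_mul_relIndex' (pPrimeCore a G) (pPrimePCore a G)
  rw [inf_eq_right.2 pPrimeCore_le_pPrimePCore, hn] at h1
  refine Or.inr (aux1 hC (pPrimePCore a G) ?_ ?_)
  · by_contra h2
    obtain ⟨Q⟩ : Nonempty (Sylow a (pPrimePCore a G)) := inferInstance
    have hc := Comp.isPConstrained_iff.2 ((Comp.pSol_top_of_isPSolvable hs).PLay_eq_bot le_rfl) Q
    have h3 := (isSyl_map Q).card_eq
    rw [Nat.factorization_eq_zero_of_not_dvd h2, pow_zero, Subgroup.card_eq_one] at h3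
    change Ce _ ≤ _ at hc
    rw [h3, Ce_bot, top_le_iff] at hc
    rw [hc, Subgroup.card_top] at h2
    exact h2 haG
  · rw [← h1]
    exact fun h2 => ((hb.out.dvd_mul).1 h2).elim h fun h3 =>
      hab ((Nat.prime_dvd_prime_iff_eq hb.out ha.out).1 (hb.out.dvd_of_dvd_pow h3)).symm

/-- Let p ≠ q be primes dividing the order of the finite group G, suppose the centralizer of every non-identity p-element has order prime to q, and suppose G is p-solvable or q-solvable. Then G has an irreducible character of p-defect zero or an irreducible character of q-defect zero. -/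
theorem result {G : Type*} [Group G] [Finite G] (p q : ℕ) [Fact p.Prime] [Fact q.Prime] (hppq : p ≠ q) (hpG : p ∣ Nat.card G) (hqG : q ∣ Nat.card G) (hC : ∀ g : G, g ≠ 1 → (∃ k : ℕ, orderOf g = p ^ k) → ¬ q ∣ Nat.card ↥(Subgroup.centralizer ({g} : Set G))) (hsolv : Cfsg.IsPSolvable p G ∨ Cfsg.IsPSolvable q G) : (∃ χ : Cfsg.IrrCharacter G, (Cfsg.charDegree (χ : G → ℂ)).factorization p = (Nat.card G).factorization p) ∨ (∃ χ : Cfsg.IrrCharacter G, (Cfsg.charDegree (χ : G → ℂ)).factorization q = (Nat.card G).factorization q) := by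
  have h1 : ∀ g : G, orderOf g = p → ¬ q ∣ Nat.card (Ce1 g) := fun g hg => hC g
    (fun h => (Fact.out : p.Prime).ne_one (by rw [← hg, h, orderOf_one])) ⟨1, by rw [hg, pow_one]⟩
  exact hsolv.elim (aux3 hppq h1 hpG) fun h => (aux3 hppq.symm (aux2 h1) hqG h).symm

end Cfsg.Agent.S4743
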