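import Cfsg.Statements.S4746
import Cfsg.Agent.Lib.Block.Ker

set_option autoImplicit false
open Cfsg

namespace Cfsg.Agent.S4746

open Cfsg.Agent.Blk
open Cfsg.Agent.Char hiding cj cj_mul cj_inv_cj cj_cj_inv
open scoped ComplexConjugate

/-- Let p be an odd prime and G a finite group of even order divisible by p in which the centralizer of every non-identity p-element has odd order. Then G has an irreducible character of p-defect zero or an irreducible character of even degree. -/
theorem result {G : Type*} [Group G] [Finite G] (p : ℕ) [Fact p.Prime] (hp2 : p ≠ 2) (hpG : p ∣ Nat.card G) (h2G : 2 ∣ Nat.card G) (hC : ∀ g : G, g ≠ 1 → (∃ k : ℕ, orderOf g = p ^ k) → Odd (Nat.card ↥(Subgroup.centralizer ({g} : Set G)))) : (∃ χ : Cfsg.IrrCharacter G, (Cfsg.charDegree (χ : G → ℂ)).factorization p = (Nat.card G).factorization p) ∨ ∃ χ : Cfsg.IrrCharacter G, Even (Cfsg.charDegree (χ : G → ℂ)) := by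
  refine (defect_zero_or_inverted hp2 hC).imp id fun h => ?_
  classical
  by_contra hne
  push Not at hne
  obtain ⟨t, ht⟩ := exists_prime_orderOf_dvd_card' 2 h2G
  obtain ⟨P, hP⟩ := exists_isSyl p (⊤ : Subgroup G)
  obtain ⟨s, -, hs⟩ := h t ht P hP
  obtain ⟨z, hz⟩ := exists_prime_orderOf_dvd_card' (G := P) p (by
    rw [hP.card_eq, Subgroup.card_top]
    exact dvd_pow_self _ ((Fact.out : p.Prime).factorization_pos_of_dvd Nat.card_pos.ne' hpG).ne')
  rw [← Subgroup.orderOf_coe] at hz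
  have hz1 : (z : G) ≠ 1 := fun h => (Fact.out : p.Prime).ne_one (by rw [← hz, h, orderOf_one])
  obtain ⟨M, hM⟩ := exists_pmod 2
  have hr : ∀ χ : IrrCharacter G, conj ((χ : G → ℂ) z) = (χ : G → ℂ) z := fun χ => by
    rw [← χ.2.isCharacter.apply_inv, ← hs z z.2, χ.2.isCharacter.apply_conj]
  have h1 := congrArg (rd M) (sum_degree_mul (z : G))
  have h2 := congrArg (rd M) (column_orthogonality (z : G) z)
  rw [regChar_of_ne hz1, rd_zero, rd_sum _ _ fun χ _ => mul_mem (irr_mem_O M χ _) (irr_mem_O M χ _),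
    Finset.sum_congr rfl fun χ _ => by
      obtain ⟨m, hm⟩ := Nat.not_even_iff_odd.1 (hne χ)
      rw [rd_mul (irr_mem_O M χ _) (irr_mem_O M χ _), ← cast_deg, rd_natCast, hm, Nat.cast_add,
        (CharP.cast_eq_zero_iff (kk M) 2 _).2 (dvd_mul_right 2 m), zero_add, Nat.cast_one,
        one_mul]] at h1
  rw [if_pos (IsConj.refl _), rd_natCast, rd_sum _ _ fun χ _ =>
    mul_mem (irr_mem_O M χ _) (conj_irr_mem_O M χ _), Finset.sum_congr rfl fun χ _ => by
      rw [hr, rd_mul (irr_mem_O M χ _) (irr_mem_O M χ _), ← sq], ← sum_pow_char, h1] at h2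
  have h3 := (CharP.cast_eq_zero_iff (kk M) 2 _).1 (h2.symm.trans (by norm_num))
  exact Nat.not_even_iff_odd.2 (hC z hz1 ⟨1, by rw [hz, pow_one]⟩) (even_iff_two_dvd.2 h3)

end Cfsg.Agent.S4746
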