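import Cfsg.Statements.S4748
import Cfsg.Agent.Lib.Block.Cop

set_option autoImplicit false
open scoped Pointwise
open Cfsg

namespace Cfsg.Agent.S4748

open Cfsg.Agent.Blk
open Cfsg.Agent.Char hiding cj cj_mul cj_inv_cj cj_cj_inv

/-- Let G be a finite p-solvable group whose Sylow p-subgroup P meets each conjugate g P g⁻¹ with g outside N_G(P) trivially, and let χ be a faithful character of G (χ g = χ 1 only for g = 1) whose degree d satisfies d² ≤ |P|. Then P is normal in G. -/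
theorem result {G : Type*} [Group G] [Finite G] (p : ℕ) [Fact p.Prime] (hsolv : Cfsg.IsPSolvable p G) (P : Sylow p G) (hTI : ∀ g : G, g ∉ Subgroup.normalizer ((P : Subgroup G) : Set G) → (P : Subgroup G) ⊓ (MulAut.conj g • (P : Subgroup G)) = ⊥) (χ : G → ℂ) (hχ : Cfsg.IsCharacter G χ) (hfaith : ∀ g : G, χ g = χ 1 → g = 1) (hdeg : Cfsg.charDegree χ ^ 2 ≤ Nat.card ↥(P : Subgroup G)) : (P : Subgroup G).Normal := by
  classical
  have hp : p.Prime := Fact.out
  by_contra h0
  obtain ⟨g, hg⟩ : ∃ g, g ∉ No (P : Subgroup G) := by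
    by_contra! h
    exact h0 (Solv.normal_iff_top_le_normalizer.2 fun g _ => h g)
  have h1 : pCore p G = ⊥ := eq_bot_iff.2 (hTI g hg ▸ le_inf (Solv.pCore_le_sylow P)
    ((cs_normal g _).ge.trans (cs_mono g (Solv.pCore_le_sylow P))))
  have h2 : (P : Subgroup G) ≠ ⊥ := fun h => h0 (h ▸ inferInstance)
  let N := pPrimeCore p G
  have hN : ¬ p ∣ Nat.card N := Solv.not_dvd_card_pPrimeCore
  have h3 := Solv.coprime_card_of_isPGroup P.2 hN
  have h4 : ∀ x ∈ (P : Subgroup G), x ≠ 1 → N ⊓ Ce1 x ≤ Ce P := fun x hx h n hn =>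
    Solv.mem_centralizer_of_mem_normalizer (le_No_of_normal _ _)
      (Solv.inf_eq_bot_of_coprime' h3.symm) hn.1 (by
        by_contra h4
        have : x ∈ (P : Subgroup G) ⊓ cs n P := ⟨hx, mem_cs.2 (by
          rwa [mul_assoc, ← mem_Ce1.1 hn.2, inv_mul_cancel_left])⟩
        exact h (Subgroup.mem_bot.1 (hTI n h4 ▸ this)))
  have hs : Group.IsSolvable (P : Subgroup G) := haveI := P.2.isNilpotent; inferInstance
  obtain ⟨q, hq, Q, h5, h6, h7⟩ : ∃ q, q.Prime ∧ ∃ Q, Solv.IsSylowIn q Q N ∧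
      (P : Subgroup G) ≤ No Q ∧ ¬ Q ≤ Ce P := by
    by_contra! h
    have h5 : N ≤ Ce P := Solv.le_of_forall_isSylowIn fun q hq _ => by
      haveI := Fact.mk hq
      obtain ⟨Q, h5, h6⟩ := Solv.coprime_exists_sylowIn (le_No_of_normal _ _) h3 (Or.inl hs) q
      exact ⟨Q, h5, h q hq Q h5 h6⟩
    exact h2 (eq_bot_iff.2 (Solv.inf_eq_bot_of_coprime' h3 ▸ le_inf le_rfl
      ((Subgroup.le_centralizer_iff.1 h5).trans
        (psol_centralizer_le (Comp.pSol_top_of_isPSolvable hsolv) h1))))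
  haveI := Fact.mk hq
  let R := ⁅Q, (P : Subgroup G)⁆
  have h8 : R ≤ Q := Solv.commutator_le_left_of_le_normalizer h6
  have h9 : ⁅R, (P : Subgroup G)⁆ = R := Solv.coprime_commutator_commutator h6
    (h3.coprime_dvd_right (Subgroup.card_dvd_of_le h5.le)) (Or.inl hs)
  have h10 : (P : Subgroup G) ≤ No R := Solv.le_normalizer_commutator h6 (le_No _)
  let H := R ⊔ P
  letI := Fintype.ofFinite H
  haveI : (R.subgroupOf H).Normal :=
    (Subgroup.normal_subgroupOf_iff_le_normalizer le_sup_left).2 (sup_le (le_No _) h10)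
  obtain ⟨r, hr, h11⟩ := Solv.exists_ne_one_of_ne_bot (H := R)
    fun h => h7 (Subgroup.commutator_eq_bot_iff_le_centralizer.1 h)
  obtain ⟨ψ, h12, h13, h14⟩ : ∃ ψ, IsIrrCharacter H ψ ∧ classInner (fun x : H => χ x) ψ ≠ 0 ∧
      (⟨r, Subgroup.mem_sup_left hr⟩ : H) ∉ charKer ψ := by
    by_contra! h
    exact h11 (hfaith r ((hχ.res H).mem_charKer.1 ((hχ.res H).mem_charKer_of_forall_constituent h)))
  have h15 := card_lt_sq (χ := ⟨ψ, h12⟩) (R := R.subgroupOf H) (P := (P : Subgroup G).subgroupOf H)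
    (Solv.isPGroup_subgroupOf P.2 H)
    (fun h => h2 ((Solv.subgroupOf_map_subtype_of_le (K := H) le_sup_right).symm.trans
      (by rw [h, Subgroup.map_bot])))
    (by
      rw [Solv.card_subgroupOf_of_le le_sup_left]
      exact fun h => hN (h.trans (Subgroup.card_dvd_of_le (h8.trans h5.le))))
    (Solv.isNilpotent_subgroupOf (isPGroup_le h5.isPGroup h8).isNilpotent H)
    (by
      rw [← Subgroup.map_le_map_iff_of_injective H.subtype_injective, Subgroup.map_commutator,
        Solv.subgroupOf_map_subtype_of_le le_sup_left, Solv.subgroupOf_map_subtype_of_le le_sup_right, h9])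
    (by rw [← Subgroup.subgroupOf_sup le_sup_left le_sup_right, Subgroup.subgroupOf_self])
    (fun x hx h y hy => mem_Ce.2 fun z hz => Subtype.ext (mem_Ce.1 (h4 x hx (fun e => h (Subtype.ext e))
      ⟨h5.le (h8 hy.1), mem_Ce1.2 (congrArg Subtype.val (mem_Ce1.1 hy.2))⟩) z hz))
    fun h => h14 (h hr)
  rw [Solv.card_subgroupOf_of_le le_sup_right] at h15
  have h16 : charDegree ψ ≤ charDegree χ := degree_le_of_constituent (hχ.res H) h12 h13
  exact absurd (h15.trans_le (Nat.pow_le_pow_left h16 2)) hdeg.not_gt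

end Cfsg.Agent.S4748
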