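import Cfsg.Statements.S4750
import Cfsg.Agent.Lib.Char.TIdeg

set_option autoImplicit false
open scoped Pointwise
open Cfsg

open scoped ComplexConjugate
namespace Cfsg.Agent.S4750

open Cfsg.Agent.Char

/-- Let P be a Sylow p-subgroup of the finite group G that meets each conjugate g P g⁻¹ with g outside N_G(P) trivially, χ a character of G with χ(1)² ≤ |P|, and H a subgroup of G containing N_G(P). Then the inner product of χ with itself over G equals the inner product over H of the restriction of χ to H. -/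
theorem result {G : Type*} [Group G] [Fintype G] [DecidableEq G] (p : ℕ) [Fact p.Prime] (P : Sylow p G) (hTI : ∀ g : G, g ∉ Subgroup.normalizer ((P : Subgroup G) : Set G) → (P : Subgroup G) ⊓ (MulAut.conj g • (P : Subgroup G)) = ⊥) (χ : G → ℂ) (hχ : Cfsg.IsCharacter G χ) (hdeg : Cfsg.charDegree χ ^ 2 ≤ Nat.card ↥(P : Subgroup G)) (H : Subgroup G) [Fintype ↥H] (hH : Subgroup.normalizer ((P : Subgroup G) : Set G) ≤ H) : Cfsg.classInner χ χ = Cfsg.classInner (fun h : ↥H => χ h) (fun h : ↥H => χ h) := by
  by_cases h0 : χ = 0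
  · simp [h0, classInner]
  let Θ := χ * fun g => conj (χ g)
  have hΘ : IsCharacter G Θ := hχ.mul hχ.conj
  have e1 : classInner χ χ = classInner Θ fun _ => 1 := by
    rw [← classInner_mul_right]; congr 1; ext; simp
  have e2 : classInner (fun h : H => χ h) (fun h : H => χ h) =
      classInner (fun h : H => Θ h) fun _ => 1 := by
    rw [show (fun h : H => Θ h) = (fun h : H => χ h) * fun g : H => conj (χ g) from rfl,
      ← classInner_mul_right]; congr 1; ext; simp
  have h1 : classInner Θ (fun _ => 1) ≠ 0 := e1 ▸ mt classInner_self_eq_zero.1 h0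
  have h2 := hΘ.sub_irr isIrrCharacter_one h1
  rw [e1, e2, show (fun h : H => Θ h) = ∑ φ : IrrCharacter G, classInner Θ φ • fun h : H => φ.1 h by
    ext h; simpa using congrFun hΘ.isClassFunction.eq_sum h, classInner_sum_left,
    Finset.sum_eq_single ⟨_, isIrrCharacter_one⟩ (fun φ _ h3 => ?_) (by simp),
    classInner_smul_left, isIrrCharacter_one.classInner_self, mul_one]
  rw [classInner_smul_left, mul_eq_zero, or_iff_not_imp_right]
  intro h4
  have h5 : φ.1 ≠ fun _ => 1 := fun h => h3 (Subtype.ext h)
  have h6 := card_le_degree_of_ti P hTI hH φ.2 h5 h4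
  obtain ⟨m, hm⟩ := h2.classInner_eq_nat φ.2.isCharacter
  have h7 := h2.mul_degree_le φ.2 hm φ.2.isCharacter.cast_charDegree.symm h2.cast_charDegree.symm
  have h8 : charDegree (Θ - fun _ => 1) + 1 = charDegree χ ^ 2 := by
    rw [← Nat.cast_inj (R := ℂ)]
    push_cast
    rw [h2.cast_charDegree, hχ.cast_charDegree]
    simp [Θ, hχ.conj_apply_one, sq]
  rw [classInner_sub_left, isIrrCharacter_one.classInner_of_ne φ.2 h5.symm, sub_zero] at hm
  rw [hm, Nat.cast_eq_zero]
  by_contra h9
  nlinarith [Nat.pos_of_ne_zero h9]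

end Cfsg.Agent.S4750
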