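import Cfsg.Statements.S4755
import Cfsg.Agent.S4754
import Cfsg.Agent.Lib.Block.Gal

set_option autoImplicit false
open Cfsg

namespace Cfsg.Agent.S4755

open Cfsg.Agent.Blk
open Cfsg.Agent.Char hiding cj cj_mul cj_inv_cj cj_cj_inv
open scoped ComplexConjugate

/-- Let x, y be non-identity elements of the finite group G such that χ(x' y') = χ(x') χ(y') for all conjugates x' of x, y' of y and every irreducible character χ. Then the conjugacy class of x y is the set of all products of a conjugate of x with a conjugate of y; every irreducible character of degree greater than 1 vanishes at x y; and the conjugacy class of x y is the coset of the commutator subgroup containing x y. -/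
theorem result {G : Type*} [Group G] [Finite G] (x y : G) (hx : x ≠ 1) (hy : y ≠ 1) (h : ∀ (a b : G) (χ : Cfsg.IrrCharacter G), (χ : G → ℂ) (a * x * a⁻¹ * (b * y * b⁻¹)) = (χ : G → ℂ) (a * x * a⁻¹) * (χ : G → ℂ) (b * y * b⁻¹)) : (∀ z : G, IsConj (x * y) z ↔ ∃ a b : G, z = a * x * a⁻¹ * (b * y * b⁻¹)) ∧ (∀ χ : Cfsg.IrrCharacter G, (χ : G → ℂ) 1 ≠ 1 → (χ : G → ℂ) (x * y) = 0) ∧ (∀ z : G, IsConj (x * y) z ↔ (x * y)⁻¹ * z ∈ commutator G) := by
  classical
  have := Fintype.ofFinite G
  have h0 : ∀ (a b : G) (χ : IrrCharacter G), χ.1 (a * x * a⁻¹ * (b * y * b⁻¹)) = χ.1 x * χ.1 y :=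
    fun a b χ => by rw [h, χ.2.isClassFunction.apply_conj, χ.2.isClassFunction.apply_conj]
  have h00 : ∀ χ : IrrCharacter G, χ.1 (x * y) = χ.1 x * χ.1 y := fun χ => by simpa using h0 1 1 χ
  have h1 : ∀ z : G, IsConj (x * y) z ↔ ∃ a b : G, z = a * x * a⁻¹ * (b * y * b⁻¹) := by
    intro z
    constructor
    · intro hz
      obtain ⟨c, rfl⟩ := isConj_iff.1 hz
      exact ⟨c, c, by group⟩
    · rintro ⟨a, b, rfl⟩
      exact (isConj_iff_forall_irr _ _).2 fun χ => by rw [h0, h00]
  have h2 : ∀ χ : IrrCharacter G, χ.1 1 ≠ 1 → χ.1 (x * y) = 0 := fun χ hχ => by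
    have := (S4754.result x y).1 h1 1 1 χ
    simp only [one_mul, inv_one, mul_one] at this
    rw [← h00] at this
    have h3 : (χ.1 1 - 1) * χ.1 (x * y) = 0 := by linear_combination this
    exact (mul_eq_zero.1 h3).resolve_left (sub_ne_zero.2 hχ)
  refine ⟨h1, h2, fun z => ⟨fun hz => ?_, fun hz => ?_⟩⟩
  · obtain ⟨c, rfl⟩ := isConj_iff.1 hz
    have := Subgroup.commutator_mem_commutator (Subgroup.mem_top (x * y)⁻¹) (Subgroup.mem_top c)
    rw [commutatorElement_def] at this
    rwa [show (x * y)⁻¹ * (c * (x * y) * c⁻¹) = (x * y)⁻¹ * c * (x * y)⁻¹⁻¹ * c⁻¹ by group]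
  · by_contra hn
    have h3 := column_orthogonality z (x * y)
    have h4 := column_orthogonality (x * y) (x * y)
    rw [if_neg (fun h => hn h.symm)] at h3
    rw [if_pos (IsConj.refl _)] at h4
    refine card_ne_zero' _ (h4.symm.trans (Eq.trans ?_ h3))
    refine Finset.sum_congr rfl fun χ _ => ?_
    by_cases h1 : χ.1 1 = 1
    · have := mem_charKer.1 (χ.2.apply_one_eq_one_iff.1 h1 hz) 1
      have h5 := χ.2.isCharacter.map_mul_of_apply_one h1 (x * y) ((x * y)⁻¹ * z)
      rw [mul_one, h1] at this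
      rw [this, mul_inv_cancel_left, mul_one] at h5
      rw [h5]
    · rw [h2 χ h1]; simp

end Cfsg.Agent.S4755
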