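import Cfsg.Statements.S4757
import Cfsg.Agent.Lib.Block.Cd3
import Cfsg.Agent.Lib.Block.KerP
import Cfsg.Agent.Lib.Solv.Frattini

set_option autoImplicit false
open Cfsg

namespace Cfsg.Agent.S4757

open Cfsg.Agent.Blk
open Cfsg.Agent.Char hiding cj cj_mul cj_inv_cj cj_cj_inv
theorem not_nonneg {G : Type*} [Group G] [Finite G] {u : G} (hu : u ≠ 1)
    (h : ∀ χ : IrrCharacter G, ∃ n : ℕ, χ.1 u = n) : False := by
  classical
  choose n hn using h
  have h1 := sum_degree_mul u
  rw [regChar_of_ne hu] at h1
  have h2 : ∑ χ : IrrCharacter G, charDegree χ.1 * n χ = 0 := by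
    rw [← Nat.cast_inj (R := ℂ)]
    push_cast
    rw [← h1]
    exact Finset.sum_congr rfl fun χ _ => by rw [χ.2.isCharacter.cast_charDegree, hn]
  have h3 := Finset.sum_eq_zero_iff.1 h2 (irrOne G) (Finset.mem_univ _)
  have h4 := hn (irrOne G)
  rw [charDegree_irrOne, one_mul] at h3
  simp [h3] at h4

/-- Let u ≠ 1 be an element of the finite group G and c a complex number such that every non-principal irreducible character χ satisfies χ(1) − χ(u) = c or χ(u) = 0. Then the following are equivalent: (a) u has order 2, G is generated by u together with O(G), the largest normal subgroup of G of odd order, and the centralizer of u is {1, u}; (b) G is not perfect; (c) c = 2. -/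
theorem result {G : Type*} [Group G] [Finite G] (u : G) (hu : u ≠ 1) (c : ℂ) (hyp : ∀ χ : Cfsg.IrrCharacter G, (χ : G → ℂ) ≠ (fun _ => (1 : ℂ)) → ((χ : G → ℂ) 1 - (χ : G → ℂ) u = c ∨ (χ : G → ℂ) u = 0)) : ((orderOf u = 2 ∧ Subgroup.zpowers u ⊔ Cfsg.oddCore G = ⊤ ∧ Subgroup.centralizer ({u} : Set G) = Subgroup.zpowers u) ↔ commutator G ≠ ⊤) ∧ (commutator G ≠ ⊤ ↔ c = 2) := by
  classical
  letI := Fintype.ofFinite G
  haveI : Fact (Nat.Prime 2) := ⟨Nat.prime_two⟩
  have h0 : c ≠ 0 := by
    rintro rfl
    refine not_nonneg hu fun χ => ?_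
    by_cases h : χ.1 = fun _ => 1
    · exact ⟨1, by simp [h]⟩
    rcases hyp χ h with h1 | h1
    · exact ⟨_, by rw [χ.2.isCharacter.cast_charDegree]; exact (sub_eq_zero.1 h1).symm⟩
    · exact ⟨0, by simp [h1]⟩
  have hl : ∀ l : G →* ℂˣ, l ≠ 1 → (l u : ℂ) = 1 - c := fun l h => by
    rcases hyp (ilc l) (fun h' => h (ilc_injective ((Subtype.ext h').trans ilc_one.symm))) with h1 | h1
    · simp only [ilc_apply, map_one, Units.val_one] at h1
      rw [← h1]; ring
    · simp at h1
  have key : commutator G ≠ ⊤ → c = 2 ∧ orderOf u = 2 ∧ Subgroup.zpowers u ⊔ oddCore G = ⊤ ∧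
      Subgroup.centralizer ({u} : Set G) = Subgroup.zpowers u := by
    intro h
    obtain ⟨x, hx⟩ : ∃ x, x ∉ commutator G := by
      by_contra h1; push Not at h1; exact h (Subgroup.eq_top_iff' _ |>.2 h1)
    obtain ⟨l, -, h1⟩ := exists_annih_ne le_rfl hx
    have h2 : l ≠ 1 := by rintro rfl; exact h1 rfl
    have h3 : c = 2 := by
      have h3 := hl l h2
      have h4 := hl l⁻¹ fun h => h2 (by ext x; simpa using DFunLike.congr_fun h x)
      have h5 : (1 - c) * (1 - c) = 1 := by
        nth_rewrite 1 [← h3]; rw [← h4]; simp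
      have : c * (c - 2) = 0 := by linear_combination h5
      exact sub_eq_zero.1 ((mul_eq_zero.1 this).resolve_left h0)
    subst h3
    have h4 : ∀ l' : G →* ℂˣ, l' ≠ 1 → l' = l := fun l' h => by
      by_contra h4
      have h5 := hl (l' * l⁻¹) fun h => h4 (mul_inv_eq_one.1 h)
      simp only [MonoidHom.mul_apply, MonoidHom.inv_apply, Units.val_mul, Units.val_inv_eq_inv_val,
        hl l h2, hl l' h] at h5
      norm_num at h5
    have h5 : ∀ χ : IrrCharacter G, χ ≠ irrOne G → χ ≠ ilc l → χ.1 u = 0 := by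
      intro χ h6 h7
      by_contra h8
      have h9 : charDegree χ.1 ≠ 1 := fun h => by
        obtain ⟨l', rfl⟩ := exists_ilc h
        exact h7 (by rw [h4 l' fun h => h6 (by rw [h, ilc_one])])
      have h10 := (hyp χ fun h => h6 (Subtype.ext h)).resolve_right h8
      rcases hyp (lmu l χ) (fun h => h9 (by
        rw [← charDegree_lmu l, show lmu l χ = irrOne G from Subtype.ext h, charDegree_irrOne]))
        with h11 | h11
      · rw [lmu_apply, lmu_apply, hl l h2, map_one] at h11
        exact h8 (by simp only [Units.val_one] at h11; linear_combination (h11 - h10) / 2)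
      · rw [lmu_apply] at h11
        exact h8 ((mul_eq_zero.1 h11).resolve_left (l u).ne_zero)
    have h6 : Nat.card (Subgroup.centralizer ({u} : Set G)) = 2 := by
      have h6 := sum_norm_sq_column u
      rw [Finset.sum_eq_add_of_mem (irrOne G) (ilc l) (Finset.mem_univ _) (Finset.mem_univ _)
        (fun h => h2 (ilc_injective (h.symm.trans ilc_one.symm)))
        fun χ _ h => by rw [h5 χ h.1 h.2]; simp] at h6
      simp only [irrOne_apply, ilc_apply, hl l h2] at h6
      norm_num at h6
      rw [Nat.card_eq_fintype_card]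
      exact_mod_cast h6.symm
    have h7 : Subgroup.zpowers u ≤ Subgroup.centralizer ({u} : Set G) :=
      Subgroup.zpowers_le.2 (Subgroup.mem_centralizer_singleton_iff.2 rfl)
    have h8 : orderOf u = 2 := by
      have := Subgroup.card_dvd_of_le h7
      rw [h6, Nat.card_zpowers] at this
      exact ((Nat.dvd_prime Nat.prime_two).1 this).resolve_left fun h => hu (orderOf_eq_one_iff.1 h)
    have h9 : Subgroup.zpowers u = Subgroup.centralizer ({u} : Set G) :=
      Solv.eq_of_le_of_card_le h7 (by rw [h6, Nat.card_zpowers, h8])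
    have h10 : (commutator G).index = 2 := by
      rw [← card_annih le_rfl, Nat.card_eq_two_iff' 1]
      have hm : l ∈ annih (commutator G) := mem_annih.2 fun x hx =>
        (Abelianization.commutator_subset_ker l hx)
      exact ⟨⟨l, hm⟩, fun h => h2 (congrArg Subtype.val h), fun l' h =>
        Subtype.ext (h4 _ fun h' => h (Subtype.ext h'))⟩
    have h11 : u ∉ commutator G := fun h => by
      have := hl l h2
      rw [show l u = 1 from Abelianization.commutator_subset_ker l h] at this
      norm_num at this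
    have h12 : IsPGroup 2 (Subgroup.zpowers u) := .of_card (n := 1) (by rw [Nat.card_zpowers, h8]; rfl)
    obtain ⟨P, hP⟩ := h12.exists_le_sylow
    have h13 := not_dvd_of_inf_Ce (N := commutator G) P (by
      rw [eq_bot_iff]
      intro x hx
      have h13 : x ∈ Subgroup.zpowers u := by
        rw [h9]
        exact Subgroup.centralizer_le (Set.singleton_subset_iff.2 (hP (Subgroup.mem_zpowers u))) hx.2
      obtain ⟨y, -, h14⟩ := (Nat.card_eq_two_iff' (1 : Subgroup.zpowers u)).1
        (by rw [Nat.card_zpowers, h8])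
      by_contra h15
      have h16 := (h14 ⟨x, h13⟩ fun h => h15 (congrArg Subtype.val h)).trans
        (h14 ⟨u, Subgroup.mem_zpowers u⟩ fun h => hu (congrArg Subtype.val h)).symm
      exact h11 ((show x = u from congrArg Subtype.val h16) ▸ hx.1))
    have h14 : commutator G ≤ oddCore G :=
      Solv.le_pPrimeCore ((Nat.Prime.coprime_iff_not_dvd Nat.prime_two).2 h13).symm
    refine ⟨rfl, h8, ?_, h9.symm⟩
    have h15 := Solv.sup_eq_top_of_not_le_coatom (N := Subgroup.zpowers u)
      (Solv.isCoatom_of_index_prime (M := commutator G) (h10 ▸ Nat.prime_two))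
      fun h => h11 (h (Subgroup.mem_zpowers u))
    rw [eq_top_iff, ← h15, sup_comm]
    exact sup_le_sup_left h14 _
  refine ⟨⟨fun ⟨h1, h2, _⟩ h3 => ?_, fun h => (key h).2⟩, fun h => (key h).1, ?_⟩
  · have h4 : (oddCore G).index ∣ 2 := by
      rw [← Subgroup.relIndex_top_right, ← h2, Subgroup.relIndex_sup_right, ← h1, ← Nat.card_zpowers]
      exact Subgroup.relIndex_dvd_card _ _
    have h5 : oddCore G = ⊤ := by
      rcases (Nat.dvd_prime Nat.prime_two).1 h4 with h | h
      · exact Subgroup.index_eq_one.1 h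
      · exact top_le_iff.1 (h3 ▸ Solv.commutator_le_of_index_prime (h ▸ Nat.prime_two))
    refine Solv.not_dvd_card_pPrimeCore (G := G) (p := 2) ?_
    exact h1.symm.dvd.trans (Solv.orderOf_dvd_card_of_mem (show u ∈ oddCore G from h5 ▸ trivial))
  · rintro rfl h
    refine not_nonneg hu fun χ => ?_
    by_cases h1 : χ.1 = fun _ => 1
    · exact ⟨1, by simp [h1]⟩
    rcases hyp χ h1 with h2 | h2
    · have h3 : charDegree χ.1 ≠ 1 := fun h3 =>
        χ.2.charKer_ne_top h1 (top_le_iff.1 (h ▸ deg_eq_one_iff.1 h3))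
      have h4 : charDegree χ.1 ≠ 0 := fun h4 => χ.2.apply_one_ne_zero (by
        rw [← χ.2.isCharacter.cast_charDegree, h4]; simp)
      refine ⟨charDegree χ.1 - 2, ?_⟩
      rw [Nat.cast_sub (by omega), χ.2.isCharacter.cast_charDegree]
      push_cast
      linear_combination -h2
    · exact ⟨0, by simp [h2]⟩

end Cfsg.Agent.S4757
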