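import Cfsg.Statements.S4762
import Cfsg.Agent.Lib.Block.Cd3
import Cfsg.Agent.Lib.Solv.Frattini

set_option autoImplicit false
open Cfsg

namespace Cfsg.Agent.S4762

open Cfsg.Agent.Blk
open Cfsg.Agent.Char hiding cj cj_mul cj_inv_cj cj_cj_inv
open scoped commutatorElement

theorem eq_top_of_ker {G : Type*} [Group G] [Finite G] {N : Subgroup G} [N.Normal]
    (h : ∀ β : IrrCharacter G, N ≤ charKer β.1 → β = irrOne G) : N = ⊤ := by
  have h1 : (⊤ : Subgroup (G ⧸ N)) = ⊥ := eq_bot_of_forall_ker fun φ => by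
    have h2 := h _ (le_charKer_infl φ)
    rw [← infl_irrOne (QuotientGroup.mk'_surjective N)] at h2
    rw [infl_injective _ h2]
    intro x _
    exact fun _ => rfl
  rw [← Solv.map_top_mk N, Solv.map_mk_eq_bot_iff] at h1
  exact top_le_iff.1 h1

theorem mem_center_of_two {G : Type*} [Group G] [Finite G] {N : Subgroup G} [hN : N.Normal]
    (h : Nat.card N = 2) : N ≤ Subgroup.center G := by
  intro x hx
  rw [Subgroup.mem_center_iff]
  intro g
  by_cases h1 : x = 1
  · simp [h1]
  obtain ⟨y, hy, h2⟩ := (Nat.card_eq_two_iff' (1 : N)).1 h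
  have h3 : (⟨x, hx⟩ : N) = y := h2 _ fun h => h1 (congrArg Subtype.val h)
  have h4 : (⟨g * x * g⁻¹, hN.conj_mem x hx g⟩ : N) = y := h2 _ fun h => h1 (by
    have := congrArg Subtype.val h
    simpa using this)
  have h5 : g * x * g⁻¹ = x := congrArg Subtype.val (h4.trans h3.symm)
  rw [← h5]; simp [mul_assoc]; rw [← mul_assoc, h5]

/-- Let p be a prime and G a finite nilpotent group. Then G has exactly one irreducible complex character of degree divisible by p if and only if p = 2 and G is an extraspecial 2-group. -/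
theorem result {G : Type*} [Group G] [Finite G] [Group.IsNilpotent G] (p : ℕ) [Fact p.Prime] : Nat.card {χ : Cfsg.IrrCharacter G // p ∣ Cfsg.charDegree (χ : G → ℂ)} = 1 ↔ (p = 2 ∧ Cfsg.IsExtraspecial 2 G) := by
  classical
  letI := Fintype.ofFinite G
  have hp : p.Prime := Fact.out
  constructor
  · intro h
    obtain ⟨⟨χ, hχ⟩, hu⟩ := Nat.card_eq_one_iff_exists.1 h
    have hu' : ∀ ψ : IrrCharacter G, p ∣ charDegree ψ.1 → ψ = χ := fun ψ h =>
      congrArg Subtype.val (hu ⟨ψ, h⟩)
    have h1 : pCore p G ⊔ pPrimeCore p G = ⊤ := top_le_iff.1 (by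
      rw [← Solv.fitting_eq_top_iff.2 inferInstance]; exact Solv.fitting_le_pCore_sup_pPrimeCore)
    have h2 : (pCore p G).index ∣ Nat.card (pPrimeCore p G) := by
      rw [← Subgroup.relIndex_top_right, ← h1, Subgroup.relIndex_sup_left]
      exact Subgroup.relIndex_dvd_card _ _
    have h3 : (pPrimeCore p G).index ∣ Nat.card (pCore p G) := by
      rw [← Subgroup.relIndex_top_right, ← h1, Subgroup.relIndex_sup_right]
      exact Subgroup.relIndex_dvd_card _ _
    have h4 : ¬ commutator G ≤ pPrimeCore p G := by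
      intro h4
      refine Solv.not_dvd_card_pPrimeCore (G := G) (p := p) (hχ.trans (Dvd.dvd.trans ?_ h2))
      refine χ.2.degree_dvd_index_of_comm (fun a ha b hb => ?_) χ.2.isCharacter.cast_charDegree.symm
      have h5 : ⁅a, b⁆ ∈ pCore p G ⊓ pPrimeCore p G :=
        ⟨(pCore p G).mul_mem (mul_mem (mul_mem ha hb) (inv_mem ha)) (inv_mem hb),
          h4 (comm_mem a b)⟩
      rw [Solv.pCore_inf_pPrimeCore, Subgroup.mem_bot] at h5
      exact commutatorElement_eq_one_iff_mul_comm.1 h5
    obtain ⟨ψ, h5, h6⟩ := exists_nonlinear h4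
    obtain ⟨n, hn⟩ := (Solv.isPGroup_pCore p G).exists_card_eq
    have h7 : ψ = χ := by
      obtain ⟨k, h7, h8⟩ := exists_deg_eq_mul (em_irrOne_ne_zero_iff.2 h5)
      rw [charDegree_irrOne, mul_one] at h8
      obtain ⟨j, -, h9⟩ := (Nat.dvd_prime_pow hp).1 (hn ▸ h7.trans h3)
      refine hu' _ (h8 ▸ h9 ▸ dvd_pow_self _ ?_)
      rintro rfl
      exact h6 (by rw [h8, h9, pow_zero])
    subst h7
    have h8 := isIrr_res_of_sup (χ := ψ) (H := pCore p G)
      (top_le_iff.1 (by rw [← h1, sup_comm]; exact sup_le_sup_right h5 _))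
    have h9 : pCore p G = ⊤ := eq_top_of_ker fun β hβ => by
      have h9 := β.2.mul_of_le_charKer hβ ψ.2.isCharacter h8
      have h10 := hu' ⟨_, h9⟩ (by rw [deg_mul h9 rfl]; exact hχ.mul_left _)
      refine Subtype.ext (eq_of_mul_eq_of_le_charKer β.2 hβ (irrOne G).2 (fun _ _ _ => rfl)
        ψ.2.isCharacter h8 ?_)
      rw [show β.1 * ψ.1 = ψ.1 from congrArg Subtype.val h10]
      funext g; simp
    have hG : IsPGroup p G := Solv.pCore_eq_top_iff.1 h9
    obtain ⟨m, hm⟩ := hG.exists_card_eq
    have h10 : ∀ φ : IrrCharacter G, φ.1 1 ≠ 1 ↔ φ = ψ := fun φ => by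
      constructor
      · intro h
        obtain ⟨j, -, h9⟩ := (Nat.dvd_prime_pow hp).1
          (hm ▸ φ.2.degree_dvd_card φ.2.isCharacter.cast_charDegree.symm)
        refine hu' _ (h9 ▸ dvd_pow_self _ ?_)
        rintro rfl
        exact h (by rw [← φ.2.isCharacter.cast_charDegree, h9]; simp)
      · rintro rfl h
        exact h6 (by rw [← φ.2.isCharacter.cast_charDegree] at h; exact_mod_cast h)
    have h11 := index_add_sum_nonlinear (G := G)
    rw [Finset.filter_congr (fun φ _ => h10 φ), Finset.filter_eq', if_pos (Finset.mem_univ _),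
      Finset.sum_singleton, ← (commutator G).card_mul_index] at h11
    have h12 : commutator G ≠ ⊥ := fun h => h4 (h ▸ bot_le)
    have h13 := Solv.dvd_card_of_isPGroup (hG.to_subgroup _) h12
    obtain ⟨c, hc⟩ : ∃ c, Nat.card (commutator G) = c + 1 :=
      ⟨_, (Nat.succ_pred_eq_of_pos Nat.card_pos).symm⟩
    have h14 : charDegree ψ.1 ^ 2 = c * (commutator G).index := by rw [hc] at h11; linarith
    obtain ⟨j, -, h15⟩ := (Nat.dvd_prime_pow hp).1
      (hm ▸ ψ.2.degree_dvd_card ψ.2.isCharacter.cast_charDegree.symm)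
    have h16 : c = 1 := by
      have h16 : c ∣ p ^ (j * 2) := by rw [pow_mul, ← h15, h14]; exact dvd_mul_right _ _
      obtain ⟨i, -, h17⟩ := (Nat.dvd_prime_pow hp).1 h16
      rcases i with _ | i
      · simpa using h17
      · rw [hc, h17] at h13
        exact absurd (Nat.dvd_one.1 ((Nat.dvd_add_right (dvd_pow_self p i.succ_ne_zero)).1 h13))
          hp.ne_one
    subst h16
    change _ = 2 at hc
    have h17 : p = 2 := (Nat.prime_dvd_prime_iff_eq hp Nat.prime_two).1 (hc ▸ h13)
    subst h17
    have h18 := mem_center_of_two hc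
    have h19 := ψ.2.degree_sq_le_index ψ.2.center_le_charCenter ψ.2.isCharacter.cast_charDegree.symm
    have h20 : commutator G = Subgroup.center G := by
      refine Solv.eq_of_le_of_card_le h18 ?_
      have h20 := (commutator G).card_mul_index.trans (Subgroup.center G).card_mul_index.symm
      have h21 := (Subgroup.center G).index_ne_zero_of_finite
      rw [h14, one_mul] at h19
      by_contra h22
      push Not at h22
      have := Nat.mul_lt_mul_of_lt_of_le h22 h19 (Nat.pos_of_ne_zero h21)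
      have h23 := (commutator G).index_ne_zero_of_finite
      nlinarith
    refine ⟨rfl, ⟨hG, le_antisymm ?_ (h20 ▸ Solv.commutator_le_frattini), h20⟩, h20 ▸ hc⟩
    refine Solv.frattini_le_of_commutator_le_of_pow_mem (p := 2) h18 fun x => ?_
    rw [Subgroup.mem_center_iff]
    intro g
    have h21 := Subgroup.mem_center_iff.1 (h18 (comm_mem x g))
    have h22 : ⁅x, g⁆ ^ 2 = 1 := hc ▸ Solv.pow_card_eq_one_of_mem (comm_mem x g)
    have h23 : x * g = ⁅x, g⁆ * (g * x) := by simp [commutatorElement_def]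
    calc g * x ^ 2 = ⁅x, g⁆ ^ 2 * (g * x ^ 2) := by rw [h22, one_mul]
      _ = ⁅x, g⁆ * (⁅x, g⁆ * (g * x)) * x := by simp only [pow_two, mul_assoc]
      _ = x * (⁅x, g⁆ * (g * x)) := by rw [← h23, ← mul_assoc, ← h21 x]; simp only [mul_assoc]; rw [← h23]
      _ = x ^ 2 * g := by rw [← h23, pow_two, mul_assoc]
  · rintro ⟨rfl, ⟨hG, -, h1⟩, h2⟩
    obtain ⟨m, hm⟩ := hG.exists_card_eq
    have h3 : ∀ φ : IrrCharacter G, 2 ∣ charDegree φ.1 ↔ φ.1 1 ≠ 1 := fun φ => by
      constructor
      · intro h h'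
        rw [← φ.2.isCharacter.cast_charDegree] at h'
        have : charDegree φ.1 = 1 := by exact_mod_cast h'
        omega
      · intro h
        obtain ⟨j, -, h9⟩ := (Nat.dvd_prime_pow hp).1
          (hm ▸ φ.2.degree_dvd_card φ.2.isCharacter.cast_charDegree.symm)
        refine h9 ▸ dvd_pow_self _ ?_
        rintro rfl
        exact h (by rw [← φ.2.isCharacter.cast_charDegree, h9]; simp)
    have h4 : ∀ φ : IrrCharacter G, φ.1 1 ≠ 1 → charDegree φ.1 ^ 2 = (Subgroup.center G).index := by
      intro φ h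
      have h4 : charCenter φ.1 = Subgroup.center G := by
        refine le_antisymm (fun z hz => ?_) φ.2.center_le_charCenter
        rw [Subgroup.mem_center_iff]
        intro g
        by_contra h4
        refine h (φ.2.apply_one_eq_one_iff.2 fun y hy => ?_)
        have h5 := φ.2.mem_charCenter_iff.1 hz g
        obtain ⟨w, hw, h6⟩ := (Nat.card_eq_two_iff' (1 : Subgroup.center G)).1 h2
        by_cases h7 : y = 1
        · rw [h7]; exact one_mem _
        have h8 := h6 ⟨y, h1 ▸ hy⟩ fun h => h7 (congrArg Subtype.val h)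
        have h9 := h6 ⟨⁅z, g⁆, h1 ▸ comm_mem z g⟩ fun h =>
          h4 (commutatorElement_eq_one_iff_mul_comm.1 (congrArg Subtype.val h)).symm
        rw [show y = ⁅z, g⁆ from congrArg Subtype.val (h8.trans h9.symm)]
        exact h5
      refine φ.2.degree_sq_eq_index h4.ge (fun g hg => φ.2.eq_zero_of_commutator_mem
        (fun x => ?_) (h4 ▸ hg)) φ.2.isCharacter.cast_charDegree.symm
      rw [h4, ← h1]; exact comm_mem x g
    have h5 := index_add_sum_nonlinear (G := G)
    rw [Finset.sum_congr rfl fun φ h => h4 φ (Finset.mem_filter.1 h).2, Finset.sum_const, h1,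
      ← (Subgroup.center G).card_mul_index, h2, smul_eq_mul] at h5
    have h6 := (Subgroup.center G).index_ne_zero_of_finite
    rw [Nat.card_congr (Equiv.subtypeEquivRight h3), Nat.card_eq_fintype_card, Fintype.card_subtype]
    refine Nat.eq_of_mul_eq_mul_right (Nat.pos_of_ne_zero h6) ?_
    rw [one_mul]
    convert (show _ = _ by linarith : _ * (Subgroup.center G).index = (Subgroup.center G).index)

end Cfsg.Agent.S4762
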