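import Cfsg.Statements.S4866
import Cfsg.Agent.Lib.Char.PermLemma
import Cfsg.Agent.Lib.Perm.Prim

set_option autoImplicit false
open Cfsg

namespace Cfsg.Agent.S4866

open Cfsg.Agent.Char MulAction ComplexConjugate

section
variable {G : Type*} [Group G] [Finite G] (K : Subgroup G) [K.Normal]

@[reducible] noncomputable def actI : MulAction G (IrrCharacter K) where
  smul g θ := ⟨cj K g⁻¹ θ, θ.2.cj _⟩
  one_smul θ := Subtype.ext (by change cj K 1⁻¹ θ.1 = _; simp)
  mul_smul g h θ := Subtype.ext (by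
    change cj K (g * h)⁻¹ θ.1 = cj K g⁻¹ (cj K h⁻¹ θ.1); rw [mul_inv_rev, cj_mul])

@[reducible] def actC : MulAction G (ConjClasses K) where
  smul g := ConjClasses.map (MulAut.conjNormal g).toMonoidHom
  one_smul c := by
    obtain ⟨x, rfl⟩ := ConjClasses.mk_surjective c
    change ConjClasses.mk (MulAut.conjNormal (1 : G) x) = _; simp
  mul_smul g h c := by
    obtain ⟨x, rfl⟩ := ConjClasses.mk_surjective c
    change ConjClasses.mk (MulAut.conjNormal (g * h) x) =
      ConjClasses.mk (MulAut.conjNormal g (MulAut.conjNormal h x)); simp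

attribute [local instance] actI actC

theorem smul_mk (g : G) (x : K) : g • ConjClasses.mk x = ConjClasses.mk (MulAut.conjNormal g x) := rfl

def RI : SubMulAction G (IrrCharacter K) where
  carrier := {θ | ∀ k : K, ((θ : K → ℂ) k).im = 0}
  smul_mem' _ _ h _ := h _

theorem cinv {H : Type*} [Group H] {a b : H} (h : IsConj a b) : IsConj a⁻¹ b⁻¹ := by
  obtain ⟨c, rfl⟩ := isConj_iff.1 h
  exact isConj_iff.2 ⟨c, by simp [mul_assoc]⟩

theorem real_mk {x : K} : (∀ k : K, ConjClasses.mk k = ConjClasses.mk x → IsConj k k⁻¹) ↔ IsConj x x⁻¹ :=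
  ⟨fun h => h x rfl, fun h _ hk => have := ConjClasses.mk_eq_mk_iff_isConj.1 hk
    this.trans (h.trans (cinv this.symm))⟩

def RC : SubMulAction G (ConjClasses K) where
  carrier := {c | ∀ k : K, ConjClasses.mk k = c → IsConj k k⁻¹}
  smul_mem' g c h := by
    obtain ⟨x, rfl⟩ := ConjClasses.mk_surjective c
    exact (real_mk K).2 (by simpa using (MulAut.conjNormal g).toMonoidHom.map_isConj (h x rfl))

variable {K} (hodd : Odd K.index)
include hodd

omit [Finite G] in
theorem odd_mem {S : Subgroup G} (h : K ≤ S) {g : G} (hg : g * g ∈ S) : g ∈ S := by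
  obtain ⟨j, hj⟩ := hodd
  have := h (K.pow_index_mem g)
  rwa [hj, pow_succ, pow_mul, S.mul_mem_cancel_left (pow_mem (by rwa [sq]) j)] at this

theorem fix (g : G) : Nat.card (fixedBy (RI K) g) = Nat.card (fixedBy (RC K) g) := by
  have := card_fixed_irr (G := K) (fun x => (MulAut.conjNormal g⁻¹ x)⁻¹)
    (fun χ => ⟨_, (g • χ).2.conj⟩) (fun χ x => (χ.2.isCharacter.apply_inv _).symm)
    (fun c => c ∈ RC K ∧ g • c = c) (fun x => by
      rw [show ConjClasses.mk x ∈ RC K ↔ _ from real_mk K, ← mem_stabilizer_iff, ← inv_mem_iff,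
        mem_stabilizer_iff, smul_mk, ConjClasses.mk_eq_mk_iff_isConj]
      refine ⟨fun h => (cinv h.2).trans h.1.symm, fun h => ?_⟩
      have h1 : g⁻¹ ∈ stabilizer G (ConjClasses.mk x) := odd_mem hodd (fun k hk =>
        ConjClasses.mk_eq_mk_iff_isConj.2 (isConj_iff.2 ⟨⟨k, hk⟩, Subtype.ext rfl⟩).symm) (by
          rw [mem_stabilizer_iff, smul_mk, ConjClasses.mk_eq_mk_iff_isConj]
          have h2 := cinv (((MulAut.conjNormal g⁻¹).toMonoidHom.map_isConj h).trans (by simpa using cinv h : IsConj _ x⁻¹))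
          simpa using h2)
      have h2 := ConjClasses.mk_eq_mk_iff_isConj.1 h1
      exact ⟨h.symm.trans (cinv h2), h2⟩)
  refine (Nat.card_congr ?_).trans (this.trans (Nat.card_congr ?_))
  · refine (Equiv.subtypeEquivRight fun χ => Subtype.ext_iff).trans
      ((Equiv.subtypeSubtypeEquivSubtypeInter (· ∈ RI K) (fun c => g • c = c)).trans
      (Equiv.subtypeEquivRight fun χ => ⟨fun h => ?_, fun h => ?_⟩))
    · rw [Subtype.ext_iff, h.2]; exact funext fun x => Complex.conj_eq_iff_im.2 (h.1 x)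
    · have h0 : ∀ x, conj (cj K g⁻¹ χ.1 x) = χ.1 x := congrFun (congrArg Subtype.val h)
      have h1 : g ∈ stabilizer G χ := odd_mem hodd
        (fun k hk => Subtype.ext (cj_of_mem χ.2.isClassFunction (inv_mem hk))) (Subtype.ext (funext fun x => by
          change cj K (g * g)⁻¹ χ.1 x = _
          rw [mul_inv_rev, cj_mul, ← h0 x, cj_apply, cj_apply g⁻¹ χ.1 x, ← h0, Complex.conj_conj]))
      refine ⟨fun x => Complex.conj_eq_iff_im.1 ?_, h1⟩
      have := h0 x
      rwa [show cj K g⁻¹ χ.1 = χ.1 from congrArg Subtype.val h1] at this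
  · exact (Equiv.subtypeSubtypeEquivSubtypeInter (· ∈ RC K) (fun c => g • c = c)).symm.trans
      (Equiv.subtypeEquivRight fun χ => ⟨fun h => Subtype.ext h, fun h => congrArg Subtype.val h⟩)

theorem orb : Nat.card (orbitRel.Quotient G (RI K)) = Nat.card (orbitRel.Quotient G (RC K)) := by
  have := Fintype.ofFinite G
  refine Nat.eq_of_mul_eq_mul_right (Nat.card_pos (α := G)) ?_
  rw [← Perm.sum_card_fixedBy, ← Perm.sum_card_fixedBy]
  exact Finset.sum_congr rfl fun g _ => fix hodd g
end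

attribute [local instance] actI actC

/-- Let K be a normal subgroup of odd index in the finite group G. Then G has as many orbits on the real-valued irreducible complex characters of K (acting by conjugation) as it has orbits on the conjugacy classes of K that are real in K; equivalently, the number of G-orbits of real-valued irreducible characters of K equals the number of G-conjugacy classes of elements of K that are conjugate in K to their inverses. -/
theorem result {G : Type*} [Group G] [Finite G] (K : Subgroup G) [K.Normal] (hodd : Odd K.index) : Nat.card (Quot (fun θ η : {θ : Cfsg.IrrCharacter ↥K // (∀ k : ↥K, ((θ : ↥K → ℂ) k).im = 0)} => ∃ g : G, ∀ k k' : ↥K, (k' : G) = g * (k : G) * g⁻¹ → (η.1 : ↥K → ℂ) k' = (θ.1 : ↥K → ℂ) k)) = Nat.card (Quot (fun x y : {x : ↥K // IsConj x x⁻¹} => ∃ g : G, (y.1 : G) = g * x.1 * g⁻¹)) := by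
  refine (Nat.card_congr (Quot.congrRight fun θ η => ?_)).trans ((orb hodd).trans (Nat.card_congr
    (Equiv.ofBijective (Quot.map (fun x => (⟨ConjClasses.mk x.1, (real_mk K).2 x.2⟩ : RC K)) ?_) ⟨?_, ?_⟩)).symm)
  · exact ⟨fun ⟨g, h⟩ => ⟨g⁻¹, Subtype.ext (Subtype.ext (funext fun k => h k _ (by simp)))⟩,
      fun ⟨g, h⟩ => ⟨g⁻¹, fun k k' hk => by
        rw [← show _ = θ from h]; exact congrArg η.1.1 (Subtype.ext (by simp [hk]))⟩⟩
  · rintro x y ⟨g, hg⟩
    exact ⟨g⁻¹, Subtype.ext (congrArg ConjClasses.mk (Subtype.ext (by simp [hg, mul_assoc])))⟩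
  · rintro ⟨x⟩ ⟨y⟩ h
    obtain ⟨g, hg⟩ := Quotient.exact h
    obtain ⟨k, hk⟩ := isConj_iff.1 (ConjClasses.mk_eq_mk_iff_isConj.1 (congrArg Subtype.val hg))
    exact (Quot.sound ⟨k * g, by rw [← hk]; simp [mul_assoc]⟩).symm
  · rintro ⟨c, hc⟩
    obtain ⟨x, rfl⟩ := ConjClasses.mk_surjective c
    exact ⟨Quot.mk _ ⟨x, hc x rfl⟩, rfl⟩

end Cfsg.Agent.S4866
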