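import Cfsg.Statements.S4911
import Cfsg.Agent.Lib.Char.Glaub3
import Cfsg.Agent.Lib.Char.PermLemma

set_option autoImplicit false
open Cfsg

namespace Cfsg.Agent.S4911

open Cfsg.Agent.Char Cfsg.Agent.Solv Subgroup ComplexConjugate

theorem glR_conj {A B : Type*} [Group A] [Group B] [Finite B] {p : ℕ} {f : B →* A} {χ : A → ℂ} {β : B → ℂ}
    (h : GlR p f χ β) : GlR p f (fun g => conj (χ g)) fun g => conj (β g) := by
  obtain ⟨ε, hε, Ψ, hΨ, h⟩ := h
  exact ⟨ε, hε, _, hΨ.conj, fun c => by simp [h]⟩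

theorem glReal {A B : Type*} [Group A] [Group B] [Finite A] [Finite B] {p : ℕ} (hp : p.Prime) {f : B →* A}
    {P : (A → ℂ) → Prop} (h : GlCorr p f P fun _ => True) (hP : ∀ χ, P χ → P fun g => conj (χ g)) :
    GlCorr p f (fun χ => (∀ k, (χ k).im = 0) ∧ P χ) fun β => (fun g => conj (β g)) = β where
  ex χ h1 h2 := by
    obtain ⟨β, h3, -, h4⟩ := h.ex χ h1 h2.2
    have h5 := glR_conj h4
    rw [show (fun g => conj (χ g)) = χ from funext fun k => Complex.conj_eq_iff_im.2 (h2.1 k)] at h5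
    exact ⟨β, h3, h5.unique hp h4 h1.isCharacter h3.conj h3, h4⟩
  inj χ χ' β h1 h2 h3 h4 h5 := h.inj χ χ' β h1 h2 h3 h4.2 h5.2
  surj β h1 h2 := by
    obtain ⟨χ, h3, h4, h5⟩ := h.surj β h1 trivial
    have h6 := glR_conj h5
    rw [h2] at h6
    exact ⟨χ, h3, ⟨fun k => Complex.conj_eq_iff_im.1
      (congrFun (h.inj _ _ β h3.conj h3 h1 (hP χ h4) h4 h6 h5) k), h4⟩, h5⟩

theorem real_mk {H : Type*} [Group H] {x : H} :
    (∀ k : H, ConjClasses.mk k = ConjClasses.mk x → IsConj k k⁻¹) ↔ IsConj x x⁻¹ :=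
  ⟨fun h => h x rfl, fun h _ hk => by
    obtain ⟨c, rfl⟩ := isConj_iff.1 (ConjClasses.mk_eq_mk_iff_isConj.1 hk).symm
    simpa [mul_assoc] using (MulAut.conj c).toMonoidHom.map_isConj h⟩

section
variable {Γ : Type*} [Group Γ] [Finite Γ] {G S : Subgroup Γ} (hSG : S ≤ normalizer (G : Set Γ))
  (hcop : (Nat.card G).Coprime (Nat.card S)) (hs : Group.IsSolvable S ∨ Group.IsSolvable G)
include hSG hcop hs

theorem fus {c c' : (G ⊓ centralizer (S : Set Γ) : Subgroup Γ)}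
    (h : IsConj (inclusion inf_le_left c) (inclusion inf_le_left c')) : IsConj c c' := by
  let i := MulAction.compHom Γ (MulAut.conj : Γ →* MulAut Γ)
  obtain ⟨k, hk⟩ := isConj_iff.1 h
  have h4 : (k : Γ) * c * (k : Γ)⁻¹ = c' := congrArg Subtype.val hk
  obtain ⟨d, hd, h5⟩ := @glauberman_fixed_point_conj Γ _ _ Γ i S G hSG hcop.symm hs c
    (fun a ha => show a * c * a⁻¹ = c by rw [c.2.2 a ha, mul_inv_cancel_right]) k k.2
    (fun a ha => show a * (k * c * (k : Γ)⁻¹) * a⁻¹ = k * c * (k : Γ)⁻¹ by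
      rw [h4, c'.2.2 a ha, mul_inv_cancel_right])
  exact isConj_iff.2 ⟨⟨d, hd⟩, Subtype.ext (h5.trans h4)⟩

theorem rep {g : G} (hK : ∀ x ∈ S, ∀ k' : G, (k' : Γ) = x * g * x⁻¹ → ConjClasses.mk k' = ConjClasses.mk g) :
    ∃ c : (G ⊓ centralizer (S : Set Γ) : Subgroup Γ), IsConj g (inclusion inf_le_left c) := by
  let i := MulAction.compHom Γ (MulAut.conj : Γ →* MulAut Γ)
  obtain ⟨k, hk, h1⟩ := @glauberman_fixed_point Γ _ _ Γ i S G hSG hcop.symm hs g fun a ha => by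
    obtain ⟨k, hk⟩ := isConj_iff.1 (ConjClasses.mk_eq_mk_iff_isConj.1 (hK a ha (cjE (hSG ha) g) rfl).symm)
    exact ⟨k, k.2, congrArg Subtype.val hk⟩
  exact ⟨⟨k * g * k⁻¹, G.mul_mem (G.mul_mem hk g.2) (G.inv_mem hk),
    fun a ha => mul_inv_eq_iff_eq_mul.1 (h1 a ha)⟩, isConj_iff.2 ⟨⟨k, hk⟩, rfl⟩⟩

theorem cls : Nat.card {C : ConjClasses (G ⊓ centralizer (S : Set Γ) : Subgroup Γ) //
      ∀ g, ConjClasses.mk g = C → IsConj g g⁻¹} =
    Nat.card {c : ConjClasses G // (∀ k : G, ConjClasses.mk k = c → IsConj k k⁻¹) ∧ ∀ k : G,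
      ConjClasses.mk k = c → ∀ x ∈ S, ∀ k' : G, (k' : Γ) = x * (k : Γ) * x⁻¹ → ConjClasses.mk k' = c} := by
  refine Nat.card_eq_of_bijective (fun K => ⟨K.1.map (inclusion inf_le_left), ?_⟩) ⟨?_, ?_⟩
  · obtain ⟨K, hK⟩ := K
    obtain ⟨c, rfl⟩ := ConjClasses.mk_surjective K
    refine ⟨real_mk.2 (by simpa using (inclusion inf_le_left).map_isConj (hK c rfl)), fun g h2 s hs g' h1 => ?_⟩
    refine ConjClasses.mk_eq_mk_iff_isConj.2 ?_
    obtain ⟨k, hk⟩ := isConj_iff.1 (ConjClasses.mk_eq_mk_iff_isConj.1 h2)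
    refine isConj_iff.2 ⟨cjE (hSG hs) k, Subtype.ext ?_⟩
    have h4 : (k : Γ) * g * (k : Γ)⁻¹ = c := congrArg Subtype.val hk
    simp only [coe_mul, coe_inv, coe_cjE, h1, coe_inclusion]
    calc _ = s * (k * g * (k : Γ)⁻¹) * s⁻¹ := by group
      _ = _ := by rw [h4, c.2.2 s hs, mul_inv_cancel_right]
  · rintro ⟨K, hK⟩ ⟨K', hK'⟩ h
    obtain ⟨c, rfl⟩ := ConjClasses.mk_surjective K
    obtain ⟨c', rfl⟩ := ConjClasses.mk_surjective K'
    exact Subtype.ext (ConjClasses.mk_eq_mk_iff_isConj.2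
      (fus hSG hcop hs (ConjClasses.mk_eq_mk_iff_isConj.1 (congrArg Subtype.val h))))
  · rintro ⟨K, hK, hK'⟩
    obtain ⟨g, rfl⟩ := ConjClasses.mk_surjective K
    obtain ⟨c, hc⟩ := rep hSG hcop hs (hK' g rfl)
    have := ConjClasses.mk_eq_mk_iff_isConj.2 hc.symm
    exact ⟨⟨ConjClasses.mk c, real_mk.2 (fus hSG hcop hs (by rw [map_inv]; exact hK _ this))⟩, Subtype.ext this⟩
end

/-- Let P and K be subgroups of a finite group with P a p-group normalizing K and K of order prime to p. Then the number of P-invariant real-valued irreducible complex characters of K equals the number of conjugacy classes of K that are real (closed under inversion) and P-invariant. Moreover, if every real-valued irreducible character of K is P-invariant, then every real element of K (one conjugate in K to its inverse) is conjugate in K to an element centralized by P. -/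
theorem result {G : Type*} [Group G] [Finite G] (p : ℕ) [Fact p.Prime] (P K : Subgroup G) (hP : IsPGroup p ↥P) (hK : ¬ p ∣ Nat.card ↥K) (hPK : P ≤ Subgroup.normalizer (K : Set G)) : Nat.card {θ : Cfsg.IrrCharacter ↥K // (∀ k : ↥K, ((θ : ↥K → ℂ) k).im = 0) ∧ (∀ x ∈ P, ∀ k k' : ↥K, (k' : G) = x * (k : G) * x⁻¹ → (θ : ↥K → ℂ) k' = (θ : ↥K → ℂ) k)} = Nat.card {c : ConjClasses ↥K // (∀ k : ↥K, ConjClasses.mk k = c → IsConj k k⁻¹) ∧ ∀ k : ↥K, ConjClasses.mk k = c → ∀ x ∈ P, ∀ k' : ↥K, (k' : G) = x * (k : G) * x⁻¹ → ConjClasses.mk k' = c} ∧ ((∀ θ : Cfsg.IrrCharacter ↥K, (∀ k : ↥K, ((θ : ↥K → ℂ) k).im = 0) → (∀ x ∈ P, ∀ k k' : ↥K, (k' : G) = x * (k : G) * x⁻¹ → (θ : ↥K → ℂ) k' = (θ : ↥K → ℂ) k)) → ∀ k : ↥K, IsConj k k⁻¹ → ∃ k' : ↥K, IsConj k k' ∧ ∀ x ∈ P, x * (k' : G) * x⁻¹ = (k' : G)) := by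
  have hp : p.Prime := Fact.out
  have hcop : (Nat.card K).Coprime (Nat.card P) := by
    obtain ⟨n, hn⟩ := hP.exists_card_eq
    rw [hn]; exact ((Nat.Prime.coprime_iff_not_dvd hp).2 hK).symm.pow_right n
  have hs : Group.IsSolvable P ∨ Group.IsSolvable K := .inl (have := hP.isNilpotent; inferInstance)
  have h1 := ((glReal hp (glCorr_pgroup hp P hP hPK hcop rfl inf_le_left) fun χ h s hs g g' hg =>
    congrArg conj (h s hs g g' hg)).card_eq hp).trans (card_real_irr.trans (cls hPK hcop hs))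
  refine ⟨h1, fun h k hk => ?_⟩
  have h2 := ((card_real_irr (G := K)).symm.trans (Nat.card_congr (Equiv.subtypeEquivRight fun θ =>
    ⟨fun q => have := fun k => Complex.conj_eq_iff_im.1 (congrFun q k); ⟨this, h θ this⟩,
      fun q => funext fun k => Complex.conj_eq_iff_im.2 (q.1 k)⟩))).trans h1
  obtain ⟨c, hc⟩ := (Function.Injective.bijective_of_nat_card_le (f := Subtype.map id fun _ h => h.1)
    (Subtype.map_injective _ Function.injective_id) h2.le).2 ⟨ConjClasses.mk k, real_mk.2 hk⟩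
  have h3 : c.1 = ConjClasses.mk k := congrArg Subtype.val hc
  obtain ⟨d, hd⟩ := rep hPK hcop hs (h3 ▸ c.2.2 k h3.symm)
  exact ⟨_, hd, fun x hx => mul_inv_eq_iff_eq_mul.2 (d.2.2 x hx)⟩

end Cfsg.Agent.S4911
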