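import Cfsg.Statements.S4763
import Cfsg.Agent.S4911
import Cfsg.Agent.S4866
import Cfsg.Agent.Lib.Block.Blich

set_option autoImplicit false
open Cfsg

namespace Cfsg.Agent.S4763

open Cfsg.Agent.Char MulAction Subgroup
attribute [local instance] S4866.actC

section
variable {G : Type*} [Group G] [Finite G] {p : ℕ} [hp : Fact p.Prime] {N : Subgroup G} [N.Normal]

theorem cnt {S : Subgroup G} (hc : (Nat.card N).Coprime (Nat.card S)) (hS : IsPGroup p S) :
    Nat.card {θ : IrrCharacter N // S ≤ inertia N θ.1} = Nat.card {c : ConjClasses N // S ≤ stabilizer G c} := by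
  have hs : Group.IsSolvable S := have := hS.isNilpotent; inferInstance
  have h := (card_invS hs N le_normalizer_of_normal hc).trans
    (card_irr_eq_card_conjClasses.trans (card_inv_classes le_normalizer_of_normal hc (.inl hs)))
  refine (Nat.card_congr (Equiv.subtypeEquivRight fun θ => ?_)).trans
    (h.trans (Nat.card_congr (Equiv.subtypeEquivRight fun c => ?_)))
  · exact ⟨fun h s hs g g' e => (congrArg θ.1 (Subtype.ext e)).trans (congrFun (h hs) g),
      fun h s hs => funext fun g => h s hs g _ rfl⟩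
  · obtain ⟨x, rfl⟩ := ConjClasses.mk_surjective c
    exact ⟨fun h s hs => h s hs x _ rfl rfl, fun h s hs g g' e e' => by
      rw [← show _ = ConjClasses.mk x from h hs, ← e']; exact congrArg _ (Subtype.ext e)⟩

theorem compl_eq {α β : Type*} [Finite α] [Finite β] (h : Nat.card α = Nat.card β) {P : α → Prop} {Q : β → Prop}
    (h1 : Nat.card {a // P a} = Nat.card {b // Q b}) : Nat.card {a // ¬ P a} = Nat.card {b // ¬ Q b} := by
  classical
  have a := Nat.card_congr (Equiv.sumCompl P)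
  have b := Nat.card_congr (Equiv.sumCompl Q)
  rw [Nat.card_sum] at a b
  omega

variable (hN : (Nat.card N).Coprime p) {k : ℕ} (hk : N.index = p ^ k)
  (U : ∀ χ ψ, IsIrrCharacter G χ → IsIrrCharacter G ψ → p ∣ charDegree χ → p ∣ charDegree ψ → χ = ψ)
include hk

theorem ovr [Fintype N] {θ : N → ℂ} (hθ : IsIrrCharacter N θ) (h : inertia N θ ≠ ⊤) {χ : G → ℂ}
    (hχ : IsIrrCharacter G χ) (h1 : classInner (fun n : N => χ n) θ ≠ 0) : p ∣ charDegree χ := by
  obtain ⟨j, -, hj⟩ := (Nat.dvd_prime_pow hp.out).1 (hk ▸ index_dvd_of_le (le_inertia hθ.isClassFunction))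
  refine .trans ?_ ((dvd_mul_right _ _).trans (index_inertia_dvd_degree hχ hθ h1))
  rw [hj]
  exact dvd_pow_self p fun q => h (index_eq_one.1 (by rw [hj, q, pow_zero]))

include U

theorem ab {θ : N → ℂ} (hθ : IsIrrCharacter N θ) (h : inertia N θ ≠ ⊤) (a b : G ⧸ N) : a * b = b * a := by
  have := Fintype.ofFinite G
  have := Fintype.ofFinite N
  refine comm_of_forall_linear (fun φ hφ => ?_) a b
  by_contra q
  obtain ⟨χ, h3, h4⟩ := hθ.exists_irr_over
  obtain ⟨j, -, hj⟩ := (Nat.dvd_prime_pow hp.out).1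
    (hk ▸ hφ.degree_dvd_card hφ.isCharacter.cast_charDegree.symm : charDegree φ ∣ p ^ k)
  have := U χ _ h3 hφ.inflate (ovr hk hθ h h3 h4) (by
    rw [charDegree_inflate, hj]
    exact dvd_pow_self p fun e => q (by rw [← hφ.isCharacter.cast_charDegree, hj, e]; simp))
  rw [this, show (fun n : N => φ (n : G)) = φ 1 • fun _ => (1 : ℂ) from funext fun n => by
    simp [(QuotientGroup.eq_one_iff _).2 n.2], classInner_smul_left] at h4
  rw [← isIrrCharacter_one.eq_of_classInner_ne_zero hθ (right_ne_zero_of_mul h4)] at h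
  exact h (inertia_eq_top_iff.2 fun g => rfl)

include hN

theorem inert {θ : N → ℂ} (hθ : IsIrrCharacter N θ) (h : inertia N θ ≠ ⊤) : inertia N θ ≤ N := by
  have := Fintype.ofFinite G
  have := Fintype.ofFinite N
  have hNT := le_inertia hθ.isClassFunction
  intro t ht
  by_contra q
  have d : (N.subgroupOf (inertia N θ)).index ∣ p ^ k := hk ▸ relIndex_dvd_index_of_le hNT
  obtain ⟨ξ, ⟨h1, h2⟩, -⟩ := exists_isCan (N := N.subgroupOf (inertia N θ)) (by
      rw [Nat.card_congr (subgroupOfEquivOfLe hNT).toEquiv]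
      exact (hN.symm.pow_left k).coprime_dvd_left d)
    (hθ.comp_equiv (subgroupOfEquivOfLe hNT)) fun g => funext fun n => congrFun g.2 ⟨n, n.2⟩
  obtain ⟨φ, h3, h4⟩ := exists_irr_apply_ne (g := ((t : G) : G ⧸ N)) (by rwa [Ne, QuotientGroup.eq_one_iff])
  have h5 := h3.apply_one_of_comm (ab hk U hθ h)
  obtain ⟨l, rfl⟩ := h3.isCharacter.exists_units_of_apply_one h5
  let lam : inertia N θ →* ℂˣ := l.comp ((QuotientGroup.mk' N).comp (inertia N θ).subtype)
  have e1 : (fun n : N => ξ ⟨n, hNT n.2⟩) = θ := funext fun n => h2 ⟨⟨n, hNT n.2⟩, n.2⟩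
  have e2 : (fun n : N => (lam ⟨n, hNT n.2⟩ : ℂ) * ξ ⟨n, hNT n.2⟩) = θ := funext fun n => by
    simp [lam, (QuotientGroup.eq_one_iff _).2 n.2, congrFun e1 n]
  have o1 : classInner (fun n : N => ξ ⟨n, hNT n.2⟩) θ ≠ 0 := by rw [e1, hθ.classInner_self]; simp
  have o2 : classInner (fun n : N => (lam ⟨n, hNT n.2⟩ : ℂ) * ξ ⟨n, hNT n.2⟩) θ ≠ 0 := by
    rw [e2, hθ.classInner_self]; simp
  have c1 := hθ.clifford_ind rfl hNT h1.irr o1
  have c2 := hθ.clifford_ind rfl hNT (h1.irr.mul_units lam) o2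
  have e := hθ.clifford_inj rfl hNT (h1.irr.mul_units lam) h1.irr o2 o1
    (U _ _ c2.1 c1.1 (ovr hk hθ h c2.1 (c2.2 ▸ o2)) (ovr hk hθ h c1.1 (c1.2 ▸ o1)))
  have x1 : ξ 1 = charDegree θ := (congrFun e1 1).trans hθ.isCharacter.cast_charDegree.symm
  have h6 := h1.irr.isCharacter.detChar_units_mul lam x1 ⟨t, ht⟩
  obtain ⟨δ, hδ⟩ := h1.irr.isCharacter.exists_detChar
  rw [e, hδ, eq_comm, mul_eq_right₀ (Units.ne_zero _)] at h6
  refine h4 (((pow_eq_one_iff_of_coprime (m := charDegree θ) (n := p ^ k) ((hN.coprime_dvd_left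
    (hθ.degree_dvd_card hθ.isCharacter.cast_charDegree.symm)).pow_right k)).1 ⟨h6, ?_⟩).trans h5.symm)
  change ((l (t : G ⧸ N) : ℂˣ) : ℂ) ^ p ^ k = 1
  rw [← Units.val_pow_eq_pow_val, ← map_pow, ← hk, index_eq_card, pow_card_eq_one']; simp
end

/-- Let p be a prime and G a finite group that is not nilpotent and has a normal p-complement (a normal subgroup of order prime to p and index a power of p). If G has exactly one irreducible complex character of degree divisible by p, then G has exactly one conjugacy class whose size is divisible by p. -/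
theorem result {G : Type*} [Group G] [Finite G] (p : ℕ) [Fact p.Prime] (hnil : ¬ Group.IsNilpotent G) (N : Subgroup G) [N.Normal] (hN : (Nat.card N).Coprime p) (hidx : ∃ k : ℕ, N.index = p ^ k) (hone : Nat.card {χ : Cfsg.IrrCharacter G // p ∣ Cfsg.charDegree (χ : G → ℂ)} = 1) : Nat.card {C : ConjClasses G // p ∣ Nat.card C.carrier} = 1 := by
  classical
  have hp : p.Prime := Fact.out
  have := Fintype.ofFinite G
  have := Fintype.ofFinite N
  obtain ⟨k, hk⟩ := hidx
  obtain ⟨χ0, hχ0⟩ := Nat.card_eq_one_iff_exists.1 hone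
  have U : ∀ χ ψ, IsIrrCharacter G χ → IsIrrCharacter G ψ → p ∣ charDegree χ → p ∣ charDegree ψ → χ = ψ :=
    fun χ ψ a b c d => congrArg (·.1.1) ((hχ0 ⟨⟨χ, a⟩, c⟩).trans (hχ0 ⟨⟨ψ, b⟩, d⟩).symm)
  obtain ⟨P⟩ : Nonempty (Sylow p G) := inferInstance
  have cop : ∀ S : Subgroup G, IsPGroup p S → (Nat.card N).Coprime (Nat.card S) := fun S hS => by
    obtain ⟨n, hn⟩ := hS.exists_card_eq; exact hn ▸ hN.pow_right n
  have hc : N.IsComplement' P := isComplement'_of_coprime (by
    rw [← N.card_mul_index, P.card_eq_multiplicity, ← N.card_mul_index, hk, Nat.factorization_mul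
      Nat.card_pos.ne' (pow_pos hp.pos k).ne', Finsupp.add_apply, hp.factorization_pow, Finsupp.single_eq_same,
      Nat.factorization_eq_zero_of_not_dvd ((Nat.Prime.coprime_iff_not_dvd hp).1 hN.symm), zero_add])
    (cop _ P.isPGroup')
  have dec : ∀ g : G, ∃ n ∈ N, ∃ x ∈ (P : Subgroup G), n * x = g := fun g =>
    mem_sup_of_normal_left.1 (hc.sup_eq_top ▸ mem_top g)
  have top : ∀ θ : IrrCharacter N, (P : Subgroup G) ≤ inertia N θ.1 → inertia N θ.1 = ⊤ := fun θ h =>
    eq_top_iff.2 (hc.sup_eq_top ▸ sup_le (le_inertia θ.2.isClassFunction) h)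
  obtain ⟨θ, hθ⟩ : ∃ θ : IrrCharacter N, ¬ (P : Subgroup G) ≤ inertia N θ.1 := by
    by_contra! q
    have h1 := le_centralizer_of_fix_irr (cop _ P.isPGroup').symm
      (.inl (have := P.isPGroup'.isNilpotent; inferInstance)) fun θ h => q ⟨θ, h⟩
    let e : N × P ≃* G := MulEquiv.ofBijective (N.subtype.noncommCoprod (P : Subgroup G).subtype
      fun n x => h1 x.2 n n.2) hc
    obtain ⟨φ, ψ, h2, h3, h4⟩ := (χ0.1.2.comp_equiv e).exists_prod
    have dg : ∀ φ', IsIrrCharacter N φ' → charDegree (fun g => φ' (e.symm g).1 * ψ (e.symm g).2) =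
        charDegree φ' * charDegree ψ := fun φ' h => Nat.cast_injective (R := ℂ) (by
      rw [((h.prod h3).comp_equiv e.symm).isCharacter.cast_charDegree, Nat.cast_mul,
        h.isCharacter.cast_charDegree, h3.isCharacter.cast_charDegree]; simp)
    have h5 : p ∣ charDegree ψ := by
      have := χ0.2
      rw [show χ0.1.1 = fun g => φ (e.symm g).1 * ψ (e.symm g).2 from
        funext fun g => by simpa using congrFun h4 (e.symm g), dg φ h2, hp.dvd_mul] at this
      exact this.resolve_left fun q => (Nat.Prime.coprime_iff_not_dvd hp).1 hN.symm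
        (q.trans (h2.degree_dvd_card h2.isCharacter.cast_charDegree.symm))
    have h6 : N = ⊥ := eq_bot_iff.2 fun n hn => by
      by_contra q
      obtain ⟨φ', a, b⟩ := exists_irr_apply_ne (g := (⟨n, hn⟩ : N)) fun e => q (congrArg Subtype.val e)
      have := U _ _ ((a.prod h3).comp_equiv e.symm) ((isIrrCharacter_one.prod h3).comp_equiv e.symm)
        (dg _ a ▸ h5.mul_left _) (dg _ isIrrCharacter_one ▸ h5.mul_left _)
      have a1 := congrFun this (e (⟨n, hn⟩, 1))
      have a2 := congrFun this (e (1, 1))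
      simp only [MulEquiv.symm_apply_apply] at a1 a2
      exact b (mul_right_cancel₀ h3.apply_one_ne_zero (a1.trans a2.symm))
    rw [h6, index_bot] at hk
    exact hnil (IsPGroup.of_card hk).isNilpotent
  have hθ' : inertia N θ.1 ≠ ⊤ := fun q => hθ (q ▸ le_top)
  have pab : ∀ x ∈ (P : Subgroup G), ∀ y ∈ (P : Subgroup G), x * y = y * x := fun x hx y hy => by
    have := QuotientGroup.eq.1 (ab hk U θ.2 hθ' x y)
    exact inv_mul_eq_one.1 (hc.disjoint.le_bot ⟨this, (P : Subgroup G).mul_mem ((P : Subgroup G).inv_mem ((P : Subgroup G).mul_mem hx hy)) ((P : Subgroup G).mul_mem hy hx)⟩)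
  have st : ∀ x ∈ (P : Subgroup G), x ≠ 1 → ∀ c : ConjClasses N, x • c = c → (P : Subgroup G) ≤ stabilizer G c :=
    fun x hx h1 c h2 => by
    have hz := P.isPGroup'.to_le (zpowers_le.2 hx)
    have := (cnt (cop _ hz) hz).symm.trans ((Nat.card_congr (Equiv.subtypeEquivRight fun η => ⟨fun h => by
      by_contra q
      exact h1 (hc.disjoint.le_bot ⟨inert hN hk U η.2 (fun e => q (e ▸ le_top)) (h (mem_zpowers x)), hx⟩),
      (zpowers_le.2 hx).trans⟩)).trans (cnt (cop _ P.isPGroup') P.isPGroup'))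
    obtain ⟨d, hd⟩ := (Function.Injective.bijective_of_nat_card_le
      (f := fun d : {c : ConjClasses N // (P : Subgroup G) ≤ stabilizer G c} =>
        (⟨d.1, (zpowers_le.2 hx).trans d.2⟩ : {c : ConjClasses N // zpowers x ≤ stabilizer G c}))
      (fun a b q => Subtype.ext (congrArg (·.1) q)) this.le).2 ⟨c, zpowers_le.2 h2⟩
    exact (show d.1 = c from congrArg Subtype.val hd) ▸ d.2
  have e1 := compl_eq card_irr_eq_card_conjClasses (cnt (cop _ P.isPGroup') P.isPGroup')
  have e2 : Nat.card {η : IrrCharacter N // ¬ (P : Subgroup G) ≤ inertia N η.1} ≤ Nat.card P := by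
    have : ∀ η : {η : IrrCharacter N // ¬ (P : Subgroup G) ≤ inertia N η.1}, ∃ x : P, η.1.1 = cj N x θ.1 :=
      fun η => by
      obtain ⟨χ, a, b⟩ := θ.2.exists_irr_over
      obtain ⟨ψ, c, d⟩ := η.1.2.exists_irr_over
      rw [U _ _ c a (ovr hk η.1.2 (fun q => η.2 (q ▸ le_top)) c d) (ovr hk θ.2 hθ' a b)] at d
      obtain ⟨g, hg⟩ := mem_cjOrbit.1 (a.mem_cjOrbit_of_under θ.2 η.1.2 b d)
      obtain ⟨n, hn, x, hx, rfl⟩ := dec g
      exact ⟨⟨x, hx⟩, by rw [hg, cj_mul, cj_of_mem θ.2.isClassFunction hn]⟩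
    choose f hf using this
    exact Nat.card_le_card_of_injective f fun a b q => Subtype.ext (Subtype.ext (by rw [hf, hf, q]))
  have : Nonempty {η : IrrCharacter N // ¬ (P : Subgroup G) ≤ inertia N η.1} := ⟨⟨θ, hθ⟩⟩
  obtain ⟨c, hc0⟩ := (Nat.card_pos_iff.1 (e1 ▸ Nat.card_pos)).1
  have tr := (Function.Injective.bijective_of_nat_card_le
    (f := fun x : P => (⟨(x : G) • c, fun q => hc0 fun s hs => smul_left_cancel (x : G) (by
      rw [← mul_smul, pab _ x.2 s hs, mul_smul]; exact q hs)⟩ :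
        {c : ConjClasses N // ¬ (P : Subgroup G) ≤ stabilizer G c})) (fun x y q => by
      by_contra h
      refine hc0 (st ((y : G)⁻¹ * x) (mul_mem (inv_mem y.2) x.2) (fun e => h (Subtype.ext (inv_mul_eq_one.1 e).symm)) c ?_)
      rw [mul_smul, inv_smul_eq_iff]; exact congrArg Subtype.val q) (e1 ▸ e2)).2
  have cd : ∀ g : G, Nat.card (ConjClasses.mk g).carrier = (centralizer {g}).index := fun g =>
    (Nat.card_congr (Equiv.subtypeEquivRight fun x => ConjClasses.mem_carrier_iff_mk_eq.trans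
      (ConjClasses.mk_eq_mk_iff_isConj.trans isConj_comm))).trans (card_isConj_eq_index g)
  have nd : ∀ g g' : G, IsConj g g' → (∀ x ∈ (P : Subgroup G), x * g' = g' * x) →
      ¬ p ∣ Nat.card (ConjClasses.mk g).carrier := fun g g' h h' q => by
    rw [ConjClasses.mk_eq_mk_iff_isConj.2 h, cd] at q
    exact P.not_dvd_index (q.trans (index_dvd_of_le fun x hx => mem_centralizer_singleton_iff.2 (h' x hx)))
  have hs : ∀ S : Subgroup G, IsPGroup p S → Group.IsSolvable S ∨ Group.IsSolvable N := fun S h =>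
    .inl (have := h.isNilpotent; inferInstance)
  have rp : ∀ n : N, (P : Subgroup G) ≤ stabilizer G (ConjClasses.mk n) →
      ∃ d : (N ⊓ centralizer (P : Set G) : Subgroup G), IsConj n (inclusion inf_le_left d) := fun n h =>
    S4911.rep le_normalizer_of_normal (cop _ P.isPGroup') (hs _ P.isPGroup') fun x hx k' e =>
      (congrArg _ (Subtype.ext e)).trans (h hx)
  obtain ⟨n0, rfl⟩ := ConjClasses.mk_surjective c
  refine Nat.card_eq_one_iff_exists.2 ⟨⟨ConjClasses.mk (n0 : G), ?_⟩, ?_⟩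
  · by_contra q
    rw [cd] at q
    obtain ⟨Q, hQ⟩ := Blk.exists_sylow_le q
    obtain ⟨g, rfl⟩ := exists_smul_eq G P Q
    obtain ⟨n, hn, x, hx, rfl⟩ := dec g
    refine hc0 fun s hs => ConjClasses.mk_eq_mk_iff_isConj.2 ?_
    have h1 : n * s * n⁻¹ ∈ centralizer {(n0 : G)} := hQ ⟨x⁻¹ * s * x, mul_mem (mul_mem (inv_mem hx) hs) hx, by
      simp [mul_assoc]⟩
    rw [mem_centralizer_singleton_iff] at h1
    refine isConj_iff.2 ⟨⟨n * (s * n⁻¹ * s⁻¹), mul_mem hn (Normal.conj_mem inferInstance _ (inv_mem hn) s)⟩,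
      Subtype.ext ?_⟩
    change n * (s * n⁻¹ * s⁻¹) * (s * n0 * s⁻¹) * (n * (s * n⁻¹ * s⁻¹))⁻¹ = n0
    calc _ = n * s * n⁻¹ * n0 * (n * s * n⁻¹)⁻¹ := by group
      _ = _ := by rw [h1]; group
  · rintro ⟨C, hC⟩
    obtain ⟨g, rfl⟩ := ConjClasses.mk_surjective C
    refine Subtype.ext (ConjClasses.mk_eq_mk_iff_isConj.2 ?_)
    obtain ⟨a, ⟨i, rfl⟩, b, ⟨j, rfl⟩, h1, ⟨l, h2⟩, h3⟩ := Transfer.exists_pPart p g
    obtain ⟨u, hu⟩ := Transfer.exists_conj_mem_sylow P h2
    have hb : u * g ^ j * u⁻¹ ∈ N := Normal.conj_mem inferInstance _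
      (Transfer.pResidual_le_of_index hk (Transfer.mem_pResidual_of_coprime h3)) u
    have hcm : u * g ^ j * u⁻¹ * (u * g ^ i * u⁻¹) = u * g ^ i * u⁻¹ * (u * g ^ j * u⁻¹) := by group
    have hg : IsConj g (u * g ^ i * u⁻¹ * (u * g ^ j * u⁻¹)) :=
      isConj_iff.2 ⟨u, (congrArg (u * · * u⁻¹) (show g = g ^ i * g ^ j from h1)).trans (by group)⟩
    generalize u * g ^ i * u⁻¹ = x at hu hcm hg
    generalize u * g ^ j * u⁻¹ = n at hb hcm hg
    by_cases q : (P : Subgroup G) ≤ stabilizer G (ConjClasses.mk (⟨n, hb⟩ : N))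
    · obtain ⟨d, hd⟩ := rp _ q
      have hz := P.isPGroup'.to_le (zpowers_le.2 hu)
      obtain ⟨t, ht⟩ := isConj_iff.1 (S4911.fus le_normalizer_of_normal (cop _ hz) (hs _ hz)
        (c := ⟨n, hb, mem_centralizer_zpowers_iff.2 hcm⟩)
        (c' := ⟨d, d.2.1, mem_centralizer_zpowers_iff.2 (d.2.2 x hu).symm⟩) hd)
      have ht' : (t : G) * n * (t : G)⁻¹ = d := congrArg Subtype.val ht
      refine absurd hC (nd g (x * d) (hg.trans (isConj_iff.2 ⟨t, ?_⟩)) fun y hy => ?_)
      · rw [← ht', ← mul_assoc, ← mul_assoc, ← mul_assoc, t.2.2 x (mem_zpowers x)]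
      · rw [← mul_assoc, pab y hy x hu, mul_assoc, d.2.2 y hy, mul_assoc]
    obtain rfl : x = 1 := by
      by_contra h
      exact q (st x hu h _ (congrArg ConjClasses.mk (Subtype.ext (mul_inv_eq_iff_eq_mul.2 hcm.symm))))
    obtain ⟨y, hy⟩ := tr ⟨_, q⟩
    have := N.subtype.map_isConj (ConjClasses.mk_eq_mk_iff_isConj.1 (congrArg Subtype.val hy))
    rw [one_mul] at hg
    exact hg.trans (this.symm.trans (isConj_iff.2 ⟨(y : G), rfl⟩ : IsConj (n0 : G) ((y : G) * n0 * (y : G)⁻¹)).symm)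

end Cfsg.Agent.S4763
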