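import Cfsg.Statements.S4765
import Mathlib
import Cfsg.Agent.Lib.Perm.GL2i

set_option autoImplicit false
open Cfsg

namespace Cfsg.Agent.S4765

open Cfsg.Agent.Perm.GL2 Cfsg.Agent.Char

/-- Let F be a finite field of characteristic p with at least 4 elements. Then PSL(2,F) has exactly one irreducible complex character of degree divisible by p, and its degree is the order of F. -/
theorem result (p : ℕ) [Fact p.Prime] (F : Type*) [Field F] [Fintype F] [CharP F p] (hF : 4 ≤ Fintype.card F) : Nat.card {χ : Cfsg.IrrCharacter (Matrix.ProjectiveSpecialLinearGroup (Fin 2) F) // p ∣ Cfsg.charDegree (χ : Matrix.ProjectiveSpecialLinearGroup (Fin 2) F → ℂ)} = 1 ∧ ∀ χ : Cfsg.IrrCharacter (Matrix.ProjectiveSpecialLinearGroup (Fin 2) F), p ∣ Cfsg.charDegree (χ : Matrix.ProjectiveSpecialLinearGroup (Fin 2) F → ℂ) → Cfsg.charDegree (χ : Matrix.ProjectiveSpecialLinearGroup (Fin 2) F → ℂ) = Fintype.card F := by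
  classical
  obtain ⟨n, hp, hn⟩ := FiniteField.card F p
  have hq : p ∣ Fintype.card F := hn ▸ dvd_pow_self p n.pos.ne'
  have key : ∀ χ : Cfsg.IrrCharacter (PSL2 F), p ∣ charDegree (χ : PSL2 F → ℂ) →
      charDegree (χ : PSL2 F → ℂ) = Fintype.card F := by
    intro χ h
    have h1 := deg_cases (χ.2.comp_surjective toP toP_surjective)
    have h2 : charDegree (fun x => (χ : PSL2 F → ℂ) (toP x)) = charDegree (χ : PSL2 F → ℂ) := by
      simp [charDegree]
    rw [h2] at h1
    rcases h1 with e | e | e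
    · exact e
    · exact (hp.one_lt.ne' (Nat.dvd_one.1 ((Nat.dvd_add_right hq).1 (h.trans e)))).elim
    · have := Nat.dvd_sub hq (h.trans e)
      rw [show Fintype.card F - (Fintype.card F - 1) = 1 by omega] at this
      exact (hp.one_lt.ne' (Nat.dvd_one.1 this)).elim
  refine ⟨?_, key⟩
  obtain ⟨ψ, h1, h2⟩ := exists_descend_P (F := F) isIrr_StS (fun g hg => by rw [StS_scal hg, StS_one])
  obtain ⟨e, he⟩ := exists_ell (F := F)
  refine Nat.card_eq_one_iff_exists.2 ⟨⟨⟨ψ, h1⟩, ?_⟩, fun χ => Subtype.ext (Subtype.ext (funext fun x => ?_))⟩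
  · rwa [charDegree_eq (n := Fintype.card F) (by rw [← StS_one, ← h2, map_one])]
  · obtain ⟨x, rfl⟩ := toP_surjective x
    have h3 := (irr_deg he (χ.1.2.comp_surjective toP toP_surjective)).2.1 (by
      rw [map_one, ← χ.1.2.isCharacter.cast_charDegree, key χ.1 χ.2])
    exact (congrFun h3 x).trans (h2 x).symm

end Cfsg.Agent.S4765
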