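import Cfsg.Statements.S4784
import Cfsg.Agent.Lib.Char.PermCh
import Cfsg.Agent.Lib.Char.Misc
import Cfsg.Agent.Lib.Char.PermLemma

set_option autoImplicit false
open Cfsg

namespace Cfsg.Agent.S4784

open Cfsg.Agent.Char

/-- Let H be a subgroup of the finite group G and consider the permutation character of G on the cosets of H (the function induced from the principal character of H). Then exactly one irreducible constituent of it is real-valued with Frobenius–Schur indicator +1 (namely the principal character) if and only if the normal core of H has odd index in G. -/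
theorem result {G : Type*} [Group G] [Fintype G] (H : Subgroup G) : Nat.card {χ : Cfsg.IrrCharacter G // Cfsg.classInner (Cfsg.indFun H (fun _ : H => (1 : ℂ))) (χ : G → ℂ) ≠ 0 ∧ (∀ g : G, (starRingEnd ℂ) ((χ : G → ℂ) g) = (χ : G → ℂ) g) ∧ (Nat.card G : ℂ)⁻¹ * ∑ g : G, (χ : G → ℂ) (g * g) = 1} = 1 ↔ Odd H.normalCore.index := by
  have := Fintype.ofFinite H
  have h0 : classInner (indFun H fun _ => 1) (irrOne G).1 = 1 := by
    rw [frobenius_left _ _ (irrOne G).2.isClassFunction]; exact isIrrCharacter_one.classInner_self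
  have h1 : classInner (indFun H fun _ => 1) (irrOne G).1 ≠ 0 ∧ (∀ g : G, (starRingEnd ℂ)
      ((irrOne G).1 g) = (irrOne G).1 g) ∧ fsInd (irrOne G).1 = 1 := ⟨by simp [h0], by simp, fsInd_one⟩
  have h2 := (isCharacter_one (G := H)).ind
  rw [Nat.card_eq_one_iff_exists]
  refine ⟨fun ⟨χ, h⟩ => Nat.not_even_iff_odd.1 fun h3 => ?_, fun h => ⟨⟨irrOne G, h1⟩,
    fun ⟨χ, h3, h4, _⟩ => ?_⟩⟩
  swap
  · obtain ⟨ψ, h5, h6⟩ := χ.2.exists_quotient H.normalCore ((le_charKer_indFun H.normalCore_le
      isCharacter_one fun _ _ => rfl).trans (h2.charKer_le_of_constituent χ.2 h3))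
    have := h5.eq_one_of_conj_eq h (funext fun q => by
      obtain ⟨g, rfl⟩ := QuotientGroup.mk_surjective q
      rw [h6, h4])
    exact Subtype.ext (Subtype.ext (funext fun g => (h6 g).symm.trans (congrFun this g)))
  obtain ⟨c, hc, -⟩ := h2.exists_coeff
  have h4 : (fsInd (indFun H fun _ => 1)).re ≤ 1 := by
    classical
    rw [fsInd_eq_sum h2.isClassFunction, ← Finset.add_sum_erase _ _ (Finset.mem_univ (irrOne G)), h0,
      h1.2.2, Complex.add_re, Complex.re_sum]
    refine (add_le_of_nonpos_right (Finset.sum_nonpos fun ψ hψ => ?_)).trans (by simp)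
    rcases norm_fsInd_le ψ.2 with h5 | h5 | h5
    · rw [by_contra fun h6 => Finset.ne_of_mem_erase hψ (congrArg Subtype.val ((h ⟨ψ, h6, congrFun
        (by_contra fun h7 => one_ne_zero (h5.symm.trans (ψ.2.fsInd_eq_zero h7))), h5⟩).trans
        (h ⟨_, h1⟩).symm))]
      simp
    · simp [h5]
    · simp [h5, hc]
  obtain ⟨t, ht⟩ := exists_prime_orderOf_dvd_card' (G := G ⧸ H.normalCore) 2 h3.two_dvd
  obtain ⟨t, rfl⟩ := QuotientGroup.mk_surjective t
  have h5 : ∑ g : G, Nat.card (MulAction.fixedBy (G ⧸ H) g) <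
      ∑ g : G, Nat.card (MulAction.fixedBy (G ⧸ H) (g * g)) := by
    have h5 : ∀ g : G, MulAction.fixedBy (G ⧸ H) g ⊆ MulAction.fixedBy (G ⧸ H) (g * g) :=
      fun g x hx => by simp_all [mul_smul]
    refine Finset.sum_lt_sum (fun g _ => Nat.card_mono (Set.toFinite _) (h5 g))
      ⟨t, Finset.mem_univ _, Set.ncard_lt_ncard ((h5 t).ssubset_of_ne fun h6 => ?_)⟩
    have h7 : ∀ g, g ∈ H.normalCore ↔ MulAction.fixedBy (G ⧸ H) g = Set.univ := fun g => by
      simp [Subgroup.normalCore_eq_ker, Equiv.ext_iff, Set.eq_univ_iff_forall]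
    have h8 := pow_orderOf_eq_one (t : G ⧸ H.normalCore)
    rw [ht, sq, ← QuotientGroup.mk_mul, QuotientGroup.eq_one_iff, h7, ← h6, ← h7,
      ← QuotientGroup.eq_one_iff] at h8
    simp [h8] at ht
  rw [Perm.sum_card_fixedBy_trans] at h5
  simp only [fsInd, indFun_one_eq_card_fixedBy_quotient] at h4
  rw [← Nat.cast_sum, ← Complex.ofReal_natCast, ← Complex.ofReal_natCast, ← Complex.ofReal_inv,
    ← Complex.ofReal_mul, Complex.ofReal_re, inv_mul_le_iff₀ (Nat.cast_pos.2 Nat.card_pos), mul_one,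
    Nat.cast_le] at h4
  omega

end Cfsg.Agent.S4784
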