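import Cfsg.Statements.S4796
import Cfsg.Agent.Lib.Char.Codeg
import Cfsg.Agent.Lib.Solv.Frob

set_option autoImplicit false
open Cfsg

namespace Cfsg.Agent.S4796

open Cfsg.Agent.Char

/-- Let G be a finite group with a faithful irreducible complex character χ whose codegree #G / χ(1) is a prime p (for a faithful character the kernel is trivial, so the codegree is #G / χ(1)). Then either G is cyclic of order p, or G is a Frobenius group whose Frobenius kernel has order p: some proper non-trivial subgroup H satisfies H ∩ gHg⁻¹ = 1 for every element g outside H, and the set of elements lying in no conjugate of H, together with the identity, has exactly p elements. -/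
theorem result {G : Type*} [Group G] [Finite G] (χ : Cfsg.IrrCharacter G) (hfaith : ∀ g : G, (χ : G → ℂ) g = (χ : G → ℂ) 1 → g = 1) (p : ℕ) (hp : p.Prime) (hcod : Nat.card G = p * Cfsg.charDegree (χ : G → ℂ)) : (IsCyclic G ∧ Nat.card G = p) ∨ ∃ H : Subgroup G, Cfsg.IsFrobeniusComplement H ∧ Nat.card ↥(Cfsg.frobeniusKernel H) = p := by
  obtain ⟨P, hn, h1, h2⟩ := codeg_prime χ.2 hp hcod
  have := Fact.mk hp
  by_cases h3 : P = ⊤
  · have h4 : Nat.card G = p := by rw [← h1, h3, Subgroup.card_top]
    exact .inl ⟨isCyclic_of_prime_card h4, h4⟩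
  have h4 : (Nat.card P).Coprime P.index := by
    rw [h1, hp.coprime_iff_not_dvd]
    intro h5
    obtain ⟨S, hS⟩ := (IsPGroup.of_card (h1.trans (pow_one p).symm)).exists_le_sylow
    obtain ⟨K, h6, h7, h8, -⟩ := Solv.exists_normal_between_card S.isPGroup'.isNilpotent S.isPGroup'
      le_rfl Subgroup.le_normalizer Subgroup.le_normalizer_of_normal hS 1 (by
        rw [S.card_eq_multiplicity, h1, ← pow_succ']
        refine Nat.pow_le_pow_right hp.pos ((hp.pow_dvd_iff_le_factorization Nat.card_pos.ne').1 ?_)
        rw [← P.card_mul_index, h1, pow_succ', pow_one]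
        exact Nat.mul_dvd_mul_left _ h5)
    have h9 : IsMulCommutative K := IsPGroup.isMulCommutative_of_card_eq_prime_sq (p := p) (by
      rw [h8, h1]; ring)
    have := Subgroup.card_le_of_le (show K ≤ P from fun x hx => h2 fun y hy =>
      congrArg Subtype.val (h9.1.1 ⟨y, h6 hy⟩ ⟨x, hx⟩))
    rw [h8, h1, pow_one] at this
    nlinarith [hp.one_lt]
  obtain ⟨H, hH⟩ := Subgroup.exists_right_complement'_of_coprime h4
  have h5 : IsFrobeniusComplement H := Solv.isFrobeniusComplement_of_fpf hH.sup_eq_top
    (fun h => hp.ne_one (by rw [← h1, h, Subgroup.card_bot]))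
    (fun h => h3 (by simpa [h] using hH.sup_eq_top)) fun h hh h6 => by
      have : Fact (Nat.card P).Prime := ⟨h1 ▸ hp⟩
      rcases ((Subgroup.centralizer {h}).subgroupOf P).eq_bot_or_eq_top_of_prime_card with h7 | h7
      · rw [inf_comm]; exact (Subgroup.subgroupOf_eq_bot.1 h7).eq_bot
      · exact absurd (hH.disjoint.le_bot ⟨h2 fun y hy => Subgroup.mem_centralizer_singleton_iff.1
          (Subgroup.subgroupOf_eq_top.1 h7 hy), hh⟩) h6
  exact .inr ⟨H, h5, by rw [Solv.card_frobeniusKernel h5, hH.index_eq_card, h1]⟩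

end Cfsg.Agent.S4796
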