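import Cfsg.Statements.S4797
import Cfsg.Agent.Lib.Char.Codeg
import Cfsg.Agent.Lib.Solv.Super

set_option autoImplicit false
open Cfsg

namespace Cfsg.Agent.S4797

open Cfsg.Agent.Char

/-- The codegree of an irreducible complex character χ of a finite group G is [G : ker χ] / χ(1), where ker χ is the set of elements at which χ takes the value χ(1). A non-trivial finite group is perfect if and only if no irreducible complex character of it has prime codegree. -/
theorem result {G : Type*} [Group G] [Finite G] [Nontrivial G] : commutator G = ⊤ ↔ ∀ χ : Cfsg.IrrCharacter G, ¬ ((Nat.card G / (Nat.card {g : G // (χ : G → ℂ) g = (χ : G → ℂ) 1} * Cfsg.charDegree (χ : G → ℂ)))).Prime := by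
  refine ⟨fun h χ hp => ?_, fun h => by_contra fun h1 => ?_⟩
  · have := χ.2.isCharacter.normal_charKer
    obtain ⟨ψ, h1, h2⟩ := χ.2.exists_quotient _ le_rfl
    have h3 : charDegree ψ = charDegree χ.1 := by
      rw [← Nat.cast_inj (R := ℂ), h1.isCharacter.cast_charDegree, χ.2.isCharacter.cast_charDegree,
        ← h2, QuotientGroup.mk_one]
    obtain ⟨P, hn, h4, h5⟩ := codeg_prime h1 hp (h3 ▸ (codeg_mul χ.2).symm)
    have h6 : commutator (G ⧸ charKer χ.1) = ⊤ := by
      rw [commutator_def, ← Subgroup.map_top_of_surjective _ (QuotientGroup.mk'_surjective _),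
        ← Subgroup.map_commutator, ← commutator_def, h]
    have := Fact.mk hp
    have hc : IsCyclic P := isCyclic_of_prime_card h4
    have h7 : P = ⊤ := eq_top_iff.2 (h6 ▸ (Solv.commutator_le_centralizer_of_isCyclic hc
      Subgroup.le_normalizer_of_normal).trans h5)
    rw [h7, Solv.isCyclic_top_iff] at hc
    rw [(commutator_eq_bot_iff _).2 inferInstance] at h6
    rw [h7, ← h6, Subgroup.card_bot] at h4
    exact hp.ne_one h4.symm
  · obtain ⟨M, hM, h2⟩ := (eq_top_or_exists_le_coatom (commutator G)).resolve_left h1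
    have : M.Normal := Subgroup.Normal.of_commutator_le _ h2
    have h3 := Solv.index_prime_of_coatom_normal hM
    obtain ⟨g, -, hg⟩ := SetLike.exists_of_lt hM.1.lt_top
    obtain ⟨ψ, h4, h5⟩ := exists_irr_apply_ne (G := G ⧸ M) (mt (QuotientGroup.eq_one_iff g).1 hg)
    have h6 : M ≤ charKer fun g : G => ψ g := fun n hn y => by
      simp [(QuotientGroup.eq_one_iff n).2 hn]
    have h7 := codeg_mul h4.inflate
    have h8 : charDegree (fun g : G => ψ g) = 1 := by
      rw [← Nat.cast_inj (R := ℂ), h4.inflate.isCharacter.cast_charDegree,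
        h4.inflate.apply_one_eq_one_iff.2 (h2.trans h6), Nat.cast_one]
    rw [(hM.le_iff.1 h6).resolve_left fun h => h5 (h4.inflate.isCharacter.mem_charKer.1
      (h ▸ Subgroup.mem_top g))] at h7
    exact h ⟨_, h4.inflate⟩ ((((mul_one _).symm.trans (congrArg _ h8.symm)).trans h7) ▸ h3)

end Cfsg.Agent.S4797
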