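import Cfsg.Statements.S4798
import Cfsg.Agent.Lib.Char.Codeg

set_option autoImplicit false
open Cfsg

namespace Cfsg.Agent.S4798

open Cfsg.Agent.Char

/-- Let p be a prime and χ a faithful irreducible complex character of the finite group G (χ(g) = χ(1) only for g = 1), so that its codegree is #G / χ(1). Then #G / χ(1) is a power of p if and only if χ is induced from a character of a Sylow p-subgroup of G. -/
theorem result {G : Type*} [Group G] [Fintype G] (p : ℕ) [Fact p.Prime] (χ : Cfsg.IrrCharacter G) (hfaith : ∀ g : G, (χ : G → ℂ) g = (χ : G → ℂ) 1 → g = 1) : (∃ k : ℕ, Nat.card G = p ^ k * Cfsg.charDegree (χ : G → ℂ)) ↔ ∃ (P : Sylow p G) (θ : ↥(P : Subgroup G) → ℂ), Cfsg.IsCharacter ↥(P : Subgroup G) θ ∧ (χ : G → ℂ) = Cfsg.indFun (P : Subgroup G) θ := by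
  have hp : p.Prime := Fact.out
  refine ⟨fun ⟨k, hk⟩ => ?_, fun ⟨P, θ, h1, h2⟩ => ?_⟩
  · obtain ⟨P⟩ : Nonempty (Sylow p G) := inferInstance
    have := Fintype.ofFinite P
    obtain ⟨a, ha⟩ := P.isPGroup'.exists_card_eq
    have h1 := (P : Subgroup G).card_mul_index
    rw [ha, hk] at h1
    have h2 : k ≤ a := (Nat.pow_dvd_pow_iff_le_right hp.one_lt).1 ((Nat.Coprime.pow_left k
      (hp.coprime_iff_not_dvd.2 P.not_dvd_index)).dvd_of_dvd_mul_right ⟨_, h1⟩)
    obtain ⟨b, rfl⟩ := Nat.exists_eq_add_of_le h2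
    rw [pow_add, mul_assoc, Nat.mul_left_cancel_iff (pow_pos hp.pos k)] at h1
    obtain ⟨c, h3, h4⟩ := (χ.2.isCharacter.res P).exists_coeff
    have h5 : ∃ θ : IrrCharacter P, c θ ≠ 0 ∧ charDegree θ.1 ≤ p ^ b := by
      by_contra! h5
      have h6 : charDegree χ.1 = ∑ θ, c θ * charDegree θ.1 := by
        have := congrFun h4 1
        simp only [Finset.sum_apply, Pi.smul_apply, smul_eq_mul, OneMemClass.coe_one,
          ← IsCharacter.cast_charDegree (IsIrrCharacter.isCharacter (Subtype.prop _))] at this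
        exact_mod_cast this
      have h7 : p ^ (b + 1) ∣ p ^ b * (P : Subgroup G).index := h1 ▸ h6 ▸ Finset.dvd_sum fun θ _ => by
        by_cases h0 : c θ = 0
        · simp [h0]
        obtain ⟨j, -, hj⟩ := (Nat.dvd_prime_pow hp).1
          (ha ▸ θ.2.degree_dvd_card θ.2.isCharacter.cast_charDegree.symm)
        have := h5 θ h0
        rw [hj, Nat.pow_lt_pow_iff_right hp.one_lt] at this
        exact (hj ▸ pow_dvd_pow p this).mul_left _
      rw [pow_succ, Nat.mul_dvd_mul_iff_left (pow_pos hp.pos b)] at h7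
      exact P.not_dvd_index h7
    obtain ⟨θ, h6, h7⟩ := h5
    have h8 := χ.2.degree_le_index_mul θ.2.isCharacter (h3 θ) χ.2.isCharacter.cast_charDegree.symm
      θ.2.isCharacter.cast_charDegree.symm
    refine ⟨P, θ, θ.2.isCharacter, ((θ.2.isCharacter.ind).eq_of_constituent_of_apply_one χ.2
      ?_ ?_).symm⟩
    · rw [frobenius_left _ _ χ.2.isClassFunction, Ne, classInner_eq_zero_comm, h3]
      exact_mod_cast h6
    · rw [indFun_one, ← χ.2.isCharacter.cast_charDegree, ← θ.2.isCharacter.cast_charDegree]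
      have h9 := Nat.mul_le_mul_left (P : Subgroup G).index h7
      have h10 := Nat.le_mul_of_pos_left (charDegree χ.1) (Nat.pos_of_ne_zero h6)
      rw [mul_comm (p ^ b)] at h1
      exact_mod_cast (by omega : (P : Subgroup G).index * charDegree θ.1 = charDegree χ.1)
  · have h3 := h1.isIrr_of_ind (h2 ▸ χ.2)
    obtain ⟨a, ha⟩ := P.isPGroup'.exists_card_eq
    obtain ⟨c, hc⟩ := h3.degree_dvd_card h1.cast_charDegree.symm
    obtain ⟨j, -, hj⟩ := (Nat.dvd_prime_pow hp).1 (ha ▸ Dvd.intro_left _ hc.symm)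
    have h4 := congrFun h2 1
    rw [indFun_one, ← χ.2.isCharacter.cast_charDegree, ← h1.cast_charDegree] at h4
    refine ⟨j, ?_⟩
    rw [← (P : Subgroup G).card_mul_index, hc, hj, show charDegree χ.1 = _ by exact_mod_cast h4]
    ring

end Cfsg.Agent.S4798
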