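import Cfsg.Statements.S4801
import Cfsg.Agent.Lib.Char.Codeg

set_option autoImplicit false
open Cfsg

namespace Cfsg.Agent.S4801

open Cfsg.Agent.Char

/-- The codegree of an irreducible complex character χ of a finite group G is [G : ker χ] / χ(1), where ker χ is the set of elements at which χ takes the value χ(1). Let S be a finite simple group and G a finite group such that every codegree of an irreducible character of S is a codegree of an irreducible character of G. Then the order of S divides the order of G. -/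
theorem result {S : Type*} [Group S] [Finite S] (hS : IsSimpleGroup S) {G : Type*} [Group G] [Finite G] (hsub : ∀ χ : Cfsg.IrrCharacter S, ∃ ψ : Cfsg.IrrCharacter G, (Nat.card S / (Nat.card {g : S // (χ : S → ℂ) g = (χ : S → ℂ) 1} * Cfsg.charDegree (χ : S → ℂ))) = (Nat.card G / (Nat.card {g : G // (ψ : G → ℂ) g = (ψ : G → ℂ) 1} * Cfsg.charDegree (ψ : G → ℂ)))) : Nat.card S ∣ Nat.card G := by
  classical
  refine (Nat.dvd_iff_prime_pow_dvd_dvd _ _).2 fun p k hp h1 => ?_
  rcases k.eq_zero_or_pos with rfl | hk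
  · simp
  have h2 : ∃ χ : IrrCharacter S, χ ≠ irrOne S ∧ ¬ p ∣ charDegree χ.1 := by
    by_contra! h2
    have h3 := sum_charDegree_sq (G := S)
    rw [← Finset.add_sum_erase _ _ (Finset.mem_univ (irrOne S))] at h3
    have := (Nat.dvd_add_left (Finset.dvd_sum fun χ hχ => (h2 χ (Finset.ne_of_mem_erase hχ)).trans
      (dvd_pow_self _ two_ne_zero))).1 (h3 ▸ (dvd_pow_self p hk.ne').trans h1)
    exact hp.not_dvd_one (by simpa [charDegree, coe_irrOne] using this)
  obtain ⟨χ, h3, h4⟩ := h2
  obtain ⟨ψ, h5⟩ := hsub χ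
  have h6 := codeg_mul χ.2
  rw [h5, (χ.2.isCharacter.normal_charKer.eq_bot_or_eq_top).resolve_right
    (χ.2.charKer_ne_top fun h => h3 (Subtype.ext h)), Subgroup.index_bot] at h6
  exact (((Nat.Coprime.pow_left k (hp.coprime_iff_not_dvd.2 h4)).dvd_of_dvd_mul_right (h6 ▸ h1)).trans
    (Dvd.intro _ (codeg_mul ψ.2))).trans (Subgroup.index_dvd_card _)

end Cfsg.Agent.S4801
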