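import Cfsg.Statements.S4802
import Cfsg.Agent.Lib.Char.Zeros

set_option autoImplicit false
open Cfsg

namespace Cfsg.Agent.S4802

open Cfsg.Agent.Char
open scoped ComplexConjugate

/-- Let N < M be normal subgroups of the finite group G and g ∈ M ∖ N. Then the conjugacy class of g is exactly M ∖ N if and only if every irreducible complex character of G whose kernel contains N takes the same value at all elements of M ∖ N, and every irreducible complex character of G whose kernel does not contain N vanishes at g. -/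
theorem result {G : Type*} [Group G] [Finite G] (N M : Subgroup G) [N.Normal] [M.Normal] (hNM : N < M) (g : G) (hgM : g ∈ M) (hgN : g ∉ N) : {h : G | IsConj g h} = (M : Set G) \ (N : Set G) ↔ ((∀ χ : Cfsg.IrrCharacter G, (∀ x ∈ N, (χ : G → ℂ) x = (χ : G → ℂ) 1) → ∀ x ∈ M, x ∉ N → ∀ y ∈ M, y ∉ N → (χ : G → ℂ) x = (χ : G → ℂ) y) ∧ (∀ χ : Cfsg.IrrCharacter G, (∃ x ∈ N, (χ : G → ℂ) x ≠ (χ : G → ℂ) 1) → (χ : G → ℂ) g = 0)) := by
  classical
  have := Fintype.ofFinite N
  refine ⟨fun h => ?_, fun ⟨h1, h2⟩ => Set.ext fun y => ⟨fun hy => ?_, fun hy => ?_⟩⟩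
  · have h1 : ∀ χ : IrrCharacter G, ∀ x ∈ M, x ∉ N → χ.1 x = χ.1 g := fun χ x hx hx' =>
      ((isConj_iff_forall_irr g x).1 (h.ge ⟨hx, hx'⟩) χ).symm
    refine ⟨fun χ _ x hx hx' y hy hy' => (h1 χ x hx hx').trans (h1 χ y hy hy').symm,
      fun χ ⟨x, hx, h2⟩ => ?_⟩
    have := χ.2.sum_mul_eq_zero (N := N) (fun h => h2 (χ.2.isCharacter.mem_charKer.1 (h hx))) g
    rw [Finset.sum_congr rfl fun (n : N) _ => h1 χ _ (M.mul_mem (hNM.le n.2) hgM)
      (mt (N.mul_mem_cancel_left n.2).1 hgN)] at this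
    simpa using this
  · obtain ⟨c, rfl⟩ := isConj_iff.1 hy
    exact ⟨Subgroup.Normal.conj_mem inferInstance _ hgM c, fun h => hgN (by
      simpa [mul_assoc] using Subgroup.Normal.conj_mem inferInstance _ h c⁻¹)⟩
  · have h3 := column_orthogonality g y
    rw [Finset.sum_congr rfl (g := fun χ : IrrCharacter G => χ.1 g * conj (χ.1 g)) fun χ _ => ?_,
      column_orthogonality, if_pos (IsConj.refl g)] at h3
    · by_contra h4
      exact card_ne_zero' _ (h3.trans (if_neg h4))
    · by_cases h4 : ∀ x ∈ N, χ.1 x = χ.1 1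
      · rw [h1 χ h4 y hy.1 hy.2 g hgM hgN]
      · push Not at h4
        simp [h2 χ h4]

end Cfsg.Agent.S4802
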