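import Cfsg.Statements.S4808
import Cfsg.Agent.Lib.Char.Codeg

set_option autoImplicit false
open Cfsg

namespace Cfsg.Agent.S4808

open Cfsg.Agent.Char

/-- The codegree of an irreducible complex character χ of a finite group G is [G : ker χ] / χ(1), where ker χ is the set of elements at which χ takes the value χ(1). A prime divides the order of G if and only if it divides the codegree of some irreducible complex character of G. -/
theorem result {G : Type*} [Group G] [Finite G] (p : ℕ) (hp : p.Prime) : p ∣ Nat.card G ↔ ∃ χ : Cfsg.IrrCharacter G, p ∣ (Nat.card G / (Nat.card {g : G // (χ : G → ℂ) g = (χ : G → ℂ) 1} * Cfsg.charDegree (χ : G → ℂ))) := by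
  classical
  refine ⟨fun h => by_contra fun h1 => ?_, fun ⟨χ, h⟩ =>
    (h.trans (Dvd.intro _ (codeg_mul χ.2))).trans (Subgroup.index_dvd_card _)⟩
  push Not at h1
  have := Fact.mk hp
  obtain ⟨g, hg⟩ := exists_prime_orderOf_dvd_card' p h
  have h2 := sum_degree_mul g
  rw [regChar_of_ne fun h => hp.ne_one (by rw [← hg, h, orderOf_one]), Finset.sum_congr rfl
    (g := fun χ : IrrCharacter G => ((if g ∈ charKer χ.1 then charDegree χ.1 ^ 2 else 0 : ℕ) : ℂ))
    fun χ _ => ?_] at h2
  · rw [← Nat.cast_sum, Nat.cast_eq_zero, Finset.sum_eq_zero_iff] at h2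
    simpa [charDegree, mem_charKer] using h2 (irrOne G) (Finset.mem_univ _)
  split_ifs with h3
  · rw [χ.2.isCharacter.mem_charKer.1 h3, ← χ.2.isCharacter.cast_charDegree]; push_cast; ring
  have := χ.2.isCharacter.normal_charKer
  obtain ⟨ψ, h4, h5⟩ := χ.2.exists_quotient _ le_rfl
  have h6 : charDegree ψ = charDegree χ.1 := by
    rw [← Nat.cast_inj (R := ℂ), h4.isCharacter.cast_charDegree, χ.2.isCharacter.cast_charDegree,
      ← h5, QuotientGroup.mk_one]
  rw [← h5 g, eq_zero_of_not_dvd_codeg h4 (h6 ▸ codeg_mul χ.2) hp (h1 χ) (x := g) (by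
    rw [orderOf_eq_prime (p := p) (by rw [← QuotientGroup.mk_pow, ← hg, pow_orderOf_eq_one]; rfl)
      (mt (QuotientGroup.eq_one_iff g).1 h3)])]
  simp

end Cfsg.Agent.S4808
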