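import Cfsg.Statements.S4811
import Cfsg.Agent.Lib.Block.Cd3

set_option autoImplicit false
open Cfsg

namespace Cfsg.Agent.S4811

open Cfsg.Agent.Blk
open Cfsg.Agent.Char hiding cj cj_mul cj_inv_cj cj_cj_inv
theorem key {G : Type*} [Group G] {a b : ℕ}
    (h : ∀ q ∈ degreePrimes G, (a.Prime ∧ ∃ d ∈ charDegrees G, a ∣ d ∧ q ∣ d) ∨
      (b.Prime ∧ ∃ d ∈ charDegrees G, b ∣ d ∧ q ∣ d)) :
    Nat.card ((degreeGraph G).induce (degreePrimes G)).ConnectedComponent ≤ 2 := by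
  classical
  have k : ∀ (a : ℕ) (q : degreePrimes G), (a.Prime ∧ ∃ d ∈ charDegrees G, a ∣ d ∧ q.1 ∣ d) →
      ∃ h : a ∈ degreePrimes G, ((degreeGraph G).induce (degreePrimes G)).connectedComponentMk q =
        ((degreeGraph G).induce (degreePrimes G)).connectedComponentMk ⟨a, h⟩ := by
    rintro a q ⟨ha, d, hd, h1, h2⟩
    refine ⟨⟨ha, d, hd, h1⟩, ?_⟩
    by_cases h3 : q.1 = a
    · congr 1; exact Subtype.ext h3
    · refine SimpleGraph.ConnectedComponent.connectedComponentMk_eq_of_adj ?_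
      exact ⟨h3, q.2.1, ha, d, hd,
        ((Nat.coprime_primes q.2.1 ha).2 h3).mul_dvd_of_dvd_of_dvd h2 h1⟩
  refine le_trans (Nat.card_le_card_of_injective (β := Bool) (fun c => decide (∃ h : a ∈ degreePrimes G, c =
    ((degreeGraph G).induce (degreePrimes G)).connectedComponentMk ⟨a, h⟩)) ?_) (by simp)
  intro c c' h1
  induction c using SimpleGraph.ConnectedComponent.ind with | _ q
  induction c' using SimpleGraph.ConnectedComponent.ind with | _ q'
  simp only [decide_eq_decide] at h1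
  rcases h q.1 q.2 with h2 | h2
  · obtain ⟨h3, h4⟩ := k a q h2
    obtain ⟨h5, h6⟩ := h1.1 ⟨h3, h4⟩
    rw [h4, h6]
  · rcases h q'.1 q'.2 with h3 | h3
    · obtain ⟨h3, h4⟩ := k a q' h3
      obtain ⟨h5, h6⟩ := h1.2 ⟨h3, h4⟩
      rw [h4, h6]
    · obtain ⟨h5, h6⟩ := k b q h2
      obtain ⟨h7, h8⟩ := k b q' h3
      rw [h6, h8]

/-- For every finite solvable group G the character degree graph of G (vertices: the primes dividing some irreducible complex character degree; edges: distinct primes whose product divides some degree) has at most two connected components. -/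
theorem result {G : Type*} [Group G] [Finite G] [Group.IsSolvable G] : Nat.card ((Cfsg.degreeGraph G).induce (Cfsg.degreePrimes G)).ConnectedComponent ≤ 2 := by
  by_cases h0 : commutator G ≤ ⊥
  · refine key (a := 0) (b := 0) ?_
    rintro q ⟨hq, _, ⟨χ, rfl⟩, h⟩
    rw [deg_eq_one_iff.2 (h0.trans bot_le)] at h
    exact absurd (Nat.dvd_one.1 h) hq.ne_one
  obtain ⟨K, -, hK⟩ := exists_maxNA h0
  haveI := hK.normal
  rcases hK.cases inferInstance with ⟨Z, p, f, τ, h⟩ | ⟨N, p, h⟩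
  · refine key (a := p) (b := p) ?_
    rintro q ⟨hq, _, ⟨χ, rfl⟩, h1⟩
    refine Or.inl ⟨h.prime, ?_⟩
    by_cases h2 : p ∣ charDegree χ.1
    · exact ⟨_, ⟨χ, rfl⟩, h2, h1⟩
    · obtain ⟨ψ, h3⟩ := h.mul_of_not_dvd h2
      exact ⟨_, ⟨ψ, rfl⟩, h3 ▸ h.dvd.mul_right _, h3 ▸ h1.mul_left _⟩
  · haveI := h.normal
    obtain ⟨r, hr, h1⟩ := Nat.exists_prime_and_dvd h.one_lt.ne'
    refine key (a := r) (b := p) ?_
    rintro q ⟨hq, _, ⟨χ, rfl⟩, h2⟩
    obtain ⟨θ, h3⟩ := exists_em_under χ N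
    obtain ⟨k, h4, h5⟩ := exists_deg_eq_mul h3
    rw [h5] at h2
    rcases (Nat.Prime.dvd_mul hq).1 h2 with h6 | h6
    · obtain ⟨ψ, h7⟩ := h.exists_deg
      exact Or.inl ⟨hr, _, ⟨ψ, rfl⟩, h7 ▸ h1, h7 ▸ h6.trans h4⟩
    · rcases h.ind_or_dvd' θ with ⟨ψ, h7⟩ | h7
      · exact Or.inl ⟨hr, _, ⟨ψ, rfl⟩, h7 ▸ h1.mul_right _, h7 ▸ h6.mul_left _⟩
      · exact Or.inr ⟨h.prime, _, ⟨χ, rfl⟩, h5 ▸ h7.mul_left _, h5 ▸ h6.mul_left _⟩

end Cfsg.Agent.S4811
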