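import Cfsg.Statements.S4856
import Cfsg.Agent.Lib.Block.Gal

set_option autoImplicit false
open Cfsg

namespace Cfsg.Agent.S4856

open Cfsg.Agent.Blk
open Cfsg.Agent.Char hiding cj cj_mul cj_inv_cj cj_cj_inv
open scoped ComplexConjugate

/-- For an element z of a finite group G, the number of pairs (x, y) of elements with x y x⁻¹ y⁻¹ = z equals the order of G times the sum over the irreducible characters χ of χ(z)/χ(1). -/
theorem result {G : Type*} [Group G] [Finite G] (z : G) : (Nat.card {xy : G × G // xy.1 * xy.2 * xy.1⁻¹ * xy.2⁻¹ = z} : ℂ) = (Nat.card G : ℂ) * ∑ᶠ χ : Cfsg.IrrCharacter G, (χ : G → ℂ) z / (χ : G → ℂ) 1 := by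
  classical
  have := Fintype.ofFinite G
  have hc : IsClassFunction G fun z =>
      (Nat.card {xy : G × G // xy.1 * xy.2 * xy.1⁻¹ * xy.2⁻¹ = z} : ℂ) := by
    intro a b
    refine congrArg Nat.cast (Nat.card_congr ⟨fun xy => ⟨(b⁻¹ * xy.1.1 * b, b⁻¹ * xy.1.2 * b), ?_⟩,
      fun xy => ⟨(b * xy.1.1 * b⁻¹, b * xy.1.2 * b⁻¹), ?_⟩, fun xy => ?_, fun xy => ?_⟩)
    · have := xy.2
      calc _ = b⁻¹ * (xy.1.1 * xy.1.2 * xy.1.1⁻¹ * xy.1.2⁻¹) * b := by group
        _ = a := by rw [this]; group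
    · have := xy.2
      calc _ = b * (xy.1.1 * xy.1.2 * xy.1.1⁻¹ * xy.1.2⁻¹) * b⁻¹ := by group
        _ = _ := by rw [this]
    · ext <;> simp [mul_assoc]
    · ext <;> simp [mul_assoc]
  rw [hc.apply_eq_sum z, finsum_eq_sum_of_fintype, Finset.mul_sum]
  refine Finset.sum_congr rfl fun χ _ => ?_
  have h1 : ∑ z, (Nat.card {xy : G × G // xy.1 * xy.2 * xy.1⁻¹ * xy.2⁻¹ = z} : ℂ) * conj (χ.1 z) =
      ∑ xy : G × G, conj (χ.1 (xy.1 * xy.2 * xy.1⁻¹ * xy.2⁻¹)) := by
    rw [← Finset.sum_fiberwise (s := Finset.univ) (g := fun xy : G × G => xy.1 * xy.2 * xy.1⁻¹ * xy.2⁻¹)]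
    refine Finset.sum_congr rfl fun z _ => ?_
    rw [Finset.sum_congr rfl (g := fun _ => conj (χ.1 z)) (fun xy h => by rw [(Finset.mem_filter.1 h).2]),
      Finset.sum_const, nsmul_eq_mul, Nat.card_eq_fintype_card, Fintype.card_subtype]
  have h2 : ∑ xy : G × G, χ.1 (xy.1 * xy.2 * xy.1⁻¹ * xy.2⁻¹) = Nat.card G * Nat.card G / χ.1 1 := by
    rw [Fintype.sum_prod_type_right]
    simp only [χ.2.sum_conj_mul, χ.2.isCharacter.apply_inv]
    have h3 := χ.2.classInner_self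
    unfold classInner at h3
    rw [← Finset.sum_div]
    simp only [mul_assoc]
    rw [← Finset.mul_sum]
    congr 2
    rw [inv_mul_eq_iff_eq_mul₀ (card_ne_zero' G), mul_one] at h3
    exact h3
  unfold classInner
  rw [h1, ← map_sum, h2, map_div₀, map_mul, map_natCast, χ.2.isCharacter.conj_apply_one]
  have := card_ne_zero' G
  field_simp

end Cfsg.Agent.S4856
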