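import Cfsg.Statements.S4814
import Cfsg.Agent.S4856
import Cfsg.Agent.Lib.Block.Gal

set_option autoImplicit false
open Cfsg

namespace Cfsg.Agent.S4814

open Cfsg.Agent.Blk
open Cfsg.Agent.Char hiding cj cj_mul cj_inv_cj cj_cj_inv
open scoped ComplexConjugate

/-- Let G be a finite group such that the sum, over the irreducible complex characters χ of G, of 1/χ(1)² is less than 2. Then every element of G is a product of two commutators. -/
theorem result {G : Type*} [Group G] [Finite G]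
    (h : ∑ᶠ χ : Cfsg.IrrCharacter G, 1 / ‖(χ : G → ℂ) 1‖ ^ 2 < (2 : ℝ)) (g : G) :
    ∃ a b c d : G, (a * b * a⁻¹ * b⁻¹) * (c * d * c⁻¹ * d⁻¹) = g := by
  classical
  have := Fintype.ofFinite G
  by_contra hn
  push Not at hn
  let F : G → ℂ := fun z => (Nat.card {xy : G × G // xy.1 * xy.2 * xy.1⁻¹ * xy.2⁻¹ = z} : ℂ)
  have hF : ∀ z, F z = Nat.card G * ∑ χ : IrrCharacter G, χ.1 z / χ.1 1 := fun z => by
    rw [← finsum_eq_sum_of_fintype]; exact S4856.result z
  have h0 : ∑ z, F z * F (z⁻¹ * g) = 0 := by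
    refine Finset.sum_eq_zero fun z _ => ?_
    by_contra hne
    obtain ⟨h1, h2⟩ := mul_ne_zero_iff.1 hne
    obtain ⟨⟨x, hx⟩⟩ := (Nat.card_ne_zero.1 (Nat.cast_ne_zero.1 h1)).1
    obtain ⟨⟨y, hy⟩⟩ := (Nat.card_ne_zero.1 (Nat.cast_ne_zero.1 h2)).1
    exact hn x.1 x.2 y.1 y.2 (by rw [hx, hy]; group)
  have h1 : ∀ χ ψ : IrrCharacter G, ∑ z, χ.1 z * ψ.1 (z⁻¹ * g) =
      if ψ = χ then Nat.card G * ψ.1 g / ψ.1 1 else 0 := fun χ ψ => by
    have := ψ.2.sum_conj_mul_apply_mul χ.2 g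
    rw [← Equiv.sum_comp (Equiv.inv G)] at this
    simp only [Equiv.inv_apply, χ.2.isCharacter.apply_inv, Complex.conj_conj] at this
    rw [this]
    simp only [Subtype.ext_iff]
  have h2 : ∑ z, F z * F (z⁻¹ * g) =
      (Nat.card G : ℂ) ^ 3 * ∑ χ : IrrCharacter G, χ.1 g / χ.1 1 ^ 3 := by
    simp only [hF]
    calc _ = ∑ z, ∑ χ : IrrCharacter G, ∑ ψ : IrrCharacter G, (Nat.card G : ℂ) ^ 2 / (χ.1 1 * ψ.1 1) *
          (χ.1 z * ψ.1 (z⁻¹ * g)) := by
          refine Finset.sum_congr rfl fun z _ => ?_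
          rw [mul_mul_mul_comm, Finset.sum_mul_sum, Finset.mul_sum]
          refine Finset.sum_congr rfl fun χ _ => ?_
          rw [Finset.mul_sum]
          refine Finset.sum_congr rfl fun ψ _ => ?_
          ring
      _ = ∑ χ : IrrCharacter G, ∑ ψ : IrrCharacter G, (Nat.card G : ℂ) ^ 2 / (χ.1 1 * ψ.1 1) *
          ∑ z, (χ.1 z * ψ.1 (z⁻¹ * g)) := by
          rw [Finset.sum_comm]
          refine Finset.sum_congr rfl fun χ _ => ?_
          rw [Finset.sum_comm]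
          simp only [Finset.mul_sum]
      _ = _ := by
          rw [Finset.mul_sum]
          refine Finset.sum_congr rfl fun χ _ => ?_
          simp only [h1, mul_ite, mul_zero, Finset.sum_ite_eq', Finset.mem_univ, if_true]
          ring
  rw [h2, mul_eq_zero, or_iff_right (pow_ne_zero _ (card_ne_zero' G)),
    ← Finset.add_sum_erase _ _ (Finset.mem_univ (irrOne G))] at h0
  rw [finsum_eq_sum_of_fintype, ← Finset.add_sum_erase _ _ (Finset.mem_univ (irrOne G))] at h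
  simp only [irrOne_apply, one_pow, div_one, norm_one] at h h0
  have h3 : ‖∑ χ ∈ Finset.univ.erase (irrOne G), χ.1 g / χ.1 1 ^ 3‖ = 1 := by
    rw [eq_neg_of_add_eq_zero_right h0]; simp
  have h4 : ‖∑ χ ∈ Finset.univ.erase (irrOne G), χ.1 g / χ.1 1 ^ 3‖ ≤
      ∑ χ ∈ Finset.univ.erase (irrOne G), 1 / ‖χ.1 1‖ ^ 2 := by
    refine (norm_sum_le _ _).trans (Finset.sum_le_sum fun χ _ => ?_)
    have h5 := norm_pos_iff.2 χ.2.apply_one_ne_zero
    rw [norm_div, norm_pow, div_le_div_iff₀ (by positivity) (by positivity)]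
    have := χ.2.isCharacter.norm_le g
    calc ‖χ.1 g‖ * ‖χ.1 1‖ ^ 2 ≤ ‖χ.1 1‖ * ‖χ.1 1‖ ^ 2 := by gcongr
      _ = _ := by ring
  linarith

end Cfsg.Agent.S4814
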