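import Cfsg.Statements.S4825
import Cfsg.Agent.Lib.Block.Max

set_option autoImplicit false
open Cfsg

namespace Cfsg.Agent.S4825

open Cfsg.Agent.Blk
open Cfsg.Agent.Char hiding cj cj_mul cj_inv_cj cj_cj_inv

/-- Let p be a prime, G a finite group with Sylow p-subgroup P, M a maximal ideal of the algebraic integers containing p, and B a p-block of G with defect group P. Let N be a normal subgroup of G not containing P and θ an irreducible character of N. Then the number of irreducible characters in B of degree prime to p lying over θ (having θ as a constituent on restriction to N) is either 0 or at least 2, and when p ≤ 3 it is divisible by p. -/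
theorem result {G : Type*} [Group G] [Fintype G] (p : ℕ) [Fact p.Prime] (P : Sylow p G) (M : Ideal Cfsg.AlgInt) (hM : Cfsg.IsPModular p M) (B : Set (Cfsg.IrrCharacter G)) (hB : Cfsg.IsPBlock M B) (hBP : Cfsg.IsDefectGroup p M B P) (N : Subgroup G) [N.Normal] [Fintype N] (hPN : ¬ (P : Subgroup G) ≤ N) (θ : Cfsg.IrrCharacter N) :
    (Nat.card {χ : Cfsg.IrrCharacter G // χ ∈ B ∧ ¬ p ∣ Cfsg.charDegree (χ : G → ℂ) ∧ Cfsg.classInner (fun n : N => (χ : G → ℂ) n) (θ : N → ℂ) ≠ 0} = 0 ∨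
      2 ≤ Nat.card {χ : Cfsg.IrrCharacter G // χ ∈ B ∧ ¬ p ∣ Cfsg.charDegree (χ : G → ℂ) ∧ Cfsg.classInner (fun n : N => (χ : G → ℂ) n) (θ : N → ℂ) ≠ 0}) ∧
    (p ≤ 3 → p ∣ Nat.card {χ : Cfsg.IrrCharacter G // χ ∈ B ∧ ¬ p ∣ Cfsg.charDegree (χ : G → ℂ) ∧ Cfsg.classInner (fun n : N => (χ : G → ℂ) n) (θ : N → ℂ) ≠ 0}) := by
  haveI : PMod M p := ⟨hM⟩
  classical
  have hp : p.Prime := Fact.out
  have h1 : p ∣ N.index := by
    by_contra hc
    exact hPN (le_of_not_dvd_relIndex le_top (top_le_No N) (by rwa [Subgroup.relIndex_top_right])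
      P.isPGroup' le_top)
  have h2 := hB.isUB.dvd_sum_em (θ := θ) (h1.mul_right _)
  set s := Finset.univ.filter fun χ : IrrCharacter G => χ ∈ B ∧ ¬ p ∣ charDegree χ.1 ∧
    classInner (fun n : N => χ.1 n) θ.1 ≠ 0 with hs
  have h3 : Nat.card {χ : IrrCharacter G // χ ∈ B ∧ ¬ p ∣ charDegree χ.1 ∧
    classInner (fun n : N => χ.1 n) θ.1 ≠ 0} = s.card := by
    rw [Nat.card_eq_fintype_card, Fintype.card_subtype]
  have h4 : p ∣ ∑ χ ∈ s, charDegree χ.1 ^ 2 := by
    have h5 := h2.mul_right ((inertia N θ.1).index * charDegree θ.1)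
    rw [Finset.sum_mul, ← Finset.sum_filter_add_sum_filter_not _
      (fun χ => ¬ p ∣ charDegree χ.1 ∧ em N χ θ ≠ 0), Nat.dvd_add_left] at h5
    · convert h5 using 1
      refine Finset.sum_congr (by ext; simp [hs, em_ne_zero_iff]) fun χ hχ => ?_
      rw [sq]
      nth_rewrite 2 [deg_eq_em_mul (Finset.mem_filter.1 hχ).2.2]
      ring
    · refine Finset.dvd_sum fun χ hχ => ?_
      have h6 := (Finset.mem_filter.1 hχ).2
      by_cases h7 : p ∣ charDegree χ.1
      · exact (h7.mul_left _).mul_right _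
      · rw [show em N χ θ = 0 by by_contra hc; exact h6 ⟨h7, hc⟩]; simp
  rw [h3]
  refine ⟨?_, fun h5 => ?_⟩
  · by_contra hc
    have h6 : s.card = 1 := by omega
    obtain ⟨χ, h7⟩ := Finset.card_eq_one.1 h6
    rw [h7, Finset.sum_singleton] at h4
    have h8 : χ ∈ s := h7 ▸ Finset.mem_singleton_self χ
    exact (Finset.mem_filter.1 h8).2.2.1 (hp.dvd_of_dvd_pow h4)
  · have h6 : ∑ χ ∈ s, charDegree χ.1 ^ 2 ≡ ∑ χ ∈ s, 1 [MOD p] := by
      refine Nat.ModEq.sum fun χ hχ => ?_
      have h7 := (Finset.mem_filter.1 hχ).2.2.1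
      have h8 := hp.two_le
      generalize charDegree χ.1 = d at h7
      unfold Nat.ModEq
      rw [Nat.pow_mod]
      interval_cases p
      · rw [show d % 2 = 1 by omega]
      · rcases (show d % 3 = 1 ∨ d % 3 = 2 by omega) with h | h <;> rw [h]
    rw [← Finset.card_eq_sum_ones] at h6
    exact (h6.dvd_iff dvd_rfl).1 h4

end Cfsg.Agent.S4825
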