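import Cfsg.Statements.S4828
import Cfsg.Agent.Lib.Block.Cent

set_option autoImplicit false
open Cfsg

namespace Cfsg.Agent.S4828

open Cfsg.Agent.Blk
open Cfsg.Agent.Char hiding cj cj_mul cj_inv_cj cj_cj_inv

/-- Let p be a prime, M a maximal ideal of the algebraic integers containing p, and (Q, e) a Brauer pair of the finite group G (Q a p-subgroup, e a block of C_G(Q)). Then (Q, e) is a maximal Brauer pair of some block of G if and only if e contains an irreducible character θ such that θ takes the value θ(1) at every element of Z(Q) = Q ∩ C_G(Q), the p-part of θ(1) times the p-part of the order of Z(Q) equals the p-part of the order of C_G(Q) (θ has defect zero as a character of C_G(Q)/Z(Q)), and every element of N_G(Q) of p-power order that stabilizes e lies in Q·C_G(Q) (the stabilizer of e in N_G(Q) has index prime to p over Q·C_G(Q)). -/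
theorem result {G : Type*} [Group G] [Finite G] (p : ℕ) [Fact p.Prime] (M : Ideal Cfsg.AlgInt) (hM : Cfsg.IsPModular p M) (Q : Subgroup G) (e : Set (Cfsg.IrrCharacter (Subgroup.centralizer (Q : Set G)))) (he : Cfsg.IsBrauerPair p M Q e) :
    (∃ B : Set (Cfsg.IrrCharacter G), Cfsg.IsMaximalBrauerPair p M B Q e) ↔
      ∃ θ ∈ e, (∀ z : Subgroup.centralizer (Q : Set G), (z : G) ∈ Q → (θ : Subgroup.centralizer (Q : Set G) → ℂ) z = (θ : Subgroup.centralizer (Q : Set G) → ℂ) 1) ∧
        (Cfsg.charDegree (θ : Subgroup.centralizer (Q : Set G) → ℂ)).factorization p + (Nat.card ↥(Q ⊓ Subgroup.centralizer (Q : Set G))).factorization p = (Nat.card (Subgroup.centralizer (Q : Set G))).factorization p ∧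
        (∀ g : G, g ∈ Subgroup.normalizer (Q : Set G) → Cfsg.StabilizesBlock (Subgroup.centralizer (Q : Set G)) e g → (∃ k : ℕ, orderOf g = p ^ k) → g ∈ Q ⊔ Subgroup.centralizer (Q : Set G)) := by
  haveI : PMod M p := ⟨hM⟩
  have hb := he.isBP
  have he' : IsPBlock M e := he.2
  have hle : Q ⊓ Ce Q ≤ Ce Q := inf_le_right
  have hsup := subgroupOf_sup_Ce hle (le_sup_of_le_right fun c hc => mem_Ce.2 fun q hq => mem_Ce.1 hc q hq.1)
  have hN := normal_of_sup_Ce hsup
  have hpg : IsPGroup p ((Q ⊓ Ce Q).subgroupOf (Ce Q)) :=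
    (isPGroup_le hb.pg inf_le_left).of_equiv (Subgroup.subgroupOfEquivOfLe hle).symm
  have hcard := factorization_index_add p ((Q ⊓ Ce Q).subgroupOf (Ce Q))
  rw [Nat.card_congr (Subgroup.subgroupOfEquivOfLe hle).toEquiv] at hcard
  have hker : ∀ θ : IrrCharacter (Ce Q), (∀ z : Ce Q, (z : G) ∈ Q → θ.1 z = θ.1 1) ↔
      (Q ⊓ Ce Q).subgroupOf (Ce Q) ≤ charKer θ.1 := fun θ =>
    forall_congr' fun z => by
      rw [θ.2.isCharacter.mem_charKer, Subgroup.mem_subgroupOf, Subgroup.mem_inf,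
        and_iff_left z.2]
  constructor
  · rintro ⟨B, hB⟩
    have hm := hB.isMP
    have h1 := hm.isDef_Ce
    rw [top_inf_eq, ← he'.isDefectGroup_subgroupOf_iff hle, he'.isDefectGroup_iff] at h1
    obtain ⟨θ, hθ, h2, h3, -⟩ := he'.exists_canon h1 fun g => mem_Ce_of_preg hpg hsup
    refine ⟨θ, hθ, (hker θ).2 h2, by rw [← hcard, ← h3], fun g hg hs hp => ?_⟩
    have h4 := hm.le_sup (isPGroup_zpowers hp) (Subgroup.zpowers_le.2 (he'.mem_stab_iff.2 ⟨hg, hs⟩))
    rw [top_inf_eq] at h4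
    exact h4 (Subgroup.mem_zpowers g)
  · rintro ⟨θ, hθ, h1, h2, h3⟩
    have h4 := isDef_of_canon (M := M) hpg (fun g => mem_Ce_of_preg hpg hsup) ((hker θ).1 h1)
      (by change _ ≤ (charDegree θ.1).factorization p; simp only [Ce] at hcard ⊢; omega)
    rw [he'.blk_eq hθ, ← he'.isDefectGroup_iff, he'.isDefectGroup_subgroupOf_iff hle] at h4
    obtain ⟨B', ⟨hB', h5⟩, -⟩ := existsUnique_block_Br hb.pg le_top le_rfl inf_le_left
      (inf_le_right.trans (Ce_le_No Q)) hb.blk
    obtain ⟨B, hB, rfl⟩ := exists_isPBlock_bar_eq hB'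
    refine ⟨B, isMaximalBrauerPair_iff.2 ⟨hB, he', isMP_of_max hb hB' h5 fun R g hR => ?_⟩⟩
    refine le_antisymm (fun x hx => ?_) hR.le
    have h6 := he'.mem_stab_iff.1 (mem_stab.2 ⟨mi trivial (hR.no hx), mem_inv.1 hR.inv x hx⟩)
    obtain ⟨u, hu, v, hv, rfl⟩ := exists_mul_of_mem_sup ((le_No Q).trans (No_le_No_Ce Q))
      (h3 x h6.1 h6.2 (pelt_of_mem hR.pg hx))
    have h7 : v ∈ R := by simpa using mul_mem (inv_mem (hR.le hu)) hx
    obtain ⟨c, hc, h8⟩ := h4.sub (R ⊓ Ce Q) inf_le_right (isPGroup_le hR.pg inf_le_left)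
      (Br_ne_zero_of_le inf_le_left hR.Br_ne)
    have h9 := (h8 (conj_mem_cs.2 (mi h7 hv))).1
    refine mul_mem hu ?_
    have h10 := mem_Ce.1 hc _ h9
    rw [inv_mul_cancel_right, mul_assoc, mul_right_inj] at h10
    rw [h10, ← mul_assoc]; exact h9

end Cfsg.Agent.S4828
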