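import Cfsg.Statements.S4837
import Cfsg.Agent.Lib.Char.Zeros

set_option autoImplicit false
open Cfsg

namespace Cfsg.Agent.S4837

open Cfsg.Agent.Char

/-- Let G be a finite group of order greater than 2 with an irreducible character χ nonzero on exactly two conjugacy classes, and let N be the set of elements where χ is nonzero, given as a nontrivial normal p-subgroup of G for the prime p. Then for every nonidentity x in N the centralizer C_G(x) is a Sylow p-subgroup of G, and for every irreducible character λ ≠ 1 of N the stabilizer of λ in G (its inertia group) is a Sylow p-subgroup of G. -/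
theorem result {G : Type*} [Group G] [Finite G] (hG : 2 < Nat.card G) (χ : Cfsg.IrrCharacter G) (hχ : Nat.card {C : ConjClasses G // ∃ g ∈ C.carrier, (χ : G → ℂ) g ≠ 0} = 2) (p : ℕ) [Fact p.Prime] (N : Subgroup G) [N.Normal] (hN : ∀ g : G, g ∈ N ↔ (χ : G → ℂ) g ≠ 0) (hNp : IsPGroup p N) (hN1 : N ≠ ⊥) :
    (∀ x ∈ N, x ≠ 1 → ∃ P : Sylow p G, Subgroup.centralizer ({x} : Set G) = P) ∧
      (∀ μ : Cfsg.IrrCharacter N, (μ : N → ℂ) ≠ (fun _ => (1 : ℂ)) → ∃ P : Sylow p G, ∀ g : G, g ∈ (P : Subgroup G) ↔ ∀ n n' : N, (n' : G) = g * n * g⁻¹ → (μ : N → ℂ) n' = (μ : N → ℂ) n) := by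
  obtain ⟨x, h⟩ := exists_gag hG χ.2 hχ
  have h1 : p ∣ Nat.card N := hNp.card_eq_or_dvd.resolve_left (mt Subgroup.card_eq_one.1 hN1)
  have h2 : ∀ n, n + 1 = Nat.card N → ¬ p ∣ n := fun n hn h3 =>
    (Fact.out : p.Prime).not_dvd_one ((Nat.dvd_add_right h3).1 (hn ▸ h1))
  refine ⟨fun y hy h3 => ⟨(h.isPGroup_centralizer hN hNp hy h3).toSylow
    (h2 _ (h.index_centralizer hN hy h3)), rfl⟩, fun μ hμ => ?_⟩
  have h3 := h.index_inertia hN μ.2 hμ
  obtain ⟨k, hk⟩ := (h.isPGroup_centralizer hN hNp (h.mem hN) h.ne).exists_card_eq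
  have h4 : Nat.card (inertia N μ.1) = p ^ k := Nat.eq_of_mul_eq_mul_right
    (Nat.pos_of_ne_zero Subgroup.index_ne_zero_of_finite) (by
      rw [Subgroup.card_mul_index, ← hk, Nat.add_right_cancel
        (h3.trans (h.index_centralizer hN (h.mem hN) h.ne).symm), Subgroup.card_mul_index])
  refine ⟨(IsPGroup.of_card h4).toSylow (h2 _ h3), fun g => ⟨fun hg n n' hn => ?_,
    fun hg => funext fun n => hg n _ rfl⟩⟩
  exact (congrArg μ.1 (Subtype.ext hn)).trans (congrFun hg n)

end Cfsg.Agent.S4837
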