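import Cfsg.Statements.S4838
import Cfsg.Agent.Lib.Char.Zeros
import Cfsg.Agent.Lib.Char.Comm1

set_option autoImplicit false
open Cfsg

namespace Cfsg.Agent.S4838

open Cfsg.Agent.Char

/-- Let G be a finite group of order greater than 2 with an irreducible character χ nonzero on exactly two conjugacy classes, N the normal p-subgroup of elements where χ is nonzero, and P a Sylow p-subgroup of G. Then (a) for every x outside N the centralizer of x in G has the same order as the centralizer of xN in G/N; (b) the centre of P lies in N, and equals N exactly when P is normal in G; (c) N, viewed inside P, is a term of the upper central series of P. -/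
theorem result {G : Type*} [Group G] [Finite G] (hG : 2 < Nat.card G) (χ : Cfsg.IrrCharacter G) (hχ : Nat.card {C : ConjClasses G // ∃ g ∈ C.carrier, (χ : G → ℂ) g ≠ 0} = 2) (p : ℕ) [Fact p.Prime] (N : Subgroup G) [N.Normal] (hN : ∀ g : G, g ∈ N ↔ (χ : G → ℂ) g ≠ 0) (hNp : IsPGroup p N) (hN1 : N ≠ ⊥) (P : Sylow p G) :
    (∀ x : G, x ∉ N → Nat.card (Subgroup.centralizer ({x} : Set G)) = Nat.card (Subgroup.centralizer ({(x : G ⧸ N)} : Set (G ⧸ N)))) ∧
      ((Subgroup.center ↥(P : Subgroup G)).map (P : Subgroup G).subtype ≤ N ∧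
        ((Subgroup.center ↥(P : Subgroup G)).map (P : Subgroup G).subtype = N ↔ (P : Subgroup G).Normal)) ∧
      (∃ i : ℕ, Subgroup.upperCentralSeries ↥(P : Subgroup G) i = N.subgroupOf (P : Subgroup G)) := by
  obtain ⟨x, h⟩ := exists_gag hG χ.2 hχ
  have hp : p.Prime := Fact.out
  have hNP : N ≤ P := hNp.le_sylow_of_normal P
  have h1 : ∀ i, Subgroup.upperCentralSeries P i < N.subgroupOf P →
      Subgroup.upperCentralSeries P (i + 1) ≤ N.subgroupOf P := fun i hi y hy => by
    by_contra h2
    have h3 := index_centralizer_le hy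
    have h4 := Solv.card_lt_of_lt hi
    rw [Solv.card_subgroupOf_of_le hNP] at h4
    have h5 : Nat.card (Subgroup.centralizer ({y} : Set P)) ∣ N.index := by
      refine .trans ?_ ((h.card_centralizer hN h2).dvd.trans (Subgroup.card_subgroup_dvd_card _))
      rw [← Subgroup.card_map_of_injective (P : Subgroup G).subtype_injective]
      refine Subgroup.card_dvd_of_le ?_
      rintro _ ⟨z, hz, rfl⟩
      exact Subgroup.mem_centralizer_singleton_iff.2
        (congrArg Subtype.val (Subgroup.mem_centralizer_singleton_iff.1 hz))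
    obtain ⟨k, hk⟩ := (P.isPGroup'.to_subgroup (Subgroup.centralizer {y})).exists_card_eq
    rw [← Subgroup.relIndex_mul_index hNP, hk] at h5
    have h6 := Nat.le_of_dvd (Nat.pos_of_ne_zero Subgroup.index_ne_zero_of_finite)
      ((Nat.Coprime.pow_left k (hp.coprime_iff_not_dvd.2 P.not_dvd_index)).dvd_of_dvd_mul_right h5)
    have h7 := Nat.mul_lt_mul_of_lt_of_le (h3.trans_lt h4) h6
      (Nat.pos_of_ne_zero Subgroup.index_ne_zero_of_finite)
    rw [← hk, Subgroup.index_mul_card] at h7
    exact h7.ne (Solv.card_mul_relIndex hNP).symm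
  have h0 : N.subgroupOf P ≠ ⊥ := fun h2 => hN1 (by
    rw [← Subgroup.card_eq_one, ← Solv.card_subgroupOf_of_le hNP, h2, Subgroup.card_bot])
  have h2 : (Subgroup.center P).map (P : Subgroup G).subtype ≤ N := by
    rw [Subgroup.map_le_iff_le_comap, ← Subgroup.upperCentralSeries_one]
    exact h1 0 (by simpa using h0.bot_lt)
  refine ⟨fun y hy => h.card_centralizer hN hy, ⟨h2, fun h3 => ?_, fun h3 => h2.antisymm
    (h.le hN fun h4 => ?_)⟩, ?_⟩
  · have h4 : (P : Subgroup G) ≤ Subgroup.centralizer N := fun y hy n hn => by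
      obtain ⟨z, hz, rfl⟩ := h3.ge hn
      exact (congrArg Subtype.val (Subgroup.mem_center_iff.1 hz ⟨y, hy⟩)).symm
    rw [← P.is_maximal' ((h.isPGroup_centralizer hN hNp (h.mem hN) h.ne).to_le
      (Subgroup.centralizer_le (Set.singleton_subset_iff.2 (h.mem hN)))) h4]
    infer_instance
  · have : Nontrivial P := (Subgroup.nontrivial_iff_ne_bot _).2 fun h5 => hN1 (eq_bot_iff.2 (h5 ▸ hNP))
    exact (Subgroup.nontrivial_iff_ne_bot _).1 P.isPGroup'.center_nontrivial
      ((Subgroup.map_eq_bot_iff_of_injective _ (P : Subgroup G).subtype_injective).1 h4)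
  by_contra! h3
  have h4 : ∀ i, Subgroup.upperCentralSeries P i ≤ N.subgroupOf P := fun i => by
    induction i with
    | zero => simp
    | succ i ih => exact h1 i (lt_of_le_of_ne ih (h3 i))
  obtain ⟨n, hn⟩ := P.isPGroup'.isNilpotent.nilpotent
  exact h3 n (le_antisymm (h4 n) (hn ▸ le_top))

end Cfsg.Agent.S4838
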