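import Cfsg.Statements.S4839
import Cfsg.Agent.Lib.Block.Quot
import Cfsg.Agent.Lib.Solv.Frob
import Cfsg.Agent.Lib.Solv.PGrp
import Cfsg.Agent.Lib.Solv.Cores
import Cfsg.Agent.Lib.Transfer.Invol
import Cfsg.Agent.Lib.Transfer.Count

set_option autoImplicit false
open Cfsg

namespace Cfsg.Agent.S4839

open Cfsg.Agent.Blk
open Cfsg.Agent.Char hiding cj cj_mul cj_inv_cj cj_cj_inv
open Subgroup in
structure Gag {G : Type*} [Group G] (p : ℕ) (N : Subgroup G) : Prop where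
  pg : IsPGroup p N
  ne : N ≠ ⊥
  tr : ∀ a ∈ N, ∀ b ∈ N, a ≠ 1 → b ≠ 1 → IsConj a b
  cam : ∀ g, g ∉ N → ∀ n ∈ N, IsConj g (g * n)

section
variable {G : Type*} [Group G] [Finite G] {p : ℕ} [hp : Fact p.Prime] {N : Subgroup G}
  [hN : N.Normal]

open Subgroup Cfsg.Agent.Solv

theorem exists_comm {L : Subgroup G} (hL : IsPGroup p L) (h1 : N ≤ L) (h2 : N ≠ ⊥) :
    ∃ n ∈ N, n ≠ 1 ∧ ∀ g ∈ L, n * g = g * n := by
  obtain ⟨x, h3, h4, h5⟩ := exists_central_mod (N := ⊥) hL.isNilpotent h1 le_normalizer_of_normal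
    (by rwa [le_bot_iff])
  exact ⟨x, h3, fun e => h4 (mem_bot.2 e), fun g hg =>
    commutatorElement_eq_one_iff_mul_comm.1 (mem_bot.1 (h5 g hg))⟩

theorem Gag.comm (h : Gag p N) : ∀ a ∈ N, ∀ b ∈ N, a * b = b * a := by
  obtain ⟨z, h1, h2, h3⟩ := exists_comm h.pg le_rfl h.ne
  intro a ha b hb
  by_cases h4 : a = 1
  · simp [h4]
  obtain ⟨g, rfl⟩ := isConj_iff.1 (h.tr z h1 a ha h2 h4)
  have := h3 _ (hN.conj_mem' b hb g)
  calc g * z * g⁻¹ * b = g * (z * (g⁻¹ * b * g)) * g⁻¹ := by group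
    _ = _ := by rw [this]; group

omit hN in
theorem Gag.eq_one (h : Gag p N) {n : G} (hn : n ∈ N) {m : ℕ} (hm : ¬ p ∣ m) (h1 : n ^ m = 1) :
    n = 1 := by
  obtain ⟨k, hk⟩ := h.pg ⟨n, hn⟩
  have h2 : n ^ p ^ k = 1 := congrArg Subtype.val hk
  rw [← orderOf_eq_one_iff]
  exact Nat.eq_one_of_dvd_coprimes (((Nat.Prime.coprime_iff_not_dvd hp.out).2 hm).pow_left k)
    (orderOf_dvd_of_pow_eq_one h2) (orderOf_dvd_of_pow_eq_one h1)

omit hN in
theorem Gag.fpf (h : Gag p N) {y : G} (hy : ¬ p ∣ orderOf y) (hy1 : y ≠ 1) :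
    N ⊓ centralizer {y} = ⊥ := by
  rw [fpf_iff]
  intro n hn hc
  have h1 : y ∉ N := fun h2 => hy1 (h.eq_one h2 hy (pow_orderOf_eq_one y))
  have h2 := Transfer.IsConj.orderOf_eq' (h.cam y h1 n hn)
  have h3 := pow_orderOf_eq_one (y * n)
  rw [h2, Commute.mul_pow hc, pow_orderOf_eq_one, one_mul] at h3
  exact h.eq_one hn hy h3

theorem Gag.cent_le (h : Gag p N) (h1 : N = pCore p G) : centralizer (N : Set G) ≤ N := by
  refine le_trans (le_pCore (p := p) fun g => ?_) h1.ge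
  obtain ⟨⟨n, hn⟩, hn1⟩ := ne_bot_iff_exists_ne_one.1 h.ne
  refine ⟨(orderOf (g : G)).factorization p, Subtype.ext ?_⟩
  by_contra h2
  have h3 : ¬ p ∣ orderOf ((g : G) ^ p ^ (orderOf (g : G)).factorization p) := by
    rw [orderOf_pow_of_dvd (pow_pos hp.out.pos _).ne' (Nat.ordProj_dvd _ _)]
    exact Nat.not_dvd_ordCompl hp.out (orderOf_pos _).ne'
  refine hn1 (Subtype.ext (eq_one_of_fpf (h.fpf h3 h2) hn ?_))
  exact (mem_centralizer_iff.1 (pow_mem g.2 _) n hn).symm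

theorem Gag.not_dvd (h : Gag p N) (h1 : N = pCore p G) : ¬ p ∣ N.index := by
  intro hd
  have hC := h.cent_le h1
  have hc := h.comm
  have hno : ∀ g : G, g ∈ normalizer (N : Set G) := fun g => by
    rw [normalizer_eq_top]; trivial
  obtain ⟨xb, hxb⟩ := exists_prime_orderOf_dvd_card' (G := G ⧸ N) p hd
  obtain ⟨x, rfl⟩ := QuotientGroup.mk_surjective xb
  have hx : ∀ w ∈ N, w * x ∉ N := by
    intro w hw h2
    have h3 : x ∈ N := by simpa using N.mul_mem (N.inv_mem hw) h2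
    rw [(QuotientGroup.eq_one_iff x).2 h3, orderOf_one] at hxb
    exact hp.out.one_lt.ne hxb
  by_cases hp2 : p = 2
  · subst hp2
    have hx2 : (x : G ⧸ N) * x = 1 := by rw [← pow_two, ← hxb, pow_orderOf_eq_one]
    obtain ⟨a, ha1, ha2, ha3⟩ := Transfer.exists_inverts_odd_of_not_isPGroup hx2 (fun h2 => by
      have h3 := (le_pCore (N := (normalClosure ({(x : G ⧸ N)} : Set (G ⧸ N))).comap
        (QuotientGroup.mk' N)) (isPGroup_comap_mk h.pg h2)).trans h1.ge
      exact hx 1 N.one_mem (by simpa using h3 (subset_normalClosure rfl)))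
    obtain ⟨a', rfl⟩ := QuotientGroup.mk_surjective a
    obtain ⟨y, -, hy1, hy2⟩ := exists_preg_map_eq (p := 2) (φ := QuotientGroup.mk' N) (K := ⊤)
      (mem_top a') (by rw [← even_iff_two_dvd, Nat.not_even_iff_odd]; exact ha2)
    simp only [QuotientGroup.mk'_apply] at hy2
    rw [← hy2] at ha1 ha3
    have hy3 : y ≠ 1 := fun e => ha1 (by rw [e]; rfl)
    have h2 : x * y * x⁻¹ * y ∈ N := by
      rw [← QuotientGroup.eq_one_iff]
      simp only [QuotientGroup.mk_mul, QuotientGroup.mk_inv]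
      rw [ha3, inv_mul_cancel]
    obtain ⟨w, hw, h3⟩ := exists_conj_eq_mul_of_fpf (h := y⁻¹) (hno _)
      (h.fpf (by rwa [orderOf_inv]) (inv_ne_one.2 hy3)) h2
    have h4 := hx _ (N.inv_mem hw)
    have h5 : (w⁻¹ * x) * y * (w⁻¹ * x)⁻¹ = y⁻¹ := by
      calc (w⁻¹ * x) * y * (w⁻¹ * x)⁻¹ = w⁻¹ * (x * y * x⁻¹ * y * y⁻¹) * w := by group
        _ = y⁻¹ := by rw [← h3]; group
    have h6 : (w⁻¹ * x) * (w⁻¹ * x) ∈ N := by
      rw [← QuotientGroup.eq_one_iff]
      simp only [QuotientGroup.mk_mul, QuotientGroup.mk_inv]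
      rw [(QuotientGroup.eq_one_iff w).2 hw, inv_one, one_mul, hx2]
    generalize w⁻¹ * x = z at h4 h5 h6
    have h7 : z * z = 1 := eq_one_of_fpf (h.fpf hy1 hy3) h6 (by
      have h8 : z * y⁻¹ * z⁻¹ = y := by
        calc z * y⁻¹ * z⁻¹ = (z * y * z⁻¹)⁻¹ := by group
          _ = y := by rw [h5, inv_inv]
      calc y * (z * z) = z * y⁻¹ * z⁻¹ * (z * z) := by rw [h8]
        _ = z * (z * y * z⁻¹) * z⁻¹ * (z * z) := by rw [h5]
        _ = z * z * y * (z⁻¹ * z⁻¹ * (z * z)) := by group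
        _ = z * z * y := by group)
    obtain ⟨u, hu⟩ := exists_prime_orderOf_dvd_card' (G := N) 2
      (h.pg.card_eq_or_dvd.resolve_left (by rw [card_eq_one]; exact h.ne))
    rw [← orderOf_coe] at hu
    have hu1 : (u : G) ≠ 1 := fun e => by rw [e, orderOf_one] at hu; omega
    refine h4 (hC (mem_centralizer_iff.2 fun n hn => ?_))
    by_cases hn1 : n = 1
    · simp [hn1]
    have h8 : n * n = 1 := by
      rw [← pow_two, ← hu, ← Transfer.IsConj.orderOf_eq' (h.tr u u.2 n hn hu1 hn1),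
        pow_orderOf_eq_one]
    have h9 : z * n * (z * n) = 1 := by
      obtain ⟨g, hg⟩ := isConj_iff.1 (h.cam z h4 n hn)
      rw [← hg]; exact Transfer.conj_mul_self h7 g
    calc n * z = (z * z) * n * z * (n * n) := by rw [h7, h8, one_mul, mul_one]
      _ = z * (z * n * (z * n)) * n := by group
      _ = z * n := by rw [h9, mul_one]
  · have hxp : IsPGroup p (zpowers (x : G ⧸ N)) :=
      IsPGroup.of_card (n := 1) (by rw [Nat.card_zpowers, hxb, pow_one])
    obtain ⟨n0, hn0, hn1, hn2⟩ := exists_comm (isPGroup_comap_mk h.pg hxp)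
      (fun n hn => by
        rw [mem_comap, QuotientGroup.mk'_apply, (QuotientGroup.eq_one_iff n).2 hn]
        exact one_mem _) h.ne
    have hn3 : n0 * x = x * n0 := hn2 x (mem_zpowers _)
    have hp2' : ¬ p ∣ 2 := fun e => hp2 ((Nat.prime_dvd_prime_iff_eq hp.out Nat.prime_two).1 e)
    obtain ⟨t, ht⟩ : ∃ t : G, orderOf t = 2 := by
      obtain ⟨g, hg⟩ := isConj_iff.1 (h.tr n0 hn0 n0⁻¹ (N.inv_mem hn0) hn1 (inv_ne_one.2 hn1))
      refine exists_prime_orderOf_dvd_card' 2 (dvd_trans ?_ (orderOf_dvd_natCard g))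
      by_contra h2
      rw [← even_iff_two_dvd, Nat.not_even_iff_odd] at h2
      have h3 := Transfer.commute_of_commute_sq_of_odd (b := n0) h2 (by
        have h4 : g * n0⁻¹ * g⁻¹ = n0 := by
          calc g * n0⁻¹ * g⁻¹ = (g * n0 * g⁻¹)⁻¹ := by group
            _ = n0 := by rw [hg, inv_inv]
        calc g * g * n0 = g * (g * n0 * g⁻¹) * g := by group
          _ = (g * n0⁻¹ * g⁻¹) * (g * g) := by rw [hg]; group
          _ = n0 * (g * g) := by rw [h4])
      rw [h3.eq, mul_inv_cancel_right] at hg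
      exact hn1 (h.eq_one hn0 hp2' (by rw [pow_two]; exact mul_eq_one_iff_eq_inv.2 hg))
    have ht1 : t ≠ 1 := fun e => by rw [e, orderOf_one] at ht; omega
    have ht2 : t * t = 1 := by rw [← pow_two, ← ht, pow_orderOf_eq_one]
    have hf := h.fpf (y := t) (by rwa [ht]) ht1
    have hinv : ∀ v ∈ N, t * v * t⁻¹ = v⁻¹ := by
      intro v hv
      have h2 := hN.conj_mem v hv t
      have h3 := eq_one_of_fpf hf (N.mul_mem hv h2) (by
        calc t * (v * (t * v * t⁻¹)) = (t * v * t⁻¹) * (t * t) * v * t⁻¹ := by group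
          _ = (t * v * t⁻¹) * v * t⁻¹ * (t * t) := by rw [ht2]; group
          _ = v * (t * v * t⁻¹) * t := by rw [hc _ h2 v hv]; group)
      exact eq_inv_of_mul_eq_one_right h3
    have hdec : ∀ g : G, ∃ w ∈ N, t * (w⁻¹ * g) = w⁻¹ * g * t := by
      intro g
      have h2 : g * t * g⁻¹ * t⁻¹ ∈ N := by
        refine hC (mem_centralizer_iff.2 fun v hv => ?_)
        have h3 := hinv _ (hN.conj_mem' _ (hN.conj_mem' v hv t) g)
        have h4 : t⁻¹ * v * t = v⁻¹ := by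
          rw [← hinv v hv, inv_eq_of_mul_eq_one_right ht2]
        calc v * (g * t * g⁻¹ * t⁻¹) = g * (g⁻¹ * (t⁻¹ * v * t)⁻¹ * g) * t * g⁻¹ * t⁻¹ := by
              rw [h4]; group
          _ = g * (t * (g⁻¹ * (t⁻¹ * v * t) * g) * t⁻¹)⁻¹⁻¹ * t * g⁻¹ * t⁻¹ := by
              rw [h3]; group
          _ = g * t * g⁻¹ * (t⁻¹ * v * t) * t⁻¹ := by group
          _ = _ := by group
      obtain ⟨w, hw, h3⟩ := exists_conj_eq_mul_of_fpf (hno t) hf h2
      refine ⟨w, hw, ?_⟩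
      calc t * (w⁻¹ * g) = w⁻¹ * (w * t * w⁻¹) * g := by group
        _ = _ := by rw [h3]; group
    obtain ⟨w, hw, hz⟩ := hdec x
    have h4 := hx _ (N.inv_mem hw)
    have h5 : n0 * (w⁻¹ * x) = w⁻¹ * x * n0 := by
      rw [← mul_assoc, hc n0 hn0 _ (N.inv_mem hw), mul_assoc, hn3, mul_assoc]
    generalize w⁻¹ * x = z at hz h4 h5
    let f : N → N := fun v => ⟨z⁻¹ * v * z * (v : G)⁻¹,
      N.mul_mem (hN.conj_mem' _ v.2 z) (N.inv_mem v.2)⟩
    have hf1 : Function.Surjective f := by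
      rintro ⟨n, hn⟩
      obtain ⟨g, hg⟩ := isConj_iff.1 (h.cam z h4 n hn)
      obtain ⟨u, hu, h6⟩ := hdec g
      refine ⟨⟨u, hu⟩, Subtype.ext ?_⟩
      have h7 : z⁻¹ * ((u⁻¹ * g) * z * (u⁻¹ * g)⁻¹) ∈ N := by
        have : z⁻¹ * ((u⁻¹ * g) * z * (u⁻¹ * g)⁻¹) = (z⁻¹ * u⁻¹ * z) * n * u := by
          calc _ = z⁻¹ * u⁻¹ * (g * z * g⁻¹) * u := by group
            _ = _ := by rw [hg]; group
        rw [this]
        exact N.mul_mem (N.mul_mem (hN.conj_mem' _ (N.inv_mem hu) z) hn) hu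
      have h8 := eq_one_of_fpf hf h7 (by
        have c1 : Commute t z := hz
        have c2 : Commute t (u⁻¹ * g) := h6
        exact (c1.inv_right.mul_right ((c2.mul_right c1).mul_right c2.inv_right)).eq)
      show z⁻¹ * u * z * u⁻¹ = n
      calc z⁻¹ * u * z * u⁻¹ = z⁻¹ * u * z * (z⁻¹ * ((u⁻¹ * g) * z * (u⁻¹ * g)⁻¹)) * u⁻¹ := by
            rw [h8, mul_one]
        _ = z⁻¹ * (g * z * g⁻¹) := by group
        _ = n := by rw [hg]; group
    have hf2 := Finite.injective_iff_surjective.2 hf1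
    refine hn1 (congrArg Subtype.val (hf2 (a₁ := ⟨n0, hn0⟩) (a₂ := 1) (Subtype.ext ?_)))
    show z⁻¹ * n0 * z * n0⁻¹ = z⁻¹ * 1 * z * 1⁻¹
    rw [mul_assoc z⁻¹, h5]; group

omit hp in
theorem Gag.ne_top (h : Gag p N) [Fact p.Prime] (hG : 2 < Nat.card G) : N ≠ ⊤ := by
  rintro rfl
  obtain ⟨⟨n, hn⟩, hn1⟩ := ne_bot_iff_exists_ne_one.1 h.ne
  have hn2 : n ≠ 1 := fun e => hn1 (Subtype.ext e)
  have := Transfer.cnt_eq_two (p := fun _ : G => True) hn2 fun x => by
    refine ⟨fun _ => ?_, fun _ => trivial⟩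
    by_cases hx : x = 1
    · exact Or.inr hx
    · obtain ⟨g, hg⟩ := isConj_iff.1 (h.tr n trivial x trivial hn2 hx)
      left
      rw [← hg, h.comm g trivial n trivial, mul_inv_cancel_right]
  rw [Transfer.cnt_true] at this
  omega

end

/-- Let G be a finite group of order greater than 2 with an irreducible character χ nonzero on exactly two conjugacy classes, and let N be the normal p-subgroup of elements where χ is nonzero. Then N is the whole p-core O_p(G) if and only if G is a doubly transitive Frobenius group with kernel N: G has a Frobenius complement H whose Frobenius kernel is N and whose order is one less than that of N. -/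
theorem result {G : Type*} [Group G] [Finite G] (hG : 2 < Nat.card G) (χ : Cfsg.IrrCharacter G) (hχ : Nat.card {C : ConjClasses G // ∃ g ∈ C.carrier, (χ : G → ℂ) g ≠ 0} = 2) (p : ℕ) [Fact p.Prime] (N : Subgroup G) [N.Normal] (hN : ∀ g : G, g ∈ N ↔ (χ : G → ℂ) g ≠ 0) (hNp : IsPGroup p N) (hN1 : N ≠ ⊥) :
    N = Cfsg.pCore p G ↔ ∃ H : Subgroup G, Cfsg.IsFrobeniusComplement H ∧ Cfsg.frobeniusKernel H = (N : Set G) ∧ Nat.card H + 1 = Nat.card N := by
  classical
  letI := Fintype.ofFinite G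
  have hp : p.Prime := Fact.out
  have htr : ∀ a ∈ N, ∀ b ∈ N, a ≠ 1 → b ≠ 1 → IsConj a b := by
    intro a ha b hb ha1 hb1
    have hm : ∀ c ∈ N, ∃ g ∈ (ConjClasses.mk c).carrier, (χ : G → ℂ) g ≠ 0 := fun c hc =>
      ⟨c, ConjClasses.mem_carrier_mk, (hN c).1 hc⟩
    obtain ⟨y, -, hy⟩ := (Nat.card_eq_two_iff' ⟨ConjClasses.mk 1, hm 1 N.one_mem⟩).1 hχ
    have h1 : ∀ c (hc : c ∈ N), c ≠ 1 → (⟨ConjClasses.mk c, hm c hc⟩ :
        {C : ConjClasses G // ∃ g ∈ C.carrier, (χ : G → ℂ) g ≠ 0}) = y := fun c hc hc1 =>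
      hy _ fun e => hc1 (isConj_one_left.1
        (ConjClasses.mk_eq_mk_iff_isConj.1 (congrArg Subtype.val e)))
    exact ConjClasses.mk_eq_mk_iff_isConj.1
      (congrArg Subtype.val ((h1 a ha ha1).trans (h1 b hb hb1).symm))
  have htop : N ≠ ⊤ := by
    rintro rfl
    exact Gag.ne_top (p := p) ⟨hNp, hN1, htr, fun g hg => absurd trivial hg⟩ hG rfl
  have h0 : ∀ g, g ∉ N → χ.1 g = 0 := fun g hg => by
    by_contra h; exact hg ((hN g).2 h)
  have hχ1 : irrOne G ≠ χ := by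
    rintro rfl
    exact htop (eq_top_iff.2 fun g _ => (hN g).2 (by simp))
  have hs : ∀ ψ : IrrCharacter G, ψ ≠ χ → ∑ g, ψ.1 g * (starRingEnd ℂ) (χ.1 g) = 0 := by
    intro ψ hψ
    have := classInner_irr ψ χ
    rw [if_neg hψ, classInner, mul_eq_zero] at this
    exact this.resolve_left (inv_ne_zero (Nat.cast_ne_zero.2 Nat.card_pos.ne'))
  have hker : ∀ ψ : IrrCharacter G, ψ ≠ χ → ∀ n ∈ N, ψ.1 n = ψ.1 1 := by
    intro ψ hψ n hn
    by_cases hn1 : n = 1
    · rw [hn1]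
    have h1 : ∑ g, (ψ.1 g - ψ.1 n) * (starRingEnd ℂ) (χ.1 g) = 0 := by
      have h2 := hs _ hχ1
      simp only [irrOne_apply, one_mul] at h2
      simp only [sub_mul, Finset.sum_sub_distrib, ← Finset.mul_sum, hs ψ hψ, h2]
      simp
    rw [Finset.sum_eq_single 1 (fun g _ hg => by
      by_cases h2 : g ∈ N
      · rw [ψ.2.isClassFunction.eq_of_isConj (htr g h2 n hn hg hn1), sub_self, zero_mul]
      · rw [h0 g h2, map_zero, mul_zero]) (by simp), mul_eq_zero, sub_eq_zero, map_eq_zero] at h1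
    exact (h1.resolve_right ((hN 1).1 N.one_mem)).symm
  have h : Gag p N := ⟨hNp, hN1, htr, fun g hg n hn => (isConj_iff_forall_irr _ _).2 fun ψ => by
    by_cases hψ : ψ = χ
    · rw [hψ, h0 g hg, h0 _ fun h => hg (by simpa using N.mul_mem h (N.inv_mem hn))]
    · exact (ψ.2.isCharacter.apply_mul_of_apply_eq' (hker ψ hψ n hn) g).symm⟩
  have hpN : p ∣ Nat.card N :=
    hNp.card_eq_or_dvd.resolve_left (by rw [Subgroup.card_eq_one]; exact hN1)
  constructor
  · intro h1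
    have h2 := h.not_dvd h1
    obtain ⟨k, hk⟩ := hNp.exists_card_eq
    obtain ⟨H, hH⟩ := Subgroup.exists_right_complement'_of_coprime (N := N)
      (by rw [hk]; exact ((Nat.Prime.coprime_iff_not_dvd hp).2 h2).pow_left k)
    have h3 : Nat.card H = N.index := hH.symm.index_eq_card.symm
    have hf : ∀ y ∈ H, y ≠ 1 → N ⊓ Subgroup.centralizer {y} = ⊥ := fun y hy hy1 =>
      h.fpf (fun h4 => h2 (h4.trans (h3 ▸ Solv.orderOf_dvd_card_of_mem hy))) hy1
    have h4 : H ≠ ⊥ := by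
      rintro rfl
      rw [Subgroup.card_bot, eq_comm, Subgroup.index_eq_one] at h3
      exact htop h3
    refine ⟨H, Solv.isFrobeniusComplement_of_fpf hH.sup_eq_top hN1 h4 hf,
      Solv.frobeniusKernel_eq_of_normal hH.sup_eq_top hf, ?_⟩
    obtain ⟨⟨n, hn⟩, hn1⟩ := Subgroup.ne_bot_iff_exists_ne_one.1 hN1
    have hn2 : n ≠ 1 := fun e => hn1 (Subtype.ext e)
    have h5 : Subgroup.centralizer ({n} : Set G) = N := by
      refine le_antisymm (fun g hg => ?_) fun g hg =>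
        Solv.mem_centralizer_singleton.2 (h.comm n hn g hg)
      obtain ⟨⟨v, y⟩, rfl⟩ := hH.2 g
      have h6 : (y : G) = 1 := by
        by_contra h7
        refine hn2 (Solv.eq_one_of_fpf (hf y y.2 h7) hn ?_)
        have h8 := Solv.mem_centralizer_singleton.1 hg
        simp only at h8
        rw [← mul_assoc, h.comm n hn v v.2, mul_assoc, mul_assoc] at h8
        exact (mul_left_cancel h8).symm
      simp [h6]
    rw [h3, ← h5, ← Transfer.card_isConj_eq_index, h5,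
      ← Transfer.cnt_erase (p := fun x => x ∈ N) N.one_mem]
    congr 1
    refine Transfer.cnt_congr fun x => ⟨fun hx => ?_, fun hx => htr n hn x hx.1 hn2 hx.2⟩
    obtain ⟨g, rfl⟩ := isConj_iff.1 hx
    exact ⟨Subgroup.Normal.conj_mem inferInstance n hn g, by simpa using hn2⟩
  · rintro ⟨H, h1, h2, h3⟩
    have h4 := Solv.card_frobeniusKernel h1
    rw [h2] at h4
    have h5 : N.index = Nat.card H := by
      have h6 := N.index_mul_card
      rw [← H.index_mul_card, ← h4, mul_comm] at h6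
      exact Nat.eq_of_mul_eq_mul_left Nat.card_pos h6
    have h6 : N ≤ pCore p G := Solv.le_pCore hNp
    refine le_antisymm h6 (Subgroup.relIndex_eq_one.1 ?_)
    obtain ⟨k, hk⟩ := (Solv.isPGroup_pCore p G).index (N.subgroupOf _)
    rw [Subgroup.relIndex, hk]
    rcases k with _ | k
    · rfl
    · exfalso
      have h7 : p ∣ Nat.card H := by
        rw [← h5]
        exact (hk ▸ dvd_pow_self p (Nat.succ_ne_zero k)).trans
          (Subgroup.relIndex_dvd_index_of_le h6)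
      rw [← h3] at hpN
      exact hp.one_lt.ne' (Nat.dvd_one.1 ((Nat.dvd_add_right h7).1 hpN))

end Cfsg.Agent.S4839
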