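import Cfsg.Statements.S4859
import Cfsg.Agent.Lib.Block.Res
import Cfsg.Agent.Lib.Char.FS

set_option autoImplicit false
open Cfsg

namespace Cfsg.Agent.S4859

open Cfsg.Agent.Blk
open Cfsg.Agent.Char hiding cj cj_mul cj_inv_cj cj_cj_inv
open scoped ComplexConjugate

/-- Let p be an odd prime, G a finite group and x an element of G whose order is a power of p (possibly 1) and whose centralizer has even order. Let y be a 2-element of the centralizer of x whose order is largest among the 2-elements of that centralizer. Then x * y is not a square in G, and some non-principal real-valued irreducible character of G does not vanish at x * y. -/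
theorem result {G : Type*} [Group G] [Finite G] (p : ℕ) [Fact p.Prime] (hp : p ≠ 2) (x : G) (hx : ∃ k : ℕ, orderOf x = p ^ k) (heven : Even (Nat.card (Subgroup.centralizer ({x} : Set G)))) (y : G) (hy : y ∈ Subgroup.centralizer ({x} : Set G)) (hy2 : ∃ k : ℕ, orderOf y = 2 ^ k) (hmax : ∀ z ∈ Subgroup.centralizer ({x} : Set G), (∃ k : ℕ, orderOf z = 2 ^ k) → orderOf z ≤ orderOf y) : (¬ ∃ u : G, u * u = x * y) ∧ ∃ χ : Cfsg.IrrCharacter G, ¬ ((χ : G → ℂ) = fun _ => (1 : ℂ)) ∧ (∀ g : G, ((χ : G → ℂ) g).im = 0) ∧ (χ : G → ℂ) (x * y) ≠ 0 := by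
  classical
  have := Fintype.ofFinite G
  have hp' := (Fact.out : p.Prime)
  haveI : Fact (Nat.Prime 2) := ⟨Nat.prime_two⟩
  have hc : Commute x y := (mem_Ce1.1 hy).symm
  have h2p : ∀ {q r : ℕ} {g : G}, q.Prime → r.Prime → q ≠ r → (∃ k, orderOf g = r ^ k) →
      ¬ q ∣ orderOf g := fun hq hr h ⟨k, hk⟩ hd =>
    h ((Nat.prime_dvd_prime_iff_eq hq hr).1 (hq.dvd_of_dvd_pow (hk ▸ hd)))
  have h1 : ¬ ∃ u : G, u * u = x * y := by
    rintro ⟨u, hu⟩
    have h2 : IsPPart p (x * y) x := isPPart_mul hc hx (h2p hp' Nat.prime_two hp hy2)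
    have h3 : IsPPart 2 (x * y) y :=
      hc.eq ▸ isPPart_mul hc.symm hy2 (h2p Nat.prime_two hp' hp.symm hx)
    obtain ⟨v, hv⟩ := exists_isPPart 2 u
    have h4 : u ∈ Ce1 x := h2.Ce1_le (mem_Ce1.2 (by rw [← hu, mul_assoc]))
    have h5 := hv.zpow 2
    rw [zpow_two, hu] at h5
    have h6 := h5.unique h3
    have h7 := hmax v (hv.mem h4) hv.pelt
    obtain ⟨z, hz⟩ := exists_prime_orderOf_dvd_card' 2 heven.two_dvd
    have h8 := hmax z z.2 ⟨1, by rw [Subgroup.orderOf_coe, hz, pow_one]⟩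
    rw [Subgroup.orderOf_coe, hz] at h8
    have h9 : 2 ∣ orderOf v := dvd_orderOf_of_pelt hv.pelt fun e => by
      rw [e, one_zpow] at h6
      rw [← h6, orderOf_one] at h8
      omega
    have h10 := orderOf_pow_of_dvd two_ne_zero h9
    rw [← zpow_natCast, Nat.cast_ofNat, h6] at h10
    omega
  refine ⟨h1, ?_⟩
  by_contra h
  push Not at h
  have h2 := card_sqrt_eq_sum (x * y)
  have : IsEmpty {s : G // s * s = x * y} := ⟨fun s => h1 ⟨s.1, s.2⟩⟩
  rw [Nat.card_of_isEmpty, Finset.sum_eq_single (irrOne G) (fun χ _ hχ => ?_) (by simp)] at h2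
  · simp [fsInd] at h2
  · by_cases h3 : ∀ g, (χ.1 g).im = 0
    · rw [h χ (fun e => hχ (Subtype.ext e)) h3, map_zero, mul_zero]
    · rw [χ.2.fsInd_eq_zero fun e => h3 fun g => Complex.conj_eq_iff_im.1 (congrFun e g), zero_mul]

end Cfsg.Agent.S4859
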