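import Cfsg.Statements.S4860
import Cfsg.Agent.Lib.Block.Res
import Cfsg.Agent.Lib.Char.FS

set_option autoImplicit false
open Cfsg

namespace Cfsg.Agent.S4860

open Cfsg.Agent.Blk
open Cfsg.Agent.Char hiding cj cj_mul cj_inv_cj cj_cj_inv
open scoped ComplexConjugate

/-- Let G be a finite group, p an odd prime and M a maximal ideal of the algebraic integers containing p. If the principal p-block of G contains a non-principal real-valued irreducible character α, then it contains a non-principal real-valued irreducible character β different from α, and β may be chosen so that no field automorphism of ℂ carries α to β. -/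
theorem result {G : Type*} [Group G] [Finite G] (p : ℕ) [Fact p.Prime] (hp : p ≠ 2) (M : Ideal Cfsg.AlgInt) (hM : Cfsg.IsPModular p M) (α : Cfsg.IrrCharacter G) (hα : α ∈ Cfsg.principalBlock M G) (hα1 : ¬ ((α : G → ℂ) = fun _ => (1 : ℂ))) (hαr : (∀ g : G, ((α : G → ℂ) g).im = 0)) : ∃ β : Cfsg.IrrCharacter G, β ∈ Cfsg.principalBlock M G ∧ ¬ ((β : G → ℂ) = fun _ => (1 : ℂ)) ∧ (∀ g : G, ((β : G → ℂ) g).im = 0) ∧ β ≠ α ∧ ∀ σ : ℂ ≃+* ℂ, (β : G → ℂ) ≠ (σ : ℂ → ℂ) ∘ (α : G → ℂ) := by
  haveI : PMod M p := ⟨hM⟩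
  classical
  have := Fintype.ofFinite G
  have hp' := (Fact.out : p.Prime)
  by_contra h
  push Not at h
  set c : IrrCharacter G → ℂ := fun χ => classInner (reg p (irrOne G).1) χ.1 with hc
  have h1 : ∀ s : G, p ∣ orderOf (s * s) ↔ p ∣ orderOf s := fun s => by
    refine ⟨fun h => h.trans (sq s ▸ orderOf_pow_dvd 2), fun h => ?_⟩
    have h2 : orderOf s ∣ 2 * orderOf (s * s) := by
      rw [orderOf_dvd_iff_pow_eq_one, pow_mul, sq, pow_orderOf_eq_one]
    exact ((Nat.coprime_primes hp' Nat.prime_two).2 hp).dvd_of_dvd_mul_left (h.trans h2)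
  have h2 : ∑ χ, c χ * fsInd χ.1 = c (irrOne G) := by
    have h3 := (isClassFunction_reg p (irrOne G).2.isClassFunction).eq_sum
    have h4 : fsInd (reg p (irrOne G).1) = c (irrOne G) := by
      simp only [hc, coe_irrOne, classInner_one_right, fsInd]
      congr 1
      exact Finset.sum_congr rfl fun s _ => by simp only [reg, h1]
    rw [← h4, h3]
    simp only [fsInd, Finset.sum_apply, Pi.smul_apply, smul_eq_mul, Finset.mul_sum]
    rw [Finset.sum_comm]
    exact Finset.sum_congr rfl fun _ _ => Finset.sum_congr rfl fun _ _ => by ring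
  have h3 : fsInd (irrOne G).1 = 1 := by
    simp [fsInd]
  rw [← Finset.add_sum_erase _ _ (Finset.mem_univ (irrOne G)), h3, mul_one, add_eq_left] at h2
  have hr : ∀ χ : IrrCharacter G, (fun g => conj (χ.1 g)) = χ.1 ↔ ∀ g, (χ.1 g).im = 0 := fun χ => by
    simp only [funext_iff, Complex.conj_eq_iff_im]
  have h4 : c α * fsInd α.1 ≠ 0 := by
    refine mul_ne_zero (fun h => mem_principal_iff_reg.1 hα (by
      rw [classInner_reg_comm, classInner_eq_zero_comm]; exact h)) ?_
    rcases α.2.fsInd_eq_one_or ((hr α).2 hαr) with h | h <;> simp [h]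
  have h5 : ∀ χ ∈ Finset.univ.erase (irrOne G), c χ * fsInd χ.1 ≠ 0 →
      c χ * fsInd χ.1 = c α * fsInd α.1 := fun χ hχ h0 => by
    by_cases e : χ = α
    · rw [e]
    have h6 : χ ∈ principalBlock M G := by_contra fun h' =>
      h0 (by rw [hc]; simp only
             rw [isPBlock_principal.classInner_reg_eq_zero irrOne_mem_principal h', zero_mul])
    have h7 := (hr χ).1 (by_contra fun h' => h0 (by rw [χ.2.fsInd_eq_zero h', mul_zero]))
    obtain ⟨σ, hσ⟩ := h χ h6 (fun h' => (Finset.mem_erase.1 hχ).1 (Subtype.ext h')) h7 e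
    have h8 : χ = irrGalois σ α := Subtype.ext hσ
    have h9 : c χ = σ (c α) := by
      rw [h8, hc]; simp only
      rw [← classInner_reg_gal, gal_irrOne]
    have h10 : fsInd χ.1 = σ (fsInd α.1) := by
      simp [fsInd, hσ]
    obtain ⟨n, hn⟩ := exists_int_reg (p := p) (irrOne G).2.isGen α.2.isGen
    have h11 : c α = n / (p : ℂ) ^ (Nat.card G).factorization p := by
      rw [← hn, mul_div_cancel_left₀ _ (pow_ne_zero _ (p_ne_zero M))]
    rw [h9, h10, h11]
    rcases α.2.fsInd_eq_one_or ((hr α).2 hαr) with h | h <;> simp [h]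
  rw [← Finset.sum_filter_ne_zero, Finset.sum_congr rfl fun χ hχ =>
    h5 χ (Finset.mem_filter.1 hχ).1 (Finset.mem_filter.1 hχ).2, Finset.sum_const, nsmul_eq_mul] at h2
  refine mul_ne_zero (Nat.cast_ne_zero.2 (Finset.card_ne_zero.2 ⟨α, ?_⟩)) h4 h2
  exact Finset.mem_filter.2 ⟨Finset.mem_erase.2 ⟨fun e => hα1 (congrArg Subtype.val e),
    Finset.mem_univ _⟩, h4⟩

end Cfsg.Agent.S4860
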