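import Cfsg.Statements.S4873
import Cfsg.Agent.Lib.Block.Fix
import Cfsg.Agent.Lib.Char.FS

set_option autoImplicit false
open Cfsg

namespace Cfsg.Agent.S4873

open Cfsg.Agent.Blk
open Cfsg.Agent.Char hiding cj cj_mul cj_inv_cj cj_cj_inv
open scoped ComplexConjugate

/-- Let N be a normal subgroup of odd index in the finite group G. Then every irreducible complex character of N with Frobenius–Schur indicator +1 lies under exactly one irreducible character of G with Frobenius–Schur indicator +1. -/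
theorem result {G : Type*} [Group G] [Finite G] (N : Subgroup G) [N.Normal] (hodd : Odd N.index) (φ : Cfsg.IrrCharacter ↥N) (hφ : (Nat.card ↥N : ℂ)⁻¹ * ∑ᶠ g : ↥N, (φ : ↥N → ℂ) (g * g) = 1) : ∃! χ : Cfsg.IrrCharacter G, (Nat.card G : ℂ)⁻¹ * ∑ᶠ g : G, (χ : G → ℂ) (g * g) = 1 ∧ (∑ᶠ n : ↥N, (χ : G → ℂ) n * (starRingEnd ℂ) ((φ : ↥N → ℂ) n)) ≠ 0 := by
  classical
  have := Fintype.ofFinite G
  have := Fintype.ofFinite N
  have hc : 0 < Nat.card G := Nat.card_pos
  have hσ : ∀ z : ℂ, z ^ Nat.card G = 1 → Complex.conjAe.toRingEquiv z = z ^ (Nat.card G - 1) := by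
    intro z hz
    have h1 : z ≠ 0 := fun h => by rw [h, zero_pow hc.ne'] at hz; exact zero_ne_one hz
    rw [pow_sub₀ _ h1 hc, hz, one_mul, pow_one, ← conj_eq_inv_of_pow hc.ne' hz]; rfl
  have h2 : ∀ g : G, g ^ (Nat.card G - 1) * g ∈ N := fun g => by
    rw [← pow_succ, Nat.sub_add_cancel hc, pow_card_eq_one']; exact N.one_mem
  have hfix : ∀ {X : Type u_1} [Group X] [Fintype X] (χ : IrrCharacter X), fsInd χ.1 ≠ 0 →
      irrGalois Complex.conjAe.toRingEquiv χ = χ := fun χ h => by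
    by_contra hc
    exact h (χ.2.fsInd_eq_zero fun h1 => hc (Subtype.ext h1))
  have hφ' : fsInd φ.1 = 1 := by rw [← hφ, finsum_eq_sum_of_fintype]; rfl
  obtain ⟨χ, ⟨h3, h4⟩, h5⟩ := existsUnique_fixed_over hσ dvd_rfl hodd h2
    (hfix φ (by rw [hφ']; exact one_ne_zero))
  have key : ∀ ψ : IrrCharacter G, (∑ᶠ n : N, ψ.1 n * conj (φ.1 n)) ≠ 0 ↔ em N ψ φ ≠ 0 := by
    intro ψ
    rw [em_ne_zero_iff, classInner, finsum_eq_sum_of_fintype, mul_ne_zero_iff,
      and_iff_right (inv_ne_zero (card_ne_zero' N))]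
  have h6 : ∑ ψ : IrrCharacter G, fsInd ψ.1 * em N ψ φ = 1 := by
    have h7 : ∀ n : N, ∑ ψ : IrrCharacter G, fsInd ψ.1 * conj (ψ.1 n) =
        ∑ θ : IrrCharacter N, fsInd θ.1 * conj (θ.1 n) := fun n => by
      rw [← card_sqrt_eq_sum, ← card_sqrt_eq_sum]
      congr 1
      have h8 : ∀ s : G, s * s = n → s ∈ N := fun s hs => by
        obtain ⟨j, hj⟩ := hodd
        have h9 := N.pow_index_mem s
        rw [hj, pow_succ, pow_mul, sq, hs] at h9
        exact (N.mul_mem_cancel_left (N.pow_mem n.2 j)).1 h9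
      exact Nat.card_congr ⟨fun s => ⟨⟨s.1, h8 s.1 s.2⟩, Subtype.ext s.2⟩,
        fun s => ⟨s.1.1, congrArg Subtype.val s.2⟩, fun _ => rfl, fun _ => rfl⟩
    have h8 : ∑ ψ : IrrCharacter G, fsInd ψ.1 * classInner φ.1 (fun n : N => ψ.1 n) =
        ∑ θ : IrrCharacter N, fsInd θ.1 * classInner φ.1 θ.1 := by
      simp only [classInner, Finset.mul_sum]
      rw [Finset.sum_comm, Finset.sum_comm (s := (Finset.univ : Finset (IrrCharacter N)))]
      refine Finset.sum_congr rfl fun n _ => ?_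
      have h9 := congrArg (fun z => (Nat.card N : ℂ)⁻¹ * φ.1 n * z) (h7 n)
      simp only [Finset.mul_sum] at h9
      convert h9 using 2 <;> ring
    simp only [classInner_irr, mul_ite, mul_one, mul_zero, Finset.sum_ite_eq, Finset.mem_univ,
      if_true, hφ'] at h8
    rw [← h8]
    exact Finset.sum_congr rfl fun ψ _ => by
      rw [φ.2.isCharacter.classInner_comm (ψ.2.isCharacter.res N), em_spec]
  rw [Finset.sum_eq_single χ] at h6
  · have h7 : fsInd χ.1 = 1 := by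
      rcases χ.2.fsInd_eq_one_or (congrArg Subtype.val h4) with h | h
      · exact h
      · rw [h] at h6
        have h8 : ((em N χ φ + 1 : ℕ) : ℂ) = 0 := by push_cast; linear_combination -h6
        exact absurd (Nat.cast_eq_zero.1 h8) (Nat.succ_ne_zero _)
    refine ⟨χ, ⟨?_, (key χ).2 h3⟩, fun ψ h => h5 ψ ⟨(key ψ).1 h.2, hfix ψ ?_⟩⟩
    · rw [← h7, finsum_eq_sum_of_fintype]; rfl
    · have h8 : fsInd ψ.1 = 1 := by rw [← h.1, finsum_eq_sum_of_fintype]; rfl
      rw [h8]; exact one_ne_zero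
  · intro ψ _ h7
    by_contra h8
    exact h7 (h5 ψ ⟨Nat.cast_ne_zero.1 (right_ne_zero_of_mul h8),
      hfix ψ (left_ne_zero_of_mul h8)⟩)
  · simp

end Cfsg.Agent.S4873
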