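import Cfsg.Statements.S4888
import Cfsg.Agent.Lib.Block.Res

set_option autoImplicit false
open Cfsg

namespace Cfsg.Agent.S4888

open Cfsg.Agent.Blk
open Cfsg.Agent.Char hiding cj cj_mul cj_inv_cj cj_cj_inv

/-- Let G be a finite group, p a prime and M a maximal ideal of the algebraic integers containing p. Then all height-zero irreducible characters of the principal p-block of G (equivalently, all its characters of degree prime to p) have the same degree if and only if G has a normal p-complement. -/
theorem result {G : Type*} [Group G] [Finite G] (p : ℕ) [Fact p.Prime] (M : Ideal Cfsg.AlgInt) (hM : Cfsg.IsPModular p M) : (∃ d : ℕ, ∀ χ : Cfsg.IrrCharacter G, χ ∈ (Cfsg.principalBlock M G) → Cfsg.blockHeight p (Cfsg.principalBlock M G) (χ : G → ℂ) = 0 → Cfsg.charDegree (χ : G → ℂ) = d) ↔ Cfsg.HasNormalPComplement p G := by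
  haveI : PMod M p := ⟨hM⟩
  constructor
  · rintro ⟨d, hd⟩
    have h1 := hd _ irrOne_mem_principal ((height_principal_iff irrOne_mem_principal).2
      not_dvd_deg_irrOne)
    rw [charDegree_irrOne] at h1
    exact hasNPC_of_principal M fun χ hχ h => (hd χ hχ ((height_principal_iff hχ).2 h)).trans h1.symm
  · intro h
    rw [Transfer.hasNPC_iff_not_dvd] at h
    obtain ⟨n, hn⟩ := Transfer.index_pResidual (p := p) (G := G)
    refine ⟨1, fun χ hχ h0 => ?_⟩
    have h1 := le_charKer_of_principal h hχ
    obtain ⟨θ, hθ⟩ := exists_res_of_not_dvd hn ((height_principal_iff hχ).1 h0)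
    have h2 := eq_of_res_of_em hθ (em_irrOne_ne_zero_iff.2 h1)
    rw [deg_eq_of_res hθ, ← h2, charDegree_irrOne]

end Cfsg.Agent.S4888
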