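import Cfsg.Statements.S4892
import Cfsg.Agent.Lib.Block.AD2

set_option autoImplicit false
open Cfsg

namespace Cfsg.Agent.S4892

open Cfsg.Agent.Blk
open Cfsg.Agent.Char hiding cj cj_mul cj_inv_cj cj_cj_inv

/-- Let p be an odd prime, M a maximal ideal of the algebraic integers containing p, N a normal subgroup of the finite group G, and θ an irreducible character of N that is G-invariant, of degree prime to p, p-rational (values in the field generated over ℚ by a root of unity of order prime to p) and lies in the principal p-block of N. Let Q be a Sylow p-subgroup of N and suppose the index of N·C_G(Q) in G is a power of p. Then θ extends to a p-rational irreducible character of G lying in the principal p-block of G. -/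
theorem result {G : Type*} [Group G] [Finite G] (p : ℕ) [Fact p.Prime] (hp : p ≠ 2) (M : Ideal Cfsg.AlgInt) (hM : Cfsg.IsPModular p M) (N : Subgroup G) [N.Normal] (θ : Cfsg.IrrCharacter ↥N) (hinv : ∀ g : G, ∀ n n' : ↥N, (n' : G) = g * (n : G) * g⁻¹ → (θ : ↥N → ℂ) n' = (θ : ↥N → ℂ) n) (hdeg : ¬ p ∣ Cfsg.charDegree (θ : ↥N → ℂ)) (hrat : ∃ m : ℕ, ¬ p ∣ m ∧ ∀ n : ↥N, (θ : ↥N → ℂ) n ∈ IntermediateField.adjoin ℚ ({Complex.exp (2 * Real.pi * Complex.I / m)} : Set ℂ)) (hB : θ ∈ Cfsg.principalBlock M ↥N) (Q : Sylow p ↥N) (hidx : ∃ a : ℕ, (N ⊔ Subgroup.centralizer (((Q : Subgroup ↥N).map N.subtype : Subgroup G) : Set G)).index = p ^ a) : ∃ χ : Cfsg.IrrCharacter G, χ ∈ (Cfsg.principalBlock M G) ∧ (∃ n : ℕ, ¬ p ∣ n ∧ ∀ g : G, (χ : G → ℂ) g ∈ IntermediateField.adjoin ℚ ({Complex.exp (2 * Real.pi * Complex.I / n)} : Set ℂ)) ∧ ∀ n : ↥N, (χ : G → ℂ) n = (θ : ↥N → ℂ) n := by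
  haveI : PMod M p := ⟨hM⟩
  obtain ⟨m, hm, hrat⟩ := hrat
  obtain ⟨a, ha⟩ := hidx
  have hm0 : m ≠ 0 := by rintro rfl; simp at hm
  have hS := isSyl_map Q
  set R := (Q : Subgroup N).map N.subtype
  haveI : (N ⊔ Ce R).Normal := by
    refine Subgroup.normalizer_eq_top_iff.1 (eq_top_iff.2 fun x _ => ?_)
    have h1 := hS.cs x
    rw [cs_normal x N] at h1
    obtain ⟨n, hn, h2⟩ := hS.exists_cs_eq h1
    rw [← cs_mul] at h2
    have h3 : n * x ∈ No (N ⊔ Ce R) :=
      No_sup_le _ _ ⟨mem_No.2 (cs_normal _ N), No_le_No_Ce _ (mem_No.2 h2)⟩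
    have h4 := (No (N ⊔ Ce R)).mul_mem ((No _).inv_mem (le_No _ (Subgroup.mem_sup_left hn))) h3
    simpa using h4
  have hroot : Complex.exp (2 * Real.pi * Complex.I / m) ^ m = 1 :=
    (Complex.isPrimitiveRoot_exp m hm0).pow_eq_one
  have hdet : ¬ p ∣ detOrder θ.1 := by
    obtain ⟨δ, hδ⟩ := θ.2.isCharacter.exists_detChar
    rw [detOrder, hδ, orderOf_units_fun]
    intro hd
    set k := (orderOf δ).factorization p
    obtain ⟨σ, h1, h2⟩ := exists_ringHom_inv_fix (m := p ^ k) (n := m)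
      (pow_ne_zero _ (Fact.out : p.Prime).ne_zero) hm0
      (((Fact.out : p.Prime).coprime_iff_not_dvd.2 hm).pow_left k)
    have h3 : ∀ n, σ (δ n) = δ n := fun n => by
      have h4 := θ.2.isCharacter.detChar_map_ringHom σ n
      rw [funext fun n => fix_of_mem_adjoin (σ := σ) (fun s hs => by
        rw [Set.mem_singleton_iff.1 hs]; exact h2 _ hroot) (hrat n), hδ] at h4
      exact h4.symm
    have h4 : δ ^ (orderOf δ / p ^ k * 2) = 1 := by
      ext n
      have h5 : ((δ n : ℂ) ^ (orderOf δ / p ^ k)) ^ p ^ k = 1 := by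
        rw [← pow_mul, Nat.div_mul_cancel (Nat.ordProj_dvd _ _), ← Units.val_pow_eq_pow_val,
          ← MonoidHom.pow_apply, pow_orderOf_eq_one]
        rfl
      have h6 := h1 _ h5
      rw [map_pow, h3] at h6
      rw [MonoidHom.pow_apply, Units.val_pow_eq_pow_val, pow_mul, sq]
      nth_rewrite 1 [h6]
      exact inv_mul_cancel₀ (pow_ne_zero _ (Units.ne_zero _))
    rcases (Fact.out : p.Prime).dvd_mul.1 (hd.trans (orderOf_dvd_of_pow_eq_one h4)) with h5 | h5
    · exact Nat.not_dvd_ordCompl Fact.out (orderOf_pos δ).ne' h5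
    · exact hp ((Nat.prime_dvd_prime_iff_eq Fact.out Nat.prime_two).1 h5)
  obtain ⟨χ, h1, h2⟩ := exists_good_canon hB (Subgroup.map_subtype_le _) hS.not_dvd_relIndex
    (fun x hx => preg_mem_of_index ha hx)
    (fun g => Subtype.ext (funext fun n => hinv g n _ rfl)) hdeg hdet
  refine ⟨χ, (h1 ⊤).mem_principal_top hB, ⟨m, hm, fun g => ?_⟩, (h1 ⊤).ext⟩
  refine mem_adjoin_of_forall_fix (fun s hs => ?_)
    (isAlgebraic_of_isIntegral_int (χ.2.isGen.isIntegral g)) fun σ hσ =>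
      h2 σ (fun n => fix_of_mem_adjoin (σ := (σ : ℂ →+* ℂ)) hσ (hrat n)) g
  rw [Set.mem_singleton_iff.1 hs]
  exact isAlgebraic_of_isIntegral_int (isIntegral_of_pow_eq_one hm0 hroot)

end Cfsg.Agent.S4892
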