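import Cfsg.Statements.S4912
import Cfsg.Agent.Lib.Char.LinCount
import Cfsg.Agent.Lib.Char.LinChar

set_option autoImplicit false
open Cfsg

open scoped ComplexConjugate
namespace Cfsg.Agent.S4912

open Cfsg.Agent.Char

/-- Let G be a finite group with a non-abelian minimal normal subgroup N, and let φ be an irreducible complex character of N with stabilizer I in G such that φ extends to an irreducible character of I with Frobenius–Schur indicator +1. Put d = φ(1)·[G : I]. Then the number of linear characters of G with Frobenius–Schur indicator +1 is at most [G : I] times the number of irreducible characters of G of degree d with Frobenius–Schur indicator +1. -/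
theorem result {G : Type*} [Group G] [Finite G] (N : Subgroup G) (hN : N.Normal) (hN1 : N ≠ ⊥) (hmin : ∀ M : Subgroup G, M.Normal → M ≤ N → M = ⊥ ∨ M = N) (hna : ¬ IsMulCommutative ↥N) (φ : Cfsg.IrrCharacter ↥N) (I : Subgroup G) (hI : ∀ g : G, g ∈ I ↔ ∀ n n' : ↥N, (n' : G) = g * (n : G) * g⁻¹ → (φ : ↥N → ℂ) n' = (φ : ↥N → ℂ) n) (hNI : N ≤ I) (hext : ∃ ψ : Cfsg.IrrCharacter ↥I, (Nat.card ↥I : ℂ)⁻¹ * ∑ᶠ g : ↥I, (ψ : ↥I → ℂ) (g * g) = 1 ∧ ∀ n : ↥N, (ψ : ↥I → ℂ) (Subgroup.inclusion hNI n) = (φ : ↥N → ℂ) n) : Nat.card {χ : Cfsg.IrrCharacter G // Cfsg.charDegree (χ : G → ℂ) = 1 ∧ (Nat.card G : ℂ)⁻¹ * ∑ᶠ g : G, (χ : G → ℂ) (g * g) = 1} ≤ I.index * Nat.card {χ : Cfsg.IrrCharacter G // Cfsg.charDegree (χ : G → ℂ) = Cfsg.charDegree (φ : ↥N → ℂ) * I.index ∧ (Nat.card G : ℂ)⁻¹ * ∑ᶠ g : G, (χ : G → ℂ) (g * g) = 1} := by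
  have := Fintype.ofFinite G
  have := Fintype.ofFinite I
  obtain ⟨ψ, h0, hψ⟩ := hext
  simp only [finsum_eq_sum_of_fintype] at h0 ⊢
  refine card_lin_le (le_commutator_of_min hmin hna) φ.2 (eq_inertia_of_iff hI) hNI ψ.2 hψ
    (A := fun χ => fsInd χ = 1) (B := fun χ => fsInd χ = 1) fun l h1 h2 => ?_
  have h3 : ∀ g, conj (l g : ℂ) = l g := congrFun (by_contra fun h =>
    one_ne_zero (h1.symm.trans ((isIrr_lc l).fsInd_eq_zero h)))
  have h4 : (fun g => conj (ψ.1 g)) = ψ.1 := by_contra fun h =>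
    one_ne_zero (h0.symm.trans (ψ.2.fsInd_eq_zero h))
  have h5 : (fun g => conj (((fun i : I => (l i : ℂ)) * ψ.1) g)) = (fun i : I => (l i : ℂ)) * ψ.1 :=
    funext fun i => by simp [h3, congrFun h4 i]
  have h6 := ψ.2.mul_units (l.comp I.subtype)
  rw [fsInd_eq_of_odd I.subtype h2 h6 (by rw [← indFun_conj, h5]) h5 odd_one
    ((frobenius_right _ _ h2.isClassFunction).symm.trans (h2.classInner_self.trans Nat.cast_one.symm)),
    ← h0, fsInd]
  congr 2; ext i
  have := (isIrr_lc l).isCharacter.apply_inv (i : G)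
  simp only [lc_apply, h3] at this
  simp [← mul_assoc, show (l i : ℂ) * l i = 1 by nth_rw 1 [← this]; simp]

end Cfsg.Agent.S4912
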