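import Cfsg.Statements.S4916
import Cfsg.Agent.Lib.Block.Gal

set_option autoImplicit false
open Cfsg

namespace Cfsg.Agent.S4916

open Cfsg.Agent.Blk
open Cfsg.Agent.Char hiding cj cj_mul cj_inv_cj cj_cj_inv

/-- Let G be a finite group, p a prime and M a maximal ideal of the algebraic integers containing p. Then the principal character is the only irreducible character of degree prime to p in the principal p-block of G if and only if p does not divide the order of G. -/
theorem result {G : Type*} [Group G] [Finite G] (p : ℕ) [Fact p.Prime] (M : Ideal Cfsg.AlgInt) (hM : Cfsg.IsPModular p M) : (∀ χ : Cfsg.IrrCharacter G, χ ∈ Cfsg.principalBlock M G → ¬ p ∣ Cfsg.charDegree (χ : G → ℂ) → (χ : G → ℂ) = fun _ => (1 : ℂ)) ↔ ¬ p ∣ Nat.card G := by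
  haveI : PMod M p := ⟨hM⟩
  classical
  have := Fintype.ofFinite G
  constructor
  · intro h hd
    have hB : IsPBlock M (principalBlock M G) := isPBlock_principal
    have h1 := hB.factorization_sum_sq
    have hm : mnu p (principalBlock M G) = 0 :=
      Nat.eq_zero_of_le_zero ((mnu_le p irrOne_mem_principal).trans (by
        change (charDegree _).factorization p ≤ 0
        rw [charDegree_of_eq (n := 1) (by simp)]; simp))
    have h2 := defect_add_mnu (p := p) hB.nonempty
    have h3 := (Fact.out : p.Prime).factorization_pos_of_dvd Nat.card_pos.ne' hd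
    have h4 : p ∣ ∑ χ ∈ fs (principalBlock M G), charDegree (χ : G → ℂ) ^ 2 :=
      Nat.dvd_of_factorization_pos (by omega)
    rw [← Finset.add_sum_erase _ _ (mem_fs.2 (irrOne_mem_principal (M := M))),
      Nat.dvd_add_left (Finset.dvd_sum fun χ hχ => dvd_pow (by_contra fun hn =>
        (Finset.mem_erase.1 hχ).1 (Subtype.ext (h χ (mem_fs.1 (Finset.mem_erase.1 hχ).2) hn))) two_ne_zero),
      charDegree_of_eq (n := 1) (by simp), one_pow] at h4
    exact (Fact.out : p.Prime).one_lt.ne' (Nat.dvd_one.1 h4)
  · intro h χ hχ _
    rw [principalBlock_eq, blockOf_of_not_dvd h] at hχ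
    rw [Set.mem_singleton_iff.1 hχ]; rfl

end Cfsg.Agent.S4916
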