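import Cfsg.Statements.S4955
import Cfsg.Agent.Lib.Char.Codeg

set_option autoImplicit false
open Cfsg

namespace Cfsg.Agent.S4955

open Cfsg.Agent.Char

/-- Let X be a finite group with an abelian normal Sylow p-subgroup V (a normal p-subgroup of index prime to p in which any two elements commute), and let G be a complement to V in X. Then for every v in V, writing C for the centralizer of v in G, the number k(X) of conjugacy classes of X satisfies k(X) ≤ (order of C)·(order of V) − ((order of G) − k(G)); the statement is written with the subtracted term moved to the left. In particular, if some v in V is centralized by no nonidentity element of G, then k(X) is at most the order of V. -/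
theorem result {X : Type*} [Group X] [Finite X] (p : ℕ) [Fact p.Prime] (V : Subgroup X) [V.Normal] (hVp : IsPGroup p V) (hidx : ¬ p ∣ V.index) (hab : ∀ a ∈ V, ∀ b ∈ V, a * b = b * a) (G : Subgroup X) (hGV : Subgroup.IsComplement' V G) (v : X) (hv : v ∈ V) : Nat.card (ConjClasses X) + Nat.card G ≤ Nat.card ↥(G ⊓ Subgroup.centralizer ({v} : Set X)) * Nat.card V + Nat.card (ConjClasses G) := by
  classical
  have hp : p.Prime := Fact.out
  have := Fintype.ofFinite X
  have h1 := sum_norm_sq_column v
  have h2 : Nat.card (Subgroup.centralizer ({v} : Set X)) ≤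
      Nat.card ↥(G ⊓ Subgroup.centralizer ({v} : Set X)) * Nat.card V := by
    rw [← Nat.card_prod]
    refine Nat.card_le_card_of_surjective (fun x => ⟨x.2 * x.1, Subgroup.mul_mem _
      (Subgroup.mem_centralizer_singleton_iff.2 (hab _ x.2.2 _ hv)) x.1.2.2⟩) fun x => ?_
    obtain ⟨⟨a, b⟩, e⟩ := hGV.2 x
    refine ⟨⟨⟨b, b.2, (Subgroup.mul_mem_cancel_left _
      (Subgroup.mem_centralizer_singleton_iff.2 (hab _ a.2 _ hv))).1 ?_⟩, a⟩, Subtype.ext e⟩
    exact (show (a : X) * b = x from e) ▸ x.2
  let f : X →* G := (hGV.symm.QuotientMulEquiv : X ⧸ V →* G).comp (QuotientGroup.mk' V)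
  have hf : Function.Surjective f :=
    hGV.symm.QuotientMulEquiv.surjective.comp (QuotientGroup.mk'_surjective V)
  have hk : f.ker = V := by ext; simp [f]
  have h3 := card_irr_le_charKer f hf
  rw [hk, card_irr_eq_card_conjClasses, Nat.card_eq_fintype_card, Fintype.card_subtype] at h3
  have h5 := card_le_sum_norm_sq (fun χ : {χ : IrrCharacter X // ¬ V ≤ charKer χ.1} => χ.1.1 v)
    (fun χ => χ.1.2.isCharacter.isIntegral v) (fun χ => by
      obtain ⟨k, hk⟩ := hVp ⟨v, hv⟩
      exact χ.1.2.isCharacter.ne_zero_of_not_dvd hp (congrArg Subtype.val hk)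
        χ.1.2.isCharacter.cast_charDegree.symm fun h => hidx (h.trans
          (χ.1.2.degree_dvd_index_of_comm hab χ.1.2.isCharacter.cast_charDegree.symm)))
    fun σ => ⟨(irrGalois σ).subtypeEquiv fun χ => not_congr (forall₂_congr fun x _ =>
      forall_congr' fun y => σ.injective.eq_iff.symm), fun _ => rfl⟩
  rw [← Finset.sum_subtype (Finset.univ.filter fun χ : IrrCharacter X => ¬ V ≤ charKer χ.1)
    (by simp) fun χ => ‖χ.1 v‖ ^ 2, Fintype.card_subtype] at h5
  have h6 : ∑ χ : IrrCharacter X with V ≤ charKer χ.1, ‖χ.1 v‖ ^ 2 = Nat.card G := by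
    rw [sum_irr_quotient V fun χ => ‖χ v‖ ^ 2, sum_norm_sq_column, (QuotientGroup.eq_one_iff v).2 hv,
      hGV.symm.index_eq_card.symm, Subgroup.centralizer_eq_top_iff_subset.2 (by simp), Subgroup.card_top]
    rfl
  rw [← Finset.sum_filter_add_sum_filter_not _ (fun χ : IrrCharacter X => V ≤ charKer χ.1), h6] at h1
  have h7 := Finset.card_filter_add_card_filter_not (s := Finset.univ)
    fun χ : IrrCharacter X => V ≤ charKer χ.1
  rw [Finset.card_univ, Fintype.card_eq_nat_card, card_irr_eq_card_conjClasses, h3] at h7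
  have h8 : (Finset.univ.filter fun χ : IrrCharacter X => ¬ V ≤ charKer χ.1).card + Nat.card G ≤
    Nat.card (Subgroup.centralizer ({v} : Set X)) := by
    rw [← Nat.cast_le (α := ℝ)]; push_cast; linarith
  omega

end Cfsg.Agent.S4955
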