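import Cfsg.Statements.S4956
import Cfsg.Agent.Lib.Block.KerP
import Cfsg.Agent.Lib.Transfer.Count

set_option autoImplicit false
open Cfsg

namespace Cfsg.Agent.S4956

open Cfsg.Agent.Blk
open Cfsg.Agent.Char hiding cj cj_mul cj_inv_cj cj_cj_inv
open scoped commutatorElement in
theorem aux1 {X : Type*} [Group X] [Finite X] {V : Subgroup X} [V.Normal]
    (hab : ∀ a ∈ V, ∀ b ∈ V, a * b = b * a) {g h : X} (hc : Commute g h)
    (hcop : (Nat.card (Subgroup.closure {g, h})).Coprime (Nat.card V)) :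
    Nat.card {p : V × V // Commute (p.1 * g) (p.2 * h)} =
      Nat.card V * Nat.card {v : X // v ∈ V ∧ Commute v g ∧ Commute v h} := by
  have hV : IsMulCommutative V := ⟨⟨fun a b => Subtype.ext (hab _ a.2 _ b.2)⟩⟩
  letI : CommGroup V := ⟨fun a b => Subtype.ext (hab _ a.2 _ b.2)⟩
  let f : V × V →* V := MonoidHom.coprod (MonoidHom.id V / (MulAut.conjNormal h).toMonoidHom)
    ((MulAut.conjNormal g).toMonoidHom / MonoidHom.id V)
  have hf : ∀ p : V × V, (f p : X) = ⁅(p.1 : X), h⁆ * ⁅(p.2 : X), g⁆⁻¹ := fun p => by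
    simp [f, div_eq_mul_inv, commutatorElement_def, mul_assoc]
  have h1 : Nat.card {p : V × V // Commute (p.1 * g) (p.2 * h)} = Nat.card f.ker :=
    Transfer.cnt_congr fun p => by
      rw [MonoidHom.mem_ker, MonoidHom.coprod_apply, MonoidHom.div_apply, MonoidHom.div_apply,
        div_mul_div_comm, div_eq_one, mul_comm _ (MonoidHom.id V p.2), Subtype.ext_iff, commute_iff_eq]
      simp only [MonoidHom.id_apply, Subgroup.coe_mul, MulEquiv.coe_toMonoidHom, MulAut.conjNormal_apply]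
      rw [← mul_left_inj (g * h) (b := p.1 * _)]
      conv_rhs => rhs; rw [hc.eq]
      simp [mul_assoc]
  have h2 : f.range.map V.subtype = ⁅V, Subgroup.closure {g, h}⁆ := by
    refine le_antisymm ?_ (Subgroup.commutator_le.2 fun v hv a ha => ?_)
    · rintro _ ⟨_, ⟨p, rfl⟩, rfl⟩
      rw [Subgroup.coe_subtype, hf]
      exact mul_mem (Subgroup.commutator_mem_commutator p.1.2 (Subgroup.subset_closure (by simp)))
        (inv_mem (Subgroup.commutator_mem_commutator p.2.2 (Subgroup.subset_closure (by simp))))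
    induction ha using Subgroup.closure_induction generalizing v with
    | mem a ha =>
      rcases ha with rfl | rfl
      · exact (inv_mem_iff (H := f.range.map V.subtype)).1 ⟨_, ⟨(1, ⟨v, hv⟩), rfl⟩, (hf _).trans (by simp)⟩
      · exact ⟨_, ⟨(⟨v, hv⟩, 1), rfl⟩, (hf _).trans (by simp)⟩
    | one => simp
    | mul a b _ _ ha hb =>
      have := mul_mem (mul_mem (ha v hv) (inv_mem (ha _ (Subgroup.map_subtype_le _ (hb v hv))))) (hb v hv)
      convert this using 1
      simp only [commutatorElement_def]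
      group
    | inv a _ ha =>
      have := inv_mem (ha _ (Subgroup.Normal.conj_mem' inferInstance v hv a))
      convert this using 1
      simp only [commutatorElement_def]
      group
  have h3 := f.ker.card_mul_index
  rw [Subgroup.index_ker, Nat.card_prod, ← Subgroup.card_subtype, h2] at h3
  haveI : Group.IsSolvable V := inferInstance
  have h4 := Solv.card_sup_of_disjoint (N := ⁅V, Subgroup.closure {g, h}⁆)
    (H := V ⊓ Ce (Subgroup.closure {g, h})) (inf_le_left.trans (Subgroup.normalizer_commutator_ge_left _ _))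
    (Solv.coprime_abelian_inf_eq_bot hV Subgroup.le_normalizer_of_normal hcop)
  rw [sup_comm, Solv.coprime_commutator_sup_centralizer Subgroup.le_normalizer_of_normal hcop
    (Or.inr this)] at h4
  rw [h1]
  refine Nat.eq_of_mul_eq_mul_right (Nat.card_pos (α := ↥⁅V, Subgroup.closure {g, h}⁆)) ?_
  rw [h3, mul_assoc]
  congr 1
  rw [h4]
  congr 1
  refine Transfer.cnt_congr fun v => and_congr_right fun _ => ?_
  simp [Subgroup.centralizer_closure, Subgroup.mem_centralizer_iff, commute_iff_eq, eq_comm (a := v * _)]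

/-- Let X be a finite group, V an abelian normal subgroup of X (any two elements of V commute) and G a complement to V in X whose order is coprime to that of V. Let S be a set of representatives of the orbits of G on V under conjugation: S lies in V and every element of V is conjugate under G to exactly one member of S. Then the number of conjugacy classes of X equals the sum, over s in S, of the number of conjugacy classes of the centralizer of s in G. -/
theorem result {X : Type*} [Group X] [Finite X] (V : Subgroup X) [V.Normal] (hab : ∀ a ∈ V, ∀ b ∈ V, a * b = b * a) (G : Subgroup X) (hGV : Subgroup.IsComplement' V G) (hcop : (Nat.card V).Coprime (Nat.card G)) (S : Finset X) (hSV : ∀ s ∈ S, s ∈ V) (hrep : ∀ v ∈ V, ∃! s, s ∈ S ∧ ∃ g ∈ G, g * v * g⁻¹ = s) : Nat.card (ConjClasses X) = ∑ s ∈ S, Nat.card (ConjClasses ↥(G ⊓ Subgroup.centralizer ({s} : Set X))) := by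
  classical
  have := Fintype.ofFinite X
  have h1 := card_comm_eq_card_conjClasses_mul_card X
  have h2 : Nat.card {p : X × X // Commute p.1 p.2} = Nat.card V *
      Nat.card {t : X × X × X // t.1 ∈ V ∧ (t.2.1 ∈ G ⊓ Ce1 t.1 ∧ t.2.2 ∈ G ⊓ Ce1 t.1) ∧ Commute t.2.1 t.2.2} := by
    rw [Transfer.cnt_eq_sum_fiber _ (fun p : X × X => (((hGV.equiv p.1).2 : X), ((hGV.equiv p.2).2 : X))),
      Transfer.cnt_eq_sum_fiber _ Prod.snd, Finset.mul_sum]
    refine Finset.sum_congr rfl fun ⟨g, h⟩ _ => ?_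
    have h2 : ∀ (v : V) {g : X}, g ∈ G → ((hGV.equiv (v * g)).2 : X) = g := fun v g hg => by
      rw [show hGV.equiv (v * g) = (⟨v, v.2⟩, ⟨g, hg⟩) from hGV.equiv.apply_symm_apply (⟨v, v.2⟩, ⟨g, hg⟩)]
    by_cases h3 : g ∈ G ∧ h ∈ G ∧ Commute g h
    · rw [Transfer.cnt_eq_of_bij (α := X × X × X) (q := fun v : X => v ∈ V ∧ Commute v g ∧ Commute v h) Prod.fst,
        ← aux1 hab h3.2.2 ((hcop.symm.coprime_dvd_left (Subgroup.card_dvd_of_le ((Subgroup.closure_le _).2
          (Set.pair_subset h3.1 h3.2.1)))))]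
      · refine (Transfer.cnt_eq_of_bij (fun p => (p.1 * g, p.2 * h)) (fun p hp => ⟨hp, Prod.ext
          (h2 _ h3.1) (h2 _ h3.2.1)⟩) (fun p p' _ _ h => by simpa [Prod.ext_iff] using h) ?_).symm
        rintro ⟨x, y⟩ ⟨h4, h5⟩
        obtain ⟨rfl, rfl⟩ := Prod.ext_iff.1 h5
        have h6 := hGV.equiv_fst_mul_equiv_snd x
        have h7 := hGV.equiv_fst_mul_equiv_snd y
        exact ⟨((hGV.equiv x).1, (hGV.equiv y).1), by rwa [h6, h7], by rw [h6, h7]⟩
      · rintro ⟨v, _⟩ ⟨⟨h4, ⟨h5, h6⟩, -⟩, rfl⟩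
        exact ⟨h4, (mem_Ce1.1 h5.2).symm, (mem_Ce1.1 h6.2).symm⟩
      · rintro ⟨v, _⟩ ⟨w, _⟩ ⟨-, rfl⟩ ⟨-, rfl⟩ rfl
        rfl
      · exact fun v hv => ⟨(v, g, h), ⟨⟨hv.1, ⟨⟨h3.1, mem_Ce1.2 hv.2.1.symm⟩, h3.2.1,
          mem_Ce1.2 hv.2.2.symm⟩, h3.2.2⟩, rfl⟩, rfl⟩
    · rw [Transfer.cnt_eq_zero, Transfer.cnt_eq_zero (α := X × X × X), mul_zero]
      · rintro ⟨v, _⟩ ⟨⟨-, ⟨h5, h6⟩, h7⟩, rfl⟩
        exact h3 ⟨h5.1, h6.1, h7⟩
      rintro ⟨x, y⟩ ⟨h4, h5⟩
      obtain ⟨rfl, rfl⟩ := Prod.ext_iff.1 h5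
      refine h3 ⟨Subtype.prop _, Subtype.prop _, commutatorElement_eq_one_iff_commute.1
        (Subgroup.disjoint_def.1 hGV.disjoint ?_ (Subgroup.commutator_le_self G
          (Subgroup.commutator_mem_commutator (Subtype.prop _) (Subtype.prop _))))⟩
      have h6 : ∀ x : X, (((hGV.equiv x).2 : X) : X ⧸ V) = x := fun x => by
        conv_rhs => rw [← hGV.equiv_fst_mul_equiv_snd x, QuotientGroup.mk_mul,
          (QuotientGroup.eq_one_iff _).2 (hGV.equiv x).1.2, one_mul]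
      rw [← QuotientGroup.eq_one_iff, ← QuotientGroup.mk'_apply, map_commutatorElement,
        commutatorElement_eq_one_iff_commute, QuotientGroup.mk'_apply, QuotientGroup.mk'_apply, h6, h6]
      exact h4.map (QuotientGroup.mk' V)
  have h3 : ∀ v : X, Nat.card {t : X × X × X // (t.1 ∈ V ∧ (t.2.1 ∈ G ⊓ Ce1 t.1 ∧ t.2.2 ∈ G ⊓ Ce1 t.1) ∧
      Commute t.2.1 t.2.2) ∧ t.1 = v} = if v ∈ V then
        Nat.card (ConjClasses ↥(G ⊓ Ce1 v)) * Nat.card ↥(G ⊓ Ce1 v) else 0 := fun v => by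
    split_ifs with hv
    · rw [← card_comm_eq_card_conjClasses_mul_card]
      refine (Transfer.cnt_eq_of_bij (fun p => (v, p.1, p.2)) (fun p hp => ⟨⟨hv, ⟨p.1.2, p.2.2⟩,
        congrArg Subtype.val hp.eq⟩, rfl⟩) (fun p p' _ _ h => by simpa [Prod.ext_iff] using h) ?_).symm
      rintro ⟨_, g, h⟩ ⟨⟨-, ⟨h3, h4⟩, h5⟩, rfl⟩
      exact ⟨(⟨g, h3⟩, ⟨h, h4⟩), Subtype.ext h5.eq, rfl⟩
    · exact Transfer.cnt_eq_zero fun t ht => hv (ht.2 ▸ ht.1.1)
  rw [h1, Transfer.cnt_eq_sum_fiber _ Prod.fst, Finset.sum_congr rfl fun v _ => h3 v,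
    ← hGV.card_mul_card, mul_left_comm, Nat.mul_right_inj Nat.card_pos.ne'] at h2
  refine Nat.eq_of_mul_eq_mul_right (Nat.card_pos (α := G)) (h2.trans ?_)
  have h4 : ∀ v, ∃ s, v ∈ V → s ∈ S ∧ ∃ g ∈ G, g * v * g⁻¹ = s := fun v => by
    by_cases hv : v ∈ V
    · exact ⟨_, fun _ => (hrep v hv).exists.choose_spec⟩
    · exact ⟨1, fun h => absurd h hv⟩
  choose r hr using h4
  rw [← Finset.sum_filter, ← Finset.sum_fiberwise_of_maps_to (g := r) (t := S)
    (fun v hv => (hr v (Finset.mem_filter.1 hv).2).1), Finset.sum_mul]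
  refine Finset.sum_congr rfl fun s hs => ?_
  rw [Finset.sum_congr rfl (g := fun _ => Nat.card (ConjClasses ↥(G ⊓ Ce1 s)) * Nat.card ↥(G ⊓ Ce1 s)),
    Finset.sum_const, smul_eq_mul, mul_left_comm, ← Transfer.card_class_mul G s, ← Nat.card_eq_finsetCard]
  · congr 2
    refine Transfer.cnt_congr fun v => ?_
    simp only [Finset.mem_filter, Finset.mem_univ, true_and]
    constructor
    · rintro ⟨hv, rfl⟩
      obtain ⟨-, g, hg, h⟩ := hr v hv
      exact ⟨g⁻¹, inv_mem hg, by rw [← h]; group⟩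
    · rintro ⟨g, hg, rfl⟩
      have h4 : g * s * g⁻¹ ∈ V := Subgroup.Normal.conj_mem inferInstance s (hSV s hs) g
      exact ⟨h4, (hrep _ h4).unique (hr _ h4) ⟨hs, g⁻¹, inv_mem hg, by group⟩⟩
  · intro v hv
    simp only [Finset.mem_filter, Finset.mem_univ, true_and] at hv
    obtain ⟨hv, rfl⟩ := hv
    obtain ⟨-, g, hg, h⟩ := hr v hv
    have h4 : cs g (G ⊓ Ce1 v) = G ⊓ Ce1 (r v) := by rw [cs_inf, cs_Ce1, h, cs_eq_of_mem hg]
    have e : ↥(G ⊓ Ce1 v) ≃* ↥(G ⊓ Ce1 (r v)) := h4 ▸ (G ⊓ Ce1 v).equivSMul (MulAut.conj g)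
    rw [← card_comm_eq_card_conjClasses_mul_card, ← card_comm_eq_card_conjClasses_mul_card]
    exact Transfer.cnt_eq_of_bij (Prod.map e e) (fun p hp => hp.map e)
      (fun p q _ _ h => (e.injective.prodMap e.injective) h) fun q hq =>
        ⟨Prod.map e.symm e.symm q, hq.map e.symm, by simp [Prod.ext_iff]⟩

end Cfsg.Agent.S4956
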