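import Cfsg.Statements.S4964
import Cfsg.Agent.Lib.Block.Quot
import Cfsg.Agent.Lib.Solv.Coprime
import Cfsg.Agent.Lib.Solv.Frattini

set_option autoImplicit false
open Cfsg

namespace Cfsg.Agent.S4964

open Cfsg.Agent.Blk
open Cfsg.Agent.Char hiding cj cj_mul cj_inv_cj cj_cj_inv

/-- Let D be a normal p-subgroup of the finite group G, let D′ be its commutator subgroup (normal in G), and fix a maximal ideal M of the algebraic integers containing p. Then (i) two irreducible characters of G ⧸ D′ lie in the same p-block if and only if their inflations to G do, and (ii) every p-block of G contains the inflation of some irreducible character of G ⧸ D′; so inflation induces a bijection between the p-blocks of G ⧸ D′ and the p-blocks of G. -/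
theorem result {G : Type*} [Group G] [Finite G] (p : ℕ) [Fact p.Prime] (M : Ideal Cfsg.AlgInt) (hM : Cfsg.IsPModular p M) (D : Subgroup G) [D.Normal] (hD : IsPGroup p D) : (∀ χ ψ : Cfsg.IrrCharacter (G ⧸ ⁅D, D⁆), Cfsg.SameBlock M (χ : G ⧸ ⁅D, D⁆ → ℂ) (ψ : G ⧸ ⁅D, D⁆ → ℂ) ↔ Cfsg.SameBlock M ((χ : G ⧸ ⁅D, D⁆ → ℂ) ∘ QuotientGroup.mk) ((ψ : G ⧸ ⁅D, D⁆ → ℂ) ∘ QuotientGroup.mk)) ∧ ∀ B : Set (Cfsg.IrrCharacter G), Cfsg.IsPBlock M B → ∃ χ : Cfsg.IrrCharacter (G ⧸ ⁅D, D⁆), ∃ θ ∈ B, (θ : G → ℂ) = (χ : G ⧸ ⁅D, D⁆ → ℂ) ∘ QuotientGroup.mk := by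
  haveI : PMod M p := ⟨hM⟩
  have hφ := QuotientGroup.mk'_surjective ⁅D, D⁆
  have hle : ⁅D, D⁆ ≤ D := Subgroup.commutator_le_left D D
  have hP' : IsPGroup p (QuotientGroup.mk' ⁅D, D⁆).ker := by
    rw [QuotientGroup.ker_mk']; exact isPGroup_le hD hle
  refine ⟨fun χ ψ => ?_, fun B hB => ?_⟩
  · rw [sameBlock_iff]
    refine ((sameBlock_iff (χ := infl hφ χ) (ψ := infl hφ ψ)).trans (blk_infl_eq_iff hφ
      fun f hf => ?_)).symm
    refine exists_emb_eq_of_preg (p := p) (by rwa [top_inf_eq]) (by rw [top_map_surj hφ]; exact hf.mem)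
      (fun _ => preg_of_coeff_idem hf.mem hf.idem) fun g _ hg h1 => ?_
    have : (D.map (QuotientGroup.mk' ⁅D, D⁆)).Normal := Subgroup.Normal.map inferInstance _ hφ
    have h2 := mem_of_coeff_ne_zero (hf.mem_sup_Ce (hD.map (QuotientGroup.mk' ⁅D, D⁆)) le_top (top_le_No _)) h1
    rw [top_inf_eq, QuotientGroup.ker_mk']
    refine Ce_anti hle ?_
    have := hD.isNilpotent
    have h3 := Cfsg.Agent.Solv.coprime_frattini_le_centralizer (A := Subgroup.zpowers g) (K := D)
      ((coprime_card_zpowers hg hD).coprime_dvd_right (Subgroup.card_subgroup_dvd_card _)) ?_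
      (le_No_of_normal _ _)
    · exact h3 (Subgroup.mem_zpowers g)
    refine le_trans ?_ (Subgroup.map_mono Cfsg.Agent.Solv.commutator_le_frattini)
    rw [Subgroup.map_subtype_commutator, Subgroup.commutator_le]
    intro d hd a ha
    have h4 : Subgroup.zpowers g ≤ (Ce (D.map (QuotientGroup.mk' ⁅D, D⁆))).comap
        (QuotientGroup.mk' ⁅D, D⁆) := by rwa [Subgroup.zpowers_le]
    rw [← QuotientGroup.eq_one_iff, ← QuotientGroup.mk'_apply, map_commutatorElement,
      commutatorElement_eq_one_iff_mul_comm]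
    exact mem_Ce.1 (h4 ha) _ ⟨d, hd, rfl⟩
  · obtain ⟨E, hE⟩ := hB.isBlock.exists_isDef p
    obtain ⟨χ, h1, -⟩ := hB.exists_infl_mem hφ hP' hE
    exact ⟨χ, _, h1, rfl⟩

end Cfsg.Agent.S4964
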