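import Cfsg.Statements.S4965
import Cfsg.Agent.Lib.Block.KerP

set_option autoImplicit false
open Cfsg

namespace Cfsg.Agent.S4965

open Cfsg.Agent.Blk
open Cfsg.Agent.Char hiding cj cj_mul cj_inv_cj cj_cj_inv

/-- Let X be a finite group with an abelian normal subgroup V (any two elements of V commute), and let φ be the action of X ⧸ V on V induced by conjugation (well defined because V is abelian; the hypothesis hφ says that the class of x acts as conjugation by x). Then X has at most as many conjugacy classes as the semidirect product of V by X ⧸ V formed with this action: the split extension has the largest class number among extensions with the given action. -/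
theorem result {X : Type*} [Group X] [Finite X] (V : Subgroup X) [V.Normal] (hab : ∀ a ∈ V, ∀ b ∈ V, a * b = b * a) (φ : X ⧸ V →* MulAut ↥V) (hφ : ∀ (x : X) (v : ↥V), ((φ (QuotientGroup.mk x) v : ↥V) : X) = x * v * x⁻¹) : Nat.card (ConjClasses X) ≤ Nat.card (ConjClasses (SemidirectProduct ↥V (X ⧸ V) φ)) := by
  have h1 := card_comm_eq_card_conjClasses_mul_card X
  have h2 := card_comm_eq_card_conjClasses_mul_card (SemidirectProduct V (X ⧸ V) φ)
  haveI : Finite (SemidirectProduct V (X ⧸ V) φ) := Finite.of_equiv _ SemidirectProduct.equivProd.symm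
  rw [SemidirectProduct.card, mul_comm (Nat.card V), ← Subgroup.card_eq_card_quotient_mul_card_subgroup] at h2
  refine Nat.le_of_mul_le_mul_right ?_ (Nat.card_pos (α := X))
  rw [← h1, ← h2]
  have h3 : ∀ q : (X ⧸ V) × (X ⧸ V), ∃ r : X × X, ∀ p : X × X, Commute p.1 p.2 → ((p.1, p.2) : (X ⧸ V) × (X ⧸ V)) = q →
      Commute r.1 r.2 ∧ p.1 * r.1⁻¹ ∈ V ∧ p.2 * r.2⁻¹ ∈ V ∧ ((r.1, r.2) : (X ⧸ V) × (X ⧸ V)) = q := fun q => by
    by_cases h : ∃ r : X × X, Commute r.1 r.2 ∧ ((r.1, r.2) : (X ⧸ V) × (X ⧸ V)) = q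
    · obtain ⟨r, h3, rfl⟩ := h
      refine ⟨r, fun p _ h => ⟨h3, ?_, ?_, rfl⟩⟩
      · exact div_eq_mul_inv p.1 r.1 ▸ QuotientGroup.eq_iff_div_mem.1 (congrArg Prod.fst h)
      · exact div_eq_mul_inv p.2 r.2 ▸ QuotientGroup.eq_iff_div_mem.1 (congrArg Prod.snd h)
    · exact ⟨1, fun p h1 h2 => absurd ⟨p, h1, h2⟩ h⟩
  choose r hr using h3
  refine Nat.card_le_card_of_injective (fun p => ⟨(⟨⟨_, (hr _ p.1 p.2 rfl).2.1⟩, p.1.1⟩,
    ⟨⟨_, (hr _ p.1 p.2 rfl).2.2.1⟩, p.1.2⟩), ?_⟩) ?_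
  · obtain ⟨⟨x, y⟩, h⟩ := p
    obtain ⟨h3, h4, h5, h6⟩ := hr _ (x, y) h rfl
    refine SemidirectProduct.ext (Subtype.ext ?_) (congrArg (QuotientGroup.mk' V) h.eq)
    simp only [SemidirectProduct.mul_left, Subgroup.coe_mul]
    generalize r (x, y) = s at *
    rw [← congrArg φ (show (s.1 : X ⧸ V) = x from congrArg Prod.fst h6), ← congrArg φ
      (show (s.2 : X ⧸ V) = y from congrArg Prod.snd h6), hφ, hφ]
    simp only [mul_assoc, inv_mul_cancel_left]
    rw [← mul_assoc, ← mul_assoc y, h.eq, ← mul_inv_rev, ← mul_inv_rev, h3.eq]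
  · rintro ⟨⟨x, y⟩, h⟩ ⟨⟨x', y'⟩, h'⟩ h3
    simp only [Subtype.mk.injEq, Prod.mk.injEq, SemidirectProduct.ext_iff] at h3
    obtain ⟨⟨h3, h4⟩, h5, h6⟩ := h3
    rw [h4, h6, mul_left_inj] at h3 h5
    simp [h3, h5]

end Cfsg.Agent.S4965
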