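import Cfsg.Statements.S4966
import Mathlib

set_option autoImplicit false
open Cfsg

namespace Cfsg.Agent.S4966

open LinearMap

section
variable {F : Type*} [Field F] {G : Type*} [Group G] {V : Type*} [AddCommGroup V] [Module F V]
  (ρ : Representation F G V)

def Iv (U : Submodule F V) : Prop := ∀ g : G, ∀ u ∈ U, ρ g u ∈ U
def Nd (C : LinearMap.BilinForm F V) (U : Submodule F V) : Prop :=
  (∀ g : G, ∀ x ∈ U, ∀ y ∈ U, C (ρ g x) (ρ g y) = C x y) ∧ ∀ x ∈ U, (∀ y ∈ U, C x y = 0) → x = 0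
def Good (p : ℕ) (U W : Submodule F V) : Prop := Disjoint U W ∧ Iv ρ U ∧ Iv ρ W ∧
  (∃ A : LinearMap.BilinForm F V, (∀ x, A x x = 0) ∧ Nd ρ A U) ∧
  (∃ S : LinearMap.BilinForm F V, (∀ x y, S x y = S y x) ∧ Nd ρ S W) ∧ (p = 2 → ∀ g : G, ∀ w ∈ W, ρ g w = w)

variable {ρ} {U W X : Submodule F V}

theorem cancel (g : G) (x : V) : ρ g (ρ g⁻¹ x) = x := by rw [← Module.End.mul_apply, ← map_mul]; simp

theorem proj (h : Disjoint U X) : ∃ π : V →ₗ[F] V, (∀ u ∈ U, π u = u) ∧ (∀ x ∈ X, π x = 0) ∧ ∀ v, π v ∈ U := by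
  obtain ⟨X', h1, h2⟩ := h.symm.exists_isCompl
  exact ⟨U.subtype ∘ₗ U.projectionOnto X' h2.symm, fun u hu => by
    simpa using congrArg Subtype.val (Submodule.projectionOnto_apply_left h2.symm ⟨u, hu⟩), fun x hx => by
    simpa using congrArg Subtype.val (Submodule.projectionOnto_apply_right h2.symm ⟨x, h1 hx⟩), fun v => by simp⟩

theorem Iv.sup (h : Iv ρ U) (h' : Iv ρ X) : Iv ρ (U ⊔ X) := fun g v hv => by
  obtain ⟨a, ha, b, hb, rfl⟩ := Submodule.mem_sup.1 hv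
  rw [map_add]; exact Submodule.add_mem_sup (h g a ha) (h' g b hb)

theorem maschke [Finite G] (hc : (Nat.card G : F) ≠ 0) (h : Iv ρ U) : ∃ T, IsCompl U T ∧ Iv ρ T := by
  have := Fintype.ofFinite G
  obtain ⟨π, h1, -, h2⟩ := proj (disjoint_bot_right (a := U))
  let τ : V →ₗ[F] V := (Nat.card G : F)⁻¹ • ∑ g, ρ g ∘ₗ π ∘ₗ ρ g⁻¹
  have e : ∀ v, τ v = (Nat.card G : F)⁻¹ • ∑ g, ρ g (π (ρ g⁻¹ v)) := fun v => by simp [τ]
  refine ⟨ker (τ.codRestrict U fun v => e v ▸ U.smul_mem _ (U.sum_mem fun g _ => h g _ (h2 _))),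
    isCompl_of_proj fun u => Subtype.ext ?_, fun k v hv => ?_⟩
  · rw [codRestrict_apply, e, Finset.sum_congr rfl fun g _ => by rw [h1 _ (h _ _ u.2), cancel]]
    simp [← Nat.cast_smul_eq_nsmul F, smul_smul, ← Nat.card_eq_fintype_card, inv_mul_cancel₀ hc]
  · rw [ker_codRestrict, mem_ker, e] at hv ⊢
    rw [← Equiv.sum_comp (Equiv.mulLeft k)]
    have := congrArg (ρ k) hv
    rw [map_smul, map_sum, map_zero] at this
    refine Eq.trans (congrArg _ (Finset.sum_congr rfl fun g _ => ?_)) this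
    rw [Equiv.coe_mulLeft, mul_inv_rev, map_mul, map_mul, Module.End.mul_apply, Module.End.mul_apply]
    congr 4
    simpa using cancel (ρ := ρ) k⁻¹ v

theorem nd_sum (h : Disjoint U X) (hU : Iv ρ U) (hX : Iv ρ X) {C D : LinearMap.BilinForm F V} (hC : Nd ρ C U)
    (hD : Nd ρ D X) : ∃ π π' : V →ₗ[F] V, Nd ρ (C.comp π π + D.comp π' π') (U ⊔ X) := by
  obtain ⟨π, a1, a2, -⟩ := proj h
  obtain ⟨π', b1, b2, -⟩ := proj h.symm
  refine ⟨π, π', fun g v hv w hw => ?_, fun v hv h0 => ?_⟩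
  · obtain ⟨a, ha, b, hb, rfl⟩ := Submodule.mem_sup.1 hv
    obtain ⟨c, hc, d, hd, rfl⟩ := Submodule.mem_sup.1 hw
    simp [a1, a2, b1, b2, hU g, hX g, hC.1 g, hD.1 g, *]
  · obtain ⟨a, ha, b, hb, rfl⟩ := Submodule.mem_sup.1 hv
    rw [hC.2 a ha fun y hy => by simpa [a1, a2, b1, b2, *] using h0 y (Submodule.mem_sup_left hy),
      hD.2 b hb fun y hy => by simpa [a1, a2, b1, b2, *] using h0 y (Submodule.mem_sup_right hy), add_zero]

theorem extU {p : ℕ} (h : Good ρ p U W) (hd : Disjoint (U ⊔ W) X) (hX : Iv ρ X) {D : LinearMap.BilinForm F V}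
    (h1 : ∀ x, D x x = 0) (hD : Nd ρ D X) : Good ρ p (U ⊔ X) W := by
  obtain ⟨a, b, c, ⟨A, d, e⟩, f⟩ := h
  obtain ⟨π, π', h2⟩ := nd_sum (hd.mono_left le_sup_left) b hX e hD
  exact ⟨(a.symm.disjoint_sup_right_of_disjoint_sup_left (by rwa [sup_comm])).symm, b.sup hX, c,
    ⟨_, fun x => by simp [d, h1], h2⟩, f⟩

theorem extW {p : ℕ} (h : Good ρ p U W) (hd : Disjoint (U ⊔ W) X) (hX : Iv ρ X) {D : LinearMap.BilinForm F V}
    (h1 : ∀ x y, D x y = D y x) (hD : Nd ρ D X) (h3 : p = 2 → ∀ g : G, ∀ w ∈ X, ρ g w = w) :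
    Good ρ p U (W ⊔ X) := by
  obtain ⟨a, b, c, f, ⟨A, d, e⟩, k⟩ := h
  obtain ⟨π, π', h2⟩ := nd_sum (hd.mono_left le_sup_right) c hX e hD
  refine ⟨a.disjoint_sup_right_of_disjoint_sup_left hd, b, c.sup hX, f,
    ⟨_, fun x y => by simp [d (π x), h1 (π' x)], h2⟩, fun q g w hw => ?_⟩
  obtain ⟨a, ha, b, hb, rfl⟩ := Submodule.mem_sup.1 hw
  rw [map_add, k q g a ha, h3 q g b hb]

theorem pair [Finite F] [FiniteDimensional F V] {B C : LinearMap.BilinForm F V} (hB : B.Nondegenerate)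
    (hB' : ∀ g : G, ∀ x y : V, B (ρ g x) (ρ g y) = B x y) {M T : Submodule F V} (hM : Iv ρ M) (hC : Nd ρ C M)
    (hT : IsCompl M T) (hX : Iv ρ X) (hX0 : X ≠ ⊥) (hXT : X ≤ T) : ∃ P : LinearMap.BilinForm F V,
      (∀ g : G, ∀ x ∈ X, ∀ y, P (ρ g x) (ρ g y) = P x y) ∧ ∃ x ∈ X, ∃ t ∈ T, P x t ≠ 0 := by
  by_contra! h0
  have : Finite V := Module.finite_of_finite F
  have : Finite (X →ₗ[F] V) := Finite.of_injective _ DFunLike.coe_injective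
  have i1 : Function.Injective (C.domRestrict₁₂ M M) := (injective_iff_map_eq_zero _).2 fun m hm =>
    Subtype.ext (hC.2 m m.2 fun y hy => DFunLike.congr_fun hm ⟨y, hy⟩)
  let e := LinearEquiv.ofBijective _
    ⟨i1, (injective_iff_surjective_of_finrank_eq_finrank Subspace.dual_finrank_eq.symm).1 i1⟩
  let φ : V →ₗ[F] V := M.subtype ∘ₗ e.symm.toLinearMap ∘ₗ B.domRestrict₂ M
  have f1 : ∀ v, φ v ∈ M := fun v => (e.symm _).2
  have f2 : ∀ v, ∀ m ∈ M, C (φ v) m = B v m := fun v m hm =>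
    DFunLike.congr_fun (e.apply_symm_apply (B.domRestrict₂ M v)) ⟨m, hm⟩
  have f3 : ∀ g v, φ (ρ g v) = ρ g (φ v) := fun g v => sub_eq_zero.1
    (hC.2 _ (M.sub_mem (f1 _) (hM g _ (f1 _))) fun m hm => by
      rw [map_sub, LinearMap.sub_apply, f2 _ _ hm, ← cancel (ρ := ρ) g m, hB', hC.1 g _ (f1 _) _ (hM _ _ hm),
        f2 _ _ (hM _ _ hm), sub_self])
  let E := {f : X →ₗ[F] V // ∀ g (x : X), f ⟨ρ g x, hX g x x.2⟩ = ρ g (f x)}
  have z : ∀ (f : E) x, φ (f.1 x) = 0 → f.1 x = 0 := fun f x hx => by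
    obtain ⟨f', hf⟩ := f.1.exists_extend
    have hf' : ∀ y (hy : y ∈ X), f' y = f.1 ⟨y, hy⟩ := fun y hy => DFunLike.congr_fun hf ⟨y, hy⟩
    refine hB.1 _ fun v => ?_
    obtain ⟨m, hm, t, ht, rfl⟩ := Submodule.mem_sup.1 (hT.sup_eq_top ▸ Submodule.mem_top (x := v))
    have := h0 (B.comp f' id) (fun g y hy w => by
      simp only [BilinForm.comp_apply, id_apply, hf' _ hy, hf' _ (hX g y hy)]
      rw [f.2 g ⟨y, hy⟩, hB']) x x.2 t ht
    rw [map_add, ← f2 _ _ hm, hx]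
    simpa [hf' _ x.2] using this
  obtain ⟨f, hf⟩ := Finite.surjective_of_injective (f := fun f : E => (⟨φ ∘ₗ f.1, fun g x => by
      rw [comp_apply, f.2, f3]; rfl⟩ : E)) (fun f f' h => Subtype.ext (LinearMap.ext fun x => sub_eq_zero.1
    (z ⟨f.1 - f'.1, fun g x => by simp [f.2, f'.2]⟩ x (by
      simpa [sub_eq_zero] using DFunLike.congr_fun (congrArg Subtype.val h) x)))) ⟨X.subtype, fun _ _ => rfl⟩
  refine hX0 (eq_bot_iff.2 fun x hx => hT.disjoint.le_bot ⟨?_, hXT hx⟩)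
  exact (show _ = x from DFunLike.congr_fun (congrArg Subtype.val hf) ⟨x, hx⟩) ▸ f1 _

theorem rad (hX : Iv ρ X) (irr : ∀ Y ≤ X, Iv ρ Y → Y = ⊥ ∨ Y = X) {Y : Submodule F V} (hY : Iv ρ Y)
    {P : LinearMap.BilinForm F V} (hP : ∀ g : G, ∀ x ∈ X, ∀ y ∈ Y, P (ρ g x) (ρ g y) = P x y)
    (h : ∃ x ∈ X, ∃ y ∈ Y, P x y ≠ 0) : ∀ x ∈ X, (∀ y ∈ Y, P x y = 0) → x = 0 := fun x hx h0 => by
  obtain ⟨a, ha, b, hb, h⟩ := h
  rcases irr (X ⊓ ker (P.domRestrict₂ Y)) inf_le_left (fun g u hu => ⟨hX g u hu.1, LinearMap.ext fun y => by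
    have := DFunLike.congr_fun (mem_ker.1 hu.2) ⟨_, hY g⁻¹ y y.2⟩
    rw [domRestrict₂_apply, ← cancel (ρ := ρ) g y, hP g u hu.1 _ (hY _ _ y.2)]
    exact this⟩) with q | q
  · exact q.le ⟨hx, LinearMap.ext fun y => h0 y y.2⟩
  · exact absurd (DFunLike.congr_fun (mem_ker.1 (q.ge ha).2) ⟨b, hb⟩) h
end

/-- Let F be a finite field of characteristic p, G a finite group of order prime to p, and V a finite-dimensional representation of G over F carrying a nondegenerate G-invariant bilinear form (equivalently, V is self-dual). Then V is the direct sum of two G-invariant subspaces U and W such that U carries a G-invariant alternating bilinear form that is nondegenerate on U and W carries a G-invariant symmetric bilinear form that is nondegenerate on W; moreover when p = 2 the decomposition can be chosen with G acting trivially on W. -/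
theorem result {F : Type*} [Field F] [Fintype F] (p : ℕ) [Fact p.Prime] [CharP F p] {G : Type*} [Group G] [Finite G] (hcop : ¬ p ∣ Nat.card G) {V : Type*} [AddCommGroup V] [Module F V] [FiniteDimensional F V] (ρ : Representation F G V) (B : LinearMap.BilinForm F V) (hB : B.Nondegenerate) (hBinv : ∀ g : G, ∀ x y : V, B (ρ g x) (ρ g y) = B x y) : ∃ U W : Submodule F V, IsCompl U W ∧ (∀ g : G, ∀ u ∈ U, ρ g u ∈ U) ∧ (∀ g : G, ∀ w ∈ W, ρ g w ∈ W) ∧ (∃ A : LinearMap.BilinForm F V, (∀ x : V, A x x = 0) ∧ (∀ g : G, ∀ x ∈ U, ∀ y ∈ U, A (ρ g x) (ρ g y) = A x y) ∧ (∀ x ∈ U, (∀ y ∈ U, A x y = 0) → x = 0)) ∧ (∃ S : LinearMap.BilinForm F V, (∀ x y : V, S x y = S y x) ∧ (∀ g : G, ∀ x ∈ W, ∀ y ∈ W, S (ρ g x) (ρ g y) = S x y) ∧ (∀ x ∈ W, (∀ y ∈ W, S x y = 0) → x = 0)) ∧ (p = 2 → ∀ g : G, ∀ w ∈ W, ρ g w = w) := by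
  have hc : (Nat.card G : F) ≠ 0 := fun q => hcop ((CharP.cast_eq_zero_iff F p _).1 q)
  obtain ⟨_, ⟨U, W, hg, rfl⟩, hmax⟩ := wellFounded_gt.has_min {M | ∃ U W, Good ρ p U W ∧ M = U ⊔ W}
    ⟨_, ⊥, ⊥, ⟨by simp, by simp [Iv], by simp [Iv], ⟨0, by simp [Nd]⟩, ⟨0, by simp [Nd]⟩, by simp⟩, rfl⟩
  have hg' := hg
  obtain ⟨a, b, c, ⟨A, d, e⟩, ⟨S, d', e'⟩, k⟩ := hg'
  obtain ⟨T, hT, iT⟩ := maschke hc (b.sup c)
  by_cases h0 : T = ⊥
  · exact ⟨U, W, ⟨a, codisjoint_iff.2 (by simpa [h0] using hT.sup_eq_top)⟩, b, c, ⟨A, d, e⟩, ⟨S, d', e'⟩, k⟩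
  exfalso
  obtain ⟨X, ⟨x0, xT, iX⟩, hmin⟩ := wellFounded_lt.has_min {X | X ≠ ⊥ ∧ X ≤ T ∧ Iv ρ X} ⟨T, h0, le_rfl, iT⟩
  have irr : ∀ Y ≤ X, Iv ρ Y → Y = ⊥ ∨ Y = X := fun Y hY iY => or_iff_not_imp_left.2 fun q =>
    hY.eq_of_not_lt (hmin Y ⟨q, hY.trans xT, iY⟩)
  have lt : ∀ Z ≤ T, Z ≠ ⊥ → U ⊔ W < U ⊔ W ⊔ Z := fun Z hZ z0 => left_lt_sup.2 fun q =>
    z0 (eq_bot_iff.2 fun x hx => hT.disjoint.le_bot ⟨q hx, hZ hx⟩)
  have EU : ∀ Z ≤ T, Z ≠ ⊥ → Iv ρ Z → ∀ D : LinearMap.BilinForm F V, (∀ x, D x x = 0) → ¬ Nd ρ D Z :=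
    fun Z hZ z0 iZ D h1 h2 => hmax _ ⟨_, _, extU hg (hT.disjoint.mono_right hZ) iZ h1 h2, sup_right_comm ..⟩
      (lt Z hZ z0)
  obtain ⟨π0, π1, hC⟩ := nd_sum a b c e e'
  obtain ⟨P, hP, x, hx, t, ht, hP0⟩ := pair hB hBinv (b.sup c) hC hT iX x0 xT
  by_cases h1 : ∃ x ∈ X, ∃ y ∈ X, P x y ≠ 0
  · by_cases h2 : ∃ x ∈ X, ∃ y ∈ X, (P - P.flip) x y ≠ 0
    · have : ∀ g : G, ∀ x ∈ X, ∀ y ∈ X, (P - P.flip) (ρ g x) (ρ g y) = (P - P.flip) x y :=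
        fun g x hx y hy => by simp [hP g x hx, hP g y hy]
      exact EU X xT x0 iX _ (by simp) ⟨this, rad iX irr iX this h2⟩
    have sy : ∀ x ∈ X, ∀ y ∈ X, P x y = P y x := by simpa [sub_eq_zero] using h2
    obtain ⟨π, p1, -, p2⟩ := proj (disjoint_bot_right (a := X))
    have nd : Nd ρ (P.comp π π) X := ⟨fun g x hx y hy => by simp [p1, iX g, hP g, *], fun x hx h =>
      rad iX irr iX (fun g x hx y _ => hP g x hx y) h1 x hx fun y hy => by simpa [p1 _ hx, p1 _ hy] using h y hy⟩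
    refine hmax _ ⟨_, _, extW hg (hT.disjoint.mono_right xT) iX (fun x y => sy _ (p2 _) _ (p2 _)) nd
      fun q g w hw => ?_, sup_assoc ..⟩ (lt X xT x0)
    subst q
    let K : Submodule F V :=
      { carrier := {x | x ∈ X ∧ P x x = 0}
        add_mem' := fun {a b} ha hb => ⟨X.add_mem ha.1 hb.1, by
          simp [ha.2, hb.2, sy a ha.1 b hb.1, CharTwo.add_self_eq_zero]⟩
        zero_mem' := ⟨X.zero_mem, by simp⟩
        smul_mem' := fun c a ha => ⟨X.smul_mem c ha.1, by simp [ha.2]⟩ }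
    rcases irr K (fun _ h => h.1) (fun g u hu => ⟨iX g u hu.1, (hP g u hu.1 u).trans hu.2⟩) with q | q
    · refine sub_eq_zero.1 (q.le ⟨X.sub_mem (iX g w hw) hw, ?_⟩)
      simp only [map_sub, LinearMap.sub_apply, hP g w hw, sy w hw _ (iX g w hw)]
      linear_combination (P w w - P (ρ g w) w) * (CharTwo.two_eq_zero : (2 : F) = 0)
    · exact absurd nd (EU X xT x0 iX _ fun v => (q.ge (p2 v)).2)
  push Not at h1
  have iR : Iv ρ (ker (P.flip.domRestrict₂ X)) := fun g u hu => LinearMap.ext fun y => by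
    have := DFunLike.congr_fun (mem_ker.1 hu) ⟨_, iX g⁻¹ y y.2⟩
    change P y (ρ g u) = 0
    rw [← cancel (ρ := ρ) g y, hP g _ (iX _ _ y.2)]
    exact this
  obtain ⟨R', hR, iR'⟩ := maschke hc (U := T ⊓ ker (P.flip.domRestrict₂ X))
    fun g u hu => ⟨iT g u hu.1, iR g u hu.2⟩
  have iY : Iv ρ (R' ⊓ T) := fun g u hu => ⟨iR' g u hu.1, iT g u hu.2⟩
  have rY : ∀ y ∈ R' ⊓ T, (∀ x ∈ X, P x y = 0) → y = 0 := fun y hy h =>
    hR.disjoint.le_bot ⟨⟨hy.2, LinearMap.ext fun x => h x x.2⟩, hy.1⟩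
  have rX := rad iX irr iY (fun g x hx y _ => hP g x hx y) (by
    obtain ⟨r, hr, s, hs, rfl⟩ := Submodule.mem_sup.1 (hR.sup_eq_top ▸ Submodule.mem_top (x := t))
    refine ⟨x, hx, s, ⟨hs, (T.add_mem_iff_right hr.1).1 ht⟩, ?_⟩
    rwa [map_add, show P x r = 0 from DFunLike.congr_fun (mem_ker.1 hr.2) ⟨x, hx⟩, zero_add] at hP0)
  have dj : Disjoint X (R' ⊓ T) := disjoint_iff_inf_le.2 fun y hy => rY y hy.2 fun x hx => h1 x hx y hy.1
  obtain ⟨π, a1, a2, -⟩ := proj dj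
  obtain ⟨π', b1, b2, -⟩ := proj dj.symm
  have yT : R' ⊓ T ≤ T := inf_le_right
  generalize R' ⊓ T = Y at iY rY rX a2 b1 yT
  refine EU (X ⊔ Y) (sup_le xT yT) (fun q => x0 (eq_bot_iff.2 (le_sup_left.trans q.le))) (iX.sup iY)
    (P.comp π π' - (P.comp π π').flip) (by simp) ⟨fun g v hv w hw => ?_, fun v hv h => ?_⟩
  · obtain ⟨a, ha, b, hb, rfl⟩ := Submodule.mem_sup.1 hv
    obtain ⟨c, hc, d, hd, rfl⟩ := Submodule.mem_sup.1 hw
    simp [a1 _ ha, a1 _ hc, a2 _ hb, a2 _ hd, b1 _ hb, b1 _ hd, b2 _ ha, b2 _ hc, a1 _ (iX g _ ha),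
      a1 _ (iX g _ hc), a2 _ (iY g _ hb), a2 _ (iY g _ hd), b1 _ (iY g _ hb), b1 _ (iY g _ hd),
      b2 _ (iX g _ ha), b2 _ (iX g _ hc), hP g _ ha, hP g _ hc]
  · obtain ⟨a, ha, b, hb, rfl⟩ := Submodule.mem_sup.1 hv
    rw [rX a ha fun y hy => by
        simpa [a1 _ ha, a2 _ hb, a2 _ hy, b1 _ hy] using h y (Submodule.mem_sup_right hy),
      rY b hb fun y hy => by
        simpa [a1 _ hy, b2 _ ha, b1 _ hb, b2 _ hy] using h y (Submodule.mem_sup_left hy), add_zero]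

end Cfsg.Agent.S4966
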