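import Cfsg.Statements.S4967
import Mathlib

set_option autoImplicit false
open Cfsg

namespace Cfsg.Agent.S4967
section
open Pointwise commutatorElement Subgroup
open Module Polynomial in
theorem core {F E H : Type*} [Field F] [Fintype F] [Field E] [Algebra F E] [Finite E] [CommGroup H] [Finite H]
    (φ : H →* E) (hφ : Function.Injective φ) (hgen : ∀ S : Subalgebra F E, (∀ h, φ h ∈ S) → S = ⊤)
    (hn : 2 ≤ finrank F E) :
    (∃ B : LinearMap.BilinForm F E, B.Nondegenerate ∧ ∀ h x y, B (φ h * x) (φ h * y) = B x y) ↔
      Even (finrank F E) ∧ Nat.card H ∣ Fintype.card F ^ (finrank F E / 2) + 1 := by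
  classical
  haveI : IsCyclic H := isCyclic_of_injective_ringHom φ hφ
  haveI : FiniteDimensional F E := Module.Finite.of_finite
  have hne : ∀ h, φ h ≠ 0 := fun h => ((Group.isUnit h).map φ).ne_zero
  have hfr : ∀ (k : ℕ) (x : E), (FiniteField.frobeniusAlgEquivOfAlgebraic F E ^ k) x = x ^ (Fintype.card F ^ k) := by
    intro k x
    rw [AlgEquiv.coe_pow, FiniteField.coe_frobeniusAlgEquivOfAlgebraic_iterate]
  constructor
  · rintro ⟨B, hB, hinv⟩
    obtain ⟨g, hg⟩ := IsCyclic.exists_generator (α := H)
    have hadj : ∀ (k : ℕ) (x y : E), B (φ g ^ k * x) y = B x ((φ g)⁻¹ ^ k * y) := by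
      intro k x y
      have := hinv (g ^ k) x ((φ g)⁻¹ ^ k * y)
      rw [← this, map_pow, ← mul_assoc, ← mul_pow, mul_inv_cancel₀ (hne g), one_pow, one_mul]
    have hpoly : ∀ (f : F[X]) (x y : E), B (aeval (φ g) f * x) y = B x (aeval (φ g)⁻¹ f * y) := by
      intro f x y
      induction f using Polynomial.induction_on' with
      | add f1 f2 h1 h2 => simp only [map_add, add_mul, LinearMap.add_apply, h1, h2]
      | monomial k c =>
        simp only [aeval_monomial, ← Algebra.smul_def, smul_mul_assoc, map_smul, LinearMap.smul_apply, hadj]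
    have hroot : aeval (φ g)⁻¹ (minpoly F (φ g)) = 0 := by
      refine hB.2 _ fun x => ?_
      have := hpoly (minpoly F (φ g)) x 1
      rw [minpoly.aeval, zero_mul, mul_one, map_zero, LinearMap.zero_apply] at this
      exact this.symm
    obtain ⟨σ, hσ⟩ := minpoly.exists_algEquiv_of_root' (Algebra.IsAlgebraic.isAlgebraic (φ g)) hroot
    have hσh : ∀ h, σ (φ h) = (φ h)⁻¹ := by
      intro h
      obtain ⟨k, rfl⟩ := Subgroup.mem_zpowers_iff.1 (hg h)
      rw [map_zpow, map_zpow₀, hσ, inv_zpow]
    obtain ⟨⟨k, hk⟩, hkσ⟩ := (FiniteField.bijective_frobeniusAlgEquivOfAlgebraic_pow F E).2 σ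
    simp only at hkσ
    have hsq : σ * σ = 1 := by
      have := hgen (AlgHom.equalizer ((σ * σ : E ≃ₐ[F] E) : E →ₐ[F] E) (AlgHom.id F E)) (fun h => by
        show σ (σ (φ h)) = φ h
        rw [hσh, map_inv₀, hσh, inv_inv])
      ext x
      have hx : x ∈ AlgHom.equalizer ((σ * σ : E ≃ₐ[F] E) : E →ₐ[F] E) (AlgHom.id F E) := this ▸ Algebra.mem_top
      exact hx
    have hdvd : finrank F E ∣ k + k := by
      rw [← FiniteField.orderOf_frobeniusAlgEquivOfAlgebraic F E, orderOf_dvd_iff_pow_eq_one, pow_add, hkσ, hsq]
    have hk0 : k ≠ 0 := by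
      rintro rfl
      have h1 : σ = 1 := by rw [← hkσ, pow_zero]
      have hb := hgen ⊥ (fun h => by
        have h2 := hσh h
        rw [h1, AlgEquiv.one_apply] at h2
        have h3 : φ h * φ h = 1 := by
          nth_rewrite 2 [h2]
          exact mul_inv_cancel₀ (hne h)
        rcases mul_self_eq_one_iff.1 h3 with h4 | h4
        · rw [h4]; exact one_mem _
        · rw [h4]; exact neg_mem (one_mem _))
      have := Subalgebra.bot_eq_top_iff_finrank_eq_one.1 hb
      omega
    have hkk : finrank F E = k + k := by
      obtain ⟨c, hc⟩ := hdvd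
      have hc1 : c = 1 := by
        rcases c with _ | _ | c
        · omega
        · rfl
        · exfalso; nlinarith
      rw [hc1, mul_one] at hc
      exact hc.symm
    refine ⟨⟨k, hkk⟩, ?_⟩
    have h2 : finrank F E / 2 = k := by omega
    rw [h2, ← orderOf_eq_card_of_forall_mem_zpowers hg, orderOf_dvd_iff_pow_eq_one]
    apply hφ
    rw [map_one, map_pow, pow_succ, ← hfr, hkσ, hσ, inv_mul_cancel₀ (hne g)]
  · rintro ⟨-, hdvd⟩
    set σ := FiniteField.frobeniusAlgEquivOfAlgebraic F E ^ (finrank F E / 2) with hσ
    have ht := traceForm_nondegenerate F E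
    refine ⟨(Algebra.traceForm F E).compl₁₂ LinearMap.id σ.toLinearMap, ⟨?_, ?_⟩, ?_⟩
    · intro x hx
      refine ht.1 x fun y => ?_
      obtain ⟨y, rfl⟩ := σ.surjective y
      exact hx y
    · intro y hy
      have : σ y = 0 := ht.2 _ fun x => hy x
      exact (map_eq_zero σ).1 this
    · intro h x y
      have h1 : φ h * σ (φ h) = 1 := by
        rw [hσ, hfr, ← pow_succ', ← map_pow, ← map_one φ]
        congr 1
        exact orderOf_dvd_iff_pow_eq_one.1 ((orderOf_dvd_natCard h).trans hdvd)
      show Algebra.traceForm F E (φ h * x) (σ (φ h * y)) = Algebra.traceForm F E x (σ y)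
      rw [Algebra.traceForm_apply, Algebra.traceForm_apply, map_mul σ, mul_mul_mul_comm, h1, one_mul]
end

/-- Let F be a finite field with r elements and of characteristic p, H a finite abelian group of order prime to p, and V a faithful irreducible representation of H over F of dimension n (faithful: distinct elements act differently; irreducible: the only H-invariant subspaces are 0 and V). Call V self-dual when it carries a nondegenerate H-invariant bilinear form. If n = 1 and V is self-dual then H has order at most 2. If n ≥ 2 then V is self-dual if and only if n is even and the order of H divides r^(n/2) + 1. -/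
theorem result {F : Type*} [Field F] [Fintype F] (p : ℕ) [Fact p.Prime] [CharP F p] {H : Type*} [CommGroup H] [Finite H] (hcop : ¬ p ∣ Nat.card H) {V : Type*} [AddCommGroup V] [Module F V] [FiniteDimensional F V] (ρ : Representation F H V) (hfaith : Function.Injective ρ) (hirr : ∀ U : Submodule F V, (∀ h : H, ∀ u ∈ U, ρ h u ∈ U) → U = ⊥ ∨ U = ⊤) : (Module.finrank F V = 1 → (∃ B : LinearMap.BilinForm F V, B.Nondegenerate ∧ ∀ h : H, ∀ x y : V, B (ρ h x) (ρ h y) = B x y) → Nat.card H ≤ 2) ∧ (2 ≤ Module.finrank F V → ((∃ B : LinearMap.BilinForm F V, B.Nondegenerate ∧ ∀ h : H, ∀ x y : V, B (ρ h x) (ρ h y) = B x y) ↔ (Even (Module.finrank F V) ∧ Nat.card H ∣ Fintype.card F ^ (Module.finrank F V / 2) + 1))) := by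
  open Pointwise commutatorElement Subgroup in
  classical
  constructor
  · rintro h1 ⟨B, hB, hinv⟩
    obtain ⟨v, hv0, hv⟩ := (finrank_eq_one_iff').1 h1
    have hBv : B v v ≠ 0 := by
      intro h0
      refine hv0 (hB.1 v fun y => ?_)
      obtain ⟨c, rfl⟩ := hv y
      rw [map_smul, h0, smul_zero]
    have key : ∀ h : H, ρ h = 1 ∨ ρ h = -1 := by
      intro h
      obtain ⟨c, hc⟩ := hv (ρ h v)
      have h2 := hinv h v v
      rw [← hc] at h2
      simp only [map_smul, LinearMap.smul_apply, smul_eq_mul] at h2
      have h3 : c * c = 1 := by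
        apply mul_right_cancel₀ hBv
        rw [one_mul, mul_assoc, h2]
      rcases mul_self_eq_one_iff.1 h3 with h4 | h4
      · left
        ext y
        obtain ⟨d, rfl⟩ := hv y
        rw [map_smul, ← hc, h4, one_smul, Module.End.one_apply]
      · right
        ext y
        obtain ⟨d, rfl⟩ := hv y
        rw [map_smul, ← hc, h4]
        simp
    have hle := Nat.card_le_card_of_injective
      (fun h : H => (⟨ρ h, by rcases key h with h | h <;> simp [h]⟩ : ({1, -1} : Finset (Module.End F V))))
      (fun a b hab => hfaith (congrArg Subtype.val hab))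
    rw [Nat.card_eq_fintype_card (α := ({1, -1} : Finset (Module.End F V))), Fintype.card_coe] at hle
    exact hle.trans Finset.card_le_two
  · intro hn
    haveI : Nontrivial V := Module.nontrivial_of_finrank_pos (R := F) (by omega)
    haveI : Finite V := Module.finite_of_finite F
    haveI : Finite (Module.End F V) := Finite.of_injective (fun f : Module.End F V => (f : V → V)) DFunLike.coe_injective
    let A : Subalgebra F (Module.End F V) := Algebra.adjoin F (Set.range ρ)
    have hA : IsMulCommutative A := Algebra.isMulCommutative_adjoin F (by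
      rintro _ ⟨a, rfl⟩ _ ⟨b, rfl⟩
      rw [← map_mul, ← map_mul, mul_comm])
    have hρA : ∀ h, ρ h ∈ A := fun h => Algebra.subset_adjoin ⟨h, rfl⟩
    have hcomm : ∀ a b : A, a * b = b * a := fun a b => hA.is_comm.comm a b
    have hinj : ∀ a : A, a ≠ 0 → ∀ v : V, a.1 v = 0 → v = 0 := by
      intro a ha v hv
      rcases hirr (LinearMap.ker a.1) (fun h u hu => by
        have := congrArg (fun z : A => z.1 u) (hcomm a ⟨ρ h, hρA h⟩)
        simp only [Subalgebra.coe_mul, MulMemClass.coe_mul, Module.End.mul_apply] at this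
        rw [LinearMap.mem_ker] at hu ⊢
        rw [this, hu, map_zero]) with h | h
      · have : v ∈ LinearMap.ker a.1 := hv
        rwa [h, Submodule.mem_bot] at this
      · exact absurd (Subtype.ext (LinearMap.ker_eq_top.1 h)) ha
    obtain ⟨v0, hv0⟩ := exists_ne (0 : V)
    let e0 : A →ₗ[F] V := (LinearMap.applyₗ v0).comp A.val.toLinearMap
    have he0 : ∀ a : A, e0 a = a.1 v0 := fun a => rfl
    have hei : Function.Injective e0 := by
      rw [injective_iff_map_eq_zero]
      intro a ha
      by_contra h
      exact hv0 (hinj a h v0 ha)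
    have hes : Function.Surjective e0 := by
      rcases hirr (LinearMap.range e0) (by
        rintro h _ ⟨a, rfl⟩
        exact ⟨⟨ρ h, hρA h⟩ * a, rfl⟩) with h | h
      · have : v0 ∈ LinearMap.range e0 := ⟨1, rfl⟩
        rw [h, Submodule.mem_bot] at this
        exact absurd this hv0
      · exact LinearMap.range_eq_top.1 h
    have hF : IsField A := by
      refine ⟨exists_pair_ne A, hcomm, fun {a} ha => ?_⟩
      have hi : Function.Injective (fun b : A => a * b) := by
        intro b c hbc
        apply hei
        have h1 := congrArg e0 hbc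
        have h2 : a.1 (e0 b - e0 c) = 0 := by
          rw [map_sub, sub_eq_zero]
          exact h1
        exact sub_eq_zero.1 (hinj a ha _ h2)
      exact Finite.surjective_of_injective hi 1
    letI : Field A := hF.toField
    let e : A ≃ₗ[F] V := LinearEquiv.ofBijective e0 ⟨hei, hes⟩
    let φ : H →* A := { toFun := fun h => ⟨ρ h, hρA h⟩, map_one' := Subtype.ext (map_one ρ), map_mul' := fun a b => Subtype.ext (map_mul ρ a b) }
    have heφ : ∀ h a, e (φ h * a) = ρ h (e a) := fun h a => rfl
    have hfin : Module.finrank F A = Module.finrank F V := e.finrank_eq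
    have hc := core (F := F) φ (fun a b hab => hfaith (congrArg Subtype.val hab)) (fun S hS => by
      rw [eq_top_iff]
      rintro ⟨x, hx⟩ -
      have : Algebra.adjoin F (Set.range ρ) ≤ S.map A.val := Algebra.adjoin_le (by
        rintro _ ⟨h, rfl⟩
        exact ⟨φ h, hS h, rfl⟩)
      obtain ⟨y, hy, rfl⟩ := this hx
      exact hy) (hfin ▸ hn)
    rw [hfin] at hc
    rw [← hc]
    constructor
    · rintro ⟨B, hB, hinv⟩
      refine ⟨B.compl₁₂ e.toLinearMap e.toLinearMap, ⟨?_, ?_⟩, ?_⟩
      · intro x hx
        refine (map_eq_zero_iff e e.injective).1 (hB.1 _ fun y => ?_)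
        obtain ⟨y, rfl⟩ := e.surjective y
        exact hx y
      · intro x hx
        refine (map_eq_zero_iff e e.injective).1 (hB.2 _ fun y => ?_)
        obtain ⟨y, rfl⟩ := e.surjective y
        exact hx y
      · intro h x y
        exact hinv h (e x) (e y)
    · rintro ⟨B, hB, hinv⟩
      refine ⟨B.compl₁₂ e.symm.toLinearMap e.symm.toLinearMap, ⟨?_, ?_⟩, ?_⟩
      · intro x hx
        refine (map_eq_zero_iff e.symm e.symm.injective).1 (hB.1 _ fun y => ?_)
        obtain ⟨y, rfl⟩ := e.symm.surjective y
        exact hx y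
      · intro x hx
        refine (map_eq_zero_iff e.symm e.symm.injective).1 (hB.2 _ fun y => ?_)
        obtain ⟨y, rfl⟩ := e.symm.surjective y
        exact hx y
      · intro h x y
        obtain ⟨x, rfl⟩ := e.surjective x
        obtain ⟨y, rfl⟩ := e.surjective y
        show B (e.symm (ρ h (e x))) (e.symm (ρ h (e y))) = B (e.symm (e x)) (e.symm (e y))
        rw [← heφ, ← heφ]
        simp only [LinearEquiv.symm_apply_apply]
        exact hinv h x y

end Cfsg.Agent.S4967
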