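import Cfsg.Statements.S4978
import Cfsg.Agent.Lib.Block.Lin
import Cfsg.Agent.Lib.Block.Dim
import Cfsg.Agent.S5252

set_option autoImplicit false
open Cfsg

namespace Cfsg.Agent.S4978

open Cfsg.Agent.Blk
open Cfsg.Agent.Char hiding cj cj_mul cj_inv_cj cj_cj_inv
theorem sq2 : ∀ x : ZMod 2, x ≠ 0 → x ^ 2 = 1 := by decide

theorem sq3 : ∀ x : ZMod 3, x ≠ 0 → x ^ 2 = 1 := by decide

theorem comb {α : Type*} (S : Finset α) (f : α → ℕ) {p : ℕ} [hp : Fact p.Prime] (hp3 : 3 < p)
    (hS : S.Nonempty) (h1 : ∀ x ∈ S, ¬ p ∣ f x)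
    (h2 : ∀ n, p ∣ (S.filter fun x => f x = n).card) (h3 : p * p ∣ ∑ x ∈ S, f x ^ 2) :
    2 * p ≤ S.card ∧ (p % 4 = 3 → 3 * p ≤ S.card) := by
  classical
  choose c hc using h2
  set T := S.image f with hT
  have e1 : S.card = p * ∑ n ∈ T, c n := by
    rw [Finset.card_eq_sum_card_image f S, Finset.mul_sum]
    exact Finset.sum_congr rfl fun n _ => hc n
  have e2 : ∑ x ∈ S, f x ^ 2 = p * ∑ n ∈ T, c n * n ^ 2 := by
    rw [Finset.sum_comp (fun n => n ^ 2) f, Finset.mul_sum]
    refine Finset.sum_congr rfl fun n _ => ?_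
    rw [hc n, smul_eq_mul, mul_assoc]
  rw [e2] at h3
  have h4 := Nat.dvd_of_mul_dvd_mul_left hp.out.pos h3
  have h5 : ∀ n ∈ T, 0 < c n ∧ ¬ p ∣ n := by
    intro n hn
    obtain ⟨x, hx, rfl⟩ := Finset.mem_image.1 hn
    refine ⟨Nat.pos_of_ne_zero fun h => ?_, h1 x hx⟩
    have := hc (f x)
    rw [h, mul_zero, Finset.card_eq_zero, Finset.filter_eq_empty_iff] at this
    exact this hx rfl
  have h6 : T.card ≤ ∑ n ∈ T, c n := by
    rw [Finset.card_eq_sum_ones]
    exact Finset.sum_le_sum fun n hn => (h5 n hn).1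
  have h7 : 0 < T.card := (hS.image f).card_pos
  have key : ∑ n ∈ T, c n ≤ 2 → ∑ n ∈ T, c n = 2 ∧ p % 4 ≠ 3 := by
    intro h
    have : T.card = 1 ∨ T.card = 2 := by omega
    rcases this with h8 | h8
    · exfalso
      obtain ⟨n, hn⟩ := Finset.card_eq_one.1 h8
      have h9 := h5 n (by simp [hn])
      rw [hn, Finset.sum_singleton] at h h4
      rcases (Nat.Prime.dvd_mul hp.out).1 h4 with h10 | h10
      · have := Nat.le_of_dvd h9.1 h10; omega
      · exact h9.2 (hp.out.dvd_of_dvd_pow h10)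
    · obtain ⟨a, b, hab, hn⟩ := Finset.card_eq_two.1 h8
      have ha := h5 a (by simp [hn])
      have hb := h5 b (by simp [hn])
      rw [hn, Finset.sum_pair hab] at h h4 ⊢
      have h9 : c a = 1 := by omega
      have h10 : c b = 1 := by omega
      refine ⟨by omega, ?_⟩
      rw [h9, h10, one_mul, one_mul, ← ZMod.natCast_eq_zero_iff] at h4
      push_cast at h4
      refine ZMod.mod_four_ne_three_of_sq_eq_neg_sq' (x := (a : ZMod p)) (y := (b : ZMod p)) ?_
        (eq_neg_of_add_eq_zero_left h4)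
      rw [Ne, ZMod.natCast_eq_zero_iff]; exact hb.2
  rw [e1]
  constructor
  · rw [mul_comm]
    refine Nat.mul_le_mul_left _ ?_
    by_contra h
    have := key (by omega)
    omega
  · intro h4
    rw [mul_comm]
    refine Nat.mul_le_mul_left _ ?_
    by_contra h
    exact (key (by omega)).2 h4

/-- Let p be a prime and B a p-block of the finite group G (relative to a maximal ideal M of the algebraic integers containing p) with a nontrivial defect group D whose automorphism group is a p-group (for a p-group D this is the same as its outer automorphism group being a p-group). Then the number of irreducible characters of height zero in B is divisible by p; if p > 3 this number is at least 2p, and if moreover p ≡ 3 (mod 4) it is at least 3p. -/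
theorem result {G : Type*} [Group G] [Finite G] (p : ℕ) [Fact p.Prime] (M : Ideal Cfsg.AlgInt) (hM : Cfsg.IsPModular p M) (B : Set (Cfsg.IrrCharacter G)) (hB : Cfsg.IsPBlock M B) (D : Subgroup G) (hD : Cfsg.IsDefectGroup p M B D) (hD1 : D ≠ ⊥) (hAut : IsPGroup p (MulAut ↥D)) : p ∣ Nat.card {χ : Cfsg.IrrCharacter G // χ ∈ B ∧ Cfsg.blockHeight p B (χ : G → ℂ) = 0} ∧ (3 < p → 2 * p ≤ Nat.card {χ : Cfsg.IrrCharacter G // χ ∈ B ∧ Cfsg.blockHeight p B (χ : G → ℂ) = 0}) ∧ (3 < p → p % 4 = 3 → 3 * p ≤ Nat.card {χ : Cfsg.IrrCharacter G // χ ∈ B ∧ Cfsg.blockHeight p B (χ : G → ℂ) = 0}) := by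
  haveI : PMod M p := ⟨hM⟩
  classical
  haveI : PMod M p := ⟨hM⟩
  have hp : p.Prime := Fact.out
  have hD' := hB.isDefectGroup_iff.1 hD
  obtain ⟨e, he⟩ := hB.exists_mp hD'
  have hcard := hB.card_isDef hD'
  have hd1 : 1 ≤ blockDefect p B := by
    by_contra h
    rw [show blockDefect p B = 0 by omega, pow_zero] at hcard
    exact hD1 (Subgroup.card_eq_one.1 hcard)
  have hg : ∀ χ ∈ B, p ^ mnu p B ∣ charDegree χ.1 := fun χ hχ =>
    (pow_dvd_pow p (mnu_le p hχ)).trans (Nat.ordProj_dvd _ _)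
  obtain ⟨-, v, -, -, hv⟩ := hB.sum_sq_eq hg dvd_rfl
  choose! m hm using hg
  have hm0 : ∀ χ ∈ B, (blockHeight p B χ = 0 ↔ ¬ p ∣ m χ) := by
    intro χ hχ
    have h0 := charDegree_ne_zero χ
    rw [hm χ hχ] at h0
    rw [height_eq_zero_iff hχ, nu, hm χ hχ, Nat.factorization_mul (left_ne_zero_of_mul h0)
      (right_ne_zero_of_mul h0), Finsupp.add_apply, factorization_pow_self, add_eq_left,
      Nat.factorization_eq_zero_iff]
    simp [hp, right_ne_zero_of_mul h0]
  have hsum : p ^ blockDefect p B ∣ ∑ χ ∈ fs B, m χ ^ 2 := by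
    refine ⟨v, Nat.eq_of_mul_eq_mul_left (pow_pos (pow_pos hp.pos (mnu p B)) 2) ?_⟩
    rw [Nat.div_self (pow_pos hp.pos _), ← defect_add_mnu (p := p) hB.nonempty] at hv
    rw [Finset.mul_sum]
    calc _ = ∑ χ ∈ fs B, charDegree χ.1 ^ 2 := Finset.sum_congr rfl fun χ hχ => by
          rw [hm χ (mem_fs.1 hχ), mul_pow]
      _ = _ := by rw [hv]; ring
  set S := (fs B).filter fun χ : IrrCharacter G => blockHeight p B χ = 0 with hS
  have hmS : ∀ χ, χ ∈ S ↔ χ ∈ B ∧ blockHeight p B χ = 0 := fun χ => by simp [hS]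
  have hk : Nat.card {χ : IrrCharacter G // χ ∈ B ∧ blockHeight p B χ = 0} = S.card := by
    rw [← Nat.card_eq_finsetCard]
    exact Nat.card_congr (Equiv.subtypeEquivRight fun χ => (hmS χ).symm)
  have hrest : p * p ∣ ∑ χ ∈ (fs B).filter fun χ : IrrCharacter G => ¬ blockHeight p B χ = 0, m χ ^ 2 := by
    refine Finset.dvd_sum fun χ hχ => ?_
    obtain ⟨h1, h2⟩ := Finset.mem_filter.1 hχ
    rw [hm0 χ (mem_fs.1 h1), not_not] at h2
    rw [← pow_two]; exact pow_dvd_pow_of_dvd h2 2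
  rw [← Finset.sum_filter_add_sum_filter_not _ fun χ : IrrCharacter G => blockHeight p B χ = 0, ← hS] at hsum
  have hbig : 3 < p → (∀ n, p ∣ (S.filter fun χ => m χ = n).card) := by
    intro h3 n
    obtain ⟨F, hF⟩ := he.mp.bp.exists_isBFS
    have h1 := S5252.result p hD'.pg F (he.mp.saturated hF)
      (hp.five_le_of_ne_two_of_ne_three (by omega) (by omega)) hD1 (hAut.to_subgroup _)
    have h2 := he.relIndex_dvd (Z := ⊤) (MP.mem_foc hF)
      (T := fun χ => (χ ∈ B ∧ blockHeight p B χ = 0) ∧ m χ = n)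
      (fun _ h => h.1.1) (fun χ ψ h1 h2 h3 => ⟨⟨h2, (height_congr h3).trans h1.1.2⟩, by
        have h4 : charDegree ψ.1 = charDegree χ.1 := by
          have := (cast_deg ψ).trans (h3.trans (cast_deg χ).symm)
          exact_mod_cast this
        rw [hm ψ h2, hm χ h1.1.1, h1.2] at h4
        exact Nat.eq_of_mul_eq_mul_left (pow_pos hp.pos _) h4⟩)
      fun χ h1 u _ => he.loc_ne_zero_of_height u.2 h1.1.1 h1.1.2
    rw [Subgroup.relIndex_top_right] at h2
    have h4 : Nat.card {χ : IrrCharacter G // (χ ∈ B ∧ blockHeight p B χ = 0) ∧ m χ = n} =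
        (S.filter fun χ => m χ = n).card := by
      rw [← Nat.card_eq_finsetCard]
      exact Nat.card_congr (Equiv.subtypeEquivRight fun χ => by rw [Finset.mem_filter, hmS])
    rw [← h4]
    refine dvd_trans ?_ h2
    obtain ⟨k, hk⟩ := hD'.pg.index (F.focalSubgroup.subgroupOf D)
    rw [hk]
    refine dvd_pow_self p fun h0 => ?_
    rw [h0, pow_zero, Subgroup.index_eq_one, Subgroup.subgroupOf_eq_top] at hk
    exact absurd hk h1.not_ge
  have hmain : 3 < p → 2 * p ≤ S.card ∧ (p % 4 = 3 → 3 * p ≤ S.card) := by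
    intro h3
    refine comb S m h3 ?_ (fun χ hχ => ?_) (hbig h3) ?_
    · obtain ⟨χ, h1, h2⟩ := exists_height_zero p hB.nonempty
      exact ⟨χ, (hmS χ).2 ⟨h1, h2⟩⟩
    · exact (hm0 χ ((hmS χ).1 hχ).1).1 ((hmS χ).1 hχ).2
    · refine (Nat.dvd_add_left hrest).1 (dvd_trans ?_ hsum)
      rw [← pow_two]
      refine pow_dvd_pow p ?_
      by_contra h
      rw [show blockDefect p B = 1 by omega, pow_one] at hcard
      haveI := isCyclic_of_prime_card hcard
      obtain ⟨k, hk⟩ := hAut.exists_card_eq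
      rw [IsCyclic.card_mulAut, hcard, Nat.totient_prime hp] at hk
      rcases k with _ | k
      · rw [pow_zero] at hk; omega
      · have := Nat.le_of_dvd (by omega) (hk ▸ dvd_pow_self p (Nat.succ_ne_zero k) : p ∣ p - 1)
        omega
  rw [hk]
  refine ⟨?_, fun h => (hmain h).1, fun h => (hmain h).2⟩
  by_cases h3 : 3 < p
  · rw [Finset.card_eq_sum_card_image m S]
    exact Finset.dvd_sum fun n _ => hbig h3 n
  · have h1 : p ∣ ∑ χ ∈ S, m χ ^ 2 :=
      (Nat.dvd_add_left ((dvd_mul_right p p).trans hrest)).1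
        ((dvd_pow_self p (by omega)).trans hsum)
    have h2 : ∀ x : ZMod p, x ≠ 0 → x ^ 2 = 1 := by
      have h4 := hp.two_le
      have : p = 2 ∨ p = 3 := by omega
      rcases this with rfl | rfl
      · exact sq2
      · exact sq3
    rw [← ZMod.natCast_eq_zero_iff] at h1 ⊢
    rw [← h1, Finset.card_eq_sum_ones]
    push_cast
    refine Finset.sum_congr rfl fun χ hχ => (h2 _ ?_).symm
    rw [Ne, ZMod.natCast_eq_zero_iff]
    exact (hm0 χ ((hmS χ).1 hχ).1).1 ((hmS χ).1 hχ).2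

end Cfsg.Agent.S4978
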