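import Cfsg.Statements.S4989
import Cfsg.Agent.Lib.Char.Zeros

set_option autoImplicit false
open Cfsg

namespace Cfsg.Agent.S4989

open Cfsg.Agent.Char

/-- Let H be a subgroup of the finite group G and χ an irreducible complex character of G. Then the inner product of the restriction of χ to H with itself, (1/#H)·Σ_{h ∈ H} |χ(h)|², is at most 1 + #(Z ∖ H)/#H, where Z is the set of zeros of χ in G. -/
theorem result {G : Type*} [Group G] [Finite G] (H : Subgroup G) (χ : Cfsg.IrrCharacter G) : (Nat.card ↥H : ℝ)⁻¹ * ∑ᶠ h : ↥H, ‖(χ : G → ℂ) h‖ ^ 2 ≤ 1 + (Set.ncard ({x : G | (χ : G → ℂ) x = 0} \ (H : Set G)) : ℝ) / (Nat.card ↥H : ℝ) := by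
  classical
  have := Fintype.ofFinite G
  have h1 := card_ne_zero_le_sum χ.2.isGen (Finset.univ.filter (· ∉ H)) (fun k hk g => by
    simp [pow_mem_iff_of_coprime_card H hk]) 2
  have h2 := χ.2.sum_norm_sq
  rw [← Finset.sum_filter_add_sum_filter_not _ (· ∈ H), Finset.sum_subtype (p := (· ∈ H)) _
    (by simp)] at h2
  have h3 := Finset.card_filter_add_card_filter_not (s := Finset.univ.filter (· ∉ H))
    (fun g => χ.1 g ≠ 0)
  have h4 := Finset.card_filter_add_card_filter_not (s := Finset.univ) (· ∈ H)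
  have h5 : ({x : G | χ.1 x = 0} \ (H : Set G)).ncard =
      ((Finset.univ.filter (· ∉ H)).filter fun g => ¬ χ.1 g ≠ 0).card := by
    rw [← Set.ncard_coe_finset]; congr 1; ext; simp [and_comm]
  rw [← Fintype.card_subtype, Finset.card_univ, Fintype.card_eq_nat_card,
    Fintype.card_eq_nat_card] at h4
  have h6 : (0 : ℝ) < Nat.card H := by exact_mod_cast Nat.card_pos
  rw [finsum_eq_sum_of_fintype, h5, inv_mul_le_iff₀ h6, mul_add, mul_div_cancel₀ _ h6.ne']
  rw [← h4, ← h3] at h2
  push_cast at h2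
  linarith

end Cfsg.Agent.S4989
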