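import Cfsg.Statements.S4993
import Cfsg.Agent.Lib.Block.Avg
import Cfsg.Agent.Lib.Block.Height
import Cfsg.Agent.Lib.FT.Final
import Cfsg.Agent.Lib.Solv.PGrp

set_option autoImplicit false
open Cfsg

namespace Cfsg.Agent.S4993

open Cfsg.Agent.Blk
open Cfsg.Agent.Char hiding cj cj_mul cj_inv_cj cj_cj_inv
open Subgroup Cfsg.Agent.Solv in
open scoped commutatorElement in
theorem key {G : Type*} [Group G] [Finite G] (p : ℕ) [hp : Fact p.Prime]
    [(fittingSubgroup G).Normal] (K L : Subgroup G) (hK : K.Normal) (hL : L.Normal) (hLK : L < K)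
    (hch : ∀ M : Subgroup G, M.Normal → L ≤ M → M ≤ K → M = L ∨ M = K) (hx : ∀ x ∈ K, x ^ p ∈ L) :
    ∀ r ∈ (pCore p (G ⧸ fittingSubgroup G)).comap (QuotientGroup.mk' _), ∀ x ∈ K, ⁅r, x⁆ ∈ L := by
  set R := (pCore p (G ⧸ fittingSubgroup G)).comap (QuotientGroup.mk' _) with hR
  have hπ := QuotientGroup.mk'_surjective L
  have hmin := chief_map_mk hch hLK.le
  set V := K.map (QuotientGroup.mk' L) with hV
  have hVp : IsPGroup p V := by
    rintro ⟨_, a, ha, rfl⟩
    refine ⟨1, Subtype.ext ?_⟩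
    show QuotientGroup.mk' L a ^ p ^ 1 = 1
    rw [pow_one, ← map_pow]
    exact (QuotientGroup.eq_one_iff _).2 (hx a ha)
  obtain ⟨P⟩ : Nonempty (Sylow p (G ⧸ L)) := inferInstance
  obtain ⟨v, h1, h2, h3⟩ := exists_central_mod (N := ⊥) P.2.isNilpotent
    ((le_pCore hVp).trans (pCore_le_sylow P)) le_normalizer_of_normal (fun h => hLK.not_ge
      fun x hx => (QuotientGroup.eq_one_iff _).1 (mem_bot.1 (h (mem_map_of_mem _ hx))))
  set H := (centralizer ({v} : Set (G ⧸ L))).comap (QuotientGroup.mk' L) with hH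
  have h4 : ¬ p ∣ H.index := by
    rw [hH, index_comap_of_surjective _ hπ]
    exact fun h => P.not_dvd_index (h.trans (index_dvd_of_le fun g hg =>
      mem_centralizer_singleton.2 (commutatorElement_eq_one_iff_mul_comm.1 (mem_bot.1 (h3 g hg)))))
  have h5 : fittingSubgroup G ≤ H := fun g hg => mem_centralizer_singleton.2
    (mem_centralizer_iff.1 (fitting_le_centralizer_of_minimal_normal V hmin
      (map_fitting_le hπ (mem_map_of_mem _ hg))) v h1)
  have h6 : R ≤ H := by
    rw [← relIndex_eq_one]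
    have h7 := relIndex_dvd_of_le_left R h5
    obtain ⟨k, hk⟩ := (isPGroup_pCore p (G ⧸ fittingSubgroup G)).exists_card_eq
    have h8 := relIndex_ker R (QuotientGroup.mk' (fittingSubgroup G))
    rw [QuotientGroup.ker_mk', hR, map_comap_eq_self_of_surjective (QuotientGroup.mk'_surjective _),
      hk, ← hR] at h8
    have h9 : H.relIndex R ∣ H.index := by
      have h10 := relIndex_dvd_index_of_le (le_sup_left : H ≤ H ⊔ R)
      have h11 : H.relIndex (H ⊔ R) = H.relIndex R := by
        have e1 := relIndex_mul_relIndex (H ⊓ R) H (H ⊔ R) inf_le_left le_sup_left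
        have e2 := relIndex_mul_relIndex (H ⊓ R) R (H ⊔ R) inf_le_right le_sup_right
        rw [relIndex_sup_right, inf_relIndex_right, ← e1, inf_comm, inf_relIndex_right,
          mul_comm] at e2
        exact (Nat.eq_of_mul_eq_mul_left (Nat.pos_of_ne_zero index_ne_zero_of_finite) e2).symm
      rwa [h11] at h10
    rw [h8] at h7
    exact Nat.eq_one_of_dvd_coprimes (((Nat.Prime.coprime_iff_not_dvd hp.out).2 h4).pow_left k)
      h7 h9
  have h7 := (hmin (V ⊓ centralizer ((R.map (QuotientGroup.mk' L) : Subgroup _) : Set (G ⧸ L)))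
    inferInstance inf_le_left).resolve_left fun h => h2 (h ▸ ⟨h1, mem_centralizer_iff.2 (by
      rintro _ ⟨r, hr, rfl⟩
      exact (mem_centralizer_singleton.1 (h6 hr)).symm)⟩)
  intro r hr x hx
  rw [← QuotientGroup.eq_one_iff, ← QuotientGroup.mk'_apply, map_commutatorElement,
    commutatorElement_eq_one_iff_mul_comm]
  exact mem_centralizer_iff.1 (h7.ge (mem_map_of_mem _ hx)).2 _ (mem_map_of_mem _ hr)

/-- Let G be a group of odd order whose order has exactly two prime divisors and whose quotient by its Fitting subgroup is nilpotent (G is metanilpotent), and let χ be a primitive irreducible complex character of G (not induced from a character of any proper subgroup). Then χ(1) divides the size of some conjugacy class of G. -/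
theorem result {G : Type*} [Group G] [Fintype G] (hodd : Odd (Nat.card G)) (h2 : (Nat.card G).primeFactors.card = 2) [hF : (Cfsg.fittingSubgroup G).Normal] (hmeta : Group.IsNilpotent (G ⧸ Cfsg.fittingSubgroup G)) (χ : Cfsg.IrrCharacter G) (hprim : ¬ ∃ (H : Subgroup G), H ≠ ⊤ ∧ ∃ θ : ↥H → ℂ, Cfsg.IsCharacter ↥H θ ∧ Cfsg.indFun H θ = (χ : G → ℂ)) : ∃ g : G, Cfsg.charDegree (χ : G → ℂ) ∣ (Subgroup.centralizer ({g} : Set G)).index := by
  classical
  haveI := PF.odd_solvable hodd
  obtain ⟨p, q, hpq, h3⟩ := Finset.card_eq_two.1 h2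
  have hm : ∀ r, r.Prime → r ∣ Nat.card G → r = p ∨ r = q := fun r hr h => by
    have := Nat.mem_primeFactors.2 ⟨hr, h, Nat.card_pos.ne'⟩
    rw [h3] at this
    simpa using this
  haveI : Fact p.Prime := ⟨Nat.prime_of_mem_primeFactors (n := Nat.card G) (by rw [h3]; simp)⟩
  haveI : Fact q.Prime := ⟨Nat.prime_of_mem_primeFactors (n := Nat.card G) (by rw [h3]; simp)⟩
  obtain ⟨x, hx⟩ := Avg.exists_elt χ hprim p _ (key p)
  obtain ⟨y, hy⟩ := Avg.exists_elt χ hprim q _ (key q)
  have h4 : ⊤ ≤ pCore p (G ⧸ fittingSubgroup G) ⊔ pCore q (G ⧸ fittingSubgroup G) := by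
    rw [← Solv.fitting_eq_top_iff.2 hmeta]
    refine Solv.fitting_le_of_forall_pCore fun r hr => ?_
    haveI := Fact.mk hr
    rcases (Solv.isPGroup_pCore r (G ⧸ fittingSubgroup G)).card_eq_or_dvd with h | h
    · rw [Subgroup.card_eq_one.1 h]; exact bot_le
    · rcases hm r hr ((h.trans (Subgroup.card_subgroup_dvd_card _)).trans
        (Subgroup.card_quotient_dvd_card _)) with rfl | rfl
      · exact le_sup_left
      · exact le_sup_right
  have h5 := h4 (Subgroup.mem_top (QuotientGroup.mk' _ (x⁻¹ * y)))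
  rw [← SetLike.mem_coe, Subgroup.normal_mul] at h5
  obtain ⟨a, ha, b, hb, h5⟩ := h5
  obtain ⟨r, rfl⟩ := QuotientGroup.mk'_surjective _ a
  have h6 := hy (y⁻¹ * (x * r)) (by
    rw [Subgroup.mem_comap, show y⁻¹ * (x * r) = (x⁻¹ * y)⁻¹ * r by group, map_mul, map_inv, ← h5]
    simpa using hb)
  rw [mul_inv_cancel_left] at h6
  refine ⟨x * r, (Nat.factorization_prime_le_iff_dvd (charDegree_ne_zero χ)
    Subgroup.index_ne_zero_of_finite).1 fun s hs => ?_⟩
  by_cases h7 : s ∣ Nat.card G
  · rcases hm s hs h7 with rfl | rfl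
    · exact hx r ha
    · exact h6
  · rw [Nat.factorization_eq_zero_of_not_dvd fun h => h7 (h.trans (deg_dvd_card χ))]
    exact Nat.zero_le _

end Cfsg.Agent.S4993
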