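import Cfsg.Statements.S4996
import Cfsg.Agent.Lib.Char.Zeros

set_option autoImplicit false
open Cfsg

namespace Cfsg.Agent.S4996

open Cfsg.Agent.Char
open scoped ComplexConjugate

/-- Let N be a normal subgroup of the finite group G and χ an irreducible complex character of G. Then the restriction of χ to N is not irreducible if and only if χ vanishes on some whole coset Nx of N in G. -/
theorem result {G : Type*} [Group G] [Finite G] (N : Subgroup G) [N.Normal] (χ : Cfsg.IrrCharacter G) : ¬ Cfsg.IsIrrCharacter ↥N (fun n : ↥N => (χ : G → ℂ) n) ↔ ∃ x : G, ∀ n : ↥N, (χ : G → ℂ) ((n : G) * x) = 0 := by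
  classical
  have := Fintype.ofFinite G
  have := Fintype.ofFinite N
  refine ⟨fun h => ?_, fun ⟨x, hx⟩ h => ?_⟩
  swap
  · simpa [hx] using coset_average_norm χ.2.isCharacter h x
  by_contra! h0
  have hF := χ.2.isCharacter.mul χ.2.conj.isCharacter
  let ψ : G → ℂ := fun g => (Nat.card N : ℂ)⁻¹ * ∑ n : N, χ.1 (n * g) * conj (χ.1 (n * g))
  have h1 : ψ = ∑ β : IrrCharacter G with N ≤ charKer β.1,
      classInner (χ.1 * fun g => conj (χ.1 g)) β • β.1 := funext fun g => by
    simpa using coset_average hF.isClassFunction g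
  have h2 : IsCharacter G ψ := h1 ▸ IsCharacter.sum fun β _ => by
    obtain ⟨n, hn⟩ := hF.classInner_eq_nat β.2.isCharacter
    exact hn ▸ β.2.isCharacter.natCast_smul n
  have h3 : ∀ g, ‖ψ g‖ = (Nat.card N : ℝ)⁻¹ * ∑ n : N, ‖χ.1 (n * g)‖ ^ 2 := fun g => by
    simp only [ψ, Complex.mul_conj', ← Complex.ofReal_pow, ← Complex.ofReal_sum, norm_mul, norm_inv,
      Complex.norm_natCast, Complex.norm_real]
    rw [Real.norm_of_nonneg (by positivity)]
  have h6 : (0 : ℝ) < Nat.card N := by exact_mod_cast Nat.card_pos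
  have h4 : ∑ g, ‖ψ g‖ = Nat.card G := by
    simp only [h3, ← Finset.mul_sum]
    rw [Finset.sum_comm, Finset.sum_congr rfl (f := fun n : N => ∑ x, ‖χ.1 (n * x)‖ ^ 2) fun n _ =>
      (Equiv.sum_comp (Equiv.mulLeft (n : G)) fun g => ‖χ.1 g‖ ^ 2).trans χ.2.sum_norm_sq]
    simp [← mul_assoc]
  have h5 := card_ne_zero_le_sum h2.isGen (Finset.univ.filter (· ∉ N)) (fun k hk g => by
    simp [pow_mem_iff_of_coprime_card N hk]) 1
  rw [Finset.filter_true_of_mem fun g _ h => by
    obtain ⟨n, hn⟩ := h0 g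
    have := h3 g
    rw [h, norm_zero, eq_comm, mul_eq_zero, or_iff_right (inv_ne_zero h6.ne'),
      Finset.sum_eq_zero_iff_of_nonneg fun _ _ => by positivity] at this
    simpa [hn] using this n] at h5
  have h7 : ∀ n : N, ψ n = classInner (fun n : N => χ.1 n) (fun n : N => χ.1 n) := fun n =>
    congrArg ((Nat.card N : ℂ)⁻¹ * ·) (Equiv.sum_comp (Equiv.mulRight n) fun m : N => χ.1 m * conj (χ.1 m))
  obtain ⟨m, hm⟩ := (χ.2.isCharacter.res N).classInner_eq_nat (χ.2.isCharacter.res N)
  rw [← Finset.sum_filter_add_sum_filter_not _ (· ∈ N), Finset.sum_subtype (p := (· ∈ N))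
    (F := ‹Fintype N›) _ (by simp)] at h4
  have h8 := Finset.card_filter_add_card_filter_not (s := Finset.univ) (· ∈ N)
  rw [← Fintype.card_subtype, Finset.card_univ, Fintype.card_eq_nat_card,
    Fintype.card_eq_nat_card] at h8
  simp only [h7, hm, pow_one, ← h8, Complex.norm_natCast, Finset.sum_const, Finset.card_univ,
    Fintype.card_eq_nat_card, nsmul_eq_mul, Nat.cast_add] at h4 h5
  have h9 : m ≤ 1 := by exact_mod_cast (by nlinarith : (m : ℝ) ≤ 1)
  interval_cases m
  · exact χ.2.apply_one_ne_zero (congrFun (classInner_self_eq_zero.1 (hm.trans Nat.cast_zero)) 1)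
  · exact h ((χ.2.isCharacter.res N).isIrr_of_classInner_self (by simpa using hm))

end Cfsg.Agent.S4996
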