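import Cfsg.Statements.S5001
import Cfsg.Agent.Lib.Block.Cent

set_option autoImplicit false
open Cfsg

namespace Cfsg.Agent.S5001

open Cfsg.Agent.Blk
open Cfsg.Agent.Char hiding cj cj_mul cj_inv_cj cj_cj_inv

/-- Let p be a prime, G a finite group and B a p-block of G (relative to a maximal ideal M of the algebraic integers containing p) with defect group D. Let Z be a central p-subgroup of G contained in D and λ a linear character of Z (a homomorphism to the nonzero complex numbers). Say an irreducible character χ of G lies over λ when χ(z) = χ(1)λ(z) for all z ∈ Z. If some irreducible character in B lying over λ has height zero, then λ extends to a linear character of D. -/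
theorem result {G : Type*} [Group G] [Finite G] (p : ℕ) [Fact p.Prime] (M : Ideal Cfsg.AlgInt) (hM : Cfsg.IsPModular p M) (B : Set (Cfsg.IrrCharacter G)) (hB : Cfsg.IsPBlock M B) (D : Subgroup G) (hD : Cfsg.IsDefectGroup p M B D) (Z : Subgroup G) (hZc : Z ≤ Subgroup.center G) (hZp : IsPGroup p ↥Z) (hZD : Z ≤ D) (lam : ↥Z →* ℂˣ) (χ : Cfsg.IrrCharacter G) (hχ : χ ∈ B) (hover : (∀ z : ↥Z, (χ : G → ℂ) z = (χ : G → ℂ) 1 * (lam z : ℂ))) (h0 : Cfsg.blockHeight p B (χ : G → ℂ) = 0) : (∃ μ : ↥D →* ℂˣ, ∀ z : ↥Z, μ ⟨(z : G), hZD z.2⟩ = lam z) := by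
  haveI : PMod M p := ⟨hM⟩
  have hD' := hB.isDefectGroup_iff.1 hD
  obtain ⟨e, hm⟩ := hD'.exists_isMP hB.isBlock
  let K := D ⊔ Ce D
  have := Fintype.ofFinite K
  have := Fintype.ofFinite D
  have := Fintype.ofFinite Z
  have hK : IsBlock K e := by simpa only [top_inf_eq] using hm.bp.isBlock_sup
  have hKN : K ≤ No D := sup_le (le_No D) (Ce_le_No D)
  obtain ⟨b, hb, rfl⟩ := exists_isPBlock_barS_eq hK
  have h1 : IsInducedBlock M K b B := isInducedBlock_iff.2 ⟨hb, hB, (ind_iff_Br hD'.pg le_sup_left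
    (inf_le_right.trans le_sup_right) le_top hKN hK hB.isBlock).2 hm.eq⟩
  obtain ⟨ξ, hξ⟩ := hb.nonempty
  obtain ⟨ψ, h2, h3⟩ := exists_not_LI_om_zr (χ.2.isGen.res K) ξ
    ((not_LI_om_zr_res_iff h1 hξ χ).2 ⟨hχ, h0⟩)
  obtain ⟨h4, h5⟩ := hb.mem_height_zero_of_not_LI hξ h3
  have h6 := hm.isDef_of_le le_sup_left (le_inf le_top hKN) hK
  obtain ⟨ζ, hζ, h7⟩ := (ψ.2.isCharacter.res_le (le_sup_left : D ≤ K)).exists_irr_constituent
    fun h => ψ.2.apply_one_ne_zero (congrFun h 1)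
  have h8 := nu_eq_of_le_sup (ζ := ⟨ζ, hζ⟩) le_sup_left le_rfl (by rwa [hb.es_blk_eq h4]) h7
  have h9 := hb.mnu_eq_index (hb.isDefectGroup_iff.1
    ((hb.isDefectGroup_subgroupOf_iff le_sup_left).2 h6))
  rw [(height_eq_zero_iff h4).1 h5, h9] at h8
  have h10 := charDegree_eq_one_of_nu hD'.pg (ζ := ⟨ζ, hζ⟩) (by
    change _ = _ + (D.subgroupOf K).index.factorization p at h8; omega)
  obtain ⟨μ, rfl⟩ := hζ.isCharacter.exists_units_of_apply_one h10
  refine ⟨μ, fun z => ?_⟩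
  have h12 : classInner (fun d : D => χ.1 d) (fun d => (μ d : ℂ)) ≠ 0 := by
    have := Fintype.ofFinite (D.subgroupOf K)
    rw [← classInner_subgroupOf (le_sup_left : D ≤ K)] at h7 ⊢
    exact (χ.2.isCharacter.res K).classInner_res_ne_zero ψ.2 (ne_zero_of_not_LI h2) _
      ((isIrr_subgroupOf_iff le_sup_left).2 hζ).isCharacter h7
  by_contra hne
  refine h12 ?_
  have hz : (z : G) ∈ charCenter χ.1 := χ.2.center_le_charCenter (hZc z.2)
  have h13 : ∀ d : D, χ.1 (z * d) = lam z * χ.1 d := fun d => by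
    refine mul_right_cancel₀ χ.2.apply_one_ne_zero ?_
    rw [IsCharacter.apply_mul_of_mem_charCenter hz, hover]; ring
  have h14 := Equiv.sum_comp (Equiv.mulLeft (⟨z, hZD z.2⟩ : D)) fun d : D => χ.1 d * (starRingEnd ℂ) (μ d : ℂ)
  simp only [Equiv.coe_mulLeft, Subgroup.coe_mul, h13, map_mul, Units.val_mul] at h14
  rw [Finset.sum_congr rfl fun (d : D) _ => show (lam z : ℂ) * χ.1 d * ((starRingEnd ℂ) (μ ⟨z, hZD z.2⟩ : ℂ) * (starRingEnd ℂ) (μ d : ℂ)) = ((lam z : ℂ) * (starRingEnd ℂ) (μ ⟨z, hZD z.2⟩ : ℂ)) *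
    (χ.1 d * (starRingEnd ℂ) (μ d : ℂ)) by ring, ← Finset.mul_sum, mul_left_eq_self₀] at h14
  rw [classInner, h14.resolve_left fun h => hne ?_, mul_zero]
  rw [conj_units_hom, ← Units.val_mul, Units.val_eq_one, mul_inv_eq_one] at h
  exact h.symm

end Cfsg.Agent.S5001
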