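import Cfsg.Statements.S5011
import Cfsg.Agent.Lib.Char.Basic

set_option autoImplicit false
open Cfsg

namespace Cfsg.Agent.S5011

open Cfsg.Agent.Char

/-- Let G be a finite non-abelian simple group and ρ an irreducible complex representation of G on a space of dimension greater than one (irreducible in the sense that the only subspaces invariant under every ρ(x) are 0 and the whole space). Then for every non-identity element g of G, the centralizer of g does not act irreducibly: there is a non-zero proper subspace invariant under ρ(c) for every c commuting with g. -/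
theorem result {G : Type*} [Group G] [Finite G] [IsSimpleGroup G]
    (hG : ¬ IsMulCommutative G) {V : Type*} [AddCommGroup V] [Module ℂ V] [FiniteDimensional ℂ V]
    (ρ : Representation ℂ G V)
    (hirr : ∀ W : Submodule ℂ V, (∀ x : G, ∀ v ∈ W, ρ x v ∈ W) → W = ⊥ ∨ W = ⊤)
    (hdim : 1 < Module.finrank ℂ V) (g : G) (hg : g ≠ 1) :
    ∃ W : Submodule ℂ V, W ≠ ⊥ ∧ W ≠ ⊤ ∧ ∀ c ∈ Subgroup.centralizer ({g} : Set G), ∀ v ∈ W, ρ c v ∈ W := by
  have : Nontrivial V := Module.nontrivial_of_finrank_pos (R := ℂ) (by omega)
  obtain ⟨c, hc⟩ := Module.End.exists_eigenvalue (ρ g)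
  refine ⟨Module.End.eigenspace (ρ g) c, hc, fun h => ?_, fun x hx v hv => ?_⟩
  · let N : Subgroup G :=
      { carrier := {x | ∀ W : Submodule ℂ V, ∀ v ∈ W, ρ x v ∈ W}
        mul_mem' := fun {a b} ha hb W v hv => by simpa using ha W _ (hb W v hv)
        one_mem' := fun W v hv => by simpa using hv
        inv_mem' := fun {a} ha W v hv => by
          rw [← mul_one a⁻¹, ← pow_orderOf_eq_one a, ← Nat.sub_add_cancel (orderOf_pos a), pow_succ',
            inv_mul_cancel_left]
          generalize orderOf a - 1 = n
          induction n with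
          | zero => simpa using hv
          | succ n ih => simpa [pow_succ'] using ha W _ ih }
    have hN : N.Normal := ⟨fun a ha x W v hv => by
      simpa using ha (W.comap (ρ x)) (ρ x⁻¹ v) (by simpa [← Module.End.mul_apply, ← map_mul] using hv)⟩
    have h1 : N = ⊤ := hN.eq_bot_or_eq_top.resolve_left fun h1 => hg (by
      rw [← Subgroup.mem_bot, ← h1]
      intro W v hv
      rw [Module.End.mem_eigenspace_iff.1 (h ▸ Submodule.mem_top)]
      exact W.smul_mem c hv)
    obtain ⟨v, hv⟩ := exists_ne (0 : V)
    rcases hirr (ℂ ∙ v) fun x => (h1 ▸ Subgroup.mem_top x : x ∈ N) _ with h2 | h2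
    · exact hv (Submodule.span_singleton_eq_bot.1 h2)
    · have := finrank_span_singleton (K := ℂ) hv
      rw [h2, finrank_top] at this
      omega
  · rw [Module.End.mem_eigenspace_iff] at hv ⊢
    rw [← Module.End.mul_apply, ← map_mul, ← Subgroup.mem_centralizer_singleton_iff.1 hx, map_mul,
      Module.End.mul_apply, hv, map_smul]

end Cfsg.Agent.S5011
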