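import Cfsg.Statements.S5014
import Cfsg.Agent.Lib.Root.R1

set_option autoImplicit false
open Cfsg

namespace Cfsg.Agent.S5014

open Cfsg.Agent.Root

/-- Let X = ⟨A, B⟩ be a rank one group with unipotent subgroups A and B and let Ω be the set of conjugates of A under X. Then Ω has at least three members, X acts doubly transitively on Ω by conjugation (any two ordered pairs of distinct members are carried to one another by a single element of X), and A acts regularly on Ω with A removed: for C, D in Ω different from A there is exactly one element of A conjugating C to D. -/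
theorem result {G : Type*} [Group G] {A B : Subgroup G} (h : Cfsg.IsRankOnePair A B) :
    (∃ C₁ ∈ Cfsg.unipotentSubgroups A B, ∃ C₂ ∈ Cfsg.unipotentSubgroups A B, ∃ C₃ ∈ Cfsg.unipotentSubgroups A B,
      C₁ ≠ C₂ ∧ C₁ ≠ C₃ ∧ C₂ ≠ C₃) ∧
    (∀ C₁ ∈ Cfsg.unipotentSubgroups A B, ∀ C₂ ∈ Cfsg.unipotentSubgroups A B, ∀ D₁ ∈ Cfsg.unipotentSubgroups A B,
      ∀ D₂ ∈ Cfsg.unipotentSubgroups A B, C₁ ≠ C₂ → D₁ ≠ D₂ →
        ∃ x ∈ A ⊔ B, Cfsg.conjBy C₁ x = D₁ ∧ Cfsg.conjBy C₂ x = D₂) ∧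
    (∀ C ∈ Cfsg.unipotentSubgroups A B, ∀ D ∈ Cfsg.unipotentSubgroups A B, C ≠ A → D ≠ A →
      ∃! a : G, a ∈ A ∧ Cfsg.conjBy C a = D) := by
  have h : R1 A B := h
  refine ⟨?_, fun C₁ h1 C₂ h2 D₁ h3 D₂ h4 n1 n2 => ?_, fun C hC D hD n1 n2 => ?_⟩
  · obtain ⟨a, ha, h1⟩ := h.exists_ne
    exact ⟨A, h.left_mem, B, h.right_mem, a • B, R1.smul_mem h.right_mem (Subgroup.mem_sup_left ha), h.ne,
      (h.smul_ne ha).symm, (h.r1_smul ha h1).ne⟩
  · obtain ⟨x, hx, rfl, rfl⟩ := h.two_trans h1 h2 n1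
    obtain ⟨y, hy, rfl, rfl⟩ := h.two_trans h3 h4 n2
    refine ⟨y * x⁻¹, Subgroup.mul_mem _ hy (Subgroup.inv_mem _ hx), ?_, ?_⟩ <;>
      rw [conjBy_eq, mul_smul, inv_smul_smul]
  · obtain ⟨a, ha, rfl⟩ := (h.mem_Om.1 hC).resolve_left n1
    obtain ⟨b, hb, rfl⟩ := (h.mem_Om.1 hD).resolve_left n2
    refine ⟨b * a⁻¹, ⟨A.mul_mem hb (A.inv_mem ha), by rw [conjBy_eq, mul_smul, inv_smul_smul]⟩, fun c ⟨hc, e⟩ => ?_⟩
    rw [conjBy_eq, ← mul_smul] at e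
    rw [← h.inj (A.mul_mem hc ha) hb e, mul_inv_cancel_right]

end Cfsg.Agent.S5014
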