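import Cfsg.Statements.S5015
import Cfsg.Agent.Lib.Root.R1

set_option autoImplicit false
open Cfsg

namespace Cfsg.Agent.S5015

open Cfsg.Agent.Root

/-- Let a group Y act doubly transitively on a set Ω with at least three points, and suppose that the stabilizer of a point α contains a nilpotent subgroup A, normalized by that stabilizer, which acts regularly on the points other than α. Then for any y in Y moving α, the subgroups A and y A y⁻¹ are the unipotent subgroups of a rank one group, and the normal closure of A in Y (the subgroup generated by all conjugates of A) is generated by A and y A y⁻¹ alone. -/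
theorem result {Y Ω : Type*} [Group Y] [MulAction Y Ω]
    (h2 : MulAction.IsMultiplyPretransitive Y Ω 2) (hΩ : 3 ≤ ENat.card Ω) (α : Ω) (A : Subgroup Y)
    (hA : A ≤ MulAction.stabilizer Y α) (hAn : ∀ y ∈ MulAction.stabilizer Y α, Cfsg.conjBy A y = A)
    (hnil : Group.IsNilpotent A) (hreg : ∀ β γ : Ω, β ≠ α → γ ≠ α → ∃! a : Y, a ∈ A ∧ a • β = γ)
    (y : Y) (hy : y ∉ MulAction.stabilizer Y α) :
    Cfsg.IsRankOnePair A (Cfsg.conjBy A y) ∧ Subgroup.normalClosure (A : Set Y) = A ⊔ Cfsg.conjBy A y := by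
  haveI := h2
  have hAn : ∀ y : Y, y • α = α → y • A = A := hAn
  have hy : y • α ≠ α := hy
  have wd : ∀ g k : Y, g • α = k • α → g • A = k • A := fun g k e => by
    rw [← inv_smul_eq_iff, ← mul_smul]; exact hAn _ (by rw [mul_smul, e, inv_smul_smul])
  have hA : ∀ a ∈ A, a • α = α := hA
  obtain ⟨γ, g1, g2⟩ : ∃ γ : Ω, γ ≠ α ∧ γ ≠ y • α := by
    by_contra hc
    push Not at hc
    have : ENat.card Ω ≤ 2 := by
      rw [← Set.encard_univ]
      refine (Set.encard_le_encard (show Set.univ ⊆ {α, y • α} from fun x _ => ?_)).trans ?_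
      · by_cases e : x = α
        · simp [e]
        · simp [hc x e]
      · exact (Set.encard_insert_le _ _).trans (by simp; rfl)
    exact absurd (hΩ.trans this) (by decide)
  have key : ∀ g k : Y, g • α ≠ k • α → RankOneCondition (g • A) (k • A) := by
    intro g k hne a ha h1
    obtain ⟨a', ha', rfl⟩ := exists_of_mem_smul ha
    set a := g * a' * g⁻¹ with hadef
    have f1 : a • g • α = g • α := by rw [hadef, mul_smul, mul_smul, inv_smul_smul, hA a' ha']
    have n1 : k⁻¹ • a⁻¹ • k • α ≠ α := fun e => by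
      rw [inv_smul_eq_iff, inv_smul_eq_iff] at e
      have n : g⁻¹ • k • α ≠ α := fun e => hne (by rw [inv_smul_eq_iff] at e; exact e.symm)
      obtain ⟨c, -, hc⟩ := hreg _ _ n n
      have e1 := hc a' ⟨ha', by rw [eq_inv_smul_iff, ← mul_smul, ← mul_smul, ← hadef, ← e]⟩
      have e2 := hc 1 ⟨A.one_mem, one_smul _ _⟩
      exact h1 (by rw [hadef, e1, ← e2]; simp)
    have n2 : k⁻¹ • g • α ≠ α := fun e => hne (by rw [inv_smul_eq_iff] at e; exact e)
    obtain ⟨c, ⟨hc, e⟩, -⟩ := hreg _ _ n1 n2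
    have e' : (k * c * k⁻¹)⁻¹ • g • α = a⁻¹ • k • α := by
      rw [inv_smul_eq_iff, mul_smul, mul_smul, e, smul_inv_smul]
    refine ⟨k * c * k⁻¹, conj_mem hc k, fun e1 => hne ?_, ?_⟩
    · rw [e1, inv_one, one_smul, eq_inv_smul_iff, f1] at e'; exact e'
    · rw [conjBy_eq, conjBy_eq, ← mul_smul, ← mul_smul]
      exact wd _ _ (by rw [mul_smul, mul_smul, e'])
  have hy' : (1 : Y) • α ≠ y • α := by rw [one_smul]; exact hy.symm
  refine ⟨⟨fun e => ?_, hnil, nilpotent_map _ hnil, by simpa [conjBy_eq] using key 1 y hy',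
    by simpa [conjBy_eq] using key y 1 hy'.symm⟩, le_antisymm ?_ (sup_le Subgroup.le_normalClosure ?_)⟩
  · obtain ⟨a, ⟨ha, e'⟩, -⟩ := hreg _ _ hy g1
    rw [e] at ha
    obtain ⟨a', ha', rfl⟩ := exists_of_mem_smul ha
    rw [mul_smul, mul_smul, inv_smul_smul, hA a' ha'] at e'
    exact g2 e'.symm
  · rw [Subgroup.normalClosure, Subgroup.closure_le]
    intro x hx
    obtain ⟨a, ha, hc⟩ := Group.mem_conjugatesOfSet_iff.1 hx
    obtain ⟨g, rfl⟩ := isConj_iff.1 hc
    have : g • A ≤ A ⊔ y • A := by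
      by_cases e : g • α = α
      · rw [hAn g e]; exact le_sup_left
      · obtain ⟨c, ⟨hc, e'⟩, -⟩ := hreg _ _ hy e
        rw [← wd (c * y) g (by rw [mul_smul, e']), mul_smul]
        exact smul_le le_sup_right (Subgroup.mem_sup_left hc)
    exact this (conj_mem ha g)
  · intro x hx
    obtain ⟨a, ha, rfl⟩ := exists_of_mem_smul hx
    exact Subgroup.normalClosure_normal.conj_mem _ (Subgroup.le_normalClosure ha) y

end Cfsg.Agent.S5015
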