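import Cfsg.Statements.S5018
import Cfsg.Agent.Lib.Root.R1

set_option autoImplicit false
open Cfsg

namespace Cfsg.Agent.S5018

open Cfsg.Agent.Root

/-- A rank one group is not nilpotent, and its second centre equals its centre. -/
theorem result {X : Type*} [Group X] {A B : Subgroup X} (h : Cfsg.IsRankOneGroup X A B) :
    Subgroup.upperCentralSeries X 2 = Subgroup.center X ∧ ¬ Group.IsNilpotent X := by
  obtain ⟨e, h⟩ := h
  have h : R1 A B := h
  refine ⟨le_antisymm (fun z hz => ?_) ?_, fun hn => h.not_le_nilpotent (K := ⊤) inferInstance le_top le_top⟩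
  · rw [Subgroup.mem_center_iff]
    intro g
    refine (h.comm_of_comm2 (e ▸ Subgroup.mem_top z) (fun x _ y _ => ?_) g (e ▸ Subgroup.mem_top g)).symm
    have := Subgroup.mem_upperCentralSeries_succ_iff.1 hz x
    rw [Subgroup.upperCentralSeries_one, Subgroup.mem_center_iff] at this
    exact (this y).symm
  · rw [← Subgroup.upperCentralSeries_one]
    exact Subgroup.upperCentralSeries_mono X (by norm_num)

end Cfsg.Agent.S5018
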