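import Cfsg.Statements.S5020
import Cfsg.Agent.Lib.Root.Spec
import Cfsg.Agent.Lib.Comp.Comp

set_option autoImplicit false
open Cfsg

namespace Cfsg.Agent.S5020

open Cfsg.Agent.Root

/-- Let X be a special rank one group with abelian unipotent subgroups A and B, and H = N(A) ∩ N(B) its diagonal subgroup. Then either A has at most three elements and X is isomorphic to SL₂(2), SL₂(3) or PSL₂(3); or X = X' A with the commutator subgroup X' quasisimple and the commutator subgroup ⁅A, H⁆ having more than three elements. -/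
theorem result {X : Type*} [Group X] {A B : Subgroup X} (h : Cfsg.IsRankOneGroup X A B)
    (hs : Cfsg.IsSpecialRankOnePair A B) (hab : Cfsg.HasAbelianUnipotents A B) :
    (ENat.card A ≤ 3 ∧ (Nonempty (X ≃* Matrix.SpecialLinearGroup (Fin 2) (ZMod 2)) ∨
        Nonempty (X ≃* Matrix.SpecialLinearGroup (Fin 2) (ZMod 3)) ∨
        Nonempty (X ≃* Matrix.ProjectiveSpecialLinearGroup (Fin 2) (ZMod 3)))) ∨
    (commutator X ⊔ A = ⊤ ∧ Cfsg.IsQuasisimple (commutator X) ∧
      3 < ENat.card ↥(⁅A, Cfsg.rankOneDiagonal A B⁆ : Subgroup X)) := by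
  have hs : Sp A B := hs
  have c := cm_self.1 hab.1
  by_cases h3 : 3 < ENat.card A
  · right
    have e := hs.perfect c h3
    rw [h.1, ← commutator_def] at e
    refine ⟨by rw [e, top_sup_eq], ?_, by rwa [hs.comm_diag c h3]⟩
    rw [e]
    exact Comp.isQuasisimple_congr Subgroup.topEquiv.symm (R1.quasi h.2 h.1 ⟨e⟩)
  · left
    rw [not_lt] at h3
    refine ⟨h3, ?_⟩
    haveI : Finite A := ENat.card_lt_top.1 (h3.trans_lt (by decide))
    obtain ⟨a, ha, h1⟩ := hs.r1.exists_ne
    obtain ⟨y, hy, y1, e⟩ := hs.r1.ex (A.inv_mem ha) (by simpa using h1)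
    have c3 : Nat.card A ≤ 3 := by rw [ENat.card_eq_coe_natCard] at h3; exact_mod_cast h3
    have c1 : 1 < Nat.card A := (Subgroup.one_lt_card_iff_ne_bot A).2 fun e => h1 (by simpa [e] using ha)
    obtain ⟨x, hx, ex⟩ := hs.r1.exists_smul_eq
    have cB : Nat.card B = Nat.card A := by rw [← ex]; exact Subgroup.card_map_of_injective (MulAut.conj x).injective
    have key : ∀ p : ℕ, ∀ _ : Fact p.Prime, Nat.card A = p → IsPSL2PairOver (ZMod p) A B := fun p hp ep => by
      have := hs.psl2_prime c (p := p) (fun a ha => by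
        have := pow_card_eq_one' (x := (⟨a, ha⟩ : A)); rw [ep] at this; exact congrArg Subtype.val this) ha h1 hy e
      have k : ∀ C : Subgroup X, Nat.card C = p → ∀ a ∈ C, a ≠ 1 → Subgroup.zpowers a = C := fun C hC a ha h1 => by
        have := congrArg (Subgroup.map C.subtype) (zpowers_eq_top_of_prime_card hC (g := ⟨a, ha⟩) fun e => h1 (congrArg Subtype.val e))
        rwa [MonoidHom.map_zpowers, ← MonoidHom.range_eq_map, Subgroup.range_subtype] at this
      rwa [k A ep a ha h1, k B (cB.trans ep) y hy y1] at this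
    obtain e2 | e2 : Nat.card A = 2 ∨ Nat.card A = 3 := by omega
    · rcases psl2_iso (key 2 inferInstance e2) with ⟨⟨f⟩⟩ | ⟨-, f⟩
      · rw [h.1] at f; exact Or.inl ⟨Subgroup.topEquiv.symm.trans f⟩
      · exact absurd rfl f
    · rcases psl2_iso (key 3 inferInstance e2) with ⟨⟨f⟩⟩ | ⟨⟨f⟩, -⟩
      · rw [h.1] at f; exact Or.inr (Or.inl ⟨Subgroup.topEquiv.symm.trans f⟩)
      · rw [h.1] at f; exact Or.inr (Or.inr ⟨Subgroup.topEquiv.symm.trans f⟩)

end Cfsg.Agent.S5020
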