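import Cfsg.Statements.S5026
import Cfsg.Agent.Lib.Root.ARS2

set_option autoImplicit false
open Cfsg

namespace Cfsg.Agent.S5026

open Cfsg.Agent.Root

/-- Let S be a degenerate set of abstract root subgroups of G (a set of abstract transvection groups) and let a, b be commuting non-identity elements of members of S with a b ≠ 1. Then the members of S centralizing a b are exactly those centralizing both a and b. -/
theorem result {G : Type*} [Group G] {S : Set (Subgroup G)} (hS : Cfsg.IsRootSubgroupSet S) (hdeg : Cfsg.IsDegenerateRootSet S)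
    {a b : G} (ha : a ∈ Cfsg.rootElements S) (hb : b ∈ Cfsg.rootElements S) (hab : a * b = b * a) (hab1 : a * b ≠ 1) :
    Cfsg.centralizingMembers S (Subgroup.zpowers (a * b)) =
      Cfsg.centralizingMembers S (Subgroup.zpowers a) ∩ Cfsg.centralizingMembers S (Subgroup.zpowers b) := by
  have h : AR S := hS
  have k : ∀ (E : Subgroup G) (x : G), E ≤ Subgroup.centralizer (Subgroup.zpowers x : Set G) ↔ ∀ e ∈ E, x * e = e * x :=
    fun E x => ⟨fun h e he => h he x (Subgroup.mem_zpowers x), fun h e he y ⟨n, hn⟩ => by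
      rw [← hn]; exact (Commute.zpow_left (h e he) n).eq⟩
  obtain ⟨a1, A, hA, ha⟩ := ha
  obtain ⟨b1, B, hB, hb⟩ := hb
  ext E
  simp only [centralizingMembers, Set.mem_inter_iff, Set.mem_ofPred_eq, k]
  refine ⟨fun ⟨hE, c⟩ => ?_, fun ⟨⟨hE, c⟩, _, c'⟩ => ⟨hE, fun e he => by rw [mul_assoc, c' e he, ← mul_assoc, c e he, mul_assoc]⟩⟩
  suffices c1 : ∀ e ∈ E, a * e = e * a from ⟨⟨hE, c1⟩, hE, fun e he => by
    rw [← mul_right_inj a, ← mul_assoc, c e he, ← mul_assoc, ← mul_assoc, c1 e he]⟩
  rcases h.tri hA hE with c1 | r | t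
  · exact c1 a ha
  · exfalso
    have q : a • E = b⁻¹ • E := by rw [eq_inv_smul_iff, ← mul_smul, ← hab, smul_eq_of_comm c]
    have m := AR.mem_Om_of r (h.r1_of hB hE (B.inv_mem hb) (q ▸ r.r1_smul ha a1)) ha (B.inv_mem hb) (by simpa using b1) q
    have e : A = b • A := h.ti ⟨E, hE, r⟩ (h.smul hA b) ha (by rw [mem_smul, mul_assoc, hab]; simpa using ha) a1
    have := r.eq_of_mem m r.left_mem b1 hb e.symm
    exact hab1 (r.eq_one (A.mul_mem ha (this ▸ hb)) (smul_eq_of_comm c))
  · exact absurd t (hdeg A hA E hE)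

end Cfsg.Agent.S5026
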