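import Cfsg.Statements.S5027
import Cfsg.Agent.Lib.Root.ARS2

set_option autoImplicit false
open Cfsg

namespace Cfsg.Agent.S5027

open Cfsg.Agent.Root

/-- Let S be a set of abstract root subgroups of G such that every member of S has a rank one partner in S (the graph of rank one pairs on S has no isolated vertex). Then the second centre of G equals its centre. -/
theorem result {G : Type*} [Group G] {S : Set (Subgroup G)} (hS : Cfsg.IsRootSubgroupSet S)
    (hF : ∀ A ∈ S, ¬ Cfsg.IsIsolatedIn (Cfsg.FAdj S) S A) : Subgroup.upperCentralSeries G 2 = Subgroup.center G := by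
  have h : AR S := hS
  refine le_antisymm (fun z hz => ?_) ?_
  · rw [Subgroup.mem_center_iff]
    refine h.top_ind (fun A hA a ha => ?_) (by simp) fun x y p q => by rw [mul_assoc, q, ← mul_assoc, p, mul_assoc]
    by_cases a1 : a = 1
    · simp [a1]
    obtain ⟨B, hB, r⟩ := (ni_iff hA).1 (hF A hA)
    have := Subgroup.mem_upperCentralSeries_succ_iff.1 hz a
    rw [Subgroup.upperCentralSeries_one, Subgroup.mem_center_iff, commutatorElement_def] at this
    have := h.no_shift hB r (h.cm hA) (fun x _ => (this x).symm) (fun x _ => (this x).symm) ha a1 (h.smul hA z)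
      (by simpa using conj_mem ha z)
    rw [mul_inv_eq_one, mul_inv_eq_iff_eq_mul] at this
    exact this.symm
  · rw [← Subgroup.upperCentralSeries_one]
    exact Subgroup.upperCentralSeries_mono G (by norm_num)

end Cfsg.Agent.S5027
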