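import Cfsg.Statements.S5030
import Cfsg.Agent.Lib.Root.ARS2

set_option autoImplicit false
open Cfsg

namespace Cfsg.Agent.S5030

open Cfsg.Agent.Root

/-- Let S be a set of abstract root subgroups of G and A, B, C ∈ S with ⁅A, B⁆ ∈ S and ⁅B, C⁆ ∈ S, where A and C are different and commute. For a non-identity b ∈ B put X = ⟨A, b⁻¹ C b⟩ and Y = ⟨b⁻¹ A b, C⟩ and R = ⟨A, B, C⟩. Then X and Y are either both abelian or both nilpotent of class exactly two; X and Y commute elementwise; XY is normal in R with R = (XY) B; and R is nilpotent. -/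
theorem result {G : Type*} [Group G] {S : Set (Subgroup G)} (hS : Cfsg.IsRootSubgroupSet S)
    {A B C : Subgroup G} (hA : A ∈ S) (hB : B ∈ S) (hC : C ∈ S) (hAB : ⁅A, B⁆ ∈ S) (hBC : ⁅B, C⁆ ∈ S)
    (hAC : C ∈ Cfsg.commutingPartners S A)
    {b : G} (hb : b ∈ B) (hb1 : b ≠ 1) :
    ((IsMulCommutative ↥(A ⊔ Cfsg.conjBy C b⁻¹) ∧ IsMulCommutative ↥(Cfsg.conjBy A b⁻¹ ⊔ C)) ∨
      ((¬ IsMulCommutative ↥(A ⊔ Cfsg.conjBy C b⁻¹) ∧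
          ⁅⁅A ⊔ Cfsg.conjBy C b⁻¹, A ⊔ Cfsg.conjBy C b⁻¹⁆, A ⊔ Cfsg.conjBy C b⁻¹⁆ = ⊥) ∧
        (¬ IsMulCommutative ↥(Cfsg.conjBy A b⁻¹ ⊔ C) ∧
          ⁅⁅Cfsg.conjBy A b⁻¹ ⊔ C, Cfsg.conjBy A b⁻¹ ⊔ C⁆, Cfsg.conjBy A b⁻¹ ⊔ C⁆ = ⊥))) ∧
    ⁅A ⊔ Cfsg.conjBy C b⁻¹, Cfsg.conjBy A b⁻¹ ⊔ C⁆ = ⊥ ∧
    (∀ r ∈ A ⊔ B ⊔ C, Cfsg.conjBy ((A ⊔ Cfsg.conjBy C b⁻¹) ⊔ (Cfsg.conjBy A b⁻¹ ⊔ C)) r =
      (A ⊔ Cfsg.conjBy C b⁻¹) ⊔ (Cfsg.conjBy A b⁻¹ ⊔ C)) ∧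
    ((A ⊔ Cfsg.conjBy C b⁻¹) ⊔ (Cfsg.conjBy A b⁻¹ ⊔ C)) ⊔ B = A ⊔ B ⊔ C ∧
    Group.IsNilpotent ↥(A ⊔ B ⊔ C) := by
  have h : AR S := hS
  have t1 := h.t3_of_mem hA hB hAB
  have t2 := (h.t3_of_mem hB hC hBC).symm
  have c : Cm A C := cm_iff.1 hAC.2.2
  have hb' := B.inv_mem hb
  have b1 : b⁻¹ ≠ 1 := by simpa using hb1
  simp only [conjBy_eq]
  have e := h.triple_sup hA hC t1 t2 c hb' b1
  have i1 : Cm (A ⊔ b⁻¹ • C) (A ⊔ b⁻¹ • C) ↔ Cm A ⁅C, B⁆ := by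
    rw [← h.triple_cm_iff hA hC t1 t2 c hb' b1]
    exact ⟨fun k => k.mono le_sup_left le_sup_right,
      fun k => ((h.cm hA).sup k.symm).sup' (k.sup (h.cm (h.smul hC _)))⟩
  have i2 : Cm (b⁻¹ • A ⊔ C) (b⁻¹ • A ⊔ C) ↔ Cm A ⁅C, B⁆ := by
    rw [← h.triple_cm_iff hA hC t1 t2 c hb hb1, ← cm_smul b⁻¹ (A := A), inv_smul_smul]
    exact ⟨fun k => k.mono le_sup_left le_sup_right,
      fun k => ((h.cm (h.smul hA _)).sup k.symm).sup' (k.sup (h.cm hC))⟩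
  refine ⟨?_, cm_iff.2 (h.triple_cm hA hC t1 t2 c hb'), ?_, ?_, h.triple_nilpotent hA hC t1 t2 c hB⟩
  · rw [cm_self, cm_self, i1, i2, cl2_iff, cl2_iff]
    by_cases k : Cm A ⁅C, B⁆
    · exact Or.inl ⟨k, k⟩
    · exact Or.inr ⟨⟨k, h.triple_cl2 hA hC t1 t2 c hb' b1⟩, k, sup_comm C _ ▸ h.triple_cl2 hC hA t2 t1 c.symm hb' b1⟩
  · rw [e]
    refine smul_of_sup (smul_of_sup (fun x hx => smul_of_mem ?_) fun x hx => ?_) fun x hx => smul_of_mem ?_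
    · exact Subgroup.mem_sup_left (Subgroup.mem_sup_left hx)
    · rw [smul_sup, t1.smul_line (Subgroup.mem_sup_right hx), t2.smul_line (Subgroup.mem_sup_right hx)]
    · exact Subgroup.mem_sup_right (Subgroup.mem_sup_left hx)
  · have lA : A ≤ A ⊔ B ⊔ C := le_sup_left.trans le_sup_left
    have lB : B ≤ A ⊔ B ⊔ C := le_sup_right.trans le_sup_left
    refine le_antisymm (sup_le (sup_le (sup_le lA (smul_le le_sup_right (lB hb'))) (sup_le (smul_le lA (lB hb')) le_sup_right)) lB)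
      (sup_le (sup_le ?_ le_sup_right) ?_)
    · exact le_sup_of_le_left (le_sup_of_le_left le_sup_left)
    · exact le_sup_of_le_left (le_sup_of_le_right le_sup_right)

end Cfsg.Agent.S5030
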