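import Cfsg.Statements.S5031
import Cfsg.Agent.Lib.Root.ARS2

set_option autoImplicit false
open Cfsg

namespace Cfsg.Agent.S5031

open Cfsg.Agent.Root

/-- Let S be a set of abstract root subgroups of G and let A, B ∈ S lie in different connected components of the graph of rank one pairs on S, each component having more than one member. Then B is not a line partner of A. -/
theorem result {G : Type*} [Group G] {S : Set (Subgroup G)} (hS : Cfsg.IsRootSubgroupSet S)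
    {A B : Subgroup G} (hA : A ∈ S) (hB : B ∈ S)
    (hne : Cfsg.componentOf (Cfsg.FAdj S) S A ≠ Cfsg.componentOf (Cfsg.FAdj S) S B)
    (hA2 : ∃ A' ∈ Cfsg.componentOf (Cfsg.FAdj S) S A, A' ≠ A) (hB2 : ∃ B' ∈ Cfsg.componentOf (Cfsg.FAdj S) S B, B' ≠ B) :
    B ∉ Cfsg.linePartners S A := by
  have h : AR S := hS
  rintro ⟨⟨-, hBA, c⟩, p⟩
  have c : Cm A B := cm_iff.1 c
  obtain ⟨A', h1, n1⟩ := hA2
  obtain ⟨B', h2, n2⟩ := hB2
  have nA := h.ni_of_reach h1.2 n1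
  have nB := h.ni_of_reach h2.2 n2
  have nr : ¬ Relation.ReflTransGen (FAdj S) A B := fun r => hne (by
    ext E; exact ⟨fun k => ⟨k.1, (h.reach_symm r).trans k.2⟩, fun k => ⟨k.1, r.trans k.2⟩⟩)
  obtain ⟨a, ha, a1⟩ := h.exists_ne hA
  obtain ⟨b, hb, b1⟩ := h.exists_ne hB
  obtain ⟨E, hE, he⟩ := p.2.1 (a * b) (Subgroup.mul_mem_sup ha hb) fun e =>
    hBA (h.ti nA hB ha (eq_inv_of_mul_eq_one_left e ▸ B.inv_mem hb) a1).symm
  obtain ⟨D, hD, r⟩ := nA
  obtain ⟨D', hD', r'⟩ := nB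
  rcases h.line_lemma hE.1 hB hD he (B.inv_mem hb) (by simpa using r.r1_smul ha a1) with k | k
  · rcases h.line_lemma hE.1 hA hD' he (A.inv_mem ha) (by rw [c a ha b hb]; simpa using r'.r1_smul hb b1) with k' | k'
    · exact nr (.tail (.tail (.tail (.single ⟨hA, hD, r⟩) ⟨hD, hE.1, k.symm⟩) ⟨hE.1, hD', k'⟩) ⟨hD', hB, r'.symm⟩)
    · exact nr (.tail (.single ⟨hA, hD', k'⟩) ⟨hD', hB, r'.symm⟩)
  · exact nr (.tail (.single ⟨hA, hD, r⟩) ⟨hD, hB, k.symm⟩)

end Cfsg.Agent.S5031
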