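import Cfsg.Statements.S5033
import Cfsg.Agent.Lib.Root.ARS4
import Cfsg.Agent.Lib.Comp.Comp

set_option autoImplicit false
open Cfsg

namespace Cfsg.Agent.S5033

open Cfsg.Agent.Root

/-- Quasisimplicity criterion for groups generated by abstract root subgroups. Let S be a set of abstract root subgroups of G with more than one member such that: the graph of rank one pairs on S is connected; no two different members of S have the same set of commuting members of S; if S is degenerate then every member of S has more than three elements; and every rank one pair in S is special. Then for every A ∈ S one has G = G' A with A ∩ G' ≠ 1, and the commutator subgroup G' is quasisimple. Moreover G is perfect if S is non-degenerate, or if some rank one pair A, B in S generates a perfect group. -/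
theorem result {G : Type*} [Group G] {S : Set (Subgroup G)} (hS : Cfsg.IsRootSubgroupSet S) (h2 : ∃ A ∈ S, ∃ B ∈ S, A ≠ B)
    (h1 : Cfsg.IsConnectedFamily (Cfsg.FAdj S) S)
    (h2' : ∀ A ∈ S, ∀ C ∈ S, A ≠ C → Cfsg.centralizingMembers S A ≠ Cfsg.centralizingMembers S C)
    (h3 : Cfsg.IsDegenerateRootSet S → ∀ A ∈ S, 3 < ENat.card A)
    (h4 : ∀ A ∈ S, ∀ B ∈ Cfsg.rankOnePartners S A, Cfsg.IsSpecialRankOnePair A B) :
    (∀ A ∈ S, commutator G ⊔ A = ⊤ ∧ A ⊓ commutator G ≠ ⊥) ∧ Cfsg.IsQuasisimple ↥(commutator G) ∧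
    (Cfsg.IsNondegenerateRootSet S → commutator G = ⊤) ∧
    ((∃ A ∈ S, ∃ B ∈ Cfsg.rankOnePartners S A, Group.IsPerfect ↥(A ⊔ B)) → commutator G = ⊤) := by
  have h : AR S := hS
  have hF : ∀ A ∈ S, NI S A := fun A hA => h.ni_of_conn h2 h1 hA
  obtain ⟨A₀, hA₀, -⟩ := id h2
  have hc : IsConjClassOfSubgroups S := ⟨⟨A₀, hA₀⟩, fun A hA B hB => h.conj_of_reach (h1 A hA B hB)⟩
  have hp : commutator G = ⊤ := by
    refine h.eq_top_of_normal hc inferInstance hA₀ ?_
    by_cases hd : IsDegenerateRootSet S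
    · obtain ⟨B, hB, r⟩ := hF A₀ hA₀
      exact (Sp.le_comm (h4 A₀ hA₀ B ⟨hB, r⟩) (h.cm hA₀) (h3 hd A₀ hA₀)).trans (Subgroup.commutator_mono le_top le_top)
    · obtain ⟨-, U, -, V, -, e⟩ := h.exists_ln hc hF (h.nd_of_t3 hF hd).2.2 hA₀
      rw [← e]; exact Subgroup.commutator_mono le_top le_top
  refine ⟨fun A hA => ⟨by rw [hp, top_sup_eq], by rw [hp, inf_top_eq]; exact hS.ne_bot A hA⟩, ?_, fun _ => hp, fun _ => hp⟩
  rw [hp]
  refine Comp.isQuasisimple_congr Subgroup.topEquiv.symm (quasi_of ⟨hp⟩ (fun e => ?_) (h.normal_eq hc hF ⟨hp⟩ ?_ ?_))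
  · obtain ⟨B, hB, r⟩ := hF A₀ hA₀
    exact r.not_cm fun a _ b _ => Subgroup.mem_center_iff.1 (e ▸ Subgroup.mem_top b) a
  · intro A hA C hC ne q
    refine h2' A hA C hC ne (Set.ext fun E => and_congr_right fun hE => ?_)
    rw [← cm_iff_le, ← cm_iff_le]; exact q E hE
  · intro hd A hA B hB r N hN le
    refine h.eq_top_of_normal hc hN hA ((Sp.le_comm (h4 A hA B ⟨hB, r⟩) (h.cm hA) (h3 hd A hA)).trans ?_)
    rw [← QuotientGroup.ker_mk' N, ← Subgroup.map_eq_bot_iff, Subgroup.map_commutator, cm_iff]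
    have : (A ⊔ B).map (QuotientGroup.mk' N) ≤ A.map (QuotientGroup.mk' N) := by
      have := Subgroup.map_mono (f := QuotientGroup.mk' N) (sup_le le_sup_right le : A ⊔ B ≤ N ⊔ A)
      rwa [Subgroup.map_sup N, (Subgroup.map_eq_bot_iff _).2 (QuotientGroup.ker_mk' N).ge, bot_sup_eq] at this
    refine Cm.mono ?_ this this
    rintro _ ⟨a, ha, rfl⟩ _ ⟨b, hb, rfl⟩
    rw [← map_mul, h.cm hA a ha b hb, map_mul]

end Cfsg.Agent.S5033
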