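import Cfsg.Statements.S5035
import Cfsg.Agent.Lib.Root.ARS2

set_option autoImplicit false
open Cfsg

namespace Cfsg.Agent.S5035

open Cfsg.Agent.Root

/-- Let S be a set of abstract root subgroups of G whose graph of rank one pairs is connected, and f a homomorphism from G onto a group H. Then either the images of the members of S form a set of abstract root subgroups of H whose graph of rank one pairs is again connected, or H equals the image of a member of S. -/
theorem result {G H : Type*} [Group G] [Group H] {S : Set (Subgroup G)} (hS : Cfsg.IsRootSubgroupSet S)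
    (hc : Cfsg.IsConnectedFamily (Cfsg.FAdj S) S) (f : G →* H) (hf : Function.Surjective f) :
    (Cfsg.IsRootSubgroupSet ((fun A : Subgroup G => A.map f) '' S) ∧
      Cfsg.IsConnectedFamily (Cfsg.FAdj ((fun A : Subgroup G => A.map f) '' S)) ((fun A : Subgroup G => A.map f) '' S)) ∨
    ∃ A ∈ S, A.map f = ⊤ := by
  have h : AR S := hS
  by_cases hne : ∀ A ∈ S, A.map f ≠ ⊥
  · refine Or.inl ⟨h.map f hf hne, ?_⟩
    rintro _ ⟨A, hA, rfl⟩ _ ⟨B, hB, rfl⟩
    have := hc A hA B hB
    clear hB
    induction this with
    | refl => rfl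
    | @tail C D _ k ih =>
      by_cases e : C.map f = D.map f
      · simpa only [e] using ih
      · exact .tail ih ⟨⟨C, k.1, rfl⟩, ⟨D, k.2.1, rfl⟩, R1.map k.2.2 f e⟩
  · push Not at hne
    obtain ⟨A, hA, e⟩ := hne
    refine Or.inr ⟨A, hA, ?_⟩
    rw [e, ← Subgroup.map_top_of_surjective f hf, ← hS.generates, eq_comm]
    simp only [Subgroup.map_iSup, iSup_eq_bot]
    intro B hB
    obtain ⟨g, rfl⟩ := h.conj_of_reach (hc A hA B hB)
    rw [Root.map_smul, e, smul_bot]

end Cfsg.Agent.S5035
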