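import Cfsg.Statements.S5036
import Cfsg.Agent.Lib.Root.ARS4

set_option autoImplicit false
open Cfsg

namespace Cfsg.Agent.S5036

open Cfsg.Agent.Root

/-- Let S be a set of abstract root subgroups of G, A, B ∈ S with C = ⁅A, B⁆ ∈ S, and D ∈ S with ⁅D, C⁆ = A. Put X = ⟨B, D⟩ and N = AC. Then B, D form a rank one pair; the conjugates of A under X are the conjugates of C under X, namely the conjugates of A by elements of B together with C, equally the conjugates of C by elements of D together with A, and they partition N; and the centralizer of N in X is central in X. -/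
theorem result {G : Type*} [Group G] {S : Set (Subgroup G)} (hS : Cfsg.IsRootSubgroupSet S)
    {A B D : Subgroup G} (hA : A ∈ S) (hB : B ∈ S) (hC : ⁅A, B⁆ ∈ S) (hD : D ∈ S) (hDC : ⁅D, ⁅A, B⁆⁆ = A) :
    Cfsg.IsRankOnePair B D ∧
    {E | ∃ x ∈ B ⊔ D, E = Cfsg.conjBy A x} = {E | ∃ x ∈ B ⊔ D, E = Cfsg.conjBy ⁅A, B⁆ x} ∧
    {E | ∃ x ∈ B ⊔ D, E = Cfsg.conjBy A x} = (fun b : G => Cfsg.conjBy A b) '' (B : Set G) ∪ {⁅A, B⁆} ∧
    {E | ∃ x ∈ B ⊔ D, E = Cfsg.conjBy A x} = (fun d : G => Cfsg.conjBy ⁅A, B⁆ d) '' (D : Set G) ∪ {A} ∧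
    Cfsg.IsSubgroupPartition (A ⊔ ⁅A, B⁆) {E | ∃ x ∈ B ⊔ D, E = Cfsg.conjBy A x} ∧
    ∀ x ∈ (B ⊔ D) ⊓ Subgroup.centralizer ((A ⊔ ⁅A, B⁆ : Subgroup G) : Set G), ∀ y ∈ B ⊔ D, x * y = y * x := by
  have h : AR S := hS
  have t := h.t3_of_mem hA hB hC
  have r := h.r1_of_cmt hA hB hD t hDC
  have t' : T3 S D ⁅A, B⁆ := h.t3_of_mem hD hC (by rw [hDC]; exact hA)
  have cAD : Cm A D := by simpa only [hDC] using t'.cmA
  have nN : ∀ x ∈ B ⊔ D, x • (A ⊔ ⁅A, B⁆) = A ⊔ ⁅A, B⁆ := smul_of_sup (fun x hx => t.smul_line (Subgroup.mem_sup_right hx))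
    fun x hx => by
      have := t'.symm.smul_line (Subgroup.mem_sup_right hx)
      rwa [Subgroup.commutator_comm _ D, hDC, sup_comm] at this
  obtain ⟨CN, hCN⟩ : ∃ CN : Subgroup G → Subgroup G, ∀ E x, x ∈ CN E ↔ x ∈ A ⊔ ⁅A, B⁆ ∧ ∀ e ∈ E, e * x = x * e :=
    ⟨fun E => (A ⊔ ⁅A, B⁆) ⊓ Subgroup.centralizer E, fun _ _ => Iff.rfl⟩
  have sC : ∀ x ∈ B ⊔ D, ∀ E, x • CN E = CN (x • E) := fun x hx E => by
    ext y
    rw [mem_smul, hCN, hCN, ← mem_smul, nN x hx]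
    refine and_congr_right fun _ => ⟨fun q e he => ?_, fun q e he => ?_⟩
    · obtain ⟨e, he', rfl⟩ := exists_of_mem_smul he
      calc _ = x * (e * (x⁻¹ * y * x)) * x⁻¹ := by group
        _ = _ := by rw [q e he']; group
    · calc _ = x⁻¹ * (x * e * x⁻¹ * y) * x := by group
        _ = _ := by rw [q _ (conj_mem he x)]; group
  obtain ⟨b, hb, b1⟩ := h.exists_ne hB
  obtain ⟨d, hd, d1⟩ := h.exists_ne hD
  have eD : CN D = A := by
    refine le_antisymm (fun x hx => ?_) fun x hx => (hCN _ _).2 ⟨Subgroup.mem_sup_left hx, fun e he => (cAD x hx e he).symm⟩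
    obtain ⟨m, q⟩ := (hCN _ _).1 hx
    obtain ⟨a, ha, c, hc, rfl⟩ := t.cmA.symm.mem_sup.1 m
    have := h.t3_inj hD ⟨B, hB, r.symm⟩ t' hd d1 hc (by
      have := q d hd
      rwa [← mul_assoc, ← cAD a ha d hd, mul_assoc, mul_assoc, mul_right_inj] at this)
    simpa [this] using ha
  have eB : CN B = ⁅A, B⁆ := by
    refine le_antisymm (fun x hx => ?_) fun x hx => (hCN _ _).2 ⟨Subgroup.mem_sup_right hx, fun e he => (t.cmB x hx e he).symm⟩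
    obtain ⟨m, q⟩ := (hCN _ _).1 hx
    obtain ⟨a, ha, c, hc, rfl⟩ := t.cmA.symm.mem_sup.1 m
    have := h.t3_inj hB ⟨D, hD, r⟩ t.symm hb b1 ha (by
      have := q b hb
      rwa [mul_assoc, t.cmB c hc b hb, ← mul_assoc, ← mul_assoc, mul_left_inj] at this)
    simpa [this] using hc
  have P : ∀ E, (∃ x ∈ B ⊔ D, E = conjBy A x) ↔ ∃ F ∈ Om B D, E = CN F := fun E =>
    ⟨fun ⟨x, hx, e⟩ => ⟨x • D, R1.smul_mem r.right_mem hx, by rw [e, ← sC x hx, eD]; rfl⟩, fun ⟨F, hF, e⟩ => by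
      rw [← r.Om_symm] at hF
      obtain ⟨x, hx, rfl⟩ := hF
      rw [sup_comm] at hx
      exact ⟨x, hx, by rw [e, conjBy_eq, conjBy_eq, ← sC x hx, eD]⟩⟩
  have ti : ∀ E ∈ Om B D, ∀ F ∈ Om B D, E ≠ F → ∀ x ∈ CN E, x ∈ CN F → x = 1 := fun E hE F hF ne x h1 h2 => by
    have := comm_of_sup (fun e he => (((hCN _ _).1 h1).2 e he).symm) (fun e he => (((hCN _ _).1 h2).2 e he).symm)
    rw [r.sup_of_mem hE hF ne] at this
    exact h.t3_inj hD ⟨B, hB, r.symm⟩ t' hd d1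
      (eB ▸ (hCN _ _).2 ⟨((hCN _ _).1 h1).1, fun e he => (this e (Subgroup.mem_sup_left he)).symm⟩)
      (this d (Subgroup.mem_sup_right hd)).symm
  have P2 : {E | ∃ x ∈ B ⊔ D, E = conjBy A x} = (fun b : G => conjBy A b) '' (B : Set G) ∪ {⁅A, B⁆} := by
    ext E
    rw [Set.mem_ofPred_eq, P]
    constructor
    · rintro ⟨F, hF, rfl⟩
      rcases r.mem_Om.1 hF with rfl | ⟨x, hx, rfl⟩
      · exact Or.inr eB
      · exact Or.inl ⟨x, hx, by rw [← sC x (Subgroup.mem_sup_left hx), eD]; rfl⟩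
    · rintro (⟨x, hx, rfl⟩ | rfl)
      · exact (P _).1 ⟨x, Subgroup.mem_sup_left hx, rfl⟩
      · exact ⟨B, r.left_mem, eB.symm⟩
  refine ⟨r, ?_, P2, ?_, ⟨?_, fun x hx _ => ?_, ?_⟩, fun x hx => r.comm_of_fix fun E hE => ?_⟩
  · ext E
    rw [Set.mem_ofPred_eq, P]
    exact ⟨fun ⟨_, ⟨x, hx, rfl⟩, e⟩ => ⟨x, hx, by rw [e, conjBy_eq, conjBy_eq, ← sC x hx, eB]⟩,
      fun ⟨x, hx, e⟩ => ⟨x • B, ⟨x, hx, rfl⟩, by rw [e, conjBy_eq, ← sC x hx, eB]⟩⟩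
  · ext E
    rw [Set.mem_ofPred_eq, P, ← r.Om_symm]
    constructor
    · rintro ⟨F, hF, rfl⟩
      rcases r.symm.mem_Om.1 hF with rfl | ⟨x, hx, rfl⟩
      · exact Or.inr eD
      · exact Or.inl ⟨x, hx, by rw [← sC x (Subgroup.mem_sup_right hx), eB]; rfl⟩
    · rintro (⟨x, hx, rfl⟩ | e)
      · exact ⟨x • B, R1.smul_mem r.symm.right_mem (Subgroup.mem_sup_left hx), by
          rw [← sC x (Subgroup.mem_sup_right hx), eB]; rfl⟩
      · exact ⟨D, r.symm.left_mem, e.trans eD.symm⟩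
  · intro E hE
    obtain ⟨F, -, rfl⟩ := (P E).1 hE
    exact fun x hx => ((hCN _ _).1 hx).1
  · rw [P2]
    rcases h.line_cover t hx with e | ⟨b, hb, e⟩
    · exact ⟨_, Or.inr rfl, e⟩
    · exact ⟨_, Or.inl ⟨b, hb, rfl⟩, e⟩
  · intro E hE E' hE' ne
    obtain ⟨F, hF, rfl⟩ := (P E).1 hE
    obtain ⟨F', hF', rfl⟩ := (P E').1 hE'
    exact eq_bot_iff.2 fun x hx => ti F hF F' hF' (fun e => ne (e ▸ rfl)) x hx.1 hx.2
  · by_contra ne
    obtain ⟨y, hy, e⟩ := (P _).2 ⟨E, hE, rfl⟩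
    obtain ⟨a, ha, a1⟩ := h.exists_ne (h.smul hA y)
    rw [← conjBy_eq, ← e] at ha
    refine a1 (ti _ (R1.smul_mem hE hx.1) E hE ne a ?_ ha)
    rw [← sC x hx.1, smul_eq_of_comm fun z hz => (hx.2 z ((hCN _ _).1 hz).1).symm]
    exact ha

end Cfsg.Agent.S5036
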