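import Cfsg.Statements.S5039
import Cfsg.Agent.Lib.Root.ARS4

set_option autoImplicit false
universe u
open Cfsg

namespace Cfsg.Agent.S5039

open Cfsg.Agent.Root

/-- Let S be a class of abstract root subgroups of G containing two different commuting members. Suppose that, in case S is degenerate and every element of every member of S has order at most 3, the following holds: for every A ∈ S and every rank one partner B of A there are subgroups A₀ ≤ A and B₀ ≤ B generating an image of SL₂(k) with central kernel, k a field with at least four elements, A₀ and B₀ being the images of the unitriangular subgroups. Then every rank one pair A, B in S is special. -/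
theorem result {G : Type u} [Group G] {S : Set (Subgroup G)} (hS : Cfsg.IsRootSubgroupClass S)
    (hcomm : ∃ A ∈ S, ∃ C ∈ S, A ≠ C ∧ ⁅A, C⁆ = ⊥)
    (hH : Cfsg.IsDegenerateRootSet S → (∀ A ∈ S, ∀ a ∈ A, 0 < orderOf a ∧ orderOf a ≤ 3) →
      ∀ A ∈ S, ∀ B ∈ Cfsg.rankOnePartners S A, ∃ A₀ B₀ : Subgroup G, A₀ ≤ A ∧ B₀ ≤ B ∧
        ∃ (k : Type u) (_ : Field k), 3 < ENat.card k ∧ Cfsg.IsPSL2PairOver k A₀ B₀)
    {A B : Subgroup G} (hA : A ∈ S) (hB : B ∈ Cfsg.rankOnePartners S A) : Cfsg.IsSpecialRankOnePair A B := by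
  have h : AR S := hS.1
  have hF : ∀ E ∈ S, NI S E := fun E hE => h.ni_of_class hS.2 hA ⟨B, hB.1, hB.2⟩ hE
  by_cases hd : IsDegenerateRootSet S
  swap
  · obtain ⟨⟨U, l⟩, -⟩ := h.exists_ln hS.2 hF (h.nd_of_t3 hF hd).2.2 hA
    exact h.sp_of_ln hA hB.1 hB.2 l
  obtain ⟨A₀, hA₀, C, hC, ne, c⟩ := hcomm
  obtain ⟨g, rfl⟩ := hS.2.2 A₀ hA₀ A hA
  refine h.sp_of_deg hS.2 hd hA hB.1 hB.2 (h.smul hC g) (fun e => ne ((smul_left_cancel_iff g).1 e)) ((cm_iff.1 c).smul g) ?_
  rw [or_iff_not_imp_left]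
  intro hn
  push Not at hn
  obtain ⟨U, V, lU, lV, k, _, hk, p⟩ := hH hd (fun E hE a ha => by
    obtain ⟨x, e⟩ := hS.2.2 E hE _ hA
    have := hn _ (conj_mem_of_eq e.symm ha)
    rw [conj_pow, conj_pow, Ne, conj_eq_one_iff, conj_eq_one_iff, ← or_iff_not_imp_left] at this
    rcases this with q | q
    · exact ⟨(isOfFinOrder_iff_pow_eq_one.2 ⟨2, by norm_num, q⟩).orderOf_pos, (orderOf_le_of_pow_eq_one (by norm_num) q).trans (by norm_num)⟩
    · exact ⟨(isOfFinOrder_iff_pow_eq_one.2 ⟨3, by norm_num, q⟩).orderOf_pos, orderOf_le_of_pow_eq_one (by norm_num) q⟩) _ hA B hB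
  have sp := psl2_sp p
  obtain ⟨a, ha, a1⟩ := sp.r1.exists_ne
  refine ⟨U ⊔ V, sup_le_sup lU lV, sp.perfect ((h.cm hA).mono lU lU) ?_, a, lU ha, Subgroup.mem_sup_left ha, a1⟩
  obtain ⟨φ, -, hk', rfl, -⟩ := p
  refine hk.trans_le (ENat.card_le_card_of_injective (f := fun t : k => ⟨φ (xU t), Subgroup.mem_map_of_mem φ (mem_upper.2 ⟨t, rfl⟩)⟩)
    fun s t e => ?_)
  have : xU (-s + t) ∈ φ.ker := by
    rw [MonoidHom.mem_ker, ← xU_add, ← xU_inv, map_mul, map_inv, inv_mul_eq_one]; exact congrArg Subtype.val e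
  have := sl2_r1.eq_one (mem_upper.2 ⟨_, rfl⟩) (smul_eq_of_comm fun x _ => (Subgroup.mem_center_iff.1 (hk' this) x).symm)
  exact neg_add_eq_zero.1 (xU_inj (this.trans xU_zero.symm))

end Cfsg.Agent.S5039
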