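import Cfsg.Statements.S5043
import Cfsg.Agent.Lib.Root.TFSL

set_option autoImplicit false
open Matrix
open Cfsg

namespace Cfsg.Agent.S5043

open Cfsg.Agent.Root

/-- Let k be a field and n a natural number. In SL_{n+3}(k) (so in every dimension at least 3) the conjugates of the root subgroup of elementary transvections 1 + c E₁₂ (c ∈ k) — that is, the groups of transvections attached to an incident point–hyperplane pair — form a non-degenerate class of abstract k-root subgroups of SL_{n+3}(k) whose graph of rank one pairs is connected. -/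
theorem result (k : Type*) [Field k] (n : ℕ) :
    Cfsg.IsRootSubgroupClass {A : Subgroup (Matrix.SpecialLinearGroup (Fin (n + 3)) k) |
        ∃ g : Matrix.SpecialLinearGroup (Fin (n + 3)) k,
          A = Cfsg.conjBy (Subgroup.closure {t : Matrix.SpecialLinearGroup (Fin (n + 3)) k |
            ∃ c : k, (t : Matrix (Fin (n + 3)) (Fin (n + 3)) k) = Matrix.transvection 0 1 c}) g} ∧
    Cfsg.IsNondegenerateRootSet {A : Subgroup (Matrix.SpecialLinearGroup (Fin (n + 3)) k) |
        ∃ g : Matrix.SpecialLinearGroup (Fin (n + 3)) k,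
          A = Cfsg.conjBy (Subgroup.closure {t : Matrix.SpecialLinearGroup (Fin (n + 3)) k |
            ∃ c : k, (t : Matrix (Fin (n + 3)) (Fin (n + 3)) k) = Matrix.transvection 0 1 c}) g} ∧
    Cfsg.IsKRootSubgroupSet k {A : Subgroup (Matrix.SpecialLinearGroup (Fin (n + 3)) k) |
        ∃ g : Matrix.SpecialLinearGroup (Fin (n + 3)) k,
          A = Cfsg.conjBy (Subgroup.closure {t : Matrix.SpecialLinearGroup (Fin (n + 3)) k |
            ∃ c : k, (t : Matrix (Fin (n + 3)) (Fin (n + 3)) k) = Matrix.transvection 0 1 c}) g} ∧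
    Cfsg.IsConnectedFamily (Cfsg.FAdj {A : Subgroup (Matrix.SpecialLinearGroup (Fin (n + 3)) k) |
        ∃ g : Matrix.SpecialLinearGroup (Fin (n + 3)) k,
          A = Cfsg.conjBy (Subgroup.closure {t : Matrix.SpecialLinearGroup (Fin (n + 3)) k |
            ∃ c : k, (t : Matrix (Fin (n + 3)) (Fin (n + 3)) k) = Matrix.transvection 0 1 c}) g})
      {A : Subgroup (Matrix.SpecialLinearGroup (Fin (n + 3)) k) |
        ∃ g : Matrix.SpecialLinearGroup (Fin (n + 3)) k,
          A = Cfsg.conjBy (Subgroup.closure {t : Matrix.SpecialLinearGroup (Fin (n + 3)) k |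
            ∃ c : k, (t : Matrix (Fin (n + 3)) (Fin (n + 3)) k) = Matrix.transvection 0 1 c}) g} := by
  have h := sl_tf (k := k) (n := Fin (n + 3))
  have h01 : (0 : Fin (n + 3)) ≠ 1 := by simp
  have h02 : (0 : Fin (n + 3)) ≠ 2 := by simp [Fin.ext_iff, Nat.mod_eq_of_lt]
  have h12 : (1 : Fin (n + 3)) ≠ 2 := by simp [Fin.ext_iff, Nat.mod_eq_of_lt]
  have e0 : Subgroup.closure {t : Matrix.SpecialLinearGroup (Fin (n + 3)) k |
      ∃ c : k, (t : Matrix (Fin (n + 3)) (Fin (n + 3)) k) = Matrix.transvection 0 1 c} =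
      rt k SpecialLinearGroup.coeMonoidHom (single 0 1 (1 : k)) := by
    simp only [transv_eq]; rfl
  have e : {A : Subgroup (Matrix.SpecialLinearGroup (Fin (n + 3)) k) |
        ∃ g : Matrix.SpecialLinearGroup (Fin (n + 3)) k,
          A = Cfsg.conjBy (Subgroup.closure {t : Matrix.SpecialLinearGroup (Fin (n + 3)) k |
            ∃ c : k, (t : Matrix (Fin (n + 3)) (Fin (n + 3)) k) = Matrix.transvection 0 1 c}) g} =
      rt k SpecialLinearGroup.coeMonoidHom '' slN (Fin (n + 3)) k := by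
    rw [e0]
    exact Set.ext fun A => ⟨fun ⟨g, e⟩ => e ▸ h.smul_mem ⟨_, single_mem h01, rfl⟩ g,
      fun hA => sl_class.2 _ ⟨_, single_mem h01, rfl⟩ A hA⟩
  rw [e]
  refine ⟨⟨h.ar sl_gen, sl_class⟩, ⟨⟨_, ⟨_, single_mem h01, rfl⟩, _, ⟨_, single_mem h02, rfl⟩, fun e => ?_,
    cm_iff.2 ((h.cm_rt (single_mem h01) (single_mem h02)).2 ?_)⟩, ?_, ⟨_, ⟨_, single_mem h01, rfl⟩, _, ⟨_, single_mem h12, rfl⟩,
      h.t3 (single_mem h01) (single_mem h12) ?_ ?_ one_ne_zero (single_mem h02) ?_⟩⟩, h.kroot sl_gen, sl_conn⟩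
  · obtain ⟨g, hg⟩ := h.ex _ (single_mem h01) 1
    obtain ⟨c, hc⟩ := (mem_rt (h.sq _ (single_mem h02))).1 (e ▸ (mem_rt (h.sq _ (single_mem h01))).2 ⟨1, hg⟩)
    have := congrFun (congrFun (hg.symm.trans hc) 0) 1
    simp [h12.symm] at this
  · rw [single_mul_single_of_ne _ _ _ _ h01.symm, single_mul_single_of_ne _ _ _ _ h02.symm]
  · obtain ⟨M, hM, c, hc, e1, e2⟩ := sl_opp _ (single_mem (k := k) h01)
    exact ⟨_, ⟨_, single_mem h01, rfl⟩, _, ⟨_, hM, rfl⟩, h.r1 (single_mem h01) hM hc e1 e2⟩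
  · rw [single_mul_single_same, single_mul_single_of_ne _ _ _ _ h02.symm]
  · rw [single_mul_single_of_ne _ _ _ _ h02.symm, zero_mul]
  · rw [single_mul_single_same, single_mul_single_of_ne _ _ _ _ h02.symm]; simp

end Cfsg.Agent.S5043
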