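import Cfsg.Statements.S5045
import Cfsg.Agent.Lib.Root.RI

set_option autoImplicit false
open Cfsg

namespace Cfsg.Agent.S5045

open Cfsg.Agent.Root Subgroup

/-- Let G be a finite group generated by a set D of root involutions, and W the set of members of D whose product with every other member of D has even order or is trivial (the isolated vertices of the odd-order-product graph on D). Then W is conjugation-invariant and generates a normal 2-subgroup of G meeting D in exactly W; the commutator of two members of D lying in different connected components of that graph, each with more than one member, lies in the subgroup generated by W; and for a in such a component, every member of D commuting with a, different from a and with product with a in D, lies in that component or in W. -/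
theorem result {G : Type*} [Group G] [Finite G] {D : Set G} (hD : Cfsg.IsRootInvolutionSet D) :
    (∀ w ∈ {w | Cfsg.IsIsolatedElem (Cfsg.OddAdj D) D w}, ∀ g : G, g * w * g⁻¹ ∈ {w | Cfsg.IsIsolatedElem (Cfsg.OddAdj D) D w}) ∧
    (Subgroup.closure {w | Cfsg.IsIsolatedElem (Cfsg.OddAdj D) D w}).Normal ∧
    IsPGroup 2 ↥(Subgroup.closure {w | Cfsg.IsIsolatedElem (Cfsg.OddAdj D) D w}) ∧
    (Subgroup.closure {w | Cfsg.IsIsolatedElem (Cfsg.OddAdj D) D w} : Set G) ∩ D = {w | Cfsg.IsIsolatedElem (Cfsg.OddAdj D) D w} ∧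
    (∀ a ∈ D, ∀ b ∈ D, (∃ a' ∈ Cfsg.elemComponentOf (Cfsg.OddAdj D) D a, a' ≠ a) →
      (∃ b' ∈ Cfsg.elemComponentOf (Cfsg.OddAdj D) D b, b' ≠ b) →
      Cfsg.elemComponentOf (Cfsg.OddAdj D) D a ≠ Cfsg.elemComponentOf (Cfsg.OddAdj D) D b →
        a * b * a⁻¹ * b⁻¹ ∈ Subgroup.closure {w | Cfsg.IsIsolatedElem (Cfsg.OddAdj D) D w}) ∧
    (∀ a ∈ D, (∃ a' ∈ Cfsg.elemComponentOf (Cfsg.OddAdj D) D a, a' ≠ a) →
      Cfsg.productPartners D a ⊆ Cfsg.elemComponentOf (Cfsg.OddAdj D) D a ∪ {w | Cfsg.IsIsolatedElem (Cfsg.OddAdj D) D w}) := by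
  have h : RI D := hD
  set W : Set G := {w | Cfsg.IsIsolatedElem (Cfsg.OddAdj D) D w} with hW
  have mW : ∀ w, w ∈ W ↔ w ∈ D ∧ ∀ b, ¬ OddAdj D w b := fun w =>
    ⟨fun k => ⟨k.1, fun b => (k.2 b).1⟩, fun k => ⟨k.1, fun b => ⟨k.2 b, fun o => k.2 b (OddAdj.symm' o)⟩⟩⟩
  have c1 : ∀ w ∈ W, ∀ g : G, g * w * g⁻¹ ∈ W := fun w hw g => (mW _).2 ⟨h.conj hw.1 g, fun b o =>
    ((mW w).1 hw).2 (g⁻¹ * b * g) (by simpa [mul_assoc] using h.od_conj o g⁻¹)⟩
  have c2 : (closure W).Normal := ⟨fun n hn g => by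
    induction hn using closure_induction with
    | mem x hx => exact subset_closure (c1 x hx g)
    | one => simp
    | mul x y _ _ p q => simpa [mul_assoc] using mul_mem p q
    | inv x _ p => simpa [mul_assoc] using inv_mem p⟩
  have c3 : IsPGroup 2 (closure W) := h.pgroup_closure (fun _ k => k.1)
    (fun a ha b hb => by simpa [h.inv ha.1] using c1 b hb a) fun a ha b _ => ((mW a).1 ha).2 b
  have nis : ∀ a, (∃ a' ∈ Cfsg.elemComponentOf (Cfsg.OddAdj D) D a, a' ≠ a) → ∃ x, OddAdj D a x := by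
    rintro a ⟨a', ⟨-, r⟩, ne⟩
    rcases r.cases_head with e | ⟨x, o, -⟩
    · exact absurd e.symm ne
    · exact ⟨x, o⟩
  have c6 : ∀ a ∈ D, (∃ a' ∈ Cfsg.elemComponentOf (Cfsg.OddAdj D) D a, a' ≠ a) →
      Cfsg.productPartners D a ⊆ Cfsg.elemComponentOf (Cfsg.OddAdj D) D a ∪ W := fun a ha k b hb => by
    obtain ⟨x, o⟩ := nis a k
    have l := (mem_X ha).1 hb
    by_cases e : ∃ y, OddAdj D b y
    · obtain ⟨y, o'⟩ := e
      exact Or.inl ⟨l.2.1, h.x_reach l o o'⟩
    · exact Or.inr ((mW b).2 ⟨l.2.1, fun y o' => e ⟨y, o'⟩⟩)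
  refine ⟨c1, c2, c3, Set.Subset.antisymm (fun w hw => (mW w).2 ⟨hw.2, fun b o => ?_⟩)
    fun w hw => ⟨subset_closure hw, hw.1⟩, fun a ha b hb ka kb ne => ?_, c6⟩
  · have P : IsPGroup 2 (closure ({b, b} : Set G)) := h.pgroup_pair o.2.1 o.2.1 fun k => k.2.2.1 rfl
    exact h.not_od_of_mem (c3.to_sup_of_normal_left P) (mem_sup_left hw.1) (mem_sup_right (subset_closure (by simp))) o
  · have same : ¬ Relation.ReflTransGen (OddAdj D) a b := fun r => ne (Set.ext fun z =>
      ⟨fun k => ⟨k.1, (oreach_symm r).trans k.2⟩, fun k => ⟨k.1, r.trans k.2⟩⟩)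
    rw [h.inv ha, h.inv hb]
    rcases h.tri ha hb with c | o | v
    · rw [c]; simp [mul_assoc, h.sq' ha, h.sq hb]
    · exact absurd (.single o) same
    · rcases c6 a ha ka ((mem_X ha).2 (h.v4_x v)) with p | p
      · rcases c6 b hb kb ((mem_X hb).2 (h.v4_x' v)) with q | q
        · exact absurd (p.2.trans (oreach_symm q.2)) same
        · exact subset_closure q
      · exact subset_closure p

end Cfsg.Agent.S5045
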