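import Cfsg.Statements.S5046
import Cfsg.Agent.Lib.Root.RI

set_option autoImplicit false
open Cfsg

namespace Cfsg.Agent.S5046

open Cfsg.Agent.Root Subgroup

/-- Let G be a finite group generated by a set D of root involutions whose odd-order-product graph is connected, and d ∈ D. Then the members e of D with the same commuting members as d are exactly those for which the union of the commuting members of d and the members whose product with d has order 4 equals the corresponding union for e. -/
theorem result {G : Type*} [Group G] [Finite G] {D : Set G} (hD : Cfsg.IsRootInvolutionSet D)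
    (hc : Cfsg.IsConnectedSet (Cfsg.OddAdj D) D) {d : G} (hd : d ∈ D) :
    Cfsg.sameCommutingClass D d =
      {e | e ∈ D ∧ Cfsg.commutingMembers D d ∪ Cfsg.fourPartners D d = Cfsg.commutingMembers D e ∪ Cfsg.fourPartners D e} := by
  have h : RI D := hD
  have hcl : ∀ a ∈ D, ∀ b ∈ D, ∃ g : G, b = g * a * g⁻¹ := fun a ha b hb => h.conj_of_reach (hc a ha b hb)
  have k : ∀ e ∈ D, ∀ y, y ∈ Cfsg.commutingMembers D e ∪ Cfsg.fourPartners D e ↔ y ∈ D ∧ ¬ OddAdj D e y := fun e he y => by
    constructor
    · rintro (c | v)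
      · exact ⟨c.1, fun o => h.od_not_comm o c.2.symm⟩
      · exact ⟨v.1, fun o => h.od_not_v4 o ⟨he, v.1, v.2⟩⟩
    · rintro ⟨hy, n⟩
      rcases h.tri he hy with c | o | v
      · exact Or.inl ⟨hy, c.symm⟩
      · exact absurd o n
      · exact Or.inr ⟨hy, v.2.2⟩
  ext e
  constructor
  · rintro ⟨he, c⟩
    have c' : ∀ z ∈ D, z * d = d * z ↔ z * e = e * z := fun z hz =>
      ⟨fun p => (c.le ⟨hz, p⟩).2, fun p => (c.ge ⟨hz, p⟩).2⟩
    refine ⟨he, Set.ext fun y => ?_⟩
    rw [k d hd, k e he]
    exact and_congr_right fun _ => not_congr ⟨h.od_of_same hd c' he, h.od_of_same he (fun z hz => (c' z hz).symm) hd⟩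
  · rintro ⟨he, c⟩
    have c' : ∀ y, OddAdj D d y ↔ OddAdj D e y := fun y => by
      have := Set.ext_iff.1 c y
      rw [k d hd, k e he] at this
      constructor
      · intro o; by_contra n; exact (this.2 ⟨o.2.1, n⟩).2 o
      · intro o; by_contra n; exact (this.1 ⟨o.2.1, n⟩).2 o
    exact ⟨he, Set.ext fun x => ⟨fun p => ⟨p.1, h.same_of_od hcl hd he c' p.1 p.2⟩,
      fun p => ⟨p.1, h.same_of_od hcl he hd (fun y => (c' y).symm) p.1 p.2⟩⟩⟩

end Cfsg.Agent.S5046
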