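import Cfsg.Statements.S5047
import Cfsg.Agent.Lib.Root.RI

set_option autoImplicit false
open Cfsg

namespace Cfsg.Agent.S5047

open Cfsg.Agent.Root Subgroup

/-- Let G be a finite group generated by a set D of root involutions whose odd-order-product graph is connected, a ∈ D, and b a member of D different from a, commuting with a, with ab ∈ D, but not having the same commuting members as a. Then some member x of D with bx of order 4 has ax of order 3. -/
theorem result {G : Type*} [Group G] [Finite G] {D : Set G} (hD : Cfsg.IsRootInvolutionSet D)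
    (hc : Cfsg.IsConnectedSet (Cfsg.OddAdj D) D) {a b : G} (ha : a ∈ D) (hb : b ∈ Cfsg.productPartners D a)
    (hbE : b ∉ Cfsg.sameCommutingClass D a) : ∃ x ∈ Cfsg.fourPartners D b, orderOf (a * x) = 3 := by
  have h : RI D := hD
  have hcl : ∀ a ∈ D, ∀ b ∈ D, ∃ g : G, b = g * a * g⁻¹ := fun a ha b hb => h.conj_of_reach (hc a ha b hb)
  have key : ∀ a b, ProdAdj D a b → (∃ z ∈ D, ¬ (z * a = a * z ↔ z * b = b * z)) →
      ∃ c, V4 D a c ∧ b * c = c * b ∧ a * c * a * c = b := fun a b l ⟨z, hz, n⟩ => by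
    by_cases k : ∀ y, OddAdj D a y → OddAdj D b y
    · have c' : ∀ y, OddAdj D a y ↔ OddAdj D b y := fun y => ⟨k y, h.od_rev hcl l.1 l.2.1 k y⟩
      exact absurd ⟨h.same_of_od hcl l.1 l.2.1 c' hz, h.same_of_od hcl l.2.1 l.1 (fun y => (c' y).symm) hz⟩ n
    push Not at k
    obtain ⟨y, o, n⟩ := k
    obtain ⟨c, -, v, e1, e2⟩ := h.step_surj o l (h.v4_of o.2.1 l.2.1 (h.noc o l) fun k => n (OddAdj.symm' k))
    exact ⟨c, v, e1, e2⟩
  have l := (mem_X ha).1 hb
  have hb := l.2.1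
  obtain ⟨c, v, e1, e2⟩ := key a b l (by
    by_contra n
    push Not at n
    exact hbE ⟨hb, Set.ext fun z => ⟨fun p => ⟨p.1, (n z p.1).1 p.2⟩, fun p => ⟨p.1, (n z p.1).2 p.2⟩⟩⟩)
  have hc' := v.2.1
  have ac : a * c * a = b * c := by rw [← e2]; simp [mul_assoc, h.sq hc']
  have l2 : ProdAdj D b c := ⟨hb, hc', fun e => h.v4_not_comm v (e ▸ l.2.2.2.1), e1, ac ▸ h.conj' hc' ha⟩
  obtain ⟨x, w, e3, e4⟩ := key b c l2 ⟨a, ha, fun k => h.v4_not_comm v (k.1 l.2.2.2.1)⟩
  have hx := w.2.1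
  have xb : x * b * x = b * c := by rw [← e4]; simp [mul_assoc, h.sq' hb]
  have ab := l.2.2.2.1
  have p1 : a * x * b = c * (a * x) := by
    calc a * x * b = a * (x * b * x) * x := by simp [mul_assoc, h.sq hx]
      _ = b * (a * c * a) * (a * x) := by rw [xb, ← mul_assoc a b, ab]; simp [mul_assoc, h.sq' ha]
      _ = c * (a * x) := by rw [ac, h.sq' hb]
  have p2 : a * x * c = b * c * (a * x) := by
    rw [mul_assoc, ← e3, ← ac]; simp [mul_assoc, h.sq' ha]
  have p3 : a * x * (b * c) = b * (a * x) := by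
    rw [← mul_assoc, p1, mul_assoc, p2, e1]; simp [mul_assoc, h.sq' hc']
  have q2 : (a * x) ^ 2 * b = b * c * (a * x) ^ 2 := by rw [pow_two, mul_assoc, p1, ← mul_assoc, p2, mul_assoc]
  have q3 : (a * x) ^ 3 * b = b * (a * x) ^ 3 := by rw [pow_succ', mul_assoc, q2, ← mul_assoc, p3, mul_assoc]
  have q4 : (a * x) ^ 4 * b = c * (a * x) ^ 4 := by rw [pow_succ', mul_assoc, q3, ← mul_assoc, p1, mul_assoc]
  have o : OddAdj D a x := by
    rcases h.tri ha hx with k | k | k
    · rw [h.sq_of_comm ha hx k] at q2; exact absurd (by simpa using q2) (h.ne hc')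
    · exact k
    · rw [← k.2.2, pow_orderOf_eq_one] at q4; exact absurd (by simpa using q4) l2.2.2.1
  refine ⟨x, ⟨hx, w.2.2⟩, ?_⟩
  haveI : Fact (Nat.Prime 3) := ⟨Nat.prime_three⟩
  refine orderOf_eq_prime ?_ (h.mul_ne ha o.2.2.1)
  by_contra n
  have m : a * (a * x) ^ 3 ∈ D := by
    simpa [pow_succ, mul_assoc, h.sq' ha, h.inv ha, h.inv hx] using h.conj hx (x * a)
  refine h.noc (y := a * (a * x) ^ 3) ⟨ha, m, fun e => n (by simpa using e), ?_⟩ l
    (by rw [mul_assoc, q3, ← mul_assoc, ab, mul_assoc])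
  rw [h.sq' ha]
  exact Odd.of_dvd_nat o.2.2.2 (orderOf_pow_dvd 3)

end Cfsg.Agent.S5047
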