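import Cfsg.Statements.S5048
import Cfsg.Agent.Lib.Root.RI

set_option autoImplicit false
open Cfsg

namespace Cfsg.Agent.S5048

open Cfsg.Agent.Root Subgroup

/-- Let G be a finite group generated by a set D of root involutions whose odd-order-product graph is connected, with some product of two different commuting members of D again in D. Then the largest solvable normal subgroup of G is the preimage of the centre of G/O₂(G), and the quotient of G by it is a simple group. -/
theorem result {G : Type*} [Group G] [Finite G] {D : Set G} (hD : Cfsg.IsRootInvolutionSet D)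
    (hc : Cfsg.IsConnectedSet (Cfsg.OddAdj D) D) (hDD : (D ∩ Cfsg.commutingProducts D).Nonempty) :
    Cfsg.solvableRadical G = Cfsg.twoZCore G ∧ IsSimpleGroup (G ⧸ Cfsg.twoZCore G) := by
  have h : RI D := hD
  have hcl : ∀ a ∈ D, ∀ b ∈ D, ∃ g : G, b = g * a * g⁻¹ := fun a ha b hb => h.conj_of_reach (hc a ha b hb)
  obtain ⟨_, hab, a, ha, b, hb, c, ne, rfl⟩ := hDD
  have l : ProdAdj D a b := ⟨ha, hb, fun e => ne (e ▸ h.sq ha), c, hab⟩
  have top : ∀ (N : Subgroup G) [N.Normal], ∀ d ∈ D, d ∈ N → N = ⊤ := fun N hN d hd k => by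
    rw [eq_top_iff, ← h.2, closure_le]
    intro e he
    obtain ⟨g, rfl⟩ := hcl d hd e he
    exact hN.conj_mem d k g
  have key : ∀ (N : Subgroup G) [N.Normal], N = ⊤ ∨ N ≤ twoZCore G := fun N hN => by
    by_cases k : ∃ d ∈ D, ∃ n ∈ N, OddAdj D d (n * d * n⁻¹)
    · obtain ⟨d, hd, n, hn, o⟩ := k
      obtain ⟨g, rfl⟩ := hcl a ha d hd
      have l' := h.x_conj l g
      generalize g * a * g⁻¹ = d at *
      generalize g * b * g⁻¹ = b at *
      have e : ((n * d * n⁻¹ : G) : G ⧸ N) = d := by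
        simp [(QuotientGroup.eq_one_iff n).2 hn]
      have e2 : ((n * d * n⁻¹ * b : G) : G ⧸ N) ^ 2 = 1 := by
        rw [QuotientGroup.mk_mul, e, ← QuotientGroup.mk_mul, ← QuotientGroup.mk_pow, h.sq_of_comm hd l'.2.1 l'.2.2.2.1]; rfl
      left
      rcases h.tri o.2.1 l'.2.1 with p | p | p
      · exact absurd p (h.noc o l')
      · refine top N _ l'.2.2.2.2 ((QuotientGroup.eq_one_iff _).1 ?_)
        rw [QuotientGroup.mk_mul, ← e, ← QuotientGroup.mk_mul]
        exact odd_one (n := 1) (Odd.of_dvd_nat p.2.2.2 (orderOf_map_dvd (QuotientGroup.mk' N) _)) e2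
      · refine top N _ (h.v4_mem p) ((QuotientGroup.eq_one_iff _).1 ?_)
        rw [← e2, pow_two, mul_assoc (n * d * n⁻¹ * b), QuotientGroup.mk_mul]
    · push Not at k
      refine Or.inr fun n hn => ?_
      refine mem_comap.2 (mem_center_iff.2 fun g => ?_)
      obtain ⟨g, rfl⟩ := QuotientGroup.mk_surjective g
      refine h.top_ind (p := fun g : G => (g : G ⧸ pCore 2 G) * QuotientGroup.mk' (pCore 2 G) n =
        QuotientGroup.mk' (pCore 2 G) n * (g : G ⧸ pCore 2 G)) (fun d hd => ?_)
        (by simp) (fun x y p q => by rw [QuotientGroup.mk_mul, mul_assoc, q, ← mul_assoc, p, mul_assoc]) g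
      let T : Set G := {t | ∃ n ∈ N, t = n * d * n⁻¹}
      have P : IsPGroup 2 (closure T) := h.pgroup_closure (by rintro _ ⟨n, -, rfl⟩; exact h.conj hd n) (by
          rintro _ ⟨n, hn, rfl⟩ _ ⟨m, hm, rfl⟩
          refine ⟨n * (d * (n⁻¹ * m) * d⁻¹), mul_mem hn (hN.conj_mem _ (mul_mem (inv_mem hn) hm) d), ?_⟩
          simp [mul_assoc, h.inv hd, h.sq' hd]) (by
          rintro _ ⟨n, hn, rfl⟩ _ ⟨m, hm, rfl⟩ o
          exact k d hd (n⁻¹ * m) (mul_mem (inv_mem hn) hm) (by simpa [mul_assoc] using h.od_conj o n⁻¹))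
      have cj : ∀ m ∈ N, ∀ t ∈ closure T, m * t * m⁻¹ ∈ closure T := fun m hm t ht => by
        induction ht using closure_induction with
        | mem x hx => obtain ⟨n, hn, rfl⟩ := hx; exact subset_closure ⟨m * n, mul_mem hm hn, by simp [mul_assoc]⟩
        | one => simp
        | mul x y _ _ p q => simpa [mul_assoc] using mul_mem p q
        | inv x _ p => simpa [mul_assoc] using inv_mem p
      have le : closure T ⊓ N ≤ pCore 2 G := (Solv.le_map_subtype_pCore (P.to_inf_left) inf_le_right fun m hm =>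
        mem_normalizer_iff.2 fun t => ⟨fun p => ⟨cj m hm t p.1, hN.conj_mem t p.2 m⟩,
          fun p => ⟨by simpa [mul_assoc] using cj m⁻¹ (inv_mem hm) _ p.1, by
            simpa [mul_assoc] using hN.conj_mem _ p.2 m⁻¹⟩⟩).trans (Solv.map_subtype_pCore_le N)
      have m : n * d * n⁻¹ * d ∈ pCore 2 G := le ⟨mul_mem (subset_closure ⟨n, hn, rfl⟩) (subset_closure ⟨1, one_mem _, by simp⟩), by
        simpa [mul_assoc, h.inv hd] using mul_mem hn (hN.conj_mem _ (inv_mem hn) d)⟩
      rw [QuotientGroup.mk'_apply, ← QuotientGroup.mk_mul, ← QuotientGroup.mk_mul, eq_comm, QuotientGroup.eq_iff_div_mem]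
      simpa [div_eq_mul_inv, mul_assoc, h.inv hd] using m
  have perf : commutator G = ⊤ := by
    refine top _ a ha ?_
    have m : ∀ x ∈ D, ∀ y ∈ D, x * y⁻¹ ∈ commutator G := fun x hx y hy => by
      obtain ⟨g, rfl⟩ := hcl y hy x hx
      exact commutator_mem_commutator (mem_top g) (mem_top y)
    simpa [mul_assoc] using m _ hab b hb
  haveI : Nontrivial G := ⟨⟨a, 1, h.ne ha⟩⟩
  have ns : ¬ Group.IsSolvable G := fun s => (Group.IsSolvable.commutator_lt_top_of_nontrivial G).ne perf
  have sz : Group.IsSolvable (twoZCore G) := by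
    haveI : Group.IsSolvable (center (G ⧸ pCore 2 G)) := Group.isSolvable_of_comm fun a b => Subtype.ext (mem_center_iff.1 b.2 a)
    haveI := (Solv.isPGroup_pCore 2 G).isNilpotent
    refine Group.isSolvable_of_ker_le_range (inclusion (show pCore 2 G ≤ twoZCore G from fun x hx => ?_))
      (((QuotientGroup.mk' (pCore 2 G)).comp (twoZCore G).subtype).codRestrict (center _) fun x => x.2) fun x hx => ?_
    · exact mem_comap.2 (by rw [QuotientGroup.mk'_apply, (QuotientGroup.eq_one_iff x).2 hx]; exact one_mem _)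
    · exact ⟨⟨x.1, (QuotientGroup.eq_one_iff _).1 (congrArg Subtype.val hx)⟩, rfl⟩
  have nt : ∀ N : Subgroup G, Group.IsSolvable N → N ≠ ⊤ := fun N s e => ns (by
    subst e; exact Group.isSolvable_of_surjective (f := (⊤ : Subgroup G).subtype) fun x => ⟨⟨x, trivial⟩, rfl⟩)
  refine ⟨le_antisymm (sSup_le fun N hN => ?_) (le_sSup ⟨inferInstance, sz⟩), ?_⟩
  · haveI := hN.1
    exact (key N).resolve_left (nt N hN.2)
  · haveI : Nontrivial (G ⧸ twoZCore G) := QuotientGroup.nontrivial_iff.2 (nt _ sz)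
    refine ⟨fun M hM => ?_⟩
    rcases key (M.comap (QuotientGroup.mk' _)) with e | e
    · exact Or.inr (comap_injective (QuotientGroup.mk'_surjective _) (by simpa using e))
    · refine Or.inl (eq_bot_iff.2 fun x hx => ?_)
      obtain ⟨x, rfl⟩ := QuotientGroup.mk_surjective x
      exact (QuotientGroup.eq_one_iff x).2 (e hx)

end Cfsg.Agent.S5048
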