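import Cfsg.Statements.S5049
import Cfsg.Agent.Lib.Root.RI

set_option autoImplicit false
open Cfsg

namespace Cfsg.Agent.S5049

open Cfsg.Agent.Root Subgroup

/-- Let G be a finite group generated by a set D of odd transpositions (root involutions with no product of order 4), Q = O₂(G), and for a ∈ D let Q_a be the commutator subgroup of Q with a. Then every member of D commuting with a centralizes Q_a; and for b ∈ D with ab of odd order greater than 1, the centralizer of ab in Q is the intersection of the centralizers of a and b in Q. -/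
theorem result {G : Type*} [Group G] [Finite G] {D : Set G} (hD : Cfsg.IsOddTranspositionSet D) {a : G} (ha : a ∈ D) :
    (∀ e ∈ Cfsg.commutingMembers D a, ∀ q ∈ ⁅Cfsg.pCore 2 G, Subgroup.zpowers a⁆, e * q = q * e) ∧
    (∀ b ∈ Cfsg.oddPartners D a,
      Cfsg.pCore 2 G ⊓ Subgroup.centralizer {a * b} = Cfsg.pCore 2 G ⊓ Subgroup.centralizer {a} ⊓ Subgroup.centralizer {b}) := by
  have h : RI D := hD.1
  have P := Solv.isPGroup_pCore 2 G
  have key : ∀ a ∈ D, ∀ e ∈ D, e * a = a * e → ∀ q ∈ pCore 2 G, e * (q * a * q⁻¹) = q * a * q⁻¹ * e := fun a ha e he c q hq => by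
    rcases h.tri he (h.conj ha q) with k | k | k
    · exact k
    · refine absurd k (h.not_od_of_mem (P.to_sup_of_normal_left (h.pgroup_pair he ha fun o => h.od_not_comm o c))
        (mem_sup_right (subset_closure (by simp))) ?_)
      exact mul_mem (mul_mem (mem_sup_left hq) (mem_sup_right (subset_closure (by simp)))) (inv_mem (mem_sup_left hq))
    · exact absurd k.2.2 (hD.2 _ k.1 _ k.2.1)
  constructor
  · intro e he q hq
    have : ⁅Cfsg.pCore 2 G, Subgroup.zpowers a⁆ ≤ centralizer {e} := commutator_le.2 fun q hq z hz => by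
      rw [mem_centralizer_singleton_iff, commutatorElement_def]
      obtain ⟨n, rfl⟩ := hz
      have c1 : Commute (q * a * q⁻¹) e := (key a ha e he.1 he.2 q hq).symm
      have c2 : Commute a e := he.2.symm
      have := ((c1.zpow_left n).mul_left (c2.zpow_left n).inv_left).eq
      rw [conj_zpow] at this
      simpa [mul_assoc] using this
    exact (mem_centralizer_singleton_iff.1 (this hq)).symm
  · intro b hb
    have o := (mem_A ha).1 hb
    have hb := o.2.1
    ext q
    simp only [mem_inf, mem_centralizer_singleton_iff]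
    refine ⟨fun ⟨hq, c⟩ => ?_, fun ⟨⟨hq, c1⟩, c2⟩ => ⟨hq, by rw [← mul_assoc, c1, mul_assoc, c2, mul_assoc]⟩⟩
    have e1 : q * a * q⁻¹ * (q * b * q⁻¹) = a * b := by
      rw [show q * a * q⁻¹ * (q * b * q⁻¹) = q * (a * b) * q⁻¹ by group, c]; group
    obtain ⟨z, hz⟩ : ∃ z, z = a * (q * a * q⁻¹) := ⟨_, rfl⟩
    have e2 : z = b * (q * b * q⁻¹) := by
      rw [← h.inv (h.conj hb q), hz, eq_mul_inv_iff_mul_eq, mul_assoc, e1, h.sq' ha]
    have ca : Commute a z := hz ▸ (Commute.refl a).mul_right (key a ha a ha rfl q hq)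
    have cb : Commute b z := e2 ▸ (Commute.refl b).mul_right (key b hb b hb rfl q hq)
    have z2 : z ^ 2 = 1 := hz ▸ h.sq_of_comm ha (h.conj ha q) (key a ha a ha rfl q hq)
    have e3 : q * a * q⁻¹ * b = a * b * z := by rw [mul_assoc a, cb.eq, hz, ← mul_assoc, h.sq' ha]
    have z1 : z = 1 := by
      rcases h.tri (h.conj ha q) hb with k | k | k
      · have := h.sq_of_comm (h.conj ha q) hb k
        rw [e3, (ca.mul_left cb).mul_pow, z2, mul_one] at this
        exact absurd (odd_one (n := 1) o.2.2.2 this) (h.mul_ne ha o.2.2.1)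
      · refine odd_one (n := 1) ?_ z2
        have e4 : z = (a * b)⁻¹ * (a * b * z) := by group
        rw [e4]
        refine Odd.of_dvd_nat (Odd.mul (by rw [orderOf_inv]; exact o.2.2.2) (e3 ▸ k.2.2.2)) (Commute.orderOf_mul_dvd_mul_orderOf ?_)
        exact ((Commute.refl _).mul_right (ca.mul_left cb)).inv_left
      · exact absurd k.2.2 (hD.2 _ k.1 _ k.2.1)
    rw [z1] at hz e2
    refine ⟨⟨hq, ?_⟩, ?_⟩
    · rw [← mul_inv_eq_iff_eq_mul, ← h.inv ha]; nth_rewrite 1 [h.inv ha]; exact (inv_eq_of_mul_eq_one_right hz.symm).symm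
    · rw [← mul_inv_eq_iff_eq_mul, ← h.inv hb]; nth_rewrite 1 [h.inv hb]; exact (inv_eq_of_mul_eq_one_right e2.symm).symm

end Cfsg.Agent.S5049
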