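import Cfsg.Statements.S5057


set_option autoImplicit false
open Cfsg

namespace Cfsg.Agent.S5057

open Equiv Equiv.Perm
theorem ord6 : ∀ g : Perm (Fin 6), sign g = 1 → g ^ 3 = 1 ∨ g ^ 4 = 1 ∨ g ^ 5 = 1 := by decide +kernel

/-- The involutions of the alternating group of degree 6 form a class of root involutions (a single conjugacy class of involutions generating the group, any two of which commute, have product of odd order, or have product of order 4 whose square is again an involution of the class), and the product of any two of them has order at most 5. -/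
theorem result :
    Cfsg.IsRootInvolutionClass {g : ↥(alternatingGroup (Fin 6)) | orderOf g = 2} ∧
    ∀ d ∈ {g : ↥(alternatingGroup (Fin 6)) | orderOf g = 2}, ∀ e ∈ {g : ↥(alternatingGroup (Fin 6)) | orderOf g = 2},
      orderOf (d * e) ≤ 5 := by
  have h5 : ∀ g : alternatingGroup (Fin 6), orderOf g ≤ 5 := fun g => by
    rcases ord6 g.1 g.2 with h | h | h
    all_goals exact (orderOf_le_of_pow_eq_one (by norm_num) (Subtype.ext h)).trans (by norm_num)
  have cj : ∀ a : alternatingGroup (Fin 6), orderOf a = 2 → ∀ g, orderOf (g * a * g⁻¹) = 2 := fun a ha g =>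
    (SemiconjBy.orderOf_eq g (by simp [SemiconjBy])).symm.trans ha
  have ct : ∀ a : alternatingGroup (Fin 6), orderOf a = 2 → a.1.cycleType = Multiset.replicate 2 2 := fun a ha => by
    have h2 : orderOf a.1 = 2 := by rw [← ha]; exact Subgroup.orderOf_coe a
    obtain ⟨n, hn⟩ := cycleType_prime_order (σ := a.1) (h2 ▸ Nat.prime_two)
    have s := sum_cycleType_le a.1
    have t := sign_of_cycleType a.1
    rw [hn, h2] at s t ⊢
    rw [mem_alternatingGroup.1 a.2] at t
    simp at s t
    obtain rfl | rfl | rfl : n = 0 ∨ n = 1 ∨ n = 2 := by omega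
    · exact absurd t (by decide)
    · rfl
    · exact absurd t (by decide)
  let a0 : alternatingGroup (Fin 6) := ⟨swap 0 1 * swap 2 3, by simp⟩
  haveI : Fact (Nat.Prime 2) := ⟨Nat.prime_two⟩
  have h0 : orderOf a0 = 2 := orderOf_eq_prime (by decide) (by decide)
  refine ⟨⟨⟨fun a ha => ha, ?_, fun a ha g => cj a ha g, fun a ha b hb => ?_⟩, ⟨a0, h0⟩, fun a ha b hb => ?_⟩, fun d _ e _ => h5 _⟩
  · haveI : IsSimpleGroup (alternatingGroup (Fin 6)) := alternatingGroup.isSimpleGroup (by simp)
    refine (Subgroup.Normal.eq_bot_or_eq_top ⟨fun n hn g => ?_⟩).resolve_left fun e => ?_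
    · induction hn using Subgroup.closure_induction with
      | mem x hx => exact Subgroup.subset_closure (cj x hx g)
      | one => simp
      | mul x y _ _ p q => simpa [mul_assoc] using mul_mem p q
      | inv x _ p => simpa [mul_assoc] using inv_mem p
    · exact absurd (Subgroup.mem_bot.1 (e.le (Subgroup.subset_closure (show a0 ∈ _ from h0)))) (by decide)
  · have h1 := h5 (a * b)
    have h2 := orderOf_pos (a * b)
    have ia : a⁻¹ = a := inv_eq_of_mul_eq_one_right (by rw [← pow_two, ← show orderOf a = 2 from ha, pow_orderOf_eq_one])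
    have ib : b⁻¹ = b := inv_eq_of_mul_eq_one_right (by rw [← pow_two, ← show orderOf b = 2 from hb, pow_orderOf_eq_one])
    by_cases e2 : orderOf (a * b) = 2
    · left
      have : (a * b)⁻¹ = a * b := inv_eq_of_mul_eq_one_right (by rw [← pow_two, ← e2, pow_orderOf_eq_one])
      rw [← this, mul_inv_rev, ia, ib]
    by_cases e4 : orderOf (a * b) = 4
    · exact Or.inr (Or.inr ⟨e4, by rw [Set.mem_ofPred_eq, orderOf_pow' _ two_ne_zero, e4]; rfl⟩)
    · exact Or.inr (Or.inl (Nat.odd_iff.2 (by omega)))
  · obtain ⟨g, hg⟩ := isConj_iff.1 (alternatingGroup.isConj_of (σ := a) (τ := b)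
      (isConj_iff_cycleType_eq.2 ((ct a ha).trans (ct b hb).symm)) (by rw [← sum_cycleType, ct a ha]; simp))
    exact ⟨g, hg.symm⟩

end Cfsg.Agent.S5057
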