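import Cfsg.Statements.S5058
import Cfsg.Agent.Lib.Root.TFSL

set_option autoImplicit false
open Matrix
open Cfsg

namespace Cfsg.Agent.S5058

open Cfsg.Agent.Root

/-- Let F be a finite field of characteristic 2 and n a natural number. Then the transvections of SL_{n+3}(F) (so in every dimension at least 3) (the conjugates of the elementary matrices 1 + c E₁₂, c ≠ 0) form a class of root involutions of SL_{n+3}(F); when F has two elements they form a class of {3,4}⁺-transpositions (every product of odd order has order 1 or 3). -/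
theorem result (F : Type*) [Field F] [Fintype F] [CharP F 2] (n : ℕ) :
    Cfsg.IsRootInvolutionClass {t : Matrix.SpecialLinearGroup (Fin (n + 3)) F | ∃ c : F, c ≠ 0 ∧
        ∃ g : Matrix.SpecialLinearGroup (Fin (n + 3)) F, ((g⁻¹ * t * g : Matrix.SpecialLinearGroup (Fin (n + 3)) F) :
          Matrix (Fin (n + 3)) (Fin (n + 3)) F) = Matrix.transvection 0 1 c} ∧
    (Fintype.card F = 2 → Cfsg.IsThreeFourPlusTranspositionSet {t : Matrix.SpecialLinearGroup (Fin (n + 3)) F | ∃ c : F, c ≠ 0 ∧
        ∃ g : Matrix.SpecialLinearGroup (Fin (n + 3)) F, ((g⁻¹ * t * g : Matrix.SpecialLinearGroup (Fin (n + 3)) F) :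
          Matrix (Fin (n + 3)) (Fin (n + 3)) F) = Matrix.transvection 0 1 c}) := by
  have h := sl_tf (k := F) (n := Fin (n + 3))
  have h01 : (0 : Fin (n + 3)) ≠ 1 := by simp
  have hc := h.rel_class sl_gen sl_opp sl_class
  have e : {t : Matrix.SpecialLinearGroup (Fin (n + 3)) F | ∃ c : F, c ≠ 0 ∧
        ∃ g : Matrix.SpecialLinearGroup (Fin (n + 3)) F, ((g⁻¹ * t * g : Matrix.SpecialLinearGroup (Fin (n + 3)) F) :
          Matrix (Fin (n + 3)) (Fin (n + 3)) F) = Matrix.transvection 0 1 c} =
      rel F SpecialLinearGroup.coeMonoidHom (slN (Fin (n + 3)) F) := by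
    ext t
    constructor
    · rintro ⟨c, h0, g, e⟩
      simpa [mul_assoc] using h.rel_conj (a := g⁻¹ * t * g) ⟨_, single_mem h01, c, h0, e.trans (transv_eq _ _ _)⟩ g
    · intro ht
      obtain ⟨a, ea⟩ := h.ex _ (single_mem h01) 1
      obtain ⟨g, rfl⟩ := hc.2.2 a ⟨_, single_mem h01, 1, one_ne_zero, ea⟩ t ht
      exact ⟨1, one_ne_zero, g, by rw [transv_eq, ← ea]; simp [mul_assoc]⟩
  rw [e]
  refine ⟨hc, fun h2 => h.three_four sl_gen fun s hs => ?_⟩
  have := FiniteField.pow_card_sub_one_eq_one s hs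
  rwa [h2, pow_one] at this

end Cfsg.Agent.S5058
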