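import Cfsg.Statements.S5060
import Cfsg.Agent.Lib.Root.Dick

set_option autoImplicit false
open Cfsg

namespace Cfsg.Agent.S5060

open Cfsg.Agent.Root Matrix Polynomial

/-- Let k ⊆ K be fields with the characteristic of k not 2 and k not of order 3, and let α ∈ K be a non-zero element algebraic over k. Then the subgroup of SL₂(K) generated by the upper unitriangular matrices with entry c and the lower unitriangular matrices with entry cα, c ranging over k, is exactly the group of matrices of SL₂(K) with all entries in k(α). -/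
theorem result {k K : Type*} [Field k] [Field K] [Algebra k K] (hk2 : ringChar k ≠ 2) (hk3 : Nat.card k ≠ 3)
    (α : K) (hα : IsAlgebraic k α) (hα0 : α ≠ 0) :
    (Subgroup.closure ({g : Matrix.SpecialLinearGroup (Fin 2) K | ∃ c : k, (g : Matrix (Fin 2) (Fin 2) K) = !![1, algebraMap k K c; 0, 1]} ∪
        {g : Matrix.SpecialLinearGroup (Fin 2) K | ∃ c : k, (g : Matrix (Fin 2) (Fin 2) K) = !![1, 0; algebraMap k K c * α, 1]}) :
      Set (Matrix.SpecialLinearGroup (Fin 2) K)) =
    {g : Matrix.SpecialLinearGroup (Fin 2) K | ∀ i j : Fin 2, (g : Matrix (Fin 2) (Fin 2) K) i j ∈ IntermediateField.adjoin k ({α} : Set K)} := by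
  have h2 : (2 : k) ≠ 0 := Ring.two_ne_zero hk2
  set F := IntermediateField.adjoin k ({α} : Set K)
  let lam : F := ⟨α, IntermediateField.mem_adjoin_simple_self k α⟩
  let φ : SpecialLinearGroup (Fin 2) F →* SpecialLinearGroup (Fin 2) K := SpecialLinearGroup.map (algebraMap F K)
  have hφ : ∀ g i j, (φ g : Matrix (Fin 2) (Fin 2) K) i j = ((g : Matrix (Fin 2) (Fin 2) F) i j : K) := fun _ _ _ => rfl
  have k1 : ∀ t : F, φ (xU t) = xU (t : K) := fun t => by
    ext i j; rw [hφ]; fin_cases i <;> fin_cases j <;> simp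
  have k2 : ∀ t : F, φ (xL t) = xL (t : K) := fun t => by
    ext i j; rw [hφ]; fin_cases i <;> fin_cases j <;> simp
  have hr : (φ.range : Set (SpecialLinearGroup (Fin 2) K)) =
      {g : SpecialLinearGroup (Fin 2) K | ∀ i j : Fin 2, (g : Matrix (Fin 2) (Fin 2) K) i j ∈ F} := by
    ext g
    refine ⟨by rintro ⟨g, rfl⟩ i j; rw [hφ]; exact Subtype.prop _, fun h => ⟨⟨Matrix.of fun i j => ⟨_, h i j⟩, ?_⟩, ?_⟩⟩
    · apply Subtype.ext
      have := g.det_coe
      rw [det_fin_two] at this ⊢
      simpa using this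
    · ext i j; rfl
  rw [← hr]
  congr 1
  apply le_antisymm
  · rw [Subgroup.closure_le]
    rintro g (⟨c, hc⟩ | ⟨c, hc⟩)
    · exact ⟨xU (algebraMap k F c), by rw [k1]; exact (Subtype.ext hc).symm⟩
    · exact ⟨xL (algebraMap k F c * lam), by rw [k2]; exact (Subtype.ext hc).symm⟩
  · rintro _ ⟨g, rfl⟩
    refine Subgroup.mem_comap.1 ((sl2_gen (k := k) (lam := lam) h2 hk3 (fun e => hα0 (congrArg Subtype.val e))
      ((isIntegral_algHom_iff F.val Subtype.val_injective).1 hα.isIntegral) (fun x => ?_) (fun c => ?_) fun c => ?_).ge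
      (Subgroup.mem_top g))
    · have : (x : K) ∈ Algebra.adjoin k {α} := by
        rw [← IntermediateField.adjoin_simple_toSubalgebra_of_isAlgebraic hα]; exact x.2
      rw [Algebra.adjoin_singleton_eq_range_aeval] at this
      obtain ⟨p, hp⟩ := this
      exact ⟨p, Subtype.ext (by rw [← hp]; exact (aeval_algHom_apply F.val lam p).symm)⟩
    · rw [Subgroup.mem_comap, k1]; exact Subgroup.subset_closure (Or.inl ⟨c, rfl⟩)
    · rw [Subgroup.mem_comap, k2]; exact Subgroup.subset_closure (Or.inr ⟨c, rfl⟩)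

end Cfsg.Agent.S5060
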