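import Cfsg.Statements.S5063
import Cfsg.Agent.Lib.Root.QP5

set_option autoImplicit false
universe u
open Cfsg

namespace Cfsg.Agent.S5063

open Cfsg.Agent.Root

/-- Let k be a field of characteristic not 2 with k not of order 3, M a finite-dimensional k-vector space and G ≤ GL(M) such that (G, M) is a quadratic pair (M irreducible for G, and G generated by its quadratically acting elements σ whose scalar family 1 + c(σ − 1), c ∈ k, lies in G). Write 𝒬_d for the quadratic elements of G of minimal commutator rank, E(σ) for the subgroup generated by the members of 𝒬_d with the same fixed space and commutator space as σ, and Σ for the set of these subgroups. Then G is a central product of finitely many quasisimple normal subgroups G₁, …, G_s (pairwise commuting and together generating G), each generated by the quadratic elements of G it contains, and every quadratic element of G lies in one of them. -/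
theorem result {k : Type u} [Field k] (hk2 : ringChar k ≠ 2) (hk3 : Nat.card k ≠ 3)
    {M : Type u} [AddCommGroup M] [Module k M] [FiniteDimensional k M]
    {G : Subgroup (LinearMap.GeneralLinearGroup k M)} (hG : Cfsg.IsQuadraticPair G) :
    ∃ (s : ℕ) (Gi : Fin s → Subgroup (LinearMap.GeneralLinearGroup k M)),
      (∀ i, Gi i ≤ G ∧ ∀ g ∈ G, Cfsg.conjBy (Gi i) g = Gi i) ∧ (∀ i j, i ≠ j → ⁅Gi i, Gi j⁆ = ⊥) ∧ (⨆ i, Gi i) = G ∧
      (∀ i, Cfsg.IsQuasisimple ↥(Gi i) ∧ Subgroup.closure (Cfsg.quadraticElements G ∩ (Gi i : Set (LinearMap.GeneralLinearGroup k M))) = Gi i) ∧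
      Cfsg.quadraticElements G ⊆ ⋃ i, (Gi i : Set (LinearMap.GeneralLinearGroup k M)) := by
  have h2 : (2 : k) ≠ 0 := Ring.two_ne_zero hk2
  have nu := nu_of_irr hG.1
  obtain ⟨𝒢, a1, a2, a3, a4, a5⟩ := qp_struct h2 hk3 _ G (Nat.lt_succ_self _) nu hG.2
  have key : ∀ H ∈ 𝒢, ∀ H' ∈ 𝒢, ∀ z w, QE k H z → z ≠ 0 → QE k H' w → w ≠ 0 → z * w = 0 → H = H' := by
    intro H hH H' hH' z w hz z0 hw w0 e
    by_contra hne
    have c := a3 H hH H' hH' hne
    obtain ⟨b1, b2, b3, -⟩ := a2 H' hH'
    have cz : ∀ g ∈ H', z * g = g * z := fun g hg => by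
      have := congrArg Units.val (c _ hz.un1_mem g hg)
      simp only [Units.val_mul, un1_val] at this
      linear_combination (norm := noncomm_ring) this
    let N : Subgroup H' :=
      { carrier := {g | z * g.1 = z}
        one_mem' := by simp
        mul_mem' := fun {a b} ha hb => by
          simp only [Set.mem_ofPred_eq, Subgroup.coe_mul, Units.val_mul] at ha hb ⊢; rw [← mul_assoc, ha, hb]
        inv_mem' := fun {a} ha => by
          simp only [Set.mem_ofPred_eq, Subgroup.coe_inv] at ha ⊢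
          rw [Units.mul_inv_eq_iff_eq_mul, ha] }
    have hN : N.Normal := ⟨fun n hn g => by
      change z * (g.1 * n.1 * g.1⁻¹ : (Module.End k M)ˣ) = z
      have hn : z * n.1 = z := hn
      rw [Units.val_mul, Units.val_mul, ← mul_assoc, ← mul_assoc, cz _ g.2, mul_assoc _ z, hn, ← cz _ g.2]; simp⟩
    have hw' : (⟨_, hw.un1_mem⟩ : H') ∈ N := by change z * (1 + w) = z; rw [mul_add, e]; simp
    haveI := b3.2
    rcases (hN.map (QuotientGroup.mk' (Subgroup.center H')) (QuotientGroup.mk'_surjective _)).eq_bot_or_eq_top with h | h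
    · rw [Subgroup.map_eq_bot_iff, QuotientGroup.ker_mk'] at h
      have nu' : NU H' := nu.of_cent b1 (a4.ge.trans (sSup_le fun K hK => by
        by_cases e : K = H'
        · exact e ▸ le_sup_left
        · exact le_sup_of_le_right (cm_iff_le.1 (a3 K hK H' hH' e))))
      have := nu' (Subgroup.zpowers (un1 w hw.1)) (Subgroup.zpowers_le.2 hw.un1_mem)
        (Un.mono (nil_of_le (Aug_EG (G := H') (x := w)) ⟨2, by
          rw [pow_two]; exact eq_bot_iff.2 (Submodule.mul_le.2 fun _ ha _ hb => E0_mul ha hb)⟩)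
          (Subgroup.zpowers_le.2 (un1_mem_EG hw.mem_self))) fun g hg => smul_eq_of_comm fun x hx => by
            obtain ⟨n, rfl⟩ := hx
            exact (Commute.zpow_right (congrArg Subtype.val (Subgroup.mem_center_iff.1 (h hw') ⟨g, hg⟩)) n).eq
      exact w0 (un1_eq_one.1 (Subgroup.zpowers_eq_bot.1 this))
    · have h' : N ⊔ Subgroup.center H' = ⊤ := by
        rw [← QuotientGroup.ker_mk' (Subgroup.center H'), ← Subgroup.comap_map_eq, h, Subgroup.comap_top]
      have ht := eq_top_of_perfect b3.1 (Cm.nilpotent fun a _ b hb => Subgroup.mem_center_iff.1 hb a) h'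
      have l : ∀ g ∈ H', LinearMap.range ((g : M →ₗ[k] M) - 1) ≤ commutatorSubmodule H' :=
        fun g hg => le_iSup₂_of_le g hg le_rfl
      rcases hG.1.2 (commutatorSubmodule H') (fun g hg => (show commutatorSubmodule H' ≤
          (commutatorSubmodule H').comap (g : M →ₗ[k] M) from iSup₂_le fun u hu => by
        rintro _ ⟨m, rfl⟩
        refine l _ (b2 g hg ▸ conj_mem hu g) ⟨g.1 m, ?_⟩
        have : (((g * u * g⁻¹ : (Module.End k M)ˣ) : Module.End k M) - 1) * g = g * (u - 1) := by simp [sub_mul, mul_sub]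
        exact LinearMap.congr_fun this m)) with h | h
      · exact w0 (LinearMap.range_eq_bot.1 (by simpa [h] using l _ hw.un1_mem))
      · refine z0 (LinearMap.ker_eq_top.1 (eq_top_iff.2 (h.ge.trans (iSup₂_le fun g hg => ?_))))
        rintro _ ⟨m, rfl⟩
        have : z * g = z := ht.ge (Subgroup.mem_top (⟨g, hg⟩ : H'))
        rw [LinearMap.mem_ker, ← Module.End.mul_apply, mul_sub, this]; simp
  have all : ∀ n y, QE k G y → y ≠ 0 → rk y < n → ∃ H ∈ 𝒢, QE k H y := fun n => by
    induction n with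
    | zero => intro _ _ _ h; omega
    | succ n ih =>
      intro y hy y0 hr
      obtain ⟨H, hH, z, c1, c2, c3, c4, c5, c6⟩ := a5 y hy y0
      by_cases h0 : y - z = 0
      · exact ⟨H, hH, sub_eq_zero.1 h0 ▸ c1⟩
      obtain ⟨H', hH', q⟩ := ih _ c3 h0 (by omega)
      have e1 : z * (y - z) = 0 := by rw [mul_sub, c4, c1.1, sub_zero]
      obtain rfl := key H hH H' hH' _ _ c1 c2 q h0 e1
      exact ⟨H, hH, by simpa using c1.add q e1 (by rw [sub_mul, c5, c1.1, sub_zero])⟩
  obtain ⟨s, Gi, hi, rfl⟩ := a1.fin_param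
  refine ⟨s, Gi, fun i => ⟨(a2 _ ⟨i, rfl⟩).1, (a2 _ ⟨i, rfl⟩).2.1⟩,
    fun i j hne => cm_iff.2 (a3 _ ⟨i, rfl⟩ _ ⟨j, rfl⟩ (hi.ne hne)), a4, fun i => (a2 _ ⟨i, rfl⟩).2.2, fun g hg => ?_⟩
  obtain ⟨_, ⟨i, rfl⟩, q⟩ := all _ _ (mem_quad.1 hg).1 (mem_quad.1 hg).2 (Nat.lt_succ_self _)
  exact Set.mem_iUnion.2 ⟨i, eq_un1 q.1 ▸ q.un1_mem⟩

end Cfsg.Agent.S5063
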