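import Cfsg.Statements.S5064
import Cfsg.Agent.Lib.Root.QP4

set_option autoImplicit false
universe u
open Cfsg

namespace Cfsg.Agent.S5064

open Cfsg.Agent.Root

/-- Let k be a field of characteristic not 2 with k not of order 3, M a finite-dimensional k-vector space and G ≤ GL(M) such that (G, M) is a quadratic pair (M irreducible for G, and G generated by its quadratically acting elements σ whose scalar family 1 + c(σ − 1), c ∈ k, lies in G). Write 𝒬_d for the quadratic elements of G of minimal commutator rank, E(σ) for the subgroup generated by the members of 𝒬_d with the same fixed space and commutator space as σ, and Σ for the set of these subgroups. If σ, τ ∈ 𝒬_d and the subgroup H generated by their two scalar families does not act unipotently on M, then H is isomorphic to SL₂ over a simple algebraic extension k(λ) of k. -/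
theorem result {k : Type u} [Field k] (hk2 : ringChar k ≠ 2) (hk3 : Nat.card k ≠ 3)
    {M : Type u} [AddCommGroup M] [Module k M] [FiniteDimensional k M]
    {G : Subgroup (LinearMap.GeneralLinearGroup k M)} (hG : Cfsg.IsQuadraticPair G)
    {σ τ : LinearMap.GeneralLinearGroup k M} (hσ : σ ∈ Cfsg.minimalQuadraticElements G) (hτ : τ ∈ Cfsg.minimalQuadraticElements G)
    (hH : ¬ Cfsg.IsUnipotentOn (Subgroup.closure (Cfsg.scalarFamily σ ∪ Cfsg.scalarFamily τ))) :
    ∃ (K : Type u) (_ : Field K) (_ : Algebra k K) (lam : K), IsAlgebraic k lam ∧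
      IntermediateField.adjoin k ({lam} : Set K) = ⊤ ∧
      Nonempty (↥(Subgroup.closure (Cfsg.scalarFamily σ ∪ Cfsg.scalarFamily τ)) ≃* Matrix.SpecialLinearGroup (Fin 2) K) := by
  have h2 : (2 : k) ≠ 0 := Ring.two_ne_zero hk2
  have hx := mem_min.1 hσ
  have hy := mem_min.1 hτ
  have sf : ∀ {σ : LinearMap.GeneralLinearGroup k M}, QE k G ((σ : M →ₗ[k] M) - 1) →
      scalarFamily σ ⊆ EG G ((σ : M →ₗ[k] M) - 1) := by
    rintro σ h g ⟨c, hc⟩
    rw [SetLike.mem_coe, mem_EG, hc, add_sub_cancel_left]; exact Submodule.smul_mem _ c h.mem_self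
  obtain ⟨K, _, _, lam, φ, h0, hi, hs, hφ, e1, e2, -, -⟩ := hx.hom h2 hk3 hy fun e => hH (unip_iff.2
    ((hx.np h2 hk3 hy e).un.mono ((Subgroup.closure_le _).2 (Set.union_subset
      (fun g hg => Subgroup.mem_sup_left (sf hx.1 hg)) fun g hg => Subgroup.mem_sup_right (sf hy.1 hg)))))
  refine ⟨K, inferInstance, inferInstance, lam, hi.isAlgebraic, eq_top_iff.2 fun z _ => ?_, ⟨MulEquiv.symm ?_⟩⟩
  · obtain ⟨p, rfl⟩ := hs z
    exact IntermediateField.algebra_adjoin_le_adjoin k _ (Polynomial.aeval_mem_adjoin_singleton k lam)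
  refine (φ.ofInjective hφ).trans (MulEquiv.subgroupCongr (le_antisymm ?_ ((Subgroup.closure_le _).2 ?_)))
  · rintro _ ⟨g, rfl⟩
    refine Subgroup.mem_comap.1 ((sl2_gen h2 hk3 h0 hi hs (fun c => ?_) fun c => ?_).ge (Subgroup.mem_top g))
    · exact Subgroup.subset_closure (Or.inl ⟨c, e1 c⟩)
    · exact Subgroup.subset_closure (Or.inr ⟨c, e2 c⟩)
  · rintro g (⟨c, hc⟩ | ⟨c, hc⟩)
    · exact ⟨_, Units.ext ((e1 c).trans hc.symm)⟩
    · exact ⟨_, Units.ext ((e2 c).trans hc.symm)⟩

end Cfsg.Agent.S5064
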