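import Cfsg.Statements.S5065
import Cfsg.Agent.Lib.Root.QP4

set_option autoImplicit false
universe u
open Cfsg

namespace Cfsg.Agent.S5065

open Cfsg.Agent.Root

/-- Let k be a field of characteristic not 2 with k not of order 3, M a finite-dimensional k-vector space and G ≤ GL(M) such that (G, M) is a quadratic pair (M irreducible for G, and G generated by its quadratically acting elements σ whose scalar family 1 + c(σ − 1), c ∈ k, lies in G). Write 𝒬_d for the quadratic elements of G of minimal commutator rank, E(σ) for the subgroup generated by the members of 𝒬_d with the same fixed space and commutator space as σ, and Σ for the set of these subgroups. For σ, τ ∈ 𝒬_d put A = E(σ), B = E(τ) and X = ⟨A, B⟩. Then either X acts unipotently on M, or A and B are the unipotent subgroups of a special rank one group X; in the latter case X contains exactly one central involution acting as −1 on the commutator space [M, X] and trivially on the fixed space C_M(X), and M is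 the direct sum of C_M(X) and [M, X]. -/
theorem result {k : Type u} [Field k] (hk2 : ringChar k ≠ 2) (hk3 : Nat.card k ≠ 3)
    {M : Type u} [AddCommGroup M] [Module k M] [FiniteDimensional k M]
    {G : Subgroup (LinearMap.GeneralLinearGroup k M)} (hG : Cfsg.IsQuadraticPair G)
    {σ τ : LinearMap.GeneralLinearGroup k M} (hσ : σ ∈ Cfsg.minimalQuadraticElements G) (hτ : τ ∈ Cfsg.minimalQuadraticElements G) :
    Cfsg.IsUnipotentOn (Cfsg.sameActionSubgroup G σ ⊔ Cfsg.sameActionSubgroup G τ) ∨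
    (Cfsg.IsSpecialRankOnePair (Cfsg.sameActionSubgroup G σ) (Cfsg.sameActionSubgroup G τ) ∧
      (∃! i : LinearMap.GeneralLinearGroup k M, i ∈ Cfsg.sameActionSubgroup G σ ⊔ Cfsg.sameActionSubgroup G τ ∧ i ≠ 1 ∧ i * i = 1 ∧
        (∀ x ∈ Cfsg.sameActionSubgroup G σ ⊔ Cfsg.sameActionSubgroup G τ, i * x = x * i) ∧
        (∀ m ∈ Cfsg.commutatorSubmodule (Cfsg.sameActionSubgroup G σ ⊔ Cfsg.sameActionSubgroup G τ), (i : M →ₗ[k] M) m = -m) ∧
        (∀ m ∈ Cfsg.fixedSubmodule (Cfsg.sameActionSubgroup G σ ⊔ Cfsg.sameActionSubgroup G τ), (i : M →ₗ[k] M) m = m)) ∧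
      IsCompl (Cfsg.fixedSubmodule (Cfsg.sameActionSubgroup G σ ⊔ Cfsg.sameActionSubgroup G τ))
        (Cfsg.commutatorSubmodule (Cfsg.sameActionSubgroup G σ ⊔ Cfsg.sameActionSubgroup G τ))) := by
  have h2 : (2 : k) ≠ 0 := Ring.two_ne_zero hk2
  have hx := mem_min.1 hσ
  have hy := mem_min.1 hτ
  rw [same_eq hx, same_eq hy]
  generalize (σ : M →ₗ[k] M) - 1 = x at hx ⊢
  generalize (τ : M →ₗ[k] M) - 1 = y at hy ⊢
  refine (hx.tri h2 hk3 hy).imp (fun h => unip_iff.2 h.un) fun h => ⟨h.sp h2 hk3 hx hy, ?_⟩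
  obtain ⟨b, hb, mu⟩ := h.partner h2 hk3 hx hy hx.1.mem_self hx.2.1
  rw [← EG_congr (hy.E0_eq hb (mu.ne hx.2.1))]
  have hb' := hb.1
  have m1 : un1 x mu.aa ∈ EG G x ⊔ EG G b := Subgroup.mem_sup_left (un1_mem_EG hx.1.mem_self)
  have m2 : un1 b mu.bb ∈ EG G x ⊔ EG G b := Subgroup.mem_sup_right (un1_mem_EG hb'.mem_self)
  obtain ⟨e, he⟩ : ∃ e, e = x * b + b * x := ⟨_, rfl⟩
  have ee : IsIdempotentElem e := by rw [IsIdempotentElem, he]; mus mu; abel
  have k1 : ∀ {x b : Module.End k M}, MU x b → ∀ g ∈ EG G x, (x * b + b * x) * ((g : Module.End k M) - 1) = g - 1 ∧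
      ((g : Module.End k M) - 1) * (x * b + b * x) = g - 1 := fun {x b} mu g hg => by
    have a1 := mul_eq_zero_of_le hg.2.1 (w := 1 - (x * b + b * x)) (by mus mu; abel)
    have a2 := mul_eq_zero_of_ker hg.2.2.1 (w := 1 - (x * b + b * x)) (by mus mu; abel)
    rw [sub_mul, one_mul, sub_eq_zero] at a1
    rw [mul_sub, mul_one, sub_eq_zero] at a2
    exact ⟨a1.symm, a2.symm⟩
  have k2 : ∀ g ∈ EG G x ⊔ EG G b, e * ((g : Module.End k M) - 1) = g - 1 ∧ ((g : Module.End k M) - 1) * e = g - 1 := by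
    refine sup_ind (he ▸ k1 mu) (by rw [he, add_comm]; exact k1 mu.symm) fun u _ v _ hu hv => ?_
    rw [Units.val_mul]
    exact ⟨by linear_combination (norm := noncomm_ring) hu.1 * v + hv.1,
      by linear_combination (norm := noncomm_ring) u * hv.2 + hu.2⟩
  have f1 : fixedSubmodule (EG G x ⊔ EG G b) = LinearMap.ker e := by
    refine le_antisymm (fun m hm => ?_) (le_iInf₂ fun g hg m hm => ?_)
    · simp only [fixedSubmodule, Submodule.mem_iInf, LinearMap.mem_ker] at hm
      have a1 := hm _ m1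
      have a2 := hm _ m2
      simp only [un1_val, add_sub_cancel_left] at a1 a2
      simp [he, a1, a2]
    · rw [LinearMap.mem_ker, ← (k2 g hg).2, Module.End.mul_apply, LinearMap.mem_ker.1 hm, map_zero]
  have f2 : commutatorSubmodule (EG G x ⊔ EG G b) = LinearMap.range e := by
    refine le_antisymm (iSup₂_le fun g hg => (k2 g hg).1 ▸ LinearMap.range_comp_le_range _ _) ?_
    rintro _ ⟨m, rfl⟩
    have l : ∀ g ∈ EG G x ⊔ EG G b, LinearMap.range ((g : M →ₗ[k] M) - 1) ≤ commutatorSubmodule (EG G x ⊔ EG G b) :=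
      fun g hg => le_iSup₂_of_le g hg le_rfl
    rw [he]
    exact add_mem (l _ m1 ⟨b m, by simp⟩) (l _ m2 ⟨x m, by simp⟩)
  rw [f1, f2]
  have ic := LinearMap.IsIdempotentElem.isCompl ee
  have hi : (((un1 x mu.aa * (un1 b mu.bb)⁻¹ * un1 x mu.aa) ^ 2 : (Module.End k M)ˣ) : Module.End k M) = 1 - (e + e) := by
    simp only [pow_two, Units.val_mul, un1_val, un1_inv, he]; mus mu; abel
  have g1 : ∀ m ∈ LinearMap.range e, (1 - (e + e)) m = -m := by
    rintro _ ⟨m, rfl⟩
    simp [← Module.End.mul_apply e e, ee.eq]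
  have g2 : ∀ m ∈ LinearMap.ker e, (1 - (e + e)) m = m := fun m hm => by simp [LinearMap.mem_ker.1 hm]
  refine ⟨⟨_, ⟨pow_mem (mul_mem (mul_mem m1 (inv_mem m2)) m1) 2, fun h1 => hx.2.1 ?_, Units.ext ?_,
    fun g hg => Units.ext ?_, hi ▸ g1, hi ▸ g2⟩, fun j hj => Units.ext ?_⟩, ic.symm⟩
  · rw [h1, Units.val_one, eq_comm, sub_eq_self, ← two_smul k, smul_eq_zero_iff_right h2] at hi
    have : x = e * x := by rw [he]; mus mu; abel
    rw [this, hi, zero_mul]
  · rw [Units.val_mul, hi, Units.val_one]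
    linear_combination (norm := noncomm_ring) 4 * ee.eq
  · rw [Units.val_mul, Units.val_mul, hi]
    linear_combination (norm := noncomm_ring) 2 * (k2 g hg).2 - 2 * (k2 g hg).1
  · rw [hi]
    exact LinearMap.ext_on_codisjoint ic.codisjoint (fun m hm => (hj.2.2.2.2.1 m hm).trans (g1 m hm).symm)
      fun m hm => (hj.2.2.2.2.2 m hm).trans (g2 m hm).symm

end Cfsg.Agent.S5065
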