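import Cfsg.Statements.S5067
import Cfsg.Agent.Lib.Root.R1

set_option autoImplicit false
open Cfsg

namespace Cfsg.Agent.S5067

open Cfsg.Agent.Root Subgroup

theorem aux {P : Type*} [Group P] [Group.IsNilpotent P] (hna : ¬ IsMulCommutative P) {E : Subgroup P}
    (hE : IsMulCommutative ↥E) : Group.nilpotencyClass ↥(Subgroup.normalClosure (E : Set P)) < Group.nilpotencyClass P := by
  obtain ⟨m, hm⟩ : ∃ m, Group.nilpotencyClass P = m + 2 := by
    have := mt Group.IsNilpotent.nilpotencyClass_le_one_iff.1 hna
    exact ⟨Group.nilpotencyClass P - 2, by omega⟩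
  haveI : (E ⊔ commutator P).Normal := Subgroup.Normal.of_commutator_le _ le_sup_right
  have h1 : normalClosure (E : Set P) ≤ E ⊔ commutator P := normalClosure_le_normal fun x hx => mem_sup_left hx
  have h2 : ⁅E ⊔ commutator P, E ⊔ commutator P⁆ ≤ Subgroup.lowerCentralSeries (⊤ : Subgroup P) 2 := by
    set L := Subgroup.lowerCentralSeries (⊤ : Subgroup P) 2
    have c : Cm ((commutator P).map (QuotientGroup.mk' L)) ⊤ := by
      rw [← cm_iff, ← (QuotientGroup.mk' L).range_eq_top_of_surjective (QuotientGroup.mk'_surjective L),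
        MonoidHom.range_eq_map, ← Subgroup.map_commutator, Subgroup.map_eq_bot_iff, QuotientGroup.ker_mk']
      rfl
    have c2 : Cm (E.map (QuotientGroup.mk' L)) (E.map (QuotientGroup.mk' L)) := by
      rintro _ ⟨a, ha, rfl⟩ _ ⟨b, hb, rfl⟩
      rw [← map_mul, ← map_mul, cm_self.1 hE a ha b hb]
    rw [← QuotientGroup.ker_mk' L, ← Subgroup.map_eq_bot_iff, Subgroup.map_commutator, cm_iff, Subgroup.map_sup]
    exact (c2.sup' (c.mono le_rfl le_top).symm).sup (c.mono le_rfl le_top)
  have h3 : ∀ n, Subgroup.lowerCentralSeries (normalClosure (E : Set P)) (n + 1) ≤ Subgroup.lowerCentralSeries (⊤ : Subgroup P) (n + 2) := by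
    intro n
    induction n with
    | zero => exact (commutator_mono h1 h1).trans h2
    | succ n ih => exact commutator_mono ih le_top
  rw [hm, Nat.lt_succ_iff, ← Subgroup.lowerCentralSeries_eq_bot_iff_nilpotencyClass_le,
    ← Subgroup.map_eq_bot_iff_of_injective _ (subtype_injective _), top_subtype_lowerCentralSeries, eq_bot_iff,
    ← Subgroup.lowerCentralSeries_nilpotencyClass, hm]
  exact h3 m

/-- Let P be a non-abelian nilpotent p-group (every element of p-power order; P possibly infinite) generated by two abelian subgroups E and F. Then the normal closure of E in P, and likewise that of F, has nilpotency class strictly smaller than that of P. -/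
theorem result {P : Type*} [Group P] {p : ℕ} [Fact p.Prime] (hP : IsPGroup p P) [Group.IsNilpotent P]
    (hna : ¬ IsMulCommutative P) {E F : Subgroup P} (hE : IsMulCommutative ↥E) (hF : IsMulCommutative ↥F) (hgen : E ⊔ F = ⊤) :
    Group.nilpotencyClass ↥(Subgroup.normalClosure (E : Set P)) < Group.nilpotencyClass P ∧
    Group.nilpotencyClass ↥(Subgroup.normalClosure (F : Set P)) < Group.nilpotencyClass P := by
  exact ⟨aux hna hE, aux hna hF⟩

end Cfsg.Agent.S5067
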