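import Cfsg.Statements.S5069
import Cfsg.Agent.Lib.Root.QP5

set_option autoImplicit false
universe u
open Cfsg

namespace Cfsg.Agent.S5069

open Cfsg.Agent.Root

/-- Let k be a field of characteristic not 2 with k not of order 3, M a finite-dimensional k-vector space and G ≤ GL(M) such that (G, M) is a quadratic pair (M irreducible for G, and G generated by its quadratically acting elements σ whose scalar family 1 + c(σ − 1), c ∈ k, lies in G). Write 𝒬_d for the quadratic elements of G of minimal commutator rank, E(σ) for the subgroup generated by the members of 𝒬_d with the same fixed space and commutator space as σ, and Σ for the set of these subgroups. Then Σ is a disjoint union of finitely many parts Σ₁, …, Σ_r such that the subgroups G_i generated by the Σ_i commute pairwise, each G_i is quasisimple, and inside G_i the members of Σ_i form a class of abstract root subgroups in which every rank one pair A, B contains subgroups A₀ ≤ A, B₀ ≤ B generating an image of SL₂(k₁) with central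 kernel on unitriangular subgroups for some field k₁ with at least four elements. -/
theorem result {k : Type u} [Field k] (hk2 : ringChar k ≠ 2) (hk3 : Nat.card k ≠ 3)
    {M : Type u} [AddCommGroup M] [Module k M] [FiniteDimensional k M]
    {G : Subgroup (LinearMap.GeneralLinearGroup k M)} (hG : Cfsg.IsQuadraticPair G) :
    ∃ (r : ℕ) (part : Fin r → Set (Subgroup (LinearMap.GeneralLinearGroup k M))),
      (⋃ i, part i) = Cfsg.quadraticRootSubgroups G ∧ (∀ i j, i ≠ j → Disjoint (part i) (part j)) ∧ (∀ i, (part i).Nonempty) ∧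
      (∀ i j, i ≠ j → ⁅(⨆ A ∈ part i, A), (⨆ A ∈ part j, A)⁆ = ⊥) ∧
      (∀ i, Cfsg.IsQuasisimple ↥(⨆ A ∈ part i, A) ∧
        Cfsg.IsRootSubgroupClass ((fun A : Subgroup (LinearMap.GeneralLinearGroup k M) => A.subgroupOf (⨆ B ∈ part i, B)) '' (part i)) ∧
        ∀ A ∈ part i, ∀ B ∈ Cfsg.rankOnePartners (part i) A, ∃ A₀ B₀ : Subgroup (LinearMap.GeneralLinearGroup k M), A₀ ≤ A ∧ B₀ ≤ B ∧
          ∃ (k₁ : Type u) (_ : Field k₁), 3 < ENat.card k₁ ∧ Cfsg.IsPSL2PairOver k₁ A₀ B₀) := by
  have h2 : (2 : k) ≠ 0 := Ring.two_ne_zero hk2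
  have nu := nu_of_irr hG.1
  have L := lar_sig h2 hk3 nu
  have hF := ni_sig h2 hk3 nu
  obtain ⟨r, part, hi, hr⟩ := (finite_cpt h2 hk3 nu).fin_param
  have hp : ∀ i, ∃ A ∈ quadraticRootSubgroups G, cpt (quadraticRootSubgroups G) A = part i := fun i => hr.le ⟨i, rfl⟩
  choose A hA e using hp
  refine ⟨r, part, le_antisymm (Set.iUnion_subset fun i B hB => (e i ▸ hB : B ∈ cpt _ (A i)).1) fun B hB => ?_,
    fun i j hne => Set.disjoint_left.2 fun B h1 h3 => hne (hi ?_), fun i => ⟨A i, e i ▸ ⟨hA i, .refl⟩⟩, fun i j hne => ?_,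
    fun i => ?_⟩
  · obtain ⟨i, h⟩ := hr.ge ⟨B, hB, rfl⟩
    exact Set.mem_iUnion.2 ⟨i, h ▸ ⟨hB, .refl⟩⟩
  · rw [← e i] at h1 ⊢
    rw [← e j] at h3 ⊢
    exact (cpt_eq h1).symm.trans (cpt_eq h3)
  · rw [← e i, ← e j]
    exact cm_iff.2 (L.cm_cpt hF fun h => hne (hi ((e i).symm.trans (h.trans (e j)))))
  · rw [← e i]
    exact ⟨quasi_cpt h2 hk3 nu hG.2 (hA i), L.class_cpt hF (hA i), fun B hB C hC => subpair h2 hk3 nu hB.1 hC.1.1 hC.2⟩

end Cfsg.Agent.S5069
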