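import Cfsg.Statements.S5070
import Cfsg.Agent.Lib.Root.TFF

set_option autoImplicit false
open Matrix
open Cfsg

namespace Cfsg.Agent.S5070

open Cfsg.Agent.Root Cfsg.Agent.Classical

/-- Let F be a field, m a natural number and V = F^{2(m+1)} with the standard non-degenerate alternating form f(u, v) = uᵀ J v. For a non-zero vector p let T(p) be the group of symplectic transvections v ↦ v + c f(v, p) p, c ∈ F. Then the subgroups T(p), p ≠ 0, generate the symplectic group Sp_{2(m+1)}(F) and form a degenerate class of abstract F-root subgroups of it (any two of them either commute elementwise or are the unipotent subgroups of a rank one group that is an image of SL₂(F) with central kernel, never the commutator case), and their graph of rank one pairs is connected. -/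
theorem result (F : Type*) [Field F] (m : ℕ) :
    Cfsg.IsRootSubgroupClass {A : Subgroup ↥(Matrix.symplecticGroup (Fin (m + 1)) F) | ∃ p : Fin (m + 1) ⊕ Fin (m + 1) → F, p ≠ 0 ∧
        A = Subgroup.closure {g : ↥(Matrix.symplecticGroup (Fin (m + 1)) F) | ∃ c : F, ∀ v : Fin (m + 1) ⊕ Fin (m + 1) → F,
          (g : Matrix (Fin (m + 1) ⊕ Fin (m + 1)) (Fin (m + 1) ⊕ Fin (m + 1)) F) *ᵥ v =
            v + (c * (v ⬝ᵥ (Matrix.J (Fin (m + 1)) F *ᵥ p))) • p}} ∧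
    Cfsg.IsDegenerateRootSet {A : Subgroup ↥(Matrix.symplecticGroup (Fin (m + 1)) F) | ∃ p : Fin (m + 1) ⊕ Fin (m + 1) → F, p ≠ 0 ∧
        A = Subgroup.closure {g : ↥(Matrix.symplecticGroup (Fin (m + 1)) F) | ∃ c : F, ∀ v : Fin (m + 1) ⊕ Fin (m + 1) → F,
          (g : Matrix (Fin (m + 1) ⊕ Fin (m + 1)) (Fin (m + 1) ⊕ Fin (m + 1)) F) *ᵥ v =
            v + (c * (v ⬝ᵥ (Matrix.J (Fin (m + 1)) F *ᵥ p))) • p}} ∧
    Cfsg.IsKRootSubgroupSet F {A : Subgroup ↥(Matrix.symplecticGroup (Fin (m + 1)) F) | ∃ p : Fin (m + 1) ⊕ Fin (m + 1) → F, p ≠ 0 ∧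
        A = Subgroup.closure {g : ↥(Matrix.symplecticGroup (Fin (m + 1)) F) | ∃ c : F, ∀ v : Fin (m + 1) ⊕ Fin (m + 1) → F,
          (g : Matrix (Fin (m + 1) ⊕ Fin (m + 1)) (Fin (m + 1) ⊕ Fin (m + 1)) F) *ᵥ v =
            v + (c * (v ⬝ᵥ (Matrix.J (Fin (m + 1)) F *ᵥ p))) • p}} ∧
    Cfsg.IsConnectedFamily (Cfsg.FAdj {A : Subgroup ↥(Matrix.symplecticGroup (Fin (m + 1)) F) | ∃ p : Fin (m + 1) ⊕ Fin (m + 1) → F, p ≠ 0 ∧
        A = Subgroup.closure {g : ↥(Matrix.symplecticGroup (Fin (m + 1)) F) | ∃ c : F, ∀ v : Fin (m + 1) ⊕ Fin (m + 1) → F,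
          (g : Matrix (Fin (m + 1) ⊕ Fin (m + 1)) (Fin (m + 1) ⊕ Fin (m + 1)) F) *ᵥ v =
            v + (c * (v ⬝ᵥ (Matrix.J (Fin (m + 1)) F *ᵥ p))) • p}})
      {A : Subgroup ↥(Matrix.symplecticGroup (Fin (m + 1)) F) | ∃ p : Fin (m + 1) ⊕ Fin (m + 1) → F, p ≠ 0 ∧
        A = Subgroup.closure {g : ↥(Matrix.symplecticGroup (Fin (m + 1)) F) | ∃ c : F, ∀ v : Fin (m + 1) ⊕ Fin (m + 1) → F,
          (g : Matrix (Fin (m + 1) ⊕ Fin (m + 1)) (Fin (m + 1) ⊕ Fin (m + 1)) F) *ᵥ v =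
            v + (c * (v ⬝ᵥ (Matrix.J (Fin (m + 1)) F *ᵥ p))) • p}} := by
  let ι : ↥(Matrix.symplecticGroup (Fin (m + 1)) F) →* Module.End F (Fin (m + 1) ⊕ Fin (m + 1) → F) :=
    (Matrix.toLinAlgEquiv' (R := F)).toMulEquiv.toMonoidHom.comp (spToMat (m + 1) F)
  have hι : ∀ g v, ι g v = (spEquiv (m + 1) F g).1 v := fun g v => rfl
  have hΦ := spForm_nondeg (F := F) (m + 1)
  have hN : ∀ b : F, ∃ l : F, algebraMap F F l = 1 * 1 * (b * ((Kind.symp F).ε * (Kind.symp F).σ b)) := fun b => ⟨_, rfl⟩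
  have t : TF F ι (isoN (spForm (m + 1) F) 1) := iso_tf hΦ one_ne_zero hN
    (fun a b e => (spEquiv (m + 1) F).injective (Subtype.ext (LinearEquiv.ext fun v => LinearMap.congr_fun e v)))
    (fun g u v => (spEquiv (m + 1) F g).2.1 u v) (fun g v => rfl)
    (fun f hf => ⟨(spEquiv (m + 1) F).symm ⟨f, hf.1⟩, LinearMap.ext fun v => by rw [hι]; simp⟩) fun l => rfl
  have key : ∀ p : Fin (m + 1) ⊕ Fin (m + 1) → F, Subgroup.closure {g : ↥(Matrix.symplecticGroup (Fin (m + 1)) F) |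
      ∃ c : F, ∀ v : Fin (m + 1) ⊕ Fin (m + 1) → F,
          (g : Matrix (Fin (m + 1) ⊕ Fin (m + 1)) (Fin (m + 1) ⊕ Fin (m + 1)) F) *ᵥ v =
            v + (c * (v ⬝ᵥ (Matrix.J (Fin (m + 1)) F *ᵥ p))) • p} = rt F ι ((1 : F) • (spForm (m + 1) F).rk p p) := fun p => by
    unfold rt; congr 1; ext g
    refine exists_congr fun c => ?_
    rw [LinearMap.ext_iff, one_smul]
    exact forall_congr' fun v => by rw [mul_smul]; rfl
  have e : {A : Subgroup ↥(Matrix.symplecticGroup (Fin (m + 1)) F) | ∃ p : Fin (m + 1) ⊕ Fin (m + 1) → F, p ≠ 0 ∧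
        A = Subgroup.closure {g : ↥(Matrix.symplecticGroup (Fin (m + 1)) F) | ∃ c : F, ∀ v : Fin (m + 1) ⊕ Fin (m + 1) → F,
          (g : Matrix (Fin (m + 1) ⊕ Fin (m + 1)) (Fin (m + 1) ⊕ Fin (m + 1)) F) *ᵥ v =
            v + (c * (v ⬝ᵥ (Matrix.J (Fin (m + 1)) F *ᵥ p))) • p}} = rt F ι '' isoN (spForm (m + 1) F) 1 := by
    ext A
    simp only [key]
    exact ⟨fun ⟨p, hp, e⟩ => ⟨_, ⟨p, ⟨hp, rfl⟩, rfl⟩, e.symm⟩, fun ⟨_, ⟨p, hp, e'⟩, e⟩ => ⟨p, hp.1, e' ▸ e.symm⟩⟩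
  have hc := iso_conn hΦ one_ne_zero hN t (Form.symp_rich _).rich0
  have hg : gen (rt F ι '' isoN (spForm (m + 1) F) 1) = ⊤ := by
    let ψ := (spForm (m + 1) F).Isom.subtype.comp (spEquiv (m + 1) F).toMonoidHom
    have : (spForm (m + 1) F).Isom ≤ (gen (rt F ι '' isoN (spForm (m + 1) F) 1)).map ψ := by
      rw [← Form.symp_closure_transvSet hΦ, Subgroup.closure_le]
      rintro _ ⟨d, c, h, -, rfl⟩
      by_cases hd : d = 0
      · exact ⟨1, one_mem _, LinearEquiv.ext fun v => by simp [Form.qrefl_apply, hd]⟩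
      obtain ⟨g, hg⟩ := t.ex _ ⟨d, ⟨hd, rfl⟩, rfl⟩ c
      refine ⟨g, le_gen (S := rt F ι '' isoN _ 1) ⟨_, ⟨d, ⟨hd, rfl⟩, rfl⟩, rfl⟩ (Subgroup.subset_closure ⟨c, hg⟩), LinearEquiv.ext fun v => ?_⟩
      rw [Form.qrefl_apply, mul_smul]
      exact (LinearMap.congr_fun hg v).trans (by simp)
    refine eq_top_iff.2 fun g _ => ?_
    obtain ⟨x, hx, e⟩ := this (spEquiv (m + 1) F g).2
    rwa [← (spEquiv (m + 1) F).injective (Subtype.ext e)]
  rw [e]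
  exact ⟨⟨t.ar hg, class_of_conn ⟨_, _, ⟨Pi.single (.inl 0) 1, ⟨by simp, rfl⟩, rfl⟩, rfl⟩ hc⟩,
    t.deg (iso_deg hΦ one_ne_zero hN) hg, t.kroot hg, hc⟩

end Cfsg.Agent.S5070
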