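import Cfsg.Statements.S5071
import Cfsg.Agent.Lib.Root.TFF

set_option autoImplicit false
open Matrix
open Cfsg

namespace Cfsg.Agent.S5071

open Cfsg.Agent.Root Cfsg.Agent.Classical

/-- Let F be a finite field with q² elements, n a natural number, and h the Hermitian form Σ uᵢ vᵢ^q on F^{n+2}. For a non-zero isotropic vector p let T(p) be the group of unitary transvections with centre ⟨p⟩: the elements of SU_{n+2}(q) moving every vector by a multiple of p and fixing every vector perpendicular to p. Let Σ be the set of these T(p) and G₀ the subgroup they generate. Then, viewed inside G₀, the members of Σ form a degenerate class of abstract k-root subgroups of G₀ for some field k with q elements (any two commute or are the unipotent subgroups of a rank one group that is an image of SL₂(k) with central kernel, never the commutator case), and their graph of rank one pairs is connected. -/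
theorem result (F : Type*) [Field F] [Fintype F] (q n : ℕ) (hF : Fintype.card F = q ^ 2) :
    Cfsg.IsRootSubgroupClass ((fun A : Subgroup ↥(Cfsg.SU (n + 2) F q) => A.subgroupOf (⨆ B ∈ {A : Subgroup ↥(Cfsg.SU (n + 2) F q) | ∃ p : Fin (n + 2) → F, p ≠ 0 ∧ Cfsg.hermForm (n + 2) F q p p = 0 ∧
          A = Subgroup.closure {g : ↥(Cfsg.SU (n + 2) F q) |
            (∀ v : Fin (n + 2) → F, ∃ c : F, ((g : Matrix.SpecialLinearGroup (Fin (n + 2)) F) : Matrix (Fin (n + 2)) (Fin (n + 2)) F) *ᵥ v = v + c • p) ∧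
            ∀ v : Fin (n + 2) → F, Cfsg.hermForm (n + 2) F q v p = 0 →
              ((g : Matrix.SpecialLinearGroup (Fin (n + 2)) F) : Matrix (Fin (n + 2)) (Fin (n + 2)) F) *ᵥ v = v}}, B)) ''
      {A : Subgroup ↥(Cfsg.SU (n + 2) F q) | ∃ p : Fin (n + 2) → F, p ≠ 0 ∧ Cfsg.hermForm (n + 2) F q p p = 0 ∧
          A = Subgroup.closure {g : ↥(Cfsg.SU (n + 2) F q) |
            (∀ v : Fin (n + 2) → F, ∃ c : F, ((g : Matrix.SpecialLinearGroup (Fin (n + 2)) F) : Matrix (Fin (n + 2)) (Fin (n + 2)) F) *ᵥ v = v + c • p) ∧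
            ∀ v : Fin (n + 2) → F, Cfsg.hermForm (n + 2) F q v p = 0 →
              ((g : Matrix.SpecialLinearGroup (Fin (n + 2)) F) : Matrix (Fin (n + 2)) (Fin (n + 2)) F) *ᵥ v = v}}) ∧
    Cfsg.IsDegenerateRootSet ((fun A : Subgroup ↥(Cfsg.SU (n + 2) F q) => A.subgroupOf (⨆ B ∈ {A : Subgroup ↥(Cfsg.SU (n + 2) F q) | ∃ p : Fin (n + 2) → F, p ≠ 0 ∧ Cfsg.hermForm (n + 2) F q p p = 0 ∧
          A = Subgroup.closure {g : ↥(Cfsg.SU (n + 2) F q) |
            (∀ v : Fin (n + 2) → F, ∃ c : F, ((g : Matrix.SpecialLinearGroup (Fin (n + 2)) F) : Matrix (Fin (n + 2)) (Fin (n + 2)) F) *ᵥ v = v + c • p) ∧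
            ∀ v : Fin (n + 2) → F, Cfsg.hermForm (n + 2) F q v p = 0 →
              ((g : Matrix.SpecialLinearGroup (Fin (n + 2)) F) : Matrix (Fin (n + 2)) (Fin (n + 2)) F) *ᵥ v = v}}, B)) ''
      {A : Subgroup ↥(Cfsg.SU (n + 2) F q) | ∃ p : Fin (n + 2) → F, p ≠ 0 ∧ Cfsg.hermForm (n + 2) F q p p = 0 ∧
          A = Subgroup.closure {g : ↥(Cfsg.SU (n + 2) F q) |
            (∀ v : Fin (n + 2) → F, ∃ c : F, ((g : Matrix.SpecialLinearGroup (Fin (n + 2)) F) : Matrix (Fin (n + 2)) (Fin (n + 2)) F) *ᵥ v = v + c • p) ∧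
            ∀ v : Fin (n + 2) → F, Cfsg.hermForm (n + 2) F q v p = 0 →
              ((g : Matrix.SpecialLinearGroup (Fin (n + 2)) F) : Matrix (Fin (n + 2)) (Fin (n + 2)) F) *ᵥ v = v}}) ∧
    (∃ (L : Type) (_ : Field L) (_ : Fintype L), Fintype.card L = q ∧ Cfsg.IsKRootSubgroupSet L ((fun A : Subgroup ↥(Cfsg.SU (n + 2) F q) => A.subgroupOf (⨆ B ∈ {A : Subgroup ↥(Cfsg.SU (n + 2) F q) | ∃ p : Fin (n + 2) → F, p ≠ 0 ∧ Cfsg.hermForm (n + 2) F q p p = 0 ∧
          A = Subgroup.closure {g : ↥(Cfsg.SU (n + 2) F q) |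
            (∀ v : Fin (n + 2) → F, ∃ c : F, ((g : Matrix.SpecialLinearGroup (Fin (n + 2)) F) : Matrix (Fin (n + 2)) (Fin (n + 2)) F) *ᵥ v = v + c • p) ∧
            ∀ v : Fin (n + 2) → F, Cfsg.hermForm (n + 2) F q v p = 0 →
              ((g : Matrix.SpecialLinearGroup (Fin (n + 2)) F) : Matrix (Fin (n + 2)) (Fin (n + 2)) F) *ᵥ v = v}}, B)) ''
      {A : Subgroup ↥(Cfsg.SU (n + 2) F q) | ∃ p : Fin (n + 2) → F, p ≠ 0 ∧ Cfsg.hermForm (n + 2) F q p p = 0 ∧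
          A = Subgroup.closure {g : ↥(Cfsg.SU (n + 2) F q) |
            (∀ v : Fin (n + 2) → F, ∃ c : F, ((g : Matrix.SpecialLinearGroup (Fin (n + 2)) F) : Matrix (Fin (n + 2)) (Fin (n + 2)) F) *ᵥ v = v + c • p) ∧
            ∀ v : Fin (n + 2) → F, Cfsg.hermForm (n + 2) F q v p = 0 →
              ((g : Matrix.SpecialLinearGroup (Fin (n + 2)) F) : Matrix (Fin (n + 2)) (Fin (n + 2)) F) *ᵥ v = v}})) ∧
    Cfsg.IsConnectedFamily (Cfsg.FAdj ((fun A : Subgroup ↥(Cfsg.SU (n + 2) F q) => A.subgroupOf (⨆ B ∈ {A : Subgroup ↥(Cfsg.SU (n + 2) F q) | ∃ p : Fin (n + 2) → F, p ≠ 0 ∧ Cfsg.hermForm (n + 2) F q p p = 0 ∧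
          A = Subgroup.closure {g : ↥(Cfsg.SU (n + 2) F q) |
            (∀ v : Fin (n + 2) → F, ∃ c : F, ((g : Matrix.SpecialLinearGroup (Fin (n + 2)) F) : Matrix (Fin (n + 2)) (Fin (n + 2)) F) *ᵥ v = v + c • p) ∧
            ∀ v : Fin (n + 2) → F, Cfsg.hermForm (n + 2) F q v p = 0 →
              ((g : Matrix.SpecialLinearGroup (Fin (n + 2)) F) : Matrix (Fin (n + 2)) (Fin (n + 2)) F) *ᵥ v = v}}, B)) ''
      {A : Subgroup ↥(Cfsg.SU (n + 2) F q) | ∃ p : Fin (n + 2) → F, p ≠ 0 ∧ Cfsg.hermForm (n + 2) F q p p = 0 ∧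
          A = Subgroup.closure {g : ↥(Cfsg.SU (n + 2) F q) |
            (∀ v : Fin (n + 2) → F, ∃ c : F, ((g : Matrix.SpecialLinearGroup (Fin (n + 2)) F) : Matrix (Fin (n + 2)) (Fin (n + 2)) F) *ᵥ v = v + c • p) ∧
            ∀ v : Fin (n + 2) → F, Cfsg.hermForm (n + 2) F q v p = 0 →
              ((g : Matrix.SpecialLinearGroup (Fin (n + 2)) F) : Matrix (Fin (n + 2)) (Fin (n + 2)) F) *ᵥ v = v}})) ((fun A : Subgroup ↥(Cfsg.SU (n + 2) F q) => A.subgroupOf (⨆ B ∈ {A : Subgroup ↥(Cfsg.SU (n + 2) F q) | ∃ p : Fin (n + 2) → F, p ≠ 0 ∧ Cfsg.hermForm (n + 2) F q p p = 0 ∧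
          A = Subgroup.closure {g : ↥(Cfsg.SU (n + 2) F q) |
            (∀ v : Fin (n + 2) → F, ∃ c : F, ((g : Matrix.SpecialLinearGroup (Fin (n + 2)) F) : Matrix (Fin (n + 2)) (Fin (n + 2)) F) *ᵥ v = v + c • p) ∧
            ∀ v : Fin (n + 2) → F, Cfsg.hermForm (n + 2) F q v p = 0 →
              ((g : Matrix.SpecialLinearGroup (Fin (n + 2)) F) : Matrix (Fin (n + 2)) (Fin (n + 2)) F) *ᵥ v = v}}, B)) ''
      {A : Subgroup ↥(Cfsg.SU (n + 2) F q) | ∃ p : Fin (n + 2) → F, p ≠ 0 ∧ Cfsg.hermForm (n + 2) F q p p = 0 ∧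
          A = Subgroup.closure {g : ↥(Cfsg.SU (n + 2) F q) |
            (∀ v : Fin (n + 2) → F, ∃ c : F, ((g : Matrix.SpecialLinearGroup (Fin (n + 2)) F) : Matrix (Fin (n + 2)) (Fin (n + 2)) F) *ᵥ v = v + c • p) ∧
            ∀ v : Fin (n + 2) → F, Cfsg.hermForm (n + 2) F q v p = 0 →
              ((g : Matrix.SpecialLinearGroup (Fin (n + 2)) F) : Matrix (Fin (n + 2)) (Fin (n + 2)) F) *ᵥ v = v}}) := by
  let Φ := uForm hF (n + 2)
  let ι : ↥(Cfsg.SU (n + 2) F q) →* Module.End F (Fin (n + 2) → F) :=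
    (Matrix.toLinAlgEquiv' (R := F)).toMulEquiv.toMonoidHom.comp (SpecialLinearGroup.coeMonoidHom.comp (Subgroup.subtype _))
  have hι : ∀ g v, ι g v = (suEquiv hF _ g).1 v := fun g v => rfl
  have hΦ : Φ.Nondeg := uForm_nondeg hF (n + 2)
  have h1 : ∀ g u v, Φ.B (ι g u) (ι g v) = Φ.B u v := fun g u v => (suEquiv hF _ g).2.1.1 u v
  have h2 : ∀ g v, Φ.N (ι g v) = Φ.N v := fun g v => (suEquiv hF _ g).2.1.2 v
  obtain ⟨d, hd, hd'⟩ := exists_skew (frobq hF) (frobq_ne_id hF) (frobq_frobq hF)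
  obtain ⟨L, _, _, _, hL, hr⟩ : ∃ (L : Type) (_ : Field L) (_ : Fintype L) (_ : Algebra L F), Fintype.card L = q ∧
      ∀ x : F, (∃ l : L, algebraMap L F l = x) ↔ frobq hF x = x := by
    let S := (frobq hF).eqLocusField (RingHom.id F)
    have e : Fin q ≃ S := (Finite.equivFinOfCardEq (card_fixed_eq hF).2).symm
    letI := e.field
    refine ⟨Fin q, inferInstance, inferInstance, (S.subtype.comp e.ringEquiv.toRingHom).toAlgebra, Fintype.card_fin q, fun x => ?_⟩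
    exact ⟨fun ⟨l, hl⟩ => hl ▸ (e l).2, fun h => ⟨e.symm ⟨x, h⟩, congrArg Subtype.val (e.apply_symm_apply _)⟩⟩
  have hN : ∀ b : F, ∃ l : L, algebraMap L F l = d * d * (b * ((unitKind hF).ε * (unitKind hF).σ b)) := fun b =>
    (hr _).2 (by simp only [map_mul, hd', Kind.unit_ε, Kind.unit_σ, frobq_frobq, map_one]; ring)
  have t : TF L ι (isoN Φ d) := iso_tf hΦ hd hN
    (fun a b e => (suEquiv hF _).injective (Subtype.ext (LinearEquiv.ext fun v => LinearMap.congr_fun e v))) h1 h2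
    (fun f hf => ⟨(suEquiv hF _).symm ⟨f, hf⟩, LinearMap.ext fun v => by rw [hι]; simp⟩) fun l => by
      simp only [map_mul, hd', Kind.unit_T, Kind.unit_σ, (hr _).1 ⟨l, rfl⟩, map_neg]; ring
  have key : ∀ p : Fin (n + 2) → F, Φ.Sing p → Subgroup.closure {g : ↥(Cfsg.SU (n + 2) F q) |
            (∀ v : Fin (n + 2) → F, ∃ c : F, ((g : Matrix.SpecialLinearGroup (Fin (n + 2)) F) : Matrix (Fin (n + 2)) (Fin (n + 2)) F) *ᵥ v = v + c • p) ∧
            ∀ v : Fin (n + 2) → F, Cfsg.hermForm (n + 2) F q v p = 0 →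
              ((g : Matrix.SpecialLinearGroup (Fin (n + 2)) F) : Matrix (Fin (n + 2)) (Fin (n + 2)) F) *ᵥ v = v} =
      rt L ι (d • Φ.rk p p) := fun p hp => by
    unfold rt; congr 1; ext g
    change (∀ v, ∃ c : F, ι g v = v + c • p) ∧ (∀ v, Φ.B v p = 0 → ι g v = v) ↔ ∃ c : L, ι g = 1 + c • d • Φ.rk p p
    constructor
    · rintro ⟨a, b⟩
      obtain ⟨f, hf⟩ := hΦ.exists_hyp hp.1 hp.2
      obtain ⟨c, hc⟩ := a f
      have e1 : Φ.B f p = 1 := hf.Bfe
      have e2 : frobq hF c = -c := by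
        have := h2 g f
        rw [hc, Φ.N_add, Φ.N_smul, hp.2, Φ.B_smul_right, e1] at this
        simp only [Kind.unit_T, Kind.unit_σ, mul_one, frobq_frobq] at this
        linear_combination this
      obtain ⟨l, hl⟩ := (hr (c / d)).2 (by rw [map_div₀, e2, hd', neg_div_neg_eq])
      refine ⟨l, LinearMap.ext fun v => ?_⟩
      have := b (v - Φ.B v p • f) (by simp [e1])
      rw [map_sub, _root_.map_smul, hc] at this
      rw [lsmul l, hl, smul_smul, div_mul_cancel₀ _ hd]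
      simp only [LinearMap.add_apply, LinearMap.smul_apply, Form.rk_apply, Module.End.one_apply]
      linear_combination (norm := module) this
    · rintro ⟨c, e⟩
      rw [e, lsmul c]
      exact ⟨fun v => ⟨_, by simp [smul_smul]; rfl⟩, fun v hv => by simp [hv]⟩
  have e : {A : Subgroup ↥(Cfsg.SU (n + 2) F q) | ∃ p : Fin (n + 2) → F, p ≠ 0 ∧ Cfsg.hermForm (n + 2) F q p p = 0 ∧
          A = Subgroup.closure {g : ↥(Cfsg.SU (n + 2) F q) |
            (∀ v : Fin (n + 2) → F, ∃ c : F, ((g : Matrix.SpecialLinearGroup (Fin (n + 2)) F) : Matrix (Fin (n + 2)) (Fin (n + 2)) F) *ᵥ v = v + c • p) ∧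
            ∀ v : Fin (n + 2) → F, Cfsg.hermForm (n + 2) F q v p = 0 →
              ((g : Matrix.SpecialLinearGroup (Fin (n + 2)) F) : Matrix (Fin (n + 2)) (Fin (n + 2)) F) *ᵥ v = v}} =
      rt L ι '' isoN Φ d := by
    ext A
    exact ⟨fun ⟨p, a, b, e⟩ => ⟨_, ⟨p, ⟨a, b⟩, rfl⟩, (e.trans (key p ⟨a, b⟩)).symm⟩,
      fun ⟨_, ⟨p, hp, e'⟩, e⟩ => ⟨p, hp.1, hp.2, (e' ▸ e.symm).trans (key p hp).symm⟩⟩
  have hc := iso_conn hΦ hd hN t (Form.unit_rich (frobq_ne_id hF) _).rich0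
  obtain ⟨p, hp⟩ := unit_exists_singular (frobq_ne_id hF) Φ (by simp)
  rw [e]
  exact ⟨⟨t.lar.ar, class_of_conn ⟨_, _, ⟨_, ⟨p, hp, rfl⟩, rfl⟩, rfl⟩ (conn_loc hc)⟩, t.deg_loc (iso_deg hΦ hd hN),
    ⟨L, inferInstance, inferInstance, hL, t.kroot_loc⟩, conn_loc hc⟩

end Cfsg.Agent.S5071
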