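import Cfsg.Statements.S5073
import Cfsg.Agent.Lib.Root.QP4

set_option autoImplicit false
universe u
open Cfsg

namespace Cfsg.Agent.S5073

open Cfsg.Agent.Root

/-- Let k be a field of characteristic not 2 with k not of order 3, M a finite-dimensional k-vector space and G ≤ GL(M) such that (G, M) is a quadratic pair (M irreducible for G, and G generated by its quadratically acting elements σ whose scalar family 1 + c(σ − 1), c ∈ k, lies in G). Write 𝒬_d for the quadratic elements of G of minimal commutator rank, E(σ) for the subgroup generated by the members of 𝒬_d with the same fixed space and commutator space as σ, and Σ for the set of these subgroups. Let E, F ∈ Σ. If some non-identity element of E commutes with some non-identity element of F, or some non-identity element of E normalizes F, then E and F commute elementwise. -/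
theorem result {k : Type u} [Field k] (hk2 : ringChar k ≠ 2) (hk3 : Nat.card k ≠ 3)
    {M : Type u} [AddCommGroup M] [Module k M] [FiniteDimensional k M]
    {G : Subgroup (LinearMap.GeneralLinearGroup k M)} (hG : Cfsg.IsQuadraticPair G)
    {E F : Subgroup (LinearMap.GeneralLinearGroup k M)} (hE : E ∈ Cfsg.quadraticRootSubgroups G) (hF : F ∈ Cfsg.quadraticRootSubgroups G)
    (h : (∃ e ∈ E, e ≠ 1 ∧ ∃ f ∈ F, f ≠ 1 ∧ e * f = f * e) ∨ E ⊓ Subgroup.normalizer (F : Set (LinearMap.GeneralLinearGroup k M)) ≠ ⊥) :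
    ⁅E, F⁆ = ⊥ := by
  have hc : (2 : k) ≠ 0 := Ring.two_ne_zero hk2
  have nu := nu_of_irr hG.1
  rcases nu.tri hc hk3 hE hF with ⟨c, -⟩ | ⟨x, y, hx, hy, o, rfl, rfl⟩ | ⟨x, y, o, h0, rfl, rfl⟩
  · exact cm_iff.2 c
  · exfalso
    have r := o.r1 hc hk3 hx hy
    rcases h with ⟨e, he, e1, f, hf, f1, c⟩ | h
    · obtain ⟨a, ha, rfl⟩ := exists_of_EG he
      obtain ⟨b, hb, rfl⟩ := exists_of_EG hf
      have := congrArg Units.val c
      simp only [Units.val_mul, un1_val] at this
      have c : a * b = b * a := by linear_combination (norm := noncomm_ring) this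
      have a0 := mt un1_eq_one.2 e1
      exact (o.of_mem hx hy ha a0 hb (mt un1_eq_one.2 f1)).ne a0 (by rw [c, mul_assoc, ha.1.1, mul_zero])
    · exact h (eq_bot_iff.2 fun a ha => r.eq_one ha.1 (smul_eq_iff.2 ha.2))
  · exfalso
    have nc : ∀ e ∈ EG G x, e ≠ 1 → ∀ f ∈ EG G y, f ≠ 1 → e * f * e⁻¹ * f⁻¹ ≠ 1 := fun e he e1 f hf f1 c => by
      obtain ⟨a, ha, rfl⟩ := exists_of_EG he
      obtain ⟨b, hb, rfl⟩ := exists_of_EG hf
      rw [o.cmt ha hb, un1_eq_one] at c
      exact o.ne h0 ha (mt un1_eq_one.2 e1) hb (mt un1_eq_one.2 f1) c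
    rcases h with ⟨e, he, e1, f, hf, f1, c⟩ | h
    · exact nc e he e1 f hf f1 (by rw [c]; simp)
    · refine h (eq_bot_iff.2 fun a ha => ?_)
      by_contra a1
      have hf := un1_mem_EG o.hy.1.mem_self
      have h1 := nc a ha.1 a1 _ hf (mt un1_eq_one.1 o.hy.2.1)
      refine nc a ha.1 a1 _ (mul_mem (smul_eq_iff.2 ha.2 ▸ conj_mem hf a) (inv_mem hf)) h1 ?_
      rw [← (o.t3 hc hk3 nu h0).cmA _ (cmt_mem ha.1 hf) a ha.1]; group

end Cfsg.Agent.S5073
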