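import Cfsg.Statements.S5075
import Cfsg.Agent.Lib.Root.Mc2

set_option autoImplicit false
open Cfsg

namespace Cfsg.Agent.S5075

open Cfsg.Agent.Root.Mc Cfsg.Agent.Classical Submodule Module

/-- Let p be an odd prime, V a finite-dimensional vector space over the field with p elements, and H a group of linear automorphisms of V generated by transvections (elements of order p fixing a hyperplane pointwise) and having no nontrivial normal p-subgroup. Then for some n ≥ 1 there are a decomposition V = V₀ ⊕ V₁ ⊕ ⋯ ⊕ Vₙ into H-invariant subspaces and a decomposition of H as the internal direct product of normal subgroups H₁, …, Hₙ such that Hⱼ acts trivially on every Vᵢ with i ≠ j, and Hⱼ induces on Vⱼ exactly the special linear group of Vⱼ or exactly the isometry group of a non-degenerate alternating form on Vⱼ. -/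
theorem result {p : ℕ} [Fact p.Prime] (hp : Odd p) {V : Type*} [AddCommGroup V] [Module (ZMod p) V] [Finite V]
    (H : Subgroup (V ≃ₗ[ZMod p] V)) (T : Set (V ≃ₗ[ZMod p] V)) (hHT : H = Subgroup.closure T)
    (hT : ∀ t ∈ T, orderOf t = p ∧
      Module.finrank (ZMod p) ↥(LinearMap.ker ((t : V →ₗ[ZMod p] V) - LinearMap.id)) + 1 =
        Module.finrank (ZMod p) V)
    (hOp : Cfsg.pCore p ↥H = ⊥) :
    ∃ (n : ℕ) (W : Fin (n + 1) → Submodule (ZMod p) V) (K : Fin n → Subgroup (V ≃ₗ[ZMod p] V)),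
      1 ≤ n ∧ DirectSum.IsInternal W ∧
      (∀ h ∈ H, ∀ i, (W i).map (h : V →ₗ[ZMod p] V) = W i) ∧
      (∀ j, K j ≤ H ∧ ((K j).subgroupOf H).Normal) ∧ ⨆ j, K j = H ∧
      (∀ j, K j ⊓ (⨆ j' ∈ {j' : Fin n | j' ≠ j}, K j') = ⊥) ∧
      (∀ j j', j ≠ j' → ∀ a ∈ K j, ∀ b ∈ K j', a * b = b * a) ∧
      (∀ j, ∀ h ∈ K j, ∀ i : Fin (n + 1), i ≠ j.succ → ∀ v ∈ W i, h v = v) ∧
      (∀ j, ∃ ρ : ↥(K j) →* (↥(W j.succ) ≃ₗ[ZMod p] ↥(W j.succ)),
        (∀ (h : ↥(K j)) (v : ↥(W j.succ)), ((ρ h v : ↥(W j.succ)) : V) = (h : V ≃ₗ[ZMod p] V) (v : V)) ∧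
        ((ρ.range : Set (↥(W j.succ) ≃ₗ[ZMod p] ↥(W j.succ))) =
            {f : ↥(W j.succ) ≃ₗ[ZMod p] ↥(W j.succ) | LinearMap.det (f : ↥(W j.succ) →ₗ[ZMod p] ↥(W j.succ)) = 1} ∨
          ∃ B : LinearMap.BilinForm (ZMod p) ↥(W j.succ), B.IsAlt ∧ B.Nondegenerate ∧
            (ρ.range : Set (↥(W j.succ) ≃ₗ[ZMod p] ↥(W j.succ))) = {f : ↥(W j.succ) ≃ₗ[ZMod p] ↥(W j.succ) | ∀ x y, B (f x) (f y) = B x y})) := by
  have hgen : H ≤ Subgroup.closure (TS (T0 H)) := by
    refine hHT.le.trans (Subgroup.closure_mono fun t ht => ?_)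
    obtain ⟨h1, h2⟩ := hT t ht
    have h3 := LinearMap.finrank_range_add_finrank_ker ((t : V →ₗ[ZMod p] V) - LinearMap.id)
    obtain ⟨⟨w, hw⟩, w0, e⟩ := finrank_eq_one_iff'.1 (show finrank (ZMod p) (LinearMap.range
      ((t : V →ₗ[ZMod p] V) - LinearMap.id)) = 1 by omega)
    have w0 : w ≠ 0 := by simpa using w0
    obtain ⟨ψ, hψ⟩ := exists_tv (g := t) (u := w) (fun x => by
      obtain ⟨c, hc⟩ := e ⟨_, x, rfl⟩
      exact mem_span_singleton.2 ⟨c, congrArg Subtype.val hc⟩) w0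
    have t1 : t ≠ 1 := fun e => (Fact.out : p.Prime).one_lt.ne' (by rw [← h1, e, orderOf_one])
    refine ⟨w, ψ, ⟨w0, fun e => t1 (LinearEquiv.ext fun x => by simp [hψ, e]), ?_, t, hHT ▸ Subgroup.subset_closure ht, hψ⟩, hψ⟩
    have k : ∀ n : ℕ, (t ^ n) w = (1 + ψ w) ^ n • w := fun n => by
      induction n with
      | zero => simp
      | succ n ih => rw [pow_succ', LinearEquiv.mul_apply, ih, map_smul, hψ, pow_succ, mul_smul, add_smul, one_smul]
    have := k p
    rw [ZMod.pow_card, add_smul, one_smul] at this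
    rw [show t ^ p = 1 from orderOf_dvd_iff_pow_eq_one.1 h1.dvd] at this
    simpa [w0] using this
  haveI : Finite (Dual (ZMod p) V) := DFunLike.finite _
  obtain ⟨n, ⟨ε⟩⟩ := Finite.exists_equiv_fin (Set.range (cp H))
  choose f hf using fun j : Fin n => (ε.symm j).2
  have inj : ∀ j j', j ≠ j' → cp H (f j) ≠ cp H (f j') := fun j j' n e =>
    n (ε.symm.injective (Subtype.ext (by rw [← hf, ← hf, e])))
  have sur : ∀ x a, T0 H x a → ∃ j, cp H (f j) x a := fun x a h =>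
    ⟨ε ⟨_, (x, a), rfl⟩, by rw [hf, Equiv.symm_apply_apply]; exact ⟨h, .refl⟩⟩
  have z0 : ∀ j, Z (Dual.eval (ZMod p) V) (T0 H) ≤ Z (Dual.eval (ZMod p) V) (cp H (f j)) := fun j v hv y b k => hv y b k.1
  let W : Fin (n + 1) → Submodule (ZMod p) V :=
    Fin.cons (Z (Dual.eval (ZMod p) V) (T0 H)) fun j => span (ZMod p) (Pt (cp H (f j)))
  have orth : ∀ j i, i ≠ j.succ → W i ≤ Z (Dual.eval (ZMod p) V) (cp H (f j)) := fun j =>
    Fin.cases (fun _ => z0 j) fun i hi => cp_orth hp hOp (inj i j fun e => hi (by rw [e]))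
  have top : iSup W = ⊤ := by
    refine eq_top_iff.2 fun v _ => ?_
    choose w hw hw' using fun j => cp_dec hp hOp hgen (e := f j) v
    rw [← sub_add_cancel v (∑ j, w j)]
    refine add_mem (le_iSup W 0 fun y b k => ?_) (sum_mem fun j _ => le_iSup W j.succ (hw j))
    obtain ⟨j, k⟩ := sur y b k
    rw [← Finset.add_sum_erase _ _ (Finset.mem_univ j), ← sub_sub]
    exact sub_mem (hw' j) (sum_mem fun i hi => orth j i.succ (by simpa using hi) (hw i)) y b k
  have fx : ∀ j, ∀ h ∈ Subgroup.closure (TS (cp H (f j))), ∀ i : Fin (n + 1), i ≠ j.succ → ∀ v ∈ W i, h v = v :=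
    fun j h hh i hi v hv => ts_fix _ hh v (orth j i hi hv)
  refine ⟨n, W, fun j => Subgroup.closure (TS (cp H (f j))), Fin.pos (ε ⟨_, 0, rfl⟩), ?_, fun h hh => ?_,
    fun j => ⟨ts_le, cp_normal hp hOp hgen⟩, le_antisymm (iSup_le fun j => ts_le) (hgen.trans ((Subgroup.closure_le _).2 ?_)),
    fun j => eq_bot_iff.2 fun h hh => ?_, fun j j' n => cp_comm hp hOp (inj j j' n), fx,
    fun j => ⟨res _ _ (ts_le.trans (stab_W hp hOp hgen)), fun _ _ => rfl, cp_range hp hOp hgen⟩⟩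
  · rw [DirectSum.isInternal_submodule_iff_iSupIndep_and_iSup_eq_top, iSupIndep_iff_finsetSum_eq_zero_imp_eq_zero]
    refine ⟨fun s v hv e => ?_, top⟩
    have k : ∀ j : Fin n, j.succ ∈ s → v j.succ = 0 := fun j hj => by
      refine cp_rad hp hOp hgen (hv _ hj) ?_
      rw [← Finset.add_sum_erase _ _ hj, add_eq_zero_iff_eq_neg] at e
      rw [e]
      exact neg_mem (sum_mem fun i hi => orth j i (Finset.ne_of_mem_erase hi) (hv i (Finset.mem_of_mem_erase hi)))
    refine Fin.cases (fun h0 => ?_) k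
    rwa [Finset.sum_eq_single_of_mem _ h0 (Fin.cases (fun _ n => absurd rfl n) fun j hj _ => k j hj)] at e
  · refine Fin.cases (mem_stab_iff_map.1 (hgen.trans ((ts_fix _).trans fun g hg => mem_stab.2 (stab_of_le fun v hv => ?_)) hh))
      fun j => mem_stab_iff_map.1 (stab_W hp hOp hgen hh)
    rwa [hg v hv]
  · rintro t ⟨w, ψ, h, e⟩
    obtain ⟨j, k⟩ := sur w ψ h
    exact le_iSup (fun j => Subgroup.closure (TS (cp H (f j)))) j (Subgroup.subset_closure ⟨w, ψ, k, e⟩)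
  · have k : h ∈ fixer (W j.succ) := (iSup₂_le fun j' hj' g hg => fx j' g hg j.succ (by simpa [eq_comm] using hj') :
      (⨆ j' ∈ {j' : Fin n | j' ≠ j}, Subgroup.closure (TS (cp H (f j')))) ≤ fixer (W j.succ)) hh.2
    have : iSup W ≤ LinearMap.eqLocus (h : V →ₗ[ZMod p] V) LinearMap.id := iSup_le fun i v hv => by
      by_cases e : i = j.succ
      · exact k v (e ▸ hv)
      · exact fx j h hh.1 i e v hv
    exact LinearEquiv.ext fun v => this (top ▸ mem_top)

end Cfsg.Agent.S5075
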