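import Cfsg.Statements.S5087
import Cfsg.Agent.Lib.Fusion.Normal

set_option autoImplicit false
open Cfsg

namespace Cfsg.Agent.S5087

open Fusion

/-- In a saturated fusion system over a finite p-group S, a subgroup Q is normal in the system if and only if every subgroup P that equals S or is essential contains Q and every element of Aut_F(P) maps Q onto itself. -/
theorem result {Ω : Type*} [Group Ω] {S : Subgroup Ω} [Finite S] (p : ℕ) [Fact p.Prime] (hS : IsPGroup p S) (F : Cfsg.FusionSystem S) (hF : F.IsSaturated p) (Q : Subgroup Ω) : F.IsNormal Q ↔ ∀ P : Subgroup Ω, (P = S ∨ F.IsEssential p P) → (Q ≤ P ∧ ∀ α ∈ F.autGroup P, (Q.subgroupOf P).map α.toMonoidHom = Q.subgroupOf P) := by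
  constructor
  · intro h P hP
    obtain ⟨-, hc, hr⟩ := alperin_family hS hF hP
    have hQ := IsNormal.le_of_radical hS h hc hr
    refine ⟨hQ, fun α hα => ?_⟩
    have hm := fun β hβ => (mem_autGroup (F := F) hc.1 (α := β)).1 hβ
    have key : ∀ β ∈ F.autGroup P, ∀ x : P, (x : Ω) ∈ Q → ((β x : P) : Ω) ∈ Q := fun β hβ x hx => by
      rw [← afun_coe]; exact StronglyClosed.mem (IsNormal.stronglyClosed h) (hm β hβ) x.2 hx
    apply le_antisymm
    · rintro _ ⟨x, hx, rfl⟩; exact key α hα x hx
    · intro x hx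
      exact ⟨α⁻¹ x, key _ ((F.autGroup P).inv_mem hα) x hx, by simp⟩
  · intro h
    refine normal_of_family hS hF fun P hP => ⟨(h P hP).1, fun α hα x hx => ?_⟩
    rw [afun_of_mem _ ((h P hP).1 hx)]
    exact ((h P hP).2 α hα).le ⟨⟨x, (h P hP).1 hx⟩, hx, rfl⟩

end Cfsg.Agent.S5087
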