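import Cfsg.Statements.S5089
import Cfsg.Agent.Lib.Fusion.Normal

set_option autoImplicit false
open Cfsg

namespace Cfsg.Agent.S5089

open Fusion

/-- A saturated fusion system over a finite p-group has a nontrivial subgroup that is normal in the system (O_p(F) ≠ 1) if and only if some nontrivial abelian subgroup is strongly closed in the system. -/
theorem result {Ω : Type*} [Group Ω] {S : Subgroup Ω} [Finite S] (p : ℕ) [Fact p.Prime] (hS : IsPGroup p S) (F : Cfsg.FusionSystem S) (hF : F.IsSaturated p) : F.core ≠ ⊥ ↔ ∃ Q : Subgroup Ω, Q ≠ ⊥ ∧ IsMulCommutative Q ∧ F.StronglyClosed Q := by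
  constructor
  · intro h
    have hn := core_isNormal F
    have := finite_of_le hn.1
    refine ⟨zc F.core 1, ?_, ⟨⟨fun a b => Subtype.ext ?_⟩⟩,
      IsNormal.stronglyClosed (IsNormal.of_char hn (zc_le _ _) (zc_char _ _))⟩
    · rw [zc_one]; exact centralizerIn_self_ne_bot (pgroup_of_le hS hn.1) h
    · have := (mem_centralizerIn.1 (mem_zc_one.1 a.2)).2 b (zc_le _ _ b.2)
      rw [Subgroup.coe_mul, Subgroup.coe_mul]
      rw [mul_inv_eq_iff_eq_mul] at this
      exact this
  · rintro ⟨Q, h1, h2, h3⟩ h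
    have := IsNormal.le_core (normal_of_abelian hS hF h3 fun x hx y hy =>
      congrArg Subtype.val (h2.is_comm.comm ⟨x, hx⟩ ⟨y, hy⟩))
    rw [h, le_bot_iff] at this
    exact h1 this

end Cfsg.Agent.S5089
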