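import Cfsg.Statements.S5094
import Cfsg.Agent.Lib.Transfer.ZStar

set_option autoImplicit false
open Cfsg

namespace Cfsg.Agent.S5094

set_option linter.unusedSectionVars false
set_option linter.unusedVariables false
set_option linter.style.haveILetI false
set_option linter.unusedSimpArgs false

open Subgroup Cfsg.Agent.Transfer Cfsg.Agent.Blk

/-- Glauberman's Z*-Theorem in fusion language: for a finite group G with Sylow 2-subgroup S, the centre of the fusion system of G on S is the set of elements of S whose image in G/O(G) is central, O(G) being the largest normal subgroup of odd order. -/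
theorem result {G : Type*} [Group G] [Finite G] (S : Sylow 2 G) : (Cfsg.groupFusionSystem (S : Subgroup G)).center = (S : Subgroup G) ⊓ (Subgroup.center (G ⧸ Cfsg.oddCore G)).comap (QuotientGroup.mk' (Cfsg.oddCore G)) := by
  apply le_antisymm
  · refine sSup_le fun Q hQ x hx => ⟨hQ.1 hx, zstar_elt_quot (isol_of_sylow S (hQ.1 hx) fun g hg => ?_)
      (S.isPGroup'.to_le (zpowers_le.2 (hQ.1 hx)))⟩
    obtain ⟨ψ, -, h1, h2⟩ := hQ.2 (zpowers x) (conjHom (zpowers x) g)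
      ⟨zpowers_le.2 (hQ.1 hx), fun y => cj_le_iff.1 ((cj_zpowers g x).trans_le (zpowers_le.2 hg)) y y.2, g,
        fun _ => rfl⟩
    exact (h1 ⟨x, mem_zpowers x⟩).symm.trans (h2 ⟨x, hx⟩)
  · refine le_sSup ⟨inf_le_left, ?_⟩
    rintro P φ ⟨hP, h1, g, h2⟩
    set Q := (S : Subgroup G) ⊓ (center (G ⧸ oddCore G)).comap (QuotientGroup.mk' (oddCore G))
    have hQ : ∀ x ∈ Q, IsIsolated x := fun x hx =>
      isol_of_inZStar (S.isPGroup'.to_le (zpowers_le.2 hx.1)) (mem_center_quot_iff.1 hx.2)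
    have hC : ∀ x ∈ Q, (S : Subgroup G) ≤ Ce1 x := fun x hx => isol_le_Ce1 (hQ x hx) S.isPGroup' hx.1
    have h3 : Q ≤ centralizer (P : Set G) := fun x hx y hy => mem_Ce1.1 (hC x hx (hP hy))
    have h4 : cj g⁻¹ Q ≤ centralizer (P : Set G) := by
      rw [← le_cj_iff_cj_inv_le, cj_centralizer]
      rintro x hx _ ⟨y, hy, rfl⟩
      exact mem_Ce1.1 (hC x hx (by have := h1 ⟨y, hy⟩; rwa [h2] at this))
    obtain ⟨T, hT, h5⟩ := Transfer.exists_isSyl_ge (S.isPGroup'.to_le (inf_le_left : Q ≤ _)) h3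
    obtain ⟨c, h6, h7⟩ := hT.exists_cj_le
      (IsPGroup.cj (S.isPGroup'.to_le (inf_le_left : Q ≤ _)) g⁻¹) h4
    have h8 : ∀ x ∈ Q, g * c⁻¹ * x * (g * c⁻¹)⁻¹ = x := fun x hx => by
      have := isol_eq_of_mem (hQ x hx) hT.pgroup (h5 hx) (g := c * g⁻¹)
        (h7 (cj_cj c g⁻¹ Q ▸ conj_mem_cj hx))
      calc _ = g * c⁻¹ * (c * g⁻¹ * x * (c * g⁻¹)⁻¹) * (g * c⁻¹)⁻¹ := by rw [this]
        _ = x := by group
    have h9 : ∀ y ∈ P, g * c⁻¹ * y * (g * c⁻¹)⁻¹ = g * y * g⁻¹ := fun y hy => by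
      calc _ = g * (c⁻¹ * (y * c)) * g⁻¹ := by group
        _ = _ := by rw [h6 y hy, inv_mul_cancel_left]
    refine ⟨conjHom _ (g * c⁻¹), ⟨sup_le hP inf_le_left, fun y => ?_, _, fun _ => rfl⟩,
      fun y => (h9 y y.2).trans (h2 y).symm, fun y => h8 y y.2⟩
    refine cj_le_iff.1 (?_ : cj (g * c⁻¹) (P ⊔ Q) ≤ S) y y.2
    rw [cj_sup, sup_le_iff, cj_le_iff, cj_le_iff]
    refine ⟨fun y hy => ?_, fun y hy => (h8 y hy).symm ▸ hy.1⟩
    rw [h9 y hy, ← h2 ⟨y, hy⟩]; exact h1 _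

end Cfsg.Agent.S5094
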