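import Cfsg.Statements.S5107
import Cfsg.Agent.Lib.Fusion.Group

set_option autoImplicit false
open Cfsg

namespace Cfsg.Agent.S5107

open Fusion Cfsg.FusionSystem
open scoped commutatorElement

/-- If a Sylow p-subgroup S of a finite group G has nilpotency class at most two and its centre is strongly closed in S with respect to G, then every map of the fusion system of G on S is conjugation by an element of N_G(S), and S is the largest subgroup normal in that fusion system. -/
theorem result {G : Type*} [Group G] [Finite G] (p : ℕ) [Fact p.Prime] (S : Sylow p G) (hcl : ⁅(S : Subgroup G), (S : Subgroup G)⁆ ≤ (S : Subgroup G) ⊓ Subgroup.centralizer ((S : Subgroup G) : Set G)) (hZ : Cfsg.IsStronglyClosed ((S : Subgroup G) ⊓ Subgroup.centralizer ((S : Subgroup G) : Set G)) (S : Subgroup G)) : (∀ (P : Subgroup G) (φ : P →* G), φ ∈ (Cfsg.groupFusionSystem (S : Subgroup G)).Hom P → ∃ g ∈ Subgroup.normalizer ((S : Subgroup G) : Set G), ∀ x : P, φ x = g * (x : G) * g⁻¹) ∧ (Cfsg.groupFusionSystem (S : Subgroup G)).core = S := by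
  have hsat := group_saturated S
  have hn : (Cfsg.groupFusionSystem (S : Subgroup G)).IsNormal S := by
    have hZ' : (Cfsg.groupFusionSystem (S : Subgroup G)).StronglyClosed
        (centralizerIn (S : Subgroup G) S) := by
      rw [groupFusionSystem_eq]
      exact stronglyClosed_sub_iff.2 ⟨hZ.1, fun x hx g _ h => hZ.2 x hx g h⟩
    refine normal_of_chain S.isPGroup' hsat (stronglyClosed_top _)
      (C := fun i => if i = 0 then ⊥ else if i = 1 then centralizerIn (S : Subgroup G) S else S)
      (n := 2) rfl le_rfl (fun i _ => ?_) (fun i _ => ?_) fun i hi x hx y hy => ?_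
    · split_ifs
      · exact bot_le
      · exact centralizerIn_le
      · exact le_rfl
    · split_ifs
      · exact StronglyClosed.weaklyClosed (stronglyClosed_bot _)
      · exact StronglyClosed.weaklyClosed hZ'
      · exact StronglyClosed.weaklyClosed (stronglyClosed_top _)
    · rcases (by omega : i = 0 ∨ i = 1) with rfl | rfl
      · have := (mem_centralizerIn.1 hx).2 y hy
        show _ ∈ (⊥ : Subgroup G)
        rw [Subgroup.mem_bot, commutatorElement_def, this, mul_inv_cancel]
      · exact Subgroup.commutator_le.1 hcl x hx y hy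
  refine ⟨fun P φ hφ => ?_, le_antisymm (core_le _) (IsNormal.le_core hn)⟩
  obtain ⟨g, hg, e, -⟩ := IsNormal.ext hn (mor_hfun hφ)
  obtain ⟨-, h2, s, es⟩ := mor_group_iff.1 hg
  refine ⟨s, mem_normalizer_of_finite fun x hx => ?_, fun x => ?_⟩
  · rw [← es x (Subgroup.mem_sup_right hx)]; exact h2 x (Subgroup.mem_sup_right hx)
  · rw [← hfun_coe, ← e x x.2, es x (Subgroup.mem_sup_left x.2)]

end Cfsg.Agent.S5107
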