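import Cfsg.Statements.S5112
import Cfsg.Agent.Lib.Fusion.MCyc3

set_option autoImplicit false
open Cfsg

namespace Cfsg.Agent.S5112

open Cfsg.Agent.Fusion

/-- If S is a dihedral or generalized quaternion 2-group of order at least 16, then in every saturated fusion system over S (at the prime 2) the automorphism group Aut_F(S) consists of the inner automorphisms of S. -/
theorem result {Ω : Type*} [Group Ω] {S : Subgroup Ω} [Finite S] (n : ℕ) (hn : 4 ≤ n) (hshape : Nonempty (S ≃* DihedralGroup (2 ^ (n - 1))) ∨ Nonempty (S ≃* QuaternionGroup (2 ^ (n - 2)))) (F : Cfsg.FusionSystem S) (hF : F.IsSaturated 2) : F.autGroup S = Cfsg.Inn S := by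
  obtain ⟨k, rfl⟩ : ∃ k, n = k + 4 := ⟨n - 4, by omega⟩
  have : NeZero (2 ^ (k + 4 - 1)) := ⟨by positivity⟩
  have : NeZero (2 ^ (k + 4 - 2)) := ⟨by positivity⟩
  obtain ⟨h1, ⟨a, h2⟩, h3⟩ : Nat.card S = 2 ^ (k + 4) ∧ (∃ a : S, orderOf a = 2 ^ (k + 3)) ∧
      ¬ ∀ x y : S, x * y = y * x := by
    have h4 : ∀ m : ℕ, (2 : ZMod (2 ^ (m + 3))) ≠ 0 := fun m h => by
      have := Nat.le_of_dvd two_pos ((ZMod.natCast_eq_zero_iff 2 _).1 h)
      have := Nat.one_le_two_pow (n := m)
      rw [pow_succ, pow_succ, pow_succ] at *; omega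
    rcases hshape with ⟨⟨e⟩⟩ | ⟨⟨e⟩⟩
    · refine ⟨?_, ⟨e.symm (.r 1), ?_⟩, fun h => ?_⟩
      · rw [Nat.card_congr e.toEquiv, DihedralGroup.nat_card]; exact (pow_succ' 2 (k + 3)).symm
      · rw [MulEquiv.orderOf_eq, DihedralGroup.orderOf_r_one]; rfl
      · have := congrArg e (h (e.symm (.r 1)) (e.symm (.sr 0)))
        simp only [map_mul, MulEquiv.apply_symm_apply, DihedralGroup.r_mul_sr, DihedralGroup.sr_mul_r,
          DihedralGroup.sr.injEq] at this
        exact h4 k (by linear_combination -this)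
    · refine ⟨?_, ⟨e.symm (.a 1), ?_⟩, fun h => ?_⟩
      · rw [Nat.card_congr e.toEquiv, Nat.card_eq_fintype_card, QuaternionGroup.card]
        show 4 * 2 ^ (k + 2) = _
        ring
      · rw [MulEquiv.orderOf_eq, QuaternionGroup.orderOf_a_one]; exact (pow_succ' 2 (k + 2)).symm
      · have := congrArg e (h (e.symm (.a 1)) (e.symm (.xa 0)))
        simp only [map_mul, MulEquiv.apply_symm_apply, QuaternionGroup.a_mul_xa,
          QuaternionGroup.xa_mul_a, QuaternionGroup.xa.injEq] at this
        have h5 := h4 k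
        rw [pow_succ'] at h5
        exact h5 (by linear_combination -this)
  have hS := IsPGroup.of_card h1
  have hi : (Subgroup.zpowers a).index = 2 := by
    have := (Subgroup.zpowers a).card_mul_index
    rw [Nat.card_zpowers, h1, h2, pow_succ 2 (k + 3)] at this
    exact Nat.eq_of_mul_eq_mul_left (by positivity) this
  have hn := Subgroup.normal_of_index_eq_two hi
  have hA : IsPGroup 2 (MulAut S) := by_contra fun hA => by
    rcases MCyc.meta_not_pgroup hS ⟨_, hn, inferInstance, isCyclic_of_prime_card (p := 2) hi⟩ hA with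
      ⟨⟨e⟩⟩ | ⟨m, ⟨e⟩⟩
    · rw [Nat.card_congr e.toEquiv, Nat.card_eq_fintype_card, QuaternionGroup.card] at h1
      have := Nat.one_le_two_pow (n := k)
      rw [pow_succ, pow_succ, pow_succ, pow_succ] at h1; omega
    · exact h3 fun x y => e.injective (by rw [map_mul, map_mul, mul_comm])
  have h4 := IsFullyAutomized.sylowIn (IsSaturated.fullyAutomized hS hF
    (fullyNormalized_of_normal le_rfl Subgroup.le_normalizer))
  rw [Inn_eq_autInducedBy]
  exact le_antisymm (h4.max _ le_rfl (hA.to_subgroup _) h4.le) h4.le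

end Cfsg.Agent.S5112
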