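import Cfsg.Statements.S5115
import Cfsg.Agent.Lib.Fusion.Invariant

set_option autoImplicit false
open Cfsg

namespace Cfsg.Agent.S5115

open Fusion Cfsg.FusionSystem

/-- If the 2-fusion system of a finite group G on a Sylow 2-subgroup S is constrained, then for every subnormal subgroup H of G the 2-fusion system of H on S ∩ H is constrained. -/
theorem result {G : Type*} [Group G] [Finite G] (S : Sylow 2 G) (hF : (Cfsg.groupFusionSystem (S : Subgroup G)).IsConstrained 2) (H : Subgroup G) (hH : H.IsSubnormal) : (Cfsg.groupFusionSystem ((S : Subgroup G).subgroupOf H)).IsConstrained 2 := by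
  have key : SylowIn 2 ((S : Subgroup G) ⊓ H) H ∧
      (fusionSystemOfSubgroup H ((S : Subgroup G) ⊓ H) inf_le_right).IsConstrained 2 := by
    induction hH with
    | top =>
      rw [groupFusionSystem_eq] at hF
      have : (S : Subgroup G) ⊓ ⊤ = S := inf_top_eq _
      refine ⟨this.symm ▸ sylowIn_top S, ?_⟩
      have gen : ∀ (T : Subgroup G) (h : T = S), (fusionSystemOfSubgroup ⊤ T le_top).IsConstrained 2 := by
        rintro T rfl; exact hF
      exact gen _ this
    | step H K hle _ hn ih =>
      have hn' : K ≤ Subgroup.normalizer (H : Set G) :=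
        le_normalizer_of_conj_mem fun s hs x hx => hn.conj_mem ⟨x, hle hx⟩ hx ⟨s, hs⟩
      have h1 := sub_isNormalIn ih.1 hle hn'
      have h2 := constrained_of_subnormal ih.1.pgroup ih.2 (IsNormalIn.subnormal h1)
      have e : (S : Subgroup G) ⊓ K ⊓ H = (S : Subgroup G) ⊓ H := by rw [inf_assoc, inf_eq_right.2 hle]
      have h3 := ih.1.inf_normal hle fun c hc d hd => conj_mem_of_mem_normalizer (hn' hc) hd
      refine ⟨e ▸ h3, ?_⟩
      have gen : ∀ (T : Subgroup G) (hT : T ≤ H) (h : T = (S : Subgroup G) ⊓ K ⊓ H),
          (fusionSystemOfSubgroup H T hT).IsConstrained 2 := by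
        rintro T _ rfl; exact h2
      exact gen _ _ e.symm
  have := (sub_iso inf_le_right).constrained key.1.pgroup key.2
  rwa [Subgroup.inf_subgroupOf_right] at this

end Cfsg.Agent.S5115
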