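import Cfsg.Statements.S5119
import Cfsg.Agent.Lib.Fusion.Invariant

set_option autoImplicit false
open Cfsg

namespace Cfsg.Agent.S5119

open Fusion Cfsg.FusionSystem

/-- Let F be a saturated fusion system over a finite p-group S and E a subsystem of F over a subgroup T that is strongly closed in F. Then E is invariant in F (invariance under Aut_F(T) plus the Frattini condition) if and only if the strong invariance condition holds: for P ≤ Q ≤ T, every map φ of E from P into Q and every map ψ of F with source Q, the transported map ψ φ ψ⁻¹ on ψ(P) is a map of E. -/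
theorem result {Ω : Type*} [Group Ω] {S : Subgroup Ω} [Finite S] (p : ℕ) [Fact p.Prime] (hS : IsPGroup p S) (F : Cfsg.FusionSystem S) (hF : F.IsSaturated p) {T : Subgroup Ω} (E : Cfsg.FusionSystem T) (hE : E.IsSubsystemOf F) (hT : F.StronglyClosed T) : E.IsInvariantIn F ↔ ∀ (P Q : Subgroup Ω) (hPQ : P ≤ Q) (_ : Q ≤ T) (φ : P →* Ω) (_ : φ ∈ E.Hom P) (hφQ : ∀ x : P, φ x ∈ Q) (ψ : Q →* Ω) (_ : ψ ∈ F.Hom Q), ∃ χ ∈ E.Hom ((P.subgroupOf Q).map ψ), ∀ (x : P) (hx : ψ (Subgroup.inclusion hPQ x) ∈ (P.subgroupOf Q).map ψ), χ ⟨ψ (Subgroup.inclusion hPQ x), hx⟩ = ψ ⟨φ x, hφQ x⟩ := by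
  constructor
  · intro h P Q hPQ hQ φ hφ hφQ ψ hψ
    obtain ⟨g, hg, e⟩ := IsInvariantIn.strongInv h P Q _ _ (mor_hfun hφ) hPQ hQ
      (fun x hx => by rw [hfun_of_mem _ hx]; exact hφQ _) (mor_hfun hψ)
    rw [img_eq_map hPQ fun x => (hfun_coe ψ x).symm] at hg
    obtain ⟨χ, hχ, e'⟩ := hg
    refine ⟨χ, hχ, fun x hx => ?_⟩
    have := e x x.2
    rw [hfun_coe, hfun_of_mem ψ (hφQ x), hfun_of_mem ψ (hPQ x.2)] at this
    rw [e']; exact this
  · intro h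
    refine isInvariantIn_of_strongInv hS hF hE hT ?_
    rintro P Q f k ⟨φ, hφ, e⟩ hPQ hQ hfQ ⟨ψ, hψ, e'⟩
    obtain ⟨χ, hχ, e2⟩ := h P Q hPQ hQ φ hφ (fun x => e x ▸ hfQ x x.2) ψ hψ
    rw [img_eq_map hPQ e']
    refine ⟨_, mor_hfun hχ, fun x hx => ?_⟩
    have h1 : ψ (Subgroup.inclusion hPQ ⟨x, hx⟩) ∈ (P.subgroupOf Q).map ψ := ⟨_, hx, rfl⟩
    have h2 := e2 ⟨x, hx⟩ h1
    rw [← hfun_of_mem χ, e', e'] at h2
    rw [← e ⟨x, hx⟩]
    exact h2

end Cfsg.Agent.S5119
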