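import Cfsg.Statements.S5121
import Cfsg.Agent.Lib.Fusion.NormModel

set_option autoImplicit false
open Cfsg

namespace Cfsg.Agent.S5121

open Cfsg.Agent.Fusion

/-- Let G be a finite group with Sylow p-subgroup S and C_G(O_p(G)) ≤ O_p(G). For every subgroup T ≤ S and every normal subsystem E over T of the fusion system of G on S there is exactly one normal subgroup H of G containing T as a Sylow p-subgroup whose fusion system on T is E. -/
theorem result {G : Type*} [Group G] [Finite G] (p : ℕ) [Fact p.Prime] (S : Sylow p G) (hG : Subgroup.centralizer ((Cfsg.pCore p G : Subgroup G) : Set G) ≤ Cfsg.pCore p G) (T : Subgroup G) (hTS : T ≤ S) (E : Cfsg.FusionSystem T) (hE : E.IsNormalIn (Cfsg.groupFusionSystem (S : Subgroup G)) p) : ∃ H : Subgroup G, (∃ hTH : T ≤ H, H.Normal ∧ (∃ R : Sylow p H, (R : Subgroup H) = T.subgroupOf H) ∧ ∀ P : Subgroup G, E.Hom P = (Cfsg.fusionSystemOfSubgroup H T hTH).Hom P) ∧ ∀ H' : Subgroup G, (∃ hTH' : T ≤ H', H'.Normal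 ∧ (∃ R : Sylow p H', (R : Subgroup H') = T.subgroupOf H') ∧ ∀ P : Subgroup G, E.Hom P = (Cfsg.fusionSystemOfSubgroup H' T hTH').Hom P) → H' = H := by
  have hn := pCore_normal p G
  have hS := sylowIn_top S
  have hQ := pCore_le_sylow S
  obtain ⟨h1, -⟩ := HG_spec hS hQ hG hE
  obtain ⟨h3, h4⟩ := HG_eq hS hQ hG hE
  refine ⟨HG S E p (Cfsg.pCore p G), ⟨le_HG', h1, h3.exists_sylow, fun P => congrArg (fun X => Cfsg.FusionSystem.Hom X P) h4⟩, ?_⟩
  rintro H' ⟨hT, hn', hR, e⟩
  have h5 := (sylowIn_iff hT).2 hR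
  have e' : E = Cfsg.fusionSystemOfSubgroup H' T hT := sys_ext (hom_eq_iff.1 e)
  have h6 := le_HG hS hQ hE h5 e'
  exact le_antisymm h6 (le_of_same hS.pgroup hQ hG hTS h3 hT h6 (h4.symm.trans e'))

end Cfsg.Agent.S5121
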