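import Cfsg.Statements.S5123
import Cfsg.Agent.Lib.Fusion.Group

set_option autoImplicit false
open Cfsg

namespace Cfsg.Agent.S5123

open Fusion Cfsg.FusionSystem

/-- Let G be a finite group with Sylow p-subgroup S, P, Q ≤ S and g ∈ G with gPg⁻¹ = Q, and suppose N_S(Q) is a Sylow p-subgroup of N_G(Q). Let N be the set of x ∈ N_S(P) with gxg⁻¹ ∈ N_S(Q)C_G(Q). Then some h ∈ C_G(Q) satisfies (hg)N(hg)⁻¹ ≤ S. -/
theorem result {G : Type*} [Group G] [Finite G] (p : ℕ) [Fact p.Prime] (S : Sylow p G) (P Q : Subgroup G) (hP : P ≤ S) (hQ : Q ≤ S) (g : G) (hg : P.map (MulAut.conj g).toMonoidHom = Q) (hN : (∃ R : Sylow p ↥(Subgroup.normalizer (Q : Set G)), (R : Subgroup ↥(Subgroup.normalizer (Q : Set G))) = (Cfsg.FusionSystem.normalizerIn (S : Subgroup G) Q).subgroupOf (Subgroup.normalizer (Q : Set G)))) : ∃ h ∈ Subgroup.centralizer (Q : Set G), ((Cfsg.FusionSystem.normalizerIn (S : Subgroup G) P) ⊓ (Cfsg.FusionSystem.normalizerIn (S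 : Subgroup G) Q ⊔ Subgroup.centralizer (Q : Set G)).comap (MulAut.conj g).toMonoidHom).map (MulAut.conj (h * g)).toMonoidHom ≤ S := by
  have e1 : ∀ Q : Subgroup G, normalizerIn ⊤ Q = Subgroup.normalizer (Q : Set G) :=
    fun Q => top_inf_eq _
  rw [← sylowIn_iff (B := normalizerIn _ _) inf_le_right, ← e1] at hN
  have hM := isKNorm_kNorm (S := ⊤) (Q := Q) (K := autInducedBy (S : Subgroup G) Q)
  obtain ⟨c, hc, e⟩ := exists_conj_ext le_top hN (D := ((normalizerIn (S : Subgroup G) P) ⊓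
    (normalizerIn (S : Subgroup G) Q ⊔ Subgroup.centralizer (Q : Set G)).comap
      (MulAut.conj g).toMonoidHom).map (MulAut.conj g).toMonoidHom)
    ((pgroup_of_le S.isPGroup' (inf_le_left.trans normalizerIn_le)).map _) (by
      rintro _ ⟨x, hx, rfl⟩
      refine (show normalizerIn (S : Subgroup G) Q ⊔ Subgroup.centralizer (Q : Set G) ≤ _ from
        sup_le (fun t ht => ?_) fun t ht => hM.centralizerIn_le ⟨trivial, ht⟩) hx.2
      obtain ⟨α, e⟩ := exists_cAut ht.2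
      exact (hM t).2 ⟨trivial, α, mem_autInducedBy.2 ⟨t, ht.1, e⟩, e⟩)
  refine ⟨c, hc.2, ?_⟩
  rintro _ ⟨x, hx, rfl⟩
  have := e _ ⟨x, hx, rfl⟩
  simpa [mul_assoc] using this

end Cfsg.Agent.S5123
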