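import Cfsg.Statements.S5139
import Cfsg.Agent.Lib.Fusion.PPow

set_option autoImplicit false
open Cfsg

namespace Cfsg.Agent.S5139

open Cfsg.Agent.Fusion

/-- Let G be a finite group with Sylow p-subgroup S and O^p(G) the subgroup generated by the elements of order prime to p. Then the p-residual subsystem of the fusion system of G on S — the saturated subsystem of p-power index over the hyperfocal subgroup — is the fusion system of O^p(G) on S ∩ O^p(G): its maps are exactly the conjugation maps by elements of O^p(G) between subgroups of S ∩ O^p(G). -/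
theorem result {G : Type*} [Group G] [Finite G] (p : ℕ) [Fact p.Prime] (S : Sylow p G) (E : Cfsg.FusionSystem ((Cfsg.groupFusionSystem (S : Subgroup G)).hyperfocalSubgroup p)) (hE : (Cfsg.groupFusionSystem (S : Subgroup G)).IsPResidual p E) : ∃ h : (S : Subgroup G) ⊓ Cfsg.pResidual p G ≤ Cfsg.pResidual p G, ∀ P : Subgroup G, E.Hom P = (Cfsg.fusionSystemOfSubgroup (Cfsg.pResidual p G) ((S : Subgroup G) ⊓ Cfsg.pResidual p G) h).Hom P := by
  have hS := sylowIn_top S
  have h1 : SylowIn p ((S : Subgroup G) ⊓ pResidual p G) (pResidual p G) :=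
    hS.inf_normal le_top fun c _ d hd => Subgroup.Normal.conj_mem inferInstance d hd c
  have e : (groupFusionSystem (S : Subgroup G)).hyperfocalSubgroup p =
      (S : Subgroup G) ⊓ pResidual p G := by
    rw [groupFusionSystem_eq, hyp_sub hS, Transfer.res_top]
  refine ⟨h1.le, ?_⟩
  have key : ∀ (T : Subgroup G) (E : FusionSystem T), T = (S : Subgroup G) ⊓ pResidual p G →
      E.IsSaturated p → E.HasPPowerIndexIn (groupFusionSystem (S : Subgroup G)) p →
      ∀ P, E.Hom P = (fusionSystemOfSubgroup _ _ h1.le).Hom P := ?_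
  · exact key _ E e hE.1 hE.2
  rintro _ E rfl h2 h3 P
  rw [ppow_unique S.isPGroup' h2 (sub_saturated (hTH := h1.le) h1) h3 (ppow_iff.2 ⟨?_, e.le, ?_⟩)]
  · refine isSubsystemOf_iff.2 fun P f hf => ?_
    obtain ⟨a, b, g, -, c⟩ := mor_subgroup_iff.1 hf
    exact mor_group_iff.2 ⟨a.trans inf_le_left, fun x hx => (b x hx).1, g, c⟩
  · intro P hP α hα hc
    rw [autGroup_sub hP]
    rw [groupFusionSystem_eq, autGroup_sub (hP.trans inf_le_left), autInducedBy_eq_map] at hα
    obtain ⟨g, -, rfl⟩ := hα
    obtain ⟨m, h4, h5⟩ := exists_pow_coprime_ext g hc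
    rw [← pow_eq_self_of_modEq h5, ← map_pow]
    exact mem_autInducedBy.2 ⟨_, Transfer.mem_pResidual_of_coprime
      (by rwa [Subgroup.orderOf_coe]), fun x hx => afun_cAut _ hx⟩

end Cfsg.Agent.S5139
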