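import Cfsg.Statements.S5147
import Cfsg.Agent.Lib.Fusion.ConQuot

set_option autoImplicit false
open Cfsg

namespace Cfsg.Agent.S5147

open Cfsg.Agent.Fusion

/-- Let G be a finite group with Sylow 2-subgroup S whose 2-fusion system on S is constrained, and L a component of G (a subnormal quasisimple subgroup). Then the 2-fusion system of L/Z(L) on the image of S ∩ L is constrained. -/
theorem result {G : Type*} [Group G] [Finite G] (S : Sylow 2 G) (hF : (Cfsg.groupFusionSystem (S : Subgroup G)).IsConstrained 2) (L : Subgroup G) (hL : Cfsg.IsComponent L) : (Cfsg.groupFusionSystem (((S : Subgroup G).subgroupOf L).map (QuotientGroup.mk' (Subgroup.center L)))).IsConstrained 2 := by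
  obtain ⟨h1, h2⟩ := sub_constrained (sylowIn_top S) hF hL.1
  have h3 := (sub_iso (inf_le_right : (S : Subgroup G) ⊓ L ≤ L)).constrained h1.pgroup h2
  have h4 := h1.subgroupOf le_rfl
  rw [Subgroup.subgroupOf_self] at h4
  rw [Subgroup.inf_subgroupOf_right] at h3 h4
  have h5 := group_factor h4 (Subgroup.center L)
  have h6 : (Cfsg.groupFusionSystem ((S : Subgroup G).subgroupOf L)).IsCentral
      ((S : Subgroup G).subgroupOf L ⊓ Subgroup.center L) :=
    central_of_fix h4.pgroup h3.1 inf_le_left fun P f hf x hx m => by
      obtain ⟨-, -, g, e⟩ := mor_group_iff.1 hf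
      rw [e x hx, Subgroup.mem_center_iff.1 m.2 g, mul_inv_cancel_right]
  exact (h5.surj_of_normal (IsCentral.isNormal h6)).constrained_of_central h4.pgroup (h5.ker.symm ▸ h6) h3

end Cfsg.Agent.S5147
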