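import Cfsg.Statements.S5148
import Cfsg.Agent.Lib.Fusion.Simple
import Cfsg.Agent.Lib.Fusion.Focal2

set_option autoImplicit false
open Cfsg

namespace Cfsg.Agent.S5148

open Fusion Cfsg.FusionSystem

/-- A quasisimple fusion system over a finite p-group S (saturated, equal to its p-residual subsystem, with simple — in particular nontrivial — factor system modulo its centre) has S nonabelian. -/
theorem result {Ω : Type*} [Group Ω] {S : Subgroup Ω} [Finite S] (p : ℕ) [Fact p.Prime] (hS : IsPGroup p S) (F : Cfsg.FusionSystem S) (hq : F.Quasisimple p) : ¬ IsMulCommutative S := by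
  intro hc
  have hs := IsNormal.stronglyClosed (IsCentral.isNormal (center_isCentral F))
  obtain ⟨E, hE⟩ := exists_factor_mk hs
  have h1 := hq.2.2 E (isFactorSystem_iff.2 hE)
  have h2 := hE.surj hS hq.1 hs
  have := h2.finite
  have h3 := (simple_abelian_iff (h2.pgroup hS) h1.1 fun x _ y _ => by
    obtain ⟨x, rfl⟩ := QuotientGroup.mk_surjective x
    obtain ⟨y, rfl⟩ := QuotientGroup.mk_surjective y
    rw [← QuotientGroup.mk_mul, hc.is_comm.comm x y, QuotientGroup.mk_mul]).1 h1
  have h4 := h2.hyp_eq (p := p)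
  rw [hq.2.1, imageAlong_top, h2.range] at h4
  refine h1.2.1 (h4.symm.trans (eq_bot_iff.2 (hyp_le_foc.trans (foc_le_iff.2 fun P f hf x hx => ?_))))
  obtain ⟨s, -, e⟩ := (isInner_iff_hom.2 h3.2).conj hf
  obtain ⟨x, rfl⟩ := QuotientGroup.mk_surjective x
  obtain ⟨s, rfl⟩ := QuotientGroup.mk_surjective s
  rw [e _ hx, ← QuotientGroup.mk_mul, hc.is_comm.comm s x, QuotientGroup.mk_mul]
  simp

end Cfsg.Agent.S5148
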