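import Cfsg.Statements.S5155
import Cfsg.Agent.Lib.Fusion.Cent4

set_option autoImplicit false
open Cfsg

namespace Cfsg.Agent.S5155

open Cfsg.Agent.Fusion

/-- Let F be a saturated fusion system over a finite p-group S, E a normal subsystem over T, and Y the largest subgroup of C_S(T) such that E is a subsystem of the centralizer system of Y (every map of E extends to a map of F fixing Y elementwise). Then there is a normal subsystem of F over Y that is a subsystem of the centralizer system of T. -/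
theorem result {Ω : Type*} [Group Ω] {S : Subgroup Ω} [Finite S] (p : ℕ) [Fact p.Prime] (hS : IsPGroup p S) (F : Cfsg.FusionSystem S) (hF : F.IsSaturated p) {T : Subgroup Ω} (E : Cfsg.FusionSystem T) (hE : E.IsNormalIn F p) (Y : Subgroup Ω) (hY : Y ≤ Cfsg.FusionSystem.centralizerIn S T) (hEY : ∀ P : Subgroup Ω, E.Hom P ⊆ F.centralizerHom Y P) (hmax : ∀ Y' : Subgroup Ω, Y' ≤ Cfsg.FusionSystem.centralizerIn S T → (∀ P : Subgroup Ω, E.Hom P ⊆ F.centralizerHom Y' P) → Y' ≤ Y) : ∃ D : Cfsg.FusionSystem Y, D.IsNormalIn F p ∧ ∀ P : Subgroup Ω, D.Hom P ⊆ F.centralizerHom T P := by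
  obtain rfl : Y = CE F E p := le_antisymm (le_CE hS hE.1 hY ((czS_iff hE.1.2.2.2.1.1 hY).1 hEY))
    (hmax _ CE_le ((czS_iff hE.1.2.2.2.1.1 CE_le).2 (czS_CE hS hE)))
  obtain ⟨D, h1, h2⟩ := exists_CF hS hE
  have := finite_of_le (hY.trans centralizerIn_le)
  refine ⟨opp D p, opp_normal hS h1, fun P => ?_⟩
  rw [← centSys_spec F hE.1.2.2.2.1.1 P]
  exact IsSubsystemOf.trans opp_sub h2.1 P

end Cfsg.Agent.S5155
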