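import Cfsg.Statements.S5157
import Cfsg.Agent.Lib.Fusion.Strong

set_option autoImplicit false
open Cfsg

namespace Cfsg.Agent.S5157

open Fusion

/-- A saturated fusion system F over a finite p-group S is solvable (for every subgroup R other than S that is strongly closed in F, the factor system of F modulo R has a nontrivial subgroup normal in it) if and only if there is a chain 1 = S₀ ≤ S₁ ≤ ⋯ ≤ Sₘ = S of subgroups strongly closed in F with every quotient Sᵢ₊₁/Sᵢ abelian. -/
theorem result {Ω : Type*} [Group Ω] {S : Subgroup Ω} [Finite S] (p : ℕ) [Fact p.Prime] (hS : IsPGroup p S) (F : Cfsg.FusionSystem S) (hF : F.IsSaturated p) : F.IsSolvableSystem ↔ ∃ (n : ℕ) (T : Fin (n + 1) → Subgroup Ω), T 0 = ⊥ ∧ T (Fin.last n) = S ∧ Monotone T ∧ (∀ i, F.StronglyClosed (T i)) ∧ ∀ i : Fin n, ⁅T i.succ, T i.succ⁆ ≤ T (Fin.castSucc i) := by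
  refine (solvable_iff hS hF).trans ⟨fun ⟨n, C, a, b, c, d, e⟩ => ⟨n, fun i => C i, a, b,
    fun i j h => c h, fun i => d i, fun i => e i⟩, fun ⟨n, T, a, b, c, d, e⟩ =>
      ⟨n, fun i => T ⟨min i n, by omega⟩, by simpa using a, by simpa [Fin.last] using b,
        fun i j h => c (min_le_min_right n h), fun i => d _, fun i => ?_⟩⟩
  by_cases h : i < n
  · have := e ⟨i, h⟩
    simpa [min_eq_left h.le, min_eq_left (Nat.succ_le_of_lt h)] using this
  · simp only [min_eq_right (not_lt.1 h), min_eq_right ((not_lt.1 h).trans i.le_succ)]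
    exact Subgroup.commutator_le_self _

end Cfsg.Agent.S5157
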