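import Cfsg.Statements.S5163
import Cfsg.Agent.Lib.Fusion.SimpleSL

set_option autoImplicit false
open Cfsg

namespace Cfsg.Agent.S5163

open Subgroup Fusion

/-- For a finite field K of characteristic p and n ≥ 3, the p-fusion system of the projective special linear group PSL_n(K) on a Sylow p-subgroup is simple. -/
theorem result {K : Type*} [Field K] [Fintype K] (p : ℕ) [Fact p.Prime] [CharP K p] (n : ℕ) (hn : 3 ≤ n) (S : Sylow p (Matrix.ProjectiveSpecialLinearGroup (Fin n) K)) : (Cfsg.groupFusionSystem (S : Subgroup (Matrix.ProjectiveSpecialLinearGroup (Fin n) K))).IsSimple p := by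
  obtain ⟨m, rfl⟩ := Nat.exists_eq_add_of_le' hn
  obtain ⟨P⟩ : Nonempty (Sylow p (Matrix.SpecialLinearGroup (Fin (m + 3)) K)) := inferInstance
  refine simple_quot (sylowIn_top P) (SLn.simple P) _ (eq_bot_iff.2 fun z hz => ?_) S
  obtain ⟨r, -, e⟩ := Matrix.SpecialLinearGroup.mem_center_iff.1 hz.2
  obtain ⟨k, hk⟩ := P.2 ⟨z, hz.1⟩
  have := SLn.diag_one (g := z) ⟨k, congrArg Subtype.val hk⟩ (j := 0) fun i hi => by simp [← e, hi]
  refine mem_bot.2 (Subtype.ext ?_)
  rw [← e] at this ⊢
  rw [show r = 1 by simpa using this]; simp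

end Cfsg.Agent.S5163
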