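import Cfsg.Statements.S5165
import Cfsg.Agent.Lib.Fusion.SimpleA

set_option autoImplicit false
open Cfsg

namespace Cfsg.Agent.S5165

/-- For n ≥ 6, a prime p with p² ≤ n, and n congruent to 0 or 1 modulo p, the p-fusion system of the alternating group of degree n on a Sylow p-subgroup is simple. -/
theorem result (n p : ℕ) (hn : 6 ≤ n) [Fact p.Prime] (hnp : p ^ 2 ≤ n) (hb : n % p ≤ 1) (S : Sylow p (alternatingGroup (Fin n))) : (Cfsg.groupFusionSystem (S : Subgroup (alternatingGroup (Fin n)))).IsSimple p := by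
  have hp : p.Prime := Fact.out
  have h1 : p ≤ n / p := (Nat.le_div_iff_mul_le hp.pos).2 (sq p ▸ hnp)
  have : Subsingleton (Fin (n % p)) := Fin.subsingleton_iff_le_one.2 hb
  have h3 : 3 ≤ n / p := by
    by_cases h2 : p = 2
    · subst h2; omega
    · have := hp.two_le; omega
  have e : Fusion.Sym.Om p (ZMod p ⊕ Fin (n / p - p)) (Fin (n % p)) ≃ Fin n :=
    Fintype.equivOfCardEq (by simp [Nat.add_sub_cancel' h1, Nat.div_add_mod'])
  exact Fusion.Sym.simple (by simpa [Nat.add_sub_cancel' h1] using h3) e.altCongrHom S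

end Cfsg.Agent.S5165
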