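import Cfsg.Statements.S5166
import Cfsg.Agent.Lib.Fusion.SimpleL
import Cfsg.Agent.Lib.Spor.M12

set_option autoImplicit false
open Cfsg

namespace Cfsg.Agent.S5166

open Subgroup Fusion Cfsg.Agent.Spor Cfsg.Agent.PC MulAction
open scoped Pointwise

/-- The 2-fusion system of the Mathieu group M₁₁ (as the explicit permutation group carved out of the automorphism group of the binary Golay code) on a Sylow 2-subgroup is simple: saturated, over a nontrivial 2-group, with no normal subsystem other than the trivial one and itself. -/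
theorem result (S : Sylow 2 Cfsg.Spor.M11) : (Cfsg.groupFusionSystem (S : Subgroup Cfsg.Spor.M11)).IsSimple 2 := by
  have hr := (c12_ok.mono (by decide : 5 ≤ 6)).repsP
  have eq : ∀ u v : List ℕ, (∀ j ∈ u, j < 5) → (∀ j ∈ v, j < 5) → (∀ i < 24, tr (TP c12) u i = tr (TP c12) v i) →
      ev (fam c12) u = ev (fam c12) v := fun u v hu hv h => (hr.ev hu).eq_of_faithful gp_surj (hr.ev hv) h
  have ne : ∀ (u : List ℕ) (i : ℕ), (∀ j ∈ u, j < 5) → i < 24 → tr (TP c12) u i ≠ i → ev (fam c12) u ≠ 1 :=
    fun u i hu hi h e => by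
      obtain ⟨h1, h2⟩ := hr.ev hu i hi
      rw [e, one_smul] at h2
      exact h (gp_inj _ h1 _ hi h2.symm)
  let K := stabilizer Cfsg.M24 (bset 340831) ⊓ stabilizer Cfsg.M24 (gp 0)
  have : Finite K := Nat.finite_of_card_ne_zero (by rw [card11]; decide)
  have := simple11
  let w : (u : List ℕ) → (∀ j ∈ u, j < 5) → K := fun u hu => ⟨ev (fam c12) u, gen11.le (ev_mem_gen _ hu)⟩
  obtain ⟨P⟩ : Nonempty (Sylow 2 K) := inferInstance
  refine simple_of_equiv M11Equiv (sylowIn_top P) (simple_qw P (no_index_two (by rw [card11]; decide))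
    (Or.inl (qd_of P (k := 2) (m := 495) le_rfl card11 (by decide) (x := w [4, 1] (by decide))
      (y := w [2, 0] (by decide)) (orderOf_eq_prime_pow (fun e => ?_) (Subtype.ext ?_))
      (orderOf_eq_prime (Subtype.ext ?_) fun e => ?_) ?_))) S
  · exact ne (wpow [4, 1] 4) 1 (by decide) (by decide) (by decide +kernel)
      ((ev_wpow _ _ _).trans (congrArg Subtype.val e))
  · exact (ev_wpow _ _ 8).symm.trans (eq _ [] (by decide) (by decide) (by decide +kernel))
  · exact (ev_wpow _ _ 2).symm.trans (eq _ [] (by decide) (by decide) (by decide +kernel))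
  · exact ne [2, 0] 3 (by decide) (by decide) (by decide +kernel) (congrArg Subtype.val e)
  · rw [mul_inv_eq_iff_eq_mul]
    refine Subtype.ext ?_
    change ev _ _ * ev _ _ = ev _ _ ^ 3 * ev _ _
    rw [← ev_wpow, ← ev_append, ← ev_append]
    exact eq _ _ (by decide) (by decide) (by decide +kernel)

end Cfsg.Agent.S5166
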