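import Cfsg.Statements.S5171
import Cfsg.Agent.Lib.Fusion.SimpleCl
import Cfsg.Agent.S0246

set_option autoImplicit false
open Cfsg

namespace Cfsg.Agent.S5171

open Subgroup Fusion Cfsg.Agent.Classical Cfsg.Agent.Classical.Form

/-- For a finite field K of characteristic p and m ≥ 2, excluding the case m = 2 with K of two elements, the p-fusion system of the projective symplectic group PSp_{2m}(K) on a Sylow p-subgroup is simple. -/
theorem result {K : Type*} [Field K] [Fintype K] (p : ℕ) [Fact p.Prime] [CharP K p] (m : ℕ) (hm : 2 ≤ m) (hex : m = 2 → 3 ≤ Fintype.card K) (S : Sylow p (Cfsg.PSp m K)) : (Cfsg.groupFusionSystem (S : Subgroup (Cfsg.PSp m K))).IsSimple p := by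
  have hΦ := spForm_nondeg (F := K) m
  obtain ⟨e, f, h⟩ := symp_exists_hyp hΦ (by simp; omega)
  have d1 := h.finrank_hperp
  simp only [Module.finrank_fintype_fun_eq_card, Fintype.card_sum, Fintype.card_fin] at d1
  have hW := h.nondeg_hperp hΦ
  obtain ⟨u, u', h'⟩ := symp_exists_hyp hW (by omega)
  refine simple_quot' _ (fun hp => ?_) (fun P => Rk2.simple ⟨h, IsHyp.hperp_of h', u.2, u'.2⟩
    ⟨⟨1, by simp, one_ne_zero⟩, fun V _ _ _ Φ h => inf_le_left.trans (symp_E_eq h).ge⟩ hΦ
    (fun y hy y0 a => Or.inr ?_) ((MulEquiv.subgroupCongr (symp_E_eq hΦ)).trans (spEquiv m K).symm) P) S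
  · rw [S0246.result rfl m (by omega)] at hp
    obtain ⟨k, hr, hk⟩ := FiniteField.card K p
    have := hp.trans (Nat.gcd_dvd_right _ _)
    rw [hk, Nat.dvd_sub_iff_right (Nat.one_le_pow _ _ hr.pos) (dvd_pow_self p k.ne_zero)] at this
    exact hr.one_lt.ne' (Nat.dvd_one.1 this)
  have k : ∀ z : (spForm m K).hperp e f, z ≠ 0 → ∃ g ∈ (spForm m K).E, g e = e ∧ g y = z := fun z hz => by
    obtain ⟨g, hg, e1⟩ := hW.exists_isom_vec (u := ⟨y, hy⟩) (by simpa using y0) hz (by simp [symp_N])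
    exact ⟨_, h.ext_mem_E ((symp_E_eq hW).ge hg), h.ext_e g, (h.ext_perp g ⟨y, hy⟩).trans (by rw [e1])⟩
  obtain ⟨y1, y2, n1, n2, n3, n4⟩ : ∃ y1 y2 : (spForm m K).hperp e f, y1 ≠ 0 ∧ y2 ≠ 0 ∧ y1 + y2 ≠ 0 ∧
      a + ((spForm m K).restrict ((spForm m K).hperp e f)).B y2 y1 ≠ 0 := by
    by_cases hc : ∃ c : K, c ≠ 0 ∧ a + c ≠ 0
    · obtain ⟨c, c0, c1⟩ := hc
      refine ⟨u', c • u, h'.f_ne, smul_ne_zero c0 h'.e_ne, fun e1 => c0 ?_, by
        rwa [B_smul_left, h'.hef, mul_one]⟩
      have := congrArg (fun x => ((spForm m K).restrict ((spForm m K).hperp e f)).B x u') e1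
      simpa only [map_add, LinearMap.add_apply, h'.Bff, B_smul_left, h'.hef, zero_add, mul_one, map_zero,
        LinearMap.zero_apply] using this
    have d2 := h'.finrank_hperp
    have : Nontrivial (((spForm m K).restrict ((spForm m K).hperp e f)).hperp u u') := by
      refine Module.nontrivial_of_finrank_pos (R := K) (Nat.pos_of_ne_zero fun e0 => hc ?_)
      classical
      obtain ⟨c, hc⟩ : ((({0, -a} : Finset K))ᶜ).Nonempty := by
        rw [← Finset.card_pos, Finset.card_compl]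
        have := Finset.card_le_two (a := (0 : K)) (b := -a)
        have := hex (by omega)
        omega
      simp only [Finset.mem_compl, Finset.mem_insert, Finset.mem_singleton, not_or] at hc
      exact ⟨c, hc.1, fun e => hc.2 (by linear_combination e)⟩
    obtain ⟨w, hw⟩ := exists_ne (0 : ((spForm m K).restrict ((spForm m K).hperp e f)).hperp u u')
    have w1 := (Form.mem_hperp _).1 w.2
    refine ⟨u, w, h'.e_ne, by simpa using hw, fun e1 => ?_, by
      rw [w1.1, add_zero]; exact fun e => hc ⟨1, one_ne_zero, by simp [e]⟩⟩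
    have := congrArg (fun x => ((spForm m K).restrict ((spForm m K).hperp e f)).B x u') e1
    simp only [map_add, LinearMap.add_apply, w1.2, h'.hef, map_zero, LinearMap.zero_apply] at this
    simp at this
  obtain ⟨g1, k1, e1, f1⟩ := k y1 n1
  obtain ⟨g2, k2, e2, f2⟩ := k y2 n2
  obtain ⟨g3, k3, e3, f3⟩ := k _ n3
  exact ⟨g1, k1, g2, k2, g3, k3, e1, e2, e3, by rw [f1, f2, f3]; rfl, by rw [f1, f2]; exact n4⟩

end Cfsg.Agent.S5171
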