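import Cfsg.Statements.S5172
import Cfsg.Agent.Lib.Fusion.SimpleCl
import Cfsg.Agent.S0279

set_option autoImplicit false
open Cfsg

namespace Cfsg.Agent.S5172

open Subgroup Fusion Cfsg.Agent.Classical Cfsg.Agent.Classical.Form

/-- For a finite field K with q² elements of characteristic p and n ≥ 4, the p-fusion system of the projective special unitary group PSU_n(q) (realised over K) on a Sylow p-subgroup is simple. -/
theorem result {K : Type*} [Field K] [Fintype K] (p q : ℕ) [Fact p.Prime] [CharP K p] (hK : Fintype.card K = q ^ 2) (n : ℕ) (hn : 4 ≤ n) (S : Sylow p (Cfsg.PSU n K q)) : (Cfsg.groupFusionSystem (S : Subgroup (Cfsg.PSU n K q))).IsSimple p := by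
  have hΦ := uForm_nondeg hK n
  obtain ⟨c, hc⟩ : ∃ c, frobq hK c ≠ c := by
    by_contra h
    exact frobq_ne_id hK (RingHom.ext fun c => not_not.1 fun e => h ⟨c, e⟩)
  obtain ⟨e, f, h⟩ := unit_exists_hyp (frobq_ne_id hK) hΦ (by simp; omega)
  obtain ⟨u, u', h'⟩ := unit_exists_hyp (frobq_ne_id hK) (h.nondeg_hperp hΦ) (by
    have := h.finrank_hperp; simp at this; omega)
  refine simple_quot' _ (fun hp => ?_) (fun P => Rk2.simple ⟨h, IsHyp.hperp_of h', u.2, u'.2⟩
    ⟨⟨c - frobq hK c, by simp only [Kind.unit_T, map_sub, frobq_frobq]; ring, sub_ne_zero.2 hc.symm⟩,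
      fun V _ _ _ Φ h => (unit_E_eq hK h).ge⟩ hΦ (fun y hy y0 a => Or.inl ?_)
    ((MulEquiv.subgroupCongr (unit_E_eq hK hΦ)).trans (suEquiv hK n).symm) P) S
  · rw [S0279.result hK n (by omega)] at hp
    obtain ⟨r, k, hr, hc', e1, hk⟩ := exists_pow_of_card_sq hK
    rw [e1, ← CharP.eq K hc' ‹CharP K p›] at hp
    exact hr.one_lt.ne' (Nat.dvd_one.1 ((Nat.dvd_add_right (dvd_pow_self r hk.ne')).1
      (hp.trans (Nat.gcd_dvd_right _ _))))
  · obtain ⟨z, hz⟩ := (h.nondeg_hperp hΦ).exists_ne (v := ⟨y, hy⟩) (by simpa using y0)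
    replace hz : (uForm hK n).B z y ≠ 0 := hz
    refine ⟨(c / (uForm hK n).B z y) • z.1, Submodule.smul_mem _ _ z.2, ?_⟩
    rw [(uForm hK n).symm _ y, B_smul_left, div_mul_cancel₀ _ hz]
    simpa using hc.symm

end Cfsg.Agent.S5172
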