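import Cfsg.Statements.S5193
import Cfsg.Agent.Lib.Fusion.MP3

set_option autoImplicit false
open Cfsg

namespace Cfsg.Agent.S5193

open Fusion Cfsg.FusionSystem

/-- Glauberman's Theorem for fusion systems. Let F be a saturated fusion system over a finite p-group S, let J(S) be the subgroup generated by the abelian subgroups of S of largest order, and let N be the normalizer fusion system of J(S) in F (a fusion system over N_S(J(S)) = S). Then every p-th power of an element of Z(S) that lies in the centre of N lies in the centre of F; and if p is odd, or if the symmetric group of degree 4 is not involved in any model of the normalizer system of a fully normalized F-centric subgroup (F is S₄-free), then the centre of N equals the centre of F. -/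
theorem result {Ω : Type*} [Group Ω] {S : Subgroup Ω} [Finite S] (p : ℕ) [Fact p.Prime] (hS : IsPGroup p S) (F : Cfsg.FusionSystem S) (hF : F.IsSaturated p) (N : Cfsg.FusionSystem (Cfsg.FusionSystem.normalizerIn S (Cfsg.thompsonSubgroupAOf S))) (hN : F.IsNormalizerSystem (Cfsg.thompsonSubgroupAOf S) N) : Subgroup.closure ((fun z : Ω => z ^ p) '' ((S ⊓ Subgroup.centralizer (S : Set Ω) : Subgroup Ω) : Set Ω)) ⊓ N.center ≤ F.center ∧ (p ≠ 2 ∨ F.IsSectionFree p (Equiv.Perm (Fin 4)) → N.center = F.center) := by
  have hJ := (ja_char (p := p)).2 S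
  refine ⟨fun z hz => ?_, fun h =>
    cenF_J.center_eq ja_char.1 center_le_JA hS hF (free_S4 h) hJ.symm hN⟩
  rw [← powerClosure_one] at hz
  have hz' : z ∈ centralizerIn S S := powerClosure_le hz.1
  have hzJ : z ∈ thompsonSubgroupAOf S := hJ ▸ mem_ind.2 ⟨hz'.1, center_le_JA S hS
    (Subgroup.mem_center_iff.2 fun t => Subtype.ext (hz'.2 t t.2))⟩
  have key : ∀ P g, Mor F P g → z ∈ P → g z = z → Mor (cSys F (Subgroup.zpowers_le.2 hz')) P g :=
    fun P g hg h1 h2 => cSys_mor_of hg le_rfl (Subgroup.zpowers_le.2 h1) (by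
      rintro _ ⟨k, rfl⟩
      beta_reduce
      rw [hg.map_zpow h1, h2])
  have := pow_gen ja_char.1 quadF_J F hS hF (cSys F (Subgroup.zpowers_le.2 hz'))
    (fun P g hg h1 h2 => key P g hg (h1 hz.1) (h2 z hz.1)) (by
      rw [hJ]
      exact fun P g hg h1 _ h2 => key P g hg (h1 hzJ)
        (fix_of_mem_center hN (h1.trans hg.le) hz.2 hzJ (hg.mono h1) h2))
  refine (mem_center_iff hS hF).2 ⟨hz'.1, fun P f hf hP => ?_⟩
  obtain ⟨g, -, e, e'⟩ := cSys_mor.1 (isSubsystemOf_iff.1 this _ _ hf)
  rw [← e z hP, e' z (Subgroup.mem_zpowers z)]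

end Cfsg.Agent.S5193
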