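import Cfsg.Statements.S5194
import Cfsg.Agent.Lib.Fusion.MP3

set_option autoImplicit false
open Cfsg

namespace Cfsg.Agent.S5194

open Fusion Cfsg.FusionSystem

/-- Thompson's normal p-complement Theorem for fusion systems. Let F be a saturated fusion system over a finite p-group S such that p is odd or F is S₄-free (the symmetric group of degree 4 is not involved in any model of the normalizer system of a fully normalized F-centric subgroup), and let J(S) be the subgroup generated by the abelian subgroups of S of largest order. If the centralizer fusion system of Z(S) in F is the inner fusion system of C_S(Z(S)) = S and the normalizer fusion system of J(S) in F is the inner fusion system of N_S(J(S)) = S, then F is the inner fusion system of S. -/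
theorem result {Ω : Type*} [Group Ω] {S : Subgroup Ω} [Finite S] (p : ℕ) [Fact p.Prime] (hS : IsPGroup p S) (F : Cfsg.FusionSystem S) (hF : F.IsSaturated p) (hp : p ≠ 2 ∨ F.IsSectionFree p (Equiv.Perm (Fin 4))) (hC : ∀ C : Cfsg.FusionSystem (Cfsg.FusionSystem.centralizerIn S (S ⊓ Subgroup.centralizer (S : Set Ω))), F.IsCentralizerSystem (S ⊓ Subgroup.centralizer (S : Set Ω)) C → ∀ P : Subgroup Ω, C.Hom P = (Cfsg.innerFusionSystem (Cfsg.FusionSystem.centralizerIn S (S ⊓ Subgroup.centralizer (S : Set Ω)))).Hom P) (hN : ∀ N : Cfsg.FusionSystem (Cfsg.FusionSystem.normalizerIn S (Cfsg.thompsonSubgroupAOf S)), F.IsNormalizerSystem (Cfsg.thompsonSubgroupAOf S) N → ∀ P : Subgroup Ω, N.Hom P = (Cfsg.innerFusionSystem (Cfsg.FusionSystem.normalizerIn S (Cfsg.thompsonSubgroupAOf S))).Hom P) : ∀ P : Subgroup Ω, F.Hom P = (Cfsg.innerFusionSystem S).Hom P := by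
  refine isInner_iff_hom.1 (thompson_inner jz_S4 hS hF (free_S4 hp) ?_ fun P g hg h1 h2 => ?_)
  · rw [← Transfer.JA_eq]
    have hJ : thompsonSubgroupAOf S ≤ S := (ja_char (p := p)).2 S ▸ ind_le _ S
    refine (hasN_iff (normSys_spec F hJ) hJ).2 (isSubsystemOf_iff.2 fun P f hf => ?_)
    obtain ⟨s, hs, e⟩ := (isInner_iff_hom.2 (hN _ (normSys_spec F hJ))).conj hf
    exact mor_inner_iff.2 ⟨hf.le.trans inf_le_left, s, hs.1, e⟩
  · obtain ⟨s, hs, e⟩ := (isInner_iff_hom.2 (hC _ (centSys_spec F centralizerIn_le))).conj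
      ((cSys_iff (hQ := le_rfl) (centSys_spec F centralizerIn_le)).1 (cSys_mor_of hg le_rfl h1 h2))
    exact mor_inner_iff.2 ⟨hg.le, s, hs.1, e⟩

end Cfsg.Agent.S5194
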