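import Cfsg.Statements.S5195
import Cfsg.Agent.Lib.Fusion.MP3

set_option autoImplicit false
open Cfsg

namespace Cfsg.Agent.S5195

open Fusion Cfsg.FusionSystem

/-- A strengthened Frobenius normal p-complement criterion for fusion systems. Let F be a saturated fusion system over a finite p-group S such that p is odd or F is S₄-free (the symmetric group of degree 4 is not involved in any model of the normalizer system of a fully normalized F-centric subgroup). If Aut_F(Q) is a p-group for every nontrivial characteristic subgroup Q of S, then F is the inner fusion system of S. -/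
theorem result {Ω : Type*} [Group Ω] {S : Subgroup Ω} [Finite S] (p : ℕ) [Fact p.Prime] (hS : IsPGroup p S) (F : Cfsg.FusionSystem S) (hF : F.IsSaturated p) (hp : p ≠ 2 ∨ F.IsSectionFree p (Equiv.Perm (Fin 4))) (h : ∀ Q : Subgroup Ω, Q ≤ S → Q ≠ ⊥ → (Q.subgroupOf S).Characteristic → IsPGroup p (F.autGroup Q)) : ∀ P : Subgroup Ω, F.Hom P = (Cfsg.innerFusionSystem S).Hom P := by
  have hfree := free_S4 hp
  clear hp
  refine isInner_iff_hom.1 ?_
  induction F using sub_induction with
  | step F ih =>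
  by_contra hne
  obtain ⟨L, _, _, ι, P, hL, hP, -, hm⟩ := Sparse.model.{_, 0} (fun D hD h' => ih D hD.sub h' hD.sat
    (fun Q a b c => (h Q a b c).to_le (IsSubsystemOf.autGroup_le hD.sub a)) (hfree.loc hD))
    jz_S4 hS hF hfree hne
  refine char_crit hL.2.1.1 P hP hL.2.2.2 (or_iff_not_imp_left.2 fun h2 =>
    IsModel.not_involves hL (hfree _ ⟨not_not.1 h2, involves_refl⟩)) hm fun Q h1 h2 h3 g hg => ?_
  have hQ := Subgroup.map_subtype_le Q
  have := finite_of_le hQ
  have hi : ∀ x ∈ Q.map S.subtype, ap ι x ∈ Q.map ι := by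
    rintro _ ⟨x, hx, rfl⟩
    exact ⟨x, hx, (ap_coe ι x).symm⟩
  have hi' : ∀ x ∈ S, ap ι x ∈ Q.map ι → x ∈ Q.map S.subtype := by
    rintro x hx ⟨y, hy, e⟩
    rw [ap_of_mem _ hx] at e
    exact ⟨y, hy, congrArg Subtype.val (hL.2.1.1 e)⟩
  obtain ⟨f, hf, e⟩ := IsRealizedBy.exists_mor hL.2.1 hQ g fun x hx =>
    Subgroup.map_le_range _ _ (h3.conj_mem _ (hi x hx) g)
  obtain ⟨α, hα, eα⟩ := hf.exists_aut (Subgroup.eq_of_le_of_card_ge (img_le_iff.2 fun x hx =>
    hi' _ (hf.mem hx) (e x hx ▸ h3.conj_mem _ (hi x hx) g)) hf.card_img.ge)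
  have hn : ∀ (n : ℕ) (x : Q.map S.subtype), ap ι ((α ^ n) x : Ω) = g ^ n * ap ι x * (g ^ n)⁻¹ := by
    intro n
    induction n with
    | zero => simp
    | succ n ih =>
      intro x
      rw [pow_succ', MulAut.mul_apply, ← afun_coe, eα _ ((α ^ n) x).2, e _ ((α ^ n) x).2, ih,
        pow_succ']
      group
  obtain ⟨k, hk⟩ := h _ hQ (fun e => h1 ((Subgroup.map_eq_bot_iff_of_injective _
    S.subtype_injective).1 e)) (by
    rwa [Subgroup.subgroupOf, Subgroup.comap_map_eq_self_of_injective S.subtype_injective]) ⟨α, hα⟩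
  have h4 : g ^ p ^ k ∈ Subgroup.centralizer (Q.map ι : Set L) := by
    rintro _ ⟨x, hx, rfl⟩
    have := hn (p ^ k) ⟨x, x, hx, rfl⟩
    rw [show α ^ p ^ k = 1 from congrArg Subtype.val hk] at this
    simpa [eq_mul_inv_iff_mul_eq] using this
  obtain ⟨m, hm⟩ := exists_pow_eq_self_of_coprime (hg.symm.pow_left k)
  exact hm ▸ Subgroup.pow_mem _ h4 m

end Cfsg.Agent.S5195
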