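import Cfsg.Statements.S5196
import Cfsg.Agent.Lib.Fusion.Glaub

set_option autoImplicit false
universe u
open Cfsg

namespace Cfsg.Agent.S5196

open Fusion Cfsg.FusionSystem

/-- Let p be an odd prime and W a positive characteristic p-functor: W assigns to every finite p-group Q (in a fixed universe) a subgroup W(Q), nontrivial when Q is, carried to W(R) by every isomorphism Q ≅ R; assume also Z(Q) ≤ W(Q) for every finite p-group Q. Suppose W satisfies the local condition: for every finite group G with Sylow p-subgroup P, O_p(G) ∩ Z(G) = O_p(G) ∩ Z(N_G(W(P))). Then W controls weak closure of elements in every saturated fusion system F over a finite p-group S: the centre of the normalizer fusion system of W(S) in F equals the centre of F. (For p = 2 no functor satisfies the local condition, so p is taken odd.) -/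
theorem result {p : ℕ} [Fact p.Prime] (hp : p ≠ 2) (W : ∀ (Q : Type u) [Group Q], Subgroup Q) (hW1 : ∀ (Q : Type u) [Group Q] [Finite Q], IsPGroup p Q → Nontrivial Q → W Q ≠ ⊥) (hW2 : ∀ (Q R : Type u) [Group Q] [Group R] [Finite Q], IsPGroup p Q → ∀ φ : Q ≃* R, (W Q).map φ.toMonoidHom = W R) (hWZ : ∀ (Q : Type u) [Group Q] [Finite Q], IsPGroup p Q → Subgroup.center Q ≤ W Q) (hC : ∀ (G : Type u) [Group G] [Finite G] (P : Sylow p G), Cfsg.pCore p G ⊓ Subgroup.center G = Cfsg.pCore p G ⊓ (Subgroup.center ↥(Subgroup.normalizer (((W ↥(P : Subgroup G)).map (P : Subgroup G).subtype : Subgroup G) : Set G))).map (Subgroup.normalizer (((W ↥(P : Subgroup G)).map (P : Subgroup G).subtype : Subgroup G) : Set G)).subtype) {Ω : Type u} [Group Ω] {S : Subgroup Ω} [Finite S] (hS : IsPGroup p S) (F : Cfsg.FusionSystem S) (hF : F.IsSaturated p) (N : Cfsg.FusionSystem (Cfsg.FusionSystem.normalizerIn S ((W ↥S).map S.subtype))) (hN : F.IsNormalizerSystem ((W ↥S).map S.subtype) N) : N.center = F.center := by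
  have hW : IsCharPFunctor p W := ⟨hW1, hW2⟩
  have hn : F.IsFullyNormalized (inducedFunctor W S) :=
    fullyNormalized_of_normal (ind_le W S) (ind_le_normalizer hW hS)
  have hl := loc_normSys.{u, 0} hS hF hn hN
  refine le_antisymm (fun z hz => ?_) (center_le_of_sub hS hl.sat hl.sub hl.cen)
  have hz' : z ∈ centralizerIn S S := by
    have h1 := center_le N hz
    have h2 := center_le_centralizer N hz
    have e := ind_normalizer hW hS
    exact ⟨h1.1, fun x hx => h2 x (e.ge hx)⟩
  have h := functor_center hW hWZ 1 (Bad := fun (_ : Type) _ => False)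
    (fun L _ _ P hc _ y hy _ hN g => by
      rw [pow_one] at hN ⊢
      have h1 : y ∈ pCore p L := hc fun x hx => hy.2 x (pCore_le_sylow P hx)
      have h2 : y ∈ pCore p L ⊓ Subgroup.center L := by
        rw [hC L P]
        refine ⟨h1, ⟨y, ?_⟩, Subgroup.mem_center_iff.2 fun g => Subtype.ext ?_, rfl⟩
        · exact ind_le_normalizer hW P.isPGroup' hy.1
        · exact mul_inv_eq_iff_eq_mul.1 (hN g g.2)
      exact mul_inv_eq_iff_eq_mul.2 (Subgroup.mem_center_iff.1 h2.2 g))
    F hS hF free_false z hz' fun g hg e => by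
      rw [pow_one]
      exact fix_of_mem_center hN (ind_le W S) hz (mem_ind.2 ⟨hz'.1, hWZ S hS
        (Subgroup.mem_center_iff.2 fun t => Subtype.ext (hz'.2 t t.2))⟩) hg e
  rw [pow_one] at h
  exact IsCentral.le_center h (Subgroup.mem_zpowers z)

end Cfsg.Agent.S5196
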