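import Cfsg.Statements.S5226
import Cfsg.Agent.Lib.Fusion.Normal

set_option autoImplicit false
open Cfsg

namespace Cfsg.Agent.S5226

open Fusion

/-- Let F be a saturated fusion system over a finite p-group S and Q a subgroup of S. Then Q is normal in F (F equals the normalizer system of Q) if and only if Q is strongly closed in F and admits a central series 1 = Q₀ ≤ Q₁ ≤ ⋯ ≤ Qₙ = Q ([Qᵢ₊₁, Q] ≤ Qᵢ) all of whose proper terms are weakly closed in F. -/
theorem result {Ω : Type*} [Group Ω] {S : Subgroup Ω} [Finite S] (p : ℕ) [Fact p.Prime] (hS : IsPGroup p S) (F : Cfsg.FusionSystem S) (hF : F.IsSaturated p) (Q : Subgroup Ω) : F.IsNormal Q ↔ F.StronglyClosed Q ∧ ∃ (n : ℕ) (C : Fin (n + 1) → Subgroup Ω), C 0 = ⊥ ∧ C (Fin.last n) = Q ∧ Monotone C ∧ (∀ i : Fin n, ⁅C i.succ, Q⁆ ≤ C i.castSucc) ∧ ∀ i : Fin n, F.WeaklyClosed (C i.castSucc) := by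
  constructor
  · intro h
    have := finite_of_le h.1
    obtain ⟨n, hn⟩ := exists_zc_eq (pgroup_of_le hS h.1)
    exact ⟨IsNormal.stronglyClosed h, n, fun i => zc Q i, zc_zero Q, hn,
      fun i j hij => zc_mono Q hij, fun i => commutator_zc_le Q i, fun i =>
        StronglyClosed.weaklyClosed
          (IsNormal.stronglyClosed (IsNormal.of_char h (zc_le _ _) (zc_char _ _)))⟩
  · rintro ⟨hQ, n, C, h0, hn, hm, h, hw⟩
    have hsc : ∀ i : Fin (n + 1), F.WeaklyClosed (C i) := fun i => by
      induction i using Fin.lastCases with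
      | last => rw [hn]; exact StronglyClosed.weaklyClosed hQ
      | cast i => exact hw i
    refine normal_of_chain hS hF hQ (C := fun i => C ⟨min i n, by omega⟩) (n := n)
      (by simpa using h0) (by simp only [min_self]; exact hn.ge)
      (fun i _ => (hm (Fin.le_last _)).trans hn.le) (fun i _ => hsc _)
      fun i hi x hx y hy => ?_
    have := h ⟨i, hi⟩
    rw [Subgroup.commutator_le] at this
    simp only [min_eq_left hi.le, min_eq_left (Nat.succ_le_of_lt hi)] at hx ⊢
    exact this x hx y hy

end Cfsg.Agent.S5226
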