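import Cfsg.Statements.S5236
import Cfsg.Agent.Lib.Fusion.BGH

set_option autoImplicit false
open Cfsg

namespace Cfsg.Agent.S5236

open Subgroup Fusion

/-- Let p be an odd prime, F a saturated fusion system over a finite p-group S and P a subgroup of S strongly closed in F. Then P is normal in F if and only if Ω₁(P) (the subgroup generated by the elements of order p of P) has a chain of subgroups 1 = Q₀ ≤ Q₁ ≤ ⋯ ≤ Qₙ = Ω₁(P), each strongly closed in F, with [Qᵢ₊₁, P] ≤ Qᵢ for all i. -/
theorem result {Ω : Type*} [Group Ω] {S : Subgroup Ω} [Finite S] (p : ℕ) [Fact p.Prime] (hS : IsPGroup p S) (F : Cfsg.FusionSystem S) (hF : F.IsSaturated p) (hp : p ≠ 2) (P : Subgroup Ω) (hP : F.StronglyClosed P) : F.IsNormal P ↔ ∃ (n : ℕ) (Q : Fin (n + 1) → Subgroup Ω), Q 0 = ⊥ ∧ Q (Fin.last n) = Cfsg.omegaOne p P ∧ Monotone Q ∧ (∀ i : Fin (n + 1), F.StronglyClosed (Q i)) ∧ ∀ i : Fin n, ⁅Q i.succ, P⁆ ≤ Q i.castSucc := by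
  have := finite_of_le hP.1
  constructor
  · intro h
    obtain ⟨n, hn⟩ := exists_zc_eq (pgroup_of_le hS hP.1)
    have h1 : omegaOne p P ≤ P := (closure_le _).2 fun x hx => hx.1
    have h2 : F.StronglyClosed (omegaOne p P) := IsNormal.stronglyClosed (IsNormal.of_invariant h h1
      fun α hα x hx => img_le_iff.1 (show img (afun α) (omegaOne p P) ≤ _ from ?_) x hx)
    · refine ⟨n, fun i => omegaOne p P ⊓ zc P i, by simp [zc_zero], by simp [hn, h1], fun i j e =>
        inf_le_inf_left _ (zc_mono P e), fun i => stronglyClosed_inf h2 (IsNormal.stronglyClosed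
        (IsNormal.of_char h (zc_le P i) (zc_char P i))), fun i => le_inf (commutator_le.2 fun x hx y hy => ?_)
        ((commutator_mono inf_le_right le_rfl).trans (commutator_zc_le P i))⟩
      simpa [commutatorElement_def, mul_assoc] using mul_mem hx.1 (StronglyClosed.conj_mem h2 (hP.1 hy)
        (inv_mem hx.1))
    rw [img_eq_map h1 (φ := P.subtype.comp α.toMonoidHom) fun x => (afun_of_mem α x.2).symm,
      map_le_iff_le_comap, ← map_le_map_iff_of_injective P.subtype_injective, map_subgroupOf_eq_of_le h1]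
    exact (closure_le _).2 fun x hx => ⟨⟨x, hx.1⟩, Subgroup.subset_closure ⟨(α ⟨x, hx.1⟩).2, congrArg Subtype.val
      ((map_pow α _ p).symm.trans ((congrArg α (Subtype.ext hx.2)).trans (map_one α)))⟩, rfl⟩
  · rintro ⟨n, Q, h0, h1, -, h2, h3⟩
    refine normal_of_small_chain hS hF hP hP (fun _ _ _ h _ => h) (C := fun i => if h : i < n + 1 then Q ⟨i, h⟩ else ⊤)
      (by simpa using h0) (n := n) (fun x hx h => ?_) (fun i R f hf x hx _ _ h => ?_) fun i hi s hs x _ _ h => ?_
    · rw [dif_pos n.lt_succ_self]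
      exact h1.ge (Subgroup.subset_closure ⟨hx, h.resolve_right fun h => hp h.1⟩)
    · split_ifs at h ⊢
      · exact StronglyClosed.mem (h2 _) hf hx h
      · trivial
    · rw [dif_pos (by omega)] at h ⊢
      simpa [commutatorElement_def, mul_assoc] using h3 ⟨i, hi⟩ (commutator_mem_commutator (inv_mem h) hs)

end Cfsg.Agent.S5236
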