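import Cfsg.Statements.S5243
import Cfsg.Agent.Lib.Fusion.PPrime3

set_option autoImplicit false
open Cfsg

namespace Cfsg.Agent.S5243

open Cfsg.Agent.Fusion

/-- Let F be a saturated fusion system over a finite p-group S, E a normal subsystem of F over T ≤ S, and χ a surjective homomorphism from Aut_F(T) onto a nontrivial finite group Δ of order prime to p whose kernel contains Aut_E(T). Then there is a proper normal subsystem F₀ of F over S containing E such that Aut_{F₀}(S) consists of those α ∈ Aut_F(S) whose restriction to T is an element of Aut_F(T) in the kernel of χ; moreover every p'-residual subsystem O^{p'}(F) of F is contained in F₀. -/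
theorem result {Ω : Type*} [Group Ω] {S : Subgroup Ω} [Finite S] (p : ℕ) [Fact p.Prime] (hS : IsPGroup p S) (F : Cfsg.FusionSystem S) (hF : F.IsSaturated p) {T : Subgroup Ω} (hTS : T ≤ S) (E : Cfsg.FusionSystem T) (hE : E.IsNormalIn F p) {Δ : Type*} [Group Δ] [Finite Δ] [Nontrivial Δ] (hΔ : (Nat.card Δ).Coprime p) (χ : ↥(F.autGroup T) →* Δ) (hχ : Function.Surjective χ) (hker : (E.autGroup T).subgroupOf (F.autGroup T) ≤ χ.ker) : ∃ F₀ : Cfsg.FusionSystem S, F₀.IsNormalIn F p ∧ ¬ (∀ P : Subgroup Ω, F₀.Hom P = F.Hom P) ∧ E.IsSubsystemOf F₀ ∧ (∀ α : MulAut ↥S, α ∈ F₀.autGroup S ↔ α ∈ F.autGroup S ∧ ∃ β : ↥(F.autGroup T), χ β = 1 ∧ ∀ t : ↥T, (((β : MulAut ↥T) t : ↥T) : Ω) = ((α ⟨(t : Ω), hTS t.2⟩ : ↥S) : Ω)) ∧ ∀ R : Cfsg.FusionSystem S, F.IsPPrimeResidual p R → R.IsSubsystemOf F₀ := by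
  have hmem : ∀ a, a ∈ χ.ker.map (F.autGroup T).subtype ↔ ∃ h : a ∈ F.autGroup T, χ ⟨a, h⟩ = 1 :=
    fun a => ⟨fun ⟨b, hb, e⟩ => e ▸ ⟨b.2, hb⟩, fun ⟨h, e⟩ => ⟨⟨a, h⟩, e, rfl⟩⟩
  have hK : KData F E p (χ.ker.map (F.autGroup T).subtype) := by
    refine ⟨hE.1, Subgroup.map_subtype_le _, ?_, fun a ha => ?_, fun a ha k hk => ?_⟩
    · rintro a ha _ ⟨b, hb, rfl⟩
      exact ⟨_, (MonoidHom.normal_ker χ).conj_mem b hb ⟨a, ha⟩, rfl⟩
    · exact ⟨⟨a, IsSubsystemOf.autGroup_le (IsNormalIn.sub hE) le_rfl ha⟩, hker ha, rfl⟩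
    · refine (hmem a).2 ⟨ha, eq_one_of_coprime_pelt (p := p) (k := k)
        (Nat.Coprime.coprime_dvd_left (orderOf_dvd_natCard _) hΔ) ?_⟩
      rw [← map_pow, show (⟨a, ha⟩ : F.autGroup T) ^ p ^ k = 1 from Subtype.ext hk, map_one]
  obtain ⟨F₀, h1, h2, h3, h4, h5⟩ := hK.exists_sys hS
  refine ⟨F₀, h1, fun h => ?_, h3, fun α => (h5 α).trans (and_congr_right fun _ => ?_),
    fun R hR => hR.2.2 F₀ (IsNormalIn.sat h1) h2⟩
  · obtain ⟨d, hd⟩ := exists_ne (1 : Δ)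
    obtain ⟨b, rfl⟩ := hχ d
    rw [sys_ext (hom_eq_iff.1 h)] at h4
    exact hd ((hmem b).1 (h4 ▸ b.2)).2
  · rw [mem_resPre]
    constructor
    · rintro ⟨_, ⟨b, hb, rfl⟩, e⟩
      exact ⟨b, hb, fun t => by
        rw [← afun_of_mem α (hTS t.2), e t t.2, afun_of_mem _ t.2]; rfl⟩
    · rintro ⟨b, hb, e⟩
      exact ⟨b, ⟨b, hb, rfl⟩, fun t ht => by
        rw [afun_of_mem α (hTS ht), afun_of_mem _ ht, ← e ⟨t, ht⟩]⟩

end Cfsg.Agent.S5243
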