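import Cfsg.Statements.S5245
import Cfsg.Agent.Lib.Fusion.NormModel

set_option autoImplicit false
open Cfsg

namespace Cfsg.Agent.S5245

open Cfsg.Agent.Fusion Cfsg.FusionSystem

/-- Let F be an extremely sparse fusion system over a finite p-group S (saturated, not the inner system, and every saturated fusion system over any subgroup T of S contained in F is F itself or the inner system of T). Then S is normal in F, the focal and hyperfocal subgroups of F are both S, and Aut_F(S) is generated by the inner automorphisms of S together with a single automorphism of prime order q ≠ p (F is the fusion system of the semidirect product of S by a cyclic group of prime order). -/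
theorem result {Ω : Type*} [Group Ω] {S : Subgroup Ω} [Finite S] (p : ℕ) [Fact p.Prime] (hS : IsPGroup p S) (F : Cfsg.FusionSystem S) (hF : F.IsSaturated p) (hxs : ¬ (∀ P : Subgroup Ω, F.Hom P = (Cfsg.innerFusionSystem S).Hom P) ∧ ∀ (T : Subgroup Ω) (E : Cfsg.FusionSystem T), E.IsSaturated p → E.IsSubsystemOf F → (T = S ∧ ∀ P : Subgroup Ω, E.Hom P = F.Hom P) ∨ (∀ P : Subgroup Ω, E.Hom P = (Cfsg.innerFusionSystem T).Hom P)) : F.IsNormal S ∧ F.focalSubgroup = S ∧ F.hyperfocalSubgroup p = S ∧ ∃ (q : ℕ) (β : MulAut ↥S), q.Prime ∧ q ≠ p ∧ β ∈ F.autGroup S ∧ orderOf β = q ∧ (F.autGroup S : Subgroup (MulAut ↥S)) = Cfsg.Inn ↥S ⊔ Subgroup.zpowers β := by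
  obtain ⟨h0, h⟩ := hxs
  have hh : F.hyperfocalSubgroup p ≠ ⊥ := fun e => h0 (hom_eq_iff.2 fun P f =>
    ⟨inner_of_hyp_eq_bot hS hF e, le_iff_mor.1 (inner_le F) P f⟩)
  have hi : ∀ T : Subgroup Ω, T ≤ S → (innerFusionSystem T).hyperfocalSubgroup p = ⊥ := fun T hT => by
    have := finite_of_le hT
    refine le_bot_iff.1 (hyp_le_iff.2 fun P hP α hα hc x hx => ?_)
    rw [innerFusionSystem_eq, autGroup_sub hP] at hα
    obtain ⟨k, hk⟩ := autInducedBy_pgroup (pgroup_of_le hS hT) P ⟨α, hα⟩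
    rw [eq_one_of_coprime_pelt hc (k := k) (congrArg Subtype.val hk), afun_one, inv_mul_cancel]
    exact one_mem _
  have h1 : F.hyperfocalSubgroup p = S := by
    obtain ⟨E, e1, e2⟩ := exists_ppow hS hF hyp_le le_rfl
    rcases h _ E e1 e2.1 with a | a
    · exact a.1
    · rw [← ppow_hyp hS hF e2, sys_ext (hom_eq_iff.1 a)] at hh
      exact absurd (hi _ hyp_le) hh
  obtain ⟨P, hP, α, hα, hc, hne⟩ : ∃ P, P ≤ S ∧ ∃ α ∈ F.autGroup P, (orderOf α).Coprime p ∧ α ≠ 1 := by
    by_contra hn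
    push Not at hn
    exact hh (le_bot_iff.1 (hyp_le_iff.2 fun P hP α hα hc x hx => by
      rw [hn P hP α hα hc, afun_one, inv_mul_cancel]; exact one_mem _))
  have := finite_of_le hP
  have := finite_mulAut P
  have hP' := pgroup_of_le hS hP
  obtain ⟨q, hq, hd⟩ := Nat.exists_prime_and_dvd (n := orderOf α) fun e => hne (orderOf_eq_one_iff.1 e)
  have hβ := orderOf_pow_orderOf_div (orderOf_pos α).ne' hd
  have hβ' := (F.autGroup P).pow_mem hα (orderOf α / q)
  generalize α ^ (orderOf α / q) = β at hβ hβ'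
  have hc' : (orderOf β).Coprime p := hβ ▸ hc.coprime_dvd_left hd
  have hK : ∀ γ ∈ Subgroup.zpowers β, Pres (innerFusionSystem P) γ := fun γ _ U f hf => by
    obtain ⟨a, g, hg, e⟩ := mor_inner_iff.1 hf
    refine ⟨_, mor_conj _ (img_afun_le a) (afun_mem γ hg), fun x hx => ?_⟩
    rw [e x hx, afun_map_conj γ hg (a hx)]
  have ha : ∀ γ ∈ (twist _ hK).autGroup P, ∃ a ∈ Subgroup.zpowers β, ∃ c ∈ Inn P, γ = a * c :=
    fun γ hγ => by
      obtain ⟨a, h1, c, h2, e⟩ := twist_aut hγ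
      exact ⟨a, h1, c, mem_Inn.2 (mor_inner_iff.1 ((mem_autGroup le_rfl).1 h2)).2, e⟩
  have hs : (twist _ hK).IsSaturated p := twist_saturated hP' (inner_saturated hP')
    (isFullyAutomized_iff.2 ⟨le_rfl, autInducedBy_le_autGroup _ le_rfl, autInducedBy_pgroup hP' P,
      fun D d1 d2 d3 γ hγ => by
        obtain ⟨a, a1, c, c1, rfl⟩ := ha γ (d1 hγ)
        rw [Inn_eq_autInducedBy] at c1
        obtain ⟨k, hk⟩ := d2 ⟨a, (D.mul_mem_cancel_right (d3 c1)).1 hγ⟩
        rwa [eq_one_of_coprime_pelt (hc'.coprime_dvd_left (orderOf_dvd_of_mem_zpowers a1)) (k := k)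
          (congrArg Subtype.val hk), one_mul]⟩)
  have hm := le_twist_aut (hK := hK) (Subgroup.mem_zpowers β)
  rcases h P _ hs (isSubsystemOf_iff.2 fun U f hf => by
    obtain ⟨a, a1, g, hg, e⟩ := twist_mor.1 hf
    obtain ⟨u, s, hs, e'⟩ := mor_inner_iff.1 hg
    exact (((mor_conj F (u.trans hP) (hP hs)).congr fun x hx => (e' x hx).symm).comp
      ((mem_autGroup hP).1 ((Subgroup.zpowers_le).2 hβ' a1)) fun x hx => hg.mem hx).congr
        fun x hx => (e x hx).symm) with ⟨rfl, a⟩ | a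
  · have e := sys_ext (hom_eq_iff.1 a)
    refine ⟨isNormal_iff.2 ⟨le_rfl, fun U f hf => ?_⟩, le_antisymm foc_le (h1.ge.trans hyp_le_foc), h1,
      q, β, hq, fun e => (Fact.out : p.Prime).ne_one (by rwa [hβ, e, Nat.coprime_self] at hc'),
      hβ', hβ, le_antisymm (fun γ hγ => ?_) (sup_le (Inn_le_autGroup F le_rfl)
        ((Subgroup.zpowers_le).2 hβ'))⟩
    · obtain ⟨a, a1, g, hg, e1⟩ := twist_mor.1 (e ▸ hf)
      obtain ⟨u, s, hs, e'⟩ := mor_inner_iff.1 hg
      have k := (mor_conj F le_rfl hs).comp ((mem_autGroup le_rfl).1 ((Subgroup.zpowers_le).2 hβ' a1))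
        fun x hx => (mor_conj F le_rfl hs).mem hx
      exact ⟨_, k.mono (sup_le u le_rfl), fun x hx => by rw [e1 x hx, e' x hx],
        k.img_eq_self fun x hx => k.mem hx⟩
    · obtain ⟨a, a1, c, c1, rfl⟩ := ha γ (e ▸ hγ)
      exact mul_mem (Subgroup.mem_sup_right a1) (Subgroup.mem_sup_left c1)
  · rw [sys_ext (hom_eq_iff.1 a), innerFusionSystem_eq, autGroup_sub le_rfl] at hm
    obtain ⟨k, hk⟩ := autInducedBy_pgroup hP' P ⟨β, hm⟩
    rw [eq_one_of_coprime_pelt hc' (k := k) (congrArg Subtype.val hk), orderOf_one] at hβ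
    exact absurd hβ.symm hq.ne_one

end Cfsg.Agent.S5245
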