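import Cfsg.Statements.S5251
import Cfsg.Agent.Lib.Fusion.PPrime2

set_option autoImplicit false
open Cfsg

namespace Cfsg.Agent.S5251

open Cfsg.Agent.Fusion

/-- Let F be a saturated fusion system over a finite p-group S, E a normal subsystem of F over T, and P an F-centric subgroup of S such that P ∩ T is not E-centric. Then some F-conjugate P* of P satisfies Out_S(P*) ∩ O_p(Out_F(P*)) ≠ 1: there is an element of N_S(P*) outside P* whose conjugation action on P* lies in O_p(Aut_F(P*)). In particular P is not both centric and radical in F. -/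
theorem result {Ω : Type*} [Group Ω] {S : Subgroup Ω} [Finite S] (p : ℕ) [Fact p.Prime] (hS : IsPGroup p S) (F : Cfsg.FusionSystem S) (hF : F.IsSaturated p) {T : Subgroup Ω} (E : Cfsg.FusionSystem T) (hE : E.IsNormalIn F p) (P : Subgroup Ω) (hP : F.IsCentric P) (hPT : ¬ E.IsCentric (P ⊓ T)) : (∃ φ ∈ F.Hom P, ∃ x ∈ S ⊓ Subgroup.normalizer (φ.range : Set Ω), x ∉ φ.range ∧ ∃ α ∈ ((Cfsg.pCore p ↥(F.autGroup φ.range)).map (F.autGroup φ.range).subtype : Subgroup (MulAut ↥φ.range)), ∀ y : ↥φ.range, ((α y : ↥φ.range) : Ω) = x * (y : Ω) * x⁻¹) ∧ ¬ F.IsRadical p P := by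
  obtain ⟨g, hg, h⟩ := star_of_not_tc hS hF (IsNormalIn.sc hE) hP.1
    fun h => hPT ((IsInvariantIn.centric_iff (IsNormalIn.inv hE)).2 h)
  refine ⟨?_, fun hr => h ?_⟩
  · obtain ⟨φ, hφ, e⟩ := hg
    rw [img_eq_range e] at h
    obtain ⟨x, hx, hx'⟩ := SetLike.not_le_iff_exists.1 h
    obtain ⟨-, α, hα, eα⟩ := mem_hat.1 hx
    exact ⟨φ, hφ, x, hat_le hx, hx', α, hα, fun y => by rw [← eα y y.2, afun_of_mem α y.2]⟩
  · refine hat_le_of_radical (isCentric_of_conj hP hg.isConj) ((isRadical_iff hS).2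
      ⟨hg.img_le, fun N h1 h2 h3 α hα => ?_⟩)
    obtain ⟨τ, -, t1, t2⟩ := hg.exists_transport rfl
    obtain ⟨β, rfl⟩ := τ.surjective α
    have := transport_autCore (τ := τ.symm) (fun a => by rw [← t1]; simp) (le_autCore h1 h2 h3 hα)
    rw [MulEquiv.symm_apply_apply, autCore, hr.2] at this
    exact (t2 β).2 this

end Cfsg.Agent.S5251
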