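import Cfsg.Statements.S5272
import Cfsg.Agent.Lib.Fusion.Sparse

set_option autoImplicit false
open Cfsg

namespace Cfsg.Agent.S5272

open Fusion Cfsg.FusionSystem

/-- An axiomatic Glauberman–Thompson nilpotency criterion for fusion systems. Let p be an odd prime, F a saturated fusion system over a finite p-group S, and 𝒜 a nonempty family of abelian subgroups of S. For Q ≤ S write I(Q) for the intersection of the members of 𝒜 contained in Q. Assume (invariance) that for every Q ≤ S containing a member of 𝒜, every F-automorphism of Q maps I(Q) into itself, and (replacement) that for every subgroup B of S of nilpotency class at most 2, if some member of 𝒜 contains [B,B] but not B, then B normalizes some member of 𝒜 that contains [B,B] but not B. Then F is the inner fusion system of S if and only if the normalizer fusion system of I(S) in F is the inner fusion system of N_S(I(S)).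 -/
theorem result {Ω : Type*} [Group Ω] {S : Subgroup Ω} [Finite S] (p : ℕ) [Fact p.Prime] (hS : IsPGroup p ↥S) (F : Cfsg.FusionSystem S) (hF : F.IsSaturated p) (hp : p ≠ 2) (𝒜 : Set (Subgroup Ω)) (h𝒜 : ∀ A ∈ 𝒜, A ≤ S ∧ IsMulCommutative ↥A) (hne : 𝒜.Nonempty) (hinv : ∀ Q : Subgroup Ω, Q ≤ S → (∃ A ∈ 𝒜, A ≤ Q) → ∀ α ∈ F.autGroup Q, ∀ x : ↥Q, (x : Ω) ∈ (⨅ A ∈ {A : Subgroup Ω | A ∈ 𝒜 ∧ A ≤ Q}, A) → (((α : MulAut ↥Q) x : ↥Q) : Ω) ∈ (⨅ A ∈ {A : Subgroup Ω | A ∈ 𝒜 ∧ A ≤ Q}, A)) (hrep : ∀ B : Subgroup Ω, B ≤ S → ⁅⁅B, B⁆, B⁆ = ⊥ → (∃ A ∈ 𝒜, ⁅B, B⁆ ≤ A ∧ ¬ B ≤ A) → ∃ A ∈ 𝒜, ⁅B, B⁆ ≤ A ∧ ¬ B ≤ A ∧ B ≤ Subgroup.normalizer (A : Set Ω)) : (∀ P : Subgroup Ω, F.Hom P = (Cfsg.innerFusionSystem S).Hom P) ↔ ∀ N : Cfsg.FusionSystem (Cfsg.FusionSystem.normalizerIn S (⨅ A ∈ 𝒜, A)), F.IsNormalizerSystem (⨅ A ∈ 𝒜, A) N → ∀ P : Subgroup Ω, N.Hom P = (Cfsg.innerFusionSystem (Cfsg.FusionSystem.normalizerIn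 S (⨅ A ∈ 𝒜, A))).Hom P := by
  obtain ⟨A₀, hA₀⟩ := hne
  have hI : (⨅ A ∈ 𝒜, A) ≤ S := (iInf₂_le A₀ hA₀).trans (h𝒜 _ hA₀).1
  refine ⟨fun h1 N hN => isInner_iff_hom.1 (isInner_normSys (isInner_iff_hom.2 h1) hI hN),
    fun h1 => isInner_iff_hom.1 (inner_of_model hp hS hF (hasN_of_forall hI h1) hI
      fun D L _ _ ι P hD hL hP hst => ?_)⟩
  have hi := hL.2.1.1
  have hpre : ∀ B : Subgroup L, B ≤ P → imageAlong ι (preimageAlong ι B) = B := fun B hB =>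
    image_preimage (hP ▸ hB)
  have hle : ∀ {A} {B : Subgroup L}, A ≤ S → (imageAlong ι A ≤ B ↔ A ≤ preimageAlong ι B) :=
    fun hA => (imageAlong_le_iff hA).trans ⟨fun h x hx => mem_preimageAlong.2 ⟨hA hx, h x hx⟩,
      fun h x hx => (mem_preimageAlong.1 (h hx)).2⟩
  have := Transfer.abs_normal hL.2.2.2 hst P (𝒜 := imageAlong ι '' 𝒜)
    (I := fun Q => ⨅ A ∈ {A | A ∈ imageAlong ι '' 𝒜 ∧ A ≤ Q}, A) (by
      rintro _ ⟨A, hA, rfl⟩
      have := (h𝒜 A hA).2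
      exact ⟨hP ▸ imageAlong_le_range, Transfer.comm_iff.2 fun a ha b hb => by
        obtain ⟨x, hx, rfl⟩ := (mem_imageAlong' (h𝒜 A hA).1).1 ha
        obtain ⟨y, hy, rfl⟩ := (mem_imageAlong' (h𝒜 A hA).1).1 hb
        rw [← ap_mul _ ((h𝒜 A hA).1 hx) ((h𝒜 A hA).1 hy), Transfer.comm_iff.1 this x hx y hy,
          ap_mul _ ((h𝒜 A hA).1 hy) ((h𝒜 A hA).1 hx)]⟩)
    (fun Q x => by simp only [Subgroup.mem_iInf, Set.mem_setOf_eq, and_imp])
    ⟨_, A₀, hA₀, rfl⟩ (fun Q hQ ⟨_, ⟨A, hA, rfl⟩, hAQ⟩ g hg => ?_) fun B hB h2 h3 => ?_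
  · convert this using 1
    ext y
    simp only [Subgroup.mem_iInf, Set.mem_setOf_eq, and_imp, mem_imageAlong' hI]
    refine ⟨?_, fun h => ?_⟩
    · rintro ⟨x, hx, rfl⟩ _ ⟨A, hA, rfl⟩ -
      exact ap_mem_imageAlong (h𝒜 A hA).1 (hx A hA)
    · obtain ⟨x, hx, rfl⟩ := (mem_imageAlong' (h𝒜 _ hA₀).1).1
        (h _ ⟨_, hA₀, rfl⟩ (hP ▸ imageAlong_le_range))
      exact ⟨x, fun A hA => (ap_mem_image_iff hi (h𝒜 A hA).1 ((h𝒜 _ hA₀).1 hx)).1
        (h _ ⟨_, hA, rfl⟩ (hP ▸ imageAlong_le_range)), rfl⟩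
  · have h4 : ∀ x ∈ preimageAlong ι Q, g * ap ι x * g⁻¹ ∈ Q := fun x hx =>
      conj_mem_of_mem_normalizer hg (mem_preimageAlong.1 hx).2
    obtain ⟨f, hf, e⟩ := IsRealizedBy.exists_mor hL.2.1 preimageAlong_le g
      fun x hx => hP ▸ hQ (h4 x hx)
    have : Finite (preimageAlong ι Q) := finite_of_le preimageAlong_le
    obtain ⟨α, hα, eα⟩ := (isSubsystemOf_iff.1 hD _ _ hf).exists_aut (hf.img_eq_self fun x hx =>
      mem_preimageAlong.2 ⟨hf.mem hx, e x hx ▸ h4 x hx⟩)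
    refine mem_normalizer_of_finite fun y hy => ?_
    simp only [Subgroup.mem_iInf, Set.mem_setOf_eq, and_imp] at hy ⊢
    obtain ⟨x, hx, rfl⟩ := (mem_imageAlong' (h𝒜 _ hA).1).1 (hy _ ⟨_, hA, rfl⟩ hAQ)
    have hx' := (hle (h𝒜 _ hA).1).1 hAQ hx
    have h5 := hinv _ preimageAlong_le ⟨A, hA, (hle (h𝒜 _ hA).1).1 hAQ⟩ α hα ⟨x, hx'⟩ (by
      simp only [Subgroup.mem_iInf, Set.mem_setOf_eq, and_imp]
      exact fun A' hA' h => (ap_mem_image_iff hi (h𝒜 _ hA').1 ((h𝒜 _ hA).1 hx)).1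
        (hy _ ⟨_, hA', rfl⟩ ((hle (h𝒜 _ hA').1).2 h)))
    simp only [Subgroup.mem_iInf, Set.mem_setOf_eq, and_imp] at h5
    rintro _ ⟨A', hA', rfl⟩ h6
    rw [← e x hx', ← eα x hx', afun_of_mem _ hx']
    exact ap_mem_imageAlong (h𝒜 _ hA').1 (h5 A' hA' ((hle (h𝒜 _ hA').1).1 h6))
  · obtain ⟨_, ⟨A, hA, rfl⟩, h4, h5⟩ := h3
    have hB' : preimageAlong ι B ≤ S := preimageAlong_le
    have hc := (Subgroup.commutator_le_self _).trans hB'
    obtain ⟨A', hA', h6, h7, h8⟩ := hrep _ hB' (imageAlong_inj hi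
      ((Subgroup.commutator_mono hc hB').trans S.commutator_le_self) bot_le (by
        rw [imageAlong_commutator hc hB', imageAlong_commutator hB' hB', hpre B hB, h2,
          imageAlong_bot])) ⟨A, hA, (imageAlong_le_imageAlong_iff hi hc (h𝒜 _ hA).1).1 (by
        rwa [imageAlong_commutator hB' hB', hpre B hB]), fun h => h5 (hpre B hB ▸ imageAlong_mono h)⟩
    refine ⟨_, ⟨A', hA', rfl⟩, ?_, fun h => h7 ((imageAlong_le_imageAlong_iff hi hB' (h𝒜 _ hA').1).1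
      (by rwa [hpre B hB])), ?_⟩
    · rw [← hpre B hB, ← imageAlong_commutator hB' hB']; exact imageAlong_mono h6
    · rw [← hpre B hB]
      refine (imageAlong_le_iff hB').2 fun x hx => mem_normalizer_of_finite fun y hy => ?_
      obtain ⟨a, ha, rfl⟩ := (mem_imageAlong' (h𝒜 _ hA').1).1 hy
      rw [← ap_conj _ (hB' hx) ((h𝒜 _ hA').1 ha)]
      exact ap_mem_imageAlong (h𝒜 _ hA').1 (conj_mem_of_mem_normalizer (h8 hx) ha)

end Cfsg.Agent.S5272
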