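import Cfsg.Statements.S5296
import Cfsg.Agent.Lib.Fusion.BGH

set_option autoImplicit false
universe u
open Cfsg

namespace Cfsg.Agent.S5296

open Subgroup Fusion

/-- Small-exponent abelian subgroups of the hyperfocal subgroup control fusion. Let E and F be saturated fusion systems over the same finite p-group S with E contained in F. Suppose that E and F have the same maps between A and B for all subgroups A, B of the hyperfocal subgroup of F that are elementary abelian when p is odd, respectively abelian of exponent dividing 4 when p = 2. Then E = F. -/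
theorem result {Ω : Type u} [Group Ω] {S : Subgroup Ω} [Finite S] (p : ℕ) [Fact p.Prime] (hS : IsPGroup p S)
    (E F : Cfsg.FusionSystem S) (hE : E.IsSaturated p) (hF : F.IsSaturated p) (hEF : E.IsSubsystemOf F)
    (hodd : p ≠ 2 → ∀ A B : Subgroup Ω, A ≤ (F.hyperfocalSubgroup p) → B ≤ (F.hyperfocalSubgroup p) →
      Cfsg.IsElementaryAbelian p A → Cfsg.IsElementaryAbelian p B → E.homSet A B = F.homSet A B)
    (htwo : p = 2 → ∀ A B : Subgroup Ω, A ≤ (F.hyperfocalSubgroup p) → B ≤ (F.hyperfocalSubgroup p) →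
      IsMulCommutative ↥A → IsMulCommutative ↥B → (∀ a ∈ A, a ^ 4 = 1) → (∀ b ∈ B, b ^ 4 = 1) → E.homSet A B = F.homSet A B) :
    ∀ P : Subgroup Ω, E.Hom P = F.Hom P := by
  refine hom_eq_iff.2 fun P f => ⟨isSubsystemOf_iff.1 hEF P f, bgh hS hF hE hEF fun A hA h1 h2 f hf => ?_⟩
  have h3 : img f A ≤ F.hyperfocalSubgroup p := img_le_iff.2 fun x hx =>
    StronglyClosed.mem (hyp_stronglyClosed hS hF) hf hx (hA hx)
  obtain ⟨e, he⟩ := hf.exists_equiv rfl
  have h4 : IsMulCommutative (img f A) := ⟨⟨fun x y => e.symm.injective (by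
    rw [map_mul, map_mul, h1.is_comm.comm])⟩⟩
  have h5 : ∀ x ∈ img f A, Sm p x := fun y hy => by
    obtain ⟨x, hx, rfl⟩ := hf.mem_img.1 hy
    exact hf.sm hx (h2 x hx)
  have h6 : E.homSet A (img f A) = F.homSet A (img f A) := by
    by_cases h : p = 2
    · exact htwo h _ _ hA h3 h1 h4 (fun x hx => by simpa [h] using sm_iff.1 (h2 x hx))
        fun x hx => by simpa [h] using sm_iff.1 (h5 x hx)
    · exact hodd h _ _ hA h3 ⟨h1, fun x hx => by simpa [h] using sm_iff.1 (h2 x hx)⟩
        ⟨h4, fun x hx => by simpa [h] using sm_iff.1 (h5 x hx)⟩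
  obtain ⟨φ, hφ, e⟩ := hf
  exact ⟨φ, (h6.ge ⟨hφ, fun x => e x ▸ subset_img x.2⟩).1, e⟩

end Cfsg.Agent.S5296
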