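import Cfsg.Statements.S5287
import Cfsg.Agent.Lib.Fusion.SSol3

set_option autoImplicit false
open Cfsg

namespace Cfsg.Agent.S5287

/-- Let S be a finite metacyclic p-group (an extension of a cyclic group by a cyclic group). Every saturated fusion system over S is supersoluble (S has a chain of F-strongly closed subgroups from 1 to S with cyclic steps) if and only if S is not homocyclic of rank two (isomorphic to Z/p^n × Z/p^n with n ≥ 1) and, when p = 2, S is not dihedral of order at least 4, not quasi-dihedral (semidihedral) and not generalized quaternion of order at least 8. -/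
theorem result {Ω : Type*} [Group Ω] {S : Subgroup Ω} [Finite S] (p : ℕ) [Fact p.Prime] (hS : IsPGroup p ↥S) (hm : Cfsg.IsMetacyclic ↥S) : (∀ F : Cfsg.FusionSystem S, F.IsSaturated p → (∃ (m : ℕ) (c : Fin (m + 1) → Subgroup Ω), c 0 = ⊥ ∧ c (Fin.last m) = S ∧ (∀ i : Fin (m + 1), F.StronglyClosed (c i)) ∧ ∀ i : Fin m, c i.castSucc ≤ c i.succ ∧ ∃ x ∈ S, c i.succ = c i.castSucc ⊔ Subgroup.zpowers x)) ↔ ¬ ((∃ n : ℕ, 0 < n ∧ Nonempty (↥S ≃* Multiplicative (ZMod (p ^ n)) × Multiplicative (ZMod (p ^ n)))) ∨ (p = 2 ∧ ((∃ n : ℕ, 2 ≤ n ∧ Nonempty (↥S ≃* DihedralGroup n)) ∨ Cfsg.IsQuasiDihedral ↥S ∨ (∃ n : ℕ, 2 ≤ n ∧ Nonempty (↥S ≃* QuaternionGroup n))))) := by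
  simp only [SSol.sc_iff]
  rw [SSol.main hS]
  constructor
  · rintro ⟨h1, h2⟩ (⟨n, hn, ⟨e⟩⟩ | ⟨rfl, ⟨n, hn, ⟨e⟩⟩ | h | ⟨n, hn, ⟨e⟩⟩⟩)
    · exact SSol.not_ae' (H := PUnit.{1}) hn (e.trans MulEquiv.prodUnique.symm) h2
    · obtain ⟨-, -, m, -, -, -, rfl⟩ := Transfer.mc_of_dihedral (hS.to_subgroup ⊤) hn
        (Subgroup.topEquiv.trans e)
      exact SSol.not_rl hS h1 h2 ((SSol.rl_d m.succ_pos).equiv e.symm)
    · exact SSol.not_rl hS h1 h2 (SSol.rl_qd h)
    · obtain ⟨k, hk⟩ := IsPGroup.iff_card.1 hS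
      have : NeZero n := ⟨by omega⟩
      rw [Nat.card_congr e.toEquiv, Nat.card_eq_fintype_card, QuaternionGroup.card] at hk
      obtain ⟨j, -, rfl⟩ := (Nat.dvd_prime_pow Nat.prime_two).1 (hk ▸ dvd_mul_left n 4)
      exact SSol.not_rl hS h1 h2 ((SSol.rl_q (Nat.pos_of_ne_zero (by rintro rfl; simp at hn))).equiv
        e.symm)
  · intro h
    by_cases hp : p = 2
    · subst hp
      have k : ∀ m, 2 ≤ 2 ^ (m + 1) := fun m => Nat.le_self_pow (by omega) 2
      refine ⟨fun F hF => by_contra fun hn => h (.inr ⟨rfl, ?_⟩), fun H hH => ?_⟩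
      · obtain ⟨m, e⟩ | ⟨m, h1, e⟩ | e := MCyc.normal_two hS hF (Fusion.stronglyClosed_top F) hm hn
        exacts [.inl ⟨_, k m, e⟩, .inr (.inr ⟨_, Nat.le_self_pow (by omega) 2, e⟩), .inr (.inl e)]
      have h2 : IsPGroup 2 (MulAut S) := by_contra fun hA => by
        rcases MCyc.meta_not_pgroup hS hm hA with e | ⟨n, e⟩
        exacts [h (.inr ⟨rfl, .inr (.inr ⟨2, le_rfl, e⟩)⟩), h (.inl ⟨_, n.succ_pos, e⟩)]
      obtain ⟨n, hn⟩ := IsPGroup.iff_card.1 (h2.to_subgroup H)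
      obtain rfl : H = ⊥ := Subgroup.card_eq_one.1 (Nat.eq_one_of_dvd_coprimes (hH.pow_right n)
        dvd_rfl hn.dvd)
      exact ⟨inferInstance, fun h hh => by simpa using hh⟩
    · exact ⟨fun F hF => MCyc.normal_odd hp hS hF (Fusion.stronglyClosed_top F) hm,
        SSol.ae_meta hp hS hm fun x => h (.inl x)⟩

end Cfsg.Agent.S5287
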