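import Cfsg.Statements.S5291
import Cfsg.Agent.Lib.Fusion.Invariant

set_option autoImplicit false
open Cfsg

namespace Cfsg.Agent.S5291

open Fusion Cfsg.FusionSystem

/-- Let F be a saturated fusion system over a finite p-group S and E a weakly normal subsystem of F over a subgroup T. Suppose a subgroup R of T is normal in E (E = N_E(R)), and let R* be the subgroup of T generated by the images of R under all maps of F with source R. Then R* is normal in F (F = N_F(R*)). -/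
theorem result {Ω : Type*} [Group Ω] {S : Subgroup Ω} [Finite S] (p : ℕ) [Fact p.Prime] (hS : IsPGroup p S)
    (F : Cfsg.FusionSystem S) (hF : F.IsSaturated p)
    {T : Subgroup Ω} (E : Cfsg.FusionSystem T) (hE : E.IsWeaklyNormalIn F p)
    (R : Subgroup Ω) (hR : E.IsNormal R) :
    F.IsNormal (Subgroup.closure {x : Ω | ∃ φ ∈ F.Hom R, ∃ r : R, x = φ r}) := by
  have hi := hE.2.2
  have hT := hi.2.1.1
  have := finite_of_le hT
  have e : Subgroup.closure {x : Ω | ∃ φ ∈ F.Hom R, ∃ r : R, x = φ r} =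
      sSup {U | U = ⊥ ∨ ∃ α ∈ F.autGroup T, U ≤ T ∧ E.IsNormal U ∧
        U ≤ Subgroup.closure {x : Ω | ∃ φ ∈ F.Hom R, ∃ r : R, x = φ r}} := by
    apply le_antisymm
    · rw [Subgroup.closure_le]
      rintro _ ⟨φ, hφ, r, rfl⟩
      obtain ⟨α, hα, g, hg, eg⟩ := IsInvariantIn.frattini hi hR.1 (mor_hfun hφ)
      refine (le_sSup (Or.inr ⟨α, hα, (IsInvariantIn.normal_img hi hR hα).1,
        IsInvariantIn.normal_img hi hR hα, img_le_iff.2 fun x hx => Subgroup.subset_closure ?_⟩) :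
          img (afun α) R ≤ _) ?_
      · rw [← hfun_coe, eg r r.2]
        exact subset_img (StronglyClosed.mem (IsNormal.stronglyClosed hR) hg r.2 r.2)
      · obtain ⟨ψ, hψ, e⟩ := ((mem_autGroup hT).1 hα).mono hR.1
        exact ⟨ψ, hψ, ⟨x, hx⟩, (e ⟨x, hx⟩).symm⟩
    · refine _root_.sSup_le ?_
      rintro U (rfl | ⟨-, -, -, -, h⟩)
      · exact bot_le
      · exact h
  have hn : E.IsNormal (Subgroup.closure {x : Ω | ∃ φ ∈ F.Hom R, ∃ r : R, x = φ r}) := by
    have := sSup_mem_of_sup (S := T) (C := {U | U = ⊥ ∨ ∃ α ∈ F.autGroup T, U ≤ T ∧ E.IsNormal U ∧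
        U ≤ Subgroup.closure {x : Ω | ∃ φ ∈ F.Hom R, ∃ r : R, x = φ r}}) (Or.inl rfl)
      (by rintro U (rfl | ⟨-, -, h, -⟩); exacts [bot_le, h]) (by
        rintro U (rfl | ⟨α, hα, h1, h2, h3⟩) V hV
        · rwa [bot_sup_eq]
        · rcases hV with rfl | ⟨-, -, h4, h5, h6⟩
          · rw [sup_bot_eq]; exact Or.inr ⟨α, hα, h1, h2, h3⟩
          · exact Or.inr ⟨α, hα, sup_le h1 h4, IsNormal.sup h2 h5, sup_le h3 h6⟩)
    rw [← e] at this
    rcases this with h | ⟨-, -, -, h, -⟩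
    · rw [h]; exact isNormal_bot E
    · exact h
  refine IsInvariantIn.normal_of hS hF hi hn fun α hα => ?_
  have hm := (mem_autGroup hT).1 hα
  intro x hx
  induction hx using Subgroup.closure_induction with
  | mem x hx =>
    obtain ⟨φ, hφ, r, rfl⟩ := hx
    obtain ⟨ψ, hψ, e⟩ := (mor_hfun hφ).comp hm fun x hx =>
      StronglyClosed.mem hi.2.1 (mor_hfun hφ) hx (hR.1 hx)
    exact Subgroup.subset_closure ⟨ψ, hψ, r, by rw [e]; simp⟩
  | one => rw [afun_map_one]; exact Subgroup.one_mem _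
  | mul x y hx hy h1 h2 => rw [afun_map_mul _ (hn.1 hx) (hn.1 hy)]; exact Subgroup.mul_mem _ h1 h2
  | inv x hx h1 => rw [afun_map_inv _ (hn.1 hx)]; exact Subgroup.inv_mem _ h1

end Cfsg.Agent.S5291
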