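import Cfsg.Statements.S5297
import Cfsg.Agent.Lib.Fusion.BGH

set_option autoImplicit false
universe u
open Cfsg

namespace Cfsg.Agent.S5297

open Subgroup Fusion

theorem key {Ω : Type*} [Group Ω] {S P : Subgroup Ω} [Finite S] {p : ℕ} [Fact p.Prime] (hS : IsPGroup p S)
    {F : FusionSystem S} (hF : F.IsSaturated p) {M : ∀ A : Subgroup Ω, Set (A →* Ω)}
    (h : ∀ A B : Subgroup Ω, A ≤ (F.hyperfocalSubgroup p) → B ≤ (F.hyperfocalSubgroup p) → IsCyclic ↥A →
      (Nat.card ↥A = p ∨ Nat.card ↥A = 4) → IsCyclic ↥B → (Nat.card ↥B = p ∨ Nat.card ↥B = 4) →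
      F.homSet A B ⊆ M A) {f : Ω → Ω} (hf : Mor F P f) {x : Ω} (hx : x ∈ P) (h1 : x ∈ F.hyperfocalSubgroup p)
    (h2 : Sm p x) (h3 : x ≠ 1) : ∃ φ ∈ M (zpowers x), φ ⟨x, mem_zpowers x⟩ = f x := by
  obtain ⟨φ, hφ, e⟩ := hf.mono (zpowers_le.2 hx)
  refine ⟨φ, h _ (zpowers (f x)) (zpowers_le.2 h1) (zpowers_le.2 (StronglyClosed.mem (hyp_stronglyClosed hS hF)
    hf hx h1)) inferInstance (card_of_sm h2 h3) inferInstance (card_of_sm (hf.sm hx h2)
    (mt (hf.eq_one_iff hx).1 h3)) ⟨hφ, ?_⟩, e _⟩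
  rintro ⟨_, k, rfl⟩
  rw [e, hf.map_zpow hx]
  exact ⟨k, rfl⟩

/-- Let F be a saturated fusion system over a finite p-group S. If every map of F between cyclic subgroups of the hyperfocal subgroup of F of order p or 4 is a map of the normalizer system of S (it extends to a map of F defined on all of S), then S is normal in F. -/
theorem result {Ω : Type u} [Group Ω] {S : Subgroup Ω} [Finite S] (p : ℕ) [Fact p.Prime] (hS : IsPGroup p S)
    (F : Cfsg.FusionSystem S) (hF : F.IsSaturated p)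
    (h : ∀ A B : Subgroup Ω, A ≤ (F.hyperfocalSubgroup p) → B ≤ (F.hyperfocalSubgroup p) → IsCyclic ↥A → (Nat.card ↥A = p ∨ Nat.card ↥A = 4) → IsCyclic ↥B → (Nat.card ↥B = p ∨ Nat.card ↥B = 4) →
      F.homSet A B ⊆ F.normalizerHom S A) :
    F.IsNormal S := by
  obtain ⟨n, hn⟩ := exists_zc_eq hS
  refine normal_of_small_chain hS hF (hyp_stronglyClosed hS hF) (stronglyClosed_top F)
    (fun P hP α hα hc => ⟨hα.1, fun x => mem_hyp hP hα.1 hc⟩) (zc_zero S) (n := n)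
    (fun x hx _ => hn.ge (hyp_le hx)) (fun i P f hf x hx h1 h2 h3 => ?_) fun i _ s hs x _ _ hx => ?_
  · by_cases h4 : x = 1
    · rw [h4, hf.map_one]; exact one_mem _
    obtain ⟨φ, ⟨-, -, -, ψ, hψ, e, -⟩, e'⟩ := key hS hF h hf hx h1 h2 h4
    have h5 := (mor_hfun hψ).mono le_sup_right
    obtain ⟨α, -, hα⟩ := h5.exists_aut (h5.img_eq_self fun _ => h5.mem)
    rw [← e', ← e, ← hfun_of_mem]
    show hfun ψ x ∈ _
    rw [← hα x (hyp_le h1)]
    exact afun_mem_of_char (zc_le S i) (zc_char S i) α h3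
  · simpa [commutatorElement_def, mul_assoc] using (mem_zc_succ.1 (inv_mem hx)).2 s hs

end Cfsg.Agent.S5297
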