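import Cfsg.Statements.S5299
import Cfsg.Agent.Lib.Fusion.Glaub
import Cfsg.Agent.Lib.Fusion.KFoc2

set_option autoImplicit false
universe u
open Cfsg

namespace Cfsg.Agent.S5299

open Subgroup Fusion Cfsg.FusionSystem

/-- Let F be a saturated fusion system over a finite p-group S, H a finite group and Q a p-subgroup of H. If Q is not involved in S (no section of S is isomorphic to Q), then F is H-free: H is involved in no model of the normalizer system of a fully normalized centric subgroup. -/
theorem result {Ω : Type u} [Group Ω] {S : Subgroup Ω} [Finite S] (p : ℕ) [Fact p.Prime] (hS : IsPGroup p S)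
    (F : Cfsg.FusionSystem S) (hF : F.IsSaturated p) (H : Type*) [Group H] [Finite H] (Q : Subgroup H) (hQ : IsPGroup p Q)
    (hfree : ¬ Cfsg.Involves (↥Q) (↥S)) : F.IsSectionFree p H := by
  intro R _ _ N _ L _ ι hL hi
  have := hL.1
  obtain ⟨K, φ, hφ⟩ := involves_iff.1 hi
  obtain ⟨T⟩ : Nonempty (Sylow p (Q.comap φ)) := inferInstance
  have h1 := φ.subgroupComap_surjective_of_surjective Q hφ
  have h2 : (T.mapSurjective h1).1 = ⊤ := (T.mapSurjective h1).3 (hQ.to_subgroup ⊤) le_top |>.symm
  obtain ⟨P, hP⟩ := hL.2.2.1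
  obtain ⟨g, hg⟩ := Transfer.exists_cj_le_sylow P ((T.2.map (Subgroup.subtype _)).map K.subtype)
  refine hfree (Involves.of_injective (Involves.of_injective (Involves.of_injective
    (Involves.of_surjective involves_refl ((φ.subgroupComap Q).comp T.1.subtype) fun q => ?_)
    ((((MulAut.conj g).toMonoidHom.comp K.subtype).comp (Subgroup.subtype _)).comp T.1.subtype |>.codRestrict
      ι.range fun t => hP.le (hg ⟨_, ⟨_, ⟨t, t.2, rfl⟩, rfl⟩, rfl⟩)) ?_)
    (MonoidHom.ofInjective hL.2.1.1).symm.toMonoidHom (MulEquiv.injective _))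
    (inclusion normalizerIn_le) (inclusion_injective _))
  · obtain ⟨t, ht, e⟩ := h2.ge (mem_top q)
    exact ⟨⟨t, ht⟩, e⟩
  · exact fun a b e => Subtype.ext (Subtype.ext (Subtype.ext
      ((MulAut.conj g).injective (congrArg Subtype.val e))))

end Cfsg.Agent.S5299
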