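import Cfsg.Statements.S5300
import Cfsg.Agent.Lib.Fusion.BGH

set_option autoImplicit false
universe u
open Cfsg

namespace Cfsg.Agent.S5300

open Subgroup Fusion

/-- Let F be a saturated fusion system over a finite p-group S. If every cyclic subgroup of the focal subgroup of F of order p (of order 2 or 4 when p = 2) is normal in S, then S is normal in F. -/
theorem result {Ω : Type u} [Group Ω] {S : Subgroup Ω} [Finite S] (p : ℕ) [Fact p.Prime] (hS : IsPGroup p S)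
    (F : Cfsg.FusionSystem S) (hF : F.IsSaturated p)
    (hnorm : ∀ x ∈ F.focalSubgroup, (x ^ p = 1 ∨ (p = 2 ∧ x ^ 4 = 1)) → ∀ s ∈ S, s * x * s⁻¹ ∈ Subgroup.zpowers x) :
    F.IsNormal S := by
  have c : ∀ x ∈ F.focalSubgroup, x ^ p = 1 → ∀ s ∈ S, s * x * s⁻¹ = x := fun x hx h1 s hs => by
    obtain ⟨k, hk⟩ := hnorm x hx (.inl h1) s hs
    have h2 : ∀ j : ℕ, s ^ j * x * (s ^ j)⁻¹ = x ^ k ^ j := fun j => by
      induction j with
      | zero => simp
      | succ j ih =>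
        calc _ = s * (s ^ j * x * (s ^ j)⁻¹) * s⁻¹ := by rw [pow_succ']; group
          _ = _ := by rw [ih, ← conj_zpow, ← hk, ← zpow_mul, pow_succ']
    obtain ⟨m, hm⟩ := hS ⟨s, hs⟩
    have h3 := h2 (p ^ m)
    rw [show s ^ p ^ m = 1 from congrArg Subtype.val hm, one_mul, inv_one, mul_one] at h3
    rw [← hk]
    refine (zpow_eq_zpow_iff_modEq.2 (Int.ModEq.of_dvd (Int.natCast_dvd_natCast.2 (orderOf_dvd_of_pow_eq_one h1))
      ((ZMod.intCast_eq_intCast_iff _ _ _).1 ?_))).trans h3.symm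
    rw [Int.cast_pow, ZMod.pow_card_pow]
  let C : ℕ → Subgroup Ω := fun i => if i = 0 then ⊥ else if i = 1 then
    omegaOne p (FusionSystem.centralizerIn S S) else ⊤
  have hC : ∀ x, x ∈ C 1 ↔ x ∈ FusionSystem.centralizerIn S S ∧ x ^ p = 1 := fun x =>
    Transfer.mem_omegaOne_iff ⟨⟨fun ⟨a, ha⟩ ⟨b, hb⟩ => Subtype.ext (hb.2 a ha.1)⟩⟩
  have m : ∀ x ∈ F.focalSubgroup, x ^ p = 1 → x ∈ C 1 := fun x hx h => (hC x).2 ⟨⟨foc_le hx, fun s hs =>
    mul_inv_eq_iff_eq_mul.1 (c x hx h s hs)⟩, h⟩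
  refine normal_of_small_chain hS hF (hyp_stronglyClosed hS hF) (stronglyClosed_top F)
    (fun P hP α hα hc => ⟨hα.1, fun x => mem_hyp hP hα.1 hc⟩) (C := C) rfl (n := 2)
    (fun x hx _ => trivial) (fun i P f hf x hx h1 h2 h3 => ?_) fun i hi s hs x h1 h2 hx => ?_
  · obtain _ | _ | i := i
    · rw [mem_bot.1 h3, hf.map_one]; exact one_mem _
    · exact m _ (hyp_le_foc (StronglyClosed.mem (hyp_stronglyClosed hS hF) hf hx h1))
        (by rw [← hf.map_pow hx, ((hC x).1 h3).2, hf.map_one])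
    · trivial
  have h3 := hyp_le_foc h1
  by_cases h4 : x ^ p = 1
  · simp [c x h3 h4 s hs]
  obtain _ | _ | i := i
  · exact (h4 ((hC x).1 hx).2).elim
  · obtain ⟨rfl, h5⟩ := h2.resolve_left h4
    obtain ⟨k, hk⟩ := hnorm x h3 h2 s hs
    refine m _ (mul_mem (inv_mem h3) (hk ▸ zpow_mem h3 k)) ?_
    rw [Commute.mul_pow (hk ▸ (Commute.refl x).inv_left.zpow_right k), conj_pow,
      c _ (pow_mem h3 2) (by rw [← pow_mul, h5]) s hs]
    simp
  · omega

end Cfsg.Agent.S5300
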