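import Cfsg.Statements.S5301
import Cfsg.Agent.Lib.Fusion.Normal

set_option autoImplicit false
universe u
open Cfsg

namespace Cfsg.Agent.S5301

open Fusion

/-- Let F be a saturated fusion system over a finite p-group S. If for every subgroup P of S that is fully normalized, centric and radical in F the automorphism group that F induces on P has a normal Sylow p-subgroup, then S is normal in F. -/
theorem result {Ω : Type u} [Group Ω] {S : Subgroup Ω} [Finite S] (p : ℕ) [Fact p.Prime] (hS : IsPGroup p S)
    (F : Cfsg.FusionSystem S) (hF : F.IsSaturated p)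
    (hcl : ∀ P : Subgroup Ω, F.IsFullyNormalized P → F.IsCentric P → F.IsRadical p P →
      ∃ R : Sylow p ↥(F.autGroup P), (R : Subgroup ↥(F.autGroup P)).Normal) :
    F.IsNormal S := by
  refine normal_of_le_family hS hF (StronglyClosed.weaklyClosed (stronglyClosed_top F))
    fun P hn hc hr => ?_
  obtain ⟨R, hR⟩ := hcl P hn hc hr
  have h1 := sylowIn_map_subtype R
  have h2 := ((isRadical_iff hS).1 hr).2 _ h1.le h1.pgroup (by
    rintro a ha _ ⟨n, hn, rfl⟩
    exact ⟨_, hR.conj_mem n hn ⟨a, ha⟩, rfl⟩)
  have := finite_autGroup F hn.1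
  have h3 := h1.card_le (autInducedBy_le_autGroup F hn.1) (autInducedBy_pgroup hS P)
  by_contra hne
  have hlt := Inn_lt_autInducedBy hS (lt_of_le_of_ne hn.1 fun e => hne e.ge) (IsCentric.cent_le hc)
  have := finite_of_le (autInducedBy_le_autGroup F hn.1)
  have h4 := card_lt_of_lt (h2.trans_lt hlt)
  omega

end Cfsg.Agent.S5301
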