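import Cfsg.Statements.S5306
import Cfsg.Agent.Lib.Transfer.Thom

set_option autoImplicit false
open Cfsg

namespace Cfsg.Agent.S5306

open Subgroup Transfer

/-- Let P be a Sylow p-subgroup of the finite group X and J = J(P) its Thompson subgroup (generated by the elementary abelian subgroups of P of largest order). If x and y lie in the centre of J and y = g x g⁻¹ for some g in X, then y = n x n⁻¹ for some n in the normalizer N_X(J). -/
theorem result {X : Type*} [Group X] [Finite X] (p : ℕ) [Fact p.Prime] (P : Sylow p X) (J : Subgroup X) (hJ : J = Cfsg.thompsonSubgroupOf p (P : Subgroup X))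
    (x y : X) (hx : x ∈ J ∧ ∀ j ∈ J, Commute j x) (hy : y ∈ J ∧ ∀ j ∈ J, Commute j y) (g : X) (hg : g * x * g⁻¹ = y) :
    ∃ n ∈ Subgroup.normalizer (J : Set X), n * x * n⁻¹ = y := by
  have hJp : IsPGroup p J := hJ ▸ P.2.to_le (map_subtype_le _)
  have key : ∀ a : X, cj a J ≤ P → cj a J = J := fun a ha => by
    subst hJ
    obtain ⟨U, hU⟩ := exists_maxE p P.1
    refine eq_of_le_of_card_ge (cj_le_iff_le_cj_inv.2 (J_le_iff.2 fun A hA =>
      cj_le_iff_le_cj_inv.1 (MaxE.le_J (hA.of_card_le ((cj_mono a hA.le_J).trans ha)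
        (elem_cj hA.elem a) (card_cj a A).ge)))) (card_cj _ _).ge
  obtain ⟨T, hT, h1⟩ := exists_isSyl_ge (H := centralizer {y}) hJp
    fun j hj => mem_centralizer_singleton_iff.2 (hy.2 j hj)
  obtain ⟨c, hc, h2⟩ := hT.exists_cj_le (IsPGroup.cj hJp g) (cj_le_iff.2 fun j hj =>
    mem_centralizer_singleton_iff.2 (hg ▸ (hx.2 j hj).conj g))
  obtain ⟨a, ha⟩ := exists_cj_le_sylow P hT.pgroup
  have h3 := key _ (by rw [← cj_cj, ← cj_cj]; exact (cj_mono a h2).trans ha)
  rw [← cj_cj, ← cj_cj] at h3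
  refine ⟨c * g, mem_normalizer_iff_cj.2 (by
    rw [← cj_cj]; exact cj_inj.1 (h3.trans (key a ((cj_mono a h1).trans ha)).symm)), ?_⟩
  rw [show c * g * x * (c * g)⁻¹ = c * (g * x * g⁻¹) * c⁻¹ by group, hg,
    mem_centralizer_singleton_iff.1 hc, mul_inv_cancel_right]

end Cfsg.Agent.S5306
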