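import Cfsg.Statements.S5309
import Cfsg.Agent.Lib.Fusion.Comp4

set_option autoImplicit false
open Cfsg

namespace Cfsg.Agent.S5309

open Cfsg.Agent.Fusion

/-- Self-centralizing property of the generalized Fitting subsystem. Let F be a saturated fusion system over a finite p-group S and D a generalized Fitting subsystem of F, over U. Then the centre of D is the largest subgroup Y of C_S(U) centralized by D in F, in the sense that every map of D extends to a map of F fixing Y elementwise: the centre of D is such a subgroup, and every such Y lies in the centre of D. -/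
theorem result {Ω : Type*} [Group Ω] {S : Subgroup Ω} [Finite S] (p : ℕ) [Fact p.Prime] (hS : IsPGroup p S) (F : Cfsg.FusionSystem S) (hF : F.IsSaturated p)
    {U : Subgroup Ω} (D : Cfsg.FusionSystem U) (hD : D.IsGeneralizedFittingOf F p) :
    (D.center ≤ Cfsg.FusionSystem.centralizerIn S U ∧ ∀ P : Subgroup Ω, D.Hom P ⊆ F.centralizerHom D.center P) ∧
      ∀ Y : Subgroup Ω, Y ≤ Cfsg.FusionSystem.centralizerIn S U →
        (∀ P : Subgroup Ω, D.Hom P ⊆ F.centralizerHom Y P) → Y ≤ D.center := by
  have h0 := fitting_normal hS hD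
  have hU := (IsNormalIn.sc h0).1
  have := finite_of_le hU
  have h1 : D.center ≤ Cfsg.FusionSystem.centralizerIn S U := fun x hx =>
    ⟨hU (center_le D hx), D.center_le_centralizer hx⟩
  refine ⟨⟨h1, (czS_iff hU h1).2 fun P f hf => ?_⟩, fun Y hY h => ?_⟩
  · obtain ⟨g, hg, e⟩ := IsCentral.ext (center_isCentral D) hf
    exact ⟨g, hg.sub (IsNormalIn.sub h0), e⟩
  · have h2 := (czS_iff hU hY).1 h
    refine IsCentral.le_center (central_of_fix (pgroup_of_le hS hU) (IsNormalIn.sat h0)
      ((le_CE hS h0.1 hY h2).trans (CE_fitting hS hD)) fun P f hf x hx hx' => ?_)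
    obtain ⟨g, -, e, e'⟩ := h2 P f hf
    rw [← e x hx, e' x hx']

end Cfsg.Agent.S5309
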