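import Cfsg.Statements.S5311
import Cfsg.Agent.Lib.Fusion.Comp4

set_option autoImplicit false
open Cfsg

namespace Cfsg.Agent.S5311

open Cfsg.Agent.Fusion

/-- The layer of a saturated fusion system F over a finite p-group S is characteristic in F: for every automorphism α of S that is an automorphism of F (α and its inverse are morphisms from F to F) and every layer E of F over T, α carries T onto T and, for every map φ of E with source P, the map induced by α on α(P) (that is, α ∘ φ ∘ α⁻¹) is a map of E. -/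
theorem result {Ω : Type*} [Group Ω] {S : Subgroup Ω} [Finite S] (p : ℕ) [Fact p.Prime] (hS : IsPGroup p S) (F : Cfsg.FusionSystem S) (hF : F.IsSaturated p)
    (α : ↥S ≃* ↥S) (hα : F.IsMorphism F (S.subtype.comp α.toMonoidHom))
    (hα' : F.IsMorphism F (S.subtype.comp α.symm.toMonoidHom))
    {T : Subgroup Ω} (E : Cfsg.FusionSystem T) (hE : E.IsLayerOf F p) :
    Cfsg.FusionSystem.imageAlong (S.subtype.comp α.toMonoidHom) T = T ∧
      ∀ (P : Subgroup Ω) (φ : ↥P →* Ω), φ ∈ E.Hom P →
        ∀ φ' : ↥(Cfsg.FusionSystem.imageAlong (S.subtype.comp α.toMonoidHom) P) →* Ω,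
          Cfsg.FusionSystem.InducedAlong (S.subtype.comp α.toMonoidHom) φ φ' →
            φ' ∈ E.Hom (Cfsg.FusionSystem.imageAlong (S.subtype.comp α.toMonoidHom) P) := by
  have pres : ∀ β : MulAut S, F.IsMorphism F (S.subtype.comp β.toMonoidHom) → Pres F β := by
    intro β hβ P f hf
    obtain ⟨g, hg, e⟩ := (isMorphism_iff.1 hβ).mor hf
    rw [imageAlong_aut _ hf.le] at hg
    exact ⟨g, hg, fun x hx => by
      rw [← ap_aut _ (hf.le hx), e x hx, ap_aut _ (hf.mem hx)]⟩
  obtain ⟨h1, h2⟩ := layer_char hS ((pres α hα).fiso (pres α⁻¹ hα')) hE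
  refine ⟨h1, fun P φ hφ φ' h => mem_Hom_iff.2 (h2 P _ _ (mor_hfun hφ) ?_)⟩
  exact (inducedAlong_iff.1 h).2.2.2

end Cfsg.Agent.S5311
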