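import Cfsg.Statements.S5317
import Cfsg.Agent.Lib.Fusion.SimpleL
import Cfsg.Agent.Lib.Classical.SpUE

set_option autoImplicit false
open Cfsg

namespace Cfsg.Agent.S5317

open Subgroup Fusion Perm.GL2

/-- Let F be a finite field of odd order q with q² ≡ 1 mod 16 (so that a Sylow 2-subgroup of PSL(2,q), dihedral of order the 2-part of (q²−1)/2, has order at least 8). Then the 2-fusion system of PSL(2,F) on a Sylow 2-subgroup is simple: saturated, over a nontrivial 2-group, with no normal subsystem other than the trivial one and itself. -/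
theorem result {F : Type*} [Field F] [Fintype F] (hodd : Fintype.card F % 2 = 1) (h16 : 16 ∣ Fintype.card F ^ 2 - 1)
    (S : Sylow 2 (Matrix.ProjectiveSpecialLinearGroup (Fin 2) F)) :
    (Cfsg.groupFusionSystem (S : Subgroup (Matrix.ProjectiveSpecialLinearGroup (Fin 2) F))).IsSimple 2 := by
  obtain ⟨T⟩ : Nonempty (Sylow 2 (SL2 F)) := inferInstance
  have ho := Nat.odd_iff.2 hodd
  have h0 := two_ne_zero_of_odd ho
  obtain ⟨j, -, ⟨e⟩⟩ := S0261.result ho T
  have hj : 2 ≤ j := by
    have h := Nat.card_congr e.toEquiv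
    have : NeZero (2 ^ j) := ⟨by positivity⟩
    rw [Nat.card_eq_fintype_card (α := QuaternionGroup _), QuaternionGroup.card, Sylow.card_eq_multiplicity,
      show 4 * 2 ^ j = 2 ^ (j + 2) by ring] at h
    have := (Nat.prime_two.pow_dvd_iff_le_factorization Nat.card_pos.ne').1
      (show 2 ^ 4 ∣ Nat.card (SL2 F) by rw [card_SL2, mul_assoc, ← sq_sub_one_eq]; exact h16.mul_left _)
    rw [Nat.pow_right_injective le_rfl h] at this
    omega
  obtain ⟨a, b, h1, h2, h3⟩ := Transfer.mc_of_quaternion e
  have hz : toP (a ^ 2 ^ j) = 1 := (QuotientGroup.eq_one_iff _).2 (Transfer.sl2_mem_center_of_mul_self h0 (by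
      rw [← sq, ← pow_mul, ← pow_succ, ← h1.ord, pow_orderOf_eq_one]))
  have k1 : ∀ {x : SL2 F}, toP x = 1 → x ^ 2 = 1 := fun h => by
    rcases isScal_SL_iff.1 (toP_eq_one.1 h) with rfl | rfl <;> simp
  have o : orderOf (toP a) = 2 ^ j := by
    obtain ⟨j, rfl⟩ := Nat.exists_eq_add_of_le' (by omega : 1 ≤ j)
    refine orderOf_eq_prime_pow (fun e => ?_) (by rw [← map_pow, hz])
    have := k1 ((map_pow _ _ _).trans e)
    rw [← pow_mul, ← orderOf_dvd_iff_pow_eq_one, h1.ord, ← pow_succ,
      Nat.pow_dvd_pow_iff_le_right one_lt_two] at this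
    omega
  obtain ⟨f⟩ := Solv.nonempty_dihedral_of_gens (S := T.1.map toP) (a := toP a) (b := toP b) (fun e => by
      obtain ⟨i, hi⟩ := e
      have := (Solv.commute_of_mem_zpowers (⟨i, hi⟩ : toP b ∈ zpowers (toP a))).eq
      have h4 : toP (a ^ 2) = 1 := by
        rw [map_pow, sq, mul_eq_one_iff_eq_inv, ← map_inv, ← h3, map_mul, map_mul, this, map_inv,
          mul_inv_cancel_right]
      have := k1 h4
      rw [← pow_mul, ← orderOf_dvd_iff_pow_eq_one, h1.ord, show 2 * 2 = 2 ^ 2 from rfl,
        Nat.pow_dvd_pow_iff_le_right one_lt_two] at this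
      omega)
    (by rw [h1.eq, Subgroup.map_sup, MonoidHom.map_zpowers, MonoidHom.map_zpowers])
    (by rw [← map_pow, sq, h2, hz]) (by rw [← map_inv, ← map_mul, ← map_mul, h3, map_inv])
  rw [o] at f
  obtain ⟨l, l0, l1⟩ := Classical.exists_sq_ne_one (F := F) (by
    by_contra h
    have := card_sub_one_pos (F := F)
    rw [show Fintype.card F = 3 by omega] at h16
    exact absurd h16 (by decide))
  refine simple_of_equiv (.refl _) (sylowIn_top _) (simple_dih (T.mapSurjective toP_surjective)
    (fun H hH => ?_) hj f) S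
  have := normal_of_index_eq_two hH
  have h5 : _root_.commutator (PSL2 F) ≤ H := by
    have : IsCyclic (PSL2 F ⧸ H) := isCyclic_of_prime_card (p := 2) hH
    exact Normal.quotient_commutative_iff_commutator_le.1 inferInstance
  rw [_root_.commutator_def, ← map_top_of_surjective _ toP_surjective, ← Subgroup.map_commutator,
    ← _root_.commutator_def, Matrix.SL2.commutator_eq_top l0 l1, map_top_of_surjective _ toP_surjective,
    top_le_iff] at h5
  simp [h5] at hH

end Cfsg.Agent.S5317
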