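import Cfsg.Statements.S5318
import Cfsg.Agent.Lib.Fusion.SimpleL
import Cfsg.Agent.S0249
import Cfsg.Agent.S0242
import Cfsg.Agent.S0243

set_option autoImplicit false
open Cfsg

namespace Cfsg.Agent.S5318

open Subgroup Fusion

/-- For a finite field F of odd order, the 2-fusion system of PSL(3,F) on a Sylow 2-subgroup (semidihedral or wreathed according as |F| ≡ 3 or 1 mod 4) is simple. -/
theorem result {F : Type*} [Field F] [Fintype F] (hodd : Fintype.card F % 2 = 1) (S : Sylow 2 (Matrix.ProjectiveSpecialLinearGroup (Fin 3) F)) :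
    (Cfsg.groupFusionSystem (S : Subgroup (Matrix.ProjectiveSpecialLinearGroup (Fin 3) F))).IsSimple 2 := by
  have := S0249.result (F := F) 3 le_rfl
  have h1 := S0242.result (F := F) rfl 3 (by omega)
  have h2 := S0243.result (F := F) rfl 3 (by omega)
  have h3 := Perm.GL2.card_sub_one_pos (F := F)
  set q := Fintype.card F with hq
  have e : ∏ i : Fin 3, (q ^ 3 - q ^ (i : ℕ)) = (q - 1) * (q * (q + 1) * (q - 1) ^ 2 * (q ^ 2 * (q ^ 2 + q + 1))) := by
    obtain ⟨r, hr⟩ : ∃ r, q = r + 1 := ⟨q - 1, by omega⟩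
    rw [Fin.prod_univ_three, hr]
    have a : (r + 1) ^ 3 - 1 = r * ((r + 1) ^ 2 + (r + 1) + 1) := Nat.sub_eq_of_eq_add (by ring)
    have b : (r + 1) ^ 3 - (r + 1) = r * (r + 1) * (r + 1 + 1) := Nat.sub_eq_of_eq_add (by ring)
    have c : (r + 1) ^ 3 - (r + 1) ^ 2 = r * (r + 1) ^ 2 := Nat.sub_eq_of_eq_add (by ring)
    simp [a, b, c]; ring
  rw [e] at h1 h2
  refine simple_qw S (no_index_two fun e => ?_) (qw_quot emb23 emb23_injective _ (fun z hz => ?_)
    (m := q ^ 2 * (q ^ 2 + q + 1)) (by rw [Nat.eq_of_mul_eq_mul_left h3 h1, Perm.GL2.card_GL2]) (by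
      rw [Nat.two_dvd_ne_zero]; simp [Nat.mul_mod, Nat.add_mod, Nat.pow_mod, hodd])
    (fun P => (by omega : q % 4 = 3 ∨ q % 4 = 1).imp (S1217.result P).1 (S1217.result P).2) S)
  · rw [e, mul_left_comm] at h2
    have h4 := Nat.eq_of_mul_eq_mul_left h3 h2
    have := Nat.gcd_le_left (q - 1) (by omega : 0 < 3)
    have : 1 * (1 * 1) * 1 * (1 * 7) ≤ q * (q + 1) * (q - 1) ^ 2 * (q ^ 2 * (q ^ 2 + q + 1)) := by
      gcongr <;> nlinarith [Nat.sub_add_cancel (by omega : 1 ≤ q)]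
    omega
  · obtain ⟨r, h, e⟩ := Matrix.SpecialLinearGroup.mem_center_iff.1 hz
    refine Subtype.ext ?_
    rw [Matrix.SpecialLinearGroup.coe_pow, ← e, ← map_pow, show r ^ 3 = 1 by simpa using h, map_one]
    rfl

end Cfsg.Agent.S5318
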