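import Cfsg.Statements.S5319
import Cfsg.Agent.Lib.Fusion.SimpleL
import Cfsg.Agent.S0283
import Cfsg.Agent.S0278
import Cfsg.Agent.S0279
import Cfsg.Agent.S0280

set_option autoImplicit false
open Cfsg

namespace Cfsg.Agent.S5319

open Subgroup Fusion

/-- Let q be an odd prime power and F a field with q² elements. Then the 2-fusion system of PSU(3,q) (realised as the special unitary group of the standard Hermitian form over F modulo its centre) on a Sylow 2-subgroup is simple. -/
theorem result {F : Type*} [Field F] [Fintype F] (q : ℕ) (hq : Fintype.card F = q ^ 2) (hodd : q % 2 = 1) (S : Sylow 2 (Cfsg.PSU 3 F q)) :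
    (Cfsg.groupFusionSystem (S : Subgroup (Cfsg.PSU 3 F q))).IsSimple 2 := by
  have h3 := Classical.two_le_of_card_sq hq
  have := S0283.result hq 3 le_rfl (by omega)
  have h1 := S0278.result hq 3 (by omega)
  have h2 := S0280.result hq 3 (by omega)
  have e : q ^ (3 * (3 - 1) / 2) * ∏ i ∈ Finset.range 3, (if Even i then q ^ (i + 1) + 1 else q ^ (i + 1) - 1) =
      (q + 1) * (q * (q + 1) ^ 2 * (q - 1) * (q ^ 2 * (q * (q - 1) + 1))) := by
    obtain ⟨r, rfl⟩ : ∃ r, q = r + 1 := ⟨q - 1, by omega⟩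
    have c : (r + 1) ^ 2 - 1 = r * (r + 2) := Nat.sub_eq_of_eq_add (by ring)
    simp [Finset.prod_range_succ, c]; ring
  rw [e] at h1 h2
  let f : GU 2 F q →* SU 3 F q := (emb23.comp (GU 2 F q).subtype).codRestrict _ fun g => emb23_mem hq g.2
  refine simple_qw S (no_index_two fun e => ?_) (qw_quot f (fun a b e => Subtype.ext (emb23_injective
    (congrArg Subtype.val e))) _ (fun z hz => ?_)
    (m := q ^ 2 * (q * (q - 1) + 1)) (by rw [Nat.eq_of_mul_eq_mul_left q.succ_pos h1, card_GU2 hq]) (by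
      rw [Nat.two_dvd_ne_zero]; simp [Nat.mul_mod, Nat.add_mod, Nat.pow_mod, hodd, show (q - 1) % 2 = 0 by omega])
    (fun P => (by omega : q % 4 = 1 ∨ q % 4 = 3).imp (gu2_qd hq P) (gu2_wr hq P)) S)
  · rw [e, mul_left_comm] at h2
    have h4 := Nat.eq_of_mul_eq_mul_left q.succ_pos h2
    have := Nat.gcd_le_left (q + 1) (by omega : 0 < 3)
    have : 1 * 3 ^ 2 * 1 * (1 * 1) ≤ q * (q + 1) ^ 2 * (q - 1) * (q ^ 2 * (q * (q - 1) + 1)) := by
      gcongr <;> first | omega | nlinarith
    omega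
  · exact orderOf_dvd_iff_pow_eq_one.1 ((Solv.orderOf_dvd_card_of_mem hz).trans
      (S0279.result hq 3 le_rfl ▸ Nat.gcd_dvd_left _ _))

end Cfsg.Agent.S5319
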