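import Cfsg.Statements.S5327
import Cfsg.Agent.Lib.Fusion.EssGen

set_option autoImplicit false
open Cfsg

namespace Cfsg.Agent.S5327

open Cfsg.Agent.Fusion

/-- Let F be a saturated fusion system over a finite p-group S. Call a family of subgroups of S generating when every fusion system over S whose automorphism group of each member R contains Aut_F(R) contains every map of F. If two families are each closed under F-conjugacy and each generating, then their intersection is generating. -/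
theorem result {Ω : Type*} [Group Ω] {S : Subgroup Ω} [Finite S] (p : ℕ) [Fact p.Prime] (hS : IsPGroup p S) (F : Cfsg.FusionSystem S) (hF : F.IsSaturated p) (𝒬₁ 𝒬₂ : Set (Subgroup Ω)) (h₁ : ∀ R ∈ 𝒬₁, ∀ R' : Subgroup Ω, F.IsConj R R' → R' ∈ 𝒬₁) (h₂ : ∀ R ∈ 𝒬₂, ∀ R' : Subgroup Ω, F.IsConj R R' → R' ∈ 𝒬₂) (hg₁ : ∀ E : Cfsg.FusionSystem S, (∀ R ∈ 𝒬₁, F.autGroup R ≤ E.autGroup R) → F ≤ E) (hg₂ : ∀ E : Cfsg.FusionSystem S, (∀ R ∈ 𝒬₂, F.autGroup R ≤ E.autGroup R) → F ≤ E) (E : Cfsg.FusionSystem S) (hE : ∀ R ∈ 𝒬₁ ∩ 𝒬₂, F.autGroup R ≤ E.autGroup R) : F ≤ E := by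
  have key : ∀ 𝒬 : Set (Subgroup Ω), (∀ R ∈ 𝒬, ∀ R' : Subgroup Ω, F.IsConj R R' → R' ∈ 𝒬) →
      (∀ E : Cfsg.FusionSystem S, (∀ R ∈ 𝒬, F.autGroup R ≤ E.autGroup R) → F ≤ E) →
      (∀ P, F.IsEssential p P → P ∈ 𝒬) ∧ (S ∈ 𝒬 ∨ F.autGroup S ≤ Cfsg.Inn S) := fun 𝒬 h hg => by
    refine ⟨fun P hP => by_contra fun hn => ?_, or_iff_not_imp_left.2 fun hn => ?_⟩
    · obtain ⟨D, d1, d2⟩ := exists_omit hS hF hP
      refine d2 (hg D fun R hR => ?_)
      by_cases hRS : R ≤ S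
      · exact d1 R hRS fun hc => hn (h R hR P (isConj_symm hc))
      · rw [autGroup_of_not_le hRS]; exact bot_le
    · obtain ⟨D, d1, d2⟩ := exists_omit_top (F := F)
      refine le_trans (fun α hα => (mem_autGroup le_rfl).2 (le_iff_mor.1 (hg D fun R hR => ?_) _ _
        ((mem_autGroup le_rfl).1 hα))) d2
      by_cases hRS : R ≤ S
      · exact d1 R (lt_of_le_of_ne hRS fun e => hn (e ▸ hR))
      · rw [autGroup_of_not_le hRS]; exact bot_le
  obtain ⟨a1, b1⟩ := key _ h₁ hg₁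
  obtain ⟨a2, b2⟩ := key _ h₂ hg₂
  refine alperin hS hF fun P hP => ?_
  rcases hP with rfl | hP
  · rcases b1 with b1 | b1
    · rcases b2 with b2 | b2
      · exact hE _ ⟨b1, b2⟩
      · exact b2.trans (Inn_le_autGroup E le_rfl)
    · exact b1.trans (Inn_le_autGroup E le_rfl)
  · exact hE _ ⟨a1 P hP, a2 P hP⟩

end Cfsg.Agent.S5327
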