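import Cfsg.Statements.S5330
import Cfsg.Agent.Lib.Fusion.Yosh

set_option autoImplicit false
open Cfsg

namespace Cfsg.Agent.S5330

open Fusion Cfsg.FusionSystem

/-- Let F be a saturated fusion system over a finite abelian p-group S. Then S is the internal direct product of the centre of the system and the focal subgroup: Z(F) ∩ foc(F) = 1 and Z(F)·foc(F) = S. -/
theorem result {Ω : Type*} [Group Ω] {S : Subgroup Ω} [Finite S] (p : ℕ) [Fact p.Prime] (hS : IsPGroup p S) (F : Cfsg.FusionSystem S) (hF : F.IsSaturated p) (hab : ∀ x ∈ S, ∀ y ∈ S, x * y = y * x) : F.center ⊓ F.focalSubgroup = ⊥ ∧ F.center ⊔ F.focalSubgroup = S := by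
  have hc : centralizerIn S S = S := le_antisymm centralizerIn_le fun s hs =>
    mem_centralizerIn.2 ⟨hs, fun x hx => by rw [hab s hs x hx, mul_inv_cancel_right]⟩
  obtain ⟨K, -, h1, -, h2⟩ := center_complement hS hF
    (normal_of_abelian hS hF (stronglyClosed_top F) hab) centralizerIn_le
  refine ⟨?_, le_antisymm (sup_le (center_le F) foc_le) (hc.ge.trans <| h2.ge.trans
    (sup_le le_sup_left (h1.trans (sup_comm _ _).le)))⟩
  rw [inf_comm, foc_inf_center hS hF, Subgroup.commutator_eq_bot_iff_le_centralizer.2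
    fun x hx y hy => hab y hy x hx, bot_inf_eq]

end Cfsg.Agent.S5330
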