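import Cfsg.Statements.S5331
import Cfsg.Agent.Lib.Fusion.SSol3

set_option autoImplicit false
open Cfsg

namespace Cfsg.Agent.S5331

open Cfsg.Agent.Fusion Cfsg.Agent.SSol

/-- Let S be a finite abelian 2-group that is a direct product of cyclic groups of pairwise distinct orders 2^{a_1} < 2^{a_2} < ⋯ < 2^{a_n} (all a_i ≥ 1). Then every saturated fusion system over S is the inner one: its maps are exactly the conjugations by elements of S. -/
theorem result {Ω : Type*} [Group Ω] {S : Subgroup Ω} [Finite S] (n : ℕ) (a : Fin n → ℕ) (ha : StrictMono a) (ha1 : ∀ i, 1 ≤ a i) (e : ↥S ≃* Multiplicative ((i : Fin n) → ZMod (2 ^ a i))) (F : Cfsg.FusionSystem S) (hF : F.IsSaturated 2) (P : Subgroup Ω) : F.Hom P = (Cfsg.innerFusionSystem S).Hom P := by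
  let M : Fin n → Type := fun i => Multiplicative (ZMod (2 ^ a i))
  have hY : IsPGroup 2 (∀ i, M i) := IsPGroup.of_card (n := ∑ i, a i) (by
    simp [M, Nat.card_pi, Finset.prod_pow_eq_pow_sum])
  let s : ∀ i, M i →* ∀ i, M i := MonoidHom.mulSingle M
  have h1 : AE 2 (∀ i, M i) := ae_gen hY (fun i => s i (Multiplicative.ofAdd 1)) a
    (fun i => by
      rw [orderOf_injective (s i) (Pi.mulSingle_injective i), orderOf_ofAdd_eq_addOrderOf,
        ZMod.addOrderOf_one]) ha.injective fun y =>
    ⟨fun i => s i (y i), fun i => MonoidHom.map_zpowers (s i) _ ▸ Subgroup.mem_map_of_mem _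
      ⟨((y i).toAdd.val : ℕ), by simp only [zpow_natCast]; rw [← ofAdd_nsmul]; simp⟩,
      Finset.univ_prod_mulSingle y, fun n hn i => by
        rw [← map_pow, show y i ^ n = 1 from congrFun hn i, map_one]⟩
  have e' := (e.trans (MulEquiv.piMultiplicative _)).symm
  have hS := hY.of_equiv e'
  refine isInner_iff_hom.1 (MCyc.inner_of_normal hS hF (normal_of_abelian hS hF (stronglyClosed_top F)
    fun x hx y hy => congrArg Subtype.val (e.injective (a₁ := ⟨x, hx⟩ * ⟨y, hy⟩)
      (a₂ := ⟨y, hy⟩ * ⟨x, hx⟩) (by rw [map_mul, map_mul, mul_comm])))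
    (MCyc.pgroup_of_coprime fun g _ hg => ?_)) P
  simpa using ((h1.equiv e') (Subgroup.zpowers g) (by rwa [Nat.card_zpowers])).2 g
    (Subgroup.mem_zpowers g)

end Cfsg.Agent.S5331
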