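import Cfsg.Statements.S5332
import Cfsg.Agent.Lib.Fusion.Sparse

set_option autoImplicit false
open Cfsg

namespace Cfsg.Agent.S5332

open Fusion Cfsg.FusionSystem

/-- Let p be odd and F a saturated fusion system over a finite p-group S that is not the inner system of S. Then F contains a saturated constrained subsystem over S that is itself not the inner system. -/
theorem result {Ω : Type*} [Group Ω] {S : Subgroup Ω} [Finite S] (p : ℕ) [Fact p.Prime] (hS : IsPGroup p S) (F : Cfsg.FusionSystem S) (hF : F.IsSaturated p) (hp : p ≠ 2) (hne : ∃ P : Subgroup Ω, F.Hom P ≠ (Cfsg.innerFusionSystem S).Hom P) : ∃ E : Cfsg.FusionSystem S, E ≤ F ∧ E.IsConstrained p ∧ ∃ P : Subgroup Ω, E.Hom P ≠ (Cfsg.innerFusionSystem S).Hom P := by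
  induction F using sub_induction with
  | step F ih =>
  by_cases h : Sparse.{_, 0} p F
  · exact ⟨F, fun _ _ h => h, h.con (jz_odd hp) hS hF free_false fun h' =>
      hne.elim fun P hP => hP (isInner_iff_hom.1 h' P), hne⟩
  · simp only [Sparse, not_forall] at h
    obtain ⟨D, h1, h2, h3⟩ := h
    obtain ⟨E, h4, h5⟩ := ih D h1.sub h2 h1.sat (by simpa [isInner_iff_hom] using h3)
    exact ⟨E, IsSubsystemOf.trans h4 h1.sub, h5⟩

end Cfsg.Agent.S5332
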