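import Cfsg.Statements.S5333
import Cfsg.Agent.Lib.Fusion.Simple

set_option autoImplicit false
open Cfsg

namespace Cfsg.Agent.S5333

open Fusion Cfsg.FusionSystem

/-- Let F′ ≤ F be saturated fusion systems over the same finite p-group S. Suppose that for every subgroup Z ≤ S of order p that is fully centralized in F′, the maps of F and of F′ with source Z coincide and the centralizer systems C_F(Z) and C_{F′}(Z) coincide. Then F = F′. -/
theorem result {Ω : Type*} [Group Ω] {S : Subgroup Ω} [Finite S] (p : ℕ) [Fact p.Prime] (hS : IsPGroup p S) (F : Cfsg.FusionSystem S) (hF : F.IsSaturated p) (F' : Cfsg.FusionSystem S) (hF' : F'.IsSaturated p) (hle : F' ≤ F) (hZ : ∀ Z : Subgroup Ω, Z ≤ S → Nat.card Z = p → F'.IsFullyCentralized Z → F.Hom Z = F'.Hom Z ∧ ∀ (C C' : Cfsg.FusionSystem (Cfsg.FusionSystem.centralizerIn S Z)), F.IsCentralizerSystem Z C → F'.IsCentralizerSystem Z C' → ∀ P : Subgroup Ω, C.Hom P = C'.Hom P) (P : Subgroup Ω) : F.Hom P = F'.Hom P := by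
  rw [sys_le_antisymm hle (alperin hS hF fun Q hQ α hα => ?_)]
  have h := (alperin_family hS hF hQ).2.1
  have hα := (mem_autGroup h.1).1 hα
  refine (mem_autGroup h.1).2 ?_
  by_cases hb : S = ⊥
  · exact (mor_id F' h.1).congr fun x hx => by
      rw [Subgroup.mem_bot.1 (hb.le (h.1 hx)), afun_map_one]
  have h0 := centralizerIn_self_ne_bot hS hb
  have := finite_of_le (centralizerIn_le (S := S) (P := S))
  obtain ⟨z, hz⟩ := exists_prime_orderOf_dvd_card' (G := centralizerIn S S) p
    (((pgroup_of_le hS centralizerIn_le).card_eq_or_dvd).resolve_left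
      fun e => h0 (Subgroup.card_eq_one.1 e))
  have h1 : Subgroup.zpowers z.1 ≤ centralizerIn S S := Subgroup.zpowers_le.2 z.2
  have hc : Nat.card (Subgroup.zpowers z.1) = p := by
    rw [Nat.card_zpowers, Subgroup.orderOf_coe, hz]
  generalize Subgroup.zpowers z.1 = Z at h1 hc
  have h2 : Z ≤ S := h1.trans centralizerIn_le
  have h3 : S ≤ centralizerIn S Z := fun s hs => ⟨hs, fun x hx => ((h1 hx).2 s hs).symm⟩
  have := finite_of_le (centralizerIn_le (S := S) (P := Z))
  have h4 : F'.IsFullyCentralized Z := ⟨h2, fun R _ =>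
    Subgroup.card_le_of_le (centralizerIn_le.trans h3)⟩
  have h5 : Z ≤ Q := h1.trans ((centralizerIn_anti h.1).trans (IsCentric.cent_le h))
  obtain ⟨h6, h7⟩ := hZ Z h2 hc h4
  have h8 : Mor F' Z (afun α) := by
    obtain ⟨φ, hφ, e⟩ := hα.mono h5
    exact ⟨φ, h6 ▸ hφ, e⟩
  obtain ⟨g, hg, e, -, -, h9⟩ := h8.inv
  obtain ⟨ψ, hψ, e'⟩ := IsReceptive.ext (IsSaturated.receptive hS hF' h4) hg h9
  have h10 : Q ≤ Next S (img (afun α) Z) g := fun x hx => centralizerIn_le_Next (by
    rw [← afun_afun_inv α hx]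
    exact hα.mem_centralizer_img h5 (afun_mem _ hx) fun y hy =>
      (mem_centralizerIn.1 (h3 (h.1 (afun_mem _ hx)))).2 y hy)
  have h11 := hα.comp (le_iff_mor.1 hle _ _ (hψ.mono h10)) fun x hx => afun_mem α hx
  have h12 := centSys_mor_of (centSys_spec F h2) (h.1.trans h3) h11 le_rfl h5
    fun x hx => by rw [e' _ (subset_img hx), e x hx]
  have h13 := isSubsystemOf_iff.1 (centSys_sub (centSys_spec F' h2)) _ _ ((hom_eq_iff.1
    (h7 _ _ (centSys_spec F h2) (centSys_spec F' h2)) _ _).1 h12)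
  obtain ⟨k, hk, e'', -⟩ := (hψ.mono h10).inv
  exact (h13.comp hk fun x hx => subset_img (afun_mem α hx)).congr fun x hx => e'' _ (afun_mem α hx)

end Cfsg.Agent.S5333
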