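import Cfsg.Statements.S5334
import Cfsg.Agent.Lib.Fusion.Simple

set_option autoImplicit false
open Cfsg

namespace Cfsg.Agent.S5334

open Fusion Cfsg.FusionSystem

/-- Let F′ ≤ F be saturated fusion systems over the same finite p-group S, let Q and R be F-centric subgroups, φ a map of F with source Q and values in R, and ψ a map of F with source R. If two of φ, ψ and the composite ψ ∘ φ are maps of F′ then so is the third. -/
theorem result {Ω : Type*} [Group Ω] {S : Subgroup Ω} [Finite S] (p : ℕ) [Fact p.Prime] (hS : IsPGroup p S) (F : Cfsg.FusionSystem S) (hF : F.IsSaturated p) (F' : Cfsg.FusionSystem S) (hF' : F'.IsSaturated p) (hle : F' ≤ F) (Q R : Subgroup Ω) (hQ : F.IsCentric Q) (hR : F.IsCentric R) (φ : ↥Q →* Ω) (hφ : φ ∈ F.Hom Q) (hφR : ∀ x : Q, φ x ∈ R) (ψ : ↥R →* Ω) (hψ : ψ ∈ F.Hom R) : (φ ∈ F'.Hom Q → ψ ∈ F'.Hom R → ψ.comp (φ.codRestrict R hφR) ∈ F'.Hom Q) ∧ (ψ ∈ F'.Hom R →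 ψ.comp (φ.codRestrict R hφR) ∈ F'.Hom Q → φ ∈ F'.Hom Q) ∧ (φ ∈ F'.Hom Q → ψ.comp (φ.codRestrict R hφR) ∈ F'.Hom Q → ψ ∈ F'.Hom R) := by
  have e : ∀ x ∈ Q, hfun (ψ.comp (φ.codRestrict R hφR)) x = hfun ψ (hfun φ x) := fun x hx => by
    rw [hfun_of_mem _ hx, hfun_of_mem _ hx, hfun_of_mem _ (hφR _)]; rfl
  have hm : ∀ x ∈ Q, hfun φ x ∈ R := fun x hx => by rw [hfun_of_mem _ hx]; exact hφR _
  simp only [mem_Hom_iff] at hφ hψ ⊢
  refine ⟨fun h1 h2 => (h1.comp h2 hm).congr fun x hx => (e x hx).symm, fun h1 h2 => ?_,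
    fun h1 h2 => ?_⟩
  · obtain ⟨g, hg, e', -⟩ := h1.inv
    exact (h2.comp hg fun x hx => e x hx ▸ subset_img (hm x hx)).congr fun x hx => by
      rw [e x hx, e' _ (hm x hx)]
  · obtain ⟨g, hg, -, h3, e', -⟩ := h1.inv
    refine mor_of_centric hS hF hF' (isSubsystemOf_iff.2 (le_iff_mor.1 hle)) hψ
      (isCentric_of_conj hQ hφ.isConj) (img_le_iff.2 hm) ((hg.comp h2 h3).congr fun x hx => ?_)
    rw [e _ (h3 x hx), e' x hx]

end Cfsg.Agent.S5334
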