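import Cfsg.Statements.S5335
import Cfsg.Agent.Lib.Fusion.Simple

set_option autoImplicit false
open Cfsg

namespace Cfsg.Agent.S5335

open Fusion Cfsg.FusionSystem

/-- Let F′ ≤ F be saturated fusion systems over the same finite p-group S. If the maps of F and of F′ with source Q coincide for every F-centric subgroup Q that is minimal among F-centric subgroups, then F = F′. -/
theorem result {Ω : Type*} [Group Ω] {S : Subgroup Ω} [Finite S] (p : ℕ) [Fact p.Prime] (hS : IsPGroup p S) (F : Cfsg.FusionSystem S) (hF : F.IsSaturated p) (F' : Cfsg.FusionSystem S) (hF' : F'.IsSaturated p) (hle : F' ≤ F) (hmin : ∀ Q : Subgroup Ω, F.IsCentric Q → (∀ R : Subgroup Ω, R < Q → ¬ F.IsCentric R) → F.Hom Q = F'.Hom Q) (P : Subgroup Ω) : F.Hom P = F'.Hom P := by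
  have key : ∀ n (Q : Subgroup Ω), Nat.card Q = n → F.IsCentric Q → ∀ f, Mor F Q f → Mor F' Q f := by
    intro n
    induction n using Nat.strong_induction_on with
    | h n ih =>
    intro Q hn hQ f hf
    by_cases h : ∀ R : Subgroup Ω, R < Q → ¬ F.IsCentric R
    · obtain ⟨φ, hφ, e⟩ := hf
      exact ⟨φ, hmin Q hQ h ▸ hφ, e⟩
    push Not at h
    obtain ⟨R, h1, h2⟩ := h
    have := finite_of_le hQ.1
    exact mor_of_centric hS hF hF' (isSubsystemOf_iff.2 (le_iff_mor.1 hle)) hf h2 h1.le
      (ih _ (hn ▸ card_lt_of_lt h1) R rfl h2 f (hf.mono h1.le))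
  rw [sys_le_antisymm hle (alperin hS hF fun Q hQ α hα => ?_)]
  have h := (alperin_family hS hF hQ).2.1
  exact (mem_autGroup h.1).2 (key _ Q rfl h _ ((mem_autGroup h.1).1 hα))

end Cfsg.Agent.S5335
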