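import Cfsg.Statements.S5336
import Cfsg.Agent.Lib.Fusion.Simple

set_option autoImplicit false
open Cfsg

namespace Cfsg.Agent.S5336

open Fusion Cfsg.FusionSystem

/-- Let G be a finite group with Sylow p-subgroup S whose fusion system F_S(G) is simple. If G has no nontrivial normal subgroup of order prime to p and no proper subgroup H containing S induces the same fusion system on S as G does, then G is a simple group. -/
theorem result {G : Type*} [Group G] [Finite G] (p : ℕ) [Fact p.Prime] (S : Sylow p G) (hsimple : (Cfsg.groupFusionSystem (S : Subgroup G)).IsSimple p) (hcore : Cfsg.pPrimeCore p G = ⊥) (hmin : ∀ (H : Subgroup G) (hSH : (S : Subgroup G) ≤ H), H ≠ ⊤ → ∃ P : Subgroup G, (Cfsg.fusionSystemOfSubgroup H (S : Subgroup G) hSH).Hom P ≠ (Cfsg.groupFusionSystem (S : Subgroup G)).Hom P) : IsSimpleGroup G := by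
  have : Nontrivial G := by
    by_contra h
    rw [not_nontrivial_iff_subsingleton] at h
    exact hsimple.2.1 (Subsingleton.elim _ _)
  refine ⟨fun N hN => ?_⟩
  rcases simple_dichotomy (sylowIn_top S) hsimple N with h | ⟨h, h'⟩
  · refine Or.inl (eq_bot_iff.2 (hcore ▸ le_sSup ⟨hN, ?_⟩))
    have := ((sylowIn_top S).inf_normal le_top fun c _ d hd => hN.conj_mem d hd c).not_dvd_relIndex
    rw [h, Subgroup.relIndex_bot_left] at this
    exact ((Nat.Prime.coprime_iff_not_dvd Fact.out).2 this).symm
  · by_contra hc
    push Not at hc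
    obtain ⟨P, hP⟩ := hmin N h hc.2
    exact hP (h' P)

end Cfsg.Agent.S5336
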