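import Cfsg.Statements.S5339
import Cfsg.Agent.Lib.Fusion.Invariant

set_option autoImplicit false
open Cfsg

namespace Cfsg.Agent.S5339

open Fusion Cfsg.FusionSystem

/-- Let F be a saturated fusion system over a nontrivial finite p-group S such that Aut_F(S) consists of inner automorphisms only and S has no strongly closed subgroup other than 1 and S. Then F is simple. -/
theorem result {Ω : Type*} [Group Ω] {S : Subgroup Ω} [Finite S] (p : ℕ) [Fact p.Prime] (hS : IsPGroup p S) (F : Cfsg.FusionSystem S) (hF : F.IsSaturated p) (hS1 : S ≠ ⊥) (htop : F.autGroup S = Cfsg.Inn ↥S) (hsc : ∀ T : Subgroup Ω, F.StronglyClosed T → T = ⊥ ∨ T = S) : F.IsSimple p := by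
  refine ⟨hF, hS1, fun T E hE => ?_⟩
  rcases hsc T (IsNormalIn.sc hE) with h | rfl
  · exact Or.inl h
  refine Or.inr ⟨rfl, hom_eq_iff.2 fun P f => ⟨isSubsystemOf_iff.1 (IsNormalIn.sub hE) P f,
    fun hf => ?_⟩⟩
  obtain ⟨α, hα, g, hg, e⟩ := IsInvariantIn.frattini (IsNormalIn.inv hE) hf.le hf
  rw [htop] at hα
  exact (hg.comp ((mem_autGroup le_rfl).1 (Inn_le_autGroup E le_rfl hα))
    fun x hx => hg.mem hx).congr fun x hx => (e x hx).symm

end Cfsg.Agent.S5339
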