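import Cfsg.Statements.S5340
import Cfsg.Agent.Lib.Fusion.Invariant
import Cfsg.Agent.S5339

set_option autoImplicit false
open Cfsg

namespace Cfsg.Agent.S5340

open Fusion Cfsg.FusionSystem

/-- Let F be a saturated fusion system over a nontrivial finite p-group S such that S is generated by its elements of order p, any two subgroups of S of order p are F-conjugate, and Aut_F(S) consists of inner automorphisms only. Then F is simple. -/
theorem result {Ω : Type*} [Group Ω] {S : Subgroup Ω} [Finite S] (p : ℕ) [Fact p.Prime] (hS : IsPGroup p S) (F : Cfsg.FusionSystem S) (hF : F.IsSaturated p) (hS1 : S ≠ ⊥) (hgen : Subgroup.closure {x : Ω | x ∈ S ∧ orderOf x = p} = S) (htr : ∀ A B : Subgroup Ω, A ≤ S → B ≤ S → Nat.card A = p → Nat.card B = p → F.IsConj A B) (htop : F.autGroup S = Cfsg.Inn ↥S) : F.IsSimple p := by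
  refine S5339.result p hS F hF hS1 htop fun T hT => ?_
  by_cases h : T = ⊥
  · exact Or.inl h
  refine Or.inr (le_antisymm hT.1 ?_)
  have := finite_of_le hT.1
  obtain ⟨n, hn, e⟩ := (pgroup_of_le hS hT.1).nontrivial_iff_card.1
    ((Subgroup.nontrivial_iff_ne_bot T).2 h)
  obtain ⟨a, ha⟩ := exists_prime_orderOf_dvd_card' (G := T) p (e ▸ dvd_pow_self p hn.ne')
  rw [← hgen, Subgroup.closure_le]
  rintro x ⟨hx, hx'⟩
  obtain ⟨f, hf, ef⟩ := isConj_iff.1 (htr (Subgroup.zpowers (a : Ω)) (Subgroup.zpowers x)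
    (Subgroup.zpowers_le.2 (hT.1 a.2)) (Subgroup.zpowers_le.2 hx)
    (by rw [Nat.card_zpowers, Subgroup.orderOf_coe, ha]) (by rw [Nat.card_zpowers, hx']))
  obtain ⟨y, hy, rfl⟩ := hf.mem_img.1 (ef ▸ Subgroup.mem_zpowers x)
  exact StronglyClosed.mem hT hf hy (Subgroup.zpowers_le.2 a.2 hy)

end Cfsg.Agent.S5340
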