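import Cfsg.Statements.S5343
import Cfsg.Agent.Lib.Fusion.Simple

set_option autoImplicit false
universe u
open Cfsg

namespace Cfsg.Agent.S5343

open Fusion Cfsg.FusionSystem

/-- Let F be a simple saturated fusion system over a finite p-group S that is realized by some finite group on a Sylow p-subgroup. Then F is realized by a finite simple group on a Sylow p-subgroup. -/
theorem result {Ω : Type u} [Group Ω] {S : Subgroup Ω} [Finite S] (p : ℕ) [Fact p.Prime] (hS : IsPGroup p S) (F : Cfsg.FusionSystem S) (hsimple : F.IsSimple p) (hreal : F.IsRealizable p) : ∃ (G : Type u) (_ : Group G) (_ : Finite G) (_ : IsSimpleGroup G) (ι : ↥S →* G), F.IsRealizedBy ι ∧ ∃ T : Sylow p G, (T : Subgroup G) = ι.range := by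
  obtain ⟨G, _, _, ι, h1, h2⟩ := hreal
  generalize hn : Nat.card G = n
  induction n using Nat.strong_induction_on generalizing G with
  | h n ih =>
  by_cases hG : IsSimpleGroup G
  · exact ⟨G, _, ‹_›, hG, ι, h1, h2⟩
  obtain ⟨T, hT⟩ := h2
  have hT' := hT ▸ sylowIn_top T
  have h3 := (isRealizedBy_iff_iso.1 h1).simple hS hsimple
  have : Nontrivial G := by
    by_contra h
    rw [not_nontrivial_iff_subsingleton] at h
    exact h3.2.1 (Subsingleton.elim _ _)
  have : ∃ N : Subgroup G, N.Normal ∧ N ≠ ⊥ ∧ N ≠ ⊤ := by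
    by_contra h
    push Not at h
    exact hG ⟨fun N hN => or_iff_not_imp_left.2 (h N hN)⟩
  obtain ⟨N, hN, hb, ht⟩ := this
  rcases simple_dichotomy hT' h3 N with h | ⟨h, h'⟩
  · have h4 := IsRealizedBy.surj_quot h1 hT' (QuotientGroup.mk' N) (QuotientGroup.mk'_surjective N)
    have h5 := hT'.map (QuotientGroup.mk' N)
    rw [Subgroup.map_top_of_surjective _ (QuotientGroup.mk'_surjective N)] at h5
    rw [← MonoidHom.range_comp] at h4 h5
    refine ih _ ?_ (G ⧸ N) _ inferInstance _ (isRealizedBy_iff_iso.2 ⟨h4, (injective_iff_map_eq_one _).2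
      fun x hx => h1.1 ?_⟩) h5.exists_sylow_top rfl
    · rw [← hn, N.card_eq_card_quotient_mul_card_subgroup]
      exact lt_mul_of_one_lt_right Nat.card_pos ((Subgroup.one_lt_card_iff_ne_bot N).2 hb)
    · rw [map_one]
      exact Subgroup.mem_bot.1 (h.le ⟨⟨x, rfl⟩, (QuotientGroup.eq_one_iff _).1 hx⟩)
  · have hm : ∀ t, ι t ∈ N := fun t => h ⟨t, rfl⟩
    have h4 : (ι.codRestrict N hm).range = ι.range.subgroupOf N := by
      ext x
      exact exists_congr fun y => Subtype.ext_iff
    refine ih _ ?_ N _ inferInstance (ι.codRestrict N hm) (isRealizedBy_iff.2 ⟨fun x y e =>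
      h1.1 (congrArg Subtype.val e), fun P f hP hf => ?_⟩) ?_ rfl
    · rw [← hn, ← Subgroup.card_top (G := G)]
      exact card_lt_of_lt (lt_top_iff_ne_top.2 ht)
    · rw [IsRealizedBy.mor_iff h1 hP hf]
      refine ⟨fun ⟨g, hg⟩ => ?_, fun ⟨g, hg⟩ => ⟨g, fun x hx => ?_⟩⟩
      · have hP' : imageAlong ι P ≤ ι.range := imageAlong_le_range
        obtain ⟨-, -, k, hk, e⟩ := mor_subgroup_iff.1 ((hom_eq_iff.1 h' (imageAlong ι P)
          fun x => g * x * g⁻¹).2 (mor_group_iff.2 ⟨hP', fun y hy => by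
            obtain ⟨x, hx, rfl⟩ := (mem_imageAlong' hP).1 hy
            exact hg x hx ▸ ap_mem_range ι (hf x hx), g, fun _ _ => rfl⟩))
        refine ⟨⟨k, hk⟩, fun x hx => Subtype.ext ?_⟩
        simp only [Subgroup.coe_mul, Subgroup.coe_inv, ap_codRestrict ι N hm (hf x hx),
          ap_codRestrict ι N hm (hP hx)]
        rw [hg x hx, e _ (ap_mem_imageAlong hP hx)]
      · simpa only [Subgroup.coe_mul, Subgroup.coe_inv, ap_codRestrict ι N hm (hf x hx),
          ap_codRestrict ι N hm (hP hx)] using congrArg Subtype.val (hg x hx)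
    · rw [h4]
      exact (hT'.of_le h le_top).exists_sylow

end Cfsg.Agent.S5343
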