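import Cfsg.Statements.S5344
import Cfsg.Agent.Lib.PermCert.Cox
import Cfsg.Agent.Lib.Fischer.Fac

set_option autoImplicit false
open Cfsg

namespace Cfsg.Agent.S5344

/-- In a set of 3-transpositions, let a, b, c be members with a and c different and commuting, while neither a nor c commutes with b (a 3-string). Then there is an injective homomorphism from the symmetric group of degree 4 into the ambient group sending the transpositions (0 1), (1 2), (2 3) to a, b, c; so a, b, c generate a copy of the symmetric group of degree 4 in which they are transpositions. -/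
theorem result {G : Type*} [Group G] {D : Set G} (hD : Cfsg.IsThreeTranspositionSet D) {a b c : G} (ha : a ∈ D) (hb : b ∈ D) (hc : c ∈ D) (hac : a ≠ c) (hac' : Commute a c) (hab : ¬ Commute a b) (hbc : ¬ Commute b c) : ∃ φ : Equiv.Perm (Fin 4) →* G, Function.Injective φ ∧ φ (Equiv.swap 0 1) = a ∧ φ (Equiv.swap 1 2) = b ∧ φ (Equiv.swap 2 3) = c := by
  obtain ⟨φ, hφ⟩ := PC.CoxA.hom (s := fun i => if i = 0 then a else if i = 1 then b else c) (m := 3)
    ⟨fun i _ => by split_ifs; exacts [Fi.ts_sq hD ha, Fi.ts_sq hD hb, Fi.ts_sq hD hc],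
      fun i hi => by
        have : i < 2 := by omega
        interval_cases i
        exacts [Fi.ts_braid hD ha hb hab, Fi.ts_braid hD hb hc hbc],
      fun i j h1 h2 => by
        obtain rfl : i = 0 := by omega
        obtain rfl : j = 2 := by omega
        exact hac'⟩
  have h0 : φ (PC.sw 3 0) = a := hφ 0 (by omega)
  have h1 : φ (PC.sw 3 1) = b := hφ 1 (by omega)
  have h2 : φ (PC.sw 3 2) = c := hφ 2 (by omega)
  exact ⟨φ, PC.hom_inj (m := 1) φ (by rw [h0, h1]; rintro rfl; exact hab (Commute.refl _)) fun _ => by rwa [h0, h2],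
    h0, h1, h2⟩

end Cfsg.Agent.S5344
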