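import Cfsg.Statements.S5345
import Cfsg.Agent.Lib.Tr3.Basic

set_option autoImplicit false
open Cfsg

namespace Cfsg.Agent.S5345

set_option linter.unusedSectionVars false
set_option linter.unusedVariables false
set_option linter.style.haveILetI false
set_option linter.unusedSimpArgs false

open Cfsg.Agent.Tr3 Subgroup

/-- Let D be a conjugation-invariant generating set of 3-transpositions of a finite group G and T a Sylow 2-subgroup of G. Then the members of D lying in T generate an abelian subgroup, and their number is the width of D (the largest number of pairwise commuting members of D). -/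
theorem result {G : Type*} [Group G] [Finite G] {D : Set G} (hD : Cfsg.IsThreeTranspositionGroup D) (T : Sylow 2 G) : IsMulCommutative (Subgroup.closure {d : G | d ∈ D ∧ d ∈ T}) ∧ {d : G | d ∈ D ∧ d ∈ T}.ncard = Cfsg.commutingWidth D := by
  have t := tt_grp hD
  have hc : ∀ a ∈ D, a ∈ T → ∀ b ∈ D, b ∈ T → Commute a b := fun a ha ha' b hb hb' =>
    commute_of_mem t (p := 2) (by norm_num) T.isPGroup' ha hb (pow_mem (mul_mem ha' hb') 2)
  refine ⟨isMulCommutative_closure fun a ha b hb => hc a ha.1 ha.2 b hb.1 hb.2, (IsGreatest.csSup_eq ⟨?_, ?_⟩).symm⟩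
  · exact ⟨_, fun a ha => ha.1, Set.toFinite _, fun a ha b hb => hc a ha.1 ha.2 b hb.1 hb.2, rfl⟩
  · rintro _ ⟨E, hE, -, hE', rfl⟩
    have hp : IsPGroup 2 (closure E) := by
      haveI := isMulCommutative_closure (G := G) (k := E) fun a ha b hb => hE' a ha b hb
      refine Comp.isPGroup_of_forall fun x hx => ⟨1, ?_⟩
      induction hx using closure_induction with
      | mem a ha => rw [pow_one, pow_two]; exact t.sq a (hE ha)
      | one => simp
      | mul a b ha hb h1 h2 =>
        have : Commute a b := congrArg Subtype.val (this.is_comm.comm ⟨a, ha⟩ ⟨b, hb⟩)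
        rw [this.mul_pow, h1, h2, one_mul]
      | inv a _ h1 => rw [inv_pow, h1, inv_one]
    obtain ⟨g, hg⟩ := Transfer.exists_cj_le_sylow T hp
    refine Set.ncard_le_ncard_of_injOn (fun x => g * x * g⁻¹) (fun a ha => ⟨t.conj g a (hE ha),
      hg (Transfer.conj_mem_cj (subset_closure ha))⟩) (fun a _ b _ h => conj_inj'.1 h) (Set.toFinite _)

end Cfsg.Agent.S5345
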