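import Cfsg.Statements.S5346
import Cfsg.Agent.Lib.Tr3.Basic

set_option autoImplicit false
open Cfsg

namespace Cfsg.Agent.S5346

set_option linter.unusedSectionVars false
set_option linter.unusedVariables false
set_option linter.style.haveILetI false
set_option linter.unusedSimpArgs false

open Cfsg.Agent.Tr3 Subgroup

/-- Let D be a conjugation-invariant generating set of 3-transpositions of a finite group G and d a member of D. Then D has width 1 (no two different members of D commute) if and only if G is the product of the subgroup generated by d with the largest normal 3-subgroup of G. -/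
theorem result {G : Type*} [Group G] [Finite G] {D : Set G} (hD : Cfsg.IsThreeTranspositionGroup D) {d : G} (hd : d ∈ D) : Cfsg.commutingWidth D = 1 ↔ Subgroup.zpowers d ⊔ Cfsg.pCore 3 G = ⊤ := by
  have t := tt_grp hD
  constructor
  · intro hw
    have h1 : ∀ a ∈ D, ∀ b ∈ D, Commute a b → a = b := by
      intro a ha b hb hc
      by_contra hne
      have : ({a, b} : Set G).ncard ≤ Cfsg.commutingWidth D := by
        refine le_csSup ⟨Nat.card G, ?_⟩ ⟨{a, b}, ?_, Set.toFinite _, ?_, rfl⟩
        · rintro _ ⟨E, -, -, -, rfl⟩
          exact Set.ncard_le_card E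
        · rintro x (rfl | rfl) <;> assumption
        · rintro x (rfl | rfl) y (rfl | rfl)
          exacts [Commute.refl _, hc, hc.symm, Commute.refl _]
      rw [Set.ncard_pair hne, hw] at this
      omega
    rw [eq_top_iff, ← hD.2.2, closure_le]
    intro e he
    have : d * e ∈ Cfsg.pCore 3 G := (RW_iff t hd he).1 (RW.of hd he fun x hx =>
      ⟨fun h => absurd (h1 _ hd _ hx h.2).symm h.1, fun h => absurd (h1 _ he _ hx h.2).symm h.1⟩)
    have := mul_mem (mem_sup_left (mem_zpowers d) : d ∈ zpowers d ⊔ Cfsg.pCore 3 G) (mem_sup_right this)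
    rwa [t.cancel hd] at this
  · intro h
    have key : ∀ a ∈ D, d * a ∈ Cfsg.pCore 3 G := by
      intro a ha
      obtain ⟨x, hx, n, hn, e⟩ := (Comp.mem_sup_of_le_normalizer (Comp.le_normalizer_normal _ _)).1 (h ▸ mem_top a)
      classical
      rw [mem_zpowers_iff_mem_range_orderOf, ord2 t hd] at hx
      simp only [Finset.mem_image, Finset.mem_range] at hx
      obtain ⟨k, hk, rfl⟩ := hx
      interval_cases k
      · rw [pow_zero, one_mul] at e
        exact absurd (eq_one_of_pgroup (Comp.isPGroup_pCore 3) (e ▸ hn) (n := 2) (by rw [pow_two, t.sq a ha])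
          (by norm_num)) (t.ne a ha)
      · rwa [← e, pow_one, t.cancel hd]
    refine IsGreatest.csSup_eq ⟨⟨{d}, by simpa using hd, Set.toFinite _, by simp, by simp⟩, ?_⟩
    rintro _ ⟨E, hE, -, hE', rfl⟩
    refine (Set.ncard_le_one (Set.toFinite _)).2 fun a ha b hb => ?_
    have E := eqv_RW t
    exact (E.trans (E.symm ((RW_iff t hd (hE ha)).2 (key a (hE ha)))) ((RW_iff t hd (hE hb)).2 (key b (hE hb)))).eq
      (hE' a ha b hb)

end Cfsg.Agent.S5346
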