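import Cfsg.Statements.S5348
import Cfsg.Agent.Lib.Tr3.Basic

set_option autoImplicit false
open Cfsg

namespace Cfsg.Agent.S5348

set_option linter.unusedSectionVars false
set_option linter.unusedVariables false
set_option linter.style.haveILetI false
set_option linter.unusedSimpArgs false

open Cfsg.Agent.Tr3

/-- Let D be a conjugation-invariant generating set of 3-transpositions of a finite group G and d a member of D. Let V be the set of members of D commuting with exactly the same members of D as d, and W the set of members w of D such that the members of D other than w commuting with w are precisely the members of D other than d commuting with d. Then V = {d} or W = {d}. -/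
theorem result {G : Type*} [Group G] [Finite G] {D : Set G} (hD : Cfsg.IsThreeTranspositionGroup D) {d : G} (hd : d ∈ D) : {v : G | v ∈ D ∧ ∀ e ∈ D, Commute v e ↔ Commute d e} = {d} ∨ {w : G | w ∈ D ∧ {y : G | y ∈ D ∧ y ≠ d ∧ Commute d y} = {y : G | y ∈ D ∧ y ≠ w ∧ Commute w y}} = {d} := by
  have t := tt_grp hD
  rcases V_or_W t (d := d) with h | h
  · exact Or.inl (Set.ext fun v => ⟨fun hv => h v ⟨hd, hv.1, hv.2⟩, fun hv => by rw [hv]; exact ⟨hd, fun _ _ => Iff.rfl⟩⟩)
  · exact Or.inr (Set.ext fun v => ⟨fun hv => h v ⟨hd, hv.1, hv.2⟩, fun hv => by rw [hv]; exact ⟨hd, rfl⟩⟩)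

end Cfsg.Agent.S5348
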