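import Cfsg.Statements.S5351
import Cfsg.Agent.Lib.Tr3.Struct

set_option autoImplicit false
open Cfsg

namespace Cfsg.Agent.S5351

set_option linter.unusedSectionVars false
set_option linter.unusedVariables false
set_option linter.style.haveILetI false
set_option linter.unusedSimpArgs false

open Cfsg.Agent.Tr3 Cfsg.Agent.Comp Subgroup

/-- Let D be a conjugacy class of 3-transpositions generating the finite group G, with at least two members. Then for every prime p > 3 the largest normal p-subgroup of G is central, and exactly one of the following holds: the largest normal 2-subgroup of G is not central; the largest normal 3-subgroup of G is not central; the layer of G (the product of its components) is non-trivial. -/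
theorem result {G : Type*} [Group G] [Finite G] {D : Set G} (hD : Cfsg.IsThreeTranspositionClass D) (hD2 : ∃ a ∈ D, ∃ b ∈ D, a ≠ b) : (∀ p : ℕ, p.Prime → 3 < p → Cfsg.pCore p G ≤ Subgroup.center G) ∧ ((¬ Cfsg.pCore 2 G ≤ Subgroup.center G ∧ Cfsg.pCore 3 G ≤ Subgroup.center G ∧ Cfsg.layer G = ⊥) ∨ (Cfsg.pCore 2 G ≤ Subgroup.center G ∧ ¬ Cfsg.pCore 3 G ≤ Subgroup.center G ∧ Cfsg.layer G = ⊥) ∨ (Cfsg.pCore 2 G ≤ Subgroup.center G ∧ Cfsg.pCore 3 G ≤ Subgroup.center G ∧ Cfsg.layer G ≠ ⊥)) := by
  refine ⟨fun p hp h3 => (le_center_iff hD.2.2).2 fun g hg d hd =>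
    (cent_of_big (tt_cls hD) hp h3 (isPGroup_pCore p) hd (le_normalizer_normal _ ⊤ (mem_top d)) hg).symm, ?_⟩
  rw [← Lay_top]
  obtain ⟨d, hd, -⟩ := hD.2.1
  by_cases h2 : Cfsg.pCore 2 G ≤ center G <;> by_cases h3 : Cfsg.pCore 3 G ≤ center G
  · exact Or.inr (Or.inr ⟨h2, h3, lay_ne_bot hD hD2 h2 h3⟩)
  · exact Or.inr (Or.inl ⟨h2, h3, lay_eq_bot_three hD h3⟩)
  · exact Or.inl ⟨h2, h3, lay_eq_bot_two hD h2⟩
  · exact ((V_or_W (tt_cls hD)).elim (fun h => h2 ((two_central_iff hD hd).2 h))
      fun h => h3 ((three_central_iff hD hd).2 h)).elim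

end Cfsg.Agent.S5351
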