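import Cfsg.Statements.S5354
import Cfsg.Agent.Lib.Tr3.Struct

set_option autoImplicit false
open Cfsg

namespace Cfsg.Agent.S5354

set_option linter.unusedSectionVars false
set_option linter.unusedVariables false
set_option linter.style.haveILetI false
set_option linter.unusedSimpArgs false

open Cfsg.Agent.Tr3 Cfsg.Agent.Comp Subgroup

/-- Let D be a conjugation-invariant generating set of 3-transpositions of the finite group G on which G acts primitively by conjugation, and suppose two different members of D commute (width at least 2). Then G has a quasisimple normal subgroup L of index at most 2 with the generalized Fitting subgroup of G equal to L times the centre, the commuting graph of D is connected, and for d in D the subgroup generated by the members of D commuting with d is a maximal D-subgroup: it is proper, and every subgroup generated by members of D that contains it is either it or G. -/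
theorem result {G : Type*} [Group G] [Finite G] {D : Set G} (hD : Cfsg.IsThreeTranspositionGroup D) (hprim : Cfsg.IsPrimitiveUnderConj D) (hw : ∃ a ∈ D, ∃ b ∈ D, a ≠ b ∧ Commute a b) : (∃ L : Subgroup G, L.Normal ∧ Cfsg.IsQuasisimple L ∧ L.index ≤ 2 ∧ Cfsg.generalizedFittingSubgroup G = L ⊔ Subgroup.center G) ∧ (Cfsg.commutingGraph D).Connected ∧ ∀ d ∈ D, Subgroup.closure {y : G | y ∈ D ∧ Commute d y} ≠ ⊤ ∧ ∀ H : Subgroup G, Cfsg.IsDSubgroup D H → Subgroup.closure {y : G | y ∈ D ∧ Commute d y} ≤ H → H = Subgroup.closure {y : G | y ∈ D ∧ Commute d y} ∨ H = ⊤ := by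
  have h := cls_of hD (by obtain ⟨a, ha, -⟩ := hw; exact ⟨a, ha⟩) hprim.1
  have hc := prim_conn h hprim hw
  obtain ⟨L, hN, hL, e⟩ := exists_L h hprim.2.1 (prim_two h hprim) (prim_three h hprim hw)
  refine ⟨⟨L, hN, hL.isQuasisimple, index_of_conn h hL hc, e⟩, hc, fun d hd => ⟨fun e => ?_,
    fun H hH h1 => max_dsub h hprim hc hd hH h1⟩⟩
  obtain ⟨c, hc, hcd⟩ := exists_nc h hprim.2.1 hd
  have : closure {y : G | y ∈ D ∧ Commute d y} ≤ centralizer {d} := (closure_le _).2 fun x hx =>
    Transfer.mem_centralizer_singleton'.2 hx.2.symm
  exact hcd (Transfer.mem_centralizer_singleton'.1 (this (e ▸ mem_top c)))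

end Cfsg.Agent.S5354
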