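import Cfsg.Statements.S5355
import Cfsg.Agent.Lib.Tr3.Small

set_option autoImplicit false
open Cfsg

namespace Cfsg.Agent.S5355

set_option linter.unusedSectionVars false
set_option linter.unusedVariables false
set_option linter.style.haveILetI false
set_option linter.unusedSimpArgs false

open Cfsg.Agent.Tr3 Subgroup

/-- Let D be a conjugacy class of 3-transpositions generating the finite group G, with at least two members, and d a member of D. Suppose that every member of D commuting with d commutes with exactly the same members of D as d does, and that exactly one member of D other than d commutes with d. Then G is isomorphic to the symmetric group of degree 4. -/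
theorem result {G : Type*} [Group G] [Finite G] {D : Set G} (hD : Cfsg.IsThreeTranspositionClass D) (hD2 : ∃ a ∈ D, ∃ b ∈ D, a ≠ b) {d : G} (hd : d ∈ D) (hV : {y : G | y ∈ D ∧ Commute d y} = {v : G | v ∈ D ∧ ∀ e ∈ D, Commute v e ↔ Commute d e}) (hm : {y : G | y ∈ D ∧ Commute d y}.ncard = 2) : Nonempty (G ≃* Equiv.Perm (Fin 4)) := by
  have t := tt_cls hD
  obtain ⟨y, hy, hyd⟩ := Set.exists_ne_of_one_lt_ncard (by omega : 1 < {y : G | y ∈ D ∧ Commute d y}.ncard) d
  obtain ⟨c, hc, hcd⟩ := exists_nc hD hD2 hd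
  have key : ∀ u ∈ D, u ≠ d → Commute d u → u = y := fun u hu h1 h2 => by
    have := Set.eq_of_subset_of_ncard_le (s := {d, y}) (t := {y : G | y ∈ D ∧ Commute d y}) (by
      rintro _ (rfl | rfl)
      exacts [⟨hd, Commute.refl _⟩, hy]) (by rw [hm, Set.ncard_pair hyd.symm])
    exact (this.symm.subset ⟨hu, h2⟩).resolve_left h1
  obtain ⟨e⟩ := sym4 t hd hy.1 hc hy.2 hyd.symm hcd (fun e => hcd (((hV ▸ hy).2 c hc).1 e.symm).symm)
    fun e he u hu v hv h1 h2 h3 h4 => by
      obtain ⟨g, rfl⟩ := cls_conj hD hd he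
      have e1 : ∀ z, z ≠ g * d * g⁻¹ → g⁻¹ * z * g⁻¹⁻¹ ≠ d := fun z h e => h (by rw [← e]; group)
      exact conj_inj'.1 ((key _ (t.conj g⁻¹ u hu) (e1 u h1) (commute_conj_left.1 h3)).trans
        (key _ (t.conj g⁻¹ v hv) (e1 v h2) (commute_conj_left.1 h4)).symm)
  rw [hD.2.2] at e
  exact ⟨topEquiv.symm.trans e⟩

end Cfsg.Agent.S5355
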