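import Cfsg.Statements.S5358
import Cfsg.Agent.Lib.Tr3.Clas

set_option autoImplicit false
open scoped MatrixGroups
open Cfsg

namespace Cfsg.Agent.S5358

set_option linter.unusedSectionVars false
set_option linter.unusedVariables false
set_option linter.style.haveILetI false
set_option linter.unusedSimpArgs false

open Cfsg.Agent.Tr3 Cfsg.Agent.Classical

/-- Let Q be a non-degenerate quadratic form on the n-dimensional coordinate space over the field with three elements and u, v vectors of the same non-zero norm Q(u) = Q(v) spanning different lines (v ≠ u and v ≠ −u). Then the reflection matrices of u and v commute if and only if u and v are orthogonal for the polar form of Q. -/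
theorem result (n : ℕ) (Q : QuadraticForm (ZMod 3) (Fin n → ZMod 3)) (hQ : (QuadraticMap.polarBilin Q).Nondegenerate) (u v : Fin n → ZMod 3) (hu : Q u ≠ 0) (huv : Q u = Q v) (h1 : v ≠ u) (h2 : v ≠ -u) : Commute (Cfsg.reflectionMatrix (⇑Q) u) (Cfsg.reflectionMatrix (⇑Q) v) ↔ QuadraticMap.polar (⇑Q) u v = 0 := by
  let Φ := Form.ofQuad Q
  have hΦ : Φ.Nondeg := Form.ofQuad_nondeg hQ
  have hv : Q v ≠ 0 := huv ▸ hu
  have k : ∀ w x, (Cfsg.reflectionMatrix (⇑Q) w).mulVec x = x - ((Q w)⁻¹ * Φ.B x w) • w :=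
    fun w x => reflectionMatrix_mulVec Φ w x
  have hs : Φ.B v u = Φ.B u v := Φ.orth_symm _ _
  show _ ↔ Φ.B u v = 0
  constructor
  · intro h
    by_contra hb
    have h3 := congrArg (fun M => M.mulVec u) h.eq
    simp only [← Matrix.mulVec_mulVec, k, map_sub, LinearMap.sub_apply, Φ.B_smul_left, hs,
      Φ.orth_B_self, ← huv] at h3
    have hN : Φ.N u = Q u := rfl
    rw [hN] at h3
    have h4 : ((Q u)⁻¹ * Φ.B u v) • (((Q u)⁻¹ * Φ.B u v) • u + v) = 0 := by
      have e2 : (Q u)⁻¹ * (2 * Q u) = 2 := by field_simp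
      have e3 : (2 : ZMod 3) = -1 := by decide
      have e4 : (Q u)⁻¹ * (2 * Q u - (Q u)⁻¹ * Φ.B u v * Φ.B u v) =
        2 - (Q u)⁻¹ * Φ.B u v * ((Q u)⁻¹ * Φ.B u v) := by field_simp
      have e5 : (Q u)⁻¹ * (Φ.B u v - 2 * Φ.B u v) = -((Q u)⁻¹ * Φ.B u v) := by ring
      rw [e2, e4, e5, e3] at h3
      have e6 : ∀ x : Fin n → ZMod 3, x + x + x = 0 := fun x => by
        ext i; simp only [Pi.add_apply, Pi.zero_apply]; generalize x i = a; revert a; decide
      have e7 := e6 (((Q u)⁻¹ * Φ.B u v) • v)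
      linear_combination (norm := module) h3 + e7
    have hb' : (Q u)⁻¹ * Φ.B u v ≠ 0 := mul_ne_zero (inv_ne_zero hu) hb
    have h5 := eq_neg_of_add_eq_zero_right ((smul_eq_zero.1 h4).resolve_left hb')
    have h6 : ∀ a : ZMod 3, a ≠ 0 → a = 1 ∨ a = -1 := by decide
    rcases h6 _ hb' with e | e <;> rw [e] at h5
    · exact h2 (by simpa using h5)
    · exact h1 (by simpa using h5)
  · intro h
    apply matrix_ext_mulVec
    intro x
    simp only [← Matrix.mulVec_mulVec, k, map_sub, LinearMap.sub_apply, Φ.B_smul_left, hs, h]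
    simp only [mul_zero, sub_zero]
    abel

end Cfsg.Agent.S5358
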