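import Cfsg.Statements.S5359
import Cfsg.Agent.Lib.Tr3.Clas3

set_option autoImplicit false
open scoped MatrixGroups
open Cfsg

namespace Cfsg.Agent.S5359

set_option linter.unusedSectionVars false
set_option linter.unusedVariables false
set_option linter.style.haveILetI false
set_option linter.unusedSimpArgs false

open Cfsg.Agent.Tr3 Cfsg.Agent.Classical

/-- Let Q be a non-degenerate quadratic form on the n-dimensional coordinate space over the field with three elements, n odd and at least 5, and c a non-zero scalar. Then the subgroup of the isometry group of Q generated by the reflections in vectors of norm c has index 2 in the isometry group. -/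
theorem result (n : ℕ) (hn : 5 ≤ n) (hodd : Odd n) (Q : QuadraticForm (ZMod 3) (Fin n → ZMod 3)) (hQ : (QuadraticMap.polarBilin Q).Nondegenerate) (c : ZMod 3) (hc : c ≠ 0) : (Cfsg.reflectionSubgroup (⇑Q) c).index = 2 := by
  have h := index_Rc (Form.ofQuad_nondeg hQ) (by simpa using hn) hc
  have hi : Function.Injective ((Form.ofQuad Q).Isom.subtype.comp (orthEquiv (Form.ofQuad Q)).toMonoidHom) :=
    (Form.ofQuad Q).Isom.subtype_injective.comp (orthEquiv (Form.ofQuad Q)).injective
  rw [← index_comap_equiv (orthEquiv (Form.ofQuad Q)), ← Fi.map_reflSub _ hc, Subgroup.subgroupOf,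
    Subgroup.comap_comap, Subgroup.comap_map_eq_self_of_injective hi] at h
  exact h

end Cfsg.Agent.S5359
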