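import Cfsg.Statements.S5361
import Cfsg.Agent.Lib.Tr3.Struct

set_option autoImplicit false
open Cfsg

namespace Cfsg.Agent.S5361

set_option linter.unusedSectionVars false
set_option linter.unusedVariables false
set_option linter.style.haveILetI false
set_option linter.unusedSimpArgs false

open Cfsg.Agent.Tr3 Cfsg.Agent.Comp Subgroup
open scoped commutatorElement

/-- Let D be a conjugacy class of 3-transpositions generating the finite group G, and suppose the centre of G is trivial and some two different members of D commute. Then the following are equivalent: (1) the commutator subgroup of G is simple (possibly of prime order); (2) G acts primitively on D by conjugation; (3) the largest normal 2-subgroup and the largest normal 3-subgroup of G are trivial and the commuting graph of D is connected. -/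
theorem result {G : Type*} [Group G] [Finite G] {D : Set G} (hD : Cfsg.IsThreeTranspositionClass D) (hZ : Subgroup.center G = ⊥) (hw : ∃ a ∈ D, ∃ b ∈ D, a ≠ b ∧ Commute a b) : (IsSimpleGroup (commutator G) ↔ Cfsg.IsPrimitiveUnderConj D) ∧ (Cfsg.IsPrimitiveUnderConj D ↔ (Cfsg.pCore 2 G = ⊥ ∧ Cfsg.pCore 3 G = ⊥ ∧ (Cfsg.commutingGraph D).Connected)) := by
  have t := tt_cls hD
  have hD2 : ∃ a ∈ D, ∃ b ∈ D, a ≠ b := by obtain ⟨a, ha, b, hb, h, -⟩ := hw; exact ⟨a, ha, b, hb, h⟩
  have key : ∀ L : Subgroup G, L.Normal → QS L → Cfsg.generalizedFittingSubgroup G = L ⊔ center G →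
      Cfsg.pCore 2 G ≤ center G → Cfsg.pCore 3 G ≤ center G → centralizer (L : Set G) ≤ center G := by
    intro L _ hL hF h2 h3
    refine (le_Fit_of_le_centralizer_Fstar le_top ?_).trans (fit_le_center hD h2 h3)
    rw [Fstar_top, hF, Comp.centralizer_sup]
    exact le_inf le_rfl fun x _ => mem_centralizer_iff.2 fun y hy => (mem_center_iff.1 hy x).symm
  refine ⟨⟨fun hs => ?_, fun hp => ?_⟩, fun hp => ⟨eq_bot_iff.2 (hZ ▸ prim_two hD hp), eq_bot_iff.2 (hZ ▸ prim_three hD hp hw),
    prim_conn hD hp hw⟩, fun ⟨h2, h3, hc⟩ => ?_⟩
  · obtain ⟨d, hd, -⟩ := hD.2.1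
    have hm : ∀ a ∈ D, ∀ e ∈ D, a⁻¹ * e ∈ commutator G := fun a ha e he => by
      obtain ⟨g, rfl⟩ := cls_conj hD ha he
      have := commutator_mem_commutator (mem_top a⁻¹) (mem_top g)
      rw [commutatorElement_def, inv_inv] at this
      simpa only [mul_assoc, _root_.commutator_def] using this
    have hi := index_le_two_of t hD.2.2 hd (hm d hd)
    have hN : ∀ N, N ≤ commutator G → commutator G ≤ normalizer (N : Set G) → N = commutator G ∨ N = ⊥ := by
      intro N h1 h2
      rcases hs.eq_bot_or_eq_top_of_normal (N.subgroupOf (commutator G))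
        ((normal_subgroupOf_iff_le_normalizer h1).2 h2) with e | e
      · exact Or.inr ((subgroupOf_eq_bot.1 e).eq_bot_of_le h1)
      · exact Or.inl (le_antisymm h1 (subgroupOf_eq_top.1 e))
    have hcen : ∀ N : Subgroup G, N.Normal → N ⊓ commutator G = ⊥ → N = ⊥ := fun N _ h => by
      rw [eq_bot_iff, ← hZ, ← centralizer_univ, ← coe_top, ← commutator_eq_bot_iff_le_centralizer, eq_bot_iff, ← h]
      exact le_inf (commutator_le_left _ _) (commutator_mono le_top le_rfl)
    have hna : ¬ commutator G ≤ centralizer (commutator G : Set G) := by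
      intro hab
      obtain ⟨a, ha, b, hb, hne, hc⟩ := hw
      have h1 := hm a ha b hb
      rw [t.inv ha] at h1
      rcases hN (zpowers (a * b)) (zpowers_le.2 h1) (le_normalizer_of_le_centralizer (hab.trans
        (Comp.centralizer_mono (zpowers_le.2 h1)))) with e | e
      · have : a * b ∈ center G := by
          refine (le_center_iff hD.2.2).2 (fun g hg e he => ?_) (mem_zpowers (a * b))
          have h2 := hm a ha e he
          rw [t.inv ha] at h2
          have h3 : Commute a g := by
            obtain ⟨k, rfl⟩ := mem_zpowers_iff.1 hg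
            exact ((Commute.refl a).mul_right hc).zpow_right k
          have h4 : Commute (a * e) g := mem_centralizer_iff.1 (hab (zpowers_le.2 h1 hg)) _ h2
          have := h3.mul_left h4
          rw [t.cancel ha] at this
          exact this.symm
        exact hne (eq_of_central hD ha hb this)
      · exact hne (eq_of_mul_eq_one' t ha (zpowers_eq_bot.1 e))
    have hq : QS (commutator G) := by
      refine ⟨(hN _ (commutator_le_left _ _) (le_normalizer_normal _ _)).resolve_right fun e =>
        hna (commutator_eq_bot_iff_le_centralizer.1 e), fun e => hna (e ▸ bot_le), fun N h1 h2 =>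
        (hN N h1 h2).imp_right fun e => e.le.trans bot_le⟩
    exact prim_of_index hD hD2 hq hi ((hcen (centralizer (commutator G : Set G)) inferInstance
      ((hN _ inf_le_right (le_normalizer_normal _ _)).resolve_left fun e => hna (e.ge.trans inf_le_left))).le.trans bot_le)
  · obtain ⟨L, hN, hL, e⟩ := exists_L hD hD2 (prim_two hD hp) (prim_three hD hp hw)
    have hi := index_of_conn hD hL (prim_conn hD hp hw)
    have hc := key L hN hL e (prim_two hD hp) (prim_three hD hp hw)
    have : commutator G = L := by
      refine le_antisymm (commutator_le.2 fun x _ y _ => ?_) (hL.perfect ▸ commutator_mono le_top le_top)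
      rw [commutatorElement_def]
      by_cases hx : x ∈ L
      · simpa [mul_assoc] using mul_mem hx (hN.conj_mem _ (inv_mem hx) y)
      by_cases hy : y ∈ L
      · exact mul_mem (hN.conj_mem _ hy x) (inv_mem hy)
      have h1 := mem_or_of_index hi hx (y := y⁻¹) (by simpa using hy)
      have h2 := mem_or_of_index hi (x := x⁻¹) (by simpa using hx) hy
      simpa [mul_assoc] using mul_mem h1 h2
    rw [this]
    haveI : Nontrivial L := (nontrivial_iff_ne_bot L).2 hL.ne_bot
    refine ⟨fun N hN' => ?_⟩
    rcases hL.normal (N.map L.subtype) (map_subtype_le N) ((normal_iff_map_subtype N).1 hN') with e | e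
    · exact Or.inr (by rw [← subgroupOf_map_subtype_self N, e, subgroupOf_self])
    · exact Or.inl ((map_eq_bot_iff_of_injective _ L.subtype_injective).1 (eq_bot_iff.2 (hZ ▸ e.trans hc)))
  · have h2' : Cfsg.pCore 2 G ≤ center G := h2 ▸ bot_le
    have h3' : Cfsg.pCore 3 G ≤ center G := h3 ▸ bot_le
    obtain ⟨L, hN, hL, e⟩ := exists_L hD hD2 h2' h3'
    exact prim_of_index hD hD2 hL (index_of_conn hD hL hc) (key L hN hL e h2' h3')

end Cfsg.Agent.S5361
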