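import Cfsg.Statements.S5363
import Cfsg.Agent.Lib.Tr3.Basic

set_option autoImplicit false
open Cfsg

namespace Cfsg.Agent.S5363

set_option linter.unusedSectionVars false
set_option linter.unusedVariables false
set_option linter.style.haveILetI false
set_option linter.unusedSimpArgs false

open Cfsg.Agent.Tr3 Subgroup

/-- Let D be a conjugation-invariant set of involutions of a finite group G. Then every product of two members of D has odd order or order 2 if and only if, for every a in D and every b in D different from a and commuting with a, the members of D commuting with a b are exactly those commuting with both a and b. -/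
theorem result {G : Type*} [Group G] [Finite G] {D : Set G} (hinv : ∀ d ∈ D, orderOf d = 2) (hconj : ∀ g : G, ∀ d ∈ D, g * d * g⁻¹ ∈ D) : (∀ a ∈ D, ∀ b ∈ D, Odd (orderOf (a * b)) ∨ orderOf (a * b) = 2) ↔ ∀ a ∈ D, ∀ b ∈ D, b ≠ a → Commute a b → {y : G | y ∈ D ∧ Commute (a * b) y} = {y : G | y ∈ D ∧ Commute a y} ∩ {y : G | y ∈ D ∧ Commute b y} := by
  have sq : ∀ x ∈ D, x * x = 1 := fun x hx => by rw [← pow_two, ← hinv x hx, pow_orderOf_eq_one]
  have i : ∀ x ∈ D, x⁻¹ = x := fun x hx => inv_eq_of_mul_eq_one_left (sq x hx)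
  have c2 : ∀ a ∈ D, ∀ b ∈ D, (a * b) ^ 2 = 1 → Commute a b := fun a ha b hb h => by
    have := inv_eq_of_mul_eq_one_left (pow_two (a * b) ▸ h)
    rw [mul_inv_rev, i a ha, i b hb] at this
    exact this.symm
  constructor
  · intro h a ha b hb hne hc
    have key : ∀ a ∈ D, ∀ b ∈ D, b ≠ a → Commute a b → ∀ y ∈ D, Commute (a * b) y → Commute a y := by
      intro a ha b hb hne hc y hy h1
      rcases h y hy a ha with h2 | h2
      swap
      · exact (c2 y hy a ha (by rw [← h2, pow_orderOf_eq_one])).symm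
      have e : y * b = y * a * (a * b) := by rw [mul_assoc, ← mul_assoc a, sq a ha, one_mul]
      have hcm : Commute (y * a) (a * b) := (h1.symm.mul_left ((Commute.refl a).mul_right hc))
      have t2 : (a * b) ^ 2 = 1 := by rw [hc.mul_pow, pow_two, pow_two, sq a ha, sq b hb, one_mul]
      rcases h y hy b hb with h3 | h3
      · exfalso
        have h4 : (y * b) ^ (orderOf (y * a) * orderOf (y * b)) = 1 := by rw [mul_comm, pow_mul, pow_orderOf_eq_one, one_pow]
        rw [e, hcm.mul_pow, pow_mul, pow_orderOf_eq_one, one_pow, one_mul, ← e] at h4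
        obtain ⟨k, hk⟩ := h2.mul h3
        rw [hk, pow_succ, pow_mul, t2, one_pow, one_mul] at h4
        exact hne ((i a ha).symm.trans (inv_eq_of_mul_eq_one_right h4)).symm
      · have h4 : (y * b) ^ 2 = 1 := by rw [← h3, pow_orderOf_eq_one]
        rw [e, hcm.mul_pow, t2, mul_one] at h4
        exact (c2 y hy a ha h4).symm
    refine Set.ext fun y => ⟨fun hy => ⟨⟨hy.1, key a ha b hb hne hc y hy.1 hy.2⟩,
      hy.1, key b hb a ha hne.symm hc.symm y hy.1 (hc.eq ▸ hy.2)⟩, fun hy => ⟨hy.1.1, hy.1.2.mul_left hy.2.2⟩⟩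
  · intro h a ha b hb
    rcases Nat.even_or_odd (orderOf (a * b)) with ⟨m, hm⟩ | ho
    swap
    · exact Or.inl ho
    right
    have hpos := orderOf_pos (a * b)
    have hz : (a * b) ^ m * (a * b) ^ m = 1 := by rw [← pow_add, ← hm, pow_orderOf_eq_one]
    have hz1 : (a * b) ^ m ≠ 1 := pow_ne_one_of_lt_orderOf (by omega) (by omega)
    have inv : ∀ x, x * (a * b) * x⁻¹ = (a * b)⁻¹ → Commute x ((a * b) ^ m) := fun x hx => by
      rw [← Fi.conj_eq_iff, ← conj_pow, hx, inv_pow]; exact inv_eq_of_mul_eq_one_left hz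
    have ca := inv a (by rw [mul_inv_rev, i a ha, i b hb, ← mul_assoc, sq a ha, one_mul])
    have cb := inv b (by rw [mul_inv_rev, i a ha, i b hb, mul_assoc, mul_assoc, sq b hb, mul_one])
    have hm' : (a * b) ^ m * a ∈ D := by
      rcases Transfer.conj_or_conj_of_zpow_mul (sq a ha) (sq b hb) m with ⟨c, -, e⟩ | ⟨c, -, e⟩
      · rw [← zpow_natCast, ← e]; exact hconj c a ha
      · rw [← zpow_natCast, ← e]; exact hconj c b hb
    have := h a ha _ hm' (fun e => hz1 (by simpa using e)) (ca.mul_right (Commute.refl a))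
    have hb' : b ∈ {y | y ∈ D ∧ Commute (a * ((a * b) ^ m * a)) y} :=
      ⟨hb, by rw [← ca.eq, ← mul_assoc, sq a ha, one_mul]; exact cb.symm⟩
    rw [this] at hb'
    haveI : Fact (Nat.Prime 2) := ⟨by norm_num⟩
    refine orderOf_eq_prime (by rw [hb'.1.2.mul_pow, pow_two, pow_two, sq a ha, sq b hb, one_mul]) fun e => ?_
    rw [e, one_pow] at hz1
    exact hz1 rfl

end Cfsg.Agent.S5363
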