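import Cfsg.Statements.S5365
import Cfsg.Agent.Lib.Tr3.Sym5

set_option autoImplicit false
open Cfsg

namespace Cfsg.Agent.S5365

set_option linter.unusedSectionVars false
set_option linter.unusedVariables false
set_option linter.style.haveILetI false
set_option linter.unusedSimpArgs false

open Cfsg.Agent.Tr3 Cfsg.Agent.Comp Subgroup
theorem loc {G : Type*} [Group G] {D E : Set G} (t : Fi.TT D) (hE : E ⊆ D) (e : closure E ≃* Equiv.Perm (Fin 3)) :
    (∀ u ∈ E, ∀ v ∈ E, Commute u v → u = v) ∧ (∃ a ∈ E, ∃ b ∈ E, ¬ Commute a b) ∧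
    (∀ a ∈ E, ∀ b ∈ E, ¬ Commute a b → ∀ z ∈ E, z = a ∨ z = b ∨ z = a * b * a⁻¹) ∧
    ∀ z ∈ closure E, (∀ w ∈ closure E, Commute w z) → z = 1 := by
  have sq : ∀ u (hu : u ∈ E), e ⟨u, subset_closure hu⟩ * e ⟨u, subset_closure hu⟩ = 1 := fun u hu => by
    rw [← map_mul, ← map_one e]; exact congrArg e (Subtype.ext (t.sq u (hE hu)))
  have ne : ∀ u (hu : u ∈ E), e ⟨u, subset_closure hu⟩ ≠ 1 := fun u hu h =>
    t.ne u (hE hu) (congrArg Subtype.val (e.map_eq_one_iff.1 h))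
  have cm : ∀ u v : closure E, e u * e v = e v * e u ↔ Commute (u : G) v := fun u v => by
    rw [← map_mul, ← map_mul, e.apply_eq_iff_eq, Subtype.ext_iff]; rfl
  refine ⟨fun u hu v hv h => ?_, ?_, fun a ha b hb h z hz => ?_, fun z hz h => ?_⟩
  · have : ∀ u v : Equiv.Perm (Fin 3), u * u = 1 ∧ v * v = 1 ∧ u ≠ 1 ∧ v ≠ 1 ∧ u * v = v * u → u = v := by decide
    exact congrArg Subtype.val (e.injective (this _ _ ⟨sq u hu, sq v hv, ne u hu, ne v hv, (cm _ _).2 h⟩))
  · by_contra hn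
    push Not at hn
    haveI := isMulCommutative_closure (G := G) (k := E) fun a ha b hb => hn a ha b hb
    have := congrArg e (this.is_comm.comm (e.symm (Equiv.swap 0 1)) (e.symm (Equiv.swap 1 2)))
    simp only [map_mul, e.apply_symm_apply] at this
    revert this; decide
  · have : ∀ a b z : Equiv.Perm (Fin 3), a * a = 1 → b * b = 1 → z * z = 1 → z ≠ 1 → a * b ≠ b * a →
        z = a ∨ z = b ∨ z = a * b * a⁻¹ := by decide
    have := this _ _ _ (sq a ha) (sq b hb) (sq z hz) (ne z hz) (fun h' => h ((cm _ _).1 h'))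
    simp only [← map_mul, ← map_inv, e.apply_eq_iff_eq, Subtype.ext_iff] at this
    exact this
  · have : ∀ z : Equiv.Perm (Fin 3), (∀ w, w * z = z * w) → z = 1 := by decide
    exact congrArg Subtype.val (e.map_eq_one_iff.1 (this (e ⟨z, hz⟩) fun w => by
      rw [← e.apply_symm_apply w, cm]; exact h _ (Subtype.prop _)))

/-- Let D be a non-empty conjugation-invariant set of involutions of a finite group G satisfying the 3-transposition order conditions, and suppose that for every d in D the members of D other than d commuting with d generate a subgroup isomorphic to the symmetric group of degree 3, and the largest normal 3-subgroup of the centralizer of d has order 3. Then the subgroup generated by D is isomorphic to the symmetric group of degree 5 or to the direct product of two symmetric groups of degree 3. -/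
theorem result {G : Type*} [Group G] [Finite G] {D : Set G} (hD : Cfsg.IsThreeTranspositionSet D) (hconj : ∀ g : G, ∀ d ∈ D, g * d * g⁻¹ ∈ D) (hne : D.Nonempty) (hloc : ∀ d ∈ D, Nonempty (↥(Subgroup.closure {y : G | y ∈ D ∧ y ≠ d ∧ Commute d y}) ≃* Equiv.Perm (Fin 3)) ∧ Nat.card (Cfsg.pCore 3 ↥(Subgroup.centralizer ({d} : Set G))) = 3) : Nonempty (↥(Subgroup.closure D) ≃* Equiv.Perm (Fin 5)) ∨ Nonempty (↥(Subgroup.closure D) ≃* Equiv.Perm (Fin 3) × Equiv.Perm (Fin 3)) := by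
  have t := tt_of hD hconj
  have L := fun d (hd : d ∈ D) => loc t (fun y hy => hy.1) (hloc d hd).1.some
  obtain ⟨d, hd⟩ := hne
  obtain ⟨a, ha, b, hb, hab⟩ := (L d hd).2.1
  have hda : d ∈ {y : G | y ∈ D ∧ y ≠ a ∧ Commute a y} := ⟨hd, ha.2.1.symm, ha.2.2.symm⟩
  obtain ⟨c, hc, hdc⟩ : ∃ c ∈ {y : G | y ∈ D ∧ y ≠ a ∧ Commute a y}, ¬ Commute d c := by
    obtain ⟨p, hp, q, hq, h⟩ := (L a ha.1).2.1
    by_cases e : d = p
    · exact ⟨q, hq, e ▸ h⟩
    · exact ⟨p, hp, fun h => e ((L a ha.1).1 d hda p hp h)⟩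
  by_cases hbc : Commute b c
  swap
  · refine Or.inl (sym5 t ha.1 hb.1 hc.1 hd hab hbc (fun h => hdc h.symm) hc.2.2 ha.2.2.symm hb.2.2.symm hc.2.1.symm
      (fun e he u hu v hv h1 h2 h3 h4 => (L e he).1 u ⟨hu, h1, h3⟩ v ⟨hv, h2, h4⟩) fun e he h1 h2 => ?_)
    have m1 : a ∈ closure ({a, b} : Set G) := subset_closure (Or.inl rfl)
    have m2 : b ∈ closure ({a, b} : Set G) := subset_closure (Or.inr rfl)
    rcases (L d hd).2.2.1 a ha b hb hab e ⟨he, h1, h2⟩ with rfl | rfl | rfl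
    exacts [m1, m2, mul_mem (mul_mem m1 m2) (inv_mem m1)]
  right
  have W : ∀ {x y p q : G}, x ∈ D → y ∈ D → p ∈ {y : G | y ∈ D ∧ y ≠ x ∧ Commute x y} →
      q ∈ {y : G | y ∈ D ∧ y ≠ x ∧ Commute x y} → p ∈ {z : G | z ∈ D ∧ z ≠ y ∧ Commute y z} →
      q ∈ {z : G | z ∈ D ∧ z ≠ y ∧ Commute y z} → ¬ Commute p q → RW D x y := by
    intro x y p q hx hy h1 h2 h3 h4 h5
    refine ⟨hx, hy, Set.ext fun z => ⟨fun hz => ?_, fun hz => ?_⟩⟩
    · rcases (L x hx).2.2.1 p h1 q h2 h5 z hz with rfl | rfl | rfl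
      exacts [h3, h4, perp_conj t h3.2.2.symm _ h4]
    · rcases (L y hy).2.2.1 p h3 q h4 h5 z hz with rfl | rfl | rfl
      exacts [h1, h2, perp_conj t h1.2.2.symm _ h2]
  have w1 : RW D d c := W hd hc.1 ha hb ⟨ha.1, hc.2.1.symm, hc.2.2.symm⟩ ⟨hb.1, fun e => hdc (e ▸ hb.2.2), hbc.symm⟩ hab
  have w2 : RW D a b := W ha.1 hb.1 hda hc ⟨hd, hb.2.1.symm, hb.2.2.symm⟩ ⟨hc.1, fun e => hab (e ▸ hc.2.2), hbc⟩ hdc
  have m1 := (RW_iff t hd hc.1).1 w1
  have m2 := (RW_iff t ha.1 hb.1).1 w2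
  have n2 : a * b ≠ 1 := fun e => hab (eq_of_mul_eq_one' t ha.1 e ▸ Commute.refl _)
  have hC : Cfsg.pCore 3 G ⊓ centralizer {d} ≤ zpowers (a * b) := by
    haveI : Fact (Nat.Prime 3) := ⟨by norm_num⟩
    have h1 : Cfsg.pCore 3 G ⊓ centralizer {d} ≤ Op 3 (centralizer {d}) :=
      le_Op inf_le_right (le_normalizer_inf (le_normalizer_normal _ _) le_normalizer) ((isPGroup_pCore 3).to_le inf_le_left)
    refine h1.trans (eq_of_le_of_card_ge ((zpowers_le.2 (mem_inf.2 ⟨m2, Transfer.mem_centralizer_singleton'.2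
      (ha.2.2.mul_right hb.2.2).symm⟩)).trans h1) ?_).ge
    rw [← map_pCore, card_map_subtype, (hloc d hd).2, Nat.card_zpowers, orderOf_eq_prime (t.cube ha.1 hb.1 hab) n2]
  have inv : ∀ q ∈ Cfsg.pCore 3 G, a * d * q * (a * d)⁻¹ = q⁻¹ := by
    intro q hq
    have w3 := (RW_iff t hd (t.conj q d hd)).2 (mul_conj_mem t hd hq)
    have h1 := (w3.iff ha.1).1 ha.2
    obtain ⟨s, hs, e⟩ : ∃ s ∈ zpowers (d * c), q * d * q⁻¹ = s * d * s⁻¹ := by
      rcases (L a ha.1).2.2.1 d hda c hc hdc _ ⟨w3.2.1, h1.1.symm, h1.2.symm⟩ with e | e | e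
      · exact ⟨1, one_mem _, by simpa using e⟩
      · exact ⟨_, mem_zpowers _, e.trans (t.swap hd hc.1 hdc).symm⟩
      · refine ⟨_, inv_mem (mem_zpowers _), e.trans ?_⟩
        rw [inv_inv, mul_inv_rev, t.inv hd, t.inv hc.1, t.braid d hd c hc.1 hdc]
        simp only [mul_assoc, t.cancel hd]
    have h2 : s⁻¹ * q ∈ zpowers (a * b) := hC (mem_inf.2 ⟨mul_mem (inv_mem (zpowers_le.2 m1 hs)) hq,
      Transfer.mem_centralizer_singleton'.2 (Fi.conj_eq_iff.1 (by
        calc _ = s⁻¹ * (q * d * q⁻¹) * s := by group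
          _ = d := by rw [e]; group))⟩)
    obtain ⟨i, rfl⟩ := mem_zpowers_iff.1 hs
    obtain ⟨j, hj⟩ := mem_zpowers_iff.1 h2
    have e1 : q = (d * c) ^ i * (a * b) ^ j := by rw [hj]; group
    have c1 : Commute (d * c) (a * b) := (ha.2.2.mul_right hb.2.2).mul_left (hc.2.2.symm.mul_right hbc.symm)
    have a1 : a * d * (d * c) * (a * d)⁻¹ = (d * c)⁻¹ := by
      rw [mul_inv_rev, mul_inv_rev, t.inv hd, t.inv hc.1, t.inv ha.1, mul_assoc a, t.cancel hd, mul_assoc, ← mul_assoc c,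
        ← (hc.2.2.mul_right ha.2.2.symm).eq, t.cancel ha.1]
    have a2 : a * d * (a * b) * (a * d)⁻¹ = (a * b)⁻¹ := by
      rw [mul_inv_rev, mul_inv_rev, t.inv hd, t.inv hb.1, t.inv ha.1, mul_assoc a, (ha.2.2.mul_right hb.2.2).eq]
      simp only [mul_assoc, t.cancel hd, t.cancel ha.1]
    rw [e1, ← conj_mul, ← conj_zpow, ← conj_zpow, a1, a2, inv_zpow, inv_zpow, ← mul_inv_rev, (c1.zpow_zpow i j).eq]
  have cov : ∀ e ∈ D, Commute e a ∨ Commute e d := fun e he => by
    by_contra hn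
    push Not at hn
    have e1 := (s4_conj t ha.1 hd he ha.2.2.symm hn.1 hn.2).1
    have e2 := t.swap ha.1 he fun h => hn.1 h.symm
    have N : (Cfsg.pCore 3 G).Normal := inferInstance
    have i2 : ∀ g : G, ∀ q ∈ Cfsg.pCore 3 G, g * (a * d) * g⁻¹ * q * (g * (a * d) * g⁻¹)⁻¹ = q⁻¹ := fun g q hq => by
      calc _ = g * (a * d * (g⁻¹ * q * g⁻¹⁻¹) * (a * d)⁻¹) * g⁻¹ := by group
        _ = _ := by rw [inv _ (N.conj_mem q hq g⁻¹)]; group
    have h1 := i2 (a * e) _ m2
    rw [← conj_mul (b := a * e) (a := a) (c := d), e1, e2] at h1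
    have h2 := i2 e _ (N.conj_mem _ m2 (a * d)⁻¹)
    have h3 := inv _ (N.conj_mem _ m2 (a * d)⁻¹)
    have h4 : (a * b)⁻¹ = a * b := by
      rw [← h1, show e * (a * d * e * (a * d)⁻¹) = e * (a * d) * e⁻¹ * (a * d)⁻¹ by rw [t.inv he]; group]
      calc _ = e * (a * d) * e⁻¹ * ((a * d)⁻¹ * (a * b) * (a * d)⁻¹⁻¹) * (e * (a * d) * e⁻¹)⁻¹ := by group
        _ = _ := by rw [h2, ← h3]; group
    have h5 := t.cube ha.1 hb.1 hab
    rw [pow_succ, pow_two, ← eq_inv_iff_mul_eq_one, h4] at h5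
    exact n2 (by simpa using h5)
  set A := closure {y : G | y ∈ D ∧ y ≠ d ∧ Commute d y}
  set B := closure {y : G | y ∈ D ∧ y ≠ a ∧ Commute a y}
  have hAB : A ≤ centralizer (B : Set G) := (closure_le _).2 fun x hx => mem_centralizer_iff.2 fun y hy =>
    closure_comm (S := {y : G | y ∈ D ∧ y ≠ a ∧ Commute a y}) (fun z hz => by
      have hx' := w1.2.2.subset hx
      rcases (L a ha.1).2.2.1 d hda c hc hdc z hz with rfl | rfl | rfl
      exacts [hx.2.2.symm, hx'.2.2.symm, (hx.2.2.symm.mul_right hx'.2.2.symm).mul_right hx.2.2.symm.inv_right]) y hy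
  have : closure D = A ⊔ B := le_antisymm ((closure_le _).2 fun e he => by
    rcases cov e he with h | h
    · by_cases e1 : e = a
      · exact mem_sup_left (subset_closure (e1 ▸ ha))
      · exact mem_sup_right (subset_closure ⟨he, e1, h.symm⟩)
    · by_cases e1 : e = d
      · exact mem_sup_right (subset_closure (e1 ▸ hda))
      · exact mem_sup_left (subset_closure ⟨he, e1, h.symm⟩))
    (sup_le (closure_mono fun x hx => hx.1) (closure_mono fun x hx => hx.1))
  rw [this]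
  have h0 : A ⊓ B = ⊥ := eq_bot_iff.2 fun z hz =>
    (L d hd).2.2.2 z hz.1 fun w hw => (mem_centralizer_iff.1 (hAB hw) z hz.2).symm
  let f := A.subtype.noncommCoprod B.subtype fun x y => (mem_centralizer_iff.1 (hAB x.2) y y.2).symm
  have hf : Function.Injective f := (MonoidHom.noncommCoprod_injective _ _ _).2
    ⟨A.subtype_injective, B.subtype_injective, by simpa [disjoint_iff] using h0⟩
  have hr : f.range = A ⊔ B := (MonoidHom.noncommCoprod_range _ _ _).trans (by rw [range_subtype, range_subtype])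
  exact ⟨((MulEquiv.subgroupCongr hr.symm).trans (MonoidHom.ofInjective hf).symm).trans
    ((hloc d hd).1.some.prodCongr (hloc a ha.1).1.some)⟩

end Cfsg.Agent.S5365
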