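import Cfsg.Statements.S5366
import Cfsg.Agent.Lib.Tr3.Space

set_option autoImplicit false
open Cfsg

namespace Cfsg.Agent.S5366

set_option linter.unusedSectionVars false
set_option linter.unusedVariables false
set_option linter.style.haveILetI false
set_option linter.unusedSimpArgs false

open Cfsg.Agent.Tr3 Cfsg.LineSystem
def T {X : Type*} (L : Set (Set X)) (x y z : X) : Prop := z ≠ x ∧ z ≠ y ∧ x ≠ y ∧ ({x, y, z} : Set X) ∈ L
def R {X : Type*} (L : Set (Set X)) (x y y' : X) : Prop := T L x y y' ∨ (y' = y ∧ ¬ ∃ z, T L x y z)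
def Good {X : Type*} (L : Set (Set X)) : Prop :=
  ∀ x a b c a' b' c', T L a b c → R L x a a' → R L x b b' → R L x c c' → ({a', b', c'} : Set X) ∈ L
theorem T.s1 {X : Type*} {L : Set (Set X)} {x y z : X} (h : T L x y z) : T L y x z :=
  ⟨h.2.1, h.1, h.2.2.1.symm, Set.insert_comm x y _ ▸ h.2.2.2⟩
theorem T.s2 {X : Type*} {L : Set (Set X)} {x y z : X} (h : T L x y z) : T L x z y :=
  ⟨h.2.2.1.symm, h.2.1.symm, h.1.symm, Set.pair_comm y z ▸ h.2.2.2⟩
theorem good_ag : Good Cfsg.affinePlaneThree := by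
  have h1 : ∀ p q r, T Cfsg.affinePlaneThree p q r ↔ p ≠ q ∧ r = -p - q := fun p q r => by
    constructor
    · rintro ⟨h1, h2, h3, h4⟩
      obtain ⟨u, v, h5, e⟩ := (ag_iff _).1 h4
      have k : ∀ u v p q r : Fin 2 → ZMod 3, (p = u ∨ p = v ∨ p = -u - v) → (q = u ∨ q = v ∨ q = -u - v) →
          (r = u ∨ r = v ∨ r = -u - v) → r ≠ p → r ≠ q → p ≠ q → r = -p - q := by
        rintro u v p q r (rfl | rfl | rfl) (rfl | rfl | rfl) (rfl | rfl | rfl) <;> simp <;> intros <;> ring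
      exact ⟨h3, k u v p q r (e.subset (by simp)) (e.subset (by simp)) (e.subset (by simp)) h1 h2 h3⟩
    · rintro ⟨h, rfl⟩
      have k : ∀ p q : Fin 2 → ZMod 3, p ≠ q → -p - q ≠ p ∧ -p - q ≠ q := by decide +kernel
      exact ⟨(k p q h).1, (k p q h).2, h, (ag_iff _).2 ⟨p, q, h, rfl⟩⟩
  have h2 : ∀ x y y', R Cfsg.affinePlaneThree x y y' → y' = -x - y := by
    rintro x y y' (h | ⟨rfl, h⟩)
    · exact ((h1 _ _ _).1 h).2
    · have : x = y' := by_contra fun e => h ⟨_, (h1 _ _ _).2 ⟨e, rfl⟩⟩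
      subst this
      have k : ∀ p : Fin 2 → ZMod 3, p = -p - p := by decide +kernel
      exact k x
  intro x a b c a' b' c' h ha hb hc
  obtain ⟨h3, rfl⟩ := (h1 _ _ _).1 h
  rw [h2 _ _ _ ha, h2 _ _ _ hb, h2 _ _ _ hc]
  have k : ∀ x a b : Fin 2 → ZMod 3, -x - (-a - b) = -(-x - a) - (-x - b) := by decide +kernel
  exact (ag_iff _).2 ⟨-x - a, -x - b, fun e => h3 (by simpa using e), by rw [k]⟩
theorem good_dual : Good Cfsg.dualAffinePlaneTwo := by
  have h0 : ∀ p q r : Cfsg.DualAffinePoint, ({p, q, r} : Set _) ∈ Cfsg.dualAffinePlaneTwo ↔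
      ∃ i : Fin 4, ∀ s : Cfsg.DualAffinePoint, (s = p ∨ s = q ∨ s = r) ↔ i ∉ s.1 := fun p q r =>
    exists_congr fun i => Set.ext_iff
  have h2 : ∀ x y y', R Cfsg.dualAffinePlaneTwo x y y' → y' = dop x y := by
    simp only [R, T, h0]
    set_option synthInstance.maxSize 2000 in decide +kernel
  intro x a b c a' b' c' h ha hb hc
  rw [h2 _ _ _ ha, h2 _ _ _ hb, h2 _ _ _ hc]
  have := h.2.2.2
  clear ha hb hc h
  revert x a b c
  simp only [h0]
  set_option synthInstance.maxSize 2000 in decide +kernel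

/-- Let L be a nondegenerate Fischer space on the point type X (every point on a line). Then for every point x the map t(x) — sending a point collinear with x to the third point of their common line and fixing every other point — is a permutation of X of order 2 and an automorphism of the line system; and the set of all t(x) satisfies the 3-transposition order conditions in the permutation group of X (any two have product of order at most 3). -/
theorem result {X : Type*} (L : Set (Set X)) (hL : Cfsg.IsFischerSpace L) (hnd : Cfsg.LineSystem.IsNondegenerate L) : (∀ x : X, ∃ σ : Equiv.Perm X, ⇑σ = Cfsg.LineSystem.lineMap L x ∧ orderOf σ = 2 ∧ Cfsg.LineSystem.IsIso L L σ) ∧ Cfsg.IsThreeTranspositionSet {σ : Equiv.Perm X | ∃ x : X, ⇑σ = Cfsg.LineSystem.lineMap L x} := by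
  have uq : ∀ {x y z z'}, T L x y z → T L x y z' → z = z' := fun {x y z z'} h h' => by
    have := hL.1 _ h.2.2.2 _ h'.2.2.2 x y h.2.2.1 (by simp) (by simp) (by simp) (by simp)
    rcases this.subset (show z ∈ _ by simp) with e | e | e
    exacts [absurd e h.1, absurd e h.2.1, e]
  have sp : ∀ x y, R L x y (lineMap L x y) := fun x y => by
    unfold lineMap
    split_ifs with h
    · exact Or.inl h.choose_spec
    · exact Or.inr ⟨rfl, h⟩
  have tT : ∀ {x y z}, T L x y z → lineMap L x y = z := fun {x y z} h =>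
    (sp x y).elim (fun h' => uq h' h) fun h' => absurd ⟨z, h⟩ h'.2
  have tN : ∀ {x y}, (¬ ∃ z, T L x y z) → lineMap L x y = y := fun {x y} h =>
    (sp x y).elim (fun h' => absurd ⟨_, h'⟩ h) fun h' => h'.1
  have inv : ∀ x, Function.Involutive (lineMap L x) := fun x y =>
    (sp x y).elim (fun h => tT h.s2) fun h => by rw [h.1, h.1]
  have ln3 : ∀ l ∈ L, ∃ a b c, T L a b c ∧ l = {a, b, c} := fun l hl => by
    obtain ⟨a, b, c, h1, h2, h3, rfl⟩ := Set.ncard_eq_three.1 (hL.2.1 l hl)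
    exact ⟨a, b, c, ⟨h2.symm, h3.symm, h1, hl⟩, rfl⟩
  have tr : ∀ {Y : Type} {M : Set (Set Y)}, Good M → ∀ {S : Set X}, IsSubspace L S → Isomorphic (restrict L S) M →
      ∀ {x a b c}, x ∈ S → a ∈ S → b ∈ S → T L a b c → ({lineMap L x a, lineMap L x b, lineMap L x c} : Set X) ∈ L := by
    rintro Y M hM S hS ⟨e, he⟩ x a b c hx ha hb h
    have cl : ∀ {p q r}, p ∈ S → q ∈ S → T L p q r → r ∈ S := fun hp hq h =>
      hS _ h.2.2.2 _ hp _ hq h.2.2.1 (by simp) (by simp) (by simp)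
    have k0 : ∀ p q r : S, ({(p : X), (q : X), (r : X)} : Set X) ∈ L ↔ ({e p, e q, e r} : Set Y) ∈ M := fun p q r => by
      have := he {p, q, r}
      simp only [Set.image_insert_eq, Set.image_singleton] at this
      rw [← this]
      constructor
      · exact fun h => ⟨_, h, by rintro _ (rfl | rfl | rfl) <;> simp, Set.ext fun z => by simp [Subtype.ext_iff]⟩
      · rintro ⟨l, hl, h1, h2⟩
        convert hl
        refine Set.ext fun z => ⟨?_, fun hz => ?_⟩
        · rintro (rfl | rfl | rfl) <;> exact h2.subset (by simp)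
        · rcases h2.symm.subset (show (⟨z, h1 hz⟩ : S) ∈ _ from hz) with rfl | rfl | rfl <;> simp
    have k1 : ∀ p q r : S, T L p q r ↔ T M (e p) (e q) (e r) := fun p q r => by
      simp only [T, k0, ne_eq, e.apply_eq_iff_eq, Subtype.ext_iff]
    have m : ∀ {y}, y ∈ S → lineMap L x y ∈ S := fun {y} hy => (sp x y).elim (cl hx hy) fun h => h.1.symm ▸ hy
    have k2 : ∀ {y} (hy : y ∈ S), R M (e ⟨x, hx⟩) (e ⟨y, hy⟩) (e ⟨_, m hy⟩) := fun {y} hy =>
      (sp x y).imp (k1 ⟨x, hx⟩ ⟨y, hy⟩ ⟨_, m hy⟩).1 fun h => ⟨congrArg e (Subtype.ext h.1), fun ⟨z, hz⟩ =>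
        h.2 ⟨e.symm z, (k1 ⟨x, hx⟩ ⟨y, hy⟩ _).2 (by rwa [e.apply_symm_apply])⟩⟩
    have hc := cl ha hb h
    exact (k0 ⟨_, m ha⟩ ⟨_, m hb⟩ ⟨_, m hc⟩).2 (hM _ _ _ _ _ _ _ ((k1 ⟨a, ha⟩ ⟨b, hb⟩ ⟨c, hc⟩).1 h) (k2 ha) (k2 hb) (k2 hc))
  have one : ∀ {x a b c a'}, T L a b c → T L x a a' → x ∉ ({a, b, c} : Set X) →
      ({lineMap L x a, lineMap L x b, lineMap L x c} : Set X) ∈ L := fun {x a b c a'} h h' hx => by
    have hS : IsSubspace L (span L ({a, b, c} ∪ {x, a, a'})) := fun l hl p hp q hq hne h1 h2 z hz T hT =>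
      hT.2 l hl p (hp T hT) q (hq T hT) hne h1 h2 hz
    have sub : ∀ z ∈ ({a, b, c} ∪ {x, a, a'} : Set X), z ∈ span L ({a, b, c} ∪ {x, a, a'}) := fun z hz T hT => hT.1 hz
    rcases hL.2.2 _ h.2.2.2 _ h'.2.2.2 (fun e => hx (e ▸ by simp)) ⟨a, by simp, by simp⟩ with e | e
    · exact tr good_dual hS e (sub _ (by simp)) (sub _ (by simp)) (sub _ (by simp)) h
    · exact tr good_ag hS e (sub _ (by simp)) (sub _ (by simp)) (sub _ (by simp)) h
  have pres : ∀ x {a b c}, T L a b c → T L (lineMap L x a) (lineMap L x b) (lineMap L x c) := fun x {a b c} h => by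
    refine ⟨(inv x).injective.ne h.1, (inv x).injective.ne h.2.1, (inv x).injective.ne h.2.2.1, ?_⟩
    have fx : lineMap L x x = x := tN fun ⟨_, h⟩ => h.2.2.1 rfl
    by_cases hx : x ∈ ({a, b, c} : Set X)
    · rcases hx with rfl | rfl | rfl
      · rw [fx, tT h, tT h.s2]; exact h.s2.2.2.2
      · rw [fx, tT h.s1, tT h.s1.s2]; exact h.s2.s1.s2.2.2.2
      · rw [fx, tT h.s2.s1, tT h.s2.s1.s2]; exact h.s1.2.2.2
    by_cases h1 : ∃ z, T L x a z
    · exact one h h1.choose_spec hx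
    by_cases h2 : ∃ z, T L x b z
    · exact Set.insert_comm _ _ _ ▸ one h.s1 h2.choose_spec (Set.insert_comm a b _ ▸ hx)
    by_cases h3 : ∃ z, T L x c z
    · have := one h.s2.s1 h3.choose_spec (fun h => hx (by simp only [Set.mem_insert_iff, Set.mem_singleton_iff] at *; tauto))
      rwa [Set.insert_comm, Set.pair_comm] at this
    · rw [tN h1, tN h2, tN h3]; exact h.2.2.2
  have pl : ∀ x, ∀ l ∈ L, lineMap L x '' l ∈ L := fun x l hl => by
    obtain ⟨a, b, c, h, rfl⟩ := ln3 l hl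
    simp only [Set.image_insert_eq, Set.image_singleton]
    exact (pres x h).2.2.2
  have ord : ∀ x, ∀ σ : Equiv.Perm X, ⇑σ = lineMap L x → orderOf σ = 2 := fun x σ h => by
    refine orderOf_eq_prime (Equiv.ext fun y => by simp [pow_two, h, inv x y]) fun e => ?_
    obtain ⟨l, hl, hx⟩ := hnd x
    obtain ⟨a, b, c, h', rfl⟩ := ln3 l hl
    have : ∀ {y z}, ¬ T L x y z := fun {y z} k => k.2.1 (by rw [← tT k, ← h, e]; rfl)
    rcases hx with rfl | rfl | rfl
    exacts [this h', this h'.s1, this h'.s2.s1]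
  have eqv : ∀ x y p, lineMap L x (lineMap L y p) = lineMap L (lineMap L x y) (lineMap L x p) := fun x y p => by
    rcases sp y p with h | h
    · exact (tT (pres x h)).symm
    · rw [h.1]
      refine (tN ?_).symm
      rintro ⟨z, hz⟩
      have := pres x hz
      rw [inv x, inv x] at this
      exact h.2 ⟨_, this⟩
  refine ⟨fun x => ⟨(inv x).toPerm, rfl, ord x _ rfl, fun l => ⟨pl x l, fun h => ?_⟩⟩, ?_, ?_⟩
  · have := pl x _ h
    rwa [← Set.image_comp, show lineMap L x ∘ (inv x).toPerm = id from funext (inv x), Set.image_id] at this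
  · rintro σ ⟨x, h⟩; exact ord x σ h
  · rintro σ ⟨x, h⟩ τ ⟨y, h'⟩
    rcases sp x y with k | k
    · refine Or.inr (Equiv.ext fun p => ?_)
      simp only [pow_succ, pow_zero, one_mul, Equiv.Perm.mul_apply, h, h', Equiv.Perm.one_apply]
      rw [eqv x y, inv x, eqv y x, inv y, tT k.s1, inv]
    · refine Or.inl (Equiv.ext fun p => ?_)
      simp only [pow_succ, pow_zero, one_mul, Equiv.Perm.mul_apply, h, h', Equiv.Perm.one_apply]
      rw [eqv x y, inv x, k.1, inv]

end Cfsg.Agent.S5366
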