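import Cfsg.Statements.S5367
import Cfsg.Agent.Lib.Tr3.Space

set_option autoImplicit false
open Cfsg

namespace Cfsg.Agent.S5367

set_option linter.unusedSectionVars false
set_option linter.unusedVariables false
set_option linter.style.haveILetI false
set_option linter.unusedSimpArgs false

open Cfsg.Agent.Tr3 Cfsg.LineSystem

/-- Let D be a conjugation-invariant generating set of 3-transpositions of a finite group G. Then the line system on D whose lines are the triples {x, y, y x y⁻¹} for non-commuting members x, y of D is a Fischer space: two points lie on at most one line, lines have three points, and two different meeting lines generate a subspace isomorphic to the dual affine plane of order two or to the affine plane of order three. -/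
theorem result {G : Type*} [Group G] [Finite G] {D : Set G} (hD : Cfsg.IsThreeTranspositionGroup D) : Cfsg.IsFischerSpace (Cfsg.threeTranspositionLines D) := by
  have t := tt_grp hD
  refine ⟨fun l hl m hm x y hne h1 h2 h3 h4 => (line_eq t hl h1 h2 hne).2.trans (line_eq t hm h3 h4 hne).2.symm, ?_, ?_⟩
  · rintro _ ⟨x, y, h, rfl⟩
    refine Set.ncard_eq_three.2 ⟨x, y, ⟨_, t.conj y x x.2⟩, fun e => h (e ▸ Commute.refl _),
      fun e => h (Fi.conj_eq_iff.1 (congrArg Subtype.val e).symm).symm, fun e => h ?_,
      Set.ext fun z => by simp only [Set.mem_setOf_eq, Set.mem_insert_iff, Set.mem_singleton_iff, Subtype.ext_iff]⟩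
    rw [conj_inj'.1 ((mul_inv_cancel_right (y : G) y).trans (congrArg Subtype.val e))]
  · rintro l hl m hm hne ⟨a, ha, ha'⟩
    have ex : ∀ l ∈ Cfsg.threeTranspositionLines D, ∃ b ∈ l, a ≠ b := by
      rintro _ ⟨x, y, h, rfl⟩
      by_cases e : a = x
      · exact ⟨y, Or.inr (Or.inl rfl), fun e' => h (by rw [← e, ← e'])⟩
      · exact ⟨x, Or.inl rfl, e⟩
    obtain ⟨b, hb, hab⟩ := ex l hl
    obtain ⟨c, hc, hac⟩ := ex m hm
    have nm : ∀ b ∈ l, a ≠ b → b ∉ m := fun b hb hab h => hne ((line_eq t hl ha hb hab).2.trans (line_eq t hm ha' h hab).2.symm)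
    obtain ⟨h2, rfl⟩ := line_eq t hm ha' hc hac
    have A : ∀ b ∈ l, a ≠ b → Commute (b : G) c → Isomorphic (restrict (Cfsg.threeTranspositionLines D)
        (span (Cfsg.threeTranspositionLines D) (l ∪ ln a c))) Cfsg.dualAffinePlaneTwo := fun b hb hab h => by
      obtain ⟨h1, e⟩ := line_eq t hl ha hb hab
      rw [e]
      exact plane_dual t h1 h2 h fun e => nm b hb hab (e ▸ hc)
    by_cases h3 : Commute (b : G) c
    · exact Or.inl (A b hb hab h3)
    obtain ⟨h1, e⟩ := line_eq t hl ha hb hab
    by_cases h4 : Commute ((a : G) * b * a) c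
    · refine Or.inl (A ⟨_, t.conj' a.2 b.2⟩ (e ▸ Or.inr (Or.inr ?_)) (fun e => hab ?_) h4)
      · rw [t.inv b.2]; exact t.braid _ a.2 _ b.2 h1
      · have := congrArg Subtype.val e
        simp only [mul_assoc, left_eq_mul] at this
        exact Subtype.ext (eq_of_mul_eq_one' t b.2 this).symm
    · rw [e]
      refine Or.inr (plane_ag t h1 h2 h3 h4 fun e => nm b hb hab (Or.inr (Or.inr ?_)))
      rw [e, t.inv a.2, t.inv c.2]; exact t.braid _ a.2 _ c.2 h2

end Cfsg.Agent.S5367
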