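import Cfsg.Statements.S5392
import Cfsg.Agent.Lib.Leech.Co1

set_option autoImplicit false
open Cfsg

namespace Cfsg.Agent.S5392

set_option linter.unusedSectionVars false
set_option linter.unusedVariables false
set_option linter.style.haveILetI false
set_option linter.unusedSimpArgs false

open Cfsg.Agent.Leech in

/-- The Leech lattice modulo twice itself is a faithful irreducible module for the first Conway group: an automorphism of the rank-24 lattice built from the length-24 code that moves every lattice vector only by twice a lattice vector lies in the centre of the automorphism group (the centre consists of ±1, which act trivially there, so the kernel is exactly the centre), and an additive subgroup lying between twice the lattice and the lattice that is invariant under all lattice automorphisms is one of the two. -/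
theorem result : (∀ g : ↥Cfsg.Co0, (∀ v : ↥Cfsg.leechLattice, ∃ w : ↥Cfsg.leechLattice, ((g • v : ↥Cfsg.leechLattice) : Cfsg.GolayPt → ℤ) - (v : Cfsg.GolayPt → ℤ) = 2 • (w : Cfsg.GolayPt → ℤ)) → g ∈ Subgroup.center ↥Cfsg.Co0) ∧ ∀ M : AddSubgroup (Cfsg.GolayPt → ℤ), (∀ v ∈ Cfsg.leechLattice, (2 : ℤ) • v ∈ M) → M ≤ Cfsg.leechLattice → (∀ g : ↥Cfsg.Co0, ∀ v : ↥Cfsg.leechLattice, (v : Cfsg.GolayPt → ℤ) ∈ M → ((g • v : ↥Cfsg.leechLattice) : Cfsg.GolayPt → ℤ) ∈ M) → (∀ x ∈ M, ∃ w ∈ Cfsg.leechLattice, x = (2 : ℤ) • w) ∨ M = Cfsg.leechLattice := by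
  refine ⟨fun g h => ?_, fun M h1 h2 h3 => ?_⟩
  · have a : ∀ v : L, cl (g • v : L) = cl v := fun v => let ⟨w, e⟩ := h v; cl_eq.2 ⟨w, w.2, e⟩
    exact center_of_pm ((mem_Nstd_cl pa).2 (a _)) fun v hv => pm_of_cl hv (a v)
  refine or_iff_not_imp_left.2 fun n => le_antisymm h2 ?_
  push Not at n
  obtain ⟨x, hx, n⟩ := n
  have k : ∀ x y : V, x ∈ M → cl x = cl y → y ∈ M := fun x y hx e => by
    obtain ⟨z, hz, e⟩ := cl_eq.1 e
    have := sub_mem hx (h1 z hz)
    rwa [two_zsmul, ← two_nsmul, ← e, sub_sub_cancel] at this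
  have m : ∀ v : L, sqNorm (v : V) = 32 → v.1 ∈ M → leechLattice ≤ M := fun v h hv => by
    rw [← closure_min, AddSubgroup.closure_le]
    intro w hw
    obtain ⟨g, e⟩ := trans32 v ⟨w, hw.1⟩ h hw.2
    have := h3 g v hv
    rwa [e] at this
  obtain ⟨y, hy, e, c⟩ := exists_short (h2 hx)
  have hy' := k x y hx c
  rcases e with e | e | e | e
  · obtain ⟨z, hz, c⟩ := cl_eq.1 c
    rw [sqNorm_eq_zero e, sub_zero, two_nsmul, ← two_zsmul] at c
    exact absurd c (n z hz)
  · exact m ⟨y, hy⟩ e hy'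
  · have a : ∀ u : L, sqNorm (u : V) = 48 → u.1 ∈ M := fun u hu => by
      obtain ⟨g, e⟩ := trans48 ⟨y, hy⟩ u e hu
      exact e ▸ h3 g _ hy'
    refine m Y0 nY0 ?_
    rw [eq_sub_of_add_eq' UY]
    exact sub_mem (a _ nU0) (a _ nU1)
  · have a : ∀ u : L, sqNorm (u : V) = 64 → u.1 ∈ M := fun u hu => by
      obtain ⟨g, e⟩ := cross_trans ⟨y, hy⟩ u e hu
      exact k _ _ (h3 g _ hy') e
    refine m X0 nX0 ?_
    have : X0 = (S2 pa (Spor.gp 1) 4 4 + S2 (Spor.gp 2) (Spor.gp 3) 4 4) -
        (S2 pb (Spor.gp 1) (-4) 4 + S2 (Spor.gp 2) (Spor.gp 3) 4 4) := Subtype.ext (by decide +kernel)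
    rw [this]
    exact sub_mem (a _ (by decide +kernel)) (a _ (by decide +kernel))

end Cfsg.Agent.S5392
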