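import Cfsg.Statements.S5393
import Cfsg.Agent.Lib.Steiner.Inv

set_option autoImplicit false
open Cfsg

namespace Cfsg.Agent.S5393

set_option linter.unusedSectionVars false
set_option linter.unusedVariables false
set_option linter.style.haveILetI false
set_option linter.unusedSimpArgs false

open Cfsg.Agent.Steiner Cfsg.Agent.Spor

/-- The length-24 code built from the squares modulo 23 contains the all-ones word, and the code modulo the all-ones word is an irreducible module over the field with two elements for the code's automorphism group: a subspace of the code that contains the all-ones word and is invariant under every coordinate permutation preserving the code is either the span of the all-ones word or the whole code. -/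
theorem result : (fun _ : Cfsg.GolayPt => (1 : ZMod 2)) ∈ Cfsg.golayCode ∧ ∀ W : Submodule (ZMod 2) (Cfsg.GolayPt → ZMod 2), (fun _ => (1 : ZMod 2)) ∈ W → W ≤ Cfsg.golayCode → (∀ σ ∈ Cfsg.M24, ∀ w ∈ W, (fun p => w (σ.symm p)) ∈ W) → W = Submodule.span (ZMod 2) {fun _ => (1 : ZMod 2)} ∨ W = Cfsg.golayCode := by
  refine ⟨support_mem_gC.mp (support_one ▸ univ_mem_gC), fun W h1 h2 h3 => ?_⟩
  have hp : ∀ s : Finset GolayPt, s.card = 2 → ∃ w, w ∉ W ∧ ∑ p, w p = 0 := fun s hs => by
    obtain ⟨w, rfl⟩ := exists_support s
    refine ⟨w, fun h => ?_, ?_⟩
    · have := card_of_mem_gC (support_mem_gC.mpr (h2 h)); omega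
    · have := sum_mul_eq w fun _ => 1
      simp only [mul_one, support_one, Finset.inter_univ] at this
      rw [this, hs]; rfl
  obtain ⟨w, h4, h5⟩ := hp {none, some 0} rfl
  rcases sub_cases W h3 with h | h | h | h | h
  · rw [h, Submodule.mem_bot] at h1
    exact absurd (congrFun h1 none) (by decide)
  · exact Or.inl h
  · exact Or.inr h
  · exact absurd (show w ∈ (W : Set _) from h ▸ h5) h4
  · exact absurd (h ▸ Submodule.mem_top) h4

end Cfsg.Agent.S5393
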