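import Cfsg.Statements.S5394
import Cfsg.Agent.Lib.Spor.Cls

set_option autoImplicit false
open Cfsg

namespace Cfsg.Agent.S5394

set_option linter.unusedSectionVars false
set_option linter.unusedVariables false
set_option linter.style.haveILetI false
set_option linter.unusedSimpArgs false

open Cfsg.Agent.Spor Cfsg.Agent.PC in

/-- The automorphism group of the length-24 code built from the squares modulo 23 has exactly two conjugacy classes of involutions: an involution either fixes exactly the eight points of an octad or has no fixed points, both kinds occur, and any two involutions of the same kind are conjugate in the group. -/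
theorem result : (∀ g ∈ Cfsg.M24, orderOf g = 2 → (Finset.univ.filter fun p => g p = p) ∈ Cfsg.octads ∨ ∀ p, g p ≠ p) ∧ (∃ g ∈ Cfsg.M24, orderOf g = 2 ∧ (Finset.univ.filter fun p => g p = p) ∈ Cfsg.octads) ∧ (∃ g ∈ Cfsg.M24, orderOf g = 2 ∧ ∀ p, g p ≠ p) ∧ ∀ g ∈ Cfsg.M24, ∀ h ∈ Cfsg.M24, orderOf g = 2 → orderOf h = 2 → ((∀ p, g p ≠ p) ↔ (∀ p, h p ≠ p)) → ∃ k ∈ Cfsg.M24, k * g * k⁻¹ = h := by
  have e : Fx (m24 tA) = bset 6750560 := by
    ext p
    obtain ⟨i, hi, rfl⟩ := exists_gp p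
    rw [mem_Fx, is_tA.gp_iff hi hi, gp_mem_bset hi]
    revert i; decide +kernel
  have o : Fx (m24 tA) ∈ octads := e ▸ bset_oct (by decide +kernel)
  refine ⟨fun g hg h => ?_, ⟨(m24 tA).1, (m24 tA).2, (Subgroup.orderOf_coe _).trans ord_tA, o⟩,
    ⟨(m24 tB).1, (m24 tB).2, (Subgroup.orderOf_coe _).trans ord_tB, card_Fx_zero.1 fx_tB⟩, fun g hg h hh a b c => ?_⟩
  · rcases cls2 (g := ⟨g, hg⟩) ((Subgroup.orderOf_mk g hg).trans h) with k | k
    · obtain ⟨a, k⟩ := isConj_iff.1 k
      rw [← k, Fx_conj, smul_mem_octads] at o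
      exact .inl o
    · exact .inr (card_Fx_zero.1 ((card_Fx_of_conj k).trans fx_tB))
  · have a' := (Subgroup.orderOf_mk g hg).trans a
    have b' := (Subgroup.orderOf_mk h hh).trans b
    have c' : (Fx ⟨g, hg⟩).card = 0 ↔ (Fx ⟨h, hh⟩).card = 0 := by rw [card_Fx_zero, card_Fx_zero]; exact c
    have : IsConj (⟨g, hg⟩ : M24) ⟨h, hh⟩ := by
      by_cases z : (Fx ⟨g, hg⟩).card = 0
      · exact (cls2B a' z).trans (cls2B b' (c'.1 z)).symm
      · exact (cls2A a' z).trans (cls2A b' (mt c'.2 z)).symm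
    obtain ⟨k, e⟩ := isConj_iff.1 this
    exact ⟨k.1, k.2, congrArg Subtype.val e⟩

end Cfsg.Agent.S5394
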