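import Cfsg.Statements.S5401
import Cfsg.Agent.Lib.Fischer.Typ
import Cfsg.Agent.Lib.Fischer.Pr24
import Cfsg.Agent.Lib.Fischer.Ex23

set_option autoImplicit false
open Cfsg

namespace Cfsg.Agent.S5401

/-- Existence of the Fischer 3-transposition groups: there exist finite groups generated by a conjugacy class of 3-transpositions on which they act primitively that are of type M(22), of type M(23), and of type M(24) respectively. -/
theorem result : (∃ (X : Type) (_ : Group X) (_ : Finite X) (E : Set X), Cfsg.IsThreeTranspositionClass E ∧ Cfsg.IsPrimitiveUnderConj E ∧ Cfsg.IsOfTypeM22 X E) ∧ (∃ (X : Type) (_ : Group X) (_ : Finite X) (E : Set X), Cfsg.IsThreeTranspositionClass E ∧ Cfsg.IsPrimitiveUnderConj E ∧ Cfsg.IsOfTypeM23 X E) ∧ (∃ (X : Type) (_ : Group X) (_ : Finite X) (E : Set X), Cfsg.IsThreeTranspositionClass E ∧ Cfsg.IsPrimitiveUnderConj E ∧ Cfsg.IsOfTypeM24 X E) := by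
  obtain ⟨G1, _, _, _, D1, r1, h1, -⟩ := Fi.ex22
  obtain ⟨G2, _, _, _, D2, r2, h2, -⟩ := Fi.ex23
  obtain ⟨_, D3, r3, h3, -⟩ := Fi.P24.md
  exact ⟨⟨G1, _, ‹_›, D1, (Fi.class_of h1.1 (by norm_num) h1.trK1).1, h1.prim, h1.type⟩,
    ⟨G2, _, ‹_›, D2, (Fi.class_of h2.1 (by norm_num) h2.trK1).1, h2.prim, h2.type⟩,
    ⟨_, _, ‹_›, D3, (Fi.class_of h3.1 (by norm_num) h3.trK1).1, h3.prim, h3.type⟩⟩

end Cfsg.Agent.S5401
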