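import Cfsg.Statements.S5424
import Cfsg.Agent.Lib.PU.Tv1

set_option autoImplicit false
open Cfsg

namespace Cfsg.Agent.S5424

/-- Let G be the special linear group of degree n + 2 over the field with two elements, n ≥ 2, let z be a transvection, and let Q be the largest normal 2-subgroup of the centralizer C of z. Then Q is extraspecial of order 2^(2n+1) with an elementary abelian subgroup of order 2^(n+1) (plus type), Q is a large extraspecial 2-subgroup of G, and C is the split extension of Q by the special linear group of degree n over the field with two elements. -/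
theorem result (n : ℕ) (hn : 2 ≤ n) (z : Matrix.SpecialLinearGroup (Fin (n + 2)) (ZMod 2)) (hz : (z : Matrix (Fin (n + 2)) (Fin (n + 2)) (ZMod 2)) = Matrix.transvection 0 1 1) (Q : Subgroup (Matrix.SpecialLinearGroup (Fin (n + 2)) (ZMod 2))) (hQ : Q = (Cfsg.pCore 2 ↥(Subgroup.centralizer ({z} : Set (Matrix.SpecialLinearGroup (Fin (n + 2)) (ZMod 2))))).map (Subgroup.centralizer ({z} : Set (Matrix.SpecialLinearGroup (Fin (n + 2)) (ZMod 2)))).subtype) : Cfsg.IsExtraspecial 2 ↥Q ∧ Nat.card ↥Q = 2 ^ (2 * n + 1) ∧ (∃ E : Subgroup (Matrix.SpecialLinearGroup (Fin (n + 2)) (ZMod 2)), E ≤ Q ∧ Cfsg.IsElementaryAbelian 2 E ∧ Nat.card ↥E = 2 ^ (n + 1)) ∧ Cfsg.IsLargeExtraspecial Q ∧ ∃ K : Subgroup (Matrix.SpecialLinearGroup (Fin (n + 2)) (ZMod 2)), K ≤ Subgroup.centralizer ({z} : Set (Matrix.SpecialLinearGroup (Fin (n + 2)) (ZMod 2))) ∧ Q ⊓ K = ⊥ ∧ Q ⊔ K = Subgroup.centralizer ({z} : Set (Matrix.SpecialLinearGroup (Fin (n +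 2)) (ZMod 2))) ∧ Nonempty (↥K ≃* Matrix.SpecialLinearGroup (Fin n) (ZMod 2)) := by
  have h01 : (0 : Fin (n + 2)) ≠ 1 := Fin.zero_ne_one
  have : z = PU.Tv.tv h01 := Subtype.ext hz
  subst this
  have h3 : Fintype.card (PU.Tv.Mid (0 : Fin (n + 2)) 1) = n := by
    have := PU.Tv.card_mid h01
    rw [Fintype.card_fin] at this; omega
  rw [PU.Tv.Op_C PU.Tv.two_zmod h01] at hQ
  subst hQ
  obtain ⟨m⟩ := PU.Tv.exists_mid h01 (by rw [Fintype.card_fin]; omega)
  obtain ⟨K, h1, h2, h4, ⟨e⟩⟩ := PU.Tv.exists_K PU.Tv.two_zmod h01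
  obtain ⟨E, e1, e2, e3⟩ := PU.Tv.exists_E PU.Tv.two_zmod h01
  exact ⟨PU.Tv.extra_QQ _ h01 m, by rw [PU.Tv.card_QQ, h3], ⟨E, e1, e2, by rw [e3, h3]⟩, PU.Tv.large_QQ _ h01 m,
    K, h1, h2, h4, ⟨e.trans (PU.Tv.slCongr (Fintype.equivFinOfCardEq h3))⟩⟩

end Cfsg.Agent.S5424
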