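import Cfsg.Statements.S5432
import Cfsg.Agent.Lib.Ez.J7

set_option autoImplicit false
open Cfsg

namespace Cfsg.Agent.S5432

/-- Let E be an extraspecial 2-group of order 2^(2n+1), n ≥ 1. If E contains an elementary abelian subgroup of order 2^(n+1) (plus type), then its outer automorphism group is isomorphic to the full isometry group of the hyperbolic quadratic form in dimension 2n over the field with two elements; otherwise (minus type) it is isomorphic to the full isometry group of the elliptic quadratic form in dimension 2n over that field. -/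
theorem result {E : Type*} [Group E] [Finite E] (hE : Cfsg.IsExtraspecial 2 E) (n : ℕ) (hn : 1 ≤ n) (hcard : Nat.card E = 2 ^ (2 * n + 1)) : ((∃ A : Subgroup E, Cfsg.IsElementaryAbelian 2 A ∧ Nat.card ↥A = 2 ^ (n + 1)) → Nonempty (Cfsg.Out E ≃* Cfsg.isometryGroup (ZMod 2) (Cfsg.quadFormPlus n (ZMod 2)))) ∧ ((¬ ∃ A : Subgroup E, Cfsg.IsElementaryAbelian 2 A ∧ Nat.card ↥A = 2 ^ (n + 1)) → Nonempty (Cfsg.Out E ≃* Cfsg.isometryGroup (ZMod 2) (Cfsg.quadFormMinus (n - 1) (ZMod 2) 1 1))) := by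
  open Cfsg.Agent.Classical Module in
  have h0 := (S3763.result.{_, 0} hE n hcard).1
  constructor
  · rintro ⟨A, hA, hA2⟩
    have h1 : ¬ PRankLE 2 n E := fun h => by
      have := h A hA.1 hA.2
      rw [hA2, Nat.pow_le_pow_iff_right (by norm_num)] at this
      omega
    have h2 := (h0.resolve_left fun h => h1 h.1).1
    have hΦ := plusForm_nondeg (F := ZMod 2) n
    have hV : finrank (ZMod 2) (Fin n ⊕ Fin n → ZMod 2) = 2 * n := by simp; ring
    obtain ⟨β, b1, b2, b3, b4, b5, b6⟩ := Ez.Xo.model hΦ hn hV ⟨_, plusTS_TS n, finrank_plusTS n⟩ fun W hW => by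
      have := hW.two_finrank_le hΦ; omega
    haveI : Finite (S5396.ExG β) := Finite.of_equiv _ S5396.eqv.symm
    obtain ⟨e⟩ := (S3763.result hE n hcard).2 _ b3 (b4.trans hcard.symm) (Ez.Xo.rank_iff h2 h1 b5 b6)
    exact Ez.Xo.out_iso hE b2 e _ b1
  · intro hA
    obtain ⟨m, rfl⟩ : ∃ m, n = m + 1 := ⟨n - 1, by omega⟩
    have h1 : PRankLE 2 (m + 1) E ∧ ¬ PRankLE 2 m E := h0.resolve_right fun h => h.2 fun A a b => by
      by_contra h3
      haveI := Fact.mk Nat.prime_two
      obtain ⟨k, hk⟩ := IsPGroup.iff_card.1 (hE.1.1.to_subgroup A)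
      have h4 := h.1 A a b
      rw [hk, Nat.pow_le_pow_iff_right (by norm_num)] at h3 h4
      exact hA ⟨A, ⟨a, b⟩, by rw [hk]; congr 1; omega⟩
    have hΦ := minusForm_nondeg m F2.aniso11
    have hV : finrank (ZMod 2) ((Fin m ⊕ Fin m) ⊕ Fin 2 → ZMod 2) = 2 * (m + 1) := by simp; ring
    obtain ⟨β, b1, b2, b3, b4, b5, b6⟩ := Ez.Xo.model (m := m) hΦ hn hV (by
      let f : (Fin m → ZMod 2) →ₗ[ZMod 2] ((Fin m ⊕ Fin m) ⊕ Fin 2 → ZMod 2) :=
        LinearMap.pi (Sum.elim (Sum.elim (fun j => LinearMap.proj j) fun _ => 0) fun _ => 0)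
      refine ⟨LinearMap.range f, Form.TS_orth ?_, by
        rw [LinearMap.finrank_range_of_inj fun x y h => funext fun j => congrFun h (.inl (.inl j))]; simp⟩
      rintro _ ⟨x, rfl⟩
      simp [minusForm_N, quadFormMinus, f]) fun W hW => by
        have := hW.two_finrank_le hΦ
        by_contra h
        have := ((isType_one_iff hΦ hV).2 ⟨W, by omega, hW⟩).unique (minusForm_isType m F2.aniso11)
        omega
    haveI : Finite (S5396.ExG β) := Finite.of_equiv _ S5396.eqv.symm
    obtain ⟨e⟩ := (S3763.result hE _ hcard).2 _ b3 (b4.trans hcard.symm) (Ez.Xo.rank_iff h1.1 h1.2 b5 b6)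
    exact Ez.Xo.out_iso hE b2 e _ b1

end Cfsg.Agent.S5432
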