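import Cfsg.Statements.S5435
import Cfsg.Agent.Lib.Transfer.AutS
import Cfsg.Agent.Lib.Transfer.BS
import Cfsg.Agent.Lib.Transfer.Hall
import Cfsg.Agent.Lib.Solv.PGrp
import Cfsg.Agent.Lib.Solv.Frattini

set_option autoImplicit false
open Cfsg

namespace Cfsg.Agent.S5435

set_option linter.unusedSectionVars false
set_option linter.unusedVariables false
set_option linter.style.haveILetI false
set_option linter.unusedSimpArgs false

open Subgroup Cfsg.Agent.Transfer
theorem central_tt {G : Type*} [Group G] [Finite G] (hG : ∀ φ : G →* ℤˣ, φ = 1) (R : Sylow 2 G)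
    (hN : ∀ g : G, (∀ x ∈ (R : Subgroup G), g⁻¹ * x * g ∈ (R : Subgroup G)) → g ∈ (R : Subgroup G))
    {M : Subgroup G} (hM : M ≤ R) (hi : M.relIndex R = 2) {e : G} (he : e ^ 2 = 1)
    (hc : ∀ x ∈ (R : Subgroup G), x * e = e * x) : e ∈ M := by
  classical
  haveI := Fintype.ofFinite (G ⧸ M)
  have k : ∀ (H : Subgroup G) (g x : G), x • (g : G ⧸ H) = g ↔ g⁻¹ * x * g ∈ H := fun H g x => by
    rw [MulAction.Quotient.smul_coe, eq_comm, QuotientGroup.eq, smul_eq_mul, mul_assoc]
  have s2 : MulAction.toPermHom G (G ⧸ M) e ^ 2 = 1 := by rw [← map_pow, he, map_one]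
  have s1 := Equiv.Perm.sign_of_pow_two_eq_one s2
  have s3 := Equiv.Perm.card_fixedPoints_modEq (p := 2) (n := 1) (α := G ⧸ M) (f := ⇑(MulAction.toPermHom G (G ⧸ M) e))
    (funext fun x => DFunLike.congr_fun s2 x)
  have s4 : Fintype.card (Function.fixedPoints (MulAction.toPermHom G (G ⧸ M) e)) ≤ Fintype.card (G ⧸ M) :=
    Fintype.card_subtype_le _
  rw [show Equiv.Perm.sign (MulAction.toPermHom G (G ⧸ M) e) = 1 from
    DFunLike.congr_fun (hG (Equiv.Perm.sign.comp (MulAction.toPermHom G (G ⧸ M)))) e, eq_comm,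
    neg_one_pow_eq_one_iff_even (by decide)] at s1
  have s5 : Fintype.card (G ⧸ M) = 2 * (R : Subgroup G).index := by
    have := relIndex_mul_index hM
    rw [hi] at this
    rw [← Nat.card_eq_fintype_card, this]; rfl
  obtain ⟨j, hj⟩ := odd_index_sylow_two R
  have nM : ∀ r ∈ (R : Subgroup G), ∀ x ∈ M, r⁻¹ * x * r ∈ M := fun r hr x hx => by
    have := (normal_of_index_eq_two hi).conj_mem ⟨x, hM hx⟩ hx ⟨r, hr⟩⁻¹
    simpa [mem_subgroupOf] using this
  let T : SubMulAction (R : Subgroup G) (G ⧸ (R : Subgroup G)) :=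
    ⟨{c | ∃ g : G, (g : G ⧸ (R : Subgroup G)) = c ∧ g⁻¹ * e * g ∈ M}, by
      rintro r _ ⟨g, rfl, hg⟩
      refine ⟨r * g, rfl, ?_⟩
      rwa [mul_inv_rev, mul_assoc g⁻¹, mul_assoc g⁻¹, ← mul_assoc _ (r : G), mul_assoc _ e, ← hc r r.2,
        inv_mul_cancel_left, ← mul_assoc]⟩
  have c1 := QuotientGroup.card_preimage_mk M (Function.fixedPoints (MulAction.toPermHom G (G ⧸ M) e))
  have c2 := QuotientGroup.card_preimage_mk (R : Subgroup G) (T : Set (G ⧸ (R : Subgroup G)))
  rw [show QuotientGroup.mk ⁻¹' (T : Set (G ⧸ (R : Subgroup G))) =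
      QuotientGroup.mk ⁻¹' (Function.fixedPoints (MulAction.toPermHom G (G ⧸ M) e)) by
    ext g
    refine ⟨fun ⟨g', h1, h2⟩ => (k M g e).2 ?_, fun h => ⟨g, rfl, (k M g e).1 h⟩⟩
    simpa [mul_assoc] using nM _ (QuotientGroup.eq.1 h1) _ h2, c1, ← card_mul_relIndex hM, hi, mul_assoc,
    Nat.card_eq_fintype_card (α := Function.fixedPoints _)] at c2
  have c3 := Nat.eq_of_mul_eq_mul_left Nat.card_pos c2
  obtain ⟨⟨_, g, rfl, hg⟩, h⟩ := R.2.nonempty_fixed_point_of_prime_not_dvd_card T (by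
    rintro ⟨l, hl⟩
    obtain ⟨m, hm⟩ := s1
    have : Nat.card (T : Set (G ⧸ (R : Subgroup G))) = 2 * l := hl
    unfold Nat.ModEq at s3
    omega)
  have := nM _ (inv_mem (hN g fun x hx => (k _ g x).1 (congrArg Subtype.val (h ⟨x, hx⟩)))) _ hg
  simpa [mul_assoc] using this

/-- Let L be a finite non-abelian simple group with an involution z whose centralizer R is a Sylow 2-subgroup of L whose Frattini subgroup is the subgroup generated by z. Then R is dihedral of order 8. -/
theorem result {L : Type*} [Group L] [Finite L] [IsSimpleGroup L] (hL : ¬ IsMulCommutative L) (z : L) (hz : orderOf z = 2) (R : Sylow 2 L) (hR : (R : Subgroup L) = Subgroup.centralizer ({z} : Set L)) (hΦ : (frattini ↥(R : Subgroup L)).map (R : Subgroup L).subtype = Subgroup.zpowers z) : Nonempty (↥(R : Subgroup L) ≃* DihedralGroup 4) := by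
  have z2 : z * z = 1 := by rw [← pow_two, ← hz, pow_orderOf_eq_one]
  have z1 : z ≠ 1 := fun e => by simp [e] at hz
  have zp : ∀ t : L, orderOf t = 2 → ∀ x ∈ zpowers t, x = 1 ∨ x = t := fun t ht x hx => by
    classical
    obtain ⟨k, hk, rfl⟩ := Finset.mem_image.1 (mem_zpowers_iff_mem_range_orderOf.1 hx)
    rw [ht, Finset.mem_range] at hk
    interval_cases k <;> simp
  have mR : ∀ x, x ∈ (R : Subgroup L) ↔ x * z = z * x := fun x => by rw [hR, mem_centralizer_singleton_iff]
  have sq : ∀ x ∈ (R : Subgroup L), x ^ 2 = 1 ∨ x ^ 2 = z := fun x hx =>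
    zp z hz _ (hΦ ▸ Solv.pow_mem_map_frattini R.2 hx)
  have cm : ∀ x ∈ (R : Subgroup L), ∀ y ∈ (R : Subgroup L), x * y = y * x ∨ x * y = z * (y * x) := fun x hx y hy =>
    (zp z hz _ (hΦ ▸ Solv.commutator_le_map_frattini R.2.isNilpotent (commutator_mem_commutator hx hy))).imp
      (fun h => commutatorElement_eq_one_iff_mul_comm.1 h) fun h => by rw [← h, commutatorElement_def]; group
  have hG : ∀ φ : L →* ℤˣ, φ = 1 := fun φ => by
    rcases (inferInstance : φ.ker.Normal).eq_bot_or_eq_top with h | h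
    · exact absurd ⟨⟨fun a b => (MonoidHom.ker_eq_bot_iff φ).1 h (by simp [mul_comm])⟩⟩ hL
    · exact MonoidHom.ker_eq_top_iff.1 h
  have hN : ∀ g : L, (∀ x ∈ (R : Subgroup L), g⁻¹ * x * g ∈ (R : Subgroup L)) → g ∈ (R : Subgroup L) := fun g hg => by
    have h1 : g⁻¹ ∈ normalizer ((R : Subgroup L) : Set L) :=
      mem_normalizer_of_conj_mem fun x hx => by simpa using hg x hx
    have h2 := conj_mem_of_mem_normalizer (normalizer_le_normalizer_map_of_characteristic
      (frattini (R : Subgroup L)) h1) (hΦ ▸ mem_zpowers z)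
    rcases zp z hz _ (hΦ ▸ h2) with e | e
    · exact absurd (conj_eq_one_iff.1 e) z1
    · exact (inv_mem_iff.1 ((mR _).2 (mul_inv_eq_iff_eq_mul.1 e)))
  have cen : ∀ e ∈ (R : Subgroup L), e ^ 2 = 1 → (∀ x ∈ (R : Subgroup L), x * e = e * x) → e = 1 ∨ e = z :=
    fun e he h2 hc => zp z hz _ (hΦ ▸ ⟨⟨e, he⟩, Solv.mem_frattini_iff.2 fun M hM => by
      have := central_tt hG R hN (map_subtype_le M) (by
        rw [relIndex, subgroupOf, comap_map_eq_self_of_injective (subtype_injective _),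
          Solv.index_eq_of_coatom_of_isPGroup R.2 hM]) h2 hc
      obtain ⟨y, hy, e⟩ := this
      exact (show y = ⟨_, he⟩ from Subtype.ext e) ▸ hy, rfl⟩)
  obtain ⟨g, hg1, hg2⟩ : ∃ g : L, Commute z (g * z * g⁻¹) ∧ g * z * g⁻¹ ≠ z := by
    by_contra h
    push Not at h
    have h1 := zstar_center ⟨hz, h⟩ (oddCore_eq_bot_of_simple (even_iff_two_dvd.2 (hz ▸ orderOf_dvd_natCard z)))
    rcases (inferInstance : (center L).Normal).eq_bot_or_eq_top with e | e
    · exact z1 (by simpa [e] using h1)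
    · exact hL ⟨⟨fun a b => mem_center_iff.1 (e ▸ mem_top b) a⟩⟩
  have tR := (mR _).2 hg1.eq.symm
  have t1 : g * z * g⁻¹ ≠ 1 := fun e => z1 (conj_eq_one_iff.1 e)
  have sA : ∀ a ∈ (R : Subgroup L), a * (g * z * g⁻¹) = g * z * g⁻¹ * a → a ^ 2 = 1 := fun a ha h => by
    refine (sq a ha).resolve_right fun e => ?_
    rcases sq (g⁻¹ * a * g⁻¹⁻¹) ((mR _).2 (by
      calc _ = g⁻¹ * (a * (g * z * g⁻¹)) * g := by group
        _ = _ := by rw [h]; group)) with e' | e'
    · rw [conj_pow, conj_eq_one_iff, e] at e'; exact z1 e'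
    · rw [conj_pow, e] at e'
      exact hg2 (by calc g * z * g⁻¹ = g * (g⁻¹ * z * g⁻¹⁻¹) * g⁻¹ := by rw [e']
        _ = z := by group)
  generalize g * z * g⁻¹ = t at *
  have t2 := sA t tR rfl
  have zR : z ∈ (R : Subgroup L) := (mR z).2 rfl
  obtain ⟨x, hx, hxt, hx2⟩ : ∃ x ∈ (R : Subgroup L), x * t = z * (t * x) ∧ x ^ 2 = z := by
    obtain ⟨x, hx, h⟩ : ∃ x ∈ (R : Subgroup L), x * t ≠ t * x := by
      by_contra h
      push Not at h
      exact (cen t tR t2 h).elim t1 hg2
    have h' := (cm x hx t tR).resolve_left h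
    rcases sq x hx with e | e
    · refine ⟨x * t, mul_mem hx tR, by
        calc x * t * t = z * (t * x) * t := by rw [← h']
          _ = _ := by group, ?_⟩
      rw [pow_two] at e t2 ⊢
      calc x * t * (x * t) = z * (t * x) * (x * t) := by rw [← h']
        _ = z * (t * (x * x) * t) := by group
        _ = z := by rw [e, mul_one, t2, mul_one]
    · exact ⟨x, hx, h', e⟩
  have ab : ∀ a ∈ (R : Subgroup L), a * t = t * a → ∀ b ∈ (R : Subgroup L), b * t = t * b → a * b = b * a :=
    fun a ha h b hb h' => by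
      have e1 := sA a ha h
      have e2 := sA b hb h'
      have e3 := sA _ (mul_mem ha hb) (by rw [mul_assoc, h', ← mul_assoc, h, mul_assoc])
      rw [pow_two] at e1 e2 e3
      calc a * b = (a * b)⁻¹ := (inv_eq_of_mul_eq_one_right e3).symm
        _ = _ := by rw [mul_inv_rev, inv_eq_of_mul_eq_one_right e1, inv_eq_of_mul_eq_one_right e2]
  have sp : ∀ y ∈ (R : Subgroup L), y * t = t * y ∨ x * y * t = t * (x * y) := fun y hy =>
    (cm y hy t tR).imp_right fun h => by
      rw [mul_assoc, h, ← mul_assoc, (mR x).1 hx, mul_assoc, ← mul_assoc x, hxt, ← mul_assoc, ← mul_assoc z, z2]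
      group
  have c2 : ∀ a ∈ (R : Subgroup L), a * t = t * a → x * a = a * x → a = 1 ∨ a = z := fun a ha h h' =>
    cen a ha (sA a ha h) fun y hy => (sp y hy).elim (fun e => ab y hy e a ha h) fun e => by
      have := ab _ (mul_mem hx hy) e a ha h
      rw [← mul_assoc a, ← h', mul_assoc, mul_assoc] at this
      exact mul_left_cancel this
  have hx' := mem_sup_left (T := zpowers t) (mem_zpowers x)
  have ht' := mem_sup_right (S := zpowers x) (mem_zpowers t)
  have hz' : z ∈ zpowers x ⊔ zpowers t := hx2 ▸ pow_mem hx' 2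
  have c3 : ∀ a ∈ (R : Subgroup L), a * t = t * a → a ∈ zpowers x ⊔ zpowers t := fun a ha h => by
    rcases cm x hx a ha with e | e
    · rcases c2 a ha h e with rfl | rfl
      · exact one_mem _
      · exact hz'
    · refine (Subgroup.mul_mem_cancel_right _ ht').1 ?_
      rcases c2 _ (mul_mem ha tR) (by rw [← mul_assoc t, h]) (by
        calc x * (a * t) = z * (a * (x * t)) := by rw [← mul_assoc, e]; group
          _ = z * (a * z) * (t * x) := by rw [hxt]; group
          _ = _ := by rw [(mR a).1 ha, ← mul_assoc z, z2]; group) with e' | e' <;> rw [e']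
      · exact one_mem _
      · exact hz'
  have ox : orderOf x = 4 := orderOf_eq_prime_pow (p := 2) (n := 1) (by simpa [hx2] using z1)
    (by rw [show 2 ^ (1 + 1) = 2 * 2 from rfl, pow_mul, hx2, pow_two, z2])
  rw [← ox]
  refine Solv.nonempty_dihedral_of_gens (b := t) (fun ⟨k, hk⟩ => z1 ?_) (le_antisymm (fun y hy => ?_)
    (sup_le (zpowers_le.2 hx) (zpowers_le.2 tR))) t2 ?_
  · have : x * t = t * x := by rw [← hk]; exact (Commute.refl x).zpow_right k
    rw [this] at hxt
    exact (by simpa using hxt : z = 1)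
  · exact (sp y hy).elim (c3 y hy) fun h => (Subgroup.mul_mem_cancel_left _ hx').1 (c3 _ (mul_mem hx hy) h)
  · rw [mul_inv_eq_iff_eq_mul, eq_inv_mul_iff_mul_eq, ← mul_assoc, hxt, mul_assoc, mul_assoc, ← pow_two, hx2,
      (mR t).1 tR, ← mul_assoc, z2, one_mul]

end Cfsg.Agent.S5435
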