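import Cfsg.Statements.S5437


set_option autoImplicit false
open Cfsg

namespace Cfsg.Agent.S5437

set_option linter.unusedSectionVars false
set_option linter.unusedVariables false
set_option linter.style.haveILetI false
set_option linter.unusedSimpArgs false

/-- Let I be a set of involutions of the finite group G closed under conjugation, and H a subgroup of G. The following are equivalent: (1) for every member x of I lying in H, the conjugates of x lying in H form a single H-class and the centralizer of x lies in H; (2) for every g outside H, no member of I lies in both H and g H g⁻¹; (3) every member of I lying in H fixes exactly one coset in the action of G on the cosets of H. -/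
theorem result {G : Type*} [Group G] [Finite G] (I : Set G) (hI : ∀ x ∈ I, orderOf x = 2) (hIc : ∀ g : G, ∀ x ∈ I, g * x * g⁻¹ ∈ I) (H : Subgroup G) : ((∀ x ∈ I, x ∈ H → (∀ g : G, g * x * g⁻¹ ∈ H → ∃ h ∈ H, h * x * h⁻¹ = g * x * g⁻¹) ∧ Subgroup.centralizer ({x} : Set G) ≤ H) ↔ (∀ g : G, g ∉ H → ∀ x ∈ I, ¬ (x ∈ H ∧ x ∈ (H : Subgroup G).map (MulAut.conj g).toMonoidHom))) ∧ ((∀ g : G, g ∉ H → ∀ x ∈ I, ¬ (x ∈ H ∧ x ∈ (H : Subgroup G).map (MulAut.conj g).toMonoidHom)) ↔ ∀ x ∈ I, x ∈ H → ∃! c : G ⧸ H, x • c = c) := by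
  have k : ∀ (g x : G), x • (g : G ⧸ H) = g ↔ g⁻¹ * x * g ∈ H := fun g x => by
    rw [MulAction.Quotient.smul_coe, eq_comm, QuotientGroup.eq, smul_eq_mul, mul_assoc]
  have a : (∀ x ∈ I, x ∈ H → (∀ g : G, g * x * g⁻¹ ∈ H → ∃ h ∈ H, h * x * h⁻¹ = g * x * g⁻¹) ∧
      Subgroup.centralizer ({x} : Set G) ≤ H) ↔ ∀ x ∈ I, x ∈ H → ∀ g : G, g * x * g⁻¹ ∈ H → g ∈ H := by
    refine forall₃_congr fun x hx hxH => ⟨fun ⟨h1, h2⟩ g hg => ?_, fun h => ⟨fun g hg => ⟨g, h g hg, rfl⟩,
      fun g hg => h g ?_⟩⟩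
    · obtain ⟨h, hh, e⟩ := h1 g hg
      refine (H.mul_mem_cancel_left (inv_mem hh)).1 (h2 (Subgroup.mem_centralizer_singleton_iff.2 ?_))
      calc h⁻¹ * g * x = h⁻¹ * (g * x * g⁻¹) * g := by group
        _ = x * (h⁻¹ * g) := by rw [← e]; group
    · rw [Subgroup.mem_centralizer_singleton_iff.1 hg]; simpa using hxH
  have b : (∀ g : G, g ∉ H → ∀ x ∈ I, ¬ (x ∈ H ∧ x ∈ (H : Subgroup G).map (MulAut.conj g).toMonoidHom)) ↔
      ∀ x ∈ I, x ∈ H → ∀ g : G, g * x * g⁻¹ ∈ H → g ∈ H := by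
    constructor
    · intro h x hx hxH g hg
      by_contra hn
      exact h g⁻¹ (by simpa using hn) x hx ⟨hxH, _, hg, by simp [mul_assoc]⟩
    · rintro h g hg x hx ⟨h1, y, hy, rfl⟩
      exact hg (by simpa using h _ hx h1 g⁻¹ (by simpa [mul_assoc] using hy))
  refine ⟨a.trans b.symm, b.trans (forall₃_congr fun x hx hxH => ⟨fun h => ⟨(1 : G), (k 1 x).2 (by simpa using hxH),
    fun c hc => ?_⟩, fun h g hg => ?_⟩)⟩
  · obtain ⟨g, rfl⟩ := QuotientGroup.mk_surjective c
    exact QuotientGroup.eq.2 (by simpa using h g⁻¹ (by simpa using (k g x).1 hc))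
  · have := h.unique ((k g⁻¹ x).2 (by simpa using hg)) ((k 1 x).2 (by simpa using hxH))
    simpa using QuotientGroup.eq.1 this

end Cfsg.Agent.S5437
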