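import Cfsg.Statements.S5438


set_option autoImplicit false
open Cfsg

namespace Cfsg.Agent.S5438

set_option linter.unusedSectionVars false
set_option linter.unusedVariables false
set_option linter.style.haveILetI false
set_option linter.unusedSimpArgs false

/-- Let z be a 2-central involution of the finite group G (an involution central in some Sylow 2-subgroup) and H a subgroup containing z such that the coset H is the only coset of H fixed by z (in the action of G on the cosets of H). Then H has odd index in G, and for every 2-element x of H the conjugates of x lying in H form a single H-class. -/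
theorem result {G : Type*} [Group G] [Finite G] (z : G) (hz : Cfsg.IsTwoCentralInvolution z) (H : Subgroup G) (hzH : z ∈ H) (hfix : ∀ g : G, g⁻¹ * z * g ∈ H → g ∈ H) : Odd H.index ∧ ∀ x ∈ H, (∃ k : ℕ, orderOf x = 2 ^ k) → ∀ g : G, g * x * g⁻¹ ∈ H → ∃ h ∈ H, h * x * h⁻¹ = g * x * g⁻¹ := by
  have k : ∀ (g x : G), x • (g : G ⧸ H) = g ↔ g⁻¹ * x * g ∈ H := fun g x => by
    rw [MulAction.Quotient.smul_coe, eq_comm, QuotientGroup.eq, smul_eq_mul, mul_assoc]
  obtain ⟨hz2, S, hzS, hS⟩ := hz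
  have pz : ∀ y : G, (∃ k : ℕ, orderOf y = 2 ^ k) → IsPGroup 2 (Subgroup.zpowers y) := fun y ⟨k, hk⟩ =>
    IsPGroup.of_card (by rw [Nat.card_zpowers, hk])
  have odd : Odd H.index := by
    have h1 := (pz z ⟨1, hz2⟩).card_modEq_card_fixedPoints (G ⧸ H)
    have h2 : MulAction.fixedPoints (Subgroup.zpowers z) (G ⧸ H) = {((1 : G) : G ⧸ H)} := by
      ext c
      obtain ⟨g, rfl⟩ := QuotientGroup.mk_surjective c
      constructor
      · intro h
        exact QuotientGroup.eq.2 (by simpa using hfix g ((k g z).1 (h ⟨z, Subgroup.mem_zpowers z⟩)))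
      · rintro h ⟨y, hy⟩
        rw [Set.mem_singleton_iff.1 h]
        exact (k 1 y).2 (by simpa using (Subgroup.zpowers_le.2 hzH) hy)
    rw [h2, Nat.card_unique (α := ({((1 : G) : G ⧸ H)} : Set _))] at h1
    exact Nat.odd_iff.2 h1
  have hSH : (S : Subgroup G) ≤ H := fun x hx => hfix x (by rw [mul_assoc, ← hS x hx]; simpa using hzH)
  have c1 : ∀ x ∈ H, (∃ k : ℕ, orderOf x = 2 ^ k) → ∃ h ∈ H, Commute (h * z * h⁻¹) x := fun x hx ho => by
    obtain ⟨T, hT⟩ := (pz x ho).comap_subtype (K := H) |>.exists_le_sylow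
    obtain ⟨h, e⟩ := MulAction.exists_smul_eq H T (S.subtype hSH)
    have h1 : (⟨x, hx⟩ : H) ∈ T := hT (Subgroup.mem_zpowers x)
    have h2 : h * ⟨x, hx⟩ * h⁻¹ ∈ S.subtype hSH := e ▸ Subgroup.smul_mem_pointwise_smul _ (MulAut.conj h) _ h1
    refine ⟨h⁻¹, inv_mem h.2, ?_⟩
    have h3 : (h : G) * x * (h : G)⁻¹ * z = z * (h * x * (h : G)⁻¹) := hS _ h2
    show _ = _
    calc (h : G)⁻¹ * z * (h : G)⁻¹⁻¹ * x = (h : G)⁻¹ * (z * (h * x * (h : G)⁻¹)) * h := by group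
      _ = _ := by rw [← h3]; group
  refine ⟨odd, fun x hx ho g hg => ?_⟩
  obtain ⟨h1, hh1, e1⟩ := c1 x hx ho
  obtain ⟨h2, hh2, e2⟩ := c1 _ hg (by rwa [← MulAut.conj_apply, MulEquiv.orderOf_eq])
  have m1 : h1 * z * h1⁻¹ ∈ Subgroup.centralizer {x} := Subgroup.mem_centralizer_singleton_iff.2 e1
  have m2 : g⁻¹ * h2 * z * (g⁻¹ * h2)⁻¹ ∈ Subgroup.centralizer {x} := Subgroup.mem_centralizer_singleton_iff.2 (by
    calc g⁻¹ * h2 * z * (g⁻¹ * h2)⁻¹ * x = g⁻¹ * (h2 * z * h2⁻¹ * (g * x * g⁻¹)) * g := by group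
      _ = _ := by rw [e2.eq]; group)
  have o : ∀ y : G, ∃ k : ℕ, orderOf (y * z * y⁻¹) = 2 ^ k := fun y =>
    ⟨1, by rw [← MulAut.conj_apply, MulEquiv.orderOf_eq, hz2, pow_one]⟩
  obtain ⟨T1, hT1⟩ := (pz _ (o h1)).comap_subtype (K := Subgroup.centralizer {x}) |>.exists_le_sylow
  obtain ⟨T2, hT2⟩ := (pz _ (o (g⁻¹ * h2))).comap_subtype (K := Subgroup.centralizer {x}) |>.exists_le_sylow
  obtain ⟨c, e⟩ := MulAction.exists_smul_eq (Subgroup.centralizer {x}) T2 T1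
  have n1 : (⟨_, m1⟩ : Subgroup.centralizer {x}) ∈ T1 := hT1 (Subgroup.mem_zpowers _)
  have n2 : c * ⟨_, m2⟩ * c⁻¹ ∈ T1 :=
    e ▸ Subgroup.smul_mem_pointwise_smul _ (MulAut.conj c) _ (hT2 (Subgroup.mem_zpowers _))
  obtain ⟨q, hq⟩ := T1.2.nonempty_fixed_point_of_prime_not_dvd_card (G ⧸ H)
    (fun h => (Nat.not_even_iff_odd.2 odd) (even_iff_two_dvd.2 h))
  obtain ⟨q, rfl⟩ := QuotientGroup.mk_surjective q
  have r1 := hfix (h1⁻¹ * q) (by simpa [mul_assoc] using (k q _).1 (hq ⟨_, n1⟩))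
  have r2 := hfix ((c * (g⁻¹ * h2))⁻¹ * q) (by simpa [mul_assoc] using (k q _).1 (hq ⟨_, n2⟩))
  refine ⟨g * c.1⁻¹, ?_, ?_⟩
  · have := mul_mem (mul_mem (mul_mem hh2 r2) (inv_mem r1)) (inv_mem hh1)
    simpa [mul_assoc] using this
  · have := Subgroup.mem_centralizer_singleton_iff.1 (inv_mem c.2)
    rw [mul_assoc g, this]; group

end Cfsg.Agent.S5438
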