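import Cfsg.Statements.S5439


set_option autoImplicit false
open Cfsg

namespace Cfsg.Agent.S5439

set_option linter.unusedSectionVars false
set_option linter.unusedVariables false
set_option linter.style.haveILetI false
set_option linter.unusedSimpArgs false

/-- Let I and J be two different conjugacy classes of involutions of the finite group G and H a subgroup such that every member of I ∪ J fixes exactly one coset in the action on the cosets of H, and such that for every a in I ∩ H and every b in (I ∪ J) ∩ H different from a and commuting with it, the centralizer of a b lies in H. Then H = G. -/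
theorem result {G : Type*} [Group G] [Finite G] (I J : Set G) (a₀ b₀ : G) (ha₀ : orderOf a₀ = 2) (hb₀ : orderOf b₀ = 2) (hI : I = {x | IsConj a₀ x}) (hJ : J = {x | IsConj b₀ x}) (hIJ : I ≠ J) (H : Subgroup G) (hfix : ∀ x ∈ I ∪ J, ∃! c : G ⧸ H, x • c = c) (hcent : ∀ a ∈ I, a ∈ H → ∀ b ∈ I ∪ J, b ∈ H → a ≠ b → a * b = b * a → Subgroup.centralizer ({a * b} : Set G) ≤ H) : H = ⊤ := by
  have k : ∀ (g x : G), x • (g : G ⧸ H) = g ↔ g⁻¹ * x * g ∈ H := fun g x => by
    rw [MulAction.Quotient.smul_coe, eq_comm, QuotientGroup.eq, smul_eq_mul, mul_assoc]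
  have cI : ∀ g x, x ∈ I → g * x * g⁻¹ ∈ I := fun g x hx => by
    rw [hI] at hx ⊢; exact IsConj.trans hx (isConj_iff.2 ⟨g, rfl⟩)
  have cJ : ∀ g x, x ∈ J → g * x * g⁻¹ ∈ J := fun g x hx => by
    rw [hJ] at hx ⊢; exact IsConj.trans hx (isConj_iff.2 ⟨g, rfl⟩)
  have sq : ∀ x ∈ I ∪ J, x * x = 1 ∧ x ≠ 1 := by
    have : ∀ c x : G, orderOf c = 2 → IsConj c x → x * x = 1 ∧ x ≠ 1 := fun c x hc h => by
      obtain ⟨g, rfl⟩ := isConj_iff.1 h
      have h1 : c * c = 1 := by rw [← pow_two, ← hc, pow_orderOf_eq_one]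
      refine ⟨by simp [mul_assoc, ← mul_assoc c c, h1], fun e => ?_⟩
      rw [conj_eq_one_iff] at e; simp [e] at hc
    rintro x (hx | hx)
    · exact this _ _ ha₀ (by rwa [hI] at hx)
    · exact this _ _ hb₀ (by rwa [hJ] at hx)
  have u : ∀ x ∈ I ∪ J, x ∈ H → ∀ g, g⁻¹ * x * g ∈ H → g ∈ H := fun x hx hxH g hg => by
    have := (hfix x hx).unique ((k 1 x).2 (by simpa using hxH)) ((k g x).2 hg)
    simpa using QuotientGroup.eq.1 this
  have ex : ∀ x ∈ I ∪ J, ∃ g, g⁻¹ * x * g⁻¹⁻¹ ∈ H := fun x hx => by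
    obtain ⟨c, hc, -⟩ := hfix x hx
    obtain ⟨g, rfl⟩ := QuotientGroup.mk_surjective c
    exact ⟨g, by simpa using (k g x).1 hc⟩
  obtain ⟨g1, h1⟩ := ex a₀ (Or.inl (by rw [hI]; exact IsConj.refl _))
  obtain ⟨g2, h2⟩ := ex b₀ (Or.inr (by rw [hJ]; exact IsConj.refl _))
  have ha := cI g1⁻¹ a₀ (by rw [hI]; exact IsConj.refl _)
  have hb := cJ g2⁻¹ b₀ (by rw [hJ]; exact IsConj.refl _)
  generalize g1⁻¹ * a₀ * g1⁻¹⁻¹ = a at h1 ha
  generalize g2⁻¹ * b₀ * g2⁻¹⁻¹ = b1 at h2 hb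
  rw [eq_top_iff]
  intro g _
  refine u b1 (Or.inr hb) h2 g ?_
  have hb' : g⁻¹ * b1 * g ∈ J := by simpa using cJ g⁻¹ b1 hb
  generalize g⁻¹ * b1 * g = b at hb'
  obtain ⟨a2, a1⟩ := sq a (Or.inl ha)
  obtain ⟨b2, -⟩ := sq b (Or.inr hb')
  have ai : a⁻¹ = a := inv_eq_of_mul_eq_one_right a2
  have bi : b⁻¹ = b := inv_eq_of_mul_eq_one_right b2
  have p1 : ∀ n : ℕ, a * (a * b) ^ n = ((a * b) ^ n)⁻¹ * a := fun n => by
    have : a * (a * b) * a⁻¹ = (a * b)⁻¹ := by rw [← mul_assoc, a2, one_mul, mul_inv_rev, bi]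
    rw [← inv_pow, ← this, conj_pow]; simp
  have p2 : ∀ n : ℕ, b * (a * b) ^ n = ((a * b) ^ n)⁻¹ * b := fun n => by
    have : b * (a * b) * b⁻¹ = (a * b)⁻¹ := by rw [mul_inv_rev, bi, ai, mul_assoc, mul_assoc, b2, mul_one]
    rw [← inv_pow, ← this, conj_pow]; simp
  have p3 : ∀ n : ℕ, (a * b) ^ n * a ∈ I ∪ J ∧ (Odd n → (a * b) ^ n * a ∈ J) := fun n => by
    rcases Nat.even_or_odd' n with ⟨j, rfl | rfl⟩
    · refine ⟨Or.inl ?_, fun h => absurd h (by simp)⟩
      have := cI ((a * b) ^ j) a ha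
      rwa [mul_assoc, show a * ((a * b) ^ j)⁻¹ = (a * b) ^ j * a by
        rw [mul_inv_eq_iff_eq_mul, mul_assoc, p1]; simp, ← mul_assoc, ← pow_add, ← two_mul] at this
    · have := cJ ((a * b) ^ (j + 1)) b hb'
      rw [mul_assoc, show b * ((a * b) ^ (j + 1))⁻¹ = (a * b) ^ (j + 1) * b by
        rw [mul_inv_eq_iff_eq_mul, mul_assoc, p2]; simp, ← mul_assoc, ← pow_add,
        show j + 1 + (j + 1) = 2 * j + 1 + 1 by ring, pow_succ, mul_assoc, mul_assoc, b2, mul_one] at this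
      exact ⟨Or.inr this, fun _ => this⟩
  rcases Nat.even_or_odd' (orderOf (a * b)) with ⟨m, e | e⟩
  · have hm : 0 < m := by have := orderOf_pos (a * b); omega
    have q1 : (a * b) ^ m * (a * b) ^ m = 1 := by rw [← pow_add, ← two_mul, ← e, pow_orderOf_eq_one]
    have q2 : (a * b) ^ m ≠ 1 := pow_ne_one_of_lt_orderOf hm.ne' (by omega)
    have q3 := inv_eq_of_mul_eq_one_right q1
    have q4 := p1 m
    have q5 := p2 m
    have q6 := (p3 m).1
    rw [q3] at q4 q5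
    generalize (a * b) ^ m = w at *
    have q7 : w ∈ H := u a (Or.inl ha) h1 w (by rw [mul_assoc, q4]; simpa using h1)
    refine hcent a ha h1 _ q6 (mul_mem q7 h1) (fun e => q2 (by simpa using e))
      (by rw [← mul_assoc, q4]) (Subgroup.mem_centralizer_singleton_iff.2 ?_)
    rw [← mul_assoc a w, q4, mul_assoc w a a, a2, mul_one, q5]
  · have := (p3 _).2 (⟨m, e⟩ : Odd (orderOf (a * b)))
    rw [pow_orderOf_eq_one, one_mul, hJ] at this
    rw [hI] at ha
    exact absurd (by rw [hI, hJ]; ext x; exact ⟨fun h => (IsConj.trans this ha.symm).trans h,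
      fun h => (IsConj.trans ha this.symm).trans h⟩) hIJ

end Cfsg.Agent.S5439
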