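import Cfsg.Statements.S5459
import Cfsg.Agent.Lib.Tr3.Struct

set_option autoImplicit false
open Cfsg

namespace Cfsg.Agent.S5459

set_option linter.unusedSectionVars false
set_option linter.unusedVariables false
set_option linter.style.haveILetI false
set_option linter.unusedSimpArgs false
open scoped commutatorElement

/-- Let G be a finite group with a quasisimple normal subgroup L and an involution d such that G is generated by L and d, the centre of L has odd order, and d inverts every element of the centre of L. If the commuting graph on the conjugacy class of the image of d in G modulo the centre of L is connected, then the commuting graph on the conjugacy class of d is connected. -/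
theorem result {G : Type*} [Group G] [Finite G] (L : Subgroup G) [L.Normal] (hL : Cfsg.IsQuasisimple ↥L) (d : G) (hd : orderOf d = 2) (hgen : L ⊔ Subgroup.zpowers d = ⊤) (hodd : Odd (Nat.card ↥(Subgroup.center ↥L))) (hinv : ∀ c ∈ (Subgroup.center ↥L).map L.subtype, d * c * d⁻¹ = c⁻¹) [hn : ((Subgroup.center ↥L).map L.subtype).Normal] (hconn : (Cfsg.commutingGraph (conjugatesOf (QuotientGroup.mk d : G ⧸ (Subgroup.center ↥L).map L.subtype))).Connected) : (Cfsg.commutingGraph (conjugatesOf d)).Connected := by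
  set Z := (Subgroup.center ↥L).map L.subtype with hZ
  have d2 : d * d = 1 := by rw [← pow_two, ← hd, pow_orderOf_eq_one]
  have cj : ∀ g, ∀ a ∈ conjugatesOf d, g * a * g⁻¹ ∈ conjugatesOf d := fun g a ha =>
    IsConj.trans ha (isConj_iff.2 ⟨g, rfl⟩)
  have inv : ∀ a ∈ conjugatesOf d, a * a = 1 ∧ ∀ c ∈ Z, a * c = c⁻¹ * a := fun a ha => by
    obtain ⟨g, rfl⟩ := isConj_iff.1 ha
    refine ⟨by simp [mul_assoc, ← mul_assoc d d, d2], fun c hc => ?_⟩
    have := hinv _ (hn.conj_mem c hc g⁻¹)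
    calc g * d * g⁻¹ * c = g * (d * (g⁻¹ * c * g⁻¹⁻¹) * d⁻¹) * d * g⁻¹ := by group
      _ = _ := by rw [this]; group
  have rt : ∀ c ∈ Z, ∃ r ∈ Z, r * r = c := fun c hc => by
    obtain ⟨k, hk⟩ := hodd
    refine ⟨c ^ (k + 1), pow_mem hc _, ?_⟩
    have : c ^ (2 * k + 1) = 1 := by
      rw [← hk, ← Subgroup.card_map_of_injective L.subtype_injective]
      exact congrArg Subtype.val (pow_card_eq_one' (x := (⟨c, hc⟩ : Z)))
    rw [← pow_add, show k + 1 + (k + 1) = 2 * k + 1 + 1 by ring, pow_succ, this, one_mul]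
  have cz : ∀ a ∈ conjugatesOf d, ∀ c ∈ Z, ∃ r ∈ Z, r * a * r⁻¹ = a * c := fun a ha c hc => by
    obtain ⟨r, hr, e⟩ := rt c hc
    refine ⟨r⁻¹, inv_mem hr, ?_⟩
    rw [← (inv a ha).2 r hr, ← e]; group
  have hd' : d ∈ conjugatesOf d := IsConj.refl d
  let R : G → Prop := fun a => ∃ h : a ∈ conjugatesOf d, (commutingGraph (conjugatesOf d)).Reachable ⟨d, hd'⟩ ⟨a, h⟩
  have st : ∀ a b, R a → b ∈ conjugatesOf d → Commute a b → R b := fun a b ⟨ha, h⟩ hb hc => by
    refine ⟨hb, h.trans ?_⟩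
    by_cases e : a = b
    · subst e; rfl
    · exact SimpleGraph.Adj.reachable ((SimpleGraph.fromRel_adj _ _ _).2 ⟨fun h => e (congrArg Subtype.val h), Or.inl hc⟩)
  have lift : ∀ g : G, ∃ a, R a ∧ (a : G ⧸ Z) = g * d * (g : G ⧸ Z)⁻¹ := fun g => by
    refine Tr3.reach_ind (P := fun x : G ⧸ Z => ∃ a, R a ∧ (a : G ⧸ Z) = x) ?_
      (hconn.preconnected ⟨d, IsConj.refl _⟩ ⟨_, isConj_iff.2 ⟨g, rfl⟩⟩) ⟨d, ⟨hd', by rfl⟩, rfl⟩
    rintro _ - y hy hc ⟨a, ha, rfl⟩
    obtain ⟨h, rfl⟩ := isConj_iff.1 hy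
    obtain ⟨h, rfl⟩ := QuotientGroup.mk_surjective h
    have hb := cj h d hd'
    have e : ((h * d * h⁻¹ : G) : G ⧸ Z) = h * d * (h : G ⧸ Z)⁻¹ := by simp
    rw [← e] at hc ⊢
    generalize h * d * h⁻¹ = b at hb hc
    have h1 : (a * b)⁻¹ * (b * a) ∈ Z := QuotientGroup.eq.1 hc.eq
    obtain ⟨r, hr, e⟩ := rt _ h1
    obtain ⟨s, hs, e'⟩ := cz b hb r hr
    refine ⟨b * r, st a _ ha (e' ▸ cj _ _ hb) ?_, (QuotientGroup.eq.2 (by simpa using hr)).symm⟩
    have h2 := (inv a ha.1).2 r⁻¹ (inv_mem hr)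
    rw [inv_inv] at h2
    show a * (b * r) = b * r * a
    rw [mul_assoc b, ← h2, ← mul_assoc b, show b * a = a * b * (r * r) by rw [e]; group]; group
  have rc : ∀ g a, R (g * d * g⁻¹) → R a → R (g * a * g⁻¹) := fun g a h ⟨ha, h'⟩ =>
    Tr3.reach_ind (P := fun x => R (g * x * g⁻¹)) (fun x hx y hy hc hr =>
      st _ _ hr (cj g y hy) (Tr3.commute_conj_iff.2 hc)) h' h
  let S : Subgroup G := Subgroup.closure {g | R (g * d * g⁻¹)}
  have hS : ∀ g ∈ S, R (g * d * g⁻¹) := fun g hg => by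
    refine Subgroup.closure_induction_left (p := fun g _ => R (g * d * g⁻¹)) (by simpa using ⟨hd', by rfl⟩)
      (fun x hx y _ hy => by simpa [mul_assoc] using rc x _ hx hy) (fun x hx y _ hy => ?_) hg
    have h3 : ∀ n : ℕ, R (x ^ n * y * d * (x ^ n * y)⁻¹) := fun n => by
      induction n with
      | zero => simpa using hy
      | succ n ih => simpa [pow_succ', mul_assoc] using rc x _ hx ih
    rw [show x⁻¹ = x ^ (orderOf x - 1) from inv_eq_of_mul_eq_one_right (by
      rw [← pow_succ', Nat.sub_add_cancel (orderOf_pos x), pow_orderOf_eq_one])]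
    exact h3 _
  have dec : ∀ g : G, ∃ r ∈ Z, r * g ∈ S := fun g => by
    obtain ⟨a, ha, e⟩ := lift g
    have h1 : (g * d * g⁻¹)⁻¹ * a ∈ Z := QuotientGroup.eq.1 (by rw [e]; simp)
    obtain ⟨r, hr, e'⟩ := cz _ (cj g d hd') _ h1
    refine ⟨r, hr, Subgroup.subset_closure ?_⟩
    show R _
    rwa [show r * g * d * (r * g)⁻¹ = a by
      rw [mul_inv_cancel_left] at e'; rw [← e']; group]
  have hLS : L ≤ S := by
    have h1 : L = ⁅L, L⁆ := by
      have := congrArg (Subgroup.map L.subtype) hL.1.commutator_eq_top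
      rw [Subgroup.map_subtype_commutator, ← MonoidHom.range_eq_map, Subgroup.range_subtype] at this
      exact this.symm
    rw [h1, Subgroup.commutator_le]
    intro x hx y hy
    obtain ⟨_, ⟨r, hr, rfl⟩, h2⟩ := dec x
    obtain ⟨_, ⟨s, hs, rfl⟩, h3⟩ := dec y
    have h4 : ⁅r * ⟨x, hx⟩, s * ⟨y, hy⟩⁆ = ⁅(⟨x, hx⟩ : L), ⟨y, hy⟩⁆ := by
      have a1 := fun t => Subgroup.mem_center_iff.1 hr t
      have a2 := fun t => Subgroup.mem_center_iff.1 hs t
      simp only [commutatorElement_def, mul_inv_rev]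
      calc _ = r * (⟨x, hx⟩ * s * ⟨y, hy⟩ * (⟨x, hx⟩ : L)⁻¹) * r⁻¹ * (⟨y, hy⟩ : L)⁻¹ * s⁻¹ := by group
        _ = _ := by rw [← a1, a2 ⟨x, hx⟩, mul_inv_cancel_right, mul_assoc s, mul_assoc s, mul_assoc s, ← a2]; group
    have h5 := mul_mem (mul_mem (mul_mem h2 h3) (inv_mem h2)) (inv_mem h3)
    exact (show _ = ⁅x, y⁆ from congrArg Subtype.val h4) ▸ h5
  have all : ∀ a : conjugatesOf d, (commutingGraph (conjugatesOf d)).Reachable ⟨d, hd'⟩ a := by
    rintro ⟨a, ha⟩
    obtain ⟨g, rfl⟩ := isConj_iff.1 ha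
    obtain ⟨r, hr, h⟩ := dec g
    exact (hS g ((S.mul_mem_cancel_left (hLS (Subgroup.map_subtype_le _ hr))).1 h)).2
  haveI : Nonempty (conjugatesOf d) := ⟨⟨d, hd'⟩⟩
  exact ⟨fun a b => (all a).symm.trans (all b)⟩

end Cfsg.Agent.S5459
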