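import Cfsg.Statements.S5463
import Cfsg.Agent.Lib.Fischer.I22

set_option autoImplicit false
open Cfsg

namespace Cfsg.Agent.S5463

/-- Let G be a finite group with trivial centre generated by a conjugation-invariant set D of 3-transpositions on which it acts primitively, such that for some d in D the subgroup generated by the members of D other than d commuting with d has central largest normal 2- and 3-subgroups, and suppose G with D is of type M(22). A product j of two distinct commuting members of D determines the pair: any two 2-element sets of commuting members of D with product j coincide. A product j of three distinct pairwise commuting members of D arises from exactly two such 3-element sets. -/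
theorem result {G : Type*} [Group G] [Finite G] {D : Set G} (hD : Cfsg.IsThreeTranspositionGroup D) (hprim : Cfsg.IsPrimitiveUnderConj D) (d₀ : G) (hd₀ : d₀ ∈ D) (h3 : Cfsg.pCore 3 ↥(Subgroup.closure {y : G | y ∈ D ∧ y ≠ d₀ ∧ Commute d₀ y}) ≤ Subgroup.center ↥(Subgroup.closure {y : G | y ∈ D ∧ y ≠ d₀ ∧ Commute d₀ y})) (h2 : Cfsg.pCore 2 ↥(Subgroup.closure {y : G | y ∈ D ∧ y ≠ d₀ ∧ Commute d₀ y}) ≤ Subgroup.center ↥(Subgroup.closure {y : G | y ∈ D ∧ y ≠ d₀ ∧ Commute d₀ y})) (h22 : Cfsg.IsOfTypeM22 G D) : (∀ (j : G) (l l' : List G), (l.Nodup ∧ l.length = 2 ∧ (∀ a ∈ l, a ∈ D) ∧ (∀ a ∈ l, ∀ b ∈ l, Commute a b) ∧ l.prod = j) → (l'.Nodup ∧ l'.length = 2 ∧ (∀ a ∈ l', a ∈ D) ∧ (∀ a ∈ l', ∀ b ∈ l', Commute a b) ∧ l'.prod = j) → (∀ x : G, x ∈ l ↔ x ∈ l')) ∧ ∀ (j : G) (l₀ : List G), (l₀.Nodup ∧ l₀.length = 3 ∧ (∀ a ∈ l₀, a ∈ D) ∧ (∀ a ∈ l₀, ∀ b ∈ l₀, Commute a b) ∧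 l₀.prod = j) → ∃ l₁ l₂ : List G, (l₁.Nodup ∧ l₁.length = 3 ∧ (∀ a ∈ l₁, a ∈ D) ∧ (∀ a ∈ l₁, ∀ b ∈ l₁, Commute a b) ∧ l₁.prod = j) ∧ (l₂.Nodup ∧ l₂.length = 3 ∧ (∀ a ∈ l₂, a ∈ D) ∧ (∀ a ∈ l₂, ∀ b ∈ l₂, Commute a b) ∧ l₂.prod = j) ∧ ¬ (∀ x : G, x ∈ l₁ ↔ x ∈ l₂) ∧ ∀ l : List G, (l.Nodup ∧ l.length = 3 ∧ (∀ a ∈ l, a ∈ D) ∧ (∀ a ∈ l, ∀ b ∈ l, Commute a b) ∧ l.prod = j) → ((∀ x : G, x ∈ l ↔ x ∈ l₁) ∨ (∀ x : G, x ∈ l ↔ x ∈ l₂)) := by
  obtain ⟨p, h⟩ := Fi.t22 hD h22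
  refine ⟨?_, ?_⟩
  · rintro j l l' ⟨a1, a2, a3, a4, a5⟩ ⟨b1, b2, b3, b4, b5⟩
    have c : Fi.Clq D l' := ⟨b1, b3, b4⟩
    exact c.eq_of_sub ((h.dp 2 le_rfl l ⟨a1, a3, a4⟩ a2).sub h.1.tt c (by omega) (a5.trans b5.symm)) (by omega)
  · rintro j l ⟨a1, a2, a3, a4, rfl⟩
    obtain ⟨g, rfl⟩ := h.trK3 _ l (h.1.clq Fi.X22.dsc (L := [0, 1, 3]) (by decide) (by decide +kernel)) ⟨a1, a3, a4⟩ rfl a2
    have h' := h.rechart (h.1.conj g)
    have c := h'.1.clq Fi.X22.dsc (L := [5, 669, 674]) (by decide) (by decide +kernel)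
    refine ⟨_, _, ⟨a1, a2, a3, a4, rfl⟩, ⟨c.1, rfl, c.2.1, c.2.2, h'.hex.symm⟩, fun e => ?_, ?_⟩
    · obtain ⟨i, hi, e1⟩ := List.mem_map.mp ((e (g * p 0 * g⁻¹)).mp (by simp [Fi.cj]))
      have := h'.1.inj i ((show ∀ i ∈ [5, 669, 674], i < 3510 by decide) i hi) 0 (by decide) e1
      revert hi; rw [this]; decide
    · rintro l ⟨b1, b2, b3, b4, b5⟩
      have c' : Fi.Clq D l := ⟨b1, b3, b4⟩
      exact (h'.two c' b2 b5.symm).imp (fun s x => (c'.eq_of_sub s (by simp [b2]) x).symm)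
        fun s x => (c'.eq_of_sub s (by simp [b2]) x).symm

end Cfsg.Agent.S5463
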