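import Cfsg.Statements.S5468
import Cfsg.Agent.Lib.Fischer.Sec3

set_option autoImplicit false
open Cfsg

namespace Cfsg.Agent.S5468

/-- Let G be a finite group with trivial centre generated by a conjugation-invariant set D of 3-transpositions on which it acts primitively, such that for some d in D the subgroup generated by the members of D other than d commuting with d has central largest normal 2- and 3-subgroups, and suppose G with D is of type M(23). Let d₁, d₂ be distinct commuting members of D, j = d₁ d₂, K the joint centralizer of d₁ and d₂ and C the centralizer of j. Then K has index 2 in C, the centre of K is the subgroup generated by d₁ and d₂, K is quasisimple with K modulo its centre isomorphic to the projective special unitary group of dimension 6 over the field with four elements, and C modulo the subgroup generated by d₁ and d₂ has trivial centre (so it is that unitary group extended by an outer involution). -/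
theorem result {G : Type*} [Group G] [Finite G] {D : Set G} (hD : Cfsg.IsThreeTranspositionGroup D) (hprim : Cfsg.IsPrimitiveUnderConj D) (d₀ : G) (hd₀ : d₀ ∈ D) (h3 : Cfsg.pCore 3 ↥(Subgroup.closure {y : G | y ∈ D ∧ y ≠ d₀ ∧ Commute d₀ y}) ≤ Subgroup.center ↥(Subgroup.closure {y : G | y ∈ D ∧ y ≠ d₀ ∧ Commute d₀ y})) (h2 : Cfsg.pCore 2 ↥(Subgroup.closure {y : G | y ∈ D ∧ y ≠ d₀ ∧ Commute d₀ y}) ≤ Subgroup.center ↥(Subgroup.closure {y : G | y ∈ D ∧ y ≠ d₀ ∧ Commute d₀ y})) (h23 : Cfsg.IsOfTypeM23 G D) (d₁ d₂ : G) (h₁ : d₁ ∈ D) (h₂ : d₂ ∈ D) (hne : d₁ ≠ d₂) (hc : Commute d₁ d₂) (K C V : Subgroup G) (hK : K = Subgroup.centralizer ({d₁, d₂} : Set G)) (hC : C = Subgroup.centralizer ({d₁ * d₂} : Set G)) (hV : V = Subgroup.closure ({d₁, d₂} : Set G)) [hn : (V.subgroupOf C).Normal] : K ≤ C ∧ (K.subgroupOf C).index = 2 ∧ (Subgroup.center ↥K).map K.subtype = V ∧ Cfsg.IsQuasisimple ↥K ∧ (∃ (F : Type) (_ : Field F) (_ : Fintype F), Fintype.card F = 4 ∧ Nonempty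 (↥K ⧸ Subgroup.center ↥K ≃* Cfsg.PSU 6 F 2)) ∧ Subgroup.center (↥C ⧸ V.subgroupOf C) = ⊥ := by
  obtain ⟨p, h⟩ := Fi.t23 hD h23
  obtain ⟨q, rfl, rfl, h⟩ := h.at2 (Fi.clq2 h₂ h₁ hne.symm hc.symm)
  obtain ⟨a1, _, ⟨e⟩⟩ := Fi.clq_quot h.1.tt (by norm_num) (h.dp 2 (by norm_num)) h.trK2 (f := ![q 1, q 0])
    (by simpa using Fi.clq2 h₁ h₂ hne hc) (C := C) (L := K)
    (fun c => by rw [hC, Subgroup.mem_centralizer_singleton_iff]; simp [Commute, SemiconjBy])
    fun c => by rw [hK, Subgroup.mem_centralizer_iff]; simp [Fin.forall_fin_succ, Commute, SemiconjBy, eq_comm]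
  obtain ⟨w, w1, w2, w3⟩ := h.odd2
  obtain ⟨L, _, _, K', ψ, E, pt, S, h4, -⟩ := h.sec2
  obtain rfl : K = K' := Subgroup.ext fun x => by
    rw [S.cen, hK, Subgroup.mem_centralizer_iff]; simp [Commute, SemiconjBy]
  obtain rfl : V = Subgroup.closure {a | a ∈ [q 1, q 0]} := by rw [hV]; congr 1; ext; simp
  have := h4.simple
  obtain ⟨e'⟩ := S.quot h4.1.ctr
  obtain ⟨-, F, _, _, hF, ⟨e''⟩⟩ := id h4
  refine ⟨a1, by rw [Subgroup.index, Nat.card_congr e.toEquiv]; simp [Fintype.card_perm], S.center_map h4.1.ctr,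
    S.quasi h4.1.ctr (S.perfect h4.1.top h4.trK1 h.gen2 w1 w2 w3), ⟨F, _, _, hF, ⟨e'.trans e''⟩⟩, ?_⟩
  rw [eq_bot_iff]
  intro x hx
  obtain ⟨c, rfl⟩ := QuotientGroup.mk_surjective x
  have b1 : ∀ y ∈ Fi.Dl D [q 1, q 0], Commute (c : G) y := fun y hy => by
    have b2 : c * y * (c : G)⁻¹ ∈ Fi.Dl D [q 1, q 0] := by
      have := (h.dp 2 (by norm_num) _ S.clq rfl).sub h.1.tt (S.clq.conj h.1.tt c) (by simp) (by
        rw [Fi.prod_cj, Fi.conj_eq_iff.mpr]
        simpa [Commute, SemiconjBy] using Subgroup.mem_centralizer_singleton_iff.mp (hC ▸ c.2))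
      refine (S.nrm (fun a => ?_) y).mpr hy
      rw [(S.clq.conj h.1.tt c).eq_of_sub this (by simp)]
      exact List.mem_map_of_injective (Fi.cj_inj (c : G))
    refine Fi.conj_eq_iff.mp (S.inj hy b2 ((S.dn_eq_iff (S.mem hy) (S.mem b2)).mpr ?_)).symm
    have := Subgroup.mem_center_iff.mp hx (QuotientGroup.mk ⟨y, a1 (S.mem hy)⟩)
    rw [← eq_mul_inv_iff_mul_eq, ← QuotientGroup.mk_mul, ← QuotientGroup.mk_inv,
      ← QuotientGroup.mk_mul, QuotientGroup.eq] at this
    exact this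
  have b3 : ∀ y ∈ K, Commute (c : G) y := fun y hy => by
    rw [← S.gen h4.1.top] at hy
    exact Fi.closure_comm b1 (sup_le le_rfl ((Subgroup.closure_le _).mpr h.gen2) hy)
  have b4 : (c : G) ∈ K := (S.cen c).mpr fun a ha => (b3 a (S.V_le (Subgroup.subset_closure ha))).symm
  rw [Subgroup.mem_bot, QuotientGroup.eq_one_iff, Subgroup.mem_subgroupOf, ← S.center_map h4.1.ctr]
  exact ⟨⟨c, b4⟩, Subgroup.mem_center_iff.mpr fun g => Subtype.ext (b3 g g.2).eq.symm, rfl⟩

end Cfsg.Agent.S5468
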