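import Cfsg.Statements.S5470
import Cfsg.Agent.Lib.Fischer.Sec3

set_option autoImplicit false
open Cfsg

namespace Cfsg.Agent.S5470

open Fi PC in
theorem c180 : cnt (fun i => Nat.add (Nat.add (Nat.xor (X22.T 0 i) i) (Nat.xor (X22.T 1 i) i)) (eqI (Nat.div i 2) 0)) 0 3510
    = 180 := by decide +kernel

/-- Let G be a finite group with trivial centre generated by a conjugation-invariant set D of 3-transpositions on which it acts primitively, such that for some d in D the subgroup generated by the members of D other than d commuting with d has central largest normal 2- and 3-subgroups, and suppose G with D is of type M(22). Then the centralizer of a product of three distinct pairwise commuting members of D has order 2^16 · 3^3. -/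
theorem result {G : Type*} [Group G] [Finite G] {D : Set G} (hD : Cfsg.IsThreeTranspositionGroup D) (hprim : Cfsg.IsPrimitiveUnderConj D) (d₀ : G) (hd₀ : d₀ ∈ D) (h3 : Cfsg.pCore 3 ↥(Subgroup.closure {y : G | y ∈ D ∧ y ≠ d₀ ∧ Commute d₀ y}) ≤ Subgroup.center ↥(Subgroup.closure {y : G | y ∈ D ∧ y ≠ d₀ ∧ Commute d₀ y})) (h2 : Cfsg.pCore 2 ↥(Subgroup.closure {y : G | y ∈ D ∧ y ≠ d₀ ∧ Commute d₀ y}) ≤ Subgroup.center ↥(Subgroup.closure {y : G | y ∈ D ∧ y ≠ d₀ ∧ Commute d₀ y})) (h22 : Cfsg.IsOfTypeM22 G D) (d₁ d₂ d₃ : G) (h₁ : d₁ ∈ D) (h₂ : d₂ ∈ D) (h₃ : d₃ ∈ D) (h12 : d₁ ≠ d₂) (h13 : d₁ ≠ d₃) (h23 : d₂ ≠ d₃) (c12 : Commute d₁ d₂) (c13 : Commute d₁ d₃) (c23 : Commute d₂ d₃) : Nat.card ↥(Subgroup.centralizer ({d₁ * d₂ * d₃} : Set G)) = 2 ^ 16 * 3 ^ 3 := by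
  obtain ⟨p, h⟩ := Fi.t22 hD h22
  obtain ⟨q, rfl, rfl, rfl, h⟩ := h.at3 (Fi.clq3 h₁ h₂ h₃ h12 h13 h23 c12 c13 c23)
  have tt := h.1.tt
  have mc : ∀ a g : G, g ∈ Subgroup.centralizer {a} ↔ g * a * g⁻¹ = a := fun a g =>
    Subgroup.mem_centralizer_singleton_iff.trans mul_inv_eq_iff_eq_mul.symm
  have e1 := Fi.card_cj ⊤ (q 0) (S := D) fun y => ⟨fun hy => by simpa using Fi.X22.trans h.1 y hy, by
    rintro ⟨g, -, rfl⟩; exact tt.conj g _ h₁⟩
  have e2 := Fi.card_cj (⊤ ⊓ Subgroup.centralizer {q 0}) (q 1) (S := Fi.Dc D (q 0)) fun y => ⟨fun hy => by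
    simpa [mc, Fi.cj] using h.trK2 _ _ (Fi.clq2 h₁ h₂ h12 c12) (Fi.clq2 h₁ hy.1 hy.2.1.symm hy.2.2) rfl rfl, by
    rintro ⟨g, hg, rfl⟩
    exact Fi.Dc_conj tt (Fi.conj_eq_iff.mp ((mc _ _).mp hg.2)).symm ⟨h₂, h12.symm, c12⟩⟩
  have e3 := Fi.card_cj (⊤ ⊓ Subgroup.centralizer {q 0} ⊓ Subgroup.centralizer {q 1}) (q 3)
    (S := Fi.Dc D (q 0) ∩ Fi.Dc D (q 1)) fun y => ⟨fun hy => by
    simpa [mc, Fi.cj, and_assoc] using h.trK3 _ _ (Fi.clq3 h₁ h₂ h₃ h12 h13 h23 c12 c13 c23)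
      (Fi.clq3 h₁ h₂ hy.1.1 h12 hy.1.2.1.symm hy.2.2.1.symm c12 hy.1.2.2 hy.2.2.2) rfl rfl, by
    rintro ⟨g, hg, rfl⟩
    exact ⟨Fi.Dc_conj tt (Fi.conj_eq_iff.mp ((mc _ _).mp hg.1.2)).symm ⟨h₃, h13.symm, c13⟩,
      Fi.Dc_conj tt (Fi.conj_eq_iff.mp ((mc _ _).mp hg.2)).symm ⟨h₃, h23.symm, c23⟩⟩⟩
  have n2 : (Fi.Dc D (q 0)).ncard = 693 := by
    obtain ⟨K, _, _, C, ψ, E, pt, S, h4, -⟩ := h.sec1
    rw [← h4.1.ncard, ← S.img, S.inj.ncard_image]
    congr 1; ext; simp [Fi.Dl]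
  have n3 : (Fi.Dc D (q 0) ∩ Fi.Dc D (q 1)).ncard = 180 := by
    rw [← c180, ← h.1.inj.ncard_class]
    congr 1; ext y
    have r0 : Fi.RepC q 3510 (q 0) (Fi.X22.T 0) := h.1.reps 0 (by norm_num)
    have r1 : Fi.RepC q 3510 (q 1) (Fi.X22.T 1) := h.1.reps 1 (by norm_num)
    constructor
    · rintro ⟨a, b⟩
      obtain ⟨i, hi, rfl⟩ := h.1.ex a.1
      refine ⟨i, ⟨hi, ?_⟩, rfl⟩
      have i0 : i ≠ 0 := fun e => a.2.1 (e ▸ rfl)
      have i1 : i ≠ 1 := fun e => b.2.1 (e ▸ rfl)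
      rw [r0.fix h.1.inj hi a.2.2, r1.fix h.1.inj hi b.2.2, PC.eqI_eq, if_neg (show ¬ i.div 2 = 0 from (by omega : ¬ i / 2 = 0))]
      simp
    · rintro ⟨i, ⟨hi, e⟩, rfl⟩
      obtain ⟨a, b⟩ := PC.add_eq_zero' e
      obtain ⟨a, c⟩ := PC.add_eq_zero' a
      have : ¬ i / 2 = 0 := fun e => by rw [PC.eqI_eq, if_pos (show i.div 2 = 0 from e)] at b; cases b
      exact ⟨⟨h.1.mem hi, fun e => by have := h.1.inj _ hi _ (by norm_num) e; omega, r0.comm hi (PC.xor_eq_zero' a)⟩,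
        h.1.mem hi, fun e => by have := h.1.inj _ hi _ (by norm_num) e; omega, r1.comm hi (PC.xor_eq_zero' c)⟩
  have cl := Fi.clq3 h₁ h₂ h₃ h12 h13 h23 c12 c13 c23
  have pj : ([0, 1, 3].map q).prod = q 0 * q 1 * q 3 := by simp [mul_assoc]
  have key : ∀ l : List ℕ, l.Perm [0, 1, 3] ∨ l.Perm [5, 669, 674] →
      ∃ g ∈ Subgroup.centralizer {q 0 * q 1 * q 3}, ([0, 1, 3].map q).map (Fi.cj g) = l.map q := fun l hl => by
    have : Fi.Clq D (l.map q) ∧ ([0, 1, 3].map q).prod = (l.map q).prod ∧ l.length = 3 := by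
      rcases hl with hl | hl
      · exact ⟨(Fi.Clq.perm cl (hl.symm.map q)).1, (Fi.Clq.perm cl (hl.symm.map q)).2, hl.length_eq⟩
      · have := (h.1.clq Fi.X22.dsc (L := [5, 669, 674]) (by decide) (by decide +kernel)).perm (hl.symm.map q)
        exact ⟨this.1, h.hex.trans this.2, hl.length_eq⟩
    obtain ⟨g, hg⟩ := h.trK3 _ _ cl this.1 rfl (by simp [this.2.2])
    exact ⟨g, (mc _ _).mpr (by rw [← pj, ← Fi.prod_cj]; exact hg ▸ this.2.1.symm), hg⟩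
  have two : ∀ g ∈ Subgroup.centralizer {q 0 * q 1 * q 3}, ([0, 1, 3].map q).map (Fi.cj g) ⊆ [0, 1, 3].map q ∨
      ([0, 1, 3].map q).map (Fi.cj g) ⊆ [5, 669, 674].map q := fun g hg =>
    h.two (Fi.Clq.conj tt cl g) rfl (by rw [Fi.prod_cj, pj, (mc _ _).mp hg])
  have inj : ∀ L : List ℕ, (∀ i ∈ L, i < 3510) → L.Nodup → {y | y ∈ L.map q}.ncard = L.length := fun L h1 h2 => by
    classical
    rw [← List.length_map q, ← List.toFinset_card_of_nodup (h2.map_on fun a ha b hb => h.1.inj a (h1 a ha) b (h1 b hb)),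
      ← Set.ncard_coe_finset, List.coe_toFinset]
  have f1 := Fi.card_cj (Subgroup.centralizer {q 0 * q 1 * q 3}) (q 0) (S := {y | y ∈ [0, 1, 3, 5, 669, 674].map q})
    fun y => ⟨fun hy => by
      obtain ⟨i, hi, rfl⟩ := List.mem_map.mp hy
      obtain ⟨l, hl⟩ : ∃ l, (i :: l).Perm [0, 1, 3] ∨ (i :: l).Perm [5, 669, 674] := by
        refine ⟨if i ≤ 3 then [0, 1, 3].erase i else [5, 669, 674].erase i, ?_⟩
        clear hy; revert i; decide
      obtain ⟨g, hg, e⟩ := key _ hl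
      exact ⟨g, hg, (List.cons.inj e).1⟩, by
      rintro ⟨g, hg, rfl⟩
      exact (two g hg).elim (fun s => List.map_subset q (by decide) (s List.mem_cons_self))
        fun s => List.map_subset q (by decide) (s List.mem_cons_self)⟩
  have f2 := Fi.card_cj (Subgroup.centralizer {q 0 * q 1 * q 3} ⊓ Subgroup.centralizer {q 0}) (q 1)
    (S := {y | y ∈ [1, 3].map q}) fun y => ⟨fun hy => by
      obtain ⟨i, hi, rfl⟩ := List.mem_map.mp hy
      obtain ⟨g, hg, e⟩ := key [0, i, 4 - i] (Or.inl (by clear hy; revert i; decide))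
      exact ⟨g, ⟨hg, (mc _ _).mpr (List.cons.inj e).1⟩, (List.cons.inj (List.cons.inj e).2).1⟩, by
      rintro ⟨g, hg, rfl⟩
      have a := (mc _ _).mp hg.2
      rcases two g hg.1 with s | s
      · refine (List.mem_cons.mp (s (List.mem_cons_of_mem _ List.mem_cons_self))).resolve_left fun e => h12 ?_
        exact Fi.cj_inj g (a.trans e.symm)
      · obtain ⟨i, hi, e⟩ := List.mem_map.mp (s List.mem_cons_self)
        have := h.1.inj i ((show ∀ i ∈ [5, 669, 674], i < 3510 by decide) i hi) 0 (by decide) (e.trans a)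
        rw [this] at hi; exact absurd hi (by decide)⟩
  rw [inj _ (by decide) (by decide)] at f1 f2
  have g1 : Subgroup.centralizer {q 0 * q 1 * q 3} ⊓ Subgroup.centralizer {q 0} ⊓ Subgroup.centralizer {q 1} =
      ⊤ ⊓ Subgroup.centralizer {q 0} ⊓ Subgroup.centralizer {q 1} ⊓ Subgroup.centralizer {q 3} := Subgroup.ext fun g => by
    simp only [Subgroup.mem_inf, mc, Fi.conj_eq_iff, Subgroup.mem_top, true_and]
    exact ⟨fun ⟨⟨a, b⟩, c⟩ => ⟨⟨b, c⟩, Fi.comm_cancel a (b.mul_right c)⟩, fun ⟨⟨a, b⟩, c⟩ =>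
      ⟨⟨(a.mul_right b).mul_right c, a⟩, b⟩⟩
  rw [f1, f2, g1]
  rw [Subgroup.card_top, h.card, h.1.ncard, e2, e3, n2, n3] at e1
  simp only [List.length_cons, List.length_nil]
  omega

end Cfsg.Agent.S5470
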