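import Cfsg.Statements.S5515
import Cfsg.Agent.S2608
import Cfsg.Agent.S1265
import Cfsg.Agent.S0296
import Cfsg.Agent.S0293

set_option autoImplicit false
open Cfsg

namespace Cfsg.Agent.S5515

open Subgroup in
theorem s4 (H : Subgroup (Equiv.Perm (Fin 4))) (h : Nat.card H = 6) : ∃ i : Fin 4, H = MulAction.stabilizer _ i := by
  haveI : Fact (Nat.Prime 3) := ⟨by norm_num⟩
  obtain ⟨x, hx⟩ := exists_prime_orderOf_dvd_card' (G := H) 3 (by rw [h]; norm_num)
  have h1 : (zpowers x).index = 2 := by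
    have := (zpowers x).card_mul_index
    rw [Nat.card_zpowers, hx, h] at this
    omega
  have h2 := normal_of_index_eq_two h1
  obtain ⟨i, hi⟩ := (by decide +kernel : ∀ x : Equiv.Perm (Fin 4), x ^ 3 = 1 → x ≠ 1 → ∃ i, ∀ j, x j = j ↔ j = i) x
    (by rw [← coe_pow, ← hx, pow_orderOf_eq_one, coe_one]) (fun e => by
      rw [show x = 1 from Subtype.ext e, orderOf_one] at hx; cases hx)
  refine ⟨i, eq_of_le_of_card_ge (fun g hg => ?_) ?_⟩
  · have h3 : (zpowers x).map H.subtype ≤ MulAction.stabilizer _ i := by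
      rw [MonoidHom.map_zpowers, zpowers_le]; exact (hi i).mpr rfl
    have h4 : (g⁻¹ * x * g⁻¹⁻¹) i = i := h3 ⟨_, h2.conj_mem x (mem_zpowers x) ⟨g, hg⟩⁻¹, rfl⟩
    rw [inv_inv, Equiv.Perm.mul_apply, Equiv.Perm.mul_apply, Equiv.Perm.inv_eq_iff_eq] at h4
    exact (hi _).mp h4
  · have := (MulAction.stabilizer (Equiv.Perm (Fin 4)) i).card_mul_index
    rw [MulAction.index_stabilizer_of_transitive, Nat.card_perm] at this
    simp only [Nat.card_eq_fintype_card (α := Fin 4), Fintype.card_fin, Nat.factorial] at this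
    omega

open Subgroup in
theorem emb {G T : Type*} [Group G] [Finite G] [Group T] (hc : center T = ⊥) (F : Subgroup G) [F.Normal]
    (hF : centralizer (F : Set G) ≤ F) (e : F ≃* T) :
    ∃ A : Subgroup (MulAut T), Cfsg.Inn T ≤ A ∧ Nat.card A = Nat.card T * F.index ∧ Nonempty (G ≃* A) := by
  let ρ : G →* MulAut T := (MulAut.congr e).toMonoidHom.comp MulAut.conjNormal
  have h1 : Function.Injective ρ := (injective_iff_map_eq_one ρ).mpr fun g hg => by
    have h2 : MulAut.conjNormal (H := F) g = 1 := (MulAut.congr e).injective (hg.trans (map_one _).symm)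
    have h3 : g ∈ centralizer (F : Set G) := fun x hx => by
      have := congrArg (fun f : MulAut F => (f ⟨x, hx⟩ : G)) h2
      simp only [MulAut.conjNormal_apply, MulAut.one_apply, mul_inv_eq_iff_eq_mul] at this
      exact this.symm
    have h4 : e ⟨g, hF h3⟩ ∈ center T := mem_center_iff.mpr fun t => by
      obtain ⟨y, rfl⟩ := e.surjective t
      rw [← map_mul, ← map_mul]; exact congrArg e (Subtype.ext (h3 y y.2))
    rw [hc, mem_bot, e.map_eq_one_iff] at h4
    exact congrArg Subtype.val h4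
  refine ⟨ρ.range, ?_, ?_, ⟨MonoidHom.ofInjective h1⟩⟩
  · rintro _ ⟨t, rfl⟩
    obtain ⟨y, rfl⟩ := e.surjective t
    refine ⟨y, MulEquiv.ext fun s => ?_⟩
    obtain ⟨z, rfl⟩ := e.surjective s
    simp only [ρ, MulAut.conj_apply, ← map_mul, ← map_inv]
    simp [MulAut.conjNormal_val]
  · rw [← Nat.card_congr (MonoidHom.ofInjective h1).toEquiv, ← Nat.card_congr e.toEquiv, F.card_mul_index]

open Subgroup in
theorem uniq {T : Type*} [Group T] [Finite T] (hc : center T = ⊥) (π : MulAut T →* Equiv.Perm (Fin 4))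
    (hs : Function.Surjective π) (hk : π.ker = Cfsg.Inn T) {A A' : Subgroup (MulAut T)} (h1 : Cfsg.Inn T ≤ A)
    (h2 : Nat.card A = Nat.card T * 6) (h1' : Cfsg.Inn T ≤ A') (h2' : Nat.card A' = Nat.card T * 6) : Nonempty (A ≃* A') := by
  have c1 : Nat.card (Cfsg.Inn T) = Nat.card T := (Nat.card_congr (MonoidHom.ofInjective
    ((MonoidHom.ker_eq_bot_iff _).mp ((eq_bot_iff_forall _).mpr fun g hg => mem_bot.mp (hc ▸ mem_center_iff.mpr fun t =>
      (mul_inv_eq_iff_eq_mul.mp (congrArg (fun f : MulAut T => f t) hg)).symm)))).toEquiv).symm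
  have c4 : Nat.card (Equiv.Perm (Fin 4)) = 24 := by simp [Fintype.card_perm, Nat.factorial]
  have c2 := π.ker.card_mul_index
  rw [index_ker, MonoidHom.range_eq_top.mpr hs, card_top, c4, hk, c1] at c2
  have key : ∀ B : Subgroup (MulAut T), Cfsg.Inn T ≤ B → Nat.card B = Nat.card T * 6 →
      ∃ i : Fin 4, ∀ a, a ∈ B ↔ π a i = i := fun B b1 b2 => by
    have b3 := B.card_mul_index
    have b4 := (B.map π).card_mul_index
    rw [← c2, b2, mul_assoc, Nat.mul_right_inj Nat.card_pos.ne'] at b3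
    rw [index_map_eq _ hs (hk ▸ b1), c4, show B.index = 4 by omega] at b4
    obtain ⟨i, hi⟩ := s4 (B.map π) (by omega)
    exact ⟨i, fun a => by rw [← comap_map_eq_self (f := π) (H := B) (hk ▸ b1), hi]; rfl⟩
  obtain ⟨i, hi⟩ := key A h1 h2
  obtain ⟨j, hj⟩ := key A' h1' h2'
  obtain ⟨α, hα⟩ := hs (Equiv.swap i j)
  refine ⟨((MulAut.conj α).subgroupMap A).trans (MulEquiv.subgroupCongr (Subgroup.ext fun b => ?_))⟩
  obtain ⟨a, rfl⟩ := (MulAut.conj α).surjective b
  refine (mem_map_iff_mem (f := (MulAut.conj α : MulAut T →* MulAut T)) (MulAut.conj α).injective).trans ?_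
  rw [hi, hj, MulAut.conj_apply, map_mul, map_mul, map_inv, hα]
  simp [Equiv.swap_apply_eq_iff]

/-- Let G and G′ be finite groups whose generalized Fitting subgroups are isomorphic to PΩ⁺(8, 3) (the commutator subgroup of the isometry group of the hyperbolic quadratic form in dimension 8 over the field with three elements, modulo its centre) with quotients isomorphic to the symmetric group of degree 3. Then G and G′ are isomorphic. -/
theorem result {G G' : Type*} [Group G] [Finite G] [Group G'] [Finite G'] (hF : Nonempty (↥(Cfsg.generalizedFittingSubgroup G) ≃* Cfsg.POmega (ZMod 3) (Cfsg.quadFormPlus 4 (ZMod 3)))) (hF' : Nonempty (↥(Cfsg.generalizedFittingSubgroup G') ≃* Cfsg.POmega (ZMod 3) (Cfsg.quadFormPlus 4 (ZMod 3)))) [hn : (Cfsg.generalizedFittingSubgroup G).Normal] [hn' : (Cfsg.generalizedFittingSubgroup G').Normal] (hq : Nonempty (G ⧸ Cfsg.generalizedFittingSubgroup G ≃* Equiv.Perm (Fin 3))) (hq' : Nonempty (G' ⧸ Cfsg.generalizedFittingSubgroup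 G' ≃* Equiv.Perm (Fin 3))) : Nonempty (G ≃* G') := by
  obtain ⟨e⟩ := hF
  obtain ⟨e'⟩ := hF'
  obtain ⟨q⟩ := hq
  obtain ⟨q'⟩ := hq'
  haveI : Fact (Nat.Prime 3) := ⟨by norm_num⟩
  obtain ⟨o⟩ : Nonempty (Cfsg.Out (Cfsg.POmega (ZMod 3) (Cfsg.quadFormPlus 4 (ZMod 3))) ≃* Equiv.Perm (Fin 4) × Multiplicative (ZMod 1)) := by
    simpa using S2608.result (F := ZMod 3) (p := 3) (f := 1) (m := 4) le_rfl (by simp) (by norm_num) le_rfl
  have hs := S0296.result (F := ZMod 3) 4 le_rfl
  have h1 := S0293.result (F := ZMod 3) (q := 3) (by simp) 4 le_rfl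
  simp only [Finset.prod_range_succ, Finset.prod_range_zero] at h1
  have h2 : Nat.card (Cfsg.POmega (ZMod 3) (Cfsg.quadFormPlus 4 (ZMod 3))) = 4952179814400 := by norm_num at h1 ⊢; omega
  have : Finite (Cfsg.POmega (ZMod 3) (Cfsg.quadFormPlus 4 (ZMod 3))) := Nat.finite_of_card_ne_zero (by rw [h2]; norm_num)
  have hc := (Subgroup.Normal.eq_bot_or_eq_top (inferInstance : (Subgroup.center
      (Cfsg.POmega (ZMod 3) (Cfsg.quadFormPlus 4 (ZMod 3)))).Normal)).resolve_right fun e => by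
    have := Subgroup.center_eq_top_iff.mp e
    exact absurd (h2 ▸ Group.is_simple_iff_prime_card.mp hs) (Nat.not_prime_of_dvd_of_lt (m := 2) (by norm_num) le_rfl (by norm_num))
  obtain ⟨A, a1, a2, ⟨a3⟩⟩ := emb hc _ S1265.result e
  obtain ⟨B, b1, b2, ⟨b3⟩⟩ := emb hc _ S1265.result e'
  have c3 : Nat.card (Equiv.Perm (Fin 3)) = 6 := by simp [Fintype.card_perm, Nat.factorial]
  rw [Subgroup.index, Nat.card_congr q.toEquiv, c3] at a2
  rw [Subgroup.index, Nat.card_congr q'.toEquiv, c3] at b2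
  have : Unique (Multiplicative (ZMod 1)) := inferInstanceAs (Unique (Fin 1))
  let o' := o.trans MulEquiv.prodUnique
  obtain ⟨f⟩ := uniq hc (o'.toMonoidHom.comp (QuotientGroup.mk' _)) (o'.surjective.comp (QuotientGroup.mk'_surjective _))
    (by rw [← MonoidHom.comap_ker, (MonoidHom.ker_eq_bot_iff _).mpr o'.injective, MonoidHom.comap_bot, QuotientGroup.ker_mk'])
    a1 a2 b1 b2
  exact ⟨a3.trans (f.trans b3.symm)⟩

end Cfsg.Agent.S5515
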