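import Cfsg.Statements.S5521
import Cfsg.Agent.S5600

set_option autoImplicit false
open Cfsg

namespace Cfsg.Agent.S5521

set_option linter.unusedSectionVars false
set_option linter.unusedVariables false
set_option linter.style.haveILetI false
set_option linter.unusedSimpArgs false

open Cfsg.Agent.Spor Cfsg.Agent.PC in

/-- The Mathieu group M₂₄ in its natural action on the 24 coordinate positions of the binary Golay code has minimal base size exactly 7: every set of at most 6 positions is fixed pointwise by some non-identity element of M₂₄, while some set of 7 positions is fixed pointwise only by the identity. -/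
theorem result :
    (∀ B : Finset Cfsg.GolayPt, B.card ≤ 6 → ∃ g ∈ Cfsg.M24, g ≠ 1 ∧ ∀ b ∈ B, g b = b) ∧
    (∃ B : Finset Cfsg.GolayPt, B.card = 7 ∧ ∀ g ∈ Cfsg.M24, (∀ b ∈ B, g b = b) → g = 1) := by
  refine ⟨fun B h => ?_, bset 8605699, by rw [card_bset]; decide +kernel, fun g hg h => ?_⟩
  · obtain ⟨E, hB, -, hE⟩ := Finset.exists_subsuperset_card_eq (Finset.subset_univ B) h (by
      rw [Finset.card_univ, card_golayPt]; norm_num)
    have : 1 < Nat.card {g : Equiv.Perm GolayPt // g ∈ M24 ∧ ∀ p ∈ E, g p = p} := by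
      obtain ⟨-, a, b⟩ := S5600.result E hE
      by_cases m : ∃ o ∈ octads, E ⊆ o
      · rw [a m]; norm_num
      · rw [(b m).1]; norm_num
    have := Finite.one_lt_card_iff_nontrivial.1 this
    obtain ⟨g, n⟩ := exists_ne (⟨1, one_mem _, fun _ _ => rfl⟩ : {g : Equiv.Perm GolayPt // g ∈ M24 ∧ ∀ p ∈ E, g p = p})
    exact ⟨g, g.2.1, fun e => n (Subtype.ext e), fun b hb => g.2.2 b (hB hb)⟩
  · obtain ⟨c, a⟩ := exists_is ⟨g, hg⟩
    exact congrArg Subtype.val (a.eq_one.2 (full1.all (· = idc) (prF_ok _) (by decide +kernel) a h))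

end Cfsg.Agent.S5521
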