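import Cfsg.Statements.S5522
import Cfsg.Agent.Lib.Spor.Six

set_option autoImplicit false
open Cfsg

namespace Cfsg.Agent.S5522

set_option linter.unusedSectionVars false
set_option linter.unusedVariables false
set_option linter.style.haveILetI false
set_option linter.unusedSimpArgs false

open Cfsg.Agent.Spor Cfsg.Agent.PC MulAction Finset Pointwise in

/-- The Mathieu group M₁₁, realised as the stabiliser of one point of the dodecad of squares inside the stabiliser M₁₂ of that dodecad in M₂₄, acts on the twelve coordinate positions outside the dodecad of squares (its 3-transitive action of degree 12); in this action every element of prime order fixes a point, i.e. the action is elusive. -/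
theorem result (g : Equiv.Perm Cfsg.GolayPt) (hg : g ∈ Cfsg.Spor.M11) (hord : (orderOf g).Prime) :
    ∃ x : Cfsg.GolayPt, x ∉ Cfsg.Spor.squareDodecad ∧ g x = x := by
  rw [squareDodecad_eq']
  have hd : (⟨g, hg.1.1⟩ : M24) • bset 340831 = bset 340831 := squareDodecad_eq' ▸ hg.1.2
  have o := Subgroup.orderOf_mk g hg.1.1
  have z : (Fx ⟨g, hg.1.1⟩).card ≠ 0 := card_ne_zero.2 ⟨_, mem_Fx.2 hg.2⟩
  have k : 5 ≤ (Fx ⟨g, hg.1.1⟩).card → ∃ x, x ∉ bset 340831 ∧ g x = x := fun h => by
    by_contra n
    have := m12_five d0_mem (s := Fx ⟨g, hg.1.1⟩) (fun p hp => by_contra fun m => n ⟨p, m, mem_Fx.1 hp⟩) h hd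
      fun p hp => mem_Fx.1 hp
    rw [← o, this, orderOf_one] at hord
    exact Nat.not_prime_one hord
  by_cases h2 : orderOf g = 2
  · exact k (by rw [card_Fx_of_conj (cls2A (o.trans h2) z), fx_tA]; norm_num)
  by_cases h3 : orderOf g = 3
  · exact k (by rw [card_Fx_of_conj (cls3A (o.trans h3) z), fx_uA]; norm_num)
  have := Fact.mk hord
  have hc : ∀ a ∈ Subgroup.zpowers (⟨g, hg.1.1⟩ : M24), a • (bset 340831)ᶜ = (bset 340831)ᶜ := fun a ha => by
    rw [msmul_compl, (Subgroup.zpowers_le (H := stabilizer M24 _)).2 hd ha]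
  obtain ⟨x, e⟩ := Equiv.Perm.exists_fixed_point_of_prime (p := orderOf g) (n := 1) (α := ↥(bset 340831)ᶜ) (by
    rw [Fintype.card_coe, ← bset_compl, card_bset, show pop _ = 2 ^ 2 * 3 by decide +kernel, hord.dvd_mul]
    exact fun h => h.elim (fun h => h2 ((Nat.prime_dvd_prime_iff_eq hord Nat.prime_two).1 (hord.dvd_of_dvd_pow h)))
      fun h => h3 ((Nat.prime_dvd_prime_iff_eq hord Nat.prime_three).1 h))
    (σ := resHom _ _ hc ⟨_, Subgroup.mem_zpowers _⟩) (by
      rw [← map_pow, pow_one, ← o, ← Subgroup.orderOf_mk _ (Subgroup.mem_zpowers _), pow_orderOf_eq_one, map_one])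
  exact ⟨x, mem_compl.1 x.2, congrArg Subtype.val e⟩

end Cfsg.Agent.S5522
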