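import Cfsg.Statements.S5541

set_option autoImplicit false
open Cfsg

namespace Cfsg.Agent.S5541

/-- Let ρ be a representation of a group H on a finite-dimensional real vector space U whose only ρ-invariant subspaces are the zero subspace and U, and suppose U carries a non-zero ρ-invariant symmetric bilinear form. Then the following are equivalent: (1) there is a non-zero ρ-equivariant commutative bilinear product on U of which every ρ-equivariant bilinear product is a scalar multiple; (2) there is a non-zero ρ-invariant trilinear form on U that is symmetric under all permutations of its arguments and of which every ρ-invariant trilinear form is a scalar multiple. -/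
theorem result {H : Type*} [Group H] {U : Type*} [AddCommGroup U] [Module ℝ U] [FiniteDimensional ℝ U] (ρ : Representation ℝ H U) (hirr : ∀ W : Submodule ℝ U, (∀ g : H, W.map (ρ g) ≤ W) → W = ⊥ ∨ W = ⊤) (B : LinearMap.BilinForm ℝ U) (hB0 : B ≠ 0) (hBs : ∀ u v, B u v = B v u) (hBi : ∀ (g : H) (u v : U), B (ρ g u) (ρ g v) = B u v) : (∃ m : U →ₗ[ℝ] U →ₗ[ℝ] U, m ≠ 0 ∧ (∀ u v, m u v = m v u) ∧ (∀ (g : H) (u v : U), m (ρ g u) (ρ g v) = ρ g (m u v)) ∧ ∀ m' : U →ₗ[ℝ] U →ₗ[ℝ] U, (∀ (g : H) (u v : U), m' (ρ g u) (ρ g v) = ρ g (m' u v)) → ∃ c : ℝ, m' = c • m) ↔ (∃ t : U →ₗ[ℝ] U →ₗ[ℝ] U →ₗ[ℝ] ℝ, t ≠ 0 ∧ (∀ u v w, t u v w = t v u w ∧ t u v w = t u w v) ∧ (∀ (g : H) (u v w : U), t (ρ g u) (ρ g v) (ρ g w) = t u v w) ∧ ∀ t' : U →ₗ[ℝ] U →ₗ[ℝ] U →ₗ[ℝ] ℝ, (∀ (g : H) (u v w : U), t' (ρ g u) (ρ g v) (ρ g w) = t' u v w) → ∃ c : ℝ, t' = c • t) := by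
  have hk : ∀ u, (∀ v, B u v = 0) → u = 0 := by
    intro u hu
    rcases hirr (LinearMap.ker B) (fun g => by
      rintro _ ⟨w, hw, rfl⟩
      refine LinearMap.mem_ker.2 (LinearMap.ext fun v => ?_)
      have := hBi g w (ρ g⁻¹ v)
      rw [Representation.self_inv_apply] at this
      rw [this, LinearMap.mem_ker.1 hw]; rfl) with h | h
    · exact (Submodule.mem_bot ℝ).1 (h ▸ LinearMap.mem_ker.2 (LinearMap.ext hu))
    · exact absurd (LinearMap.ker_eq_top.1 h) hB0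
  have hn : B.Nondegenerate := ⟨hk, fun u hu => hk u fun v => by rw [hBs, hu]⟩
  have ext1 : ∀ x y : U, (∀ w, B x w = B y w) → x = y := fun x y h =>
    sub_eq_zero.1 (hk _ fun w => by rw [map_sub, LinearMap.sub_apply, h, sub_self])
  have ex : ∀ t : U →ₗ[ℝ] U →ₗ[ℝ] U →ₗ[ℝ] ℝ, ∃ m : U →ₗ[ℝ] U →ₗ[ℝ] U, ∀ u v w, B (m u v) w = t u v w :=
    fun t => ⟨t.compr₂ (B.toDual hn).symm.toLinearMap, fun u v w => by
      simp [LinearMap.BilinForm.apply_toDual_symm_apply]⟩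
  have inv : ∀ (m : U →ₗ[ℝ] U →ₗ[ℝ] U) (t : U →ₗ[ℝ] U →ₗ[ℝ] U →ₗ[ℝ] ℝ), (∀ u v w, B (m u v) w = t u v w) →
      ((∀ (g : H) (u v : U), m (ρ g u) (ρ g v) = ρ g (m u v)) ↔
        ∀ (g : H) (u v w : U), t (ρ g u) (ρ g v) (ρ g w) = t u v w) := fun m t h =>
    ⟨fun k g u v w => by rw [← h, k, hBi, h], fun k g u v => ext1 _ _ fun w => by
      rw [← Representation.self_inv_apply ρ g w, h, k, hBi, h]⟩
  constructor
  · rintro ⟨m, m0, mc, mi, mu⟩
    obtain ⟨t, ht⟩ : ∃ t : U →ₗ[ℝ] U →ₗ[ℝ] U →ₗ[ℝ] ℝ, ∀ u v w, B (m u v) w = t u v w :=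
      ⟨m.compr₂ B, fun _ _ _ => rfl⟩
    have ti := (inv m t ht).1 mi
    have tu : ∀ t' : U →ₗ[ℝ] U →ₗ[ℝ] U →ₗ[ℝ] ℝ,
        (∀ (g : H) (u v w : U), t' (ρ g u) (ρ g v) (ρ g w) = t' u v w) → ∃ c : ℝ, t' = c • t := by
      intro t' h
      obtain ⟨m', hm'⟩ := ex t'
      obtain ⟨c, rfl⟩ := mu m' ((inv m' t' hm').2 h)
      refine ⟨c, ?_⟩
      ext u v w
      simp [← hm', ← ht]
    have tc : ∀ u v w, t u v w = t v u w := fun u v w => by rw [← ht, ← ht, mc]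
    refine ⟨t, fun h => m0 ?_, fun u v w => ⟨tc u v w, ?_⟩, ti, tu⟩
    · ext u v
      exact hk _ fun w => by rw [ht, h]; rfl
    · obtain ⟨c, hc⟩ := tu (LinearMap.lflip.toLinearMap ∘ₗ t) fun g u v w => ti g u w v
      have k : ∀ u v w, t u w v = c * t u v w := fun u v w =>
        congrArg (fun s : U →ₗ[ℝ] U →ₗ[ℝ] U →ₗ[ℝ] ℝ => s u v w) hc
      have k1 := k u v w
      have k2 := k u w v
      have k3 := k v u w
      have k4 := k w v u
      rw [tc v u w] at k3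
      rw [tc w u v, tc w v u] at k4
      linear_combination k2 - k4 + c * (k1 - k3)
  · rintro ⟨t, t0, ts, ti, tu⟩
    obtain ⟨m, hm⟩ := ex t
    refine ⟨m, fun h => t0 ?_, fun u v => ext1 _ _ fun w => by rw [hm, hm, (ts u v w).1],
      (inv m t hm).2 ti, fun m' h => ?_⟩
    · ext u v w
      rw [← hm, h]; simp
    · obtain ⟨c, hc⟩ := tu (m'.compr₂ B) ((inv m' _ fun _ _ _ => rfl).1 h)
      refine ⟨c, ?_⟩
      ext u v
      refine ext1 _ _ fun w => ?_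
      have := congrArg (fun s : U →ₗ[ℝ] U →ₗ[ℝ] U →ₗ[ℝ] ℝ => s u v w) hc
      simpa [hm] using this

end Cfsg.Agent.S5541
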