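import Cfsg.Statements.S5549
import Cfsg.Agent.Lib.Steiner.Inv

set_option autoImplicit false
open Cfsg

namespace Cfsg.Agent.S5549

set_option linter.unusedSectionVars false
set_option linter.unusedVariables false
set_option linter.style.haveILetI false
set_option linter.unusedSimpArgs false

open Cfsg.Agent.Steiner Cfsg.Agent.Spor Finset

def sg (a : ZMod 2) : ℤ := if a = 0 then 1 else -1

theorem sg_add : ∀ a b, sg (a + b) = sg a * sg b := by decide

theorem sum_sg {V : Type*} [AddCommGroup V] [Fintype V] (l : V → ZMod 2) (hl : ∀ a b, l (a + b) = l a + l b)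
    (h : ¬ ∀ v, l v = 0) : ∑ v, sg (l v) = 0 := by
  push Not at h
  obtain ⟨v0, h⟩ := h
  have h1 : ∑ v, sg (l v) = ∑ v, sg (l (v + v0)) := (Equiv.sum_comp (Equiv.addRight v0) fun v => sg (l v)).symm
  simp only [hl, sg_add, ← sum_mul] at h1
  rw [show sg (l v0) = -1 from if_neg h] at h1
  linarith

theorem sum_sg_nonneg {V : Type*} [AddCommGroup V] [Fintype V] (l : V → ZMod 2)
    (hl : ∀ a b, l (a + b) = l a + l b) : 0 ≤ ∑ v, sg (l v) := by
  by_cases h : ∀ v, l v = 0
  · exact sum_nonneg fun v _ => by rw [h]; decide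
  · exact (sum_sg l hl h).ge

theorem ker_small (l : List GolayPt) (hl : l.length < 8) (h : ∀ c ∈ golayCode, (l.map c).sum = 0) (p : GolayPt) :
    (l.count p : ZMod 2) = 0 := by
  have e : ∀ (l : List GolayPt) (c : GolayPt → ZMod 2), ∑ i, (l.count i : ZMod 2) * c i = (l.map c).sum := by
    intro l c
    induction l with
    | nil => simp
    | cons a l ih => simp [List.count_cons, add_mul, sum_add_distrib, ih, add_comm]
  have h1 : support₂ (fun i => (l.count i : ZMod 2)) ∈ gC := mem_gC_of_even fun b hb => by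
    have := h _ (wd_basis b hb)
    rwa [← e, sum_mul_eq, support_wd, ZMod.natCast_eq_zero_iff, ← even_iff_two_dvd] at this
  have h2 : support₂ (fun i => (l.count i : ZMod 2)) ⊆ l.toFinset := fun i hi => by
    rw [mem_support₂] at hi
    rw [List.mem_toFinset, ← List.count_pos_iff, pos_iff_ne_zero]
    intro h0; exact hi (by rw [h0]; rfl)
  have h3 := (card_le_card h2).trans l.toFinset_card_le
  have h4 := card_of_mem_gC h1
  have h5 : support₂ (fun i => (l.count i : ZMod 2)) = ∅ := card_eq_zero.mp (by omega)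
  by_contra h6
  exact notMem_empty p (h5 ▸ mem_support₂.mpr h6)

theorem pair_eq {a b c d : GolayPt} (hab : a ≠ b) (h : ∀ w ∈ golayCode, w a + w b = w c + w d) :
    (a = c ∧ b = d) ∨ (a = d ∧ b = c) := by
  have h1 := ker_small [a, b, c, d] (by simp) fun w hw => by
    simp only [List.map_cons, List.map_nil, List.sum_cons, List.sum_nil, add_zero, ← add_assoc, h w hw]
    generalize w c = x; generalize w d = y; revert x y; decide
  have ka : c = a ∨ d = a := by
    by_contra h; push Not at h; have := h1 a; simp [List.count_cons, hab.symm, h.1, h.2] at this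
  have kb : c = b ∨ d = b := by
    by_contra h; push Not at h; have := h1 b; simp [List.count_cons, hab, h.1, h.2] at this
  grind

theorem pair_meet {a b c d e f : GolayPt} (hab : a ≠ b) (hcd : c ≠ d) (hef : e ≠ f)
    (h : ∀ w ∈ golayCode, w a + w b + (w c + w d) = w e + w f) : a = c ∨ a = d ∨ b = c ∨ b = d := by
  by_contra hn
  push Not at hn
  have h1 := ker_small [a, b, c, d, e, f] (by simp) fun w hw => by
    have := h w hw
    simp only [List.map_cons, List.map_nil, List.sum_cons, List.sum_nil, add_zero]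
    rw [← this]
    generalize w a = x; generalize w b = y; generalize w c = z; generalize w d = u; revert x y z u; decide
  have k : ∀ p, p = a ∨ p = b ∨ p = c ∨ p = d → p = e ∨ p = f := fun p hp => by
    have := h1 p
    by_contra h2
    push Not at h2
    obtain ⟨n1, n2, n3, n4⟩ := hn
    rcases hp with rfl | rfl | rfl | rfl <;> simp [List.count_cons, *, Ne.symm] at this
  have := k a (by simp)
  have := k b (by simp)
  have := k c (by simp)
  grind

/-- Let X be a group of linear automorphisms of the length-24 binary Golay code of the definitions that fix the all-ones word, containing the coordinate-permutation action of every element of the code's automorphism group (the Mathieu group of degree 24), and such that every element of X sends each codeword into its orbit under that Mathieu group up to adding the all-ones word (X has the same orbits as the Mathieu group on the code modulo the all-ones word). Then every element of X agrees, modulo the all-ones word, with the action of a single element of the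 Mathieu group: X induces exactly the Mathieu group on the code modulo the all-ones word. -/
theorem result (X : Subgroup (↥Cfsg.golayCode ≃ₗ[ZMod 2] ↥Cfsg.golayCode)) (h1 : ∀ x ∈ X, ∀ e : ↥Cfsg.golayCode, (e : (Cfsg.GolayPt → ZMod 2)) = (fun _ => (1 : ZMod 2)) → x e = e) (hM : ∀ σ ∈ Cfsg.M24, ∃ x ∈ X, ∀ c : ↥Cfsg.golayCode, ((x c : ↥Cfsg.golayCode) : (Cfsg.GolayPt → ZMod 2)) = fun p => (c : (Cfsg.GolayPt → ZMod 2)) (σ.symm p)) (horb : ∀ x ∈ X, ∀ c : ↥Cfsg.golayCode, ∃ σ ∈ Cfsg.M24, ((x c : ↥Cfsg.golayCode) : (Cfsg.GolayPt → ZMod 2)) = (fun p => (c : (Cfsg.GolayPt → ZMod 2)) (σ.symm p)) ∨ ((x c : ↥Cfsg.golayCode) : (Cfsg.GolayPt → ZMod 2)) = (fun p => (c : (Cfsg.GolayPt → ZMod 2)) (σ.symm p)) + fun _ => (1 : ZMod 2)) (x : ↥Cfsg.golayCode ≃ₗ[ZMod 2] ↥Cfsg.golayCode) (hx : x ∈ X) : ∃ σ ∈ Cfsg.M24, ∀ c : ↥Cfsg.golayCode, ((x c : ↥Cfsg.golayCode) : (Cfsg.GolayPt → ZMod 2)) = (fun p => (c : (Cfsg.GolayPt → ZMod 2)) (σ.symm p)) ∨ ((x c : ↥Cfsg.golayCode) : (Cfsg.GolayPt → ZMod 2)) = (fun p => (c : (Cfsg.GolayPt → ZMod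 2)) (σ.symm p)) + fun _ => (1 : ZMod 2) := by
  classical
  let f : (GolayPt → ZMod 2) → ℤ := fun c => (∑ k, sg (c k)) ^ 2
  have hf : ∀ c : golayCode, f (x c) = f c := fun c => by
    obtain ⟨σ, -, h | h⟩ := horb x hx c
    · simp only [f, h, Equiv.sum_comp σ.symm fun k => sg (c.1 k)]
    · simp only [f, h, Pi.add_apply, sg_add, ← sum_mul, Equiv.sum_comp σ.symm fun k => sg (c.1 k)]
      rw [show sg 1 = -1 from rfl]; ring
  have key : ∀ i j, i ≠ j → ∃ k l, k ≠ l ∧ ∀ c : golayCode, (x c).1 i + (x c).1 j = c.1 k + c.1 l := by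
    intro i j hij
    have hs : ∀ (c : GolayPt → ZMod 2) (t : ZMod 2), f c * sg t = ∑ k, ∑ l, sg (c k + c l + t) := fun c t => by
      simp only [f, sq, sum_mul_sum, sg_add]
      simp only [sum_mul]
    have h2 : 0 < ∑ c : golayCode, f c * sg (c.1 i + c.1 j) := by
      simp only [hs]
      rw [sum_comm]
      simp only [sum_comm (s := (univ : Finset golayCode))]
      have nn : ∀ k l, 0 ≤ ∑ c : golayCode, sg (c.1 k + c.1 l + (c.1 i + c.1 j)) := fun k l =>
        sum_sg_nonneg _ fun a b => by simp only [Submodule.coe_add, Pi.add_apply]; ring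
      refine sum_pos' (fun k _ => sum_nonneg fun l _ => nn k l) ⟨i, mem_univ _, sum_pos' (fun l _ => nn i l)
        ⟨j, mem_univ _, sum_pos (fun c _ => ?_) univ_nonempty⟩⟩
      rw [CharTwo.add_self_eq_zero]; decide
    rw [← Equiv.sum_comp x.toEquiv] at h2
    simp only [LinearEquiv.coe_toEquiv, hf, hs] at h2
    by_contra hn
    push Not at hn
    refine h2.ne' ?_
    rw [sum_comm]
    simp only [sum_comm (s := (univ : Finset golayCode))]
    refine sum_eq_zero fun k _ => sum_eq_zero fun l _ => sum_sg _ (fun a b => by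
      simp only [map_add, Submodule.coe_add, Pi.add_apply]; ring) fun h => ?_
    by_cases hkl : k = l
    · have := pair_eq hij (c := k) (d := k) fun w hw => by
        have := h (x.symm ⟨w, hw⟩)
        rw [hkl, CharTwo.add_self_eq_zero, zero_add, LinearEquiv.apply_symm_apply] at this
        rw [CharTwo.add_self_eq_zero]; exact this
      grind
    · obtain ⟨c, hc⟩ := hn k l hkl
      exact hc (CharTwo.add_eq_zero.mp (h c)).symm
  have key0 : ∀ i, ∃ k l, i ≠ none → k ≠ l ∧ ∀ c : golayCode, (x c).1 none + (x c).1 i = c.1 k + c.1 l := fun i => by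
    by_cases hi : i = none
    · exact ⟨none, none, fun h => absurd hi h⟩
    · obtain ⟨k, l, h⟩ := key none i (Ne.symm hi); exact ⟨k, l, fun _ => h⟩
  choose A B hAB using key0
  have hne : ∀ i j, i ≠ none → j ≠ none → i ≠ j → ¬ ((A i = A j ∧ B i = B j) ∨ (A i = B j ∧ B i = A j)) := by
    intro i j hi hj hij h
    have := pair_eq hij (c := i) (d := i) fun w hw => by
      have a1 := (hAB i hi).2 (x.symm ⟨w, hw⟩)
      have a2 := (hAB j hj).2 (x.symm ⟨w, hw⟩)
      rw [LinearEquiv.apply_symm_apply] at a1 a2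
      have : w none + w i = w none + w j := by
        refine a1.trans (Eq.trans ?_ a2.symm)
        rcases h with h | h <;> rw [h.1, h.2]
        exact add_comm _ _
      rw [add_left_cancel this]
    grind
  have hmeet : ∀ i j, i ≠ none → j ≠ none → i ≠ j → A i = A j ∨ A i = B j ∨ B i = A j ∨ B i = B j := by
    intro i j hi hj hij
    obtain ⟨k, l, hkl, h⟩ := key i j hij
    refine pair_meet (hAB i hi).1 (hAB j hj).1 hkl fun w hw => ?_
    rw [← (hAB i hi).2 ⟨w, hw⟩, ← (hAB j hj).2 ⟨w, hw⟩, ← h ⟨w, hw⟩]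
    generalize (x ⟨w, hw⟩).1 none = a; generalize (x ⟨w, hw⟩).1 i = b; generalize (x ⟨w, hw⟩).1 j = c
    revert a b c; decide
  have hp : ∃ p, ∀ i, i ≠ none → A i = p ∨ B i = p := by
    by_contra hn
    push Not at hn
    obtain ⟨i, hi, i1, i2⟩ := hn (A (some 0))
    obtain ⟨j, hj, j1, j2⟩ := hn (B (some 0))
    obtain ⟨k, hk⟩ : ({none, some 0, i, j} : Finset GolayPt)ᶜ.Nonempty := card_pos.mp (by
      have : ({none, some 0, i, j} : Finset GolayPt).card ≤ 4 := card_le_four
      rw [card_compl, card_golayPt]; omega)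
    simp only [mem_compl, mem_insert, mem_singleton, not_or] at hk
    have n0 : (some 0 : GolayPt) ≠ none := by simp
    have b0 := (hAB _ n0).1
    have bi := (hAB _ hi).1
    have bj := (hAB _ hj).1
    have bk := (hAB _ hk.1).1
    have i0 : i ≠ some 0 := by rintro rfl; exact i1 rfl
    have j0 : j ≠ some 0 := by rintro rfl; exact j2 rfl
    have m1 := hmeet _ _ hi n0 i0
    have m2 := hmeet _ _ hj n0 j0
    have ij : i ≠ j := by rintro rfl; grind
    have m3 := hmeet _ _ hi hj ij
    have m4 := hmeet _ _ hk.1 n0 hk.2.1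
    have m5 := hmeet _ _ hk.1 hi hk.2.2.1
    have m6 := hmeet _ _ hk.1 hj hk.2.2.2
    have n4 := hne _ _ hk.1 n0 hk.2.1
    have n5 := hne _ _ hk.1 hi hk.2.2.1
    have n6 := hne _ _ hk.1 hj hk.2.2.2
    grind
  obtain ⟨p, hp⟩ := hp
  let s : GolayPt → GolayPt := fun i => if i = none then p else if A i = p then B i else A i
  have hs : ∀ i (c : golayCode), (x c).1 none + (x c).1 i = c.1 p + c.1 (s i) := fun i c => by
    by_cases hi : i = none
    · simp only [s, hi, if_true, CharTwo.add_self_eq_zero]
    · rw [(hAB i hi).2 c]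
      simp only [s, if_neg hi]
      split_ifs with h
      · rw [h]
      · rw [(hp i hi).resolve_left h, add_comm]
  have hinj : Function.Injective s := fun i j h => by_contra fun hij => by
    have := pair_eq hij (c := i) (d := i) fun w hw => by
      have a1 := hs i (x.symm ⟨w, hw⟩)
      have a2 := hs j (x.symm ⟨w, hw⟩)
      rw [h, ← a2, LinearEquiv.apply_symm_apply] at a1
      rw [show w i = w j from add_left_cancel a1]
    grind
  let σ := Equiv.ofBijective s (Finite.injective_iff_bijective.mp hinj)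
  have hfin : ∀ c : golayCode, (x c).1 = (fun q => c.1 (σ q)) ∨ (x c).1 = (fun q => c.1 (σ q)) + fun _ => 1 := by
    intro c
    by_cases h : (x c).1 none = c.1 p
    · exact Or.inl (funext fun q => add_left_cancel (h ▸ hs q c))
    · refine Or.inr (funext fun q => ?_)
      have := hs q c
      show _ = c.1 (s q) + 1
      revert h this
      generalize (x c).1 none = a; generalize c.1 p = b; generalize (x c).1 q = d; generalize c.1 (s q) = e
      revert a b d e; decide
  refine ⟨σ.symm, mem_M24_of ?_, hfin⟩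
  rintro _ ⟨w, hw, rfl⟩
  rw [← support_perm, support_mem_gC]
  rcases hfin ⟨w, hw⟩ with h | h
  · exact h ▸ (x ⟨w, hw⟩).2
  · exact (golayCode.add_mem_iff_left (support_mem_gC.mp (support_one ▸ univ_mem_gC))).mp (h ▸ (x ⟨w, hw⟩).2)

end Cfsg.Agent.S5549
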