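import Cfsg.Statements.S5550
import Cfsg.Agent.Lib.Steiner.Inv

set_option autoImplicit false
open Cfsg

namespace Cfsg.Agent.S5550

set_option linter.unusedSectionVars false
set_option linter.unusedVariables false
set_option linter.style.haveILetI false
set_option linter.unusedSimpArgs false

open Cfsg.Agent.Steiner Cfsg.Agent.Spor Finset MulAction
open scoped Pointwise symmDiff

/-- Let u be a word of the length-24 binary Golay code of the definitions (possibly zero or all-ones) and w any binary word of length 24 outside the code. Then some automorphism of the code (a coordinate permutation preserving it) fixes u but moves w to a word not congruent to w modulo the code: the stabilizer of a codeword fixes no non-zero element of the quotient of the space of all words by the code. -/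
theorem result (u : (Cfsg.GolayPt → ZMod 2)) (hu : u ∈ Cfsg.golayCode) (w : (Cfsg.GolayPt → ZMod 2)) (hw : w ∉ Cfsg.golayCode) : ∃ σ ∈ Cfsg.M24, (fun p => u (σ.symm p)) = u ∧ (fun p => w (σ.symm p)) - w ∉ Cfsg.golayCode := by
  by_contra hc
  push Not at hc
  obtain ⟨t, h4, ht⟩ := exists_small (support₂ w)
  have h0 : t.card ≠ 0 := by
    rw [Ne, card_eq_zero]; rintro rfl
    exact hw (support_mem_gC.mp (by rwa [← bot_eq_empty, symmDiff_bot] at ht))
  have hle : stabilizer M24 (support₂ u) ≤ stabilizer M24 (sext t) := fun g hg => by
    have := hc g g.2 (support_inj ((support_perm g u).trans hg))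
    rw [← support_mem_gC, support_sub, support_perm] at this
    rw [mem_stabilizer_iff, ← sext_congr ht, smul_sext]
    exact sext_congr this
  have h1 := Subgroup.card_dvd_of_le hle
  have h2 := card_stab_cw (support_mem_gC.mpr hu)
  by_cases h3 : t.card = 4
  · rw [card_stab_sext (sext_mem h3)] at h1
    rcases h2 with h2 | h2 | h2 <;> rw [h2] at h1 <;> norm_num at h1
  · have e : stabilizer M24 (sext t) = stabilizer M24 t := by
      ext g; rw [sext_small (by omega), mem_stabilizer_iff, mem_stabilizer_iff, smul_finset_singleton, singleton_inj]
    rw [e] at h1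
    have : t.card = 1 ∨ t.card = 2 ∨ t.card = 3 := by omega
    rcases this with h5 | h5 | h5
    · rw [card_stab_small (t := t) (k := 10200960) (by omega) (by rw [h5]; rfl)] at h1
      rcases h2 with h2 | h2 | h2 <;> rw [h2] at h1 <;> norm_num at h1
    · rw [card_stab_small (t := t) (k := 887040) (by omega) (by rw [h5]; rfl)] at h1
      rcases h2 with h2 | h2 | h2 <;> rw [h2] at h1 <;> norm_num at h1
    · rw [card_stab_small (t := t) (k := 120960) (by omega) (by rw [h5]; rfl)] at h1
      rcases h2 with h2 | h2 | h2 <;> rw [h2] at h1 <;> norm_num at h1

end Cfsg.Agent.S5550
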