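import Cfsg.Statements.S5552
import Cfsg.Agent.Lib.Leech.Co1

set_option autoImplicit false
open Cfsg

namespace Cfsg.Agent.S5552

set_option linter.unusedSectionVars false
set_option linter.unusedVariables false
set_option linter.style.haveILetI false
set_option linter.unusedSimpArgs false

open Cfsg.Agent.Leech in

/-- On the Leech lattice of the definitions, let Q be a function to the field with two elements that is constant on cosets of twice the lattice, is a quadratic form there (Q(u+v+w) + Q(u) + Q(v) + Q(w) = Q(u+v) + Q(u+w) + Q(v+w) for all u, v, w), is invariant under every lattice automorphism, and is not identically zero. Then Q(v) is the squared length of v divided by 16, reduced modulo 2, for every lattice vector v (squared lengths of lattice vectors are multiples of 16). -/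
theorem result (Q : ↥Cfsg.leechLattice → ZMod 2) (hcoset : ∀ v w : ↥Cfsg.leechLattice, Q (v + (w + w)) = Q v) (hquad : ∀ u v w : ↥Cfsg.leechLattice, Q (u + v + w) + Q u + Q v + Q w = Q (u + v) + Q (u + w) + Q (v + w)) (hinv : ∀ (g : ↥Cfsg.Co0) (v : ↥Cfsg.leechLattice), Q (g • v) = Q v) (hne : ∃ v : ↥Cfsg.leechLattice, Q v ≠ 0) (v : ↥Cfsg.leechLattice) : Q v = ((Cfsg.sqNorm (v : Cfsg.GolayPt → ℤ) / 16 : ℤ) : ZMod 2) := by
  have c : ∀ x y : L, cl x = cl y → Q x = Q y := fun x y e => by
    obtain ⟨z, hz, e⟩ := cl_eq.1 e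
    rw [← hcoset y ⟨z, hz⟩]
    congr 1
    exact Subtype.ext (by rw [two_nsmul] at e; exact eq_add_of_sub_eq' e)
  have z0 : Q 0 = 0 := by
    have := hquad 0 0 0
    simp only [add_zero] at this
    revert this; generalize Q 0 = a; revert a; decide
  have a : ∀ x : L, sqNorm (x : V) = 32 → Q x = Q X0 := fun x h => let ⟨g, e⟩ := to_X0 x h; e ▸ (hinv g x).symm
  have b : ∀ x : L, sqNorm (x : V) = 48 → Q x = Q U0 := fun x h => let ⟨g, e⟩ := to_U0 x h; e ▸ (hinv g x).symm
  have d : ∀ x : L, sqNorm (x : V) = 64 → Q x = Q (E8 pa) := fun x h =>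
    let ⟨g, e⟩ := exists_std x h; (hinv g x).symm.trans (c _ _ e)
  have a0 : Q X0 = 0 := by
    have := hquad (T3 (-3) 1 1) X0 (S2 pb (Spor.gp 1) (-4) (-4))
    rw [a (_ + _ + _) (by decide +kernel), a (T3 _ _ _) (by decide +kernel), a (S2 _ _ _ _) (by decide +kernel),
      b (_ + X0) (by decide +kernel), b (T3 _ _ _ + _) (by decide +kernel), a (X0 + _) (by decide +kernel)] at this
    revert this; generalize Q X0 = a; generalize Q U0 = b; revert a b; decide
  have d0 : Q (E8 pa) = 0 := by
    have := hquad Y0 (S2 pb (Spor.gp 1) 4 (-4)) (S2 (Spor.gp 1) (Spor.gp 2) 4 (-4))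
    rw [a (_ + _ + _) (by decide +kernel), a Y0 nY0, a (S2 pb _ _ _) (by decide +kernel), a (S2 _ _ _ _) (by decide +kernel),
      a (Y0 + S2 pb _ _ _) (by decide +kernel), d (Y0 + _) (by decide +kernel), a (_ + _) (by decide +kernel), a0] at this
    simpa using this.symm
  have k : ∀ v : L, Q v = Q U0 * ((sqNorm (v : V) / 16 : ℤ) : ZMod 2) := fun v => by
    obtain ⟨y, hy, e, h⟩ := exists_short v.2
    have : ((sqNorm (v : V) / 16 : ℤ) : ZMod 2) = ((sqNorm y / 16 : ℤ) : ZMod 2) := by
      obtain ⟨z, hz, h⟩ := cl_eq.1 h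
      have p := eight_dvd hy hz
      have q := sixteen_dvd hz
      rw [ZMod.intCast_eq_intCast_iff', eq_add_of_sub_eq' h, sqNorm_add, sqNorm_two, two_nsmul, dot_add]
      push_cast
      omega
    rw [this, c v ⟨y, hy⟩ h]
    rcases e with e | e | e | e <;> rw [e]
    · rw [show (⟨y, hy⟩ : L) = 0 from Subtype.ext (sqNorm_eq_zero e), z0]; simp
    · rw [a ⟨y, hy⟩ e, a0]; exact (mul_eq_zero_of_right _ rfl).symm
    · rw [b ⟨y, hy⟩ e]; exact (mul_one _).symm
    · rw [d ⟨y, hy⟩ e, d0]; exact (mul_eq_zero_of_right _ rfl).symm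
  obtain ⟨w, hw⟩ := hne
  have : Q U0 = 1 := by
    by_contra n
    refine hw ?_
    rw [k w, show Q U0 = 0 by revert n; generalize Q U0 = a; revert a; decide, zero_mul]
  rw [k v, this, one_mul]

end Cfsg.Agent.S5552
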