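import Cfsg.Statements.S5555
import Cfsg.Agent.Lib.Tr3.Small
import Cfsg.Agent.S0827

set_option autoImplicit false
open Cfsg

namespace Cfsg.Agent.S5555

set_option linter.unusedSectionVars false
set_option linter.unusedVariables false
set_option linter.style.haveILetI false
set_option linter.unusedSimpArgs false

open Subgroup Cfsg.Agent.Tr3 Cfsg.Agent.Classical

/-- Let G be a finite group generated by a conjugacy class D of 3-transpositions, with trivial centre and with generalized Fitting subgroup F*(G) = O₂(G) (so the Fitting subgroup is O₂(G) too). If G/O₂(G) is isomorphic to the derived group of SU₃(2) (the group of order 54 generated by nine 3-transpositions), then O₂(G) has a complement in G. -/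
theorem result {G : Type*} [Group G] [Finite G] {D : Set G} (hD : Cfsg.IsThreeTranspositionClass D)
    (hZ : Subgroup.center G = ⊥) (hF : Cfsg.generalizedFittingSubgroup G = Cfsg.pCore 2 G)
    (hq : ∃ (F : Type) (_ : Field F) (_ : Fintype F), Fintype.card F = 4 ∧ Nonempty (G ⧸ Cfsg.pCore 2 G ≃* ↥(commutator ↥(Cfsg.SU 3 F 2)))) :
    ∃ K : Subgroup G, (Cfsg.pCore 2 G).IsComplement' K := by
  obtain ⟨F, _, _, hF4, ⟨e⟩⟩ := hq
  have hF' : Fintype.card F = 2 ^ 2 := hF4
  obtain ⟨N, _, -, hN, ⟨q⟩⟩ := S0827.result hF4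
  have t := tt_cls hD
  obtain ⟨d, hd, hd'⟩ := hD.2.1
  have hD2 : ∃ a ∈ D, ∃ b ∈ D, a ≠ b := by
    by_contra h
    push Not at h
    have : (zpowers d) ≤ center G := (le_center_iff hD.2.2).2 fun g hg a ha => by
      obtain ⟨k, rfl⟩ := hg
      rw [h a ha d hd]; exact (Commute.refl d).zpow_left k
    exact t.ne d hd (by simpa [hZ] using this (mem_zpowers d))
  obtain ⟨c, hc, hcd⟩ := exists_nc hD hD2 hd
  have hdQ : ∀ x ∈ D, x ∉ pCore 2 G := fun x hx h1 => by
    obtain ⟨g, e1⟩ := cls_conj hD hx hd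
    obtain ⟨k, e2⟩ := cls_conj hD hx hc
    exact hcd (commute_of_mem t (p := 2) (by norm_num) (Comp.isPGroup_pCore 2) hc hd (pow_mem (mul_mem
      (e2 ▸ Normal.conj_mem inferInstance x h1 k) (e1 ▸ Normal.conj_mem inferInstance x h1 g)) 2))
  let φ : G →* SU 3 F 2 := (commutator (SU 3 F 2)).subtype.comp (e.toMonoidHom.comp (QuotientGroup.mk' _))
  let ψ : SU 3 F 2 →* QuaternionGroup 2 := q.toMonoidHom.comp ((QuotientGroup.mk' N).comp (QuotientGroup.mk' _))
  have k1 : ∀ x, φ x = 1 → x ∈ pCore 2 G := fun x hx =>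
    (QuotientGroup.eq_one_iff x).1 (e.injective ((Subtype.ext hx).trans (map_one e).symm))
  have k2 : ∀ x : G, x ^ 2 = 1 → ψ (φ x) = 1 → x ∈ pCore 2 G := fun x h2 hx => by
    have h1 := hN _ ((QuotientGroup.eq_one_iff _).1 (q.injective (hx.trans (map_one q).symm)))
    have h3 : φ x ^ 3 ∈ center (SU 3 F 2) := (QuotientGroup.eq_one_iff _).1 h1
    have h4 : Nat.card (center (SU 3 F 2)) = 3 := by
      rw [card_center_congr (suEquiv hF' 3), card_center_unit hF' (uForm_nondeg hF' 3) (by simp)]; simp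
    have h5 : (φ x ^ 3) ^ 3 = 1 := by
      have := congrArg Subtype.val (pow_card_eq_one' (x := (⟨_, h3⟩ : center (SU 3 F 2))))
      rwa [h4] at this
    apply k1
    rwa [← pow_mul, show 3 * 3 = 2 * 4 + 1 from rfl, pow_succ, pow_mul, ← map_pow, h2, map_one, one_pow,
      one_mul] at h5
  have k3 : ∀ a b : QuaternionGroup 2, a * a = 1 → b * b = 1 → a ≠ 1 → b ≠ 1 → a * b = 1 := by decide
  obtain ⟨P, hP1, hP2⟩ := exists_sylow_three hD hD2 hd fun y hy hc => (RV_iff t hd hy).2 (k2 _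
    (t.sq2 hd hy hc) (by
      rw [map_mul, map_mul]
      exact k3 _ _ (by rw [← map_mul, ← map_mul, t.sq d hd, map_one, map_one])
        (by rw [← map_mul, ← map_mul, t.sq y hy, map_one, map_one])
        (fun h => hdQ d hd (k2 d (by rw [pow_two, t.sq d hd]) h))
        (fun h => hdQ y hy (k2 y (by rw [pow_two, t.sq y hy]) h))))
  refine ⟨zpowers d ⊔ P, isComplement'_of_disjoint_and_mul_eq_univ (disjoint_def.2 fun {x} hx hx' => ?_)
    (by rw [← normal_mul, sup_comm, hP2]; rfl)⟩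
  obtain ⟨_, ⟨k, rfl⟩, p, hp, rfl⟩ := (Transfer.mem_sup_iff_of_le_normalizer (zpowers_le.2 hP1)).1 hx'
  obtain ⟨n, hn⟩ := P.2 ⟨p, hp⟩
  have hn' : p ^ 3 ^ n = 1 := congrArg Subtype.val hn
  have d2 : d ^ (2 : ℤ) = 1 := by rw [zpow_two, t.sq d hd]
  rcases Int.even_or_odd' k with ⟨j, rfl | rfl⟩
  · simp only [zpow_mul, d2, one_zpow, one_mul] at hx ⊢
    exact eq_one_of_pgroup (Comp.isPGroup_pCore 2) hx hn' (Nat.Coprime.pow_left _ (by norm_num))
  · simp only [zpow_add, zpow_mul, d2, one_zpow, one_mul, zpow_one] at hx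
    exfalso
    apply hdQ d hd
    rw [← QuotientGroup.eq_one_iff] at hx ⊢
    rw [QuotientGroup.mk_mul, mul_eq_one_iff_eq_inv] at hx
    have h1 : (d : G ⧸ pCore 2 G) ^ 3 ^ n = 1 := by
      rw [hx, inv_pow, ← QuotientGroup.mk_pow, hn']; simp
    have h2 : (d : G ⧸ pCore 2 G) ^ 2 = 1 := by rw [← QuotientGroup.mk_pow, pow_two, t.sq d hd]; simp
    obtain ⟨m, hm⟩ : Odd (3 ^ n) := Odd.pow (by decide)
    rwa [hm, pow_succ, pow_mul, h2, one_pow, one_mul] at h1

end Cfsg.Agent.S5555
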