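import Cfsg.Statements.S5562


set_option autoImplicit false
open Cfsg

namespace Cfsg.Agent.S5562

set_option linter.unusedSectionVars false
set_option linter.unusedVariables false
set_option linter.style.haveILetI false
set_option linter.unusedSimpArgs false

/-- Let G be a finite group, d an involution of G whose conjugates pairwise have products of odd order, and x any involution of G. Then the conjugacy class of d is the disjoint union, over the conjugates a of d commuting with x, of the sets of conjugates of d commuting with ax: every conjugate of d commutes with ax for exactly one conjugate a of d that commutes with x. -/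
theorem result {G : Type*} [Group G] [Finite G] (d : G) (hd : orderOf d = 2)
    (hodd : ∀ a ∈ conjugatesOf d, ∀ b ∈ conjugatesOf d, Odd (orderOf (a * b)))
    (x : G) (hx : orderOf x = 2) :
    ∀ e ∈ conjugatesOf d,
      ∃! a : G, a ∈ conjugatesOf d ∧ Commute a x ∧ Commute e (a * x) := by
  intro e he
  have cj : ∀ g, ∀ a ∈ conjugatesOf d, g * a * g⁻¹ ∈ conjugatesOf d := fun g a ha =>
    IsConj.trans ha (isConj_iff.2 ⟨g, rfl⟩)
  have sq : ∀ a ∈ conjugatesOf d, a * a = 1 := fun a ha => by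
    obtain ⟨g, rfl⟩ := isConj_iff.1 ha
    have h1 : d * d = 1 := by rw [← pow_two, ← hd, pow_orderOf_eq_one]
    simp [mul_assoc, ← mul_assoc d d, h1]
  have x2 : x * x = 1 := by rw [← pow_two, ← hx, pow_orderOf_eq_one]
  have xi : x⁻¹ = x := inv_eq_of_mul_eq_one_right x2
  have inj : ∀ a ∈ conjugatesOf d, ∀ b ∈ conjugatesOf d, a * e * a⁻¹ = b * e * b⁻¹ → a = b := fun a ha b hb h => by
    rw [inv_eq_of_mul_eq_one_right (sq a ha), inv_eq_of_mul_eq_one_right (sq b hb)] at h
    have h1 : (a * e) ^ 2 = (b * e) ^ 2 := by rw [pow_two, pow_two, ← mul_assoc, h, ← mul_assoc]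
    obtain ⟨k, hk⟩ := (hodd a ha e he).mul (hodd b hb e he)
    have h2 : ∀ y : G, orderOf y ∣ 2 * k + 1 → y = (y ^ 2) ^ (k + 1) := fun y hy => by
      rw [← pow_mul, show 2 * (k + 1) = 2 * k + 1 + 1 by ring, pow_succ, orderOf_dvd_iff_pow_eq_one.1 hy, one_mul]
    exact mul_right_cancel ((h2 _ (hk ▸ dvd_mul_right _ _)).trans (h1 ▸ (h2 _ (hk ▸ dvd_mul_left _ _)).symm))
  have sur := Finite.surjective_of_injective (f := fun a : conjugatesOf d => (⟨a * e * a.1⁻¹, cj _ _ he⟩ : conjugatesOf d))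
    fun a b h => Subtype.ext (inj _ a.2 _ b.2 (congrArg Subtype.val h))
  have k : ∀ a ∈ conjugatesOf d, Commute e (a * x) ↔ a * e * a⁻¹ = x * e * x⁻¹ := fun a ha => by
    have ai := inv_eq_of_mul_eq_one_right (sq a ha)
    constructor
    · intro h
      calc a * e * a⁻¹ = a⁻¹ * (e * (a * x)) * x⁻¹ := by rw [ai]; group
        _ = _ := by rw [h.eq]; group
    · intro h
      show e * (a * x) = a * x * e
      calc e * (a * x) = a⁻¹ * (a * e * a⁻¹) * (a * a) * x := by group
        _ = _ := by rw [h, sq a ha, ai]; group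
  obtain ⟨⟨a, ha⟩, e1⟩ := sur ⟨_, cj x e he⟩
  have e2 : a * e * a⁻¹ = x * e * x⁻¹ := congrArg Subtype.val e1
  refine ⟨a, ⟨ha, ?_, (k a ha).2 e2⟩, fun b hb => inj _ hb.1 _ ha (((k b hb.1).1 hb.2.2).trans e2.symm)⟩
  have := inj _ (cj x a ha) _ ha (by
    calc x * a * x⁻¹ * e * (x * a * x⁻¹)⁻¹ = x * a * (x⁻¹ * e * x⁻¹⁻¹) * a⁻¹ * x⁻¹ := by group
      _ = x * (a * a) * e * (a * a)⁻¹ * x⁻¹ := by
        rw [show x⁻¹ * e * x⁻¹⁻¹ = a * e * a⁻¹ by rw [e2, xi, xi]]; group
      _ = _ := by rw [sq a ha, e2]; group)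
  exact (mul_inv_eq_iff_eq_mul.1 this).symm

end Cfsg.Agent.S5562
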