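import Cfsg.Statements.S5594
import Cfsg.Agent.Lib.Leech.Gen

set_option autoImplicit false
open Cfsg

namespace Cfsg.Agent.S5594

set_option linter.unusedSectionVars false
set_option linter.unusedVariables false
set_option linter.style.haveILetI false
set_option linter.unusedSimpArgs false

/-- The automorphism group of the Leech lattice contains the negation map, and the subgroup of order 2 it generates has no complement: the automorphism group is a non-split extension of its quotient by that subgroup (it is not the direct product of a group of order 2 with the first Conway group). -/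
theorem result :
    ∃ n : ↥Cfsg.Co0, (∀ v : ↥Cfsg.leechLattice, ((n • v : ↥Cfsg.leechLattice) : Cfsg.GolayPt → ℤ) = -(v : Cfsg.GolayPt → ℤ)) ∧
    ∀ K : Subgroup ↥Cfsg.Co0, ¬ (Subgroup.zpowers n).IsComplement' K := by
  refine ⟨Leech.neg1, fun v => by rw [Leech.neg1_smul]; rfl, fun K h => Leech.neg1_ne ?_⟩
  have a := h.index_eq_card
  rw [Nat.card_zpowers, orderOf_eq_prime (p := 2) (by rw [sq, Leech.neg1_sq]) Leech.neg1_ne] at a
  exact Subgroup.disjoint_def.1 h.disjoint (Subgroup.mem_zpowers _) (Leech.neg1_mem_index_two K a)

end Cfsg.Agent.S5594
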