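import Cfsg.Statements.S5599
import Cfsg.Agent.Lib.Spor.Six

set_option autoImplicit false
open scoped Pointwise
open Cfsg

namespace Cfsg.Agent.S5599

set_option linter.unusedSectionVars false
set_option linter.unusedVariables false
set_option linter.style.haveILetI false
set_option linter.unusedSimpArgs false

open Cfsg.Agent.Spor Cfsg.Agent.PC MulAction Finset
def v : ℕ := nat_lit 0xbbda9119615408e64655a4c67b20a0
theorem iv : Is (m24 v) v := is_of (by decide +kernel)
theorem mem22 {x : Equiv.Perm GolayPt} : x ∈ Cfsg.Spor.M22 ↔ x ∈ M24 ∧ x none = none ∧ x (some 0) = some 0 :=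
  ⟨fun h => ⟨h.1.1, h.1.2, h.2⟩, fun h => ⟨⟨h.1, h.2.1⟩, h.2.2⟩⟩

/-- In the automorphism group of the length-24 code, the two-point Mathieu group (permutations of the code's group fixing the extra point and the residue 0) has index 2 in the setwise stabiliser of that pair of points, and an element of the code's group interchanging the two points normalises the two-point group and induces on it, by conjugation, an automorphism that is not inner. -/
theorem result (g : Equiv.Perm Cfsg.GolayPt) (hg : g ∈ Cfsg.M24) (h₁ : g none = some 0) (h₂ : g (some 0) = none) : Cfsg.Spor.M22.relIndex (Cfsg.M24 ⊓ MulAction.stabilizer (Equiv.Perm Cfsg.GolayPt) ({none, some 0} : Finset Cfsg.GolayPt)) = 2 ∧ (∀ x ∈ Cfsg.Spor.M22, g * x * g⁻¹ ∈ Cfsg.Spor.M22) ∧ ¬ ∃ h ∈ Cfsg.Spor.M22, ∀ x ∈ Cfsg.Spor.M22, g * x * g⁻¹ = h * x * h⁻¹ := by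
  have i1 : g⁻¹ none = some 0 := by rw [Equiv.Perm.inv_eq_iff_eq, h₂]
  have i2 : g⁻¹ (some 0) = none := by rw [Equiv.Perm.inv_eq_iff_eq, h₁]
  refine ⟨Subgroup.relIndex_eq_two_iff_exists_notMem_and.2 ⟨g, ⟨hg, ?_⟩, fun h => by simp [mem22, h₁] at h, fun b hb => ?_⟩,
    fun x hx => ?_, fun ⟨h, hh, e⟩ => ?_⟩
  · simp [smul_finset_insert, h₁, h₂, pair_comm]
  · have e : ({b none, b (some 0)} : Finset GolayPt) = {none, some 0} := by
      simpa [smul_finset_insert] using mem_stabilizer_iff.1 hb.2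
    have a : b none ∈ ({none, some 0} : Finset GolayPt) := e ▸ by simp
    have c : b (some 0) ∈ ({none, some 0} : Finset GolayPt) := e ▸ by simp
    have n : b none ≠ b (some 0) := by simp
    simp only [mem_insert, mem_singleton] at a c
    rcases a with a | a <;> rcases c with c | c
    · exact absurd (a.trans c.symm) n
    · exact .inr (mem22.2 ⟨hb.1, a, c⟩)
    · exact .inl (mem22.2 ⟨mul_mem hb.1 hg, (congrArg b h₁).trans c, (congrArg b h₂).trans a⟩)
    · exact absurd (a.trans c.symm) n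
  · rw [mem22] at hx ⊢
    exact ⟨mul_mem (mul_mem hg hx.1) (inv_mem hg), by simp only [Equiv.Perm.mul_apply, i1, hx.2.2, h₂],
      by simp only [Equiv.Perm.mul_apply, i2, hx.2.1, h₁]⟩
  · rw [mem22] at hh
    obtain ⟨c, a⟩ := exists_is ((⟨h, hh.1⟩ : M24)⁻¹ * ⟨g, hg⟩)
    have m : (⟨h, hh.1⟩ : M24)⁻¹ * ⟨g, hg⟩ * m24 v = m24 v * ((⟨h, hh.1⟩ : M24)⁻¹ * ⟨g, hg⟩) := Subtype.ext (by
      have := e (m24 v).1 (mem22.2 ⟨(m24 v).2, (iv.gp_iff (i := 23) (j := 23) (by norm_num) (by norm_num)).2 (by decide +kernel),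
        (iv.gp_iff (i := 0) (j := 0) (by norm_num) (by norm_num)).2 (by decide +kernel)⟩)
      change h⁻¹ * g * _ = _ * (h⁻¹ * g)
      rw [mul_assoc, eq_mul_of_mul_inv_eq this]; group)
    refine full1.all (fun c => Spor.cmp c v ≠ Spor.cmp v c) ((prX_ok iv iv).add (prP_ok [(23, 0)] (by decide)))
      (by decide +kernel) a ⟨m, List.forall_mem_singleton.2 ?_⟩ ((a.comm_iff iv).1 m)
    change h⁻¹ (g none) = some 0
    rw [h₁, Equiv.Perm.inv_eq_iff_eq, hh.2.2]

end Cfsg.Agent.S5599
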