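import Cfsg.Statements.S5601
import Cfsg.Agent.Lib.Spor.Aux1

set_option autoImplicit false
open scoped Pointwise
open Cfsg

namespace Cfsg.Agent.S5601

set_option linter.unusedSectionVars false
set_option linter.unusedVariables false
set_option linter.style.haveILetI false
set_option linter.unusedSimpArgs false

open Cfsg.Agent.Spor Cfsg.Agent.PC in
theorem fx (x : M24) : {p : GolayPt | ∀ y ∈ Subgroup.zpowers x, y.1 p = p}.ncard = (Fx x).card := by
  rw [← Set.ncard_coe_finset]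
  congr 1; ext p
  exact ⟨fun h => mem_Fx.2 (h x (Subgroup.mem_zpowers x)), fun h y hy =>
    (Subgroup.zpowers_le (H := MulAction.stabilizer M24 p)).2 (mem_Fx.1 h) hy⟩

open Cfsg.Agent.Spor Cfsg.Agent.PC in

/-- The group of the length-24 code has exactly two conjugacy classes of subgroups of order 3: a subgroup of order 3 fixes either exactly 6 of the 24 points or none of them, both cases occur, and two subgroups of order 3 with the same number of fixed points are conjugate. -/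
theorem result : (∀ X : Subgroup ↥Cfsg.M24, Nat.card X = 3 → {p : Cfsg.GolayPt | ∀ x ∈ X, ((x : ↥Cfsg.M24) : Equiv.Perm Cfsg.GolayPt) p = p}.ncard = 6 ∨ {p : Cfsg.GolayPt | ∀ x ∈ X, ((x : ↥Cfsg.M24) : Equiv.Perm Cfsg.GolayPt) p = p}.ncard = 0) ∧ (∃ X : Subgroup ↥Cfsg.M24, Nat.card X = 3 ∧ {p : Cfsg.GolayPt | ∀ x ∈ X, ((x : ↥Cfsg.M24) : Equiv.Perm Cfsg.GolayPt) p = p}.ncard = 6) ∧ (∃ X : Subgroup ↥Cfsg.M24, Nat.card X = 3 ∧ {p : Cfsg.GolayPt | ∀ x ∈ X, ((x : ↥Cfsg.M24) : Equiv.Perm Cfsg.GolayPt) p = p}.ncard = 0) ∧ ∀ X Y : Subgroup ↥Cfsg.M24, Nat.card X = 3 → Nat.card Y = 3 → {p : Cfsg.GolayPt | ∀ x ∈ X, ((x : ↥Cfsg.M24) : Equiv.Perm Cfsg.GolayPt) p = p}.ncard = {p : Cfsg.GolayPt | ∀ x ∈ Y, ((x : ↥Cfsg.M24) : Equiv.Perm Cfsg.GolayPt) p = p}.ncard → ∃ k : ↥Cfsg.M24, MulAut.conj k • X = Y := by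
  refine ⟨fun X h => ?_, ⟨_, (Nat.card_zpowers _).trans ord_uA, (fx _).trans fx_uA⟩,
    ⟨_, (Nat.card_zpowers _).trans ord_uB, (fx _).trans fx_uB⟩, fun X Y h h' e => ?_⟩
  · obtain ⟨x, hx, rfl⟩ := exists_zpowers Nat.prime_three h
    rw [fx]
    exact (cls3 hx).imp (fun k => (card_Fx_of_conj k).trans fx_uA) fun k => (card_Fx_of_conj k).trans fx_uB
  · obtain ⟨x, hx, rfl⟩ := exists_zpowers Nat.prime_three h
    obtain ⟨y, hy, rfl⟩ := exists_zpowers Nat.prime_three h'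
    rw [fx, fx] at e
    have : IsConj x y := by
      by_cases z : (Fx x).card = 0
      · exact (cls3B hx z).trans (cls3B hy (e ▸ z)).symm
      · exact (cls3A hx z).trans (cls3A hy (e ▸ z)).symm
    obtain ⟨k, rfl⟩ := isConj_iff.1 this
    exact ⟨k, conj_zpowers k x⟩

end Cfsg.Agent.S5601
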