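import Cfsg.Statements.S5604
import Cfsg.Agent.Lib.Spor.Aux1

set_option autoImplicit false
open scoped Pointwise
open Cfsg

namespace Cfsg.Agent.S5604

set_option linter.unusedSectionVars false
set_option linter.unusedVariables false
set_option linter.style.haveILetI false
set_option linter.unusedSimpArgs false

open Cfsg.Agent.Spor Cfsg.Agent.PC MulAction Subgroup
def v1 : ℕ := nat_lit 0x5cc39cad1441ee1242a391abad0ac
def v2 : ℕ := nat_lit 0x600959caf654510a04a93ade230dae
def v3 : ℕ := nat_lit 0x731669c8174d951195a138914255f0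
def v4 : ℕ := nat_lit 0x838449c9800dd36ab5e53d14359911
def v5 : ℕ := nat_lit 0x8c28b9c9cc2803733d0d38d3511156
def v6 : ℕ := nat_lit 0xb44629ca0e6b0a02214f3d426a2d37
theorem i1 : Is (m24 v1) v1 := is_of (by decide +kernel)
theorem i2 : Is (m24 v1 ^ 2) v2 := by rw [sq, show v2 = Spor.cmp v1 v1 by decide +kernel]; exact i1.mul i1
theorem i3 : Is (m24 v1 ^ 3) v3 := by rw [pow_succ, show v3 = Spor.cmp v2 v1 by decide +kernel]; exact i2.mul i1
theorem i4 : Is (m24 v1 ^ 4) v4 := by rw [pow_succ, show v4 = Spor.cmp v3 v1 by decide +kernel]; exact i3.mul i1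
theorem i5 : Is (m24 v1 ^ 5) v5 := by rw [pow_succ, show v5 = Spor.cmp v4 v1 by decide +kernel]; exact i4.mul i1
theorem i6 : Is (m24 v1 ^ 6) v6 := by rw [pow_succ, show v6 = Spor.cmp v5 v1 by decide +kernel]; exact i5.mul i1
theorem ord : orderOf (m24 v1) = 7 := by
  have := Fact.mk (by norm_num : Nat.Prime 7)
  exact orderOf_eq_prime (by rw [pow_succ, (i6.mul i1).eq_one]; decide +kernel) (by rw [Ne, i1.eq_one]; decide +kernel)
def P (v g : M24) : Prop := (g * v = v * g ∨ g * v = v ^ 2 * g) ∨ g * v = v ^ 4 * g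
theorem all {w : M24} {k : ℕ} (i : Is w k) (Q : ℕ → Prop) [DecidablePred Q] {g : M24} {c : ℕ} (a : Is g c)
    (e : Nat.beq (tree (prC (fun i j => eqI (pf v1 i) j) (fun i j => eqI (pf k i) j))
      (fun c => if (Spor.cmp c v1 = Spor.cmp k c → Q c) then 0 else 1) tr2 [] idc) (nat_lit 0) = true)
    (h : g * m24 v1 = w * g) : Q c :=
  full2.all (fun c => Spor.cmp c v1 = Spor.cmp k c → Q c) (prX_ok i1 i) e a h (((a.mul i1).eq_iff (i.mul a)).1 h)
theorem memN (g : M24) : g ∈ normalizer (zpowers (m24 v1) : Set M24) ↔ P (m24 v1) g := by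
  have n : g * m24 v1 * g⁻¹ ≠ 1 := by rw [Ne, conj_eq_one', i1.eq_one]; decide +kernel
  obtain ⟨c, a⟩ := exists_is g
  have n3 := mt (all i3 (fun _ => False) a (by decide +kernel)) id
  have n5 := mt (all i5 (fun _ => False) a (by decide +kernel)) id
  have n6 := mt (all i6 (fun _ => False) a (by decide +kernel)) id
  rw [mem_norm_zp, mem_zpowers_iff_mem_range_orderOf, ord, P]
  simp only [← mul_inv_eq_iff_eq_mul] at n3 n5 n6 ⊢
  generalize g * m24 v1 * g⁻¹ = x at n n3 n5 n6 ⊢
  simp [Finset.range_add_one, n, n3, n5, n6, eq_comm]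
  tauto
theorem cnt' {w : M24} {k : ℕ} (i : Is w k)
    (e : Nat.beq (tree (prC (fun i j => eqI (pf v1 i) j) (fun i j => eqI (pf k i) j))
      (fun c => if Spor.cmp c v1 = Spor.cmp k c then 1 else 0) tr2 [] idc) 42 = true) :
    Nat.card {g // g * m24 v1 = w * g} = 42 := full2.card _ (prX_ok i1 i) (fun _ _ a => (a.mul i1).eq_iff (i.mul a)) e
theorem card_or {A B : M24 → Prop} (h : ∀ g, A g → B g → False) :
    Nat.card {g // A g ∨ B g} = Nat.card {g // A g} + Nat.card {g // B g} := by
  classical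
  rw [Nat.card_congr (subtypeOrEquiv A B (Pi.disjoint_iff.2 fun g => Prop.disjoint_iff.2 fun e => h g e.1 e.2)), Nat.card_sum]
theorem dj {w w' g : M24} {k k' : ℕ} (i : Is w k) (i' : Is w' k') (n : k ≠ k') (h : g * m24 v1 = w * g)
    (h' : g * m24 v1 = w' * g) : False := n ((i.eq_iff i').1 (mul_right_cancel (h.symm.trans h')))
theorem cardP : Nat.card {g // P (m24 v1) g} = 126 := by
  unfold P
  rw [card_or fun g a b => a.elim (fun a => dj i1 i4 (by decide) a b) fun a => dj i2 i4 (by decide) a b,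
    card_or fun g => dj i1 i2 (by decide), cnt' i1 (by decide +kernel), cnt' i2 (by decide +kernel), cnt' i4 (by decide +kernel)]
def T : ℕ := nat_lit 0xc750013008dc08a722
theorem fixT {g : M24} (h : P (m24 v1) g) : g • sys 3 T = sys 3 T := by
  obtain ⟨c, a⟩ := exists_is g
  rw [a.sys_iff (by decide +kernel)]
  rcases h with (h | h) | h
  · exact all i1 (actE 3 · T T = 0) a (by decide +kernel) h
  · exact all i2 (actE 3 · T T = 0) a (by decide +kernel) h
  · exact all i4 (actE 3 · T T = 0) a (by decide +kernel) h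

/-- For a subgroup S of order 7 of the group of the length-24 code (a Sylow 7-subgroup): the normaliser of S has order 126, the centraliser of S has order 42 and is non-abelian, and the whole normaliser leaves some trio invariant. (These are the orders of a Frobenius group of order 21 times a symmetric group of degree 3; the isomorphism type itself is not asserted here.) -/
theorem result (S : Subgroup ↥Cfsg.M24) (hS : Nat.card S = 7) : Nat.card ↥(Subgroup.normalizer (S : Set ↥Cfsg.M24)) = 126 ∧ Nat.card ↥(Subgroup.centralizer (S : Set ↥Cfsg.M24)) = 42 ∧ (∃ x ∈ Subgroup.centralizer (S : Set ↥Cfsg.M24), ∃ y ∈ Subgroup.centralizer (S : Set ↥Cfsg.M24), x * y ≠ y * x) ∧ ∃ T ∈ Cfsg.trios, ∀ n ∈ Subgroup.normalizer (S : Set ↥Cfsg.M24), ((n : ↥Cfsg.M24) : Equiv.Perm Cfsg.GolayPt) • T = T := by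
  have := Fact.mk (by norm_num : Nat.Prime 7)
  have f : 7 = 7 ^ (Nat.card M24).factorization 7 := by
    rw [card_M24, show 244823040 = 7 * 34974720 from rfl, Nat.factorization_eq_of_coprime_left (by norm_num) (by
      rw [Nat.primeFactorsList_prime this.out]; simp), this.out.factorization_self]; rfl
  obtain ⟨a, e⟩ := exists_smul_eq M24 (Sylow.ofCard (zpowers (m24 v1)) (((Nat.card_zpowers _).trans ord).trans f))
    (Sylow.ofCard S (hS.trans f))
  obtain rfl : S = zpowers (a * m24 v1 * a⁻¹) := (congrArg Sylow.toSubgroup e).symm.trans (conj_zpowers _ _)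
  have kN : ∀ g, a * g * a⁻¹ ∈ normalizer (zpowers (a * m24 v1 * a⁻¹) : Set M24) ↔ P (m24 v1) g := fun g => by
    rw [← memN, mem_norm_zp, mem_norm_zp, ← zp_conj a (m24 v1)]; congr! 1; group
  have kC : ∀ g, a * g * a⁻¹ ∈ centralizer (zpowers (a * m24 v1 * a⁻¹) : Set M24) ↔ g * m24 v1 = m24 v1 * g := fun g => by
    rw [mem_cent_zp, comm_conj]
  have x := is_of (c := 0xbd94f3ca30a384c2d4c39a56143480) (by decide +kernel)
  have y := is_of (c := 0x522d03cded316a162c4495c608ba89) (by decide +kernel)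
  refine ⟨(card_conj a kN).trans cardP, (card_conj a kC).trans (cnt' i1 (by decide +kernel)), ⟨_, (kC _).2 ((x.comm_iff i1).2 (by decide +kernel)), _,
    (kC _).2 ((y.comm_iff i1).2 (by decide +kernel)), by rw [Ne, comm_conj, x.comm_iff y]; decide +kernel⟩,
    a • sys 3 T, (smul_mem_trios a).2 ?_, fun n hn => ?_⟩
  · have := trio_mem (bset_oct (n := 567074) (by decide +kernel)) (bset_oct (n := 3147996) (by decide +kernel))
      ((bset_disjoint_iff (by norm_num)).2 (by decide +kernel))
    rw [← bset_or, ← bset_compl] at this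
    exact this
  · simpa [mul_assoc] using cj_set a (fixT ((kN (a⁻¹ * n * a)).1 (by simpa [mul_assoc] using hn)))

end Cfsg.Agent.S5604
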