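import Cfsg.Statements.S5607
import Cfsg.Agent.Lib.Spor.Aux1

set_option autoImplicit false
open scoped Pointwise
open Cfsg

namespace Cfsg.Agent.S5607

set_option linter.unusedSectionVars false
set_option linter.unusedVariables false
set_option linter.style.haveILetI false
set_option linter.unusedSimpArgs false

open Cfsg.Agent.Spor Cfsg.Agent.PC MulAction
def L : List ℕ := [nat_lit 0x48a7ad20d42c2a73066b104f4ce37, nat_lit 0xa1420188f1b6b1a5a4e9dd2b3b0b0, nat_lit 0x104d06ae4ca5ce048eaf546d3215c8, nat_lit 0x1d19684da53d6241200b3064eba9e9, nat_lit 0x23a2c7c941301771a5163966d15215, nat_lit 0x2aa0b235d645d8048e728d44131e8f, nat_lit 0x3585492dac85e2048df551c28291d3, nat_lit 0x3ce86ab8ab45de01a611610560b552, nat_lit 0x425a33a80c81af3796b65c831251c2, nat_lit 0x4a202696a6a2c8a638127c6c1b9e63, nat_lit 0x540419b6547dce01a5c4898a8656cb, nat_lit 0x59ad3185e7008a8a918d826f47464a, nat_lit 0x6080878492336b1b51498167758cee, nat_lit 0x6c141214e645e4048e8c7d44bb3a71, nat_lit 0x735f140687adec01a5538088559a4c,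 nat_lit 0x7d01659e30711b5120c99299798c25, nat_lit 0x85994791a235e2048e4aa966e3ad01, nat_lit 0x8855044e4f25ce048ecc30aaba38ad, nat_lit 0x9304eb3d466dd601a4242d22885667, nat_lit 0x989c869ea1b5c801a5ea9468c2ae06, nat_lit 0xa12557a90c9dc401a621594c76c1d6, nat_lit 0xa82973b92b81873795116483613544, nat_lit 0xb3aac35d497c9670c22204ca46a074, nat_lit 0xbdab49ca307b9ac5a928398a418820]
theorem Lok : AllOK L := by decide +kernel
noncomputable abbrev H : Subgroup M24 := Subgroup.centralizer {m24 tB}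
theorem LH : ∀ c ∈ L, m24 c ∈ H := fun c hc => Subgroup.mem_centralizer_singleton_iff.2 (((Lok.is hc).comm_iff is_tB).2 (by
  revert c; decide +kernel))
theorem tr (p q : GolayPt) : ∃ g ∈ H, g • p = q :=
  Cov.trans (b := 23) (n := 16777215) (by decide +kernel) (by norm_num) Lok LH (bset_all ▸ Finset.mem_univ _)
    (bset_all ▸ Finset.mem_univ _)
def pr := ((prX_ok is_tB is_tB).add (prP_ok [(23, 23)] (by decide))).mono
  (Q := fun g => g * m24 tB = m24 tB * g ∧ g • gp 23 = gp 23) fun g h => ⟨h.1, by simpa using h.2⟩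
theorem cardH : Nat.card H = 7680 := by
  rw [card_eq_orbit_mul H (gp 23), orbit_eq_of (S := Set.univ) (fun _ _ => trivial) fun y _ => tr _ y, Set.ncard_univ,
    Nat.card_eq_fintype_card, card_golayPt]
  have := full1.card (fun c => Spor.cmp c tB = Spor.cmp tB c ∧ pf c 23 = 23) pr (fun g c a => by
    rw [a.comm_iff is_tB, a.gp_iff (by norm_num) (by norm_num)]) (n := 320) (by decide +kernel)
  rw [show Nat.card ↥(H ⊓ stabilizer M24 (gp 23)) = 320 from this ▸ Nat.card_congr (Equiv.subtypeEquivRight fun g => by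
    rw [Subgroup.mem_inf, Subgroup.mem_centralizer_singleton_iff]; rfl)]
theorem fixS {g : M24} (h : g ∈ H) : g • cos 1314 = cos 1314 := by
  obtain ⟨c, hc, e⟩ := Cov.ex (b := 23) (n := 16777215) (L := L) (by decide +kernel) (by norm_num) Lok
    (p := g • gp 23) (bset_all ▸ Finset.mem_univ _)
  obtain ⟨d, b⟩ := exists_is ((m24 c)⁻¹ * g)
  have m := Subgroup.mem_centralizer_singleton_iff.1 (H.mul_mem (H.inv_mem (LH c hc)) h)
  have := (b.cos_iff 1314 (by norm_num)).2 (full1.all (fun c => Spor.cmp c tB = Spor.cmp tB c → syn (img c (rep 1314)) = 1314) pr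
    (by decide +kernel) b ⟨m, by rw [mul_smul, ← e, inv_smul_smul]⟩ ((b.comm_iff is_tB).1 m))
  rw [mul_smul, inv_smul_eq_iff] at this
  exact this.trans (((Lok.is hc).cos_iff 1314 (by norm_num)).2 (by clear * - hc; revert c; decide +kernel))

/-- For a fixed-point-free involution t of the group of the length-24 code: its centraliser in that group has order 7680, is transitive on the 24 points, and is contained, together with t, in the stabiliser of some sextet. -/
theorem result (t : Equiv.Perm Cfsg.GolayPt) (ht : t ∈ Cfsg.M24) (h₂ : orderOf t = 2) (h₀ : ∀ p, t p ≠ p) : Nat.card {c : Equiv.Perm Cfsg.GolayPt // c ∈ Cfsg.M24 ∧ c * t = t * c} = 7680 ∧ (∀ p q : Cfsg.GolayPt, ∃ c ∈ Cfsg.M24, c * t = t * c ∧ c p = q) ∧ ∃ S ∈ Cfsg.sextets, t • S = S ∧ ∀ c ∈ Cfsg.M24, c * t = t * c → c • S = S := by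
  obtain ⟨a, e⟩ := isConj_iff.1 (cls2B (g := ⟨t, ht⟩) ((Subgroup.orderOf_mk t ht).trans h₂) (card_Fx_zero.2 h₀)).symm
  have k : ∀ g : M24, (a * g * a⁻¹ : M24).1 * t = t * (a * g * a⁻¹ : M24).1 ↔ g ∈ H := fun g => by
    rw [Subgroup.mem_centralizer_singleton_iff, ← comm_conj a, e, Subtype.ext_iff]; rfl
  have o : cos 1314 ∈ sextets := (cos_sextet (by norm_num)).2 (by decide +kernel)
  have f : ∀ c ∈ M24, c * t = t * c → c • a • cos 1314 = a • cos 1314 := fun c hc m => by
    have := cj_set a (fixS ((k (a⁻¹ * ⟨c, hc⟩ * a)).1 (by simpa [mul_assoc] using m)))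
    simpa [mul_assoc] using this
  refine ⟨?_, fun p q => ?_, a • cos 1314, (smul_mem_sextets a).2 o, f t ht rfl, f⟩
  · rw [card_M24_sub fun c => c * t = t * c, card_conj a k]; exact cardH
  · obtain ⟨g, hg, m⟩ := tr (a⁻¹ • p) (a⁻¹ • q)
    exact ⟨_, (a * g * a⁻¹).2, (k g).2 hg, by simpa using cj_pt a m⟩

end Cfsg.Agent.S5607
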