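import Cfsg.Statements.S5608
import Cfsg.Agent.Lib.Spor.Aux1

set_option autoImplicit false
open scoped Pointwise
open Cfsg

namespace Cfsg.Agent.S5608

set_option linter.unusedSectionVars false
set_option linter.unusedVariables false
set_option linter.style.haveILetI false
set_option linter.unusedSimpArgs false

open Cfsg.Agent.Spor Cfsg.Agent.PC in
theorem aux {x s : M24} (h₃ : orderOf x = 3) (h₂ : orderOf s = 2) (hc : s * x = x * s) :
    (Fx x).card = 6 ∧ (Fx s).card = 8 ∨ (Fx x).card = 0 ∧ (Fx s).card = 0 := by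
  rcases cls3 h₃ with k | k
  · obtain ⟨a, e⟩ := isConj_iff.1 k
    obtain ⟨c, b⟩ := exists_is (a * s * a⁻¹)
    have m := (comm_conj a x s).2 hc
    rw [e] at m
    have := full2.all (fun c => Spor.cmp c uA = Spor.cmp uA c → Spor.cmp c c = idc ∧ c ≠ idc → nfx c = 8) (prX_ok is_uA is_uA)
      (by decide +kernel) b m ((b.comm_iff is_uA).1 m) (b.ord2.1 (by rw [ord_conj, h₂]))
    rw [← b.card_Fx, Fx_conj, Finset.card_smul_finset] at this
    exact .inl ⟨(card_Fx_of_conj k).trans fx_uA, this⟩
  · obtain ⟨a, e⟩ := isConj_iff.1 k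
    obtain ⟨c, b⟩ := exists_is (a * s * a⁻¹)
    have m := (comm_conj a x s).2 hc
    rw [e] at m
    have := full1.all (fun c => Spor.cmp c uB = Spor.cmp uB c → Spor.cmp c c = idc ∧ c ≠ idc → nfx c = 0) (prX_ok is_uB is_uB)
      (by decide +kernel) b m ((b.comm_iff is_uB).1 m) (b.ord2.1 (by rw [ord_conj, h₂]))
    rw [← b.card_Fx, Fx_conj, Finset.card_smul_finset] at this
    exact .inr ⟨(card_Fx_of_conj k).trans fx_uB, this⟩

open Cfsg.Agent.Spor Cfsg.Agent.PC in

/-- If an element of order 3 and an involution of the group of the length-24 code commute, then either the element of order 3 has exactly 6 fixed points and the involution exactly 8, or both are fixed-point-free. -/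
theorem result (x s : Equiv.Perm Cfsg.GolayPt) (hx : x ∈ Cfsg.M24) (hs : s ∈ Cfsg.M24) (h₃ : orderOf x = 3) (h₂ : orderOf s = 2) (hc : Commute x s) : ((Finset.univ.filter fun p => x p = p).card = 6 ∧ (Finset.univ.filter fun p => s p = p).card = 8) ∨ ((Finset.univ.filter fun p => x p = p).card = 0 ∧ (Finset.univ.filter fun p => s p = p).card = 0) := by
  exact aux (x := ⟨x, hx⟩) (s := ⟨s, hs⟩) ((Subgroup.orderOf_mk x hx).trans h₃) ((Subgroup.orderOf_mk s hs).trans h₂)
    (Subtype.ext hc.symm)

end Cfsg.Agent.S5608
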