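import Cfsg.Statements.S5609
import Cfsg.Agent.Lib.Spor.Fam

set_option autoImplicit false
open scoped Pointwise
open Cfsg

namespace Cfsg.Agent.S5609

set_option linter.unusedSectionVars false
set_option linter.unusedVariables false
set_option linter.style.haveILetI false
set_option linter.unusedSimpArgs false

open Cfsg.Agent.Spor Cfsg.Agent.PC Finset

theorem adj_iff (a b : octads) : (blockGraph octads).Adj a b ↔ Disjoint a.1 b.1 := by
  rw [blockGraph, SimpleGraph.fromRel_adj]
  exact ⟨fun h => h.2.elim id fun x => x.symm, fun h => ⟨fun e => oct_ne_of_disjoint a.2 h (congrArg Subtype.val e), Or.inl h⟩⟩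

theorem dsm (g : M24) {a b : Finset GolayPt} (h : Disjoint a b) : Disjoint (g • a) (g • b) := by
  rw [disjoint_iff_inter_eq_empty] at h ⊢
  rw [← smul_finset_inter, h, smul_finset_empty]

theorem o1 : bset 13062145 ∈ octads := bset_oct (by decide +kernel)
theorem o4 : bset 4845570 ∈ octads := bset_oct (by decide +kernel)
theorem o2 : bset 12222476 ∈ octads := bset_oct (by decide +kernel)

theorem dj {a b : ℕ} (h : a < 2 ^ 24 ∧ a &&& b = 0) : Disjoint (bset a) (bset b) := (bset_disjoint_iff h.1).2 h.2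

theorem p4 {a b : octads} (h : (a.1 ∩ b.1).card = 4) : ∃ c, (blockGraph octads).Adj a c ∧ (blockGraph octads).Adj c b := by
  obtain ⟨g, h1, h2⟩ := oct2_trans o1 o4 a.2 b.2 (by rw [h, ← bset_and, card_bset]; decide +kernel)
  refine ⟨⟨g • bset 1050548, (smul_mem_octads g).2 (bset_oct (by decide +kernel))⟩, ?_, ?_⟩ <;> rw [adj_iff]
  · rw [← h1]; exact dsm g (dj (by decide))
  · rw [← h2]; exact dsm g (dj (by decide))

theorem p2 {a b : octads} (h : (a.1 ∩ b.1).card = 2) :
    ∃ c d, (blockGraph octads).Adj a c ∧ (blockGraph octads).Adj c d ∧ (blockGraph octads).Adj d b := by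
  obtain ⟨g, h1, h2⟩ := oct2_trans o1 o2 a.2 b.2 (by rw [h, ← bset_and, card_bset]; decide +kernel)
  refine ⟨⟨g • bset 1613974, (smul_mem_octads g).2 (bset_oct (by decide +kernel))⟩,
    ⟨g • bset 4282144, (smul_mem_octads g).2 (bset_oct (by decide +kernel))⟩, ?_, ?_, ?_⟩ <;> rw [adj_iff]
  · rw [← h1]; exact dsm g (dj (by decide))
  · exact dsm g (dj (by decide))
  · rw [← h2]; exact dsm g (dj (by decide))

theorem chk0 : ∀ k < 4096, Nat.mul k (eqI (Nat.lor (Nat.land 13062145 (cw k)) (Nat.land 12222476 (cw k))) 0) = 0 :=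
  upTo_beq (by decide +kernel)

theorem chk (k : ℕ) (hk : k < 4096) : k = 0 ∨ 13062145 &&& cw k ≠ 0 ∨ 12222476 &&& cw k ≠ 0 := by
  by_contra h
  simp only [not_or, not_not] at h
  have := chk0 k hk
  rw [eqI_one (by show (13062145 &&& cw k) ||| (12222476 &&& cw k) = 0; rw [h.2.1, h.2.2]; rfl)] at this
  exact h.1 (by simpa using this)

theorem n2 {a b : octads} (h : (a.1 ∩ b.1).card = 2) (c : octads) :
    ¬ ((blockGraph octads).Adj a c ∧ (blockGraph octads).Adj c b) := by
  rw [adj_iff, adj_iff]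
  rintro ⟨d1, d2⟩
  obtain ⟨g, h1, h2⟩ := oct2_trans a.2 b.2 o1 o2 (by rw [h, ← bset_and, card_bset]; decide +kernel)
  have hc := (smul_mem_octads g).2 c.2
  obtain ⟨k, hk, e⟩ := exists_cwd (mem_octads.1 hc).1
  have e1 := dsm g d1
  have e2 := dsm g d2.symm
  rw [← e, cwd] at e1 e2
  rw [h1, bset_disjoint_iff (by norm_num)] at e1
  rw [h2, bset_disjoint_iff (by norm_num)] at e2
  rcases chk k hk with rfl | h3 | h3
  · have := (mem_octads.1 hc).2
    rw [← e, cwd, cw_zero, bset_zero] at this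
    simp at this
  · exact h3 e1
  · exact h3 e2

theorem adj0 (a b : octads) : (blockGraph octads).Adj a b ↔ (a.1 ∩ b.1).card = 0 := by
  rw [adj_iff, disjoint_iff_inter_eq_empty, card_eq_zero]

theorem conn : (blockGraph octads).Connected := by
  haveI : Nonempty octads := ⟨⟨_, o1⟩⟩
  refine ⟨fun a b => ?_⟩
  rcases oct_inter a.2 b.2 with h | h | h | h
  · exact ((adj0 a b).2 h).reachable
  · obtain ⟨c, d, h1, h2, h3⟩ := p2 h
    exact h1.reachable.trans (h2.reachable.trans h3.reachable)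
  · obtain ⟨c, h1, h2⟩ := p4 h
    exact h1.reachable.trans h2.reachable
  · rw [Subtype.ext h]

theorem d4 {a b : octads} (hne : a ≠ b) (h : (a.1 ∩ b.1).card = 4) : (blockGraph octads).dist a b = 2 := by
  obtain ⟨c, h1, h2⟩ := p4 h
  have := SimpleGraph.dist_le (SimpleGraph.Walk.cons h1 (SimpleGraph.Walk.cons h2 SimpleGraph.Walk.nil))
  have := conn.one_lt_dist_of_ne_of_not_adj hne (by rw [adj0]; omega)
  simp only [SimpleGraph.Walk.length_cons, SimpleGraph.Walk.length_nil] at *
  omega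

theorem d2 {a b : octads} (hne : a ≠ b) (h : (a.1 ∩ b.1).card = 2) : (blockGraph octads).dist a b = 3 := by
  obtain ⟨c, d, h1, h2, h3⟩ := p2 h
  have := SimpleGraph.dist_le (SimpleGraph.Walk.cons h1 (SimpleGraph.Walk.cons h2 (SimpleGraph.Walk.cons h3 SimpleGraph.Walk.nil)))
  have := conn.one_lt_dist_of_ne_of_not_adj hne (by rw [adj0]; omega)
  have h4 : (blockGraph octads).dist a b ≠ 2 := by
    intro e
    obtain ⟨p, hp⟩ := conn.exists_walk_length_eq_dist a b
    rw [e] at hp
    match p, hp with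
    | .cons x (.cons y .nil), _ => exact n2 h _ ⟨x, y⟩
  simp only [SimpleGraph.Walk.length_cons, SimpleGraph.Walk.length_nil] at *
  omega

/-- In the graph on the 759 octads of the length-24 code in which two octads are adjacent when they are disjoint, the graph is connected (of diameter 3) and two distinct octads are at distance 1, 2 or 3 exactly when they meet in 0, 4 or 2 points respectively. -/
theorem result (o o' : Finset Cfsg.GolayPt) (ho : o ∈ Cfsg.octads) (ho' : o' ∈ Cfsg.octads) (hne : o ≠ o') : (Cfsg.blockGraph Cfsg.octads).Connected ∧ ((Cfsg.blockGraph Cfsg.octads).dist ⟨o, ho⟩ ⟨o', ho'⟩ = 1 ↔ (o ∩ o').card = 0) ∧ ((Cfsg.blockGraph Cfsg.octads).dist ⟨o, ho⟩ ⟨o', ho'⟩ = 2 ↔ (o ∩ o').card = 4) ∧ ((Cfsg.blockGraph Cfsg.octads).dist ⟨o, ho⟩ ⟨o', ho'⟩ = 3 ↔ (o ∩ o').card = 2) := by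
  have hn : (⟨o, ho⟩ : octads) ≠ ⟨o', ho'⟩ := fun e => hne (congrArg Subtype.val e)
  refine ⟨conn, ?_⟩
  rcases oct_inter ho ho' with h | h | h | h
  · have := SimpleGraph.dist_eq_one_iff_adj.2 ((adj0 ⟨o, ho⟩ ⟨o', ho'⟩).2 h)
    rw [this, h]; simp
  · rw [d2 hn h, h]; simp
  · rw [d4 hn h, h]; simp
  · exact absurd h hne

end Cfsg.Agent.S5609
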