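import Cfsg.Statements.S5614
import Cfsg.Agent.Lib.Spor.Six

set_option autoImplicit false
open scoped Pointwise
open Cfsg

namespace Cfsg.Agent.S5614

set_option linter.unusedSectionVars false
set_option linter.unusedVariables false
set_option linter.style.haveILetI false
set_option linter.unusedSimpArgs false

open Cfsg.Agent.Spor Cfsg.Agent.PC MulAction Finset in

/-- In the group of the length-24 code, the joint stabiliser of two octads meeting in exactly two points is isomorphic to the symmetric group of degree 6. -/
theorem result (o o' : Finset Cfsg.GolayPt) (ho : o ∈ Cfsg.octads) (ho' : o' ∈ Cfsg.octads) (h₂ : (o ∩ o').card = 2) : Nonempty (↥(MulAction.stabilizer Cfsg.M24 o ⊓ MulAction.stabilizer Cfsg.M24 o') ≃* Equiv.Perm (Fin 6)) := by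
  obtain ⟨a, rfl, rfl⟩ := oct2_trans O1_mem (bset_oct (n := 6594610) (by decide +kernel)) ho ho'
    (by rw [h₂, ← bset_and, card_bset]; decide +kernel)
  have e : bset 8605697 = bset 13062145 \ bset 6594610 := by decide +kernel
  obtain ⟨f⟩ := iso_perm (H := stabilizer M24 (bset 13062145) ⊓ stabilizer M24 (bset 6594610)) (E := bset 8605697) (n := 6)
    (by rw [card_bset]; decide +kernel) (fun g hg => by rw [e, smul_finset_sdiff, hg.1, hg.2]) (fun g hg h => by
      obtain ⟨c, b⟩ := exists_is g
      exact b.eq_one.2 (full2.all (fun c => img c 6594610 = 6594610 → c = idc) (prF_ok _) (by decide +kernel) b h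
        ((b.bset_iff _ (by norm_num)).1 hg.2)))
    ((card_sub fun g => by simp).trans (full2.cardS [(13062145, 13062145), (6594610, 6594610)] (by decide) (by decide +kernel)))
  exact ⟨(conjEquiv a fun b => by simp only [Subgroup.mem_inf, conj_mem_stab]).symm.trans f⟩

end Cfsg.Agent.S5614
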