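import Cfsg.Statements.S5615
import Cfsg.Agent.Lib.Spor.Act
import Cfsg.Agent.S1554

set_option autoImplicit false
open scoped Pointwise
open Cfsg

namespace Cfsg.Agent.S5615

set_option linter.unusedSectionVars false
set_option linter.unusedVariables false
set_option linter.style.haveILetI false
set_option linter.unusedSimpArgs false

open Cfsg.Agent.Spor Cfsg.Agent.PC MulAction Finset Matrix
def C (j : ℕ) : ℕ := cds (nat_lit 0x702a19b2503da9731563229024b5f1bc10f2440e3d84c52ea36a4d328692) j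
theorem C_ok : FamOK C 2 := famOK_of (by decide +kernel)
def pV_t : TN := (TN.node (TN.node (TN.node (TN.node (TN.node (TN.node (TN.leaf (nat_lit 0x0)) (TN.leaf (nat_lit 0x0))) (TN.node (TN.leaf (nat_lit 0x0)) (TN.leaf (nat_lit 0xd000000000000000000000000000000000000)))) (TN.node (TN.node (TN.leaf (nat_lit 0x200000000000000000000000000000000000000000000000000000000)) (TN.leaf (nat_lit 0x0))) (TN.node (TN.leaf (nat_lit 0x0)) (TN.leaf (nat_lit 0x40000000000000000000000000000))))) (TN.node (TN.node (TN.node (TN.leaf (nat_lit 0x0)) (TN.leaf (nat_lit 0xa00000000000000000000000000000000000000000000000000000000000000))) (TN.node (TN.leaf (nat_lit 0x800000000000000000000000000)) (TN.leaf (nat_lit 0x0)))) (TN.node (TN.node (TN.leaf (nat_lit 0x0)) (TN.leaf (nat_lit 0x9000000))) (TN.node (TN.leaf (nat_lit 0x90000000000000000000000000000000000)) (TN.leaf (nat_lit 0x0)))))) (TN.node (TN.node (TN.node (TN.node (TN.leaf (nat_lit 0x0)) (TN.leaf (nat_lit 0x0))) (TN.node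 (TN.leaf (nat_lit 0x0)) (TN.leaf (nat_lit 0x300000000000000000000000000000000000000000000000000)))) (TN.node (TN.node (TN.leaf (nat_lit 0x90000000000000000000000000000000000000000000000)) (TN.leaf (nat_lit 0x0))) (TN.node (TN.leaf (nat_lit 0x0)) (TN.leaf (nat_lit 0x90000000000))))) (TN.node (TN.node (TN.node (TN.leaf (nat_lit 0x0)) (TN.leaf (nat_lit 0x70000000000000000000000000000000000000000))) (TN.node (TN.leaf (nat_lit 0x5000000000000)) (TN.leaf (nat_lit 0x0)))) (TN.node (TN.node (TN.leaf (nat_lit 0x0)) (TN.leaf (nat_lit 0x60000000000000000))) (TN.node (TN.leaf (nat_lit 0x80000000000000000000000000000000000000000000000000000)) (TN.leaf (nat_lit 0x0))))))) (TN.node (TN.node (TN.node (TN.node (TN.node (TN.leaf (nat_lit 0x0)) (TN.leaf (nat_lit 0x70000000000))) (TN.node (TN.leaf (nat_lit 0x80000000000000000000000000000000000000000000000)) (TN.leaf (nat_lit 0x0)))) (TN.node (TN.node (TN.leaf (nat_lit 0x0)) (TN.leaf (nat_lit 0x600000000000000000000000000000000000000000000000000)))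 (TN.node (TN.leaf (nat_lit 0xa0000000000000000000000)) (TN.leaf (nat_lit 0x0))))) (TN.node (TN.node (TN.node (TN.leaf (nat_lit 0x0)) (TN.leaf (nat_lit 0x0))) (TN.node (TN.leaf (nat_lit 0x0)) (TN.leaf (nat_lit 0x60000000000000000)))) (TN.node (TN.node (TN.leaf (nat_lit 0xa000000000000)) (TN.leaf (nat_lit 0x0))) (TN.node (TN.leaf (nat_lit 0x0)) (TN.leaf (nat_lit 0x0)))))) (TN.node (TN.node (TN.node (TN.node (TN.leaf (nat_lit 0x0)) (TN.leaf (nat_lit 0xa0000000000000000000000000000))) (TN.node (TN.leaf (nat_lit 0xa00000000000000000000000000000000000000000000000000000000)) (TN.leaf (nat_lit 0x0)))) (TN.node (TN.node (TN.leaf (nat_lit 0x0)) (TN.leaf (nat_lit 0x9000000000000000000000000000000000000))) (TN.node (TN.leaf (nat_lit 0x5)) (TN.leaf (nat_lit 0x0))))) (TN.node (TN.node (TN.node (TN.leaf (nat_lit 0xb0000000000000000000000000000000000)) (TN.leaf (nat_lit 0x0))) (TN.node (TN.leaf (nat_lit 0x0)) (TN.leaf (nat_lit 0xa000000)))) (TN.node (TN.node (TN.leaf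 (nat_lit 0x400000000000000000000000000)) (TN.leaf (nat_lit 0x0))) (TN.node (TN.leaf (nat_lit 0x0)) (TN.leaf (nat_lit 0x0))))))))
noncomputable def pV (i : ℕ) : ℕ := get2 pV_t (nat_lit 4) (nat_lit 15) i
def pR (i : ℕ) : ℕ := Nat.land (Nat.shiftRight (nat_lit 0x96000000000174000000000f68000) (Nat.mul (nat_lit 12) i)) (nat_lit 4095)
theorem other {T : Finset (Finset GolayPt)} (hT : T ∈ trios) {o : Finset GolayPt} (ho : o ∈ T) :
    ∃ a ∈ T, o ≠ a ∧ a ∈ octads ∧ Disjoint o a ∧ T = {o, a, (o ∪ a)ᶜ} := by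
  obtain ⟨a, ha, n⟩ := exists_mem_ne (show 1 < T.card by rw [hT.1]; norm_num) o
  exact ⟨a, ha, n.symm, hT.2.1 a ha, hT.2.2 o ho a ha n.symm, trio_eq hT ho ha n.symm⟩
theorem smul3 (g : M24) (o a : Finset GolayPt) : g • ({o, a, (o ∪ a)ᶜ} : Finset (Finset GolayPt)) = {g • o, g • a, (g • o ∪ g • a)ᶜ} := by
  rw [smul_finset_insert, smul_finset_insert, smul_finset_singleton, msmul_compl, smul_finset_union]
theorem o1 : bset 13062145 ∈ trio 2999 := by rw [trio0_eq]; simp
theorem a1 : bset 1613974 ∈ trio 2999 := by rw [trio0_eq]; simp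
theorem n1 : bset 13062145 ≠ bset 1613974 := by decide +kernel
theorem four {T : Finset (Finset GolayPt)} (hT : T ∈ trios) (ho : bset 13062145 ∈ T) (n : trio 2999 ≠ T) {a : Finset GolayPt}
    (ha : a ∈ T) (m : bset 13062145 ≠ a) : (bset 1613974 ∩ a).card = 4 := by
  have oa := hT.2.1 a ha
  have d := hT.2.2 _ ho a ha m
  have k : a ∉ trio 2999 := fun h => n ((trio_eq trio0_mem o1 h m).trans (trio_eq hT ho ha m).symm)
  obtain ⟨i, hi, rfl⟩ := exists_cwd oa.1
  have := upTo_beq (f := fun i => frc (cw i) fun w => if (pop w = 8 → 13062145 &&& w = 0 → w = 1613974 ∨ w = 2101096 ∨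
    pop (1613974 &&& w) = 4) then 0 else 1) (n := 4096) (by decide +kernel) i hi
  rw [frc_eq, ite_eq_left_iff] at this
  rw [trio0_eq, cwd] at k
  rcases (by_contra fun n => one_ne_zero (this n)) ((cwd_oct hi).1 oa) ((bset_disjoint_iff (by norm_num)).1 d) with e | e | e
  · simp [e] at k
  · simp [e] at k
  · rwa [cwd, ← bset_and, card_bset]
theorem two {T T' : Finset (Finset GolayPt)} (hT : T ∈ trios) (hT' : T' ∈ trios) (ho : bset 13062145 ∈ T) (ho' : bset 13062145 ∈ T')
    (n : trio 2999 ≠ T) (n' : trio 2999 ≠ T') : ∃ g : M24, g • bset 13062145 = bset 13062145 ∧ g • trio 2999 = trio 2999 ∧ g • T = T' := by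
  obtain ⟨a, p1, p2, p3, p4, p5⟩ := other hT ho
  obtain ⟨b, q1, q2, q3, q4, q5⟩ := other hT' ho'
  obtain ⟨g, ⟨g1, g2⟩, e⟩ := conjC C_ok (le_inf (gen_le_stabS C_ok 13062145 (by decide +kernel))
    (gen_le_stabS C_ok 1613974 (by decide +kernel))) 8 13062145 0 1613974 0 2 pV pR (by norm_num) (by decide +kernel) p3.1 q3.1
    (mem_octads.1 p3).2 (mem_octads.1 q3).2 (by rw [bset_zero, inter_comm]; exact disjoint_iff_inter_eq_empty.1 p4)
    (by rw [bset_zero, inter_comm]; exact disjoint_iff_inter_eq_empty.1 q4) ((four hT ho n p1 p2).trans (four hT' ho' n' q1 q2).symm)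
    (by rw [bset_zero_inter, bset_zero_inter])
  exact ⟨g, g1, by rw [trio_eq trio0_mem o1 a1 n1, smul3, g1, g2], by rw [p5, q5, smul3, g1, e]⟩
theorem ker1 {g : M24} (h : ∀ p ∈ bset 13062145, g • p = p) {T : Finset (Finset GolayPt)} (hT : T ∈ trios)
    (ho : bset 13062145 ∈ T) : g • T = T := by
  obtain ⟨a, p1, p2, p3, p4, p5⟩ := other hT ho
  obtain ⟨k, k1, k2, k3⟩ := trio_trans2 trio0_mem hT o1 a1 n1 ho p1 p2
  obtain ⟨g, rfl⟩ := (MulAut.conj k).surjective g
  rw [← k2, MulAut.conj_apply, fix_conj] at h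
  obtain ⟨c, b⟩ := exists_is g
  rw [← k1, MulAut.conj_apply, conj_smul_smul, trio, (b.sys_iff (trioL_ok.1 _ (by norm_num))).2
    (full1.all (fun c => actE 3 c (trioL 2999) (trioL 2999) = 0) (prF_ok _) (by decide +kernel) b h)]
def L : List (ℕ × ℕ) := [(13062145, 13062145), (2, 2), (1613974, 1613974), (3154402, 3154402), (2130606, 2130606), (525274, 525274),
  (1573998, 1573998), (3179802, 3179802)]
theorem ker2 {g : M24} (h : g • bset 13062145 = bset 13062145) (k : ∀ T ∈ trios, bset 13062145 ∈ T → g • T = T) :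
    ∀ p ∈ bset 13062145, g • p = p := by
  have m : gp 1 ∉ bset 13062145 := by decide +kernel
  obtain ⟨n, u, a, b, c, rfl⟩ := S1554.dec O1_mem m h
  have f : ∀ x, bset x ∈ octads → Disjoint (bset 13062145) (bset x) → gp 1 ∈ bset x → u • bset x = bset x := fun x p q r => by
    have t := trio_mem O1_mem p q
    have e := k _ t (by simp)
    rw [mul_smul, ← ker1 a t (by simp), smul_left_cancel_iff, ker1 a t (by simp)] at e
    have v : u • bset x ∈ _ := e ▸ smul_mem_smul_finset (by simp)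
    have w : gp 1 ∈ u • bset x := c ▸ smul_mem_smul_finset r
    simp only [mem_insert, mem_singleton] at v
    rcases v with v | v | v
    · exact absurd (v ▸ w) m
    · exact v
    · simp [v, r] at w
  obtain ⟨d, i⟩ := exists_is u
  rw [i.eq_one.2 (full1.allS L (by decide) (· = idc) (by decide +kernel) i (by
    simp only [L, List.forall_mem_cons, b, true_and]
    refine ⟨(Spor.smul_single (i := 1) (j := 1) (by norm_num) (by norm_num)).2 c, ?_, ?_, ?_, ?_, ?_, ?_, by simp⟩ <;>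
      exact f _ (bset_oct (by decide +kernel)) (by decide +kernel) (by decide +kernel))), mul_one]
  exact a

/-- An octad of the length-24 code lies in exactly 15 trios; the stabiliser of the octad in the code's group acts doubly transitively on these 15 trios, and the kernel of this action is the pointwise stabiliser of the octad. -/
theorem result (o : Finset Cfsg.GolayPt) (ho : o ∈ Cfsg.octads) : {T : Finset (Finset Cfsg.GolayPt) | T ∈ Cfsg.trios ∧ o ∈ T}.ncard = 15 ∧ (∀ T₁ T₂ T₁' T₂' : Finset (Finset Cfsg.GolayPt), T₁ ∈ Cfsg.trios → T₂ ∈ Cfsg.trios → T₁' ∈ Cfsg.trios → T₂' ∈ Cfsg.trios → o ∈ T₁ → o ∈ T₂ → o ∈ T₁' → o ∈ T₂' → T₁ ≠ T₂ → T₁' ≠ T₂' → ∃ g ∈ Cfsg.M24, g • o = o ∧ g • T₁ = T₁' ∧ g • T₂ = T₂') ∧ ∀ g ∈ Cfsg.M24, g • o = o → ((∀ T ∈ Cfsg.trios, o ∈ T → g • T = T) ↔ ∀ p ∈ o, g p = p) := by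
  obtain ⟨a, rfl⟩ := oct_trans O1_mem ho
  refine ⟨(ncard_transport a (S := {T | T ∈ trios ∧ bset 13062145 ∈ T}) fun T => and_congr (smul_mem_trios a)
    (smul_mem_smul_finset_iff a)).trans (ncard_lab trioL_ok.2 trios_eq (fun i => memE 3 (trioL i) 13062145)
    (fun i _ _ => (memE_iff (by norm_num)).symm) (by decide +kernel)), fun T1 T2 T3 T4 h1 h2 h3 h4 m1 m2 m3 m4 n n' => ?_,
    fun g hg h => ?_⟩
  · obtain ⟨x, x1, x2, -⟩ := other h1 m1
    obtain ⟨y, y1, y2, -⟩ := other h3 m3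
    obtain ⟨k, rfl, k2, -⟩ := trio_trans2 trio0_mem h1 o1 a1 n1 m1 x1 x2
    obtain ⟨l, rfl, l2, -⟩ := trio_trans2 trio0_mem h3 o1 a1 n1 m3 y1 y2
    obtain ⟨T2, rfl⟩ := exists_smul k T2
    obtain ⟨T4, rfl⟩ := exists_smul l T4
    obtain ⟨g, g1, g2, g3⟩ := two ((smul_mem_trios k).1 h2) ((smul_mem_trios l).1 h4) ((smul_mem_smul_finset_iff k).1 (k2 ▸ m2))
      ((smul_mem_smul_finset_iff l).1 (l2 ▸ m4)) (fun e => n (congrArg _ e)) fun e => n' (congrArg _ e)
    exact ⟨_, (l * g * k⁻¹).2, show (l * g * k⁻¹) • a • bset 13062145 = _ by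
      rw [mul_smul, mul_smul, inv_smul_eq_iff.2 k2.symm, g1, l2], show (l * g * k⁻¹) • k • trio 2999 = _ by
      rw [mul_smul, mul_smul, inv_smul_smul, g2], show (l * g * k⁻¹) • k • T2 = _ by rw [mul_smul, mul_smul, inv_smul_smul, g3]⟩
  · obtain ⟨g, e⟩ := (MulAut.conj a).surjective ⟨g, hg⟩
    obtain rfl : (a * g * a⁻¹).1 = _ := congrArg Subtype.val e
    refine Iff.trans ⟨fun k => ker2 ((conj_mem_stab a g _).1 h) fun T hT m => smul_left_cancel a ((conj_smul_smul _ _ _).symm.trans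
      (k _ ((smul_mem_trios a).2 hT) (smul_mem_smul_finset m))), fun k T hT m => ?_⟩ (fix_conj a g _).symm
    obtain ⟨T, rfl⟩ := exists_smul a T
    exact cj_set a (ker1 k ((smul_mem_trios a).1 hT) ((smul_mem_smul_finset_iff a).1 m))

end Cfsg.Agent.S5615
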