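import Cfsg.Statements.S5616
import Cfsg.Agent.Lib.Spor.Small

set_option autoImplicit false
open scoped Pointwise
open Cfsg

namespace Cfsg.Agent.S5616

set_option linter.unusedSectionVars false
set_option linter.unusedVariables false
set_option linter.style.haveILetI false
set_option linter.unusedSimpArgs false

open Cfsg.Agent.Spor Cfsg.Agent.PC MulAction Finset
def gt (j : ℕ) : ℕ := cds (nat_lit 0x29af4c2611156c71912a0c87ada37008c792aad84517595e998496a386c) j
theorem gt_ok : FamOK gt 2 := famOK_of (by decide +kernel)
def pV_t : TN := (TN.node (TN.node (TN.node (TN.node (TN.node (TN.node (TN.leaf (nat_lit 0x400160562003e80a000005dc0b800040000000000560000000980000000000000000000000000000)) (TN.leaf (nat_lit 0x3ea0880137801303ae000010031c005660800008001402a6003a007000005a00980004000000000))) (TN.node (TN.leaf (nat_lit 0x39c080015a000803a8080014042c004160900000001303220051a09000004640780007000000000)) (TN.leaf (nat_lit 0x900110026004000b0013046009000d8000c061e004240c000e5001305ae0900110428004a0068000)))) (TN.node (TN.node (TN.leaf (nat_lit 0x4e00880110001505200780120564004a80a8000b801305aa0046209800003a2090000b000000000))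 (TN.leaf (nat_lit 0x9801100260012809800d051c088012a001404a6005800880128001005600600150526003a8090000))) (TN.node (TN.leaf (nat_lit 0x700120028004ee0a001303800b0013a0015029c0052208000eb000d056407000c0526003a20a0000)) (TN.leaf (nat_lit 0x22000000a801100280800130024004e00a000d70011002a004a808800c042a07801200006039c0))))) (TN.node (TN.node (TN.node (TN.leaf (nat_lit 0x200a001288012046405000d0294005260800008801205ac0049a0b000004ee0980009800000000)) (TN.leaf (nat_lit 0x1801503100052200001404aa0780117801104e60038008001268017026207001005660021e060000))) (TN.node (TN.leaf (nat_lit 0xa001105c00055204001705d8090014000140460004680a00135001505680b000c03e800468090000)) (TN.leaf (nat_lit 0x4e00180136801203e805000004e6003220a8012b0011042a0002a0b0013032000001380015042a0)))) (TN.node (TN.node (TN.leaf (nat_lit 0x5001304d4004aa09000f04e20000138800b04a4002800780115001405aa0b801003dc0035c0b8000)) (TN.leaf (nat_lit 0x3800a00159800f04e00b8015041c0002a09800e0000003c0002c009001203c00a0010a000f046a0))) (TN.node (TN.leaf (nat_lit 0x5660a00108000004d80b801205de005ac0b0014900120318004e0000012000a07000d8001503da0))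 (TN.leaf (nat_lit 0x9801200280045a0a001504a40800147001405400044008001590012011e0a0012056000560098010)))))) (TN.node (TN.node (TN.node (TN.node (TN.leaf (nat_lit 0x51c09800f8001204580b00160462004e80800000001304e60041e08000003a00a0000b800000000)) (TN.leaf (nat_lit 0x9800004660056200001704a40900129800b04e2004a0090013a800c05a20b801104180045c070000))) (TN.node (TN.leaf (nat_lit 0x1105de004e0098012046e0a0012b0012055e000000000150001303e20000040362004a8078000)) (TN.leaf (nat_lit 0x2dc0b001098014035c07000d04c00002e0600130001004a0002a8068017045e0a001278016039e0)))) (TN.node (TN.node (TN.leaf (nat_lit 0x9000c04400046609001100240800129000d038c003a40780094001003240a001403ec00224060000)) (TN.leaf (nat_lit 0x5e007800b78012051c0a8014046a004400580149001304e60002609801505580000167001204980))) (TN.node (TN.leaf (nat_lit 0x4240700108800004d808801104a8003d4000012000140092002aa08800c0422098017b000a04aa0)) (TN.leaf (nat_lit 0x900130024004a409801503de0a8016a0017049c004de0780177000e054003800005e2004da058012))))) (TN.node (TN.node (TN.node (TN.leaf (nat_lit 0x9001404ee003a200001304c0090012a801402e800424090013a8012052408001405d4005ae078000))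 (TN.leaf (nat_lit 0x45200000e00010000008000f0564005e800000c8801203a8003a400000e002e0a80156001204200))) (TN.node (TN.leaf (nat_lit 0x3a40a801490000036a0700170028004980900110000a0552004a2098011051e0a8012a801404580)) (TN.leaf (nat_lit 0x5800805dc005e0000014031806800eb8014051e003a40b80009000e055e0b0012042200480080012)))) (TN.node (TN.node (TN.leaf (nat_lit 0x4a209800e5000005240a0014035e004260880179000f00220049a08001503e40880120001405680)) (TN.leaf (nat_lit 0xc00160594004aa00001405640980009001104ea0054007800ea801103980c000c04e000460090016))) (TN.node (TN.leaf (nat_lit 0x980000568000000b000002180a801698000059c0049e078013c8000046803001701c0005a205800f)) (TN.leaf (nat_lit 0x5d00b8010a0000042600001404d800466090015a001704de003ea07800c049a0900157001400320))))))) (TN.node (TN.node (TN.node (TN.node (TN.node (TN.leaf (nat_lit 0x45800000f9000005e609801504de0052409000090011045a004980a800002e40b8000b800000000)) (TN.leaf (nat_lit 0xa001005240038009800e051a0a000a8800d0524000240a0016c0011051e07800c055a002e2070000))) (TN.node (TN.leaf (nat_lit 0xb80050526002c0068007000c0a800da800c055e004260780127000b056205001503280045c0a0000))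 (TN.leaf (nat_lit 0x4c00a801500000044009801004ee001000a8012a001204a2004400a000b055e00001490013061e0)))) (TN.node (TN.node (TN.leaf (nat_lit 0xa000004a8005e603801504580b8010a0015042600552098011a0017044e00001104e40055e080000)) (TN.leaf (nat_lit 0x3a609800b9800d03640600120440000220900129001004de004aa000017026a09000f7800f02ce0))) (TN.node (TN.leaf (nat_lit 0x4e80a0015a000d0354098012049a0055a000014b000b04000002008000f04a4090013a801102e20)) (TN.leaf (nat_lit 0x9000e00260030007000d05a8078011a801201e0004940800119801104de090000045e0049c070014))))) (TN.node (TN.node (TN.node (TN.leaf (nat_lit 0x9001704d6004a209801104000a00178001804aa005260a000f0000d04ea0c800e03a6004dc060000)) (TN.leaf (nat_lit 0x4280980006801704a00a000f05ae00012088016b00120560003de0580110492000016b800c05dc0))) (TN.node (TN.leaf (nat_lit 0x1e4080009800070020080011031c004a6088013b0000039c002e00b001504a80000158001004220)) (TN.leaf (nat_lit 0xa001304260018006800e056a000011a800d04ae0055c0000148000a042400001500000051a000011)))) (TN.node (TN.node (TN.leaf (nat_lit 0x62406001088016054009000e05220001608001578012001e0042609001004240b80159800f03c60))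 (TN.leaf (nat_lit 0xb800d04a80001a0a8011002e080010000000028005c00b00167801503ae09000d04dc0001e09000e))) (TN.node (TN.leaf (nat_lit 0x1005180046809800e049e080000900100524002600a800ab001003620a001504640038009800e)) (TN.leaf (nat_lit 0x566098015a801504a2098013044c0002c0a800f7001304280032609800005200000158801202240)))))) (TN.node (TN.node (TN.node (TN.node (TN.leaf (nat_lit 0xa00150266000220a8015040005000aa001604280049a08000fb8015042009800d01e6003e8098000)) (TN.leaf (nat_lit 0x5e4068015a801003a80a80140026005220780166800e05400042c098017042c0700050000e05ee0))) (TN.node (TN.leaf (nat_lit 0x3dc0b00009000905aa09001304aa002d6000015000110450004ca08000e03a80a80106801403e60)) (TN.leaf (nat_lit 0x9001005280040009801304ae08001390010032a005500a0015a8008002806000004d0004e40a800f)))) (TN.node (TN.node (TN.leaf (nat_lit 0x52609000ca800f04e00b8010046a00562000016a00140022003c008000d056009000e8001105600)) (TN.leaf (nat_lit 0x170456005ac0c0000046809801198012041c005ec0980169801004a606800005560026a0a000c))) (TN.node (TN.leaf (nat_lit 0x9801202a0004dc00000d05a4000013000120000005180b8006a801104a008000003d0002d4000016))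 (TN.leaf (nat_lit 0x4a00880119001204a207000003680049000000d9000005200062009801300000a8000a800005600))))) (TN.node (TN.node (TN.node (TN.leaf (nat_lit 0x4c0090013b001804e40000000500005000780158001300200055c0a8015058009801580015045e0)) (TN.leaf (nat_lit 0xa801301ac0056200000e04c00880064800b04e8003a80900139800005a606000d0564003d4098005))) (TN.node (TN.leaf (nat_lit 0x8800d0460004e40b801204c00a801580019042a004e20c000e7801603c00c001504ea00022080011)) (TN.leaf (nat_lit 0x2e0b0011c000b04660b000f041e003a80a80008801903200042a0a800e03aa0000161001504a00)))) (TN.node (TN.node (TN.leaf (nat_lit 0x8000d00260056609801405000980134800c05200002c000000a80120022080011002400556090006)) (TN.leaf (nat_lit 0x592080012a8012052808000903ea000280a80147801200040056a09001404e40a800fa001105000))) (TN.node (TN.leaf (nat_lit 0x3a00a8013a0000036a06801602da005d8000014b0010002a0039c0c001205680a00109000e059e0)) (TN.leaf (nat_lit 0x7801003800062009800b04680a000e9001104540052008800b0001401240c00000364004a8098011))))))))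
noncomputable def pV (i : ℕ) : ℕ := get2 pV_t (nat_lit 5) (nat_lit 31) i
def pR (i : ℕ) : ℕ := Nat.land (Nat.shiftRight (nat_lit 0x1e6fa00) (Nat.mul (nat_lit 7) i)) (nat_lit 127)
noncomputable def nd (s : ℕ) : ℕ := frc (tet s 23) fun x => frc (tet s 0) fun y => frc (tet s 12) fun z =>
  Nat.add (Nat.add (nat_lit 1) (sg (Nat.xor x y))) (sg (Nat.mul (Nat.xor x z) (Nat.xor y z)))
noncomputable def pO (s : ℕ) : ℕ := Nat.rec (nat_lit 0) (fun _ _ => nd s) (eqI (pop (rep s)) 4)
theorem p_chk : ∀ c < 4096, descT (TS gt) 2 4096 2 pV pO pR c = 0 := upTo_beq (by decide +kernel)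
theorem key {s : ℕ} (hs : s < 4096) (h : pop (rep s) = 4) :
    ((cos s).filter fun t => (t ∩ bset 8392705).Nonempty).card = nd s := by
  have y : bset 8392705 = {gp 23, gp 0, gp 12} := by decide +kernel
  obtain ⟨a1, a2, a3⟩ := tet_spec (a := 23) hs h (by norm_num)
  obtain ⟨b1, b2, b3⟩ := tet_spec (a := 0) hs h (by norm_num)
  obtain ⟨c1, c2, c3⟩ := tet_spec (a := 12) hs h (by norm_num)
  have e : ((cos s).filter fun t => (t ∩ bset 8392705).Nonempty) = image bset {tet s 23, tet s 0, tet s 12} := by
    ext t
    simp only [mem_filter, y, image_insert, image_singleton, mem_insert, mem_singleton]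
    constructor
    · rintro ⟨ht, p, hp⟩
      simp only [mem_inter, mem_insert, mem_singleton] at hp
      obtain ⟨hp, rfl | rfl | rfl⟩ := hp
      · exact .inl (eq_tet hs h (by norm_num) ht hp)
      · exact .inr (.inl (eq_tet hs h (by norm_num) ht hp))
      · exact .inr (.inr (eq_tet hs h (by norm_num) ht hp))
    · rintro (rfl | rfl | rfl)
      · exact ⟨a2, _, mem_inter.2 ⟨a3, by simp⟩⟩
      · exact ⟨b2, _, mem_inter.2 ⟨b3, by simp⟩⟩
      · exact ⟨c2, _, mem_inter.2 ⟨c3, by simp⟩⟩
  rw [e, card_image_of_injOn fun x hx z hz => bset_inj (by simp at hx; rcases hx with rfl | rfl | rfl <;> assumption)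
    (by simp at hz; rcases hz with rfl | rfl | rfl <;> assumption)]
  simp only [nd, frc_eq, sg_eq, Nat.mul_eq, Nat.mul_eq_zero, xor_zero_iff, Nat.add_eq]
  generalize tet s 23 = x, tet s 0 = y, tet s 12 = z
  by_cases p : x = y <;> by_cases q : x = z <;> by_cases r : y = z <;> simp_all
theorem tr (a : M24) (Y : Finset GolayPt) (S : Finset (Finset GolayPt)) :
    ((a • S).filter fun t => (t ∩ a • Y).Nonempty).card = (S.filter fun t => (t ∩ Y).Nonempty).card := by
  rw [← card_smul_finset a (S.filter _)]
  congr 1; ext t
  obtain ⟨t, rfl⟩ := exists_smul a t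
  simp only [mem_filter, smul_mem_smul_finset_iff, ← smul_finset_inter, smul_finset_nonempty]
theorem ct (a : M24) (k n : ℕ) (e : Nat.beq (cnt (cnd (fun s => eqI (pop (rep s)) 4) fun s => Nat.xor (nd s) k) (nat_lit 0) 4096) n = true) :
    {S | S ∈ sextets ∧ (S.filter fun t => (t ∩ a • bset 8392705).Nonempty).card = k}.ncard = n :=
  (ncard_transport a (S := {S | S ∈ sextets ∧ (S.filter fun t => (t ∩ bset 8392705).Nonempty).card = k})
    fun S => and_congr (smul_mem_sextets a) (by rw [tr])).trans
    (ncard_lab cos_inj sextets_eq' _ (fun d hd p => by rw [key hd (eqI_one_iff.1 p), xor_zero_iff]) e)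

/-- Let Y be a set of 3 of the 24 points. The sextets of the length-24 code whose tetrads meeting Y number 1, 2 or 3 are respectively 21, 630 and 1120 in number, and two sextets with the same number of tetrads meeting Y are conjugate under the setwise stabiliser of Y in the code's group. -/
theorem result (Y : Finset Cfsg.GolayPt) (hY : Y.card = 3) : {S : Finset (Finset Cfsg.GolayPt) | S ∈ Cfsg.sextets ∧ (S.filter fun t => (t ∩ Y).Nonempty).card = 1}.ncard = 21 ∧ {S : Finset (Finset Cfsg.GolayPt) | S ∈ Cfsg.sextets ∧ (S.filter fun t => (t ∩ Y).Nonempty).card = 2}.ncard = 630 ∧ {S : Finset (Finset Cfsg.GolayPt) | S ∈ Cfsg.sextets ∧ (S.filter fun t => (t ∩ Y).Nonempty).card = 3}.ncard = 1120 ∧ ∀ S S' : Finset (Finset Cfsg.GolayPt), S ∈ Cfsg.sextets → S' ∈ Cfsg.sextets → (S.filter fun t => (t ∩ Y).Nonempty).card = (S'.filter fun t => (t ∩ Y).Nonempty).card → ∃ g ∈ Cfsg.M24, g • Y = Y ∧ g • S = S' := by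
  obtain ⟨a, rfl⟩ := mapSet (s := bset 8392705) (t := Y) (by rw [hY, card_bset]; decide +kernel)
    (by rw [card_bset]; decide +kernel)
  refine ⟨ct a _ _ (by decide +kernel), ct a _ _ (by decide +kernel), ct a _ _ (by decide +kernel), fun S S' h h' e => ?_⟩
  obtain ⟨S, rfl⟩ := exists_smul a S
  obtain ⟨S', rfl⟩ := exists_smul a S'
  rw [tr, tr] at e
  rw [smul_mem_sextets] at h h'
  obtain ⟨s, hs, rfl⟩ := exists_cos h
  obtain ⟨s', hs', rfl⟩ := exists_cos h'
  rw [cos_sextet (by assumption)] at h h'
  rw [key hs h, key hs' h'] at e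
  have o : ∀ s, pop (rep s) = 4 → pO s = nd s := fun s h => by rw [pO, eqI_one h]; rfl
  obtain ⟨g, hg, m⟩ := descT_conj gt_ok.repsS p_chk s hs s' hs' (by rw [o s h]; simp [nd, frc_eq]) (by rw [o s h, o s' h', e])
  exact ⟨_, (a * g * a⁻¹).2, cj_set a (gen_le_stabS gt_ok _ (by decide +kernel) hg), cj_set a m⟩

end Cfsg.Agent.S5616
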