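import Cfsg.Statements.S5618
import Cfsg.Agent.Lib.Spor.Six

set_option autoImplicit false
open scoped Pointwise
open Cfsg

namespace Cfsg.Agent.S5618

set_option linter.unusedSectionVars false
set_option linter.unusedVariables false
set_option linter.style.haveILetI false
set_option linter.unusedSimpArgs false

open Cfsg.Agent.Spor Cfsg.Agent.PC MulAction Finset in

/-- For a dodecad d of the length-24 code and a hexad C on it (a 6-point intersection of d with an octad): the joint stabiliser of d and C in the code's group is isomorphic to the symmetric group of degree 6, and it acts faithfully both on the six points of C and on the six points of d outside C. -/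
theorem result (d : Finset Cfsg.GolayPt) (hd : d ∈ Cfsg.dodecads) (C : Finset Cfsg.GolayPt) (hC : C ∈ Cfsg.hexadsOn d) : Nonempty (↥(MulAction.stabilizer Cfsg.M24 d ⊓ MulAction.stabilizer Cfsg.M24 C) ≃* Equiv.Perm (Fin 6)) ∧ (∀ g ∈ MulAction.stabilizer Cfsg.M24 d ⊓ MulAction.stabilizer Cfsg.M24 C, (∀ p ∈ C, ((g : ↥Cfsg.M24) : Equiv.Perm Cfsg.GolayPt) p = p) → g = 1) ∧ ∀ g ∈ MulAction.stabilizer Cfsg.M24 d ⊓ MulAction.stabilizer Cfsg.M24 C, (∀ p ∈ d \ C, ((g : ↥Cfsg.M24) : Equiv.Perm Cfsg.GolayPt) p = p) → g = 1 := by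
  have cd := (mem_dodecads.1 hd).2
  have sC : C ⊆ d := by obtain ⟨-, o, -, rfl⟩ := hC; exact inter_subset_right
  refine ⟨?_, fun g hg h => m12_five hd sC (by rw [hC.1]; norm_num) hg.1 h, fun g hg h => m12_five hd sdiff_subset
    (by rw [card_sdiff_of_subset sC, cd, hC.1]; norm_num) hg.1 h⟩
  obtain ⟨a, rfl⟩ := dod_trans d0_mem hd
  obtain ⟨C, rfl⟩ := exists_smul a C
  obtain ⟨c6, o, ho, e⟩ := hC
  obtain ⟨o, rfl⟩ := exists_smul a o
  rw [← smul_finset_inter, smul_left_cancel_iff] at e
  rw [smul_mem_octads] at ho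
  rw [card_smul_finset] at c6
  subst e
  have o0 := bset_oct (n := 8474906) (by decide +kernel)
  have e0 : bset 8474906 ∩ bset 340831 = bset 69914 := by decide +kernel
  have c0 : (bset 69914).card = 6 := by rw [card_bset]; decide +kernel
  obtain ⟨x, hx, -⟩ := extend_emb (k := 0) (n := 5) (s := bset 69914) (by norm_num) (by omega) Fin.elim0
    (Function.injective_of_subsingleton _) (fun i => i.elim0)
  obtain ⟨y, hy, -⟩ := extend_emb (k := 0) (n := 5) (s := o ∩ bset 340831) (by norm_num) (by omega) Fin.elim0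
    (Function.injective_of_subsingleton _) (fun i => i.elim0)
  rw [← e0] at hx
  obtain ⟨b, hb, e⟩ := m12_trans5' x y (fun i => (mem_inter.1 (hx i)).2) fun i => (mem_inter.1 (hy i)).2
  obtain rfl : b • bset 8474906 = o := oct_eq ((smul_mem_octads b).2 o0) ho (le_trans (by simp)
    (card_le_card (s := univ.map y) fun p hp => by
      obtain ⟨i, -, rfl⟩ := mem_map.1 hp
      exact mem_inter.2 ⟨e i ▸ smul_mem_smul_finset (mem_inter.1 (hx i)).1, (mem_inter.1 (hy i)).1⟩))
  have k : ∀ g, g ∈ stabilizer M24 (bset 340831) ⊓ stabilizer M24 (bset 69914) ↔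
      ∀ x ∈ [(340831, 340831), (8474906, 8474906)], g • bset x.1 = bset x.2 := fun g => by
    simp only [Subgroup.mem_inf, mem_stabilizer_iff, List.forall_mem_cons, List.not_mem_nil, false_imp_iff, implies_true,
      and_true, and_congr_right_iff]
    exact fun h => ⟨fun k => oct_eq ((smul_mem_octads g).2 o0) o0 (le_trans (by omega) (card_le_card (s := bset 69914)
      (subset_inter (k ▸ smul_finset_subset_smul_finset (e0 ▸ inter_subset_left)) (e0 ▸ inter_subset_left)))),
      fun k => by rw [← e0, smul_finset_inter, h, k]⟩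
  obtain ⟨f⟩ := iso_perm (H := stabilizer M24 (bset 340831) ⊓ stabilizer M24 (bset 69914)) (E := bset 69914) c0
    (fun g hg => hg.2) (fun g hg h => m12_five d0_mem (e0 ▸ inter_subset_right) (by omega) hg.1 h)
    ((card_sub k).trans (full1.cardS _ (by decide) (by decide +kernel)))
  exact ⟨(conjEquiv (a * b) fun g => and_congr (cst (by rw [mul_smul, hb])) (cst (by
    rw [mul_smul, ← e0, smul_finset_inter, hb]))).symm.trans f⟩

end Cfsg.Agent.S5618
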