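import Cfsg.Statements.S5619
import Cfsg.Agent.Lib.Spor.Iso2

set_option autoImplicit false
open scoped Pointwise
open Cfsg

namespace Cfsg.Agent.S5619

set_option linter.unusedSectionVars false
set_option linter.unusedVariables false
set_option linter.style.haveILetI false
set_option linter.unusedSimpArgs false

open Cfsg.Agent.Spor Cfsg.Agent.PC MulAction Finset Matrix
def X (j : ℕ) : ℕ := cds (nat_lit 0x9d227ba1d0b2d2ca94647c946134202d4eb536908d88c7cd02726e3918209bd76b9ab03c44c715b2a114848c202bad150df059e4ca4cc9a8aed2202052e8e28ad0abd0c3de438b66931020b9dcf99170a546c8a846b20b26a420545f52a4f0750ccb5c8d58e6244820bdab49ca307b9ac5a928398a418820) j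
theorem X_ok : FamI X 8 := by decide +kernel
def ix : QuaternionGroup 2 → ℕ
  | .a i => i.val
  | .xa i => 4 + i.val
theorem iq (x : QuaternionGroup 2) : Is (m24 (X (ix x))) (X (ix x)) := X_ok.is (by revert x; decide)
theorem q1 : ∀ x, ∀ y ∈ L9, img (X (ix x)) y.1 = y.2 := by decide +kernel
theorem q2 : ∀ x y, X (ix (x * y)) = Spor.cmp (X (ix x)) (X (ix y)) := by decide +kernel
theorem q3 : ∀ x y, X (ix x) = X (ix y) → x = y := by decide +kernel
noncomputable def φ0 (x : QuaternionGroup 2) : M9 := ⟨m24 (X (ix x)), (iq x).mem_M9.2 (q1 x)⟩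
theorem q4 (x y : QuaternionGroup 2) : m24 (X (ix (x * y))) = m24 (X (ix x)) * m24 (X (ix y)) :=
  ((iq _).eq_iff ((iq x).mul (iq y))).2 (q2 x y)
noncomputable def φ : QuaternionGroup 2 →* M9 := MonoidHom.mk' φ0 fun x y => Subtype.ext (q4 x y)
theorem q5 (x : QuaternionGroup 2) : (φ x).1 = m24 (X (ix x)) := rfl
theorem φi : Function.Injective φ := fun x y e => q3 x y (((iq x).eq_iff (iq y)).1 (by rw [← q5, ← q5, e]))
theorem h9 (x : M9) (h : x ^ 9 = 1) : x ^ 3 = 1 := by
  obtain ⟨c, a⟩ := exists_is x.1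
  exact Subtype.ext ((a.pow 3).eq_one.2 (full1.allS L9 (by decide) (fun c => pwc (pwc c 3) 3 = idc → pwc c 3 = idc)
    (by decide +kernel) a ((mem_M9 _).1 x.2) (((a.pow 3).pow 3).eq_one.1 (by rw [← pow_mul]; exact congrArg Subtype.val h))))
theorem c9 : Nat.card {x : M9 // x ^ 3 = 1} = 9 :=
  (Nat.card_congr ((Equiv.subtypeEquivRight fun x => Subtype.ext_iff).trans
    ((Equiv.subtypeSubtypeEquivSubtypeInter _ fun g : M24 => g ^ 3 = 1).trans (Equiv.subtypeEquivRight fun g => by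
      rw [mem_M9])))).trans (full1.card (fun c => (∀ x ∈ L9, img c x.1 = x.2) ∧ pwc c 3 = idc) ((prS_ok L9).mono fun _ h => h.1)
    (fun g c a => and_congr (a.S_iff (by decide)) (a.pow 3).eq_one) (by decide +kernel))
theorem aux {G : Type*} [Group G] (e : M9 ≃* G) : (∀ Q : Sylow 3 G, (Q : Subgroup G).Normal ∧ Nat.card Q = 9 ∧
    ∀ x ∈ (Q : Subgroup G), x ^ 3 = 1) ∧ ∀ P : Sylow 2 G, Nonempty (P ≃* QuaternionGroup 2) := by
  have := Fact.mk Nat.prime_three
  have c : Nat.card G = 72 := (Nat.card_congr e.toEquiv).symm.trans card_M9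
  have : Finite G := Nat.finite_of_card_ne_zero (by omega)
  refine ⟨fun Q => ?_, fun P => ?_⟩
  · have q : Nat.card Q = 9 := by
      rw [Q.card_eq_multiplicity, c, show 72 = 3 ^ 2 * 8 from rfl, Nat.factorization_eq_of_coprime_left (by norm_num) (by
        simp), Nat.prime_three.factorization_pow]; simp
    have h : ∀ x ∈ (Q : Subgroup G), x ^ 3 = 1 := fun x hx => by
      obtain ⟨x, rfl⟩ := e.surjective x
      rw [← map_pow, h9 x (e.injective (by
        rw [map_pow, map_one]; exact congrArg Subtype.val (q ▸ pow_card_eq_one' (x := (⟨_, hx⟩ : Q))))), map_one]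
    have s : ((Q : Subgroup G) : Set G) = {x | x ^ 3 = 1} := Set.eq_of_subset_of_ncard_le h (le_of_eq (Eq.trans
      (Nat.card_congr (e.toEquiv.subtypeEquiv fun x => by simp [← map_pow])).symm (c9.trans q.symm)))
    exact ⟨⟨fun x hx g => s.ge (by simp [h x hx])⟩, q, h⟩
  · have i := e.injective.comp φi
    exact ⟨(P.equiv (Sylow.ofCard (e.toMonoidHom.comp φ).range (by
      rw [← Nat.card_congr (MonoidHom.ofInjective (f := e.toMonoidHom.comp φ) i).toEquiv, c, show 72 = 2 ^ 3 * 9 from rfl,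
        Nat.factorization_eq_of_coprime_left (by norm_num) (by simp), Nat.prime_two.factorization_pow]
      simp [QuaternionGroup.card]))).trans (MonoidHom.ofInjective (f := e.toMonoidHom.comp φ) i).symm⟩

/-- In the group of the length-24 code, the subgroup fixing a dodecad setwise and three of its points individually (a group of order 72) has a normal Sylow 3-subgroup that is elementary abelian of order 9, and its Sylow 2-subgroups are quaternion of order 8. -/
theorem result (d : Finset Cfsg.GolayPt) (hd : d ∈ Cfsg.dodecads) (p q r : Cfsg.GolayPt) (hp : p ∈ d) (hq : q ∈ d) (hr : r ∈ d) (hpq : p ≠ q) (hpr : p ≠ r) (hqr : q ≠ r) : (∀ Q : Sylow 3 ↥(MulAction.stabilizer Cfsg.M24 d ⊓ MulAction.stabilizer Cfsg.M24 p ⊓ MulAction.stabilizer Cfsg.M24 q ⊓ MulAction.stabilizer Cfsg.M24 r), (Q : Subgroup ↥(MulAction.stabilizer Cfsg.M24 d ⊓ MulAction.stabilizer Cfsg.M24 p ⊓ MulAction.stabilizer Cfsg.M24 q ⊓ MulAction.stabilizer Cfsg.M24 r)).Normal ∧ Nat.card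 ↥Q = 9 ∧ ∀ x ∈ (Q : Subgroup ↥(MulAction.stabilizer Cfsg.M24 d ⊓ MulAction.stabilizer Cfsg.M24 p ⊓ MulAction.stabilizer Cfsg.M24 q ⊓ MulAction.stabilizer Cfsg.M24 r)), x ^ 3 = 1) ∧ ∀ P : Sylow 2 ↥(MulAction.stabilizer Cfsg.M24 d ⊓ MulAction.stabilizer Cfsg.M24 p ⊓ MulAction.stabilizer Cfsg.M24 q ⊓ MulAction.stabilizer Cfsg.M24 r), Nonempty (↥P ≃* QuaternionGroup 2) := by
  obtain ⟨a, rfl, rfl, rfl, rfl⟩ := m12_map3' hd hp hq hr hpq hpr hqr
  exact aux (conjEquiv a (conj_M9 a))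

end Cfsg.Agent.S5619
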