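import Cfsg.Statements.S5620
import Cfsg.Agent.Lib.Spor.Six

set_option autoImplicit false
open scoped Pointwise
open Cfsg

namespace Cfsg.Agent.S5620

set_option linter.unusedSectionVars false
set_option linter.unusedVariables false
set_option linter.style.haveILetI false
set_option linter.unusedSimpArgs false

open Cfsg.Agent.Spor Cfsg.Agent.PC MulAction Finset
def v : ℕ := nat_lit 0xbb974399e4aa8692c4029b6cc90608
theorem iv : Is (m24 v) v := is_of (by decide +kernel)

/-- Inside the stabiliser of the dodecad of squares (a Mathieu group of degree 12), the stabiliser of the residue 0 (a point of the dodecad) and the stabiliser of the extra point (a point outside the dodecad) are isomorphic but not conjugate; conjugation by a suitable element of the code's group that maps the dodecad of squares onto its complement carries the first onto the second. -/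
theorem result : Nonempty (↥(Cfsg.Spor.M12 ⊓ MulAction.stabilizer (Equiv.Perm Cfsg.GolayPt) (none : Cfsg.GolayPt)) ≃* ↥Cfsg.Spor.M11) ∧ (¬ ∃ k ∈ Cfsg.Spor.M12, MulAut.conj k • Cfsg.Spor.M11 = Cfsg.Spor.M12 ⊓ MulAction.stabilizer (Equiv.Perm Cfsg.GolayPt) (none : Cfsg.GolayPt)) ∧ ∃ g ∈ Cfsg.M24, g • Cfsg.Spor.squareDodecad = Finset.univ \ Cfsg.Spor.squareDodecad ∧ MulAut.conj g • Cfsg.Spor.M11 = Cfsg.Spor.M12 ⊓ MulAction.stabilizer (Equiv.Perm Cfsg.GolayPt) (none : Cfsg.GolayPt) := by
  obtain ⟨w, w1, w2⟩ := map_pt_cw (p := gp 0) (q := gp 23) (t := (bset 340831)ᶜ) (.inr ⟨d0_mem, by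
    rw [← bset_compl]; exact bset_dod (by decide +kernel)⟩) (iff_of_true m0 (by decide +kernel))
  have w3 : w • (bset 340831)ᶜ = bset 340831 := by rw [msmul_compl, w2, compl_compl]
  have e : ∀ a, w.1 * a * w.1⁻¹ ∈ Cfsg.Spor.M12 ⊓ stabilizer (Equiv.Perm GolayPt) (none : GolayPt) ↔ a ∈ Cfsg.Spor.M11 := fun a => by
    refine and_congr (and_congr ?_ ?_) ((show w.1 • (some 0 : GolayPt) = none from w1) ▸ conj_mem_stab w.1 a (some 0 : GolayPt))
    · exact (M24.mul_mem_cancel_right (inv_mem w.2)).trans (M24.mul_mem_cancel_left w.2)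
    · rw [squareDodecad_eq']
      refine Iff.trans ((show w.1 • (bset 340831)ᶜ = bset 340831 from w3) ▸ conj_mem_stab w.1 a (bset 340831)ᶜ) ?_
      change a • (univ \ _) = _ ↔ a • _ = _
      rw [smul_finset_sdiff, smul_finset_univ]
      exact compl_inj_iff
  refine ⟨⟨(conjEquiv _ e).symm⟩, fun ⟨k, hk, h⟩ => ?_, w, w.2, squareDodecad_eq' ▸ w2, (eq_map_conj _ e).symm⟩
  have m : (m24 v).1 ∈ MulAut.conj k • Cfsg.Spor.M11 := h ▸ ⟨⟨(m24 v).2, squareDodecad_eq' ▸
    (iv.bset_iff _ (by norm_num)).2 (by decide +kernel)⟩, (iv.gp_iff (i := 23) (j := 23) (by norm_num) (by norm_num)).2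
    (by decide +kernel)⟩
  obtain ⟨y, hy, r⟩ := (Subgroup.mem_smul_pointwise_iff_exists _ _ _).1 m
  have f : m24 v • k • gp 0 = k • gp 0 := by
    change (m24 v).1 • k • gp 0 = _
    rw [← r]; exact (conj_smul_smul k y _).trans (congrArg _ hy.2)
  have s : k • gp 0 ∈ bset 340831 := by
    have : k • bset 340831 = bset 340831 := squareDodecad_eq' ▸ hk.2
    exact this.subset (smul_mem_smul_finset m0)
  obtain ⟨i, hi, q⟩ := exists_gp (k • gp 0)
  rw [← q, iv.gp_iff hi hi] at f
  rw [← q, gp_mem_bset hi] at s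
  exact (by decide +kernel : ∀ i < 24, Nat.testBit 340831 i = true → pf v i ≠ i) i hi s f

end Cfsg.Agent.S5620
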