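import Cfsg.Statements.S5622
import Cfsg.Agent.Lib.Steiner.Lin

set_option autoImplicit false
open Cfsg

namespace Cfsg.Agent.S5622

set_option linter.unusedSectionVars false
set_option linter.unusedVariables false
set_option linter.style.haveILetI false
set_option linter.unusedSimpArgs false

open Cfsg.Agent.Steiner Cfsg.Agent.Spor Finset

/-- Let C be a self-dual binary code of length 24 with minimum weight at least 8 (a 12-dimensional subspace of the 24-dimensional space over the field with two elements, any two of whose words have dot product zero, with no non-zero word of weight below 8 — an abstract extended binary Golay code). Then the minimum weight of C is exactly 8, and the supports of the words of weight 8 (the octads) form a Steiner system S(5, 8, 24) on the 24 coordinates: every 5 coordinates lie in the support of exactly one word of weight 8. -/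
theorem result (C : Submodule (ZMod 2) (Fin 24 → ZMod 2)) (hdim : Module.finrank (ZMod 2) C = 12) (horth : ∀ v ∈ C, ∀ w ∈ C, ∑ i, v i * w i = 0) (hmin : ∀ w ∈ C, w ≠ 0 → 8 ≤ hammingNorm w) : (∃ w ∈ C, hammingNorm w = 8) ∧ Cfsg.IsSteinerSystem 5 8 (Cfsg.wordsOfWeight (C : Set (Fin 24 → ZMod 2)) 8) := by
  have h := gol_sub (Fintype.card_fin 24) C hdim horth hmin
  refine ⟨?_, fun b hb => hb.2, fun s hs => ?_⟩
  · obtain ⟨_, ⟨w, hw, rfl⟩, h8, -⟩ := h.st {0, 1, 2, 3, 4} rfl
    exact ⟨w, hw, by rw [hammingNorm_eq, h8]⟩
  · obtain ⟨o, ho, h8, hso⟩ := h.st s hs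
    refine ⟨o, ⟨⟨ho, h8⟩, hso⟩, ?_⟩
    rintro c ⟨⟨hc, hc8⟩, hsc⟩
    obtain ⟨w, hw, e⟩ := h.xor _ hc _ ho
    have h1 := card_symmDiff' c o
    have h2 := card_le_card (subset_inter hsc hso)
    by_cases h0 : w = 0
    · rw [h0, support_zero] at e
      exact symmDiff_eq_bot.mp e.symm
    · have := hmin w hw h0
      rw [hammingNorm_eq, e] at this
      omega

end Cfsg.Agent.S5622
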