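import Cfsg.Statements.S5623
import Cfsg.Agent.Lib.Steiner.Lin
import Cfsg.Agent.Lib.Spor.Key

set_option autoImplicit false
open Cfsg

namespace Cfsg.Agent.S5623

set_option linter.unusedSectionVars false
set_option linter.unusedVariables false
set_option linter.style.haveILetI false
set_option linter.unusedSimpArgs false

open Cfsg.Agent.Steiner Cfsg.Agent.Spor Finset
open scoped symmDiff

/-- Let C be a self-dual binary code of length 24 with minimum weight at least 8 (a 12-dimensional subspace of the 24-dimensional space over the field with two elements, any two of whose words have dot product zero, with no non-zero word of weight below 8 — an abstract extended binary Golay code). Then every coset w + C of C in the ambient space contains either exactly one word of weight at most 4, which then has weight at most 3, or exactly six words of weight at most 4, all of weight exactly 4 and with pairwise disjoint supports (a sextet). -/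
theorem result (C : Submodule (ZMod 2) (Fin 24 → ZMod 2)) (hdim : Module.finrank (ZMod 2) C = 12) (horth : ∀ v ∈ C, ∀ w ∈ C, ∑ i, v i * w i = 0) (hmin : ∀ w ∈ C, w ≠ 0 → 8 ≤ hammingNorm w) (w : Fin 24 → ZMod 2) : (∃ u : Fin 24 → ZMod 2, {u : Fin 24 → ZMod 2 | u - w ∈ C ∧ hammingNorm u ≤ 4} = {u} ∧ hammingNorm u ≤ 3) ∨ ({u : Fin 24 → ZMod 2 | u - w ∈ C ∧ hammingNorm u ≤ 4}.ncard = 6 ∧ ∀ u ∈ {u : Fin 24 → ZMod 2 | u - w ∈ C ∧ hammingNorm u ≤ 4}, hammingNorm u = 4 ∧ ∀ u' ∈ {u : Fin 24 → ZMod 2 | u - w ∈ C ∧ hammingNorm u ≤ 4}, u ≠ u' → Disjoint (Finset.univ.filter fun i => u i ≠ 0) (Finset.univ.filter fun i => u' i ≠ 0)) := by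
  obtain ⟨e, he⟩ := code_unique (Fintype.card_fin 24) C hdim horth hmin
  obtain ⟨n, hn, h1⟩ := exists_bset ((support₂ w).image e)
  obtain ⟨t, h2, h3, h4⟩ := mw_spec hn
  rw [h1] at h4
  let f : (Fin 24 → ZMod 2) → Finset GolayPt := fun u => (support₂ u).image e
  have finj : Function.Injective f := fun u v h => support_inj (image_injective e.injective h)
  have fsurj : Function.Surjective f := fun s => by
    obtain ⟨v, hv⟩ := exists_support (s.image e.symm)
    exact ⟨v, by simp only [f]; rw [hv, image_image, Equiv.self_comp_symm, image_id]⟩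
  have hc : ∀ u, (f u).card = hammingNorm u := fun u => by
    rw [hammingNorm_eq, card_image_of_injective _ e.injective]
  have key : ∀ u, u ∈ {u : Fin 24 → ZMod 2 | u - w ∈ C ∧ hammingNorm u ≤ 4} ↔ f u ∈ sext t := fun u => by
    rw [← sext_congr h4, mem_sext, Set.mem_setOf_eq, he, support_sub, image_symmDiff', hc, and_comm]
  by_cases h5 : t.card ≤ 3
  · left
    obtain ⟨u, rfl⟩ := fsurj t
    refine ⟨u, ?_, hc u ▸ h5⟩
    ext v
    rw [key, sext_small h5, mem_singleton, finj.eq_iff, Set.mem_singleton_iff]
  · right
    have h6 : t.card = 4 := by omega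
    refine ⟨?_, fun u hu => ?_⟩
    · rw [← card_sext h6, ← Set.ncard_coe_finset, ← Set.ncard_image_of_injective _ finj]
      congr 1
      ext s
      obtain ⟨u, rfl⟩ := fsurj s
      rw [finj.mem_set_image, key, mem_coe]
    · rw [key] at hu
      have h7 := (mem_sext4 h6 hu).1
      refine ⟨hc u ▸ h7, fun v hv huv => ?_⟩
      rw [key, ← sext_congr (mem_sext.mp hu).2] at hv
      rcases (mem_sext4 h7 hv).2 with h8 | h8
      · exact absurd (finj h8).symm huv
      · exact ((disjoint_image e.injective).mp h8.1).symm

end Cfsg.Agent.S5623
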