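import Cfsg.Statements.S5624
import Cfsg.Agent.Lib.Steiner.Lin

set_option autoImplicit false
open Cfsg

namespace Cfsg.Agent.S5624

set_option linter.unusedSectionVars false
set_option linter.unusedVariables false
set_option linter.style.haveILetI false
set_option linter.unusedSimpArgs false

open Cfsg.Agent.Steiner Cfsg.Agent.Spor Finset

/-- Let C be a self-dual binary code of length 24 with minimum weight at least 8 (a 12-dimensional subspace of the 24-dimensional space over the field with two elements, any two of whose words have dot product zero, with no non-zero word of weight below 8 — an abstract extended binary Golay code). Then C is spanned, as a vector space over the field with two elements, by its words of weight 8. -/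
theorem result (C : Submodule (ZMod 2) (Fin 24 → ZMod 2)) (hdim : Module.finrank (ZMod 2) C = 12) (horth : ∀ v ∈ C, ∀ w ∈ C, ∑ i, v i * w i = 0) (hmin : ∀ w ∈ C, w ≠ 0 → 8 ≤ hammingNorm w) : Submodule.span (ZMod 2) {w : Fin 24 → ZMod 2 | w ∈ C ∧ hammingNorm w = 8} = C := by
  obtain ⟨e, he⟩ := code_unique (Fintype.card_fin 24) C hdim horth hmin
  refine le_antisymm (Submodule.span_le.mpr fun w hw => hw.1) fun w hw => ?_
  set S := Submodule.span (ZMod 2) {w : Fin 24 → ZMod 2 | w ∈ C ∧ hammingNorm w = 8}
  have := gC_subset (C := {a | a.image e.symm ∈ supports (S : Set (Fin 24 → ZMod 2))})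
    (by simpa using supports_emp S) (fun a ha b hb => by
      show _ ∈ supports _
      rw [image_symmDiff']; exact supports_xor S _ ha _ hb) (fun b hb => by
      obtain ⟨v, hv⟩ := exists_support ((bset b).image e.symm)
      have h1 : (support₂ v).image e = bset b := by
        rw [hv, image_image, Equiv.self_comp_symm, image_id]
      have h2 := mem_octads.mp (basis_oct b hb)
      refine ⟨v, Submodule.subset_span ⟨(he v).mpr (h1 ▸ h2.1), ?_⟩, hv⟩
      rw [hammingNorm_eq, hv, card_image_of_injective _ e.symm.injective, h2.2]) ((he w).mp hw)
  rw [Set.mem_setOf_eq, image_image, Equiv.symm_comp_self, image_id] at this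
  exact support_mem.mp this

end Cfsg.Agent.S5624
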