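import Cfsg.Statements.S5628
import Cfsg.Agent.Lib.Steiner.Oval

set_option autoImplicit false
open Cfsg

namespace Cfsg.Agent.S5628

set_option linter.unusedSectionVars false
set_option linter.unusedVariables false
set_option linter.style.haveILetI false
set_option linter.unusedSimpArgs false

open Cfsg.Agent.Steiner MulAction Finset
open scoped Pointwise

/-- In a projective plane of order 4 (a Steiner system S(2, 5, 21)), every permutation of the six points of a hyperoval (a 6-set met by no line in more than two points) is the restriction of exactly one automorphism of the plane. In particular the stabiliser of a hyperoval in the automorphism group is isomorphic to the symmetric group of degree 6 acting faithfully on the hyperoval. -/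
theorem result {α : Type*} [Fintype α] [DecidableEq α] (hα : Fintype.card α = 21) (L : Set (Finset α)) (hL : Cfsg.IsSteinerSystem 2 5 L) (H : Finset α) (hH : (H.card = 6 ∧ ∀ l ∈ L, (l ∩ H).card ≤ 2)) (σ : Equiv.Perm ↥H) : ∃! g : Equiv.Perm α, g ∈ Cfsg.setSystemAut L ∧ ∀ p : ↥H, g p = σ p := by
  have hH' : Arc L 6 H := hH
  have h1 : (orbit (setSystemAut L) H).ncard ≤ 168 := by
    rw [← (ovals hα hL).2.1]
    refine Set.ncard_le_ncard ?_ (Set.toFinite _)
    rintro _ ⟨g, rfl⟩
    refine ⟨(card_smul_finset g H).trans hH.1, fun l hl => ?_⟩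
    have := hH.2 _ (aut_smul g⁻¹.2 hl)
    rwa [← card_smul_finset g, smul_finset_inter, show g • (g⁻¹).1 • l = l from smul_inv_smul g l] at this
  have h2 := Nat.card_congr (orbitProdStabilizerEquivGroup (setSystemAut L) H)
  rw [Nat.card_prod, Nat.card_coe_set_eq] at h2
  have h3 := card_aut21 hα hL
  have h4 : 720 ≤ Nat.card (stabilizer (setSystemAut L) H) := by
    by_contra h5
    have := Nat.mul_le_mul h1 (show Nat.card (stabilizer (setSystemAut L) H) ≤ 719 by omega)
    omega
  have hm : ∀ (g : stabilizer (setSystemAut L) H) x, g.1.1 x ∈ H ↔ x ∈ H := fun g x => by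
    have := smul_mem_smul_finset_iff (s := H) (b := x) g.1
    rwa [mem_stabilizer_iff.mp g.2] at this
  let r : stabilizer (setSystemAut L) H → Equiv.Perm H := fun g => g.1.1.subtypePerm (hm g)
  have uniq : ∀ g g' : Equiv.Perm α, g ∈ setSystemAut L → g' ∈ setSystemAut L → (∀ p : H, g p = g' p) → g = g' := by
    intro g g' hg hg' h
    have := oval_rigid hα hL hH' (mul_mem (inv_mem hg') hg) fun p hp => by
      rw [Equiv.Perm.mul_apply, h ⟨p, hp⟩]; simp
    exact (inv_mul_eq_one.mp this).symm
  have hinj : Function.Injective r := fun g g' e => Subtype.ext (Subtype.ext (uniq _ _ g.1.2 g'.1.2 fun p =>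
    congrArg (fun f : Equiv.Perm H => (f p).1) e))
  obtain ⟨g, hg⟩ := (hinj.bijective_of_nat_card_le (by
    rw [Nat.card_perm, Nat.card_eq_fintype_card (α := H), Fintype.card_coe, hH.1]; exact h4)).2 σ
  have h6 : ∀ p : H, g.1.1 p = σ p := fun p => congrArg (fun f : Equiv.Perm H => (f p).1) hg
  exact ⟨g.1.1, ⟨g.1.2, h6⟩, fun k hk => uniq _ _ hk.1 g.1.2 fun p => (hk.2 p).trans (h6 p).symm⟩

end Cfsg.Agent.S5628
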