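import Cfsg.Statements.S5632
import Mathlib
import Cfsg.Agent.Lib.Perm.Trv

set_option autoImplicit false
open Cfsg

namespace Cfsg.Agent.S5632



/-- For a finite field F and subspaces 0 < W < U of F^n with dim W + dim U = n, the elements of SL_n(F) stabilising both W and U form a subgroup that is not maximal in SL_n(F): some subgroup lies strictly between it and SL_n(F). -/
theorem result {F : Type*} [Field F] [Fintype F] (n : ℕ) (W U : Submodule F (Fin n → F)) (hW0 : W ≠ ⊥) (hWU : W < U) (hdim : Module.finrank F W + Module.finrank F U = n) : ∃ K : Subgroup (Matrix.GeneralLinearGroup (Fin n) F), Cfsg.Geo.subspaceStabilizer W ⊓ Cfsg.Geo.subspaceStabilizer U ⊓ Cfsg.Geo.specialLinear (Fin n) F < K ∧ K < Cfsg.Geo.specialLinear (Fin n) F := by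
  obtain ⟨u, u1, u2⟩ := SetLike.exists_of_lt hWU
  have hU : U ≠ ⊤ := by
    rintro rfl
    rw [finrank_top, Module.finrank_fin_fun] at hdim
    exact hW0 (Submodule.finrank_eq_zero.1 (by omega))
  obtain ⟨v, hv⟩ : ∃ x, x ∉ U := by_contra fun h => hU (eq_top_iff.2 fun x _ => by_contra fun k => h ⟨x, k⟩)
  refine Perm.Trv.between (A := W ⊔ Submodule.span F {v}) hW0 hWU.ne_top le_sup_left u1 (fun h => ?_)
    (Submodule.mem_sup_right (Submodule.mem_span_singleton_self v)) hv
  obtain ⟨w, hw, _, hx, rfl⟩ := Submodule.mem_sup.1 h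
  obtain ⟨c, rfl⟩ := Submodule.mem_span_singleton.1 hx
  by_cases hc : c = 0
  · exact u2 (by simpa [hc] using hw)
  · exact hv ((Submodule.smul_mem_iff _ hc).1 ((Submodule.add_mem_iff_right _ (hWU.le hw)).1 u1))

end Cfsg.Agent.S5632
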