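import Cfsg.Statements.S5633
import Mathlib
import Cfsg.Agent.Lib.Perm.Trv

set_option autoImplicit false
open Cfsg

namespace Cfsg.Agent.S5633



/-- For a finite field F and complementary non-zero subspaces W ⊕ U = F^n with dim W < dim U, the elements of SL_n(F) stabilising both W and U form a subgroup that is not maximal in SL_n(F): some subgroup lies strictly between it and SL_n(F). -/
theorem result {F : Type*} [Field F] [Fintype F] (n : ℕ) (W U : Submodule F (Fin n → F)) (hW0 : W ≠ ⊥) (hWU : W ⊓ U = ⊥) (hWU' : W ⊔ U = ⊤) (hdim : Module.finrank F W < Module.finrank F U) : ∃ K : Subgroup (Matrix.GeneralLinearGroup (Fin n) F), Cfsg.Geo.subspaceStabilizer W ⊓ Cfsg.Geo.subspaceStabilizer U ⊓ Cfsg.Geo.specialLinear (Fin n) F < K ∧ K < Cfsg.Geo.specialLinear (Fin n) F := by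
  obtain ⟨w, w1, w2⟩ := Submodule.exists_mem_ne_zero_of_ne_bot hW0
  have hU : U ≠ ⊥ := by rintro rfl; simp at hdim
  obtain ⟨u, u1, u2⟩ := Submodule.exists_mem_ne_zero_of_ne_bot hU
  have k : ∀ x ∈ W, x ∈ U → x = 0 := fun x h1 h2 => (Submodule.mem_bot F).1 (hWU ▸ ⟨h1, h2⟩)
  exact Perm.Trv.between (A := W) hW0 (fun h => u2 (k u (h ▸ trivial) u1)) le_rfl u1 (fun h => u2 (k u h u1))
    w1 fun h => w2 (k w w1 h)

end Cfsg.Agent.S5633
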