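import Cfsg.Statements.S5648
import Cfsg.Agent.Lib.Classical.NMax2

set_option autoImplicit false
open Cfsg

namespace Cfsg.Agent.S5648
open Cfsg.Agent.Classical


/-- Over the field with 2 elements and for m ≥ 7, let D be a decomposition of F^(2m) into t pairwise orthogonal non-degenerate 2-dimensional subspaces for the standard alternating form (t = m ≥ 2). Then the elements of Sp_2m(2) permuting the members of D form a subgroup that is not maximal: some subgroup lies strictly between it and Sp_2m(2). -/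
theorem result {F : Type*} [Field F] [Fintype F] (m : ℕ) (hm : 7 ≤ m) (hq : Fintype.card F = 2) {t : ℕ} (D : Fin t → Submodule F (Fin m ⊕ Fin m → F)) (hD : Cfsg.Geo.IsNondegenerateMDecomposition (Cfsg.sympForm m F) 2 D) : ∃ K : Subgroup (Matrix.GeneralLinearGroup (Fin m ⊕ Fin m) F), Cfsg.Geo.decompositionStabilizer D ⊓ Cfsg.spGL m F < K ∧ K < Cfsg.spGL m F := by
  obtain ⟨B, hB⟩ := NMax.exists_AB hD.decomp
  have c := NMax.card_eq B
  rw [Fintype.card_sum, Fintype.card_fin] at c
  obtain ⟨f, hf⟩ : ∃ f : LinearMap.BilinForm F (Fin m ⊕ Fin m → F), ∀ x y, f x y = sympForm m F x y :=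
    ⟨Matrix.toBilin' (Matrix.J (Fin m) F), fun x y => Matrix.toBilin'_apply' _ _ _⟩
  have alt : ∀ x, f x x = 0 := fun x => by
    rw [hf]; simp [sympForm, Matrix.J, Matrix.fromBlocks_mulVec, dotProduct, Matrix.neg_mulVec, mul_comm]
  have skew : ∀ x y, f x y = - f y x := fun x y => by
    have := alt (x + y)
    simp only [map_add, LinearMap.add_apply, alt] at this
    linear_combination this
  have loc : ∀ i x, f (NMax.pr B i x) (B ⟨i, 0⟩) = B.repr x ⟨i, 1⟩ * f (B ⟨i, 1⟩) (B ⟨i, 0⟩) := fun i x => by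
    simp [NMax.pr, Fin.sum_univ_two, alt]
  have one : ∀ i, f (B ⟨i, 1⟩) (B ⟨i, 0⟩) = 1 := fun i => by
    obtain ⟨x, hx, k⟩ := (hD.nondegenerate i _ (hB.mem i 0) (B.ne_zero _)).1
    rw [← hf, ← hB.eq_pr hx, loc] at k
    exact (NMax.two_cases hq _).resolve_left (right_ne_zero_of_mul k)
  have key : ∀ i x, f x (B ⟨i, 0⟩) = B.repr x ⟨i, 1⟩ := fun i x => by
    conv_lhs => rw [← NMax.sum_pr B x, map_sum, LinearMap.sum_apply]
    rw [Finset.sum_eq_single i (fun j _ hj => by
      rw [hf]; exact hD.orthogonal j i hj _ (hB.pr_mem j x) _ (hB.mem i 0)) (by simp), loc, one, mul_one]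
  refine NMax.nmax_two hq (by omega) hB fun g S _ k x y => ?_
  have e : ∀ x, ∑ i ∈ S, B.repr x ⟨i, 1⟩ = f x (∑ i ∈ S, B ⟨i, 0⟩) := fun x => by simp [map_sum, key]
  change sympForm m F (g.1.mulVec x) (g.1.mulVec y) = _
  rw [k, k, e, e, ← hf, ← hf]
  generalize ∑ i ∈ S, B ⟨i, 0⟩ = u
  simp only [map_add, map_smul, LinearMap.add_apply, LinearMap.smul_apply, alt, smul_eq_mul, skew u y]
  ring

end Cfsg.Agent.S5648
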