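import Cfsg.Statements.S5656
import Cfsg.Agent.Lib.Classical.NMax3

set_option autoImplicit false
open Cfsg

namespace Cfsg.Agent.S5656
open Cfsg.Agent.Classical


/-- Let F be the field with 4 elements (q = 2) and n ≥ 13. Let D be a decomposition of F^n into t pairwise orthogonal 2-dimensional subspaces, each non-degenerate for the standard unitary form Σ u_i v_i². Then the elements of SU_n(2) permuting the members of D form a subgroup that is not maximal: some subgroup lies strictly between it and SU_n(2). -/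
theorem result {F : Type*} [Field F] [Fintype F] (n : ℕ) (hF : Fintype.card F = 4) (hn : 13 ≤ n) {t : ℕ} (D : Fin t → Submodule F (Fin n → F)) (hD : Cfsg.Geo.IsNondegenerateMDecomposition (Cfsg.hermForm n F 2) 2 D) : ∃ K : Subgroup (Matrix.GeneralLinearGroup (Fin n) F), Cfsg.Geo.decompositionStabilizer D ⊓ (Cfsg.GU n F 2 ⊓ Cfsg.Geo.specialLinear (Fin n) F) < K ∧ K < (Cfsg.GU n F 2 ⊓ Cfsg.Geo.specialLinear (Fin n) F) := by
  classical
  have H := NMax.h4_herm hF n
  obtain ⟨e⟩ : Nonempty (Fin 2 ↪ Fin t) := ⟨Fin.castLEEmb hD.decomp.two_le⟩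
  have ij : e 0 ≠ e 1 := by simp
  generalize e 0 = i, e 1 = j at ij
  obtain ⟨a, aW, b, bW, aa, bb, ab, ba, h1⟩ := H.exists_on (hD.decomp.finrank_eq i)
    fun w hw k => (hD.nondegenerate i w hw k).1
  obtain ⟨c, cW, d, dW, cc, dd, cd, dc, h2⟩ := H.exists_on (hD.decomp.finrank_eq j)
    fun w hw k => (hD.nondegenerate j w hw k).1
  have o := hD.orthogonal
  have ac := o i j ij _ aW _ cW
  have ad := o i j ij _ aW _ dW
  have bc := o i j ij _ bW _ cW
  have bd := o i j ij _ bW _ dW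
  have ca := H.symm0 ac
  have da := H.symm0 ad
  have cb := H.symm0 bc
  have db := H.symm0 bd
  have two : (1 : F) + 1 = 0 := by linear_combination H.two
  obtain ⟨T, T1, T2⟩ := NMax.exists_utr hF (v := a + c) (by simp [H.add_left, H.add_right, *])
  obtain ⟨g, g1, g2⟩ := NMax.exists_utr hF (v := a + b + c + d) (by simp [H.add_left, H.add_right, *])
  have self : ∀ x : Fin n → F, x + x = 0 := fun x => by rw [← two_smul F x, H.two, zero_smul]
  have Ta : T.1.mulVec a = c := by rw [T2]; simp [H.add_right, ← add_assoc, *]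
  have Tb : T.1.mulVec b = b := by rw [T2]; simp [H.add_right, *]
  have Tc : T.1.mulVec c = a := by
    rw [T2]; simp only [H.add_right, ca, cc, zero_add, one_smul]; rw [add_comm a, ← add_assoc, self, zero_add]
  have Td : T.1.mulVec d = d := by rw [T2]; simp [H.add_right, *]
  refine NMax.between (K := NMax.pstab fun x : Fin n → F => ∃ l, x ∈ D l ∧ hermForm n F 2 x x ≠ 0) (k := T) (g := g)
    ?_ T1 ?_ ?_ g1 ?_
  · rintro s ⟨⟨σ, hσ⟩, hs, -⟩ x ⟨l, l1, l2⟩
    exact ⟨σ l, by rw [← hσ l]; exact ⟨x, l1, rfl⟩, fun k => l2 ((hs x x).symm.trans k)⟩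
  · rintro x ⟨l, l1, l2⟩
    have n0 : hermForm n F 2 (T.1.mulVec x) (T.1.mulVec x) ≠ 0 := fun k => l2 ((T1.1 x x).symm.trans k)
    change ∃ l, T.1.mulVec x ∈ D l ∧ hermForm n F 2 (T.1.mulVec x) (T.1.mulVec x) ≠ 0
    by_cases li : l = i
    · subst li
      rcases h1 x l1 l2 with ⟨s, -, rfl⟩ | ⟨s, -, rfl⟩
      · exact ⟨j, by rw [Matrix.mulVec_smul, Ta]; exact Submodule.smul_mem _ _ cW, n0⟩
      · exact ⟨l, by rw [Matrix.mulVec_smul, Tb]; exact l1, n0⟩
    · by_cases lj : l = j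
      · subst lj
        rcases h2 x l1 l2 with ⟨s, -, rfl⟩ | ⟨s, -, rfl⟩
        · exact ⟨i, by rw [Matrix.mulVec_smul, Tc]; exact Submodule.smul_mem _ _ aW, n0⟩
        · exact ⟨l, by rw [Matrix.mulVec_smul, Td]; exact l1, n0⟩
      · refine ⟨l, ?_, n0⟩
        rw [T2, H.add_right, o l i li _ l1 _ aW, o l j lj _ l1 _ cW]
        simpa using l1
  · rintro ⟨σ, hσ⟩
    have m1 : c ∈ D (σ i) := by rw [← hσ i]; exact ⟨a, aW, Ta⟩
    have m2 : b ∈ D (σ i) := by rw [← hσ i]; exact ⟨b, bW, Tb⟩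
    by_cases k : σ i = i
    · exact one_ne_zero (cc.symm.trans (o _ j (k.trans_ne ij) _ m1 _ cW))
    · exact one_ne_zero (bb.symm.trans (o _ i k _ m2 _ bW))
  · intro k
    obtain ⟨l, l1, -⟩ := k a ⟨i, aW, by simp [aa]⟩
    change g.1.mulVec a ∈ D l at l1
    rw [g2] at l1
    by_cases li : l = i
    · have := o l j (li.trans_ne ij) _ l1 _ cW
      simp [H.add_left, H.add_right, H.smul_left, *] at this
    · have := o l i li _ l1 _ bW
      simp [H.add_left, H.add_right, H.smul_left, *] at this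

end Cfsg.Agent.S5656
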