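import Cfsg.Statements.S5657
import Cfsg.Agent.Lib.Classical.Max3

set_option autoImplicit false
open Cfsg

namespace Cfsg.Agent.S5657
open Cfsg.Agent.Classical


/-- Let F be the field with q² elements and n = 2k ≥ 13. Let D be a decomposition of F^n into two complementary subspaces of dimension k on each of which the standard unitary form vanishes identically. Then the elements of SU_n(q) preserving or interchanging the two subspaces form a maximal subgroup of SU_n(q). -/
theorem result {F : Type*} [Field F] [Fintype F] (n q : ℕ) (hF : Fintype.card F = q ^ 2) (hn : 13 ≤ n) (k : ℕ) (hk : 2 * k = n) (D : Fin 2 → Submodule F (Fin n → F)) (hD : Cfsg.Geo.IsMDecomposition k D) (hts : ∀ i, Cfsg.Geo.IsTotallySingularFor (Cfsg.hermForm n F q) (D i)) : Cfsg.Geo.IsMaximalIn (Cfsg.GU n F q ⊓ Cfsg.Geo.specialLinear (Fin n) F) (Cfsg.Geo.decompositionStabilizer D ⊓ (Cfsg.GU n F q ⊓ Cfsg.Geo.specialLinear (Fin n) F)) := by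
  rw [Asch.hermForm_eq_gf hF] at hts
  rw [Asch.GU_eq hF]
  have h := Asch.cl_SU (Asch.us_frobq hF) (Asch.rf_one (ι := Fin n) (frobq_frobq hF)) (by simp; omega)
  have k := fun i => Asch.symp_ts (Φ := (Asch.rf_one (ι := Fin n) (frobq_frobq hF)).form (frobq_ne_id hF))
    (fun _ h => h) (hts i)
  refine h.max_pair (fun a ha => ?_) (by omega) hD k
    (Form.unit_swap (frobq_ne_id hF) h.nd (k 0) (k 1) (Asch.IsMDecomposition.isCompl hD) fun e => ?_)
  · obtain ⟨s, hs⟩ := Form.exists_sub_conj (frobq_ne_id hF) (frobq_frobq hF) ha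
    exact ⟨s, hs.symm.trans (by simp)⟩
  · have := hD.finrank_eq 0
    rw [e, finrank_bot] at this
    omega

end Cfsg.Agent.S5657
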