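import Cfsg.Statements.S5667
import Cfsg.Agent.Lib.Classical.NMax5

set_option autoImplicit false
open Cfsg

namespace Cfsg.Agent.S5667
open Cfsg.Agent.Classical


/-- Over the field with 3 elements and for m ≥ 7, suppose the standard alternating form on F^(2m) is similar, through P and e, to the tensor product of a non-degenerate symplectic form f₁ on F^(n₁) and a non-degenerate symmetric bilinear form f₂ on F^3. Then the elements of Sp_2m(3) in the stabiliser of this tensor decomposition form a subgroup that is not maximal: some subgroup lies strictly between it and Sp_2m(3). -/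
theorem result {F : Type*} [Field F] [Fintype F] (m : ℕ) (hm : 7 ≤ m) (hq : Fintype.card F = 3) (n₁ : ℕ) (e : (Fin m ⊕ Fin m) ≃ Fin n₁ × Fin 3) (P : Matrix.GeneralLinearGroup (Fin m ⊕ Fin m) F) (f₁ : (Fin n₁ → F) → (Fin n₁ → F) → F) (f₂ : (Fin 3 → F) → (Fin 3 → F) → F) (hf₁ : Cfsg.Geo.IsSymplecticForm f₁) (hf₂ : Cfsg.Geo.IsSymmetricForm f₂) (hT : Cfsg.Geo.IsTensorFormStructure id (Cfsg.sympForm m F) f₁ f₂ e P) : ∃ K : Subgroup (Matrix.GeneralLinearGroup (Fin m ⊕ Fin m) F), Cfsg.Geo.tensorProductSubgroup n₁ 3 e P ⊓ Cfsg.spGL m F < K ∧ K < Cfsg.spGL m F := by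
  obtain ⟨c, c0, hc⟩ := NMax.tp_form (σ := id) (fun _ _ => rfl)
    (NMax.form_gram hf₁.bilinear.add_left hf₁.bilinear.smul_left hf₁.bilinear.add_right hf₁.bilinear.smul_right)
    (NMax.form_gram hf₂.bilinear.add_left hf₂.bilinear.smul_left hf₂.bilinear.add_right hf₂.bilinear.smul_right) hT
  obtain ⟨a, ε, ε0, a1, a2, a3, a4⟩ := NMax.exists_frame hq hf₂
  obtain ⟨f, hf⟩ : ∃ f : LinearMap.BilinForm F (Fin m ⊕ Fin m → F), ∀ x y, sympForm m F x y = f x y :=
    ⟨Matrix.toBilin' (Matrix.J (Fin m) F), fun x y => (Matrix.toBilin'_apply' _ _ _).symm⟩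
  have alt : ∀ x, f x x = 0 := fun x => by
    rw [← hf]; simp [sympForm, Matrix.J, Matrix.fromBlocks_mulVec, dotProduct, Matrix.neg_mulVec, mul_comm]
  have skew : ∀ x y, f x y = - f y x := fun x y => by
    have := alt (x + y)
    simp only [map_add, LinearMap.add_apply, alt] at this
    linear_combination this
  have hn : 0 < n₁ := by
    have := Fintype.card_congr e
    simp at this; omega
  have w0 : (fun _ => 1 : Fin n₁ → F) ≠ 0 := fun k => one_ne_zero (congrFun k ⟨0, hn⟩)
  obtain ⟨⟨y, hy⟩, z, hz⟩ := hf₁.nondegenerate _ w0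
  refine NMax.tens_tr (NMax.tp e P).flip (f := sympForm m F) (fU := f₂) (fW := f₁) c0
    (fun x y x' y' => (hc _ _ _ _).trans (by ring)) (by simp [hf]) (by simp [hf]) (by simp [hf])
    (NMax.nd_of hf₁.bilinear.add_left hf₁.bilinear.smul_left fun v hv => (hf₁.nondegenerate v hv).2)
    (fun g hg => ?_) (fun g hg => hg) (fun v _ => ?_) (NMax.N3 f₂) (NMax.N3_map f₂) (fun i => (a1 i).trans_ne ε0) a2 a4
    (i := 0) (j := 1) (by simp) a3 (hf₁.alternating _) hy hz
  · obtain ⟨A, B, h0, h⟩ := NMax.tp_of_mem hg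
    exact ⟨B, A, h0.2, fun x y => h y x⟩
  · obtain ⟨g, -, g2⟩ := NMax.exists_tr (f.flip v) v (by simp [alt])
    refine ⟨g, fun x y => ?_, fun x => by rw [g2, hf]; rfl⟩
    change sympForm m F (g.1.mulVec x) (g.1.mulVec y) = _
    rw [g2, g2, hf, hf]
    simp only [map_add, map_smul, LinearMap.add_apply, LinearMap.smul_apply, alt, smul_eq_mul, skew v y,
      LinearMap.BilinForm.flip_apply]
    ring

end Cfsg.Agent.S5667
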