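import Cfsg.Statements.S5671
import Cfsg.Agent.Lib.Classical.NMax5

set_option autoImplicit false
open Cfsg

namespace Cfsg.Agent.S5671
open Cfsg.Agent.Classical


/-- Let F be the field with 4 elements (q = 2) and n = 2 n₂ ≥ 13. Suppose the standard unitary form Σ u_i v_i² on F^n is similar, through P and e, to the tensor product of non-degenerate unitary forms f₁ on F^2 and f₂ on F^(n₂). Then the elements of SU_n(2) in the stabiliser of this tensor decomposition form a subgroup that is not maximal: some subgroup lies strictly between it and SU_n(2). -/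
theorem result {F : Type*} [Field F] [Fintype F] (n : ℕ) (hF : Fintype.card F = 4) (hn : 13 ≤ n) (n₂ : ℕ) (e : Fin n ≃ Fin 2 × Fin n₂) (P : Matrix.GeneralLinearGroup (Fin n) F) (f₁ : (Fin 2 → F) → (Fin 2 → F) → F) (f₂ : (Fin n₂ → F) → (Fin n₂ → F) → F) (hf₁ : Cfsg.Geo.IsUnitaryFormPow 2 f₁) (hf₂ : Cfsg.Geo.IsUnitaryFormPow 2 f₂) (hT : Cfsg.Geo.IsTensorFormStructure (fun x : F => x ^ 2) (Cfsg.hermForm n F 2) f₁ f₂ e P) : ∃ K : Subgroup (Matrix.GeneralLinearGroup (Fin n) F), Cfsg.Geo.tensorProductSubgroup 2 n₂ e P ⊓ (Cfsg.GU n F 2 ⊓ Cfsg.Geo.specialLinear (Fin n) F) < K ∧ K < (Cfsg.GU n F 2 ⊓ Cfsg.Geo.specialLinear (Fin n) F) := by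
  obtain ⟨t2, t4, om⟩ := NMax.four_facts hF
  have H := NMax.h4_herm hF n
  have H1 : NMax.H4 f₁ := ⟨t2, t4, om, hf₁.add_left, hf₁.smul_left, hf₁.herm⟩
  have H2 : NMax.H4 f₂ := ⟨t2, t4, om, hf₂.add_left, hf₂.smul_left, hf₂.herm⟩
  obtain ⟨c, c0, hc⟩ := NMax.tp_form (σ := fun x : F => x ^ 2) (fun _ _ => mul_pow _ _ _)
    (NMax.form_gram H1.add_left H1.smul_left H1.add_right H1.smul_right)
    (NMax.form_gram H2.add_left H2.smul_left H2.add_right H2.smul_right) hT
  obtain ⟨a, -, b, -, aa, bb, ab, ba, h1⟩ := H1.exists_on (W := ⊤) (by simp)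
    fun w _ k => ((hf₁.nondegenerate w k).1).imp fun x hx => ⟨trivial, hx⟩
  have hn : 2 ≤ n₂ := by
    have := Fintype.card_congr e
    simp at this; omega
  obtain ⟨w, w0, ww⟩ : ∃ w : Fin n₂ → F, w ≠ 0 ∧ f₂ w w = 0 := by_contra fun k => by
    push Not at k
    have ne : (⟨0, by omega⟩ : Fin n₂) ≠ ⟨1, by omega⟩ := by simp
    generalize (⟨0, by omega⟩ : Fin n₂) = i, (⟨1, by omega⟩ : Fin n₂) = j at ne
    have p1 := H2.norm1 (k (Pi.single i 1) fun e => by simpa using congrFun e i)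
    generalize hs : f₂ (Pi.single j 1) (Pi.single i 1) = s
    have zp : f₂ (Pi.single j 1 + s • Pi.single i 1) (Pi.single i 1) = 0 := by
      rw [H2.add_left, H2.smul_left, hs, p1]; linear_combination s * t2
    have z1 := H2.norm1 (k (Pi.single j 1 + s • Pi.single i 1) fun e => by simpa [ne.symm] using congrFun e j)
    refine k (Pi.single i 1 + (Pi.single j 1 + s • Pi.single i 1)) (fun e => by simpa [ne.symm] using congrFun e j) ?_
    rw [H2.add_left, H2.add_right (Pi.single i 1), H2.add_right _ (Pi.single i 1), p1, z1, zp, H2.symm0 zp]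
    linear_combination t2
  obtain ⟨⟨y, hy⟩, z, hz⟩ := hf₂.nondegenerate _ w0
  refine NMax.tens_tr (NMax.tp e P) (f := hermForm n F 2) (fU := f₁) (fW := f₂) c0 hc H.add_left H.smul_left
    H.add_right (NMax.nd_of H2.add_left H2.smul_left fun v hv => (hf₂.nondegenerate v hv).2)
    (fun g hg => ?_) (fun g hg => hg.1) (fun v hv => NMax.exists_utr hF hv) (fun x => f₁ x x ≠ 0)
    (fun A _ h x hx k => hx (h _ _ k)) (a := ![a, b]) (fun i => by fin_cases i <;> simp [aa, bb])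
    (fun i j h => by fin_cases i <;> fin_cases j <;> simp [ab, ba] at h ⊢) (fun x hx => ?_)
    (i := 0) (j := 1) (by simp) (by simp [aa]) ww hy hz
  · obtain ⟨A, B, h0, h⟩ := NMax.tp_of_mem hg
    exact ⟨A, B, h0.1, h⟩
  · rcases h1 x trivial hx with ⟨s, -, k⟩ | ⟨s, -, k⟩
    · exact ⟨0, s, k⟩
    · exact ⟨1, s, k⟩

end Cfsg.Agent.S5671
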