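import Cfsg.Statements.S5713
import Cfsg.Agent.Lib.Perm.PG3
import Cfsg.Agent.Lib.Fusion.Wd1

set_option autoImplicit false
open Cfsg

namespace Cfsg.Agent.S5713

open Cfsg.Agent.Perm Cfsg.Agent.Perm.PG MulAction Finset Classical

section
variable {G Ω : Type*} [Group G] [Fintype G] [MulAction G Ω] [Fintype Ω] [DecidableEq Ω]

def S (Ω : Type*) [MulAction G Ω] [Fintype Ω] [DecidableEq Ω] (h : G) : Finset Ω := univ.filter fun x => h • x ≠ x
def R (G : Type*) [Group G] [MulAction G Ω] (k : ℕ) (x y : Ω) : Prop := ∃ h : G, (S Ω h).card ≤ k ∧ h • x = y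

theorem card_inv (P : Ω → Ω → Prop) [DecidableRel P] (h : ∀ (a : G) x y, P x y → P (a • x) (a • y)) (a : G) (x : Ω) :
    (univ.filter (P x)).card ≤ (univ.filter (P (a • x))).card :=
  card_le_card_of_injOn (a • ·) (fun y hy => by simpa using h a x y (by simpa using hy))
    fun _ _ _ _ q => smul_left_cancel a q

theorem S_conj (a h : G) : (S Ω (a * h * a⁻¹)).card ≤ (S Ω h).card :=
  card_le_card_of_injOn (a⁻¹ • ·) (fun y hy => by
    simpa [S, mul_smul, smul_eq_iff_eq_inv_smul a] using hy) fun _ _ _ _ q => smul_left_cancel _ q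

theorem R.smul {k : ℕ} (a : G) (x y : Ω) (h : R G k x y) : R G k (a • x) (a • y) := by
  obtain ⟨h, h1, rfl⟩ := h
  exact ⟨_, (S_conj a h).trans h1, by simp [mul_smul]⟩
theorem R.refl (k : ℕ) (x : Ω) : R G k x x := ⟨1, by simp [S], by simp⟩
theorem R.symm {k : ℕ} {x y : Ω} (h : R G k x y) : R G k y x := by
  obtain ⟨h, h1, rfl⟩ := h
  exact ⟨h⁻¹, (card_le_card fun u hu => by
    simpa [S, inv_smul_eq_iff, eq_comm (a := u)] using hu).trans h1, by simp⟩
theorem R.trans {k l : ℕ} {x y z : Ω} (h : R G k x y) (h' : R G l y z) : R G (k + l) x z := by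
  obtain ⟨a, h1, rfl⟩ := h
  obtain ⟨b, h2, rfl⟩ := h'
  refine ⟨b * a, (card_le_card fun u hu => ?_).trans ((card_union_le _ _).trans (add_le_add h1 h2)), mul_smul ..⟩
  by_contra q
  simp only [S, mem_union, mem_filter, mem_univ, true_and, not_or, not_not, mul_smul] at q hu
  exact hu (by rw [q.1, q.2])

variable [hG : IsPreprimitive G Ω]

theorem conn {k : ℕ} {a b : Ω} (hab : a ≠ b) (h : R G k a b) (O : Ω → Prop) (hO : ∀ x y, O x → R G k x y → O y)
    {x : Ω} (hx : O x) (y : Ω) : O y := by
  have sy : ∀ {x y : Ω}, Relation.ReflTransGen (R G k) x y → Relation.ReflTransGen (R G k) y x := fun h => by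
    induction h with
    | refl => exact .refl
    | tail _ h2 ih => exact .head h2.symm ih
  have e : ∀ {x y : Ω}, Relation.ReflTransGen (R G k) x y →
      Relation.ReflTransGen (R G k) x = Relation.ReflTransGen (R G k) y := fun h =>
    funext fun _ => propext ⟨(sy h).trans, h.trans⟩
  have li : ∀ (g : G) {x y : Ω}, Relation.ReflTransGen (R G k) x y →
      Relation.ReflTransGen (R G k) (g • x) (g • y) := fun g _ _ h => by
    induction h with
    | refl => exact .refl
    | tail _ h2 ih => exact ih.tail (h2.smul g)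
  have := Wd.prim_rel (G := G) (Relation.ReflTransGen (R G k)) (fun g x y q =>
    e (li g (q ▸ .refl))) hab (e (.single h))
  have h1 : Relation.ReflTransGen (R G k) x y := (this x).trans (this y).symm ▸ .refl
  induction h1 with
  | refl => exact hx
  | tail _ h2 ih => exact hO _ _ ih h2

theorem caseA {m : ℕ} {a b : Ω} (hab : a ≠ b) (h : R G m a b) {x w : Ω} (hw : ¬ R G (m + m) x w) :
    Fintype.card Ω ≤ 3 * m * m + 1 := by
  obtain ⟨z, w, ⟨y, h1, h2⟩, h3, h4⟩ : ∃ z w, (∃ y, R G m x y ∧ R G m y z) ∧ R G m z w ∧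
      ¬ ∃ y, R G m x y ∧ R G m y w := by
    by_contra! q
    obtain ⟨y, h1, h2⟩ := conn hab h _ q ⟨x, R.refl _ _, R.refl _ _⟩ w
    exact hw (h1.trans h2)
  obtain ⟨t, h5, h6⟩ := (h1.trans h2).trans h3
  have h7 : (univ.filter (R G m x)).card ≤ 3 * m := (card_le_card fun u hu => by
    have hu := (mem_filter.1 hu).2
    refine mem_filter.2 ⟨mem_univ _, fun q => h4 ⟨u, hu, R.symm ?_⟩⟩
    simpa [h6, q] using hu.smul t).trans (h5.trans (by omega))
  choose! f f1 f2 using fun y (hy : R G m x y) => hy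
  have h8 : univ.erase x ⊆ (univ.filter (R G m x)).biUnion fun y => S Ω (f y) := fun u hu => by
    by_contra q
    simp only [S, mem_biUnion, mem_filter, mem_univ, true_and, not_exists, not_and, not_not] at q
    obtain ⟨c, c1, c2⟩ := conn hab h (fun v => ∃ c : G, c • u = u ∧ c • x = v) (by
      rintro _ v ⟨c, c1, rfl⟩ hv
      have : R G m x (c⁻¹ • v) := by simpa using hv.smul c⁻¹
      exact ⟨c * f (c⁻¹ • v), by rw [mul_smul, q _ this, c1], by rw [mul_smul, f2 _ this]; simp⟩)
      ⟨1, by simp, one_smul _ x⟩ u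
    exact ne_of_mem_erase hu (smul_left_cancel c (c1.trans c2.symm))
  have := (card_le_card h8).trans (card_biUnion_le_card_mul _ _ m fun y hy => f1 y (mem_filter.1 hy).2)
  rw [card_erase_of_mem (mem_univ _), card_univ] at this
  have := Nat.mul_le_mul_right m h7
  omega

theorem caseB {k : ℕ} (h : ∀ x y : Ω, R G k x y) (x : Ω) : Fintype.card Ω ≤ k * k + k + 1 ∨
    ∃ z : Ω, ∀ u ≠ z, ∀ v ≠ z, ∃ a : G, a • z = z ∧ a • u = v := by
  choose f f1 f2 using h x
  obtain ⟨z, -, hz⟩ := exists_le_of_sum_le (s := univ) (f := fun z => (univ.filter fun y => z ∈ S Ω (f y)).card)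
    (g := fun _ => k) ⟨x, mem_univ x⟩ (by
      simp only [card_filter]
      rw [sum_comm]
      exact sum_le_sum fun y _ => le_trans (by simp) (f1 y))
  let D : Ω → Ω → Prop := fun u v => ¬ ∃ a : G, a • z = u ∧ a • x = v
  have Di : ∀ (a : G) u v, D u v → D (a • u) (a • v) := fun a u v h ⟨c, c1, c2⟩ =>
    h ⟨a⁻¹ * c, by simp [mul_smul, c1], by simp [mul_smul, c2]⟩
  have D1 : (univ.filter (D z)).card ≤ k := (card_le_card fun y hy => by
    simp only [S, mem_filter, mem_univ, true_and] at hy ⊢
    exact fun q => hy ⟨f y, q, f2 y⟩).trans hz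
  have D2 : ∀ u v, (univ.filter (D u)).card ≤ (univ.filter (D v)).card := fun u v => by
    obtain ⟨a, rfl⟩ := exists_smul_eq G u v
    exact card_inv D Di a u
  by_cases h1 : ∃ y, D z y ∧ D y x
  · obtain ⟨y, h1, h2⟩ := h1
    have : univ ⊆ univ.filter (D z) ∪ (univ.filter (D z)).biUnion fun y => univ.filter (D y) := fun v _ => by
      by_cases q : D z v
      · simp [q]
      obtain ⟨c, c1, rfl⟩ := not_not.1 q
      exact mem_union_right _ (mem_biUnion.2 ⟨c • y, by simpa [c1] using Di c _ _ h1, by simpa using Di c _ _ h2⟩)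
    have := (card_le_card this).trans ((card_union_le _ _).trans (add_le_add D1
      (card_biUnion_le_card_mul _ _ k fun y _ => (D2 y z).trans D1)))
    have := Nat.mul_le_mul_right k D1
    rw [card_univ] at *
    omega
  by_cases h0 : x = z
  · subst h0
    have : univ.erase x ⊆ univ.filter (D x) := fun v hv => by
      simpa [D] using fun c c1 c2 => ne_of_mem_erase hv (c2.symm.trans c1)
    have := (card_le_card this).trans D1
    rw [card_erase_of_mem (mem_univ _), card_univ] at this
    omega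
  have h2 : ∀ u ≠ z, ¬ D z u := fun u hu q => by
    have e : univ.filter (D u) = univ.filter (D z) := eq_of_subset_of_card_le (fun v hv => by
      simp only [mem_filter, mem_univ, true_and] at hv ⊢
      rintro ⟨c, c1, rfl⟩
      exact h1 ⟨c⁻¹ • u, by simpa [inv_smul_eq_iff.2 c1.symm] using Di c⁻¹ _ _ q, by simpa using Di c⁻¹ _ _ hv⟩)
      (D2 _ _)
    have := Wd.prim_rel (G := G) (fun u => univ.filter (D u)) (fun g a b q => by
      ext v
      have := Finset.ext_iff.1 q (g⁻¹ • v)
      simp only [mem_filter, mem_univ, true_and] at this ⊢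
      exact ⟨fun h => by simpa using Di g _ _ (this.1 (by simpa using Di g⁻¹ _ _ h)),
        fun h => by simpa using Di g _ _ (this.2 (by simpa using Di g⁻¹ _ _ h))⟩) hu e x
    have := Finset.ext_iff.1 (this.trans e) x
    simp only [mem_filter, mem_univ, true_and] at this
    exact this.1 (fun ⟨c, c1, c2⟩ => h0 (smul_left_cancel c (c2.trans c1.symm))) ⟨1, by simp, by simp⟩
  refine .inr ⟨z, fun u hu v hv => ?_⟩
  obtain ⟨a, a1, rfl⟩ := not_not.1 (h2 u hu)
  obtain ⟨b, b1, rfl⟩ := not_not.1 (h2 v hv)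
  exact ⟨b * a⁻¹, by rw [mul_smul, inv_smul_eq_iff.2 a1.symm, b1], by simp [mul_smul]⟩

omit hG in
theorem caseC {z : Ω} (h : ∀ u ≠ z, ∀ v ≠ z, ∃ a : G, a • z = z ∧ a • u = v) (T : Finset Ω) (hT : z ∉ T)
    (h1 : ∀ a : G, a • z = z → ∃ u ∈ T, a • u ∈ T) : Fintype.card Ω - 1 ≤ T.card * T.card := by
  have c : ∀ u ≠ z, ∀ v ≠ z, (Fintype.card Ω - 1) * (univ.filter fun a : G => a • z = z ∧ a • u = v).card ≤
      (univ.filter fun a : G => a • z = z).card := fun u hu v hv => by
    rw [card_eq_sum_card_fiberwise (s := univ.filter fun a : G => a • z = z) (f := fun a : G => a • u)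
      (t := univ.erase z) (fun a ha => by
      simpa using fun q => hu (smul_left_cancel a (q.trans (by simpa using ha : a • z = z).symm))),
      ← card_univ, ← card_erase_of_mem (mem_univ z), ← smul_eq_mul]
    refine card_nsmul_le_sum _ _ _ fun w hw => ?_
    obtain ⟨t, t1, rfl⟩ := h v hv w (ne_of_mem_erase hw)
    exact card_le_card_of_injOn (t * ·) (fun a ha => by
      simp only [coe_filter, mem_filter, mem_univ, true_and, Set.mem_ofPred_eq] at ha ⊢
      simp [mul_smul, ha, t1]) fun _ _ _ _ q => mul_left_cancel q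
  have h2 : (univ.filter fun a : G => a • z = z) ⊆
      (T ×ˢ T).biUnion fun w => univ.filter fun a : G => a • z = z ∧ a • w.1 = w.2 := fun a ha => by
    obtain ⟨u, hu, hu'⟩ := h1 a (mem_filter.1 ha).2
    exact mem_biUnion.2 ⟨(u, a • u), mem_product.2 ⟨hu, hu'⟩, by simpa using ha⟩
  have h3 := Nat.mul_le_mul_left (Fintype.card Ω - 1) ((card_le_card h2).trans card_biUnion_le)
  rw [mul_sum] at h3
  have h4 := h3.trans (sum_le_card_nsmul _ _ _ fun w hw => c _ (ne_of_mem_of_not_mem (mem_product.1 hw).1 hT) _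
    (ne_of_mem_of_not_mem (mem_product.1 hw).2 hT))
  rw [card_product, smul_eq_mul] at h4
  exact Nat.le_of_mul_le_mul_right h4 (card_pos.2 ⟨1, by simp⟩)
end

/-- A classification-free minimal-degree bound. Let G be a finite group acting faithfully and primitively on a finite set Ω with n elements, and suppose that the image of G in the symmetric group on Ω does not contain the alternating group on Ω. Then every non-identity element of G moves at least (√n − 1)/2 points of Ω, that is, it fixes at most n − (√n − 1)/2 points. -/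
theorem result {G Ω : Type*} [Group G] [Finite G] [MulAction G Ω] [FaithfulSMul G Ω] [Fintype Ω] [DecidableEq Ω]
    (hprim : MulAction.IsPreprimitive G Ω)
    (hA : ¬ alternatingGroup Ω ≤ (MulAction.toPermHom G Ω).range)
    (g : G) (hg : g ≠ 1) :
    (Real.sqrt (Fintype.card Ω) - 1) / 2 ≤ (Fintype.card Ω : ℝ) - Nat.card (MulAction.fixedBy Ω g) := by
  have := Fintype.ofFinite G
  obtain ⟨a, ha⟩ : ∃ x : Ω, g • x ≠ x := by
    by_contra! h
    exact hg (eq_of_smul_eq_smul fun x : Ω => by rw [h, one_smul])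
  set m := (S Ω g).card with hm
  have h1 : Fintype.card Ω ≤ (2 * m + 1) ^ 2 := by
    by_cases h : ∀ x y : Ω, R G (m + m) x y
    swap
    · push Not at h
      obtain ⟨x, w, h⟩ := h
      have := caseA ha.symm ⟨g, le_rfl, rfl⟩ h
      nlinarith
    rcases caseB h a with h | ⟨z, h⟩
    · nlinarith
    obtain ⟨c, rfl⟩ := exists_smul_eq G a z
    have h2 : (c * g * c⁻¹) • c • a ≠ c • a := by simpa [mul_smul] using ha
    have h3 := S_conj (Ω := Ω) c g
    generalize c * g * c⁻¹ = k at h2 h3
    have h4 := caseC h ((S Ω k).erase (c • a)) (by simp) fun t ht => by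
      by_contra! q
      refine hA (Equiv.Perm.alternatingGroup_le_of_isPreprimitive_of_isThreeCycle_mem prim_range
        (three_cycle_comm (g := toPerm k) (h := toPerm (t⁻¹ * k * t)) h2 (by
          simpa [mul_smul, ht, inv_smul_eq_iff] using h2) fun y hy => ?_)
        ⟨k * (t⁻¹ * k * t) * k⁻¹ * (t⁻¹ * k * t)⁻¹, by rw [map_mul, map_mul, map_mul, map_inv, map_inv]; rfl⟩)
      by_contra! q'
      refine q y (by simpa [S, hy] using q'.1) ?_
      simpa [S, mul_smul, inv_smul_eq_iff] using
        And.intro (fun e => hy (smul_left_cancel t (e.trans ht.symm))) q'.2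
    have h5 := (card_erase_le (s := S Ω k) (a := c • a)).trans h3
    have : Fintype.card Ω ≤ m * m + 1 := tsub_le_iff_right.1 (h4.trans (by convert Nat.mul_le_mul h5 h5))
    nlinarith
  have h2 : Nat.card (fixedBy Ω g) + m = Fintype.card Ω := by
    rw [Nat.card_eq_fintype_card, Fintype.card_subtype, hm, S]
    exact card_filter_add_card_filter_not (fun x => g • x = x)
  have h3 : Real.sqrt (Fintype.card Ω) ≤ 2 * m + 1 := Real.sqrt_le_iff.2 ⟨by positivity, by exact_mod_cast h1⟩
  rw [← h2] at h3 ⊢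
  push_cast at h3 ⊢
  linarith

end Cfsg.Agent.S5713
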