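import Cfsg.Statements.S5726


set_option autoImplicit false
open Cfsg

namespace Cfsg.Agent.S5726

set_option linter.unusedSectionVars false
set_option linter.unusedVariables false
set_option linter.style.haveILetI false
set_option linter.unusedSimpArgs false

open MulAction in
theorem dvd_orbit {G Ω : Type*} [Group G] [Finite G] [MulAction G Ω] [Fintype Ω]
    (htr : MulAction.IsPretransitive G Ω) {p k : ℕ} [Fact p.Prime] (h : p ^ k ∣ Fintype.card Ω)
    (P : Sylow p G) (ω : Ω) : p ^ k ∣ (stabilizer (P : Subgroup G) ω).index := by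
  have h1 : (stabilizer (P : Subgroup G) ω).index = (stabilizer G ω).relIndex P := rfl
  have h2 := Subgroup.relIndex_mul_index (inf_le_right : stabilizer G ω ⊓ P ≤ P)
  have h3 := Subgroup.index_dvd_of_le (inf_le_left : stabilizer G ω ⊓ P ≤ _)
  rw [Subgroup.inf_relIndex_right] at h2
  rw [index_stabilizer_of_transitive, Nat.card_eq_fintype_card, ← h2] at h3
  rw [h1]
  exact (Nat.Coprime.pow_left k ((Nat.Prime.coprime_iff_not_dvd Fact.out).2 P.not_dvd_index)).dvd_of_dvd_mul_right
    (h.trans h3)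

/-- If a finite group acts faithfully and transitively on a set with p^k elements, p a prime and k ≥ 1, then some element of order p fixes no point. -/
theorem result {G Ω : Type*} [Group G] [Finite G] [MulAction G Ω] [FaithfulSMul G Ω] [Fintype Ω] (htr : MulAction.IsPretransitive G Ω)
    (p k : ℕ) (hp : p.Prime) (hk : 1 ≤ k) (hΩ : Fintype.card Ω = p ^ k) :
    ∃ g : G, orderOf g = p ∧ ∀ ω : Ω, g • ω ≠ ω := by
  haveI := Fact.mk hp
  obtain ⟨P⟩ := (inferInstance : Nonempty (Sylow p G))
  have hΩ1 : 1 < Fintype.card Ω := hΩ ▸ Nat.one_lt_pow (by omega) hp.one_lt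
  obtain ⟨ω, ω', hne⟩ := Fintype.exists_pair_of_one_lt_card hΩ1
  have tr : ∀ a b : Ω, ∃ g : (P : Subgroup G), g • a = b := fun a b => by
    have h1 := dvd_orbit htr (hΩ ▸ dvd_rfl : p ^ k ∣ Fintype.card Ω) P a
    rw [MulAction.index_stabilizer, ← hΩ, ← Nat.card_eq_fintype_card, ← Set.ncard_univ] at h1
    have h2 := Set.eq_of_subset_of_ncard_le (Set.subset_univ _)
      (Nat.le_of_dvd ((Set.ncard_pos (Set.toFinite _)).2 (MulAction.nonempty_orbit a)) h1)
    exact (h2 ▸ Set.mem_univ b : b ∈ MulAction.orbit (P : Subgroup G) a)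
  haveI : Nontrivial (P : Subgroup G) := by
    obtain ⟨g, hg⟩ := tr ω ω'
    exact ⟨g, 1, fun e => hne (by rw [← hg, e, one_smul])⟩
  haveI := P.2.center_nontrivial
  obtain ⟨n, hn, e⟩ := (P.2.to_subgroup (Subgroup.center _)).nontrivial_iff_card.1 inferInstance
  obtain ⟨z, hz⟩ := exists_prime_orderOf_dvd_card' (G := Subgroup.center (P : Subgroup G)) p
    (e ▸ dvd_pow_self p hn.ne')
  have h2 : orderOf z.1.1 = p := by rw [Subgroup.orderOf_coe, Subgroup.orderOf_coe, hz]
  refine ⟨z.1.1, h2, fun a ha => ?_⟩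
  have : z.1.1 = 1 := FaithfulSMul.eq_of_smul_eq_smul (α := Ω) fun b => by
    obtain ⟨g, rfl⟩ := tr a b
    have := congrArg Subtype.val (Subgroup.mem_center_iff.1 z.2 g)
    simp only [Subgroup.coe_mul] at this
    rw [one_smul, Subgroup.smul_def, smul_smul, ← this, mul_smul, ha]
  rw [this, orderOf_one] at h2
  exact hp.one_lt.ne h2

end Cfsg.Agent.S5726
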