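import Cfsg.Statements.S5727
import Cfsg.Agent.S5726

set_option autoImplicit false
open Cfsg

namespace Cfsg.Agent.S5727

set_option linter.unusedSectionVars false
set_option linter.unusedVariables false
set_option linter.style.haveILetI false
set_option linter.unusedSimpArgs false

/-- If a finite group acts faithfully and transitively on a set with m·p elements, where p is a prime and 1 ≤ m ≤ p, then some element of order p fixes no point. -/
theorem result {G Ω : Type*} [Group G] [Finite G] [MulAction G Ω] [FaithfulSMul G Ω] [Fintype Ω] (htr : MulAction.IsPretransitive G Ω)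
    (p m : ℕ) (hp : p.Prime) (hm : 1 ≤ m) (hmp : m ≤ p) (hΩ : Fintype.card Ω = m * p) :
    ∃ g : G, orderOf g = p ∧ ∀ ω : Ω, g • ω ≠ ω := by
  classical
  haveI := Fact.mk hp
  rcases hmp.eq_or_lt with rfl | hlt
  · exact S5726.result htr m 2 hp (by omega) (by rw [hΩ, pow_two])
  obtain ⟨P⟩ := (inferInstance : Nonempty (Sylow p G))
  have hi : ∀ ω : Ω, (MulAction.stabilizer (P : Subgroup G) ω).index = p := fun ω => by
    have h1 := S5726.dvd_orbit htr (k := 1) (by rw [hΩ, pow_one]; exact dvd_mul_left _ _) P ω
    obtain ⟨n, hn⟩ := P.2.index (MulAction.stabilizer (P : Subgroup G) ω)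
    have h2 : (MulAction.stabilizer (P : Subgroup G) ω).index ≤ m * p := by
      rw [MulAction.index_stabilizer, ← hΩ, ← Nat.card_eq_fintype_card, ← Set.ncard_univ]
      exact Set.ncard_le_ncard (Set.subset_univ _)
    rw [hn] at h1 h2 ⊢
    have h3 := (Nat.pow_dvd_pow_iff_le_right hp.one_lt).1 h1
    have h4 : n < 2 := (Nat.pow_lt_pow_iff_right hp.one_lt).1 (h2.trans_lt (by
      rw [pow_two]; exact Nat.mul_lt_mul_of_pos_right hlt hp.pos))
    rw [show n = 1 by omega, pow_one]
  have hpos : 0 < Fintype.card Ω := hΩ ▸ Nat.mul_pos hm hp.pos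
  have hN : ∀ ω : Ω, (MulAction.stabilizer (P : Subgroup G) ω).Normal := fun ω => by
    apply Subgroup.normal_of_index_eq_minFac_card
    obtain ⟨n, hn⟩ := IsPGroup.iff_card.1 P.2
    have := (MulAction.stabilizer (P : Subgroup G) ω).index_dvd_card
    rw [hi, hn] at this
    rw [hi, hn, hp.pow_minFac]
    rintro rfl
    exact hp.one_lt.ne' (by simpa using this)
  by_contra hc
  push Not at hc
  have hs : p * (Finset.univ.image fun ω : Ω => MulAction.stabilizer (P : Subgroup G) ω).card ≤
      (Finset.univ : Finset Ω).card := Finset.mul_card_image_le_card _ _ fun b hb => by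
    obtain ⟨ω, -, rfl⟩ := Finset.mem_image.1 hb
    refine (hi ω).symm.trans_le ?_
    rw [MulAction.index_stabilizer, ← Set.ncard_coe_finset]
    refine Set.ncard_le_ncard ?_
    rintro _ ⟨g, rfl⟩
    simp only [Finset.coe_filter, Finset.mem_univ, true_and, Set.mem_setOf_eq]
    rw [MulAction.stabilizer_smul_eq_stabilizer_map_conj]
    haveI := hN ω
    exact Subgroup.Normal.map_conj_eq _ g
  obtain ⟨H, hH, -, h⟩ := Subgroup.exists_index_le_card_of_leftCoset_cover (H := fun H => H) (g := fun _ => 1)
    (s := Finset.univ.image fun ω : Ω => MulAction.stabilizer (P : Subgroup G) ω) (by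
      rw [Set.eq_univ_iff_forall]
      intro g
      simp only [Set.mem_iUnion]
      obtain ⟨ω0⟩ := Fintype.card_pos_iff.1 hpos
      by_cases h1 : g = 1
      · exact ⟨_, Finset.mem_image_of_mem _ (Finset.mem_univ ω0), g, by rw [h1]; exact one_mem _, one_mul g⟩
      obtain ⟨ω, hω⟩ := hc g.1 (orderOf_eq_prime (FaithfulSMul.eq_of_smul_eq_smul (α := Ω) fun b => by
        haveI := hN b
        have := (MulAction.stabilizer (P : Subgroup G) b).pow_index_mem g
        rw [hi] at this
        rw [one_smul]; exact this) (by simpa using h1))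
      exact ⟨_, Finset.mem_image_of_mem _ (Finset.mem_univ ω), g, hω, one_mul g⟩)
  obtain ⟨ω, -, rfl⟩ := Finset.mem_image.1 hH
  rw [hi] at h
  rw [Finset.card_univ, hΩ, mul_comm m] at hs
  have := Nat.le_of_mul_le_mul_left hs hp.pos
  omega

end Cfsg.Agent.S5727
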