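import Cfsg.Statements.S5728

set_option autoImplicit false
open Cfsg

namespace Cfsg.Agent.S5728


/-- An elusive transitive action. Let p = 2^s − 1 be a prime and let F be the field with p² elements. Inside the group of affine maps x ↦ a·x + b of F (a ≠ 0), consider the subgroup of maps with both coefficients in the prime field. Then every element of prime order of the affine group is conjugate, within the affine group, to an element of that subgroup; equivalently, in the transitive action of the affine group on the cosets of that subgroup (of degree p(p + 1)) every element of prime order fixes a point. -/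
theorem result (p s : ℕ) [Fact p.Prime] (hs : p = 2 ^ s - 1)
    (g : Equiv.Perm (GaloisField p 2)) (hg : g ∈ Cfsg.affineGroup (GaloisField p 2)) (hord : (orderOf g).Prime) :
    ∃ x ∈ Cfsg.affineGroup (GaloisField p 2), ∃ a b : ZMod p, a ≠ 0 ∧
      ∀ y : GaloisField p 2, (x * g * x⁻¹) y = algebraMap (ZMod p) (GaloisField p 2) a * y + algebraMap (ZMod p) (GaloisField p 2) b := by
  obtain ⟨a, b, hab⟩ := hg
  have hp : p.Prime := Fact.out
  by_cases ha : (a : GaloisField p 2) = 1
  · have hb : b ≠ 0 := by
      rintro rfl
      have : g = 1 := Equiv.ext fun x => by rw [hab, ha]; simp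
      rw [this, orderOf_one] at hord
      exact Nat.not_prime_one hord
    refine ⟨Equiv.mulLeft₀ b⁻¹ (inv_ne_zero hb), ⟨Units.mk0 _ (inv_ne_zero hb), 0, fun x => by simp⟩, 1, 1, one_ne_zero,
      fun y => ?_⟩
    simp only [Equiv.Perm.coe_mul, Function.comp_apply, hab, ha, map_one, one_mul]
    change b⁻¹ * (b⁻¹⁻¹ * y + b) = y + 1
    field_simp
  · have ha' : (a : GaloisField p 2) - 1 ≠ 0 := sub_ne_zero.2 ha
    set c : GaloisField p 2 := b / ((a : GaloisField p 2) - 1) with hc
    have key : ∀ y, (Equiv.addRight c * g * (Equiv.addRight c)⁻¹ : Equiv.Perm _) y = a * y := by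
      intro y
      simp only [Equiv.Perm.coe_mul, Function.comp_apply, hab]
      change (a : GaloisField p 2) * (y + -c) + b + c = _
      rw [hc]; field_simp; ring
    have hpow : ∀ k : ℕ, ∀ y, ((Equiv.addRight c * g * (Equiv.addRight c)⁻¹) ^ k : Equiv.Perm _) y = (a : GaloisField p 2) ^ k * y := by
      intro k
      induction k with
      | zero => intro y; simp
      | succ k ih => intro y; rw [pow_succ', Equiv.Perm.mul_apply, ih, key]; ring
    have h1 : a ^ orderOf g = 1 := by
      have := hpow (orderOf g) 1
      rw [conj_pow, pow_orderOf_eq_one] at this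
      apply Units.ext
      simpa using this.symm
    have h2 : orderOf a = orderOf g := by
      haveI := Fact.mk hord
      exact orderOf_eq_prime h1 (fun h => ha (by rw [h]; rfl))
    have h3 : orderOf g ∣ p ^ 2 - 1 := by
      rw [← h2, ← GaloisField.card p 2 two_ne_zero, ← Nat.card_units]
      exact orderOf_dvd_natCard a
    have hs0 : s ≠ 0 := by
      rintro rfl
      have := hp.two_le
      simp at hs; omega
    have hp1 : p + 1 = 2 ^ s := by
      have := Nat.one_le_two_pow (n := s); omega
    have h4 : orderOf g ∣ p - 1 := by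
      have : p ^ 2 - 1 = (p + 1) * (p - 1) := by simpa using Nat.sq_sub_sq p 1
      rw [this] at h3
      rcases (Nat.Prime.dvd_mul hord).1 h3 with h | h
      · rw [hp1] at h
        rw [(Nat.prime_dvd_prime_iff_eq hord Nat.prime_two).1 (hord.dvd_of_dvd_pow h)]
        have : 2 ∣ 2 ^ s := dvd_pow_self 2 hs0
        omega
      · exact h
    have h5 : (a : GaloisField p 2) ^ p = a := by
      have : a ^ (p - 1) = 1 := orderOf_dvd_iff_pow_eq_one.1 (h2 ▸ h4)
      rw [← pow_sub_one_mul hp.ne_zero, ← Units.val_pow_eq_pow_val, this]; simp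
    obtain ⟨m, hm⟩ := (mem_bot_iff_intCast p _).1 ((Subfield.mem_bot_iff_pow_eq_self _ p).2 h5)
    refine ⟨Equiv.addRight c, ⟨1, c, fun x => by simp⟩, m, 0, ?_, fun y => ?_⟩
    · intro h
      apply a.ne_zero
      rw [← hm, ← map_intCast (algebraMap (ZMod p) (GaloisField p 2)), h, map_zero]
    · rw [key, map_intCast, hm, map_zero, add_zero]

end Cfsg.Agent.S5728
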