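import Cfsg.Statements.S5729


set_option autoImplicit false
open Cfsg

namespace Cfsg.Agent.S5729

set_option linter.unusedSectionVars false
set_option linter.unusedVariables false
set_option linter.style.haveILetI false
set_option linter.unusedSimpArgs false

/-- Let a finite group G act faithfully and transitively on a set with n ≥ 3 points. Then either G is a Frobenius permutation group (Frobenius as a permutation group: transitive, some non-identity element fixes a point, and no non-identity element fixes two points) of order n(n − 1) and exactly |G|/n of its elements are derangements (fix no point), or the number of derangements is greater than |G|/n. -/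
theorem result {G Ω : Type*} [Group G] [Finite G] [MulAction G Ω] [FaithfulSMul G Ω] [Fintype Ω] (htr : MulAction.IsPretransitive G Ω) (hn : 3 ≤ Fintype.card Ω) :
    ((MulAction.IsPretransitive G Ω ∧ (∃ g : G, g ≠ 1 ∧ ∃ ω : Ω, g • ω = ω) ∧ ∀ g : G, g ≠ 1 → Nat.card (MulAction.fixedBy Ω g) ≤ 1) ∧ Nat.card G = Fintype.card Ω * (Fintype.card Ω - 1) ∧ Fintype.card Ω * Nat.card {g : G // ∀ ω : Ω, g • ω ≠ ω} = Nat.card G) ∨
    Nat.card G < Fintype.card Ω * Nat.card {g : G // ∀ ω : Ω, g • ω ≠ ω} := by
  classical
  haveI := Fintype.ofFinite G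
  set n := Fintype.card Ω with hn'
  let f : G → ℕ := fun g => Fintype.card (MulAction.fixedBy Ω g)
  have s1 : ∑ g, f g = Fintype.card G := by
    have h0 := MulAction.sum_card_fixedBy_eq_card_orbits_mul_card_group G Ω
    haveI : Nonempty Ω := Fintype.card_pos_iff.1 (by omega)
    haveI : Subsingleton (Quotient (MulAction.orbitRel G Ω)) := (MulAction.pretransitive_iff_subsingleton_quotient G Ω).1 htr
    rw [show Fintype.card (Quotient (MulAction.orbitRel G Ω)) = 1 from
      Fintype.card_eq_one_iff_nonempty_unique.2 ⟨uniqueOfSubsingleton (Quotient.mk _ (Classical.arbitrary Ω))⟩, one_mul] at h0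
    exact h0
  have s2 : 2 * Fintype.card G ≤ ∑ g, f g * f g := by
    have := MulAction.sum_card_fixedBy_eq_card_orbits_mul_card_group G (Ω × Ω)
    rw [show ∑ g, f g * f g = ∑ g : G, Fintype.card (MulAction.fixedBy (Ω × Ω) g) from
      Finset.sum_congr rfl fun g _ => by
        rw [← Fintype.card_prod]
        exact Fintype.card_congr (Equiv.subtypeProdEquivProd.symm.trans (Equiv.subtypeEquivRight fun x => by
          simp [Prod.ext_iff])), this]
    refine Nat.mul_le_mul_right _ ?_
    obtain ⟨a, b, hab⟩ := Fintype.exists_pair_of_one_lt_card (show 1 < Fintype.card Ω by omega)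
    refine Fintype.one_lt_card_iff.2 ⟨Quotient.mk _ (a, a), Quotient.mk _ (a, b), fun e => ?_⟩
    obtain ⟨g, hg⟩ := Quotient.exact e.symm
    simp only [Prod.smul_mk, Prod.mk.injEq] at hg
    exact hab (hg.1.symm.trans hg.2)
  have fle : ∀ g, f g ≤ n := fun g => Fintype.card_subtype_le _
  have f1 : f 1 = n := by simp [f, hn']
  have fn : ∀ g, f g = n → g = 1 := fun g hg => FaithfulSMul.eq_of_smul_eq_smul (α := Ω) fun b => by
    have := Finset.eq_univ_of_card (MulAction.fixedBy Ω g).toFinset (by rw [Set.toFinset_card]; exact hg)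
    rw [one_smul]; exact (Set.mem_toFinset.1 (this.ge (Finset.mem_univ b)) : b ∈ MulAction.fixedBy Ω g)
  have hD : Nat.card {g : G // ∀ ω : Ω, g • ω ≠ ω} = ∑ g, if f g = 0 then 1 else 0 := by
    rw [Nat.card_eq_fintype_card, Fintype.card_subtype, Finset.card_filter]
    refine Finset.sum_congr rfl fun g _ => if_congr ?_ rfl rfl
    rw [Fintype.card_eq_zero_iff, isEmpty_subtype]; rfl
  rw [Nat.card_eq_fintype_card (α := G), hD]
  by_contra hc
  rw [not_or, not_lt] at hc
  apply hc.1
  have key : ∑ g, ((if f g = 0 then (n : ℤ) else 0) - ((f g : ℤ) - 1) * (f g - n)) ≤ 0 := by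
    have e1 : ∑ g, (if f g = 0 then (n : ℤ) else 0) = n * ((∑ g, if f g = 0 then 1 else 0 : ℕ) : ℤ) := by
      push_cast; rw [Finset.mul_sum]; simp
    have e2 : ∑ g, ((f g : ℤ) - 1) * (f g - n) = ((∑ g, f g * f g : ℕ) : ℤ) - (n + 1) * ((∑ g, f g : ℕ) : ℤ)
        + n * Fintype.card G := by
      push_cast
      rw [Finset.mul_sum, ← Finset.sum_sub_distrib, Fintype.card, Finset.card_eq_sum_ones]
      push_cast
      rw [Finset.mul_sum, ← Finset.sum_add_distrib]
      exact Finset.sum_congr rfl fun g _ => by ring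
    rw [Finset.sum_sub_distrib, e1, e2, s1]
    have h2 := hc.2
    zify at h2 s2 ⊢
    linarith
  have nn : ∀ g ∈ Finset.univ, 0 ≤ (if f g = 0 then (n : ℤ) else 0) - ((f g : ℤ) - 1) * (f g - n) := fun g _ => by
    split_ifs with h
    · simp [h]
    · have h1 : (1 : ℤ) ≤ f g := by exact_mod_cast Nat.pos_of_ne_zero h
      have h2 : (f g : ℤ) ≤ n := by exact_mod_cast fle g
      nlinarith
  have k2 : ∀ g, g ≠ 1 → f g ≤ 1 := fun g hg => by
    have := (Finset.sum_eq_zero_iff_of_nonneg nn).1 (le_antisymm key (Finset.sum_nonneg nn)) g (Finset.mem_univ g)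
    by_contra h
    rw [if_neg (by omega), zero_sub, neg_eq_zero, mul_eq_zero, sub_eq_zero, sub_eq_zero] at this
    rcases this with e | e
    · omega
    · exact hg (fn g (by exact_mod_cast e))
  have k3 : ∑ g, (f g + if f g = 0 then 1 else 0) = n + (Fintype.card G - 1) := by
    rw [← Finset.add_sum_erase _ _ (Finset.mem_univ 1), f1, if_neg (by omega), add_zero,
      Finset.sum_congr rfl (g := fun _ => 1) fun g hg => by
        have := k2 g (Finset.ne_of_mem_erase hg); split_ifs <;> omega]
    simp [Finset.card_erase_of_mem]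
  have k4 : ∑ g, (f g * f g + if f g = 0 then 1 else 0) = n * n + (Fintype.card G - 1) := by
    rw [← Finset.add_sum_erase _ _ (Finset.mem_univ 1), f1, if_neg (by omega), add_zero,
      Finset.sum_congr rfl (g := fun _ => 1) fun g hg => by
        have := k2 g (Finset.ne_of_mem_erase hg)
        split_ifs with h
        · simp [h]
        · simp [show f g = 1 by omega]]
    simp [Finset.card_erase_of_mem]
  rw [Finset.sum_add_distrib] at k3 k4
  have hG : 0 < Fintype.card G := Fintype.card_pos
  have k5 : (∑ g, if f g = 0 then 1 else 0) = n - 1 := by omega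
  have h2 := hc.2
  rw [k5] at h2 k4 ⊢
  have k6 : n * (n - 1) + n = n * n := by
    obtain ⟨m, e⟩ : ∃ m, n = m + 1 := ⟨n - 1, by omega⟩
    rw [e]; simp; ring
  have k7 : Fintype.card G = n * (n - 1) := by omega
  refine ⟨⟨htr, ?_, fun g hg => by rw [Nat.card_eq_fintype_card]; exact k2 g hg⟩, k7, k7.symm⟩
  by_contra hcc
  push Not at hcc
  rw [← Finset.add_sum_erase _ _ (Finset.mem_univ 1), f1, Finset.sum_eq_zero fun g hg =>
    Fintype.card_eq_zero_iff.2 ⟨fun x => hcc g (Finset.ne_of_mem_erase hg) x.1 x.2⟩] at s1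
  have : n * 2 ≤ n * (n - 1) := Nat.mul_le_mul_left _ (by omega)
  omega

end Cfsg.Agent.S5729
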