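import Cfsg.Statements.S5739
import Cfsg.Agent.Lib.Classical.Singer

set_option autoImplicit false
open Cfsg

namespace Cfsg.Agent.S5739
open Cfsg.Agent.Classical


/-- Let F ⊆ K be finite fields with |F| = q and [K : F] = n ≥ 2, and let M ≤ GL_F(K) be the Singer group of multiplications by non-zero elements of K. If g ∈ GL_F(K) does not normalise M, then the order of M ∩ gMg⁻¹ divides q^r − 1 for some proper divisor r of n. In particular, when n is prime, that order divides q − 1. -/
theorem result {F K : Type*} [Field F] [Fintype F] [Field K] [Fintype K] [Algebra F K] (n : ℕ) (hn : 2 ≤ n) (hdim : Module.finrank F K = n)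
    (g : (Module.End F K)ˣ) (hg : ((Units.map ((Algebra.lmul F K : K →ₐ[F] Module.End F K) : K →* Module.End F K)).range).map (MulAut.conj g).toMonoidHom ≠ (Units.map ((Algebra.lmul F K : K →ₐ[F] Module.End F K) : K →* Module.End F K)).range) :
    ∃ r : ℕ, 1 ≤ r ∧ r ∣ n ∧ r < n ∧ Nat.card ↥(((Units.map ((Algebra.lmul F K : K →ₐ[F] Module.End F K) : K →* Module.End F K)).range).map (MulAut.conj g).toMonoidHom ⊓ (Units.map ((Algebra.lmul F K : K →ₐ[F] Module.End F K) : K →* Module.End F K)).range) ∣ Fintype.card F ^ r - 1 := by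
  classical
  set S := (Singer.lm F K).range with hS
  set T := S.map (MulAut.conj g).toMonoidHom with hT
  haveI : Finite (Module.End F K) := Finite.of_injective _ DFunLike.coe_injective
  let A : Subalgebra F K :=
    { carrier := {k | ∀ t ∈ T, ∀ x, (t : Module.End F K) (k * x) = k * (t : Module.End F K) x}
      mul_mem' := fun {a b} ha hb t ht x => by rw [mul_assoc, ha t ht, hb t ht, mul_assoc]
      add_mem' := fun {a b} ha hb t ht x => by rw [add_mul, map_add, ha t ht, hb t ht, add_mul]
      algebraMap_mem' := fun r t ht x => by rw [← Algebra.smul_def, ← Algebra.smul_def, map_smul] }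
  let L : IntermediateField F K := Subalgebra.IsAlgebraic.toIntermediateField (S := A)
    (fun x _ => Algebra.IsAlgebraic.isAlgebraic x)
  have hL : L ≠ ⊤ := by
    intro h
    apply hg
    refine Subgroup.eq_of_le_of_card_ge ?_ (Subgroup.card_map_of_injective (MulAut.conj g).injective).symm.le
    intro t ht
    rw [hS, Singer.mem_range_iff]
    intro k x
    have : k ∈ L := h ▸ IntermediateField.mem_top
    exact this t ht x
  have htower := Module.finrank_mul_finrank F L K
  have h1 : Module.finrank L K ≠ 1 := fun h => hL (IntermediateField.finrank_eq_one_iff_eq_top.1 h)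
  have h2 : 0 < Module.finrank L K := Module.finrank_pos
  have h3 : 0 < Module.finrank F L := Module.finrank_pos
  refine ⟨Module.finrank F L, h3, ⟨_, hdim ▸ htower.symm⟩, ?_, ?_⟩
  · rw [← hdim, ← htower]
    exact lt_mul_of_one_lt_right h3 (by omega)
  · have hle : T ⊓ S ≤ ((Singer.lm F K).comp (Units.map (L.val : L →* K))).range := by
      rintro _ ⟨ht, c, rfl⟩
      have hc : (c : K) ∈ L := by
        rintro _ ⟨_, ⟨d, rfl⟩, rfl⟩ x
        obtain ⟨_, ⟨e, rfl⟩, he⟩ := ht
        have hcomm : (MulAut.conj g).toMonoidHom (Singer.lm F K d) * Singer.lm F K c =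
            Singer.lm F K c * (MulAut.conj g).toMonoidHom (Singer.lm F K d) := by
          rw [← he, ← map_mul, ← map_mul, ← map_mul, ← map_mul, mul_comm]
        exact congrArg (fun u : (Module.End F K)ˣ => (u : Module.End F K) x) hcomm
      refine ⟨Units.mk0 ⟨c, hc⟩ (fun h => c.ne_zero (congrArg Subtype.val h)), ?_⟩
      rw [MonoidHom.comp_apply]
      congr 1
      ext; rfl
    refine (Subgroup.card_dvd_of_le hle).trans ?_
    refine (Subgroup.card_range_dvd _).trans ?_
    rw [Nat.card_units, Module.natCard_eq_pow_finrank (K := F), Nat.card_eq_fintype_card]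

end Cfsg.Agent.S5739
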