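import Cfsg.Statements.S5743
import Cfsg.Agent.Lib.Chev.Inv11

set_option autoImplicit false
open Cfsg

namespace Cfsg.Agent.S5743


open Chev Cfsg.Lie

/-- The simple group ²E₆(2) (the twisted group of type E₆ over the field with 4 elements) contains at least three pairwise non-conjugate subgroups isomorphic to the Chevalley group F₄(2). -/
theorem result {K : Type*} [Field K] [Fintype K] (hK : Fintype.card K = 4) :
    ∃ H : Fin 3 → Subgroup (Cfsg.Lie.twistedE6 K 2),
      (∀ i, Nonempty ((H i) ≃* Cfsg.Lie.chevF4.group (ZMod 2))) ∧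
      (∀ i j, i ≠ j → ∀ g : (Cfsg.Lie.twistedE6 K 2), (H i).map (MulAut.conj g).toMonoidHom ≠ H j) := by
  obtain ⟨A, h1, h2⟩ := three_F4 (K := K) hK
  have hι := checkedE6.inc_inj (e6Words K 2)
  refine ⟨fun i => (A i).range.comap (checkedE6.inc (e6Words K 2)), fun i => ⟨((Subgroup.equivMapOfInjective _ _ hι).trans
    (MulEquiv.subgroupCongr (Subgroup.map_comap_eq_self (h1 i).2))).trans (MonoidHom.ofInjective (h1 i).1).symm⟩, fun i j a g e => a (h2 i j (checkedE6.inc (e6Words K 2) g) fun y => ?_)⟩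
  obtain ⟨x, b⟩ := (h1 i).2 ⟨y, rfl⟩
  obtain ⟨z, c⟩ := e.le ⟨x, ⟨y, b.symm⟩, rfl⟩
  exact ⟨z, by rw [c, ← b]; rfl⟩

end Cfsg.Agent.S5743
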