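import Cfsg.Statements.S5747

set_option autoImplicit false
open Cfsg

namespace Cfsg.Agent.S5747

section
variable (G : Type*) {Ω : Type*} [Group G] [MulAction G Ω]

def Bs {t : ℕ} (f : Fin t → Ω) : Prop := ∀ g : G, (∀ i : Fin t, g • f i = f i) → g = 1
def Ir {t : ℕ} (f : Fin t → Ω) : Prop := ∀ i : Fin t, ∃ g : G, (∀ j : Fin t, j < i → g • f j = f j) ∧ g • f i ≠ f i
def Reo (Ω : Type*) [MulAction G Ω] : Prop :=
  ∀ (t : ℕ) (f : Fin t → Ω) (σ : Equiv.Perm (Fin t)), Bs G f ∧ Ir G f → Bs G (f ∘ σ) ∧ Ir G (f ∘ σ)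

variable {G}

theorem Ir.inj {t : ℕ} {f : Fin t → Ω} (h : Ir G f) : Function.Injective f := by
  intro i j hij
  by_contra hne
  rcases lt_or_gt_of_ne hne with h1 | h1
  · obtain ⟨g, hg, hg2⟩ := h j
    exact hg2 (hij ▸ hg i h1)
  · obtain ⟨g, hg, hg2⟩ := h i
    exact hg2 (hij ▸ hg j h1)

theorem exists_irr : ∀ (t : ℕ) (f : Fin t → Ω), Bs G f → ∃ (s : ℕ) (f' : Fin s → Ω), s ≤ t ∧ (¬ Ir G f → s < t) ∧ Bs G f' ∧ Ir G f' := by
  intro t
  induction t with
  | zero => intro f hf; exact ⟨0, f, le_rfl, fun h => absurd (fun i => i.elim0) h, hf, fun i => i.elim0⟩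
  | succ t ih =>
    intro f hf
    by_cases h : Ir G f
    · exact ⟨_, f, le_rfl, fun h' => absurd h h', hf, h⟩
    · have h' := h
      unfold Ir at h'
      push Not at h'
      obtain ⟨i, hi⟩ := h'
      obtain ⟨s, f', h1, -, h3⟩ := ih (f ∘ i.succAbove) (fun g hg => hf g (by
        have key : ∀ j, j ≠ i → g • f j = f j := by
          intro j hj
          obtain ⟨k, rfl⟩ := Fin.exists_succAbove_eq hj
          exact hg k
        intro j
        by_cases hj : j = i
        · subst hj; exact hi g (fun k hk => key k hk.ne)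
        · exact key j hj))
      exact ⟨s, f', by omega, fun _ => by omega, h3⟩

theorem ir_snoc {t : ℕ} {f : Fin t → Ω} (h : Ir G f) {y : Ω} {g : G} (hg : ∀ i, g • f i = f i) (hy : g • y ≠ y) :
    Ir G (Fin.snoc f y : Fin (t + 1) → Ω) := by
  intro i
  induction i using Fin.lastCases with
  | last =>
    refine ⟨g, fun j hj => ?_, by simpa using hy⟩
    obtain ⟨k, rfl⟩ := Fin.exists_castSucc_eq.2 hj.ne
    simpa using hg k
  | cast i =>
    obtain ⟨g', h1, h2⟩ := h i
    refine ⟨g', fun j hj => ?_, by simpa using h2⟩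
    obtain ⟨k, rfl⟩ := Fin.exists_castSucc_eq.2 (hj.trans (Fin.castSucc_lt_last i)).ne
    simpa using h1 k (by simpa using hj)

theorem Ir.init {t : ℕ} {f : Fin (t + 1) → Ω} (h : Ir G f) : Ir G (Fin.init f) := by
  intro i
  obtain ⟨g, h1, h2⟩ := h i.castSucc
  exact ⟨g, fun j hj => h1 j.castSucc (by simpa using hj), h2⟩

theorem Reo.min (H : Reo G Ω) {t : ℕ} {f : Fin t → Ω} (hb : Bs G f) (hi : Ir G f) (i : Fin t) :
    ∃ g : G, (∀ j, j ≠ i → g • f j = f j) ∧ g • f i ≠ f i := by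
  rcases t with _ | t
  · exact i.elim0
  obtain ⟨g, h1, h2⟩ := (H _ f (Equiv.swap i (Fin.last t)) ⟨hb, hi⟩).2 (Fin.last t)
  refine ⟨g, fun j hj => ?_, by simpa using h2⟩
  have := h1 (Equiv.swap i (Fin.last t) j) (by
    refine lt_of_le_of_ne (Fin.le_last _) fun h => hj ?_
    rw [Equiv.swap_apply_eq_iff] at h
    simpa using h)
  simpa using this

theorem Reo.exch (H : Reo G Ω) {t t' : ℕ} {f : Fin t → Ω} {f' : Fin t' → Ω} (hb : Bs G f) (hi : Ir G f)
    (hb' : Bs G f') (i : Fin t) (hx : f i ∉ Set.range f') :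
    ∃ f₂ : Fin t → Ω, Bs G f₂ ∧ Ir G f₂ ∧ Set.range f₂ \ Set.range f' ⊂ Set.range f \ Set.range f' := by
  rcases t with _ | t
  · exact i.elim0
  obtain ⟨hb1, hi1⟩ := H _ f (Equiv.swap i (Fin.last t)) ⟨hb, hi⟩
  set f₁ := f ∘ Equiv.swap i (Fin.last t) with hf₁
  have hl : f₁ (Fin.last t) = f i := by simp [hf₁]
  obtain ⟨g, hg1, hg2⟩ := hi1 (Fin.last t)
  have hg0 : g ≠ 1 := by rintro rfl; simp at hg2
  obtain ⟨k, hk⟩ : ∃ k, g • f' k ≠ f' k := by
    by_contra hc; push Not at hc; exact hg0 (hb' g hc)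
  have hgi : ∀ j, g • Fin.init f₁ j = Fin.init f₁ j := fun j => hg1 _ (Fin.castSucc_lt_last j)
  have hi2 := ir_snoc hi1.init hgi hk
  refine ⟨Fin.snoc (Fin.init f₁) (f' k), ?_, hi2, ?_⟩
  · intro h hh
    by_contra h0
    have hall : ∀ h : G, (∀ j, h • Fin.init f₁ j = Fin.init f₁ j) → h • f i = f i → h = 1 := by
      intro h h1 h2
      refine hb1 h fun j => ?_
      induction j using Fin.lastCases with
      | last => rw [hl]; exact h2
      | cast j => exact h1 j
    have hmove : h • f i ≠ f i := fun h2 => h0 (hall h (fun j => by simpa using hh j.castSucc) h2)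
    have hi3 := ir_snoc hi2 hh hmove
    obtain ⟨g', h1, h2⟩ := H.min (fun g' hg' => hall g' (fun j => by simpa using hg' j.castSucc.castSucc)
      (by simpa using hg' (Fin.last _))) hi3 (Fin.last t).castSucc
    have : g' = 1 := hall g' (fun j => by
      simpa using h1 j.castSucc.castSucc (by simpa using (Fin.castSucc_lt_last j).ne))
      (by simpa using h1 (Fin.last _) (Fin.castSucc_lt_last _).ne')
    rw [this, one_smul] at h2
    exact h2 rfl
  · rw [Set.ssubset_iff_of_subset]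
    · refine ⟨f i, ⟨⟨i, rfl⟩, hx⟩, ?_⟩
      rintro ⟨⟨j, hj⟩, -⟩
      induction j using Fin.lastCases with
      | last => exact hx ⟨k, by simpa using hj⟩
      | cast j =>
        rw [← hl] at hj
        exact (Fin.castSucc_lt_last j).ne (hi1.inj (by simpa [Fin.init] using hj))
    · rintro _ ⟨⟨j, rfl⟩, hj⟩
      refine ⟨?_, hj⟩
      induction j using Fin.lastCases with
      | last => exact absurd ⟨k, by simp⟩ hj
      | cast j => exact ⟨Equiv.swap i (Fin.last t) j.castSucc, by simp [hf₁, Fin.init]⟩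

theorem Reo.eq [Finite Ω] (H : Reo G Ω) {t t' : ℕ} {f' : Fin t' → Ω} (hb' : Bs G f') (hi' : Ir G f')
    (f : Fin t → Ω) (hb : Bs G f) (hi : Ir G f) : t = t' := by
  induction hn : (Set.range f \ Set.range f').ncard using Nat.strong_induction_on generalizing f with
  | _ n ih =>
    by_cases h : ∀ i, f i ∈ Set.range f'
    · have h2 : Set.range f = Set.range f' := by
        apply Set.Subset.antisymm (Set.range_subset_iff.2 h)
        rintro _ ⟨k, rfl⟩
        by_contra hk
        obtain ⟨g, h1, h2⟩ := H.min hb' hi' k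
        have : g = 1 := hb g fun i => by
          obtain ⟨j, hj⟩ := h i
          rw [← hj]
          exact h1 j (by rintro rfl; exact hk ⟨i, hj.symm⟩)
        rw [this, one_smul] at h2
        exact h2 rfl
      have h3 := Set.ncard_range_of_injective hi.inj
      rw [h2, Set.ncard_range_of_injective hi'.inj] at h3
      simpa using h3.symm
    · push Not at h
      obtain ⟨i, hi0⟩ := h
      obtain ⟨f₂, h1, h2, h3⟩ := H.exch hb hi hb' i hi0
      exact ih _ (hn ▸ Set.ncard_lt_ncard h3) f₂ h1 h2 rfl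

end


/-- Let a finite group G act on a finite set Ω. An irredundant base is a sequence of points ω₁, …, ω_t whose pointwise stabiliser is trivial and in which each ω_i is moved by some element fixing ω₁, …, ω_{i−1}. Then all irredundant bases have the same length if and only if every reordering of an irredundant base is again an irredundant base. -/
theorem result {G Ω : Type*} [Group G] [Finite G] [MulAction G Ω] [Fintype Ω] :
    (∀ (t t' : ℕ) (f : Fin t → Ω) (f' : Fin t' → Ω), ((∀ g : G, (∀ i : Fin t, g • f i = f i) → g = 1) ∧ ∀ i : Fin t, ∃ g : G, (∀ j : Fin t, j < i → g • f j = f j) ∧ g • f i ≠ f i) → ((∀ g : G, (∀ i : Fin t', g • f' i = f' i) → g = 1) ∧ ∀ i : Fin t', ∃ g : G, (∀ j : Fin t', j < i → g • f' j = f' j) ∧ g • f' i ≠ f' i) → t = t') ↔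
    (∀ (t : ℕ) (f : Fin t → Ω) (σ : Equiv.Perm (Fin t)), ((∀ g : G, (∀ i : Fin t, g • f i = f i) → g = 1) ∧ ∀ i : Fin t, ∃ g : G, (∀ j : Fin t, j < i → g • f j = f j) ∧ g • f i ≠ f i) → ((∀ g : G, (∀ i : Fin t, g • (f ∘ σ) i = (f ∘ σ) i) → g = 1) ∧ ∀ i : Fin t, ∃ g : G, (∀ j : Fin t, j < i → g • (f ∘ σ) j = (f ∘ σ) j) ∧ g • (f ∘ σ) i ≠ (f ∘ σ) i)) := by
  constructor
  · intro h t f σ hf
    have hb : Bs G (f ∘ σ) := fun g hg => hf.1 g fun i => by simpa using hg (σ.symm i)
    refine ⟨hb, ?_⟩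
    by_contra hc
    obtain ⟨s, f', -, h2, h3⟩ := exists_irr t _ hb
    have := h t s f f' hf h3
    have := h2 hc
    omega
  · intro h t t' f f' hf hf'
    exact Reo.eq (G := G) h hf'.1 hf'.2 f hf.1 hf.2

end Cfsg.Agent.S5747
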