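import Cfsg.Statements.S5748
import Mathlib
import Cfsg.Agent.Lib.Perm.Ac3
import Cfsg.Agent.S0205

set_option autoImplicit false
open Cfsg

namespace Cfsg.Agent.S5748



/-- A finite non-abelian simple group in which commuting is a transitive relation on the non-identity elements (equivalently, every non-identity element has abelian centraliser) is isomorphic to PSL₂ over a field with 2^f elements for some f ≥ 2; conversely these groups have that property. -/
theorem result {G : Type*} [Group G] [Finite G] [IsSimpleGroup G] (hG : ¬ IsMulCommutative G) :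
    (∀ a b c : G, a ≠ 1 → b ≠ 1 → c ≠ 1 → Commute a b → Commute b c → Commute a c) ↔
    ∃ (F : Type) (_ : Field F) (_ : Fintype F) (f : ℕ), 2 ≤ f ∧ Fintype.card F = 2 ^ f ∧ Nonempty (G ≃* Matrix.ProjectiveSpecialLinearGroup (Fin 2) F) := by
  constructor
  · intro h
    have hc : ∀ t : G, t ≠ 1 → ∀ a b : G, Commute a t → Commute b t → Commute a b := by
      intro t ht a b ha hb
      by_cases h1 : a = 1
      · simp [h1]
      by_cases h2 : b = 1
      · simp [h2]
      exact h a t b h1 ht h2 ha hb.symm
    have he : Even (Nat.card G) := by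
      by_contra ho
      have := S0205.result (Nat.not_even_iff_odd.1 ho)
      exact hG ⟨⟨IsSimpleGroup.comm_iff_isSolvable.2 this⟩⟩
    obtain ⟨P⟩ : Nonempty (Sylow 2 G) := inferInstance
    have hp : ¬ IsPGroup 2 G := fun hp => by
      have := hp.isNilpotent
      exact hG ⟨⟨IsSimpleGroup.comm_iff_isSolvable.2 inferInstance⟩⟩
    have hA : Perm.Ac.AC G := by
      refine Perm.Ac.ac_of (fun t ht => hc t (Transfer.ne_one_of_orderOf ht)) P (fun hP => ?_) fun hn => ?_
      · obtain ⟨H, hH⟩ := Transfer.exists_index_two_of_hasNPC he (Transfer.hasNPC_two_of_isCyclic P hP)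
        rcases (Subgroup.normal_of_index_eq_two hH).eq_bot_or_eq_top with e | e
        · rw [e, Subgroup.index_bot] at hH
          exact hp (IsPGroup.of_card (n := 1) (by simpa using hH))
        · rw [e, Subgroup.index_top] at hH; omega
      · rcases hn.eq_bot_or_eq_top with e | e
        · exact P.ne_bot_of_dvd_card he.two_dvd e
        · exact hp ((e ▸ P.2 : IsPGroup 2 (⊤ : Subgroup G)).of_equiv Subgroup.topEquiv)
    have hT : Perm.Ac.TI G := ⟨hA, fun s t _ _ hst x h1 h2 => by
      by_contra hx
      exact hst (hc x hx s t h1.symm h2.symm)⟩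
    obtain ⟨F, _, _, h1, h2, h3⟩ := hT.exists_psl
    have hch : CharP F 2 := CharTwo.of_one_ne_zero_of_two_eq_zero one_ne_zero h2
    obtain ⟨n, -, hn⟩ := FiniteField.card F 2
    refine ⟨F, _, _, n, ?_, hn, h3⟩
    by_contra h4
    have h5 : (n : ℕ) = 1 := by have := n.pos; omega
    rw [h5] at hn
    omega
  · rintro ⟨F, _, _, f, hf, h1, ⟨e⟩⟩ a b c - hb - hab hbc
    have h2 : (2 : F) = 0 := by
      have h3 := FiniteField.cast_card_eq_zero F
      rw [h1] at h3
      exact pow_eq_zero_iff (n := f) (by omega) |>.1 (by simpa using h3)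
    let φ := e.trans (Perm.GL2.toPEquiv h2).symm
    have h4 : ¬ Perm.GL2.IsScal (φ b).1 := fun h5 => hb (by
      have := Perm.GL2.isScal_iff_center_SL.1 h5
      rw [Perm.GL2.center_SL_even h2] at this
      simpa using this)
    refine φ.injective ?_
    rw [map_mul, map_mul]
    exact Subtype.ext (Perm.GL2.comm_comm h4 (congrArg Subtype.val (hab.map φ).eq)
      (congrArg Subtype.val (hbc.map φ).symm.eq))

end Cfsg.Agent.S5748
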