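import Cfsg.Statements.S5752
import Cfsg.Agent.Lib.Fusion.TW

set_option autoImplicit false
open Cfsg

namespace Cfsg.Agent.S5752

open Cfsg.Agent.Comp Cfsg.Agent.BG Cfsg.Agent.TW Subgroup

/-- A form of the Thompson–Wielandt Theorem on primitive permutation groups. Let G be a finite group and M₁, M₂ two distinct conjugate maximal subgroups of G with trivial core in G; define two descending sequences of subgroups by A₀ = M₁, B₀ = M₂ and, for every i, A_{i+1} = the core in M₁ of A_i ∩ B_i and B_{i+1} = the core in M₂ of A_i ∩ B_i (the core in M of a subgroup Y ≤ M is the largest normal subgroup of M contained in Y). If A₂ and B₂ are both non-trivial, then for some prime p the subgroup generated by A₂ and B₂ is a p-group, and for each j the generalized Fitting subgroups of M_j and of its first core (A₁, resp. B₁) are their largest normal p-subgroups. -/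
theorem result {G : Type*} [Group G] [Finite G] (M₁ M₂ : Subgroup G) (hmax : IsCoatom M₁) (g : G)
    (hconj : M₂ = M₁.map (MulAut.conj g).toMonoidHom) (hne : M₁ ≠ M₂) (hcore : M₁.normalCore = ⊥)
    (A B : ℕ → Subgroup G) (hA0 : A 0 = M₁) (hB0 : B 0 = M₂)
    (hA : ∀ i, A (i + 1) = ((A i ⊓ B i).subgroupOf M₁).normalCore.map M₁.subtype)
    (hB : ∀ i, B (i + 1) = ((A i ⊓ B i).subgroupOf M₂).normalCore.map M₂.subtype) (hA2 : A 2 ≠ ⊥) (hB2 : B 2 ≠ ⊥) :
    ∃ p : ℕ, p.Prime ∧ IsPGroup p ↥(A 2 ⊔ B 2) ∧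
      Cfsg.generalizedFittingSubgroup ↥M₁ = Cfsg.pCore p ↥M₁ ∧ Cfsg.generalizedFittingSubgroup ↥(A 1) = Cfsg.pCore p ↥(A 1) ∧
      Cfsg.generalizedFittingSubgroup ↥M₂ = Cfsg.pCore p ↥M₂ ∧ Cfsg.generalizedFittingSubgroup ↥(B 1) = Cfsg.pCore p ↥(B 1) := by
  subst hconj
  have h := pair_of hmax hcore g hne
  have e1 : A 1 = core M₁ cj(g, M₁) := by
    rw [hA, hA0, hB0, core, inf_subgroupOf_left]
  have e2 : B 1 = core cj(g, M₁) M₁ := by
    rw [hB, hA0, hB0, core, inf_subgroupOf_right]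
  have e3 : A 2 = core M₁ (A 1 ⊓ B 1) := hA 1
  have e4 : B 2 = core cj(g, M₁) (A 1 ⊓ B 1) := hB 1
  have x1 : A 2 ≤ A 1 ⊓ B 1 := e3 ▸ core_le
  have x2 : B 2 ≤ A 1 ⊓ B 1 := e4 ▸ core_le
  have x3 : M₁ ≤ Nm(A 2) := e3 ▸ le_nm_core
  have x4 : cj(g, M₁) ≤ Nm(B 2) := e4 ▸ le_nm_core
  obtain ⟨p, hp, a1, a2, a3, a4⟩ := h.tw (e2 ▸ x1.trans inf_le_right) x3 hA2
    (e1 ▸ x2.trans inf_le_left) x4 hB2
  haveI := Fact.mk hp
  refine ⟨p, hp, a1.to_sup_of_normal_left' a2 ?_, charP_iff_fstar_subtype.1 a3,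
    charP_iff_fstar_subtype.1 (a3.subnIn ?_), charP_iff_fstar_subtype.1 a4,
    charP_iff_fstar_subtype.1 (a4.subnIn ?_)⟩
  · exact ((x2.trans inf_le_left).trans (e1 ▸ core_le_left)).trans x3
  · rw [e1]; exact .of_normalizer core_le_left le_nm_core
  · rw [e2]; exact .of_normalizer core_le_left le_nm_core

end Cfsg.Agent.S5752
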