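import Cfsg.Statements.S5754

set_option autoImplicit false
open Cfsg

namespace Cfsg.Agent.S5754

open QuadraticMap in
theorem exists_refl {F V : Type*} [Field F] [AddCommGroup V] [Module F V] (Q : QuadraticForm F V) (a : V) (ha : Q a ≠ 0) :
    ∃ φ : Q.IsometryEquiv Q, ∀ y, φ y = y - ((Q a)⁻¹ * polar Q a y) • a := by
  have h : ((Q a)⁻¹ • Q.polarBilin a : Module.Dual F V) a = 2 := by
    simp only [LinearMap.smul_apply, polarBilin_apply_apply, polar_self, smul_eq_mul, nsmul_eq_mul]
    field_simp
    simp
  refine ⟨⟨Module.reflection h, fun y => ?_⟩, fun y => ?_⟩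
  · change Q (Module.reflection h y) = Q y
    rw [Module.reflection_apply, sub_eq_add_neg, ← neg_smul, QuadraticMap.map_add Q, QuadraticMap.map_smul, polar_smul_right,
      polar_comm Q y a]
    simp only [LinearMap.smul_apply, polarBilin_apply_apply, smul_eq_mul]
    field_simp
    ring
  · change Module.reflection h y = _
    rw [Module.reflection_apply]; rfl

open QuadraticMap in
theorem polar_iso {F V : Type*} [Field F] [AddCommGroup V] [Module F V] {Q : QuadraticForm F V} (φ : Q.IsometryEquiv Q)
    (x y : V) : polar Q (φ x) (φ y) = polar Q x y := by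
  simp only [polar, ← map_add, IsometryEquiv.map_app]

open QuadraticMap in
theorem witt {F V ι : Type*} [Field F] [AddCommGroup V] [Module F V] (Q : QuadraticForm F V) (hQ : Q.Anisotropic)
    (v v' : ι → V) (h1 : ∀ i, Q (v i) = Q (v' i)) (h2 : ∀ i j, polar Q (v i) (v j) = polar Q (v' i) (v' j))
    (s : Finset ι) : ∃ φ : Q.IsometryEquiv Q, ∀ i ∈ s, φ (v i) = v' i := by
  classical
  induction s using Finset.induction_on with
  | empty => exact ⟨QuadraticMap.IsometryEquiv.refl Q, by simp⟩
  | insert k s hk ih =>
    obtain ⟨φ, hφ⟩ := ih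
    by_cases h : φ (v k) = v' k
    · refine ⟨φ, fun i hi => ?_⟩
      rcases Finset.mem_insert.1 hi with rfl | hi
      · exact h
      · exact hφ i hi
    · have ha : Q (φ (v k) - v' k) ≠ 0 := fun h0 => h (sub_eq_zero.1 (hQ _ h0))
      obtain ⟨ψ, hψ⟩ := exists_refl Q _ ha
      refine ⟨φ.trans ψ, fun i hi => ?_⟩
      change ψ (φ (v i)) = _
      rw [hψ]
      rcases Finset.mem_insert.1 hi with rfl | hi
      · have : polar Q (φ (v i) - v' i) (φ (v i)) = Q (φ (v i) - v' i) := by
          rw [polar_sub_left, polar_self, sub_eq_add_neg (φ (v i)), QuadraticMap.map_add Q, QuadraticMap.map_neg,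
            polar_neg_right, polar_comm Q (v' i), IsometryEquiv.map_app, ← h1 i]
          ring
        rw [this, inv_mul_cancel₀ ha, one_smul, sub_sub_cancel]
      · have : polar Q (φ (v k) - v' k) (φ (v i)) = 0 := by
          rw [polar_sub_left, polar_iso, hφ i hi, h2, sub_self]
        rw [this, mul_zero, zero_smul, sub_zero, hφ i hi]


/-- Let V be a finite-dimensional vector space over a finite field F carrying an anisotropic quadratic form Q (Q(v) = 0 only for v = 0). Then the group of all maps v ↦ φ(v) + c, with φ an isometry of Q and c ∈ V, acts on V as a binary permutation group: given n ≥ 2 and two n-tuples u, u' of vectors such that every pair of corresponding entries of u is carried to that of u' by such a map, one such map carries u to u'. -/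
theorem result {F V : Type*} [Field F] [Finite F] [AddCommGroup V] [Module F V] [Module.Finite F V]
    (Q : QuadraticForm F V) (hQ : Q.Anisotropic) (n : ℕ) (hn : 2 ≤ n) (u u' : Fin n → V)
    (h2 : ∀ i j : Fin n, i ≠ j → ∃ (φ : Q.IsometryEquiv Q) (c : V), φ (u i) + c = u' i ∧ φ (u j) + c = u' j) :
    ∃ (φ : Q.IsometryEquiv Q) (c : V), ∀ i, φ (u i) + c = u' i := by
  have hd : ∀ i j, Q (u i - u j) = Q (u' i - u' j) := by
    intro i j
    by_cases h : i = j
    · simp [h]
    obtain ⟨φ, c, h3, h4⟩ := h2 i j h
    rw [← h3, ← h4, add_sub_add_right_eq_sub, ← map_sub, QuadraticMap.IsometryEquiv.map_app]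
  let o : Fin n := ⟨0, by omega⟩
  have hp : ∀ x y : V, QuadraticMap.polar Q x y = Q x + Q y - Q (x - y) := by
    intro x y
    rw [sub_eq_add_neg x, QuadraticMap.map_add Q, QuadraticMap.map_neg, QuadraticMap.polar_neg_right]; ring
  obtain ⟨φ, hφ⟩ := witt Q hQ (fun i => u i - u o) (fun i => u' i - u' o) (fun i => hd i o)
    (fun i j => by rw [hp, hp, hd, hd, sub_sub_sub_cancel_right, sub_sub_sub_cancel_right, hd]) Finset.univ
  refine ⟨φ, u' o - φ (u o), fun i => ?_⟩
  have := hφ i (Finset.mem_univ _)
  simp only [map_sub] at this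
  rw [← add_sub_assoc, add_sub_right_comm, this, sub_add_cancel]

end Cfsg.Agent.S5754
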