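import Cfsg.Statements.S5763

set_option autoImplicit false
open Cfsg

namespace Cfsg.Agent.S5763

def L : List (List ℕ) := [[1, 0, 3, 2, 5, 4, 7, 6], [1, 0, 3, 2, 6, 7, 4, 5], [1, 0, 3, 2, 7, 6, 5, 4], [0, 1, 2, 3, 4, 5, 7, 6], [0, 1, 2, 3, 5, 4, 6, 7], [0, 1, 3, 2, 4, 5, 6, 7], [1, 0, 2, 3, 4, 5, 6, 7], [4, 5, 6, 7, 0, 1, 2, 3], [4, 5, 7, 6, 0, 1, 3, 2], [5, 4, 6, 7, 1, 0, 2, 3], [5, 4, 7, 6, 1, 0, 3, 2], [6, 7, 4, 5, 2, 3, 0, 1], [6, 7, 5, 4, 3, 2, 0, 1], [7, 6, 4, 5, 2, 3, 1, 0], [7, 6, 5, 4, 3, 2, 1, 0]]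

def D : List (List ℕ) := [[0,1,2,3],[1,0,2,3],[0,1,3,2],[1,0,3,2],[2,3,0,1],[3,2,0,1],[2,3,1,0],[3,2,1,0]]

def chk (b g : List ℕ) : Bool := D.any fun s => [0,1,2,3,4,5,6,7].all fun i =>
  Nat.beq (b.getD (g.getD i 0) 0) (s.getD (b.getD i 0) 0)

theorem D_spec : ∀ s ∈ D, ∀ u < 4, ∀ v < 4, (u / 2 = v / 2 ↔ s.getD u 0 / 2 = s.getD v 0 / 2) ∧
    (u = v ↔ s.getD u 0 = s.getD v 0) := by decide +kernel

def go : ℕ → List ℕ → Bool
  | 0, acc => L.any (chk acc)
  | n + 1, acc => [0, 1, 2, 3].all fun v => (2 ≤ acc.count v : Bool) || go n (v :: acc)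

theorem go_true : go 8 [] = true := by decide +kernel

theorem go_spec : ∀ (n : ℕ) (acc l : List ℕ), go n acc = true → l.length = n → (∀ v ∈ l, v < 4) →
    (∀ v, (l.reverse ++ acc).count v ≤ 2) → L.any (chk (l.reverse ++ acc)) = true
  | 0, acc, l, h, hl, _, _ => by
    rw [List.length_eq_zero_iff] at hl
    subst hl
    exact h
  | n + 1, acc, v :: l, h, hl, h4, hc => by
    rw [List.reverse_cons, List.append_assoc] at hc ⊢
    have hv : v ∈ [0, 1, 2, 3] := by
      have := h4 v List.mem_cons_self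
      simp; omega
    have h1 := List.all_eq_true.1 h v hv
    have h2 := hc v
    simp only [List.singleton_append, List.count_append, List.count_cons_self] at h2
    rw [Bool.or_eq_true, decide_eq_true_eq] at h1
    exact go_spec n (v :: acc) l (h1.resolve_left (by omega)) (by simpa using hl)
      (fun w hw => h4 w (List.mem_cons_of_mem _ hw)) hc

def P0 : Subgroup (Equiv.Perm (Fin 8)) where
  carrier := {g | ∀ i j : Fin 8, (i.val / 2 / 2 = j.val / 2 / 2 ↔ (g i).val / 2 / 2 = (g j).val / 2 / 2) ∧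
    (i.val / 2 = j.val / 2 ↔ (g i).val / 2 = (g j).val / 2)}
  one_mem' := fun _ _ => ⟨Iff.rfl, Iff.rfl⟩
  mul_mem' := fun {a b} ha hb i j => ⟨(hb i j).1.trans (ha _ _).1, (hb i j).2.trans (ha _ _).2⟩
  inv_mem' := fun {a} ha i j => by
    have := ha (a⁻¹ i) (a⁻¹ j)
    simp only [Equiv.Perm.coe_inv, Equiv.apply_symm_apply] at this
    exact ⟨this.1.symm, this.2.symm⟩

theorem P0_p : IsPGroup 2 P0 := by
  rintro ⟨g, hg⟩
  refine ⟨3, Subtype.ext ?_⟩
  have h1 : ∀ i, ((g * g) i).val / 2 / 2 = i.val / 2 / 2 := by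
    intro i
    have := (hg i (g i)).1
    have := i.2; have := (g i).2; have := (g (g i)).2
    change (g (g i)).val / 2 / 2 = _
    omega
  have hg2 := P0.mul_mem hg hg
  generalize hh : g * g = h at h1 hg2
  have h2 : ∀ i, ((h * h) i).val / 2 = i.val / 2 := by
    intro i
    have := (hg2 i (h i)).2
    have := h1 i; have := h1 (h i)
    change (h (h i)).val / 2 = _
    omega
  generalize hk : h * h = k at h2
  have h3 : k * k = 1 := by
    ext i
    have h4 : i = k i ↔ k i = k (k i) := k.injective.eq_iff.symm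
    simp only [Fin.ext_iff] at h4
    have := h2 i; have := h2 (k i)
    change (k (k i)).val = i.val
    omega
  change g ^ 2 ^ 3 = 1
  rw [← h3, ← hk, ← hh]
  simp only [pow_succ, pow_zero, one_mul, mul_assoc, Nat.reduceMul]

def gf (g : List ℕ) (i : Fin 8) : Fin 8 := Fin.ofNat 8 (g.getD i 0)

theorem L_spec : ∀ g ∈ L, (∀ i, gf g (gf g i) = i) ∧ (∃ i, gf g i ≠ i) ∧ (∀ i, (gf g i).val = g.getD i 0) ∧
    ∀ i j : Fin 8, (i.val / 2 / 2 = j.val / 2 / 2 ↔ (gf g i).val / 2 / 2 = (gf g j).val / 2 / 2) ∧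
    (i.val / 2 = j.val / 2 ↔ (gf g i).val / 2 = (gf g j).val / 2) := by decide +kernel

theorem key (x : Equiv.Perm (Fin 8)) : ∃ g ∈ P0, g ≠ 1 ∧ x * g * x⁻¹ ∈ P0 := by
  have h := go_spec 8 [] ((List.ofFn x).map (fun i => i.val / 2)).reverse go_true (by simp)
    (by
      intro v hv
      simp only [List.mem_reverse, List.mem_map] at hv
      obtain ⟨i, -, rfl⟩ := hv
      omega)
    (by
      intro v
      rw [List.reverse_reverse, List.append_nil, List.count_eq_countP, List.countP_map, List.countP_eq_length_filter]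
      have hnd : ((List.ofFn x).filter ((fun w => w == v) ∘ fun i : Fin 8 => i.val / 2)).Nodup :=
        (List.nodup_ofFn.2 x.injective).filter _
      have hnd2 := hnd.map Fin.val_injective
      have := (hnd2.subperm (l₂ := [2 * v, 2 * v + 1]) (by
        intro w hw
        simp only [List.mem_map, List.mem_filter, Function.comp_apply, beq_iff_eq] at hw
        obtain ⟨i, ⟨-, hi⟩, rfl⟩ := hw
        simp; omega)).length_le
      simpa using this)
  rw [List.reverse_reverse, List.append_nil, List.any_eq_true] at h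
  obtain ⟨g, hg, hc⟩ := h
  obtain ⟨h1, ⟨i0, h2⟩, h3, h4⟩ := L_spec g hg
  refine ⟨Function.Involutive.toPerm (gf g) h1, h4, fun h => h2 (congrArg (fun u : Equiv.Perm (Fin 8) => u i0) h), ?_⟩
  have hb : ∀ i : Fin 8, ((List.ofFn x).map (fun i => i.val / 2)).getD i 0 = (x i).val / 2 := by
    intro i
    rw [List.getD_eq_getElem _ _ (by simp)]
    simp only [List.getElem_map, List.getElem_ofFn]
  obtain ⟨s, hs, hc⟩ := List.any_eq_true.1 hc
  have hz : ∀ i : Fin 8, (x (gf g i)).val / 2 = s.getD ((x i).val / 2) 0 := by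
    intro i
    have := List.all_eq_true.1 hc i (by have := i.2; simp; omega)
    rw [← h3, hb, hb] at this
    exact Nat.eq_of_beq_eq_true this
  intro i j
  obtain ⟨i, rfl⟩ := x.surjective i
  obtain ⟨j, rfl⟩ := x.surjective j
  have := D_spec s hs ((x i).val / 2) (by omega) ((x j).val / 2) (by omega)
  rw [← hz, ← hz] at this
  simpa [Function.Involutive.toPerm] using this

/-- In the symmetric group on 8 letters any two Sylow 2-subgroups have non-trivial intersection: for a Sylow 2-subgroup H and every element x, H ∩ xHx⁻¹ ≠ 1. -/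
theorem result (H : Sylow 2 (Equiv.Perm (Fin 8))) (x : Equiv.Perm (Fin 8)) :
    (H : Subgroup (Equiv.Perm (Fin 8))) ⊓ (H : Subgroup (Equiv.Perm (Fin 8))).map (MulAut.conj x).toMonoidHom ≠ ⊥ := by
  obtain ⟨Q, hQ⟩ := P0_p.exists_le_sylow
  obtain ⟨y, rfl⟩ := MulAction.exists_smul_eq (Equiv.Perm (Fin 8)) Q H
  obtain ⟨g, hg, hg1, hg2⟩ := key (y⁻¹ * x⁻¹ * y)
  intro h
  have hm : ∀ k ∈ P0, y * k * y⁻¹ ∈ ((y • Q : Sylow 2 (Equiv.Perm (Fin 8))) : Subgroup (Equiv.Perm (Fin 8))) :=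
    fun k hk => ⟨k, hQ hk, rfl⟩
  have : y * g * y⁻¹ ∈ ((y • Q : Sylow 2 (Equiv.Perm (Fin 8))) : Subgroup (Equiv.Perm (Fin 8))) ⊓
      ((y • Q : Sylow 2 (Equiv.Perm (Fin 8))) : Subgroup (Equiv.Perm (Fin 8))).map (MulAut.conj x).toMonoidHom :=
    ⟨hm g hg, _, hm _ hg2, by simp [mul_assoc]⟩
  rw [h, Subgroup.mem_bot] at this
  exact hg1 (by simpa using this)

end Cfsg.Agent.S5763
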