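import Cfsg.Statements.S5775
import Cfsg.Agent.Lib.Classical.Asch16

set_option autoImplicit false
open Cfsg

namespace Cfsg.Agent.S5775
open Cfsg.Agent.Classical


/-- Every maximal subgroup of SL_3(q) is of one of the listed geometric types or lies in the residual class. Let F be a finite field with q elements and H a maximal subgroup of SL_3(F) (viewed inside GL_3(F)). Then H is the intersection with SL_3(F) of one of: the stabiliser of a proper non-zero subspace; for q ≥ 5, the stabiliser of a decomposition of F^3 into three independent lines; for q ≠ 4, the normaliser of a degree-3 subfield of the matrix algebra; a subfield group for a subfield F₀ with |F| = |F₀|^r, r prime; for q = p ≡ 1 mod 3 prime, the normaliser of an absolutely irreducible 3-subgroup R of exponent 3 with centre of order 3, all of whose characteristic abelian subgroups are cyclic, of order 3^(1+2m) for some m ≥ 1, with F the smallest field of characteristic p containing the cube roots of unity (so R is extraspecial of order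 27); for q odd, the similarity group of a non-degenerate quadratic form; the similarity group of a non-degenerate unitary form — or else H lies in the residual class of the linear case (modulo scalars H is almost simple, with absolutely irreducible perfect socle preimage realisable over no proper subfield and fixing no non-degenerate quadratic, symplectic or unitary form). -/
theorem result {F : Type*} [Field F] [Fintype F] (H : Subgroup (Matrix.GeneralLinearGroup (Fin 3) F)) (hH : Cfsg.Geo.IsMaximalIn (Cfsg.Geo.specialLinear (Fin 3) F) H) :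
    (∃ W : Submodule F (Fin 3 → F), W ≠ ⊥ ∧ W ≠ ⊤ ∧ H = Cfsg.Geo.subspaceStabilizer W ⊓ Cfsg.Geo.specialLinear (Fin 3) F) ∨
    (5 ≤ Fintype.card F ∧ ∃ D : Fin 3 → Submodule F (Fin 3 → F), Cfsg.Geo.IsMDecomposition 1 D ∧ H = Cfsg.Geo.decompositionStabilizer D ⊓ Cfsg.Geo.specialLinear (Fin 3) F) ∨
    (Fintype.card F ≠ 4 ∧ ∃ K : Subalgebra F (Matrix (Fin 3) (Fin 3) F), Cfsg.Geo.IsFieldSubalgebra 3 K ∧ H = Cfsg.Geo.subalgebraNormalizer K ⊓ Cfsg.Geo.specialLinear (Fin 3) F) ∨
    (∃ (F₀ : Subfield F) (r : ℕ) (P : Matrix.GeneralLinearGroup (Fin 3) F), r.Prime ∧ Fintype.card F = Nat.card F₀ ^ r ∧ H = Cfsg.Geo.subfieldSubgroup F₀ P ⊓ Cfsg.Geo.specialLinear (Fin 3) F) ∨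
    (∃ (p : ℕ) (R : Subgroup (Matrix.GeneralLinearGroup (Fin 3) F)), p.Prime ∧ Fintype.card F = p ∧ p % 3 = 1 ∧ Cfsg.Geo.IsLinearSymplecticTypeData 3 R ∧ H = Cfsg.Geo.subgroupNormalizer R ⊓ Cfsg.Geo.specialLinear (Fin 3) F) ∨
    (Odd (Fintype.card F) ∧ ∃ Q : (Fin 3 → F) → F, Cfsg.Geo.IsNondegenerateQuadraticForm Q ∧ H = Cfsg.Geo.quadSimilarityGroup Q ⊓ Cfsg.Geo.specialLinear (Fin 3) F) ∨
    (∃ (σ : F ≃+* F) (f : (Fin 3 → F) → (Fin 3 → F) → F), Cfsg.Geo.IsUnitaryForm σ f ∧ H = Cfsg.Geo.similarityGroup f ⊓ Cfsg.Geo.specialLinear (Fin 3) F) ∨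
    Cfsg.Geo.InLinearResidualClass H := by
  cases Asch.linM (by simp) hH with
  | red W h1 h2 h => exact .inl ⟨W, h1, h2, h⟩
  | @dec t m D hD h1 h2 h3 h4 h =>
    have key : ∀ t m : ℕ, 3 = t * m → 2 ≤ t → (t = 3 ∧ m = 1) := by
      intro t m e h; have : t ≤ 3 := Nat.le_of_dvd (by norm_num) ⟨m, e⟩; interval_cases t <;> omega
    obtain ⟨rfl, rfl⟩ := key t m (by simpa using Asch.IsMDecomposition.card_eq hD) hD.two_le
    · exact .inr (.inl ⟨h1 rfl, D, hD, h⟩)
  | fld r K hr hK h1 h =>
    have key : ∀ r : ℕ, r.Prime → r ∣ 3 → r = 3 := by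
      intro r h1 h2; have := Nat.le_of_dvd (by norm_num) h2
      interval_cases r <;> first | omega | exact absurd h1 (by decide)
    obtain rfl := key r hr (by simpa using Asch.IsFieldSubalgebra.dvd_card hK)
    · exact .inr (.inr (.inl ⟨h1 (by simp), K, hK, h⟩))
  | ten a b e P h1 h2 h3 h =>
    have key : ∀ a b : ℕ, 3 = a * b → 2 ≤ a → a < b → False := by
      intro a b e h h'; have : a ≤ 3 := Nat.le_of_dvd (by norm_num) ⟨b, e⟩; interval_cases a <;> omega
    exact (key a b (Asch.card_of_ten e) h1 h2).elim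
  | sub F₀ r P hr hF h => exact .inr (.inr (.inr (.inl ⟨F₀, r, P, hr, hF, h⟩)))
  | ext r m R hR hm h =>
    rw [Fintype.card_fin] at hm
    obtain rfl : r = 3 := Asch.prime_eq_of_pow hR.symplecticType.prime (k := 1) (by norm_num) (by norm_num) hm
    obtain ⟨p, h1, h2, h3⟩ := Asch.IsLinearSymplecticTypeData.one hR (by simp)
    exact .inr (.inr (.inr (.inr (.inl ⟨p, R, h1, h2, h3, hR, h⟩))))
  | wre m t e P hm ht h =>
    have := Asch.wre_cases (Asch.card_of_wre e) (by norm_num) (by omega) ht
    omega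
  | symp f hf he h => exact absurd he (by rw [Fintype.card_fin]; decide)
  | unit τ f hf h => exact .inr (.inr (.inr (.inr (.inr (.inr (.inl ⟨τ, f, hf, h⟩))))))
  | quad Q hQ ho h => exact .inr (.inr (.inr (.inr (.inr (.inl ⟨ho, Q, hQ, h⟩)))))
  | res h => exact .inr (.inr (.inr (.inr (.inr (.inr (.inr h))))))

end Cfsg.Agent.S5775
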