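import Cfsg.Statements.S5781
import Cfsg.Agent.Lib.Classical.Asch16

set_option autoImplicit false
open Cfsg

namespace Cfsg.Agent.S5781
open Cfsg.Agent.Classical


/-- Every maximal subgroup of SL_4(q) is of one of the listed geometric types or lies in the residual class. Let F be a finite field with q elements and H a maximal subgroup of SL_4(F) (inside GL_4(F)). Then H is the intersection with SL_4(F) of one of: the stabiliser of a proper non-zero subspace; for q ≥ 7, the stabiliser of a decomposition into four independent lines; for q ≥ 4, the stabiliser of a decomposition into two independent planes; the normaliser of a degree-2 subfield of the matrix algebra; a subfield group for a subfield F₀ with |F| = |F₀|^r, r prime; for q = p ≡ 1 mod 4 prime, the normaliser of an absolutely irreducible 2-subgroup R of exponent 4 with centre of order 4, all of whose characteristic abelian subgroups are cyclic, of order 2^(2+2m) for some m (here |R| = 64), with 4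 dividing p − 1; for q odd, the similarity group of a non-degenerate quadratic form; the similarity group of a non-degenerate symplectic form; the similarity group of a non-degenerate unitary form — or else H lies in the residual class of the linear case. -/
theorem result {F : Type*} [Field F] [Fintype F] (H : Subgroup (Matrix.GeneralLinearGroup (Fin 4) F)) (hH : Cfsg.Geo.IsMaximalIn (Cfsg.Geo.specialLinear (Fin 4) F) H) :
    (∃ W : Submodule F (Fin 4 → F), W ≠ ⊥ ∧ W ≠ ⊤ ∧ H = Cfsg.Geo.subspaceStabilizer W ⊓ Cfsg.Geo.specialLinear (Fin 4) F) ∨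
    (7 ≤ Fintype.card F ∧ ∃ D : Fin 4 → Submodule F (Fin 4 → F), Cfsg.Geo.IsMDecomposition 1 D ∧ H = Cfsg.Geo.decompositionStabilizer D ⊓ Cfsg.Geo.specialLinear (Fin 4) F) ∨
    (4 ≤ Fintype.card F ∧ ∃ D : Fin 2 → Submodule F (Fin 4 → F), Cfsg.Geo.IsMDecomposition 2 D ∧ H = Cfsg.Geo.decompositionStabilizer D ⊓ Cfsg.Geo.specialLinear (Fin 4) F) ∨
    (∃ K : Subalgebra F (Matrix (Fin 4) (Fin 4) F), Cfsg.Geo.IsFieldSubalgebra 2 K ∧ H = Cfsg.Geo.subalgebraNormalizer K ⊓ Cfsg.Geo.specialLinear (Fin 4) F) ∨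
    (∃ (F₀ : Subfield F) (r : ℕ) (P : Matrix.GeneralLinearGroup (Fin 4) F), r.Prime ∧ Fintype.card F = Nat.card F₀ ^ r ∧ H = Cfsg.Geo.subfieldSubgroup F₀ P ⊓ Cfsg.Geo.specialLinear (Fin 4) F) ∨
    (∃ (p : ℕ) (R : Subgroup (Matrix.GeneralLinearGroup (Fin 4) F)), p.Prime ∧ Fintype.card F = p ∧ p % 4 = 1 ∧ Cfsg.Geo.IsLinearSymplecticTypeData 2 R ∧ H = Cfsg.Geo.subgroupNormalizer R ⊓ Cfsg.Geo.specialLinear (Fin 4) F) ∨
    (Odd (Fintype.card F) ∧ ∃ Q : (Fin 4 → F) → F, Cfsg.Geo.IsNondegenerateQuadraticForm Q ∧ H = Cfsg.Geo.quadSimilarityGroup Q ⊓ Cfsg.Geo.specialLinear (Fin 4) F) ∨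
    (∃ f : (Fin 4 → F) → (Fin 4 → F) → F, Cfsg.Geo.IsSymplecticForm f ∧ H = Cfsg.Geo.similarityGroup f ⊓ Cfsg.Geo.specialLinear (Fin 4) F) ∨
    (∃ (σ : F ≃+* F) (f : (Fin 4 → F) → (Fin 4 → F) → F), Cfsg.Geo.IsUnitaryForm σ f ∧ H = Cfsg.Geo.similarityGroup f ⊓ Cfsg.Geo.specialLinear (Fin 4) F) ∨
    Cfsg.Geo.InLinearResidualClass H := by
  cases Asch.linM (by simp) hH with
  | red W h1 h2 h => exact .inl ⟨W, h1, h2, h⟩
  | @dec t m D hD h1 h2 h3 h4 h =>
    have key : ∀ t m : ℕ, 4 = t * m → 2 ≤ t → (t = 4 ∧ m = 1) ∨ (t = 2 ∧ m = 2) := by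
      intro t m e h; have : t ≤ 4 := Nat.le_of_dvd (by norm_num) ⟨m, e⟩; interval_cases t <;> omega
    obtain ⟨rfl, rfl⟩ | ⟨rfl, rfl⟩ := key t m (by simpa using Asch.IsMDecomposition.card_eq hD) hD.two_le
    · exact .inr (.inl ⟨h3 rfl rfl, D, hD, h⟩)
    · exact .inr (.inr (.inl ⟨h4 rfl rfl, D, hD, h⟩))
  | fld r K hr hK h1 h =>
    have key : ∀ r : ℕ, r.Prime → r ∣ 4 → r = 2 := by
      intro r h1 h2; have := Nat.le_of_dvd (by norm_num) h2
      interval_cases r <;> first | omega | exact absurd h1 (by decide)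
    obtain rfl := key r hr (by simpa using Asch.IsFieldSubalgebra.dvd_card hK)
    · exact .inr (.inr (.inr (.inl ⟨K, hK, h⟩)))
  | ten a b e P h1 h2 h3 h =>
    have key : ∀ a b : ℕ, 4 = a * b → 2 ≤ a → a < b → False := by
      intro a b e h h'; have : a ≤ 4 := Nat.le_of_dvd (by norm_num) ⟨b, e⟩; interval_cases a <;> omega
    exact (key a b (Asch.card_of_ten e) h1 h2).elim
  | sub F₀ r P hr hF h => exact .inr (.inr (.inr (.inr (.inl ⟨F₀, r, P, hr, hF, h⟩))))
  | ext r m R hR hm h =>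
    rw [Fintype.card_fin] at hm
    obtain rfl : r = 2 := Asch.prime_eq_of_pow hR.symplecticType.prime (k := 2) (by norm_num) (by norm_num) hm
    obtain ⟨p, h1, h2, h3⟩ := Asch.IsLinearSymplecticTypeData.two hR (by simp)
    exact .inr (.inr (.inr (.inr (.inr (.inl ⟨p, R, h1, h2, h3, hR, h⟩)))))
  | wre m t e P hm ht h =>
    have := Asch.wre_cases (Asch.card_of_wre e) (by norm_num) (by omega) ht
    omega
  | symp f hf he h => exact .inr (.inr (.inr (.inr (.inr (.inr (.inr (.inl ⟨f, hf, h⟩)))))))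
  | unit τ f hf h => exact .inr (.inr (.inr (.inr (.inr (.inr (.inr (.inr (.inl ⟨τ, f, hf, h⟩))))))))
  | quad Q hQ ho h => exact .inr (.inr (.inr (.inr (.inr (.inr (.inl ⟨ho, Q, hQ, h⟩))))))
  | res h => exact .inr (.inr (.inr (.inr (.inr (.inr (.inr (.inr (.inr h))))))))

end Cfsg.Agent.S5781
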