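import Cfsg.Statements.S5784
import Cfsg.Agent.Lib.Classical.Asch20

set_option autoImplicit false
open Cfsg

namespace Cfsg.Agent.S5784
open Cfsg.Agent.Classical


/-- Every maximal subgroup of SU_4(q) is of one of the listed geometric types or lies in the residual class. Let F be the field with q² elements, f the standard unitary form Σ u_i v_i^q on F^4, and H a maximal subgroup of SU_4(q) (inside GL_4(F)). Then H is the intersection with SU_4(q) of one of: the stabiliser of a non-zero subspace on which f vanishes; the stabiliser of a non-degenerate 1-space; for q ≠ 3, the stabiliser of a decomposition into four mutually orthogonal non-degenerate 1-spaces; for q ≥ 3, of a decomposition into two orthogonal non-degenerate 2-spaces; for q ≥ 4, of a decomposition into two totally isotropic 2-spaces; a subfield group of odd prime index whose F₀-structure carries f; a subfield group of index 2 whose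 F₀-structure carries ζ f, vanishing on pairs (u, u), for some non-zero ζ with ζ + ζ^q = 0; for q odd, a subfield group of index 2 whose F₀-structure carries f; for q = p ≡ 3 mod 4 prime, the normaliser of an absolutely irreducible symplectic-type 2-group of exponent 4, order 64 and centre of order 4 inside the similarity group of f — or else H lies in the residual class of the unitary case. -/
theorem result {F : Type*} [Field F] [Fintype F] (q : ℕ) (hF : Fintype.card F = q ^ 2) (H : Subgroup (Matrix.GeneralLinearGroup (Fin 4) F)) (hH : Cfsg.Geo.IsMaximalIn (Cfsg.GU 4 F q ⊓ Cfsg.Geo.specialLinear (Fin 4) F) H) :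
    (∃ W : Submodule F (Fin 4 → F), W ≠ ⊥ ∧ Cfsg.Geo.IsTotallySingularFor (Cfsg.hermForm 4 F q) W ∧ H = Cfsg.Geo.subspaceStabilizer W ⊓ (Cfsg.GU 4 F q ⊓ Cfsg.Geo.specialLinear (Fin 4) F)) ∨
    (∃ W : Submodule F (Fin 4 → F), W ≠ ⊥ ∧ Cfsg.Geo.IsNondegenerateOn (Cfsg.hermForm 4 F q) W ∧ 2 * Module.finrank F W < 4 ∧ H = Cfsg.Geo.subspaceStabilizer W ⊓ (Cfsg.GU 4 F q ⊓ Cfsg.Geo.specialLinear (Fin 4) F)) ∨
    (q ≠ 3 ∧ ∃ D : Fin 4 → Submodule F (Fin 4 → F), Cfsg.Geo.IsNondegenerateMDecomposition (Cfsg.hermForm 4 F q) 1 D ∧ H = Cfsg.Geo.decompositionStabilizer D ⊓ (Cfsg.GU 4 F q ⊓ Cfsg.Geo.specialLinear (Fin 4) F)) ∨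
    (3 ≤ q ∧ ∃ D : Fin 2 → Submodule F (Fin 4 → F), Cfsg.Geo.IsNondegenerateMDecomposition (Cfsg.hermForm 4 F q) 2 D ∧ H = Cfsg.Geo.decompositionStabilizer D ⊓ (Cfsg.GU 4 F q ⊓ Cfsg.Geo.specialLinear (Fin 4) F)) ∨
    (4 ≤ q ∧ ∃ D : Fin 2 → Submodule F (Fin 4 → F), Cfsg.Geo.IsMDecomposition 2 D ∧ (∀ i, Cfsg.Geo.IsTotallySingularFor (Cfsg.hermForm 4 F q) (D i)) ∧ H = Cfsg.Geo.decompositionStabilizer D ⊓ (Cfsg.GU 4 F q ⊓ Cfsg.Geo.specialLinear (Fin 4) F)) ∨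
    (∃ (F₀ : Subfield F) (r : ℕ) (P : Matrix.GeneralLinearGroup (Fin 4) F), r.Prime ∧ Odd r ∧ Fintype.card F = Nat.card F₀ ^ r ∧ Cfsg.Geo.IsFormRationalStructure (Cfsg.hermForm 4 F q) F₀ 1 P ∧ H = Cfsg.Geo.subfieldSubgroup F₀ P ⊓ (Cfsg.GU 4 F q ⊓ Cfsg.Geo.specialLinear (Fin 4) F)) ∨
    (∃ (F₀ : Subfield F) (P : Matrix.GeneralLinearGroup (Fin 4) F) (ζ : F), Fintype.card F = Nat.card F₀ ^ 2 ∧ ζ ≠ 0 ∧ ζ + ζ ^ q = 0 ∧ Cfsg.Geo.IsFormRationalStructure (Cfsg.hermForm 4 F q) F₀ ζ P ∧ (∀ u : Fin 4 → F, (∀ i, u i ∈ F₀) → (Cfsg.hermForm 4 F q) (Matrix.mulVec (P : Matrix (Fin 4) (Fin 4) F) u) (Matrix.mulVec (P : Matrix (Fin 4) (Fin 4) F) u) = 0) ∧ H = Cfsg.Geo.subfieldSubgroup F₀ P ⊓ (Cfsg.GU 4 F q ⊓ Cfsg.Geo.specialLinear (Fin 4) F)) ∨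
    (Odd q ∧ ∃ (F₀ : Subfield F) (P : Matrix.GeneralLinearGroup (Fin 4) F), Fintype.card F = Nat.card F₀ ^ 2 ∧ Cfsg.Geo.IsFormRationalStructure (Cfsg.hermForm 4 F q) F₀ 1 P ∧ H = Cfsg.Geo.subfieldSubgroup F₀ P ⊓ (Cfsg.GU 4 F q ⊓ Cfsg.Geo.specialLinear (Fin 4) F)) ∨
    (∃ (p : ℕ) (R : Subgroup (Matrix.GeneralLinearGroup (Fin 4) F)), p.Prime ∧ q = p ∧ p % 4 = 3 ∧ Cfsg.Geo.IsSymplecticTypeGroup 2 R ∧ Cfsg.Geo.ActsAbsolutelyIrreducibly (Cfsg.Geo.matrixSet R) ∧ R ≤ Cfsg.Geo.similarityGroup (Cfsg.hermForm 4 F q) ∧ Nat.card R = 64 ∧ Nat.card (Subgroup.center R) = 4 ∧ H = Cfsg.Geo.subgroupNormalizer R ⊓ (Cfsg.GU 4 F q ⊓ Cfsg.Geo.specialLinear (Fin 4) F)) ∨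
    Cfsg.Geo.InUnitaryResidualClass H := by
  rw [Asch.hermForm_eq_gf hF, Asch.GU_eq hF]
  cases Asch.uM_std hF (by norm_num) hH with
  | ts W h1 h2 h => exact .inl ⟨W, h1, h2, h⟩
  | nd W h1 h2 h3 h => exact .inr (.inl ⟨W, h1, h2, by simpa using h3, h⟩)
  | @dec t m D hD h1 h2 h =>
    have key : ∀ t m : ℕ, 4 = t * m → 2 ≤ t → (t = 4 ∧ m = 1) ∨ (t = 2 ∧ m = 2) := by
      intro t m e h; have : t ≤ 4 := Nat.le_of_dvd (by norm_num) ⟨m, e⟩; interval_cases t <;> omega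
    obtain ⟨rfl, rfl⟩ | ⟨rfl, rfl⟩ := key t m (by simpa using Asch.IsMDecomposition.card_eq hD.1) hD.1.two_le
    · exact .inr (.inr (.inl ⟨h2 rfl rfl, D, hD, h⟩))
    · exact .inr (.inr (.inr (.inl ⟨h1 rfl, D, hD, h⟩)))
  | pair m D hD h2 h3 h =>
    obtain rfl : m = 2 := by have := Asch.IsMDecomposition.card_eq hD; simp at this; omega
    exact .inr (.inr (.inr (.inr (.inl ⟨h3 rfl, D, hD, h2, h⟩))))
  | fld r K hr ho hK h1 h =>
    have key : ∀ r : ℕ, r.Prime → Odd r → r ∣ 4 → False := by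
      intro r h1 h0 h2; have := Nat.le_of_dvd (by norm_num) h2
      interval_cases r <;> first | omega | exact absurd h1 (by decide) | exact absurd h0 (by decide)
    exact (key r hr ho (by simpa using Asch.IsFieldSubalgebra.dvd_card hK)).elim
  | ten a b e P f₁ f₂ h1 h2 h3 hf₁ hf₂ hB h =>
    have key : ∀ a b : ℕ, 4 = a * b → 2 ≤ a → a < b → False := by
      intro a b e h h'; have : a ≤ 4 := Nat.le_of_dvd (by norm_num) ⟨b, e⟩; interval_cases a <;> omega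
    exact (key a b (Asch.card_of_ten e) h1 h2).elim
  | sub M hM h =>
    obtain ⟨F₀, r, P, hr, h1, rfl, ⟨h2, h3⟩ | ⟨rfl, h2, h3⟩ | ⟨rfl, h2, ζ, h3, h4, h5, h6⟩⟩ := hM
    · exact .inr (.inr (.inr (.inr (.inr (.inl ⟨F₀, r, P, hr, h2, h1, h3, h⟩)))))
    · exact .inr (.inr (.inr (.inr (.inr (.inr (.inr (.inl ⟨h2, F₀, P, h1, h3, h⟩)))))))
    · exact .inr (.inr (.inr (.inr (.inr (.inr (.inl ⟨F₀, P, ζ, h1, h3, h4, h5, h6, h⟩))))))
  | ext R r k hR h =>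
    have hm := hR.card
    rw [Fintype.card_fin] at hm
    obtain rfl : r = 2 := Asch.prime_eq_of_pow hR.st.prime (k := 2) (by norm_num) (by norm_num) hm
    obtain rfl : k = 2 := Nat.pow_right_injective (by norm_num : 2 ≤ 2) hm.symm
    obtain ⟨h1, h2, h3, h4⟩ := hR.two (Asch.us_frobq hF)
    exact .inr (.inr (.inr (.inr (.inr (.inr (.inr (.inr (.inl ⟨q, R, h1, rfl, h2, hR.st, hR.abs, hR.sim, h3, h4, h⟩))))))))
  | wre m t e P f hm ht h3 hf hB h =>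
    have := Asch.wre_cases (Asch.card_of_wre e) (by norm_num) (by omega) ht
    omega
  | res h => exact .inr (.inr (.inr (.inr (.inr (.inr (.inr (.inr (.inr h))))))))

end Cfsg.Agent.S5784
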