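import Cfsg.Statements.S5790
import Cfsg.Agent.Lib.Classical.Asch18

set_option autoImplicit false
open Cfsg

namespace Cfsg.Agent.S5790
open Cfsg.Agent.Classical


/-- Every maximal subgroup of Sp_4(q), q ≥ 4 even, is of one of the listed geometric types or lies in the residual class. Let F be a finite field of even order q ≥ 4, f the standard alternating form on F^4 (coordinates Fin 2 ⊕ Fin 2), and H a maximal subgroup of Sp_4(F) (inside GL_4(F)). Then H is the intersection with Sp_4(F) of one of: the stabiliser of a non-zero totally isotropic subspace; the stabiliser of a decomposition into two orthogonal non-degenerate 2-spaces; the normaliser of a degree-2 subfield K of the matrix algebra, self-adjoint with f(k v, v) = 0; a subfield group whose F₀-structure carries a non-zero multiple of f, |F| = |F₀|^r with r prime; the similarity group of a non-degenerate quadratic form whose polar form is f — or else H lies in the residual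 class of the symplectic case. -/
theorem result {F : Type*} [Field F] [Fintype F] (heven : ¬ Odd (Fintype.card F)) (h4 : 4 ≤ Fintype.card F) (H : Subgroup (Matrix.GeneralLinearGroup (Fin 2 ⊕ Fin 2) F)) (hH : Cfsg.Geo.IsMaximalIn (Cfsg.spGL 2 F) H) :
    (∃ W : Submodule F (Fin 2 ⊕ Fin 2 → F), W ≠ ⊥ ∧ Cfsg.Geo.IsTotallySingularFor (Cfsg.sympForm 2 F) W ∧ H = Cfsg.Geo.subspaceStabilizer W ⊓ Cfsg.spGL 2 F) ∨
    (∃ D : Fin 2 → Submodule F (Fin 2 ⊕ Fin 2 → F), Cfsg.Geo.IsNondegenerateMDecomposition (Cfsg.sympForm 2 F) 2 D ∧ H = Cfsg.Geo.decompositionStabilizer D ⊓ Cfsg.spGL 2 F) ∨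
    (∃ K : Subalgebra F (Matrix (Fin 2 ⊕ Fin 2) (Fin 2 ⊕ Fin 2) F), Cfsg.Geo.IsFieldSubalgebra 2 K ∧ Cfsg.Geo.IsSelfAdjointFor (Cfsg.sympForm 2 F) K ∧ (∀ k ∈ K, ∀ v : (Fin 2 ⊕ Fin 2 → F), (Cfsg.sympForm 2 F) (Matrix.mulVec k v) v = 0) ∧ H = Cfsg.Geo.subalgebraNormalizer K ⊓ Cfsg.spGL 2 F) ∨
    (∃ (F₀ : Subfield F) (r : ℕ) (P : Matrix.GeneralLinearGroup (Fin 2 ⊕ Fin 2) F) (ζ : F), r.Prime ∧ Fintype.card F = Nat.card F₀ ^ r ∧ ζ ≠ 0 ∧ Cfsg.Geo.IsFormRationalStructure (Cfsg.sympForm 2 F) F₀ ζ P ∧ H = Cfsg.Geo.subfieldSubgroup F₀ P ⊓ Cfsg.spGL 2 F) ∨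
    (∃ Q : (Fin 2 ⊕ Fin 2 → F) → F, Cfsg.Geo.IsNondegenerateQuadraticForm Q ∧ (∀ u v : (Fin 2 ⊕ Fin 2 → F), QuadraticMap.polar Q u v = (Cfsg.sympForm 2 F) u v) ∧ H = Cfsg.Geo.quadSimilarityGroup Q ⊓ Cfsg.spGL 2 F) ∨
    Cfsg.Geo.InSymplecticResidualClass H := by
  cases Asch.spM (Asch.alt_JG 2) (.inr ⟨by simp, by omega⟩) hH with
  | ts W h1 h2 h => exact .inl ⟨W, h1, h2, h⟩
  | nd W h1 h2 h3 h4 h =>
    have := Submodule.finrank_eq_zero.not.2 h1
    obtain ⟨k, hk⟩ := h4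
    simp at h3; omega
  | @dec t m D hD h1 h2 h =>
    have key : ∀ t m : ℕ, 4 = t * m → 2 ≤ t → Even m → (t = 2 ∧ m = 2) := by
      rintro t _ e h ⟨k, rfl⟩; have : t ≤ 4 := Nat.le_of_dvd (by norm_num) ⟨_, e⟩; interval_cases t <;> omega
    obtain ⟨rfl, rfl⟩ := key t m (by simpa using Asch.IsMDecomposition.card_eq hD.1) hD.1.two_le h1
    · exact .inr (.inl ⟨D, hD, h⟩)
  | pair m D ho hD h2 h3 h => exact absurd ho heven
  | fld r K hr hK h1 h2 h3 h =>
    have key : ∀ r : ℕ, r.Prime → 2 * r ∣ 4 → r = 2 := by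
      intro r h1 h2; have := Nat.le_of_dvd (by norm_num) h2; have : r ≤ 2 := by omega
      interval_cases r <;> first | omega | exact absurd h1 (by decide)
    obtain rfl := key r hr (by simpa using h3)
    · exact .inr (.inr (.inl ⟨K, hK, h1, h2, h⟩))
  | ufld K ho hK h1 h2 h3 h => exact absurd ho heven
  | ten a b e P f₁ f₂ ho h0 h1 h2 h3 hf₁ hf₂ hB h =>
    have key : ∀ a b : ℕ, 4 = a * b → Even a → 3 ≤ b → False := by
      rintro _ b e ⟨k, rfl⟩ h'; have : b ≤ 4 := Nat.le_of_dvd (by norm_num) ⟨_, e.trans (mul_comm _ _)⟩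
      interval_cases b <;> omega
    exact (key a b (by simpa using Fintype.card_congr e) h0 h1).elim
  | sub F₀ r P ζ hr hF h1 h2 h => exact .inr (.inr (.inr (.inl ⟨F₀, r, P, ζ, hr, hF, h1, h2, h⟩)))
  | ext R k hR hR' h1 hp ho hk h2 h3 h4 h => exact absurd ho heven
  | wre k t e P f ho h2 h3 h4 hf hB h =>
    have := Asch.wre_cases (n := 4) (by simpa using Fintype.card_congr e) (by norm_num) h4 (by omega)
    omega
  | quad Q he hQ hQ' h => exact .inr (.inr (.inr (.inr (.inl ⟨Q, hQ, hQ', h⟩))))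
  | res h => exact .inr (.inr (.inr (.inr (.inr h))))

end Cfsg.Agent.S5790
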