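import Cfsg.Statements.S5799
import Cfsg.Agent.Lib.Classical.Asch16

set_option autoImplicit false
open Cfsg

namespace Cfsg.Agent.S5799
open Cfsg.Agent.Classical


/-- Every maximal subgroup of SL_6(q) is of one of the listed geometric types or lies in the residual class. Let F be a finite field with q elements (p its characteristic) and H a maximal subgroup of SL_6(F) (inside GL_6(F)). Then H is the intersection with SL_6(F) of one of: the stabiliser of a proper non-zero subspace; for q ≥ 5, the stabiliser of a decomposition into 6 independent 1-spaces; for q ≥ 3, the stabiliser of a decomposition into 3 independent 2-spaces; the stabiliser of a decomposition into 2 independent 3-spaces; the normaliser of a degree-2 subfield of the matrix algebra; the normaliser of a degree-3 subfield of the matrix algebra; for q ≥ 3, the stabiliser of a tensor decomposition F^2 ⊗ F^3; a subfield group for a subfield F₀ with |F| = |F₀|^r, r prime; for q odd, the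 similarity group of a non-degenerate quadratic form; the similarity group of a non-degenerate symplectic form; the similarity group of a non-degenerate unitary form — or else H lies in the residual class of the linear case (modulo scalars H is almost simple, with absolutely irreducible perfect socle preimage realisable over no proper subfield and fixing no non-degenerate quadratic, symplectic or unitary form). -/
theorem result {F : Type*} [Field F] [Fintype F] (H : Subgroup (Matrix.GeneralLinearGroup (Fin 6) F)) (hH : Cfsg.Geo.IsMaximalIn (Cfsg.Geo.specialLinear (Fin 6) F) H) :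
    (∃ W : Submodule F (Fin 6 → F), W ≠ ⊥ ∧ W ≠ ⊤ ∧ H = Cfsg.Geo.subspaceStabilizer W ⊓ Cfsg.Geo.specialLinear (Fin 6) F) ∨
    (5 ≤ Fintype.card F ∧ ∃ D : Fin 6 → Submodule F (Fin 6 → F), Cfsg.Geo.IsMDecomposition 1 D ∧ H = Cfsg.Geo.decompositionStabilizer D ⊓ Cfsg.Geo.specialLinear (Fin 6) F) ∨
    (3 ≤ Fintype.card F ∧ ∃ D : Fin 3 → Submodule F (Fin 6 → F), Cfsg.Geo.IsMDecomposition 2 D ∧ H = Cfsg.Geo.decompositionStabilizer D ⊓ Cfsg.Geo.specialLinear (Fin 6) F) ∨
    (∃ D : Fin 2 → Submodule F (Fin 6 → F), Cfsg.Geo.IsMDecomposition 3 D ∧ H = Cfsg.Geo.decompositionStabilizer D ⊓ Cfsg.Geo.specialLinear (Fin 6) F) ∨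
    (∃ K : Subalgebra F (Matrix (Fin 6) (Fin 6) F), Cfsg.Geo.IsFieldSubalgebra 2 K ∧ H = Cfsg.Geo.subalgebraNormalizer K ⊓ Cfsg.Geo.specialLinear (Fin 6) F) ∨
    (∃ K : Subalgebra F (Matrix (Fin 6) (Fin 6) F), Cfsg.Geo.IsFieldSubalgebra 3 K ∧ H = Cfsg.Geo.subalgebraNormalizer K ⊓ Cfsg.Geo.specialLinear (Fin 6) F) ∨
    (3 ≤ Fintype.card F ∧ ∃ (e : Fin 6 ≃ Fin 2 × Fin 3) (P : Matrix.GeneralLinearGroup (Fin 6) F), H = Cfsg.Geo.tensorProductSubgroup 2 3 e P ⊓ Cfsg.Geo.specialLinear (Fin 6) F) ∨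
    (∃ (F₀ : Subfield F) (r : ℕ) (P : Matrix.GeneralLinearGroup (Fin 6) F), r.Prime ∧ Fintype.card F = Nat.card F₀ ^ r ∧ H = Cfsg.Geo.subfieldSubgroup F₀ P ⊓ Cfsg.Geo.specialLinear (Fin 6) F) ∨
    (Odd (Fintype.card F) ∧ ∃ Q : (Fin 6 → F) → F, Cfsg.Geo.IsNondegenerateQuadraticForm Q ∧ H = Cfsg.Geo.quadSimilarityGroup Q ⊓ Cfsg.Geo.specialLinear (Fin 6) F) ∨
    (∃ f : (Fin 6 → F) → (Fin 6 → F) → F, Cfsg.Geo.IsSymplecticForm f ∧ H = Cfsg.Geo.similarityGroup f ⊓ Cfsg.Geo.specialLinear (Fin 6) F) ∨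
    (∃ (σ : F ≃+* F) (f : (Fin 6 → F) → (Fin 6 → F) → F), Cfsg.Geo.IsUnitaryForm σ f ∧ H = Cfsg.Geo.similarityGroup f ⊓ Cfsg.Geo.specialLinear (Fin 6) F) ∨
    Cfsg.Geo.InLinearResidualClass H := by
  cases Asch.linM (by simp) hH with
  | red W h1 h2 h => exact .inl ⟨W, h1, h2, h⟩
  | @dec t m D hD h1 h2 h3 h4 h =>
    have key : ∀ t m : ℕ, 6 = t * m → 2 ≤ t → (t = 6 ∧ m = 1) ∨ (t = 3 ∧ m = 2) ∨ (t = 2 ∧ m = 3) := by
      intro t m e h; have : t ≤ 6 := Nat.le_of_dvd (by norm_num) ⟨m, e⟩; interval_cases t <;> omega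
    obtain ⟨rfl, rfl⟩ | ⟨rfl, rfl⟩ | ⟨rfl, rfl⟩ := key t m (by simpa using Asch.IsMDecomposition.card_eq hD) hD.two_le
    · exact .inr (.inl ⟨h1 rfl, D, hD, h⟩)
    · exact .inr (.inr (.inl ⟨h2 rfl, D, hD, h⟩))
    · exact .inr (.inr (.inr (.inl ⟨D, hD, h⟩)))
  | fld r K hr hK h1 h =>
    have key : ∀ r : ℕ, r.Prime → r ∣ 6 → r = 2 ∨ r = 3 := by
      intro r h1 h2; have := Nat.le_of_dvd (by norm_num) h2
      interval_cases r <;> first | omega | exact absurd h1 (by decide)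
    obtain rfl | rfl := key r hr (by simpa using Asch.IsFieldSubalgebra.dvd_card hK)
    · exact .inr (.inr (.inr (.inr (.inl ⟨K, hK, h⟩))))
    · exact .inr (.inr (.inr (.inr (.inr (.inl ⟨K, hK, h⟩)))))
  | ten a b e P h1 h2 h3 h =>
    have key : ∀ a b : ℕ, 6 = a * b → 2 ≤ a → a < b → (a = 2 ∧ b = 3) := by
      intro a b e h h'; have : a ≤ 6 := Nat.le_of_dvd (by norm_num) ⟨b, e⟩; interval_cases a <;> omega
    obtain ⟨rfl, rfl⟩ := key a b (Asch.card_of_ten e) h1 h2
    · exact .inr (.inr (.inr (.inr (.inr (.inr (.inl ⟨h3 rfl, e, P, h⟩))))))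
  | sub F₀ r P hr hF h => exact .inr (.inr (.inr (.inr (.inr (.inr (.inr (.inl ⟨F₀, r, P, hr, hF, h⟩)))))))
  | ext r m R hR hm h =>
    rw [Fintype.card_fin] at hm
    exact absurd hm (Asch.not_pow_of_two_primes hR.symplecticType.prime (p := 2) (q := 3) (by norm_num) (by norm_num)
      (by norm_num) (by norm_num) (by norm_num))
  | wre m t e P hm ht h =>
    have := Asch.wre_cases (Asch.card_of_wre e) (by norm_num) (by omega) ht
    omega
  | symp f hf he h => exact .inr (.inr (.inr (.inr (.inr (.inr (.inr (.inr (.inr (.inl ⟨f, hf, h⟩)))))))))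
  | unit τ f hf h => exact .inr (.inr (.inr (.inr (.inr (.inr (.inr (.inr (.inr (.inr (.inl ⟨τ, f, hf, h⟩))))))))))
  | quad Q hQ ho h => exact .inr (.inr (.inr (.inr (.inr (.inr (.inr (.inr (.inl ⟨ho, Q, hQ, h⟩))))))))
  | res h => exact .inr (.inr (.inr (.inr (.inr (.inr (.inr (.inr (.inr (.inr (.inr h))))))))))

end Cfsg.Agent.S5799
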