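import Cfsg.Statements.S5808
import Cfsg.Agent.Lib.Classical.Asch16

set_option autoImplicit false
open Cfsg

namespace Cfsg.Agent.S5808
open Cfsg.Agent.Classical


/-- Every maximal subgroup of SL_7(q) is of one of the listed geometric types or lies in the residual class. Let F be a finite field with q elements (p its characteristic) and H a maximal subgroup of SL_7(F) (inside GL_7(F)). Then H is the intersection with SL_7(F) of one of: the stabiliser of a proper non-zero subspace; for q ≥ 5, the stabiliser of a decomposition into 7 independent 1-spaces; the normaliser of a degree-7 subfield of the matrix algebra; a subfield group for a subfield F₀ with |F| = |F₀|^r, r prime; for q = p prime with p ≡ 1 mod 7, or q = p³ with p ≡ 2 or 4 mod 7, the normaliser of an absolutely irreducible 7-subgroup R of exponent 7 and order 7^(1+2m) with centre of order 7, all of whose characteristic abelian subgroups are cyclic, F being the smallest field of characteristic p containing the seventh roots of unity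 (here R is extraspecial of order 343); for q odd, the similarity group of a non-degenerate quadratic form; the similarity group of a non-degenerate unitary form — or else H lies in the residual class of the linear case (modulo scalars H is almost simple, with absolutely irreducible perfect socle preimage realisable over no proper subfield and fixing no non-degenerate quadratic, symplectic or unitary form). -/
theorem result {F : Type*} [Field F] [Fintype F] (H : Subgroup (Matrix.GeneralLinearGroup (Fin 7) F)) (hH : Cfsg.Geo.IsMaximalIn (Cfsg.Geo.specialLinear (Fin 7) F) H) :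
    (∃ W : Submodule F (Fin 7 → F), W ≠ ⊥ ∧ W ≠ ⊤ ∧ H = Cfsg.Geo.subspaceStabilizer W ⊓ Cfsg.Geo.specialLinear (Fin 7) F) ∨
    (5 ≤ Fintype.card F ∧ ∃ D : Fin 7 → Submodule F (Fin 7 → F), Cfsg.Geo.IsMDecomposition 1 D ∧ H = Cfsg.Geo.decompositionStabilizer D ⊓ Cfsg.Geo.specialLinear (Fin 7) F) ∨
    (∃ K : Subalgebra F (Matrix (Fin 7) (Fin 7) F), Cfsg.Geo.IsFieldSubalgebra 7 K ∧ H = Cfsg.Geo.subalgebraNormalizer K ⊓ Cfsg.Geo.specialLinear (Fin 7) F) ∨
    (∃ (F₀ : Subfield F) (r : ℕ) (P : Matrix.GeneralLinearGroup (Fin 7) F), r.Prime ∧ Fintype.card F = Nat.card F₀ ^ r ∧ H = Cfsg.Geo.subfieldSubgroup F₀ P ⊓ Cfsg.Geo.specialLinear (Fin 7) F) ∨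
    ((∃ p : ℕ, p.Prime ∧ CharP F p ∧ ((Fintype.card F = p ∧ p % 7 = 1) ∨ (Fintype.card F = p ^ 3 ∧ (p % 7 = 2 ∨ p % 7 = 4)))) ∧ ∃ R : Subgroup (Matrix.GeneralLinearGroup (Fin 7) F), Cfsg.Geo.IsLinearSymplecticTypeData 7 R ∧ H = Cfsg.Geo.subgroupNormalizer R ⊓ Cfsg.Geo.specialLinear (Fin 7) F) ∨
    (Odd (Fintype.card F) ∧ ∃ Q : (Fin 7 → F) → F, Cfsg.Geo.IsNondegenerateQuadraticForm Q ∧ H = Cfsg.Geo.quadSimilarityGroup Q ⊓ Cfsg.Geo.specialLinear (Fin 7) F) ∨
    (∃ (σ : F ≃+* F) (f : (Fin 7 → F) → (Fin 7 → F) → F), Cfsg.Geo.IsUnitaryForm σ f ∧ H = Cfsg.Geo.similarityGroup f ⊓ Cfsg.Geo.specialLinear (Fin 7) F) ∨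
    Cfsg.Geo.InLinearResidualClass H := by
  cases Asch.linM (by simp) hH with
  | red W h1 h2 h => exact .inl ⟨W, h1, h2, h⟩
  | @dec t m D hD h1 h2 h3 h4 h =>
    have key : ∀ t m : ℕ, 7 = t * m → 2 ≤ t → (t = 7 ∧ m = 1) := by
      intro t m e h; have : t ≤ 7 := Nat.le_of_dvd (by norm_num) ⟨m, e⟩; interval_cases t <;> omega
    obtain ⟨rfl, rfl⟩ := key t m (by simpa using Asch.IsMDecomposition.card_eq hD) hD.two_le
    · exact .inr (.inl ⟨h1 rfl, D, hD, h⟩)
  | fld r K hr hK h1 h =>
    have key : ∀ r : ℕ, r.Prime → r ∣ 7 → r = 7 := by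
      intro r h1 h2; have := Nat.le_of_dvd (by norm_num) h2
      interval_cases r <;> first | omega | exact absurd h1 (by decide)
    obtain rfl := key r hr (by simpa using Asch.IsFieldSubalgebra.dvd_card hK)
    · exact .inr (.inr (.inl ⟨K, hK, h⟩))
  | ten a b e P h1 h2 h3 h =>
    have key : ∀ a b : ℕ, 7 = a * b → 2 ≤ a → a < b → False := by
      intro a b e h h'; have : a ≤ 7 := Nat.le_of_dvd (by norm_num) ⟨b, e⟩; interval_cases a <;> omega
    exact (key a b (Asch.card_of_ten e) h1 h2).elim
  | sub F₀ r P hr hF h => exact .inr (.inr (.inr (.inl ⟨F₀, r, P, hr, hF, h⟩)))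
  | ext r m R hR hm h =>
    rw [Fintype.card_fin] at hm
    obtain rfl : r = 7 := Asch.prime_eq_of_pow hR.symplecticType.prime (k := 1) (by norm_num) (by norm_num) hm
    obtain ⟨p, e, h1, h2, h3, h4, h5, h6, h7⟩ := Asch.IsLinearSymplecticTypeData.odd hR (by simp)
    refine .inr (.inr (.inr (.inr (.inl ⟨⟨p, h1, h2, ?_⟩, R, hR, h⟩))))
    obtain rfl | rfl : e = 1 ∨ e = 3 := by
      obtain ⟨k, hk⟩ := h4
      have := Nat.le_of_dvd (by norm_num) h5
      clear h6 h7 h3
      interval_cases e <;> omega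
    · exact .inl ⟨by simpa using h3, by simpa using h6⟩
    · refine .inr ⟨h3, ?_⟩
      have h8 := h7 1 (by norm_num) (by norm_num)
      have := Nat.mod_lt p (by norm_num : 0 < 7)
      generalize p % 7 = x at *
      interval_cases x <;> simp at h6 h8 ⊢
  | wre m t e P hm ht h =>
    have := Asch.wre_cases (Asch.card_of_wre e) (by norm_num) (by omega) ht
    omega
  | symp f hf he h => exact absurd he (by rw [Fintype.card_fin]; decide)
  | unit τ f hf h => exact .inr (.inr (.inr (.inr (.inr (.inr (.inl ⟨τ, f, hf, h⟩))))))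
  | quad Q hQ ho h => exact .inr (.inr (.inr (.inr (.inr (.inl ⟨ho, Q, hQ, h⟩)))))
  | res h => exact .inr (.inr (.inr (.inr (.inr (.inr (.inr h))))))

end Cfsg.Agent.S5808
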