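import Cfsg.Statements.S5811
import Cfsg.Agent.Lib.Classical.Asch20

set_option autoImplicit false
open Cfsg

namespace Cfsg.Agent.S5811
open Cfsg.Agent.Classical


/-- Every maximal subgroup of SU_7(q) is of one of the listed geometric types or lies in the residual class. Let F be the field with q² elements (characteristic p), f the standard unitary form Σ u_i v_i^q on F^7, and H a maximal subgroup of SU_7(q) (inside GL_7(F)). Then H is the intersection with SU_7(q) of one of: the stabiliser of a non-zero totally isotropic subspace; the stabiliser of a non-degenerate 1-, 2- or 3-space; the stabiliser of a decomposition into seven mutually orthogonal non-degenerate 1-spaces; the normaliser of an adjoint-closed degree-7 subfield of the matrix algebra; a subfield group of odd prime index whose F₀-structure carries f; for q odd, a subfield group of index 2 whose F₀-structure carries f; for q = p prime with p ≡ 6 mod 7, or q = p³ with p ≡ 3 or 5 mod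 7, the normaliser of an absolutely irreducible 7-group R of exponent 7, order 343 and centre of order 7, all of whose characteristic abelian subgroups are cyclic, contained in the similarity group of f — or else H lies in the residual class of the unitary case (modulo scalars H is almost simple, with absolutely irreducible perfect socle preimage realisable over no proper subfield and fixing no non-degenerate quadratic or symplectic form). -/
theorem result {F : Type*} [Field F] [Fintype F] (q : ℕ) (hF : Fintype.card F = q ^ 2) (H : Subgroup (Matrix.GeneralLinearGroup (Fin 7) F)) (hH : Cfsg.Geo.IsMaximalIn (Cfsg.GU 7 F q ⊓ Cfsg.Geo.specialLinear (Fin 7) F) H) :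
    (∃ W : Submodule F (Fin 7 → F), W ≠ ⊥ ∧ Cfsg.Geo.IsTotallySingularFor (Cfsg.hermForm 7 F q) W ∧ H = Cfsg.Geo.subspaceStabilizer W ⊓ (Cfsg.GU 7 F q ⊓ Cfsg.Geo.specialLinear (Fin 7) F)) ∨
    (∃ W : Submodule F (Fin 7 → F), W ≠ ⊥ ∧ Cfsg.Geo.IsNondegenerateOn (Cfsg.hermForm 7 F q) W ∧ 2 * Module.finrank F W < 7 ∧ H = Cfsg.Geo.subspaceStabilizer W ⊓ (Cfsg.GU 7 F q ⊓ Cfsg.Geo.specialLinear (Fin 7) F)) ∨
    (∃ D : Fin 7 → Submodule F (Fin 7 → F), Cfsg.Geo.IsNondegenerateMDecomposition (Cfsg.hermForm 7 F q) 1 D ∧ H = Cfsg.Geo.decompositionStabilizer D ⊓ (Cfsg.GU 7 F q ⊓ Cfsg.Geo.specialLinear (Fin 7) F)) ∨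
    (∃ K : Subalgebra F (Matrix (Fin 7) (Fin 7) F), Cfsg.Geo.IsFieldSubalgebra 7 K ∧ Cfsg.Geo.IsAdjointClosedFor (Cfsg.hermForm 7 F q) K ∧ H = Cfsg.Geo.subalgebraNormalizer K ⊓ (Cfsg.GU 7 F q ⊓ Cfsg.Geo.specialLinear (Fin 7) F)) ∨
    (∃ (F₀ : Subfield F) (r : ℕ) (P : Matrix.GeneralLinearGroup (Fin 7) F), r.Prime ∧ Odd r ∧ Fintype.card F = Nat.card F₀ ^ r ∧ Cfsg.Geo.IsFormRationalStructure (Cfsg.hermForm 7 F q) F₀ 1 P ∧ H = Cfsg.Geo.subfieldSubgroup F₀ P ⊓ (Cfsg.GU 7 F q ⊓ Cfsg.Geo.specialLinear (Fin 7) F)) ∨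
    (Odd q ∧ ∃ (F₀ : Subfield F) (P : Matrix.GeneralLinearGroup (Fin 7) F), Fintype.card F = Nat.card F₀ ^ 2 ∧ Cfsg.Geo.IsFormRationalStructure (Cfsg.hermForm 7 F q) F₀ 1 P ∧ H = Cfsg.Geo.subfieldSubgroup F₀ P ⊓ (Cfsg.GU 7 F q ⊓ Cfsg.Geo.specialLinear (Fin 7) F)) ∨
    (∃ (p : ℕ) (R : Subgroup (Matrix.GeneralLinearGroup (Fin 7) F)), p.Prime ∧ CharP F p ∧ ((q = p ∧ p % 7 = 6) ∨ (q = p ^ 3 ∧ (p % 7 = 3 ∨ p % 7 = 5))) ∧ Cfsg.Geo.IsSymplecticTypeGroup 7 R ∧ Cfsg.Geo.ActsAbsolutelyIrreducibly (Cfsg.Geo.matrixSet R) ∧ R ≤ Cfsg.Geo.similarityGroup (Cfsg.hermForm 7 F q) ∧ Nat.card R = 343 ∧ Nat.card (Subgroup.center R) = 7 ∧ H = Cfsg.Geo.subgroupNormalizer R ⊓ (Cfsg.GU 7 F q ⊓ Cfsg.Geo.specialLinear (Fin 7) F)) ∨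
    Cfsg.Geo.InUnitaryResidualClass H := by
  rw [Asch.hermForm_eq_gf hF, Asch.GU_eq hF]
  cases Asch.uM_std hF (by norm_num) hH with
  | ts W h1 h2 h => exact .inl ⟨W, h1, h2, h⟩
  | nd W h1 h2 h3 h => exact .inr (.inl ⟨W, h1, h2, by simpa using h3, h⟩)
  | @dec t m D hD h1 h2 h =>
    have key : ∀ t m : ℕ, 7 = t * m → 2 ≤ t → (t = 7 ∧ m = 1) := by
      intro t m e h; have : t ≤ 7 := Nat.le_of_dvd (by norm_num) ⟨m, e⟩; interval_cases t <;> omega
    obtain ⟨rfl, rfl⟩ := key t m (by simpa using Asch.IsMDecomposition.card_eq hD.1) hD.1.two_le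
    · exact .inr (.inr (.inl ⟨D, hD, h⟩))
  | pair m D hD h2 h3 h => have := Asch.IsMDecomposition.card_eq hD; simp at this; omega
  | fld r K hr ho hK h1 h =>
    have key : ∀ r : ℕ, r.Prime → Odd r → r ∣ 7 → r = 7 := by
      intro r h1 h0 h2; have := Nat.le_of_dvd (by norm_num) h2
      interval_cases r <;> first | omega | exact absurd h1 (by decide) | exact absurd h0 (by decide)
    obtain rfl := key r hr ho (by simpa using Asch.IsFieldSubalgebra.dvd_card hK)
    · exact .inr (.inr (.inr (.inl ⟨K, hK, h1, h⟩)))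
  | ten a b e P f₁ f₂ h1 h2 h3 hf₁ hf₂ hB h =>
    have key : ∀ a b : ℕ, 7 = a * b → 2 ≤ a → a < b → False := by
      intro a b e h h'; have : a ≤ 7 := Nat.le_of_dvd (by norm_num) ⟨b, e⟩; interval_cases a <;> omega
    exact (key a b (Asch.card_of_ten e) h1 h2).elim
  | sub M hM h =>
    obtain ⟨F₀, r, P, hr, h1, rfl, ⟨h2, h3⟩ | ⟨rfl, h2, h3⟩ | ⟨rfl, h2, ζ, h3, h4, h5, h6⟩⟩ := hM
    · exact .inr (.inr (.inr (.inr (.inl ⟨F₀, r, P, hr, h2, h1, h3, h⟩))))
    · exact .inr (.inr (.inr (.inr (.inr (.inl ⟨h2, F₀, P, h1, h3, h⟩)))))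
    · exact absurd h2 (by rw [Fintype.card_fin]; decide)
  | ext R r k hR h =>
    have hm := hR.card
    rw [Fintype.card_fin] at hm
    obtain rfl : r = 7 := Asch.prime_eq_of_pow hR.st.prime (k := 1) (by norm_num) (by norm_num) hm
    obtain rfl : k = 1 := Nat.pow_right_injective (by norm_num : 2 ≤ 7) hm.symm
    obtain ⟨h1, h2, p, d, h3, h4, h5, h6, h7, h8⟩ := hR.odd (Asch.us_frobq hF) (by norm_num)
    have := Nat.mod_lt p (by norm_num : 0 < 7)
    obtain rfl | rfl : d = 1 ∨ d = 3 := by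
      have := Nat.le_of_dvd (by norm_num) h6
      have : d ≤ 3 := by omega
      clear h7 h8 h5
      interval_cases d <;> omega
    · refine .inr (.inr (.inr (.inr (.inr (.inr (.inl ⟨p, R, h3, h4, .inl ⟨by simpa using h5, ?_⟩, hR.st, hR.abs, hR.sim, h1, h2, h⟩))))))
      have k1 := h8 1 (by norm_num) (by norm_num)
      clear h8
      generalize p % 7 = x at *
      interval_cases x <;> simp at h7 k1 ⊢
    · refine .inr (.inr (.inr (.inr (.inr (.inr (.inl ⟨p, R, h3, h4, .inr ⟨h5, ?_⟩, hR.st, hR.abs, hR.sim, h1, h2, h⟩))))))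
      have k1 := h8 1 (by norm_num) (by norm_num)
      have k2 := h8 2 (by norm_num) (by norm_num)
      have k3 := h8 3 (by norm_num) (by norm_num)
      clear h8
      generalize p % 7 = x at *
      interval_cases x <;> simp at h7 k1 k2 k3 ⊢
  | wre m t e P f hm ht h3 hf hB h =>
    have := Asch.wre_cases (Asch.card_of_wre e) (by norm_num) (by omega) ht
    omega
  | res h => exact .inr (.inr (.inr (.inr (.inr (.inr (.inr h))))))

end Cfsg.Agent.S5811
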