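import Cfsg.Statements.S5826
import Cfsg.Agent.Lib.Classical.Asch26

set_option autoImplicit false
open Cfsg

namespace Cfsg.Agent.S5826
open Cfsg.Agent.Classical


/-- Every maximal subgroup of Ω_8^-(q) is of one of the listed geometric types or lies in the residual class. Let F be a finite field with q elements, Q a non-degenerate quadratic form on F^8 of minus type (no totally singular 4-space), Ω the commutator subgroup of its isometry group, and H a maximal subgroup of Ω (inside GL_8(F)). Then H is the intersection with Ω of one of: the stabiliser of a non-zero totally singular subspace; for q odd, the stabiliser of a non-degenerate subspace of odd dimension; the stabiliser of a non-degenerate 2-space of minus type; for q ≥ 4, the stabiliser of a non-degenerate 2-space of plus type; the stabiliser of a non-degenerate 4-space; for q even, the stabiliser of the span of a non-singular vector; the normaliser of a degree-2 subfield of the matrix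 algebra; a subfield group of odd prime index whose F₀-structure carries a non-zero multiple of Q — or else H lies in the residual class of the orthogonal case (modulo scalars H is almost simple, with absolutely irreducible perfect socle preimage realisable over no proper subfield and fixing no non-degenerate unitary form). -/
theorem result {F : Type*} [Field F] [Fintype F] (Q : (Fin 8 → F) → F) (hQ : Cfsg.Geo.IsNondegenerateQuadraticForm Q) (hminus : ¬ Cfsg.Geo.IsPlusTypeOn Q ⊤) (H : Subgroup (Matrix.GeneralLinearGroup (Fin 8) F)) (hH : Cfsg.Geo.IsMaximalIn (Cfsg.Geo.omegaGL Q) H) :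
    (∃ W : Submodule F (Fin 8 → F), W ≠ ⊥ ∧ Cfsg.Geo.IsTotallySingularQuad Q W ∧ H = Cfsg.Geo.subspaceStabilizer W ⊓ Cfsg.Geo.omegaGL Q) ∨
    (Odd (Fintype.card F) ∧ ∃ W : Submodule F (Fin 8 → F), W ≠ ⊥ ∧ W ≠ ⊤ ∧ Odd (Module.finrank F W) ∧ Cfsg.Geo.IsNondegenerateOn (QuadraticMap.polar Q) W ∧ H = Cfsg.Geo.subspaceStabilizer W ⊓ Cfsg.Geo.omegaGL Q) ∨
    (∃ W : Submodule F (Fin 8 → F), Module.finrank F W = 2 ∧ Cfsg.Geo.IsNondegenerateOn (QuadraticMap.polar Q) W ∧ ¬ Cfsg.Geo.IsPlusTypeOn Q W ∧ H = Cfsg.Geo.subspaceStabilizer W ⊓ Cfsg.Geo.omegaGL Q) ∨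
    (4 ≤ Fintype.card F ∧ ∃ W : Submodule F (Fin 8 → F), Module.finrank F W = 2 ∧ Cfsg.Geo.IsNondegenerateOn (QuadraticMap.polar Q) W ∧ Cfsg.Geo.IsPlusTypeOn Q W ∧ H = Cfsg.Geo.subspaceStabilizer W ⊓ Cfsg.Geo.omegaGL Q) ∨
    (∃ W : Submodule F (Fin 8 → F), Module.finrank F W = 4 ∧ Cfsg.Geo.IsNondegenerateOn (QuadraticMap.polar Q) W ∧ H = Cfsg.Geo.subspaceStabilizer W ⊓ Cfsg.Geo.omegaGL Q) ∨
    (¬ Odd (Fintype.card F) ∧ ∃ v : (Fin 8 → F), Q v ≠ 0 ∧ H = Cfsg.Geo.subspaceStabilizer (Submodule.span F {v}) ⊓ Cfsg.Geo.omegaGL Q) ∨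
    (∃ K : Subalgebra F (Matrix (Fin 8) (Fin 8) F), Cfsg.Geo.IsFieldSubalgebra 2 K ∧ H = Cfsg.Geo.subalgebraNormalizer K ⊓ Cfsg.Geo.omegaGL Q) ∨
    (∃ (F₀ : Subfield F) (r : ℕ) (P : Matrix.GeneralLinearGroup (Fin 8) F) (ζ : F), r.Prime ∧ Odd r ∧ Fintype.card F = Nat.card F₀ ^ r ∧ ζ ≠ 0 ∧ Cfsg.Geo.IsQuadFormRationalStructure (fun v : Fin 8 → F => ζ * Q v) F₀ P ∧ H = Cfsg.Geo.subfieldSubgroup F₀ P ⊓ Cfsg.Geo.omegaGL Q) ∨
    Cfsg.Geo.InOrthogonalResidualClass H := by
  obtain ⟨B, hB⟩ := Asch.IsNondegenerateQuadraticForm.exists hQ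
  have hc : Fintype.card (Fin 8) = 8 := by simp
  cases Asch.oM hB (by omega) hH with
  | ts W h1 h2 h3 h => exact .inl ⟨W, h1, h2, h⟩
  | nsv v he h1 h => exact .inr (.inr (.inr (.inr (.inr (.inl ⟨he, v, h1, h⟩)))))
  | nd W h1 h1' h2 h3 h4 h5 h6 h =>
    rcases (Module.finrank F W).even_or_odd with he | ho
    swap
    · exact .inr (.inl ⟨h6 ho, W, h1, h1', ho, h2, h⟩)
    have := Submodule.finrank_eq_zero.not.2 h1
    obtain e | e : Module.finrank F W = 2 ∨ Module.finrank F W = 4 := by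
      obtain ⟨k, hk⟩ := he; omega
    · by_cases hp : Cfsg.Geo.IsPlusTypeOn Q W
      · exact .inr (.inr (.inr (.inl ⟨h5 e hp, W, e, h2, hp, h⟩)))
      · exact .inr (.inr (.inl ⟨W, e, h2, hp, h⟩))
    · exact .inr (.inr (.inr (.inr (.inl ⟨W, e, h2, h⟩))))
  | half m D h1 hD h2 ho h3 h =>
    have := Asch.IsMDecomposition.card_eq hD.1
    obtain ⟨k, hk⟩ := h1; omega
  | @dec t m D hD h1 h2 h3 h4 h5 h6 h7 h8 h =>
    have key : ∀ t m : ℕ, 8 = t * m → 2 ≤ t → (t = 8 ∧ m = 1) ∨ (t = 4 ∧ m = 2) ∨ (t = 2 ∧ m = 4) := by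
      intro t m e h; have : t ≤ 8 := Nat.le_of_dvd (by norm_num) ⟨m, e⟩; interval_cases t <;> omega
    obtain ⟨rfl, rfl⟩ | ⟨rfl, rfl⟩ | ⟨rfl, rfl⟩ := key t m (hc ▸ Asch.IsMDecomposition.card_eq hD.1.1) hD.1.1.two_le
    · exact absurd ((h8 (by decide) 4 hc).2 (.inl (by decide))) hminus
    · exact absurd ((h7 (by decide)).2 (.inr (by decide))) hminus
    · exact absurd ((h7 (by decide)).2 (.inr (by decide))) hminus
  | pair m D h1 hD h2 h3 h =>
    have := Asch.IsMDecomposition.card_eq hD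
    exact absurd h3 hminus
  | fld r K hr hK h1 h2 h2' h3 h4 h =>
    have key : ∀ r : ℕ, r.Prime → r ∣ 8 → r = 2 := by
      intro r h1 h2; have := Nat.le_of_dvd (by norm_num) h2
      interval_cases r <;> first | omega | exact absurd h1 (by decide)
    obtain rfl := key r hr (hc ▸ h4)
    · exact .inr (.inr (.inr (.inr (.inr (.inr (.inl ⟨K, hK, h⟩))))))
  | ufld K hK h1 h2 h3 h4 h =>
    exact .inr (.inr (.inr (.inr (.inr (.inr (.inl ⟨K, hK, h⟩))))))
  | tenS a b e P f₁ f₂ h1 h2 h3 h4 hf₁ hf₂ hT h5 h =>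
    have k : 8 = a * b := by simpa using Fintype.card_congr e
    have key : ∀ a b : ℕ, 8 = a * b → a ≤ b → Even a → Even b → (a = 2 ∧ b = 4) := by
      rintro a _ e h ⟨k, hk⟩ ⟨l, rfl⟩; have : a ≤ 8 := Nat.le_of_dvd (by norm_num) ⟨_, e⟩
      interval_cases a <;> omega
    obtain ⟨rfl, rfl⟩ := key a b k h1 h3 h4
    exact absurd (h2 rfl).2 hminus
  | tenO a b e P f₁ f₂ ho h1 h2 h3 h4 h5 hf₁ hf₂ hT h =>
    have key : ∀ a b : ℕ, 8 = a * b → 3 ≤ a → a ≤ b → False := by
      intro a b e h h'; have : a ≤ 8 := Nat.le_of_dvd (by norm_num) ⟨_, e⟩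
      interval_cases a <;> omega
    exact (key a b (by simpa using Fintype.card_congr e) h1 h2).elim
  | sub F₀ r P ζ hr hF h1 h2 h3 h =>
    exact .inr (.inr (.inr (.inr (.inr (.inr (.inr (.inl ⟨F₀, r, P, ζ, hr, h3 (by rw [hc]; decide) hminus, hF, h1, h2, h⟩)))))))
  | evp k t h1 h2 h3 h4 =>
    have := Asch.wre_cases (hc.symm.trans h1) (by norm_num) (by
      obtain ⟨_ | l, rfl⟩ := h3
      · rw [add_zero, zero_pow (by omega)] at h1; omega
      · omega) h2
    exact absurd (h4 (by omega)) hminus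
  | wre k t e P f ho h1 h2 h3 hf hT h =>
    have := Asch.wre_cases (n := 8) (by simpa using Fintype.card_congr e) (by norm_num) (by omega) h2
    omega
  | res h => exact .inr (.inr (.inr (.inr (.inr (.inr (.inr (.inr h)))))))

end Cfsg.Agent.S5826
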