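import Cfsg.Statements.S5844
import Cfsg.Agent.Lib.Classical.Asch18

set_option autoImplicit false
open Cfsg

namespace Cfsg.Agent.S5844
open Cfsg.Agent.Classical


/-- Every maximal subgroup of Sp_10(q) is of one of the listed geometric types or lies in the residual class. Let F be a finite field with q elements (characteristic p), f the standard alternating form on F^10 (coordinates Fin 5 ⊕ Fin 5), and H a maximal subgroup of Sp_10(F) (inside GL_10(F)). Then H is the intersection with Sp_10(F) of one of: the stabiliser of a non-zero totally isotropic subspace; the stabiliser of a non-zero non-degenerate subspace of dimension less than 5; for q ≥ 3, the stabiliser of a decomposition into 5 mutually orthogonal non-degenerate 2-spaces; for q odd, of a decomposition into two totally isotropic 5-spaces; the normaliser of a degree-5 subfield K of the matrix algebra, self-adjoint with f(k v, v) = 0; for q odd, the normaliser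 of a degree-2 subfield closed under adjoints but not self-adjoint; for q odd, the stabiliser of a tensor decomposition of f into an alternating form on F^2 and a symmetric form on F^5; a subfield group (|F| = |F₀|^r, r prime) whose F₀-structure carries a non-zero multiple of f; for q even, the similarity group of a non-degenerate quadratic form polarising to f — or else H lies in the residual class of the symplectic case (modulo scalars H is almost simple, with absolutely irreducible perfect socle preimage realisable over no proper subfield and fixing no non-degenerate quadratic or unitary form). -/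
theorem result {F : Type*} [Field F] [Fintype F] (H : Subgroup (Matrix.GeneralLinearGroup (Fin 5 ⊕ Fin 5) F)) (hH : Cfsg.Geo.IsMaximalIn (Cfsg.spGL 5 F) H) :
    (∃ W : Submodule F (Fin 5 ⊕ Fin 5 → F), W ≠ ⊥ ∧ Cfsg.Geo.IsTotallySingularFor (Cfsg.sympForm 5 F) W ∧ H = Cfsg.Geo.subspaceStabilizer W ⊓ Cfsg.spGL 5 F) ∨
    (∃ W : Submodule F (Fin 5 ⊕ Fin 5 → F), W ≠ ⊥ ∧ Cfsg.Geo.IsNondegenerateOn (Cfsg.sympForm 5 F) W ∧ Module.finrank F W < 5 ∧ H = Cfsg.Geo.subspaceStabilizer W ⊓ Cfsg.spGL 5 F) ∨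
    (3 ≤ Fintype.card F ∧ ∃ D : Fin 5 → Submodule F (Fin 5 ⊕ Fin 5 → F), Cfsg.Geo.IsNondegenerateMDecomposition (Cfsg.sympForm 5 F) 2 D ∧ H = Cfsg.Geo.decompositionStabilizer D ⊓ Cfsg.spGL 5 F) ∨
    (Odd (Fintype.card F) ∧ ∃ D : Fin 2 → Submodule F (Fin 5 ⊕ Fin 5 → F), Cfsg.Geo.IsMDecomposition 5 D ∧ (∀ i, Cfsg.Geo.IsTotallySingularFor (Cfsg.sympForm 5 F) (D i)) ∧ H = Cfsg.Geo.decompositionStabilizer D ⊓ Cfsg.spGL 5 F) ∨
    (∃ K : Subalgebra F (Matrix (Fin 5 ⊕ Fin 5) (Fin 5 ⊕ Fin 5) F), Cfsg.Geo.IsFieldSubalgebra 5 K ∧ Cfsg.Geo.IsSelfAdjointFor (Cfsg.sympForm 5 F) K ∧ (∀ k ∈ K, ∀ v : (Fin 5 ⊕ Fin 5 → F), (Cfsg.sympForm 5 F) (Matrix.mulVec k v) v = 0) ∧ H = Cfsg.Geo.subalgebraNormalizer K ⊓ Cfsg.spGL 5 F) ∨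
    (Odd (Fintype.card F) ∧ ∃ K : Subalgebra F (Matrix (Fin 5 ⊕ Fin 5) (Fin 5 ⊕ Fin 5) F), Cfsg.Geo.IsFieldSubalgebra 2 K ∧ Cfsg.Geo.IsAdjointClosedFor (Cfsg.sympForm 5 F) K ∧ ¬ Cfsg.Geo.IsSelfAdjointFor (Cfsg.sympForm 5 F) K ∧ H = Cfsg.Geo.subalgebraNormalizer K ⊓ Cfsg.spGL 5 F) ∨
    (Odd (Fintype.card F) ∧ ∃ (e : (Fin 5 ⊕ Fin 5) ≃ Fin 2 × Fin 5) (P : Matrix.GeneralLinearGroup (Fin 5 ⊕ Fin 5) F) (f₁ : (Fin 2 → F) → (Fin 2 → F) → F) (f₂ : (Fin 5 → F) → (Fin 5 → F) → F), Cfsg.Geo.IsSymplecticForm f₁ ∧ Cfsg.Geo.IsSymmetricForm f₂ ∧ Cfsg.Geo.IsTensorFormStructure id (Cfsg.sympForm 5 F) f₁ f₂ e P ∧ H = Cfsg.Geo.tensorProductSubgroup 2 5 e P ⊓ Cfsg.spGL 5 F) ∨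
    (∃ (F₀ : Subfield F) (r : ℕ) (P : Matrix.GeneralLinearGroup (Fin 5 ⊕ Fin 5) F) (ζ : F), r.Prime ∧ Fintype.card F = Nat.card F₀ ^ r ∧ ζ ≠ 0 ∧ Cfsg.Geo.IsFormRationalStructure (Cfsg.sympForm 5 F) F₀ ζ P ∧ H = Cfsg.Geo.subfieldSubgroup F₀ P ⊓ Cfsg.spGL 5 F) ∨
    (¬ Odd (Fintype.card F) ∧ ∃ Q : (Fin 5 ⊕ Fin 5 → F) → F, Cfsg.Geo.IsNondegenerateQuadraticForm Q ∧ (∀ u v : (Fin 5 ⊕ Fin 5 → F), QuadraticMap.polar Q u v = (Cfsg.sympForm 5 F) u v) ∧ H = Cfsg.Geo.quadSimilarityGroup Q ⊓ Cfsg.spGL 5 F) ∨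
    Cfsg.Geo.InSymplecticResidualClass H := by
  cases Asch.spM (Asch.alt_JG 5) (.inl (by simp)) hH with
  | ts W h1 h2 h => exact .inl ⟨W, h1, h2, h⟩
  | nd W h1 h2 h3 h4 h => exact .inr (.inl ⟨W, h1, h2, by simp at h3; omega, h⟩)
  | @dec t m D hD h1 h2 h =>
    have key : ∀ t m : ℕ, 10 = t * m → 2 ≤ t → Even m → (t = 5 ∧ m = 2) := by
      rintro t _ e h ⟨k, rfl⟩; have : t ≤ 10 := Nat.le_of_dvd (by norm_num) ⟨_, e⟩; interval_cases t <;> omega
    obtain ⟨rfl, rfl⟩ := key t m (by simpa using Asch.IsMDecomposition.card_eq hD.1) hD.1.two_le h1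
    · exact .inr (.inr (.inl ⟨h2 rfl, D, hD, h⟩))
  | pair m D ho hD h2 h3 h =>
    obtain rfl : m = 5 := by have := Asch.IsMDecomposition.card_eq hD; simp at this; omega
    exact .inr (.inr (.inr (.inl ⟨ho, D, hD, h2, h⟩)))
  | fld r K hr hK h1 h2 h3 h =>
    have key : ∀ r : ℕ, r.Prime → 2 * r ∣ 10 → r = 5 := by
      intro r h1 h2; have := Nat.le_of_dvd (by norm_num) h2; have : r ≤ 5 := by omega
      interval_cases r <;> first | omega | exact absurd h1 (by decide)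
    obtain rfl := key r hr (by simpa using h3)
    · exact .inr (.inr (.inr (.inr (.inl ⟨K, hK, h1, h2, h⟩))))
  | ufld K ho hK h1 h2 h3 h => exact .inr (.inr (.inr (.inr (.inr (.inl ⟨ho, K, hK, h1, h2, h⟩)))))
  | ten a b e P f₁ f₂ ho h0 h1 h2 h3 hf₁ hf₂ hB h =>
    have key : ∀ a b : ℕ, 10 = a * b → Even a → 3 ≤ b → (a = 2 ∧ b = 5) := by
      rintro _ b e ⟨k, rfl⟩ h'; have : b ≤ 10 := Nat.le_of_dvd (by norm_num) ⟨_, e.trans (mul_comm _ _)⟩
      interval_cases b <;> omega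
    obtain ⟨rfl, rfl⟩ := key a b (by simpa using Fintype.card_congr e) h0 h1
    · exact .inr (.inr (.inr (.inr (.inr (.inr (.inl ⟨ho, e, P, f₁, f₂, hf₁, hf₂, hB, h⟩))))))
  | sub F₀ r P ζ hr hF h1 h2 h => exact .inr (.inr (.inr (.inr (.inr (.inr (.inr (.inl ⟨F₀, r, P, ζ, hr, hF, h1, h2, h⟩)))))))
  | ext R k hR hR' h1 hp ho hk h2 h3 h4 h =>
    exact absurd (show 10 = 2 ^ k by simpa using hk) (Asch.not_pow_of_two_primes Nat.prime_two (p := 2) (q := 5) (by norm_num)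
      (by norm_num) (by norm_num) (by norm_num) (by norm_num))
  | wre k t e P f ho h2 h3 h4 hf hB h =>
    have := Asch.wre_cases (n := 10) (by simpa using Fintype.card_congr e) (by norm_num) h4 (by omega)
    omega
  | quad Q he hQ hQ' h => exact .inr (.inr (.inr (.inr (.inr (.inr (.inr (.inr (.inl ⟨he, Q, hQ, hQ', h⟩))))))))
  | res h => exact .inr (.inr (.inr (.inr (.inr (.inr (.inr (.inr (.inr h))))))))

end Cfsg.Agent.S5844
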