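import Cfsg.Statements.S5847
import Cfsg.Agent.Lib.Classical.Asch26

set_option autoImplicit false
open Cfsg

namespace Cfsg.Agent.S5847
open Cfsg.Agent.Classical


/-- Every maximal subgroup of Ω_10^+(q) is of one of the listed geometric types or lies in the residual class. Let F be a finite field with q elements (characteristic p), Q a non-degenerate quadratic form on F^10 of plus type (Witt index 5: some totally singular 5-space), Ω the commutator subgroup of its isometry group, and H a maximal subgroup of Ω (inside GL_10(F)). Then H is the intersection with Ω of one of: the stabiliser of a non-zero totally singular subspace of dimension ≠ 4; for q odd, the stabiliser of a non-degenerate subspace of odd dimension ≠ 5; the stabiliser of a non-degenerate 2-space of minus type; for q ≥ 4, the stabiliser of a non-degenerate 2-space of plus type; the stabiliser of a non-degenerate 4-space; for q even, the stabiliser of the span of a non-singular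 vector; for q = p prime with p ≡ 1 mod 4, the stabiliser of a decomposition into 10 pairwise orthogonal, pairwise isometric non-degenerate 1-spaces; for q ≥ 7, the stabiliser of a decomposition into 5 pairwise orthogonal, pairwise isometric non-degenerate 2-spaces; for q ≡ 1 mod 4, the stabiliser of a decomposition into 2 pairwise orthogonal, pairwise isometric non-degenerate 5-spaces; for q ≡ 3 mod 4, the stabiliser of a decomposition into two orthogonal, non-isometric non-degenerate 5-spaces; for q odd, the normaliser of a degree-2 subfield of the matrix algebra, self-adjoint for the polar form; a subfield group (|F| = |F₀|^r, r prime) whose F₀-structure carries a non-zero multiple of Q — or else H lies in the residual class of the orthogonal case (modulo scalars H is almost simple, with absolutely irreducible perfect socle preimage realisable over no proper subfield and fixing no non-degenerate unitary form). -/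
theorem result {F : Type*} [Field F] [Fintype F] (Q : (Fin 10 → F) → F) (hQ : Cfsg.Geo.IsNondegenerateQuadraticForm Q) (hplus : Cfsg.Geo.IsPlusTypeOn Q ⊤) (H : Subgroup (Matrix.GeneralLinearGroup (Fin 10) F)) (hH : Cfsg.Geo.IsMaximalIn (Cfsg.Geo.omegaGL Q) H) :
    (∃ W : Submodule F (Fin 10 → F), W ≠ ⊥ ∧ Cfsg.Geo.IsTotallySingularQuad Q W ∧ Module.finrank F W ≠ 4 ∧ H = Cfsg.Geo.subspaceStabilizer W ⊓ Cfsg.Geo.omegaGL Q) ∨
    (Odd (Fintype.card F) ∧ ∃ W : Submodule F (Fin 10 → F), W ≠ ⊥ ∧ W ≠ ⊤ ∧ Odd (Module.finrank F W) ∧ 2 * Module.finrank F W ≠ 10 ∧ Cfsg.Geo.IsNondegenerateOn (QuadraticMap.polar Q) W ∧ H = Cfsg.Geo.subspaceStabilizer W ⊓ Cfsg.Geo.omegaGL Q) ∨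
    (∃ W : Submodule F (Fin 10 → F), Module.finrank F W = 2 ∧ Cfsg.Geo.IsNondegenerateOn (QuadraticMap.polar Q) W ∧ ¬ Cfsg.Geo.IsPlusTypeOn Q W ∧ H = Cfsg.Geo.subspaceStabilizer W ⊓ Cfsg.Geo.omegaGL Q) ∨
    (4 ≤ Fintype.card F ∧ ∃ W : Submodule F (Fin 10 → F), Module.finrank F W = 2 ∧ Cfsg.Geo.IsNondegenerateOn (QuadraticMap.polar Q) W ∧ Cfsg.Geo.IsPlusTypeOn Q W ∧ H = Cfsg.Geo.subspaceStabilizer W ⊓ Cfsg.Geo.omegaGL Q) ∨
    (∃ W : Submodule F (Fin 10 → F), Module.finrank F W = 4 ∧ Cfsg.Geo.IsNondegenerateOn (QuadraticMap.polar Q) W ∧ H = Cfsg.Geo.subspaceStabilizer W ⊓ Cfsg.Geo.omegaGL Q) ∨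
    (¬ Odd (Fintype.card F) ∧ ∃ v : (Fin 10 → F), Q v ≠ 0 ∧ H = Cfsg.Geo.subspaceStabilizer (Submodule.span F {v}) ⊓ Cfsg.Geo.omegaGL Q) ∨
    ((∃ p : ℕ, p.Prime ∧ Fintype.card F = p ∧ (p % 4 = 1)) ∧ ∃ D : Fin 10 → Submodule F (Fin 10 → F), Cfsg.Geo.IsOrthogonalMDecomposition Q 1 D ∧ H = Cfsg.Geo.decompositionStabilizer D ⊓ Cfsg.Geo.omegaGL Q) ∨
    (7 ≤ Fintype.card F ∧ ∃ D : Fin 5 → Submodule F (Fin 10 → F), Cfsg.Geo.IsOrthogonalMDecomposition Q 2 D ∧ H = Cfsg.Geo.decompositionStabilizer D ⊓ Cfsg.Geo.omegaGL Q) ∨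
    (Fintype.card F % 4 = 1 ∧ ∃ D : Fin 2 → Submodule F (Fin 10 → F), Cfsg.Geo.IsOrthogonalMDecomposition Q 5 D ∧ H = Cfsg.Geo.decompositionStabilizer D ⊓ Cfsg.Geo.omegaGL Q) ∨
    (Fintype.card F % 4 = 3 ∧ ∃ D : Fin 2 → Submodule F (Fin 10 → F), Cfsg.Geo.IsNondegenerateMDecomposition (QuadraticMap.polar Q) 5 D ∧ ¬ Cfsg.Geo.AreIsometricFor Q (D 0) (D 1) ∧ H = Cfsg.Geo.decompositionStabilizer D ⊓ Cfsg.Geo.omegaGL Q) ∨
    (Odd (Fintype.card F) ∧ ∃ K : Subalgebra F (Matrix (Fin 10) (Fin 10) F), Cfsg.Geo.IsFieldSubalgebra 2 K ∧ Cfsg.Geo.IsSelfAdjointFor (QuadraticMap.polar Q) K ∧ H = Cfsg.Geo.subalgebraNormalizer K ⊓ Cfsg.Geo.omegaGL Q) ∨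
    (∃ (F₀ : Subfield F) (r : ℕ) (P : Matrix.GeneralLinearGroup (Fin 10) F) (ζ : F), r.Prime ∧ Fintype.card F = Nat.card F₀ ^ r ∧ ζ ≠ 0 ∧ Cfsg.Geo.IsQuadFormRationalStructure (fun v : Fin 10 → F => ζ * Q v) F₀ P ∧ H = Cfsg.Geo.subfieldSubgroup F₀ P ⊓ Cfsg.Geo.omegaGL Q) ∨
    Cfsg.Geo.InOrthogonalResidualClass H := by
  obtain ⟨B, hB⟩ := Asch.IsNondegenerateQuadraticForm.exists hQ
  have hc : Fintype.card (Fin 10) = 10 := by simp
  cases Asch.oM hB (by omega) hH with
  | ts W h1 h2 h3 h => exact .inl ⟨W, h1, h2, by have := h3 hplus; omega, h⟩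
  | nsv v he h1 h => exact .inr (.inr (.inr (.inr (.inr (.inl ⟨he, v, h1, h⟩)))))
  | nd W h1 h1' h2 h3 h4 h5 h6 h =>
    rcases (Module.finrank F W).even_or_odd with he | ho
    swap
    · exact .inr (.inl ⟨h6 ho, W, h1, h1', ho, fun e => Nat.not_even_iff_odd.2 ho (h4 (e.trans hc.symm)).1, h2, h⟩)
    have := Submodule.finrank_eq_zero.not.2 h1
    obtain e | e : Module.finrank F W = 2 ∨ Module.finrank F W = 4 := by
      obtain ⟨k, hk⟩ := he; omega
    · by_cases hp : Cfsg.Geo.IsPlusTypeOn Q W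
      · exact .inr (.inr (.inr (.inl ⟨h5 e hp, W, e, h2, hp, h⟩)))
      · exact .inr (.inr (.inl ⟨W, e, h2, hp, h⟩))
    · exact .inr (.inr (.inr (.inr (.inl ⟨W, e, h2, h⟩))))
  | half m D h1 hD h2 ho h3 h =>
    have := Asch.IsMDecomposition.card_eq hD.1
    obtain rfl : m = 5 := by omega
    exact .inr (.inr (.inr (.inr (.inr (.inr (.inr (.inr (.inr (.inl ⟨h3.1 hplus, D, hD, h2, h⟩)))))))))
  | @dec t m D hD h1 h2 h3 h4 h5 h6 h7 h8 h =>
    have key : ∀ t m : ℕ, 10 = t * m → 2 ≤ t → (t = 10 ∧ m = 1) ∨ (t = 5 ∧ m = 2) ∨ (t = 2 ∧ m = 5) := by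
      intro t m e h; have : t ≤ 10 := Nat.le_of_dvd (by norm_num) ⟨m, e⟩; interval_cases t <;> omega
    obtain ⟨rfl, rfl⟩ | ⟨rfl, rfl⟩ | ⟨rfl, rfl⟩ := key t m (hc ▸ Asch.IsMDecomposition.card_eq hD.1.1) hD.1.1.two_le
    · have k : Fintype.card F % 4 = 1 := by
        have := h8 (by decide) 5 hc
        obtain ⟨k, hk⟩ := h5 (by decide)
        simp only [hplus, show ¬ Even 5 by decide, false_or, true_iff] at this; omega
      exact .inr (.inr (.inr (.inr (.inr (.inr (.inl ⟨⟨_, h1 rfl, rfl, k⟩, D, hD, h⟩))))))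
    · exact .inr (.inr (.inr (.inr (.inr (.inr (.inr (.inl ⟨(h2 rfl).2 (((h7 (by decide)).1 hplus).resolve_right (by decide)), D, hD, h⟩)))))))
    · have k : Fintype.card F % 4 = 1 := by
        have := h8 (by decide) 5 hc
        obtain ⟨k, hk⟩ := h5 (by decide)
        simp only [hplus, show ¬ Even 5 by decide, false_or, true_iff] at this; omega
      exact .inr (.inr (.inr (.inr (.inr (.inr (.inr (.inr (.inl ⟨k, D, hD, h⟩))))))))
  | pair m D h1 hD h2 h3 h =>
    have := Asch.IsMDecomposition.card_eq hD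
    obtain ⟨k, hk⟩ := h1; omega
  | fld r K hr hK h1 h2 h2' h3 h4 h =>
    have key : ∀ r : ℕ, r.Prime → r ∣ 10 → r = 2 ∨ r = 5 := by
      intro r h1 h2; have := Nat.le_of_dvd (by norm_num) h2
      interval_cases r <;> first | omega | exact absurd h1 (by decide)
    obtain rfl | rfl := key r hr (hc ▸ h4)
    · exact .inr (.inr (.inr (.inr (.inr (.inr (.inr (.inr (.inr (.inr (.inl ⟨by by_contra e; have := h3 e; omega, K, hK, h1, h⟩))))))))))
    · omega
  | ufld K hK h1 h2 h3 h4 h =>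
    obtain ⟨m, h4, h5⟩ := h4
    obtain ⟨k, hk⟩ := h5.1 hplus; omega
  | tenS a b e P f₁ f₂ h1 h2 h3 h4 hf₁ hf₂ hT h5 h =>
    have k : 10 = a * b := by simpa using Fintype.card_congr e
    have key : ∀ a b : ℕ, 10 = a * b → a ≤ b → Even a → Even b → False := by
      rintro a _ e h ⟨k, hk⟩ ⟨l, rfl⟩; have : a ≤ 10 := Nat.le_of_dvd (by norm_num) ⟨_, e⟩
      interval_cases a <;> omega
    exact (key a b k h1 h3 h4).elim
  | tenO a b e P f₁ f₂ ho h1 h2 h3 h4 h5 hf₁ hf₂ hT h =>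
    have key : ∀ a b : ℕ, 10 = a * b → 3 ≤ a → a ≤ b → False := by
      intro a b e h h'; have : a ≤ 10 := Nat.le_of_dvd (by norm_num) ⟨_, e⟩
      interval_cases a <;> omega
    exact (key a b (by simpa using Fintype.card_congr e) h1 h2).elim
  | sub F₀ r P ζ hr hF h1 h2 h3 h =>
    exact .inr (.inr (.inr (.inr (.inr (.inr (.inr (.inr (.inr (.inr (.inr (.inl ⟨F₀, r, P, ζ, hr, hF, h1, h2, h⟩)))))))))))
  | evp k t h1 h2 h3 h4 =>
    have := Asch.wre_cases (hc.symm.trans h1) (by norm_num) (by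
      obtain ⟨_ | l, rfl⟩ := h3
      · rw [add_zero, zero_pow (by omega)] at h1; omega
      · omega) h2
    obtain ⟨l, rfl⟩ := h3; omega
  | wre k t e P f ho h1 h2 h3 hf hT h =>
    have := Asch.wre_cases (n := 10) (by simpa using Fintype.card_congr e) (by norm_num) (by omega) h2
    omega
  | res h => exact .inr (.inr (.inr (.inr (.inr (.inr (.inr (.inr (.inr (.inr (.inr (.inr h)))))))))))

end Cfsg.Agent.S5847
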