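import Cfsg.Statements.S5859
import Cfsg.Agent.Lib.Classical.Asch26

set_option autoImplicit false
open Cfsg

namespace Cfsg.Agent.S5859
open Cfsg.Agent.Classical


/-- Every maximal subgroup of Ω_11(q), q odd, is of one of the listed geometric types or lies in the residual class. Let F be a finite field of odd order q, Q the standard quadratic form x₀² + Σ x_i y_i on F^11 (coordinates Unit ⊕ (Fin 5 ⊕ Fin 5)), Ω the commutator subgroup of its isometry group, and H a maximal subgroup of Ω (inside GL_11(F)). Then H is the intersection with Ω of one of: the stabiliser of a non-zero totally singular subspace; the stabiliser of a non-zero non-degenerate subspace of even dimension (not a plus-type plane when q = 3); for q prime, the stabiliser of a decomposition into eleven pairwise orthogonal, pairwise isometric non-degenerate 1-spaces; a subfield group (|F| = |F₀|^r, r prime) whose F₀-structure carries Q — or else H lies in the residual class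 of the orthogonal case (modulo scalars H is almost simple, with absolutely irreducible perfect socle preimage realisable over no proper subfield and fixing no non-degenerate unitary form). -/
theorem result {F : Type*} [Field F] [Fintype F] (hodd : Odd (Fintype.card F)) (H : Subgroup (Matrix.GeneralLinearGroup (Unit ⊕ (Fin 5 ⊕ Fin 5)) F)) (hH : Cfsg.Geo.IsMaximalIn (Cfsg.Geo.omegaGL (Cfsg.quadFormOdd 5 F)) H) :
    (∃ W : Submodule F (Unit ⊕ (Fin 5 ⊕ Fin 5) → F), W ≠ ⊥ ∧ Cfsg.Geo.IsTotallySingularQuad (Cfsg.quadFormOdd 5 F) W ∧ H = Cfsg.Geo.subspaceStabilizer W ⊓ Cfsg.Geo.omegaGL (Cfsg.quadFormOdd 5 F)) ∨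
    (∃ W : Submodule F (Unit ⊕ (Fin 5 ⊕ Fin 5) → F), W ≠ ⊥ ∧ Even (Module.finrank F W) ∧ Cfsg.Geo.IsNondegenerateOn (QuadraticMap.polar (Cfsg.quadFormOdd 5 F)) W ∧ ¬ (Fintype.card F = 3 ∧ Module.finrank F W = 2 ∧ Cfsg.Geo.IsPlusTypeOn (Cfsg.quadFormOdd 5 F) W) ∧ H = Cfsg.Geo.subspaceStabilizer W ⊓ Cfsg.Geo.omegaGL (Cfsg.quadFormOdd 5 F)) ∨
    ((Fintype.card F).Prime ∧ ∃ D : Fin 11 → Submodule F (Unit ⊕ (Fin 5 ⊕ Fin 5) → F), Cfsg.Geo.IsOrthogonalMDecomposition (Cfsg.quadFormOdd 5 F) 1 D ∧ H = Cfsg.Geo.decompositionStabilizer D ⊓ Cfsg.Geo.omegaGL (Cfsg.quadFormOdd 5 F)) ∨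
    (∃ (F₀ : Subfield F) (r : ℕ) (P : Matrix.GeneralLinearGroup (Unit ⊕ (Fin 5 ⊕ Fin 5)) F), r.Prime ∧ Fintype.card F = Nat.card F₀ ^ r ∧ Cfsg.Geo.IsQuadFormRationalStructure (Cfsg.quadFormOdd 5 F) F₀ P ∧ H = Cfsg.Geo.subfieldSubgroup F₀ P ⊓ Cfsg.Geo.omegaGL (Cfsg.quadFormOdd 5 F)) ∨
    Cfsg.Geo.InOrthogonalResidualClass H := by
  obtain ⟨B, hB, hd⟩ := Asch.exists_qf_odd (Asch.two_ne_zero_iff_odd.2 hodd) 5
  have hc : Fintype.card (Unit ⊕ (Fin 5 ⊕ Fin 5)) = 11 := by simp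
  cases Asch.oM hB (by omega) hH with
  | ts W h1 h2 h3 h => exact .inl ⟨W, h1, h2, h⟩
  | nsv v he h1 h => exact absurd hodd he
  | nd W h1 _ h2 h3 _ h5 _ h =>
    obtain ⟨W', k1, k2, k3, k4, k5⟩ := Asch.nd_even hB (by rw [hc]; decide) (by omega) h1 h2 h3
    exact .inr (.inl ⟨W', k1, k2, k3, fun ⟨a, b, c⟩ => by obtain rfl := k4 b; have := h5 b c; omega, h.trans k5⟩)
  | half m D h1 hD h2 ho h3 h =>
    have := Asch.IsMDecomposition.card_eq hD.1
    obtain ⟨k, hk⟩ := h1; omega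
  | @dec t m D hD h1 h2 h3 h4 h5 h6 h7 h8 h =>
    have key : ∀ t m : ℕ, 11 = t * m → 2 ≤ t → (t = 11 ∧ m = 1) := by
      intro t m e h; have : t ≤ 11 := Nat.le_of_dvd (by norm_num) ⟨m, e⟩; interval_cases t <;> omega
    obtain ⟨rfl, rfl⟩ := key t m (hc ▸ Asch.IsMDecomposition.card_eq hD.1.1) hD.1.1.two_le
    · exact .inr (.inr (.inl ⟨h1 rfl, D, hD, h⟩))
  | pair m D h1 hD h2 h3 h =>
    have := Asch.IsMDecomposition.card_eq hD
    obtain ⟨k, hk⟩ := h1; omega
  | fld r K hr hK h1 h2 h2' h3 h4 h =>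
    have key : ∀ r : ℕ, r.Prime → r ∣ 11 → r = 11 := by
      intro r h1 h2; have := Nat.le_of_dvd (by norm_num) h2
      interval_cases r <;> first | omega | exact absurd h1 (by decide)
    obtain rfl := key r hr (hc ▸ h4)
    · omega
  | ufld K hK h1 h2 h3 h4 h =>
    obtain ⟨m, h4, -⟩ := h4; omega
  | tenS a b e P f₁ f₂ h1 h2 h3 h4 hf₁ hf₂ hT h5 h =>
    have k : 11 = a * b := by simpa using Fintype.card_congr e
    exact absurd (k ▸ h3.mul_right b) (by decide)
  | tenO a b e P f₁ f₂ ho h1 h2 h3 h4 h5 hf₁ hf₂ hT h =>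
    have key : ∀ a b : ℕ, 11 = a * b → 3 ≤ a → a ≤ b → False := by
      intro a b e h h'; have : a ≤ 11 := Nat.le_of_dvd (by norm_num) ⟨_, e⟩
      interval_cases a <;> omega
    exact (key a b (by simpa using Fintype.card_congr e) h1 h2).elim
  | sub F₀ r P ζ hr hF h1 h2 h3 h =>
    obtain ⟨P', k1, k2⟩ := Asch.IsQuadFormRationalStructure.rescale hB h2 h1 (by rw [hc]; decide) (hd _)
    exact .inr (.inr (.inr (.inl ⟨F₀, r, P', hr, hF, k1, k2 ▸ h⟩)))
  | evp k t h1 h2 h3 h4 =>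
    have := Asch.wre_cases (hc.symm.trans h1) (by norm_num) (by
      obtain ⟨_ | l, rfl⟩ := h3
      · rw [add_zero, zero_pow (by omega)] at h1; omega
      · omega) h2
    obtain ⟨l, rfl⟩ := h3; omega
  | wre k t e P f ho h1 h2 h3 hf hT h =>
    have := Asch.wre_cases (n := 11) (by simpa using Fintype.card_congr e) (by norm_num) (by omega) h2
    omega
  | res h => exact .inr (.inr (.inr (.inr h)))

end Cfsg.Agent.S5859
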