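import Cfsg.Statements.S5876
import Cfsg.Agent.Lib.Classical.Asch3

set_option autoImplicit false
open Cfsg

namespace Cfsg.Agent.S5876
open Cfsg.Agent.Classical

open scoped commutatorElement
open Subgroup in
theorem aux {G : Type*} [Group G] [Finite G] [Group.IsSolvable G] (d : G → ℕ) (n : ℕ)
    (h1 : ∀ g x, 2 * d g ≤ n + d ⁅g, x⁆) (h2 : ∀ A : Subgroup G, A.Normal → ⁅A, A⁆ = ⊥ → ∀ a ∈ A, a ≠ 1 → d a = 0)
    {g : G} (hg : g ≠ 1) : 4 * d g ≤ 3 * n := by
  obtain ⟨A, ⟨a1, a2⟩, hA⟩ := exists_maximal_of_wellFoundedGT (fun A : Subgroup G => A.Normal ∧ ⁅A, A⁆ = ⊥) ⟨⊥, inferInstance, by simp⟩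
  obtain ⟨B, b0, ⟨b1, b2, b3⟩, hB⟩ := Finite.exists_le_maximal (p := fun B : Subgroup G => B.Normal ∧ ⁅B, A⁆ = ⊥ ∧ ⁅B, B⁆ ≤ A)
    (a := A) ⟨a1, a2, by simp [a2]⟩
  have sp : ∀ X Y Z N : Subgroup G, N.Normal → ⁅X, Z⁆ ≤ N → ⁅Y, Z⁆ ≤ N → ⁅X ⊔ Y, Z⁆ ≤ N := fun X Y Z N _ a b => by
    rw [← QuotientGroup.ker_mk' N, ← Subgroup.map_eq_bot_iff, map_commutator, commutator_eq_bot_iff_le_centralizer] at a b ⊢
    rw [Subgroup.map_sup]; exact sup_le a b
  have k : centralizer B ≤ A := by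
    by_contra h
    obtain ⟨E, ⟨e1, e2, e3⟩, hE⟩ := exists_minimal_of_wellFoundedLT
      (fun E : Subgroup G => E.Normal ∧ E ≤ centralizer B ∧ ¬ E ≤ A) ⟨_, inferInstance, le_rfl, h⟩
    have e4 := Group.IsSolvable.commutator_lt_of_ne_bot (H := E) (by rintro rfl; simp at e3)
    have e5 : ⁅E, E⁆ ≤ A := by_contra fun h => e4.not_ge (hE ⟨inferInstance, e4.le.trans e2, h⟩ e4.le)
    have e6 := (commutator_eq_bot_iff_le_centralizer.2 e2).le
    have e7 := (commutator_mono le_rfl b0).trans e6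
    have cm : ∀ {X Y N : Subgroup G}, ⁅X, Y⁆ ≤ N → ⁅Y, X⁆ ≤ N := fun h => (commutator_comm _ _).le.trans h
    have e8 : E ≤ B := le_sup_right.trans (hB (y := B ⊔ E) ⟨inferInstance, le_bot_iff.1 (sp _ _ _ _ inferInstance b2.le e7),
      sp _ _ _ _ a1 (cm (sp _ _ _ _ a1 b3 (e6.trans bot_le))) (cm (sp _ _ _ _ a1 (cm (e6.trans bot_le)) e5))⟩ le_sup_left)
    exact e3 (le_sup_right.trans (hA (y := A ⊔ E) ⟨inferInstance, le_bot_iff.1 (sp _ _ _ _ inferInstance
      (cm (sp _ _ _ _ inferInstance a2.le e7)) (cm (sp _ _ _ _ inferInstance (cm e7)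
        ((commutator_mono le_rfl e8).trans e6))))⟩ le_sup_left))
  have k1 : ∀ y ∉ A, ∃ x ∈ B, ⁅y, x⁆ ≠ 1 := fun y hy => by
    by_contra h
    push Not at h
    exact hy (k fun x hx => (commutatorElement_eq_one_iff_mul_comm.1 (h x hx)).symm)
  by_cases h : g ∈ A
  · simp [h2 A a1 a2 g h hg]
  obtain ⟨x, hx, e⟩ := k1 g h
  have := h1 g x
  have hy : ⁅g, x⁆ ∈ B := B.mul_mem (b1.conj_mem x hx g) (B.inv_mem hx)
  by_cases h' : ⁅g, x⁆ ∈ A
  · have := h2 A a1 a2 _ h' e; omega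
  obtain ⟨z, hz, e'⟩ := k1 _ h'
  have := h1 ⁅g, x⁆ z
  have := h2 A a1 a2 _ (b3 (commutator_mem_commutator hy hz)) e'
  omega

open Asch Matrix Module


/-- Fixed-point spaces in primitive soluble linear groups. Let F be a finite field and G a soluble subgroup of GL_n(F) that acts irreducibly on F^n and primitively (G preserves no decomposition of F^n into two or more independent subspaces of equal dimension). Then every non-identity element g of G has fixed-point space {v : g v = v} of dimension at most 3n/4. -/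
theorem result {F : Type*} [Field F] [Fintype F] {n : ℕ} (G : Subgroup (Matrix.GeneralLinearGroup (Fin n) F)) (hsol : IsSolvable G) (hirr : Cfsg.Geo.ActsIrreducibly (Cfsg.Geo.matrixSet G)) (hprim : ∀ (m t : ℕ) (D : Fin t → Submodule F (Fin n → F)), 2 ≤ t → Cfsg.Geo.IsMDecomposition m D → ¬ G ≤ Cfsg.Geo.decompositionStabilizer D) (g : Matrix.GeneralLinearGroup (Fin n) F) (hg : g ∈ G) (hg1 : g ≠ 1) :
    4 * Module.finrank F (Module.End.eigenspace (Matrix.toLin' (g : Matrix (Fin n) (Fin n) F)) 1) ≤ 3 * n := by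
  have hG := irr_iff.2 hirr
  haveI : Group.IsSolvable G := hsol
  let f : GL (Fin n) F → Submodule F (Fin n → F) := fun g => End.eigenspace (toLin' g.1) 1
  have hf : ∀ g v, v ∈ f g ↔ g.1 *ᵥ v = v := fun g v => by simp [f]
  refine aux (G := G) (g := ⟨g, hg⟩) (fun g => finrank F (f g)) n (fun g x => ?_) (fun A _ hA a ha a1 => ?_)
    (by simpa using hg1)
  · have e : (f g).map (toLin' x.1.1) ≤ f (x.1 * g.1⁻¹ * x.1⁻¹) := by
      rintro _ ⟨v, hv, rfl⟩
      rw [hf, toLin'_apply, mulVec_mulVec, ← Units.val_mul, inv_mul_cancel_right, Units.val_mul, ← mulVec_mulVec]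
      conv_lhs => rw [← (hf _ _).1 hv, inv_mulVec_mulVec]
    have a := Submodule.finrank_mono e
    have b := Submodule.finrank_sup_add_finrank_inf_eq (f g) (f (x.1 * g.1⁻¹ * x.1⁻¹))
    have c := Submodule.finrank_le (f g ⊔ f (x.1 * g.1⁻¹ * x.1⁻¹))
    have d : finrank F (f g ⊓ f (x.1 * g.1⁻¹ * x.1⁻¹) : Submodule F _) ≤ finrank F (f (⁅g, x⁆ : G)) :=
      Submodule.finrank_mono fun v hv => (hf _ _).2 (by
        rw [show ((⁅g, x⁆ : G) : GL _ F) = g.1 * (x.1 * g.1⁻¹ * x.1⁻¹) by simp [commutatorElement_def, mul_assoc],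
          Units.val_mul, ← mulVec_mulVec, (hf _ _).1 hv.2, (hf _ _).1 hv.1])
    rw [finrank_map_gl] at a
    simp at c; omega
  have hn : Nrm G (alg (A.map G.subtype)) := nrm_alg (by
    have := Subgroup.le_normalizer_map (H := A) G.subtype
    rwa [Subgroup.normalizer_eq_top, ← MonoidHom.range_eq_map, G.range_subtype] at this)
  have hc : ∀ x ∈ alg (A.map G.subtype), ∀ y ∈ alg (A.map G.subtype), x * y = y * x := fun x hx y hy => alg_comm_alg (by
    rintro _ ⟨x, hx, rfl⟩ _ ⟨y, hy, rfl⟩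
    exact congrArg Subtype.val (Subgroup.commutator_eq_bot_iff_le_centralizer.1 hA hy x hx)) hx hy
  have := hG.isField hn hc fun e he h1 => by_contra fun h => by
    push Not at h
    obtain ⟨t, E, hE, -⟩ := hG.exists_idemDec (S := {e | e ∈ alg (A.map G.subtype) ∧ e * e = e}) (fun e he => he.2)
      (fun e he f hf => ⟨mul_mem he.1 hf.1, by
        rw [Matrix.mul_assoc, ← Matrix.mul_assoc f, hc f hf.1 e he.1, ← Matrix.mul_assoc,
          ← Matrix.mul_assoc, he.2, Matrix.mul_assoc, hf.2]⟩)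
      (fun e he f hf => hc e he.1 f hf.1) (fun g hg e he => ⟨hn g hg e he.1, by rw [← map_mul, he.2]⟩)
      ⟨he, h1⟩ h.1 h.2
    obtain ⟨m, hm⟩ := hE.isMDecomposition
    exact hprim m t _ hE.two_le hm hE.le
  obtain ⟨y, hy, e⟩ := this.inv _ (sub_mem (coe_mem_alg ⟨a, ha, rfl⟩) (one_mem _)) fun h =>
    a1 (Subtype.ext (Units.ext (sub_eq_zero.1 h)))
  rw [Submodule.finrank_eq_zero, eq_bot_iff]
  intro v hv
  rw [Submodule.mem_bot, ← one_mulVec v, ← mul_eq_one_comm.1 e, ← mulVec_mulVec, sub_mulVec, one_mulVec]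
  simp [(hf _ _).1 hv]

end Cfsg.Agent.S5876
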