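import Cfsg.Statements.S5885
import Mathlib

set_option autoImplicit false
open Cfsg

namespace Cfsg.Agent.S5885
open scoped Pointwise


/-- Let n be an odd positive integer such that every primitive permutation group of degree n contains the alternating group (so the symmetric and alternating groups are the only primitive groups of degree n). Let G be a finite group, M a maximal subgroup of G of index n, and H a maximal subgroup of M. Then H is a second maximal subgroup of G: H is maximal in every maximal subgroup K of G containing H. -/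
theorem result {G : Type*} [Group G]
    [Finite G] (n : ℕ) (hodd : Odd n)
    (hA : ∀ P : Subgroup (Equiv.Perm (Fin n)), MulAction.IsPreprimitive P (Fin n) → alternatingGroup (Fin n) ≤ P)
    (M : Subgroup G) (hM : IsCoatom M) (hn : M.index = n) (H : Subgroup G) (hHM : H ≤ M)
    (hmax : IsCoatom (H.subgroupOf M)) (K : Subgroup G) (hK : IsCoatom K) (hHK : H ≤ K) :
    IsCoatom (H.subgroupOf K) := by
  classical
  rcases eq_or_ne K M with rfl | hKM
  · exact hmax
  have mx : ∀ S, H ≤ S → S ≤ M → ¬ M ≤ S → S ≤ H := fun S h1 h2 h3 g hg => by_contra fun h4 => h3 (Subgroup.subgroupOf_eq_top.1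
    (hmax.2 _ (lt_of_le_of_ne (Subgroup.comap_mono h1) fun e => h4 (e.ge (show (⟨g, h2 hg⟩ : M) ∈ S.subgroupOf M from hg)))))
  have hH := mx (K ⊓ M) (le_inf hHK hHM) inf_le_right fun h => hKM ((hM.le_iff_eq hK.1).1 (h.trans inf_le_left))
  refine ⟨fun h => hKM ((hK.le_iff_eq hM.1).1 ((Subgroup.subgroupOf_eq_top.1 h).trans hHM)).symm, fun L hL => by_contra fun hL' => ?_⟩
  obtain ⟨l, hl, hl'⟩ := SetLike.exists_of_lt hL
  obtain ⟨k, -, hk⟩ := SetLike.exists_of_lt (lt_top_iff_ne_top.2 hL')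
  obtain ⟨e⟩ : Nonempty (G ⧸ M ≃ Fin n) := ⟨hn ▸ Finite.equivFin _⟩
  let ρ : G →* Equiv.Perm (Fin n) := e.permCongrHom.toMonoidHom.comp (MulAction.toPermHom G (G ⧸ M))
  haveI : Nontrivial (G ⧸ M) := Finite.one_lt_card_iff_nontrivial.1 (Subgroup.one_lt_index_of_ne_top hM.1)
  haveI := (MulAction.isCoatom_stabilizer_iff_preprimitive G ((1 : G) : G ⧸ M)).1 (by rwa [MulAction.stabilizer_quotient])
  have hP := hA ρ.range (MulAction.IsPreprimitive.of_surjective (φ := ρ.rangeRestrict)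
    (f := ⟨e, fun g x => by show _ = ρ g (e x); simp [ρ]⟩) e.surjective)
  let p : G → Fin n := fun g => e g
  have p1 : ∀ g h, ρ g (p h) = p (g * h) := fun g h => by simp [ρ, p]
  have p2 : ∀ g h, p g = p h ↔ g⁻¹ * h ∈ M := fun g h => by simp [p, QuotientGroup.eq]
  have p3 : ∀ g : K, ∀ h ∈ L, p g = p h → g ∈ L := fun g h hh e => by
    simpa using L.mul_mem hh (L.inv_mem (hL.le (show g⁻¹ * h ∈ H.subgroupOf K from hH ⟨(g⁻¹ * h).2, (p2 _ _).1 e⟩)))
  let B : Set (Fin n) := (fun g : K => p g) '' L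
  have p4 : ∀ g : K, p g ∈ B ↔ g ∈ L := fun g => ⟨fun ⟨h, hh, e⟩ => p3 g h hh e.symm, fun h => ⟨g, h, rfl⟩⟩
  have p5 : ∀ u v z : Fin n, u ≠ v → u ≠ z → v ≠ z → ∃ g, ρ g u = v ∧ ρ g v = z ∧ ∀ x, x ≠ u → x ≠ v → x ≠ z → ρ g x = x :=
    fun u v z a b c => by
      obtain ⟨g, hg⟩ := hP (x := Equiv.swap u z * Equiv.swap u v) (by simp [a, b])
      exact ⟨g, by simp [hg, Equiv.swap_apply_of_ne_of_ne a.symm c], by simp [hg],
        fun x a b c => by simp [hg, Equiv.swap_apply_of_ne_of_ne, a, b, c]⟩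
  have u1 : p k ∉ B := mt (p4 k).1 hk
  have u2 : p (k * l : K) ∉ B := mt (p4 _).1 (by rwa [L.mul_mem_cancel_right hl])
  have u3 : p k ≠ p (k * l : K) := fun h => hl' (hH ⟨l.2, by simpa using (p2 _ _).1 h⟩)
  have x1 : p 1 ∈ B := (p4 1).2 L.one_mem
  have x2 := (p4 l).2 hl
  have hS := mx (M ⊓ (MulAction.stabilizer _ B).comap ρ) (le_inf hHM fun g hg => ?_) inf_le_left fun h => ?_
  · obtain ⟨z, z1, z2⟩ : ∃ z, z ∉ B ∧ z ∉ ρ k '' B := by
      by_contra h
      have := Set.ncard_union_eq (s := B) (t := ρ k '' B) (Set.disjoint_left.2 (by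
        rintro _ h1 ⟨_, ⟨g, hg, rfl⟩, rfl⟩
        exact hk ((L.mul_mem_cancel_right hg).1 ((p4 (k * g)).1 (p1 _ _ ▸ h1)))))
      rw [Set.ncard_image_of_injective _ (ρ k).injective, Set.eq_univ_of_forall (s := B ∪ _) (by simpa [or_iff_not_imp_left] using h),
        Set.ncard_univ, Nat.card_fin] at this
      exact Nat.not_even_iff_odd.2 hodd ⟨_, this⟩
    obtain ⟨g, g1, g2, g3⟩ := p5 _ _ z u3 (fun h => z2 ⟨_, x1, by simp [p1, h]⟩) (fun h => z2 ⟨_, x2, by rw [p1, ← h]; rfl⟩)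
    have g4 : ∀ x ∈ B, ρ g x = x := fun x hx => g3 x (by rintro rfl; exact u1 hx) (by rintro rfl; exact u2 hx)
      (by rintro rfl; exact z1 hx)
    have g5 := hHK (hS ⟨by simpa using M.inv_mem ((p2 _ _).1 ((p1 _ _).symm.trans (g4 _ x1))),
      (Set.image_congr g4).trans B.image_id⟩)
    have := p3 (k⁻¹ * ⟨g, g5⟩ * k) l hl ((ρ k).injective (by rw [p1, p1, ← p1 g] at *; simpa [p1, mul_assoc] using g1))
    exact z2 ⟨_, (p4 _).2 (L.mul_mem this hl), by rw [← g2]; simp [p1, mul_assoc]⟩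
  · have : (⟨g, hHK hg⟩ : K) ∈ L := hL.le hg
    refine Set.eq_of_subset_of_ncard_le ?_ (Set.ncard_image_of_injective _ (ρ g).injective).ge
    rintro _ ⟨_, ⟨h, hh, rfl⟩, rfl⟩
    exact ⟨_, L.mul_mem this hh, (p1 _ _).symm⟩
  · obtain ⟨g, g1, -, g3⟩ := p5 _ _ _ (ne_of_mem_of_not_mem x2 u1) (ne_of_mem_of_not_mem x2 u2) u3
    have := g3 _ (fun h => hl' (hH ⟨l.2, by simpa using (p2 _ _).1 h⟩)) (ne_of_mem_of_not_mem x1 u1) (ne_of_mem_of_not_mem x1 u2)
    have g5 : ρ g '' B = B := (h (by simpa using M.inv_mem ((p2 _ _).1 ((p1 _ _).symm.trans this)))).2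
    exact u1 (g5 ▸ ⟨_, x2, g1⟩)

end Cfsg.Agent.S5885
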