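import Cfsg.Statements.S5887
import Cfsg.Agent.Lib.Classical.NMax9

set_option autoImplicit false
open Cfsg

namespace Cfsg.Agent.S5887
open Cfsg.Agent.Classical


/-- Let F be a finite field, n a positive integer and r a composite number (r > 1, not prime) that divides n with r < n. Let K be a subalgebra of the algebra of n × n matrices over F which is a field of degree r over F (commutative, every non-zero element invertible, of dimension r over F). Then the normaliser N of K in GL_n(F) (a group of type ΓL_{n/r}(F_{q^r})) is not a maximal subgroup of GL_n(F), and N ∩ SL_n(F) is not a maximal subgroup of SL_n(F): both lie properly inside the normaliser of an intermediate subfield of prime degree over F. -/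
theorem result {F : Type*} [Field F]
    [Fintype F] (n r : ℕ) (hr1 : 1 < r) (hrp : ¬ r.Prime) (hrn : r ∣ n) (hlt : r < n)
    (K : Subalgebra F (Matrix (Fin n) (Fin n) F)) (hK : Cfsg.Geo.IsFieldSubalgebra r K) :
    ¬ IsCoatom (Cfsg.Geo.subalgebraNormalizer K) ∧
      ¬ Cfsg.Geo.IsMaximalIn (Cfsg.Geo.specialLinear (Fin n) F)
        (Cfsg.Geo.subalgebraNormalizer K ⊓ Cfsg.Geo.specialLinear (Fin n) F) := by
  haveI : Nonempty (Fin n) := ⟨⟨0, by omega⟩⟩
  have hF : IsField K :=
    { exists_pair_ne := ⟨0, 1, zero_ne_one⟩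
      mul_comm := fun a b => Subtype.ext (hK.comm _ a.2 _ b.2)
      mul_inv_cancel := fun {a} ha => by
        obtain ⟨y, hy, e⟩ := hK.inv a a.2 (fun h => ha (Subtype.ext h))
        exact ⟨⟨y, hy⟩, Subtype.ext e⟩ }
  letI := hF.toField
  have hr := hK.finrank_eq
  obtain ⟨M, h1, ⟨k, k1, k2, k3⟩, g, g1, g2⟩ := NMax.fld_core (L := K) K.val (s := r.minFac)
    (Nat.minFac_prime (by omega)).one_lt (hr ▸ (Nat.not_prime_iff_minFac_lt hr1).1 hrp) (hr ▸ Nat.minFac_dvd r)
    (by rw [Fintype.card_fin]; exact hr ▸ hlt)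
  rw [Subalgebra.range_val] at h1 k3
  refine ⟨fun h => g2 ?_, fun h => ?_⟩
  · rw [h.2 M (lt_of_le_not_ge h1 fun e => k3 (e k2))]; trivial
  · rcases h.2 (M ⊓ Geo.specialLinear (Fin n) F) (inf_le_inf_right _ h1) inf_le_right with e | e
    · exact k3 (e.le ⟨k2, k1⟩).1
    · exact g2 (e.ge g1).1

end Cfsg.Agent.S5887
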