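import Cfsg.Statements.S5890
import Mathlib
import Cfsg.Agent.Lib.Perm.Dick7

set_option autoImplicit false
open Cfsg

namespace Cfsg.Agent.S5890

open Cfsg.Agent.Perm Cfsg.Agent.Perm.GL2 Cfsg.Agent.Perm.Tri Subgroup MulAction

/-- Let F be a finite field with q ≥ 4 elements, let L ≤ PGL₂(F) be the image of SL₂(F) (a copy of PSL₂(F), of index gcd(2, q − 1)), and let M be a maximal subgroup of PGL₂(F) that does not contain L. Suppose q ∉ {7, 9, 11} and that q is not a prime congruent to ±11 or ±19 modulo 40. Then M ∩ L is a maximal subgroup of L. (For the excluded q there are maximal subgroups of PGL₂(q) — dihedral groups of order 12 and 16 at q = 7, of order 20 and 16 at q = 9, of order 20 at q = 11, and S₄ at the excluded primes — whose intersection with L is not maximal in L.) -/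
theorem result {F : Type*} [Field F]
    [Fintype F] (h4 : 4 ≤ Fintype.card F) (h7 : Fintype.card F ≠ 7) (h9 : Fintype.card F ≠ 9) (h11 : Fintype.card F ≠ 11)
    (h40 : (Fintype.card F).Prime → Fintype.card F % 40 ∉ ({11, 19, 21, 29} : Finset ℕ))
    (M : Subgroup (Matrix.ProjGenLinGroup (Fin 2) F)) (hM : IsCoatom M)
    (hML : ¬ (Matrix.ProjGenLinGroup.mk.comp Matrix.SpecialLinearGroup.toGL).range ≤ M) :
    IsCoatom ((M ⊓ (Matrix.ProjGenLinGroup.mk.comp Matrix.SpecialLinearGroup.toGL).range).subgroupOf
      (Matrix.ProjGenLinGroup.mk.comp Matrix.SpecialLinearGroup.toGL).range) := by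
  suffices h : M ⊓ PS F ⋖ PS F by
    rw [← covBy_top_iff]
    refine ⟨lt_top_iff_ne_top.2 fun e => h.1.not_ge (subgroupOf_eq_top.1 e), fun H h1 h2 => ?_⟩
    have hi := (PS F).subtype_injective
    rw [← map_lt_map_iff_of_injective hi] at h1 h2
    rw [subgroupOf_map_subtype, inf_assoc, inf_idem] at h1
    rw [← MonoidHom.range_eq_map, range_subtype] at h2
    exact h.2 h1 h2
  rcases Nat.even_or_odd (Fintype.card F) with hodd | hodd
  · rw [PS_eq_top (two_eq_zero_of_even hodd.two_dvd), inf_top_eq, covBy_top_iff]; exact hM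
  have hMS : ¬ M ≤ PS F := fun h => by
    rcases hM.le_iff.1 h with e | e
    · have := index_PS (F := F)
      rw [e, index_top, gcd_odd hodd] at this; omega
    · exact hML e.le
  have hc := card_inf_PS hodd hMS
  rcases coatom_PGL hodd h4 hM hML with ⟨x, rfl⟩ | ⟨t, s, h1, h0, h2, h3, h5, rfl⟩ | ⟨h1, h2, ⟨e⟩⟩ |
    ⟨L, c, r, h1, h2, h3, h5, rfl⟩
  · exact stab_covBy x
  · have ho : orderOf (t ^ 2) * 2 = orderOf t := by
      have : 2 ∣ orderOf t := by
        obtain ⟨k, hk⟩ := hodd
        rcases h1 with h1 | ⟨h1, -⟩ <;> omega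
      rw [orderOf_pow_of_dvd two_ne_zero this, Nat.div_mul_cancel this]
    have hD : DihS (t ^ 2) s := ⟨by rw [gcd_odd hodd, ho]; exact h1.imp_right And.left, sq_mem_PS t, h0,
      by rw [← conj_pow, h2, inv_pow], h3, fun h => h5 (zpowers_le.2 (pow_mem (mem_zpowers t) 2) h)⟩
    have : closure {t ^ 2, s} = closure {t, s} ⊓ PS F := eq_of_le_of_card_ge (le_inf (by
      rw [closure_le]
      rintro _ (rfl | rfl)
      exacts [pow_mem (subset_closure (by simp)) 2, subset_closure (by simp)]) hD.le) (by
      rw [card_dih h2 h3 h5] at hc; rw [hD.card]; omega)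
    rw [← this]
    refine hD.covBy ?_
    rw [gcd_odd hodd, ho]
    simp only [Finset.mem_insert, Finset.mem_singleton, not_or]
    omega
  · haveI := Fact.mk h1
    have h6 : ((M ⊓ PS F).subgroupOf M).index = 2 := by
      have := ((M ⊓ PS F).subgroupOf M).card_mul_index
      rw [Nat.card_congr (subgroupOfEquivOfLe inf_le_left).toEquiv, hc, mul_comm] at this
      exact Nat.eq_of_mul_eq_mul_right Nat.card_pos this
    have h8 := Equiv.Perm.eq_alternatingGroup_of_index_eq_two (G := ((M ⊓ PS F).subgroupOf M).map e.toMonoidHom)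
      (by rw [index_map_of_bijective e.bijective, h6])
    have := h40 h1
    simp only [Finset.mem_insert, Finset.mem_singleton, not_or] at this
    exact A4_covBy _ rfl (by omega) h2 (by omega) ((subgroupOfEquivOfLe inf_le_left).symm.trans
      ((equivMapOfInjective _ _ e.injective).trans (MulEquiv.subgroupCongr h8)))
  · have hL : Odd (Nat.card L) := by rw [h5] at hodd; exact (Nat.odd_pow_iff h1.ne_zero).1 hodd
    have : cjs c (RS L.subtype) = cjs c (RG L.subtype) ⊓ PS F := eq_of_le_of_card_ge
      (le_inf (cjs_mono c (RS_le_RG _)) (cjs_RS_le _ c)) (by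
        have := card_RS' L.subtype c
        rw [gcd_odd hL, ← card_RG' L.subtype c] at this; omega)
    rw [← this]
    exact covBy_cjs (RS_covBy _ h3 h1 h5 (Or.inl (by rintro rfl; exact absurd h2 (by decide)))) c

end Cfsg.Agent.S5890
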