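import Cfsg.Statements.S5892
import Mathlib
import Cfsg.Agent.Lib.Perm.Dick7

set_option autoImplicit false
open Cfsg

namespace Cfsg.Agent.S5892

open Cfsg.Agent.Perm Cfsg.Agent.Perm.GL2 Cfsg.Agent.Perm.Tri Subgroup MulAction

theorem pull {F : Type*} [Field F] [Finite F] {X : Subgroup (PGL2 F)} (h : X ≤ PS F) {A : Type*} [Group A]
    (e : X ≃* A) : Nonempty (X.comap io ≃* A) ∧ Nat.card (X.comap io) = Nat.card A :=
  ⟨⟨((ioEquiv _).trans (MulEquiv.subgroupCongr (map_comap_io h))).trans e⟩,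
    Nat.card_congr (((ioEquiv _).trans (MulEquiv.subgroupCongr (map_comap_io h))).trans e).toEquiv⟩

theorem excl {F : Type*} [Field F] [Fintype F] {M : Subgroup (PSL2 F)} (hM : IsCoatom M) {n : ℕ}
    (e : M ≃* DihedralGroup n) (h : (Fintype.card F = 5 ∧ n = 2) ∨ (Fintype.card F = 7 ∧ (n = 3 ∨ n = 4)) ∨
      (Fintype.card F = 9 ∧ (n = 4 ∨ n = 5)) ∨ (Fintype.card F = 11 ∧ n = 5)) : False := by
  have hodd : Odd (Fintype.card F) := Nat.odd_iff.2 (by omega)
  have h2 := two_ne_zero_of_odd hodd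
  have hS := card_PSL2_mul (F := F)
  rw [gcd_odd hodd] at hS
  have hc : Nat.card M = 2 * n := by rw [Nat.card_congr e.toEquiv, DihedralGroup.nat_card]
  haveI : IsSimpleGroup (PSL2 F) := Matrix.ProjectiveSpecialLinearGroup.rank_two_simple (by
    rw [Nat.card_eq_fintype_card]; omega)
  have t2 : ∀ X : Subgroup (PSL2 F), Nat.card X * X.index = Nat.card (PSL2 F) := fun X => X.card_mul_index
  have t3 : ∀ X : Subgroup (PSL2 F), Nat.card X ≠ Nat.card (PSL2 F) → X ≠ ⊤ := fun X h e => h (by rw [e, card_top])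
  have five : n = 5 → Nat.card (PSL2 F) = 360 ∨ Nat.card (PSL2 F) = 660 → False := fun hn h5 => by
    subst hn
    obtain ⟨X, ⟨e'⟩⟩ := exists_A5' (F := F) (five_dvd_oP.2 (by omega))
    obtain ⟨⟨e2⟩, h3⟩ := pull (A5_le_PS e') e'
    rw [card_A5] at h3
    exact not_coatom_dih Nat.prime_five hM e (by omega) (t3 _ (by omega)) (by omega) e2       (s := ⟨c[0, 1] * c[3, 4], Equiv.Perm.mem_alternatingGroup.2 (by decide +kernel)⟩)
      order_ab5 (by decide +kernel) (by decide +kernel) (by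
        rw [mem_zpowers_iff_mem_range_orderOf, order_ab5]; decide +kernel)
  have four : n = 4 → Nat.card (PSL2 F) = 360 ∨ Nat.card (PSL2 F) = 168 → False := fun hn h5 => by
    subst hn
    obtain ⟨X, ⟨e'⟩⟩ := exists_S4 (F := F) h2
    obtain ⟨-, h3⟩ := pull ((S4_le_PS_iff e').2 (by omega)) e'
    rw [card_S4] at h3
    have := t2 (X.comap io)
    exact not_coatom_of_sylow (r := 2) (X := X.comap io) hM (IsPGroup.of_card (n := 3) hc) (by
      rw [h3] at this; omega) (t3 _ (by omega)) (by omega)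
  rcases h with ⟨h, rfl⟩ | ⟨h, rfl | rfl⟩ | ⟨h, rfl | rfl⟩ | ⟨h, rfl⟩ <;> rw [h] at hS
  · obtain ⟨X, ⟨e'⟩⟩ := exists_A4 (F := F) h2
    obtain ⟨-, h3⟩ := pull (A4_le_PS e') e'
    rw [card_A4] at h3
    have := t2 (X.comap io)
    exact not_coatom_of_sylow (r := 2) (X := X.comap io) hM (IsPGroup.of_card (n := 2) hc) (by
      rw [h3] at this; omega) (t3 _ (by omega)) (by omega)
  · obtain ⟨X, ⟨e'⟩⟩ := exists_S4 (F := F) h2
    obtain ⟨⟨e2⟩, h3⟩ := pull ((S4_le_PS_iff e').2 (by omega)) e'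
    rw [card_S4] at h3
    exact not_coatom_dih Nat.prime_three hM e (by omega) (t3 _ (by omega)) (by omega) e2 (s := Equiv.swap 1 2)
      order_t4 (by decide +kernel) (by decide +kernel) (by
        rw [mem_zpowers_iff_mem_range_orderOf, order_t4]; decide +kernel)
  · exact four rfl (by omega)
  · exact four rfl (by omega)
  · exact five rfl (by omega)
  · exact five rfl (by omega)

/-- Let F be a finite field of odd order q ≥ 5 and characteristic p, and let M be a maximal subgroup of PSL₂(F). Then one of the following holds: |M| = q(q − 1)/2 (the stabiliser of a point of the projective line); q ≥ 13 and M is dihedral of order q − 1; q ∉ {7, 9} and M is dihedral of order q + 1; q = q₀² and M ≅ PGL₂(F₀) with |F₀| = q₀; q = q₀^r for an odd prime r and M ≅ PSL₂(F₀) with |F₀| = q₀; q ≡ ±1 (mod 10) with q = p or q = p², p ≡ ±3 (mod 10), and M ≅ A₅; q = p ≡ ±3 (mod 8), q ≢ ±1 (mod 10), and M ≅ A₄; or q = p ≡ ±1 (mod 8) and M ≅ S₄. -/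
theorem result {F : Type*} [Field F] [Fintype F] (p : ℕ)
    [Fact p.Prime] [CharP F p] (hodd : Odd (Fintype.card F)) (h5 : 5 ≤ Fintype.card F)
    (M : Subgroup (Matrix.ProjectiveSpecialLinearGroup (Fin 2) F)) (hM : IsCoatom M) :
    2 * Nat.card M = Fintype.card F * (Fintype.card F - 1) ∨
    (13 ≤ Fintype.card F ∧ (∃ k : ℕ, 2 * k = Fintype.card F - 1 ∧ Nonempty (M ≃* DihedralGroup k))) ∨
    (Fintype.card F ≠ 7 ∧ Fintype.card F ≠ 9 ∧ (∃ k : ℕ, 2 * k = Fintype.card F + 1 ∧ Nonempty (M ≃* DihedralGroup k))) ∨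
    (∃ (F₀ : Type) (_ : Field F₀) (_ : Fintype F₀), Fintype.card F = Fintype.card F₀ ^ 2 ∧
        Nonempty (M ≃* Matrix.ProjGenLinGroup (Fin 2) F₀)) ∨
    (∃ (F₀ : Type) (_ : Field F₀) (_ : Fintype F₀) (r : ℕ), r.Prime ∧ Odd r ∧ Fintype.card F = Fintype.card F₀ ^ r ∧
        Nonempty (M ≃* Matrix.ProjectiveSpecialLinearGroup (Fin 2) F₀)) ∨
    ((Fintype.card F % 10 = 1 ∨ Fintype.card F % 10 = 9) ∧
        (Fintype.card F = p ∨ (Fintype.card F = p ^ 2 ∧ (p % 10 = 3 ∨ p % 10 = 7))) ∧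
        Nonempty (M ≃* alternatingGroup (Fin 5))) ∨
    (Fintype.card F = p ∧ (p % 8 = 3 ∨ p % 8 = 5) ∧ ¬ (p % 10 = 1 ∨ p % 10 = 9) ∧
        Nonempty (M ≃* alternatingGroup (Fin 4))) ∨
    (Fintype.card F = p ∧ (p % 8 = 1 ∨ p % 8 = 7) ∧ Nonempty (M ≃* Equiv.Perm (Fin 4))) := by
  have hp : p.Prime := Fact.out
  have h2 := two_ne_zero_of_odd hodd
  have h := coatom_iff.1 hM
  have e := ioEquiv M
  have hg := gcd_odd hodd
  obtain ⟨n, -, hn⟩ := FiniteField.card F p
  have hpo : Odd p := by rw [hn] at hodd; exact (Nat.odd_pow_iff n.2.ne').1 hodd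
  have hgp := gcd_odd hpo
  have hq2 := Nat.odd_iff.1 hodd
  have hp2 := Nat.odd_iff.1 hpo
  have big : ∀ X : Subgroup (PGL2 F), X ≤ PS F → ∀ {A : Type} [Group A], (X ≃* A) → ∀ c, M.map io ≤ cjs c X →
      Nat.card (M.map io) < Nat.card A → Nat.card A < Nat.card (PS F) → False := fun X h1 A _ e' c h3 h4 h5 => by
    rw [← Nat.card_congr e'.toEquiv, ← card_cjs c X] at h4 h5
    rcases h.eq_or_eq h3 (cjs_normal c (PS F) ▸ cjs_mono c h1) with h6 | h6 <;> rw [h6] at h4 h5 <;> omega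
  have h60 := card_PS_ge h5
  rw [show oP 5 = 120 from rfl] at h60
  rcases dickson_lt p h.1 with ⟨t, s, h1, h3⟩ | ⟨x, hx⟩ | ⟨h1, ⟨⟨e'⟩⟩ | ⟨⟨e'⟩⟩⟩ | ⟨h1, ⟨e'⟩⟩ | ⟨L, c, m, hL, hm, hc2, h3⟩
  · have h4 := (h.eq_or_eq h3 h1.le).resolve_right (h1.lt (by omega)).ne
    have h6 : M ≃* DihedralGroup (orderOf t) := e.trans ((MulEquiv.subgroupCongr h4.symm).trans h1.iso.some)
    have h8 := excl hM h6
    rcases h1.ord with h7 | h7 <;> rw [hg] at h7
    · exact Or.inr (Or.inr (Or.inl ⟨fun h => h8 (by omega), fun h => h8 (by omega), _, by omega, ⟨h6⟩⟩))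
    · exact Or.inr (Or.inl ⟨by by_contra h; exact h8 (by omega), _, by omega, ⟨h6⟩⟩)
  · have h4 := (h.eq_or_eq (show M.map io ≤ stabilizer (PGL2 F) x ⊓ _ from fun g hg => ⟨hx g hg, h.le hg⟩)
      inf_le_right).resolve_right (stab_covBy x).ne
    left; rw [Nat.card_congr e.toEquiv, ← h4, ← card_stabS x, hg, mul_comm]
  · have hc : Nat.card (M.map io) = 12 := by rw [Nat.card_congr e'.toEquiv, card_A4]
    obtain ⟨c, h3⟩ := A4_le_pf (p := p) h2 e'
    have h4 : Fintype.card F = p := by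
      rcases covBy_RS h _ h3 with h4 | h4 <;> rw [Nat.card_zmod] at h4
      · exact h4.symm
      · rw [hgp, hc] at h4
        rw [oP_eq_iff (n := 3) (by norm_num) h4.symm, hc] at h1; omega
    refine Or.inr (Or.inr (Or.inr (Or.inr (Or.inr (Or.inr (Or.inl ⟨h4, ?_, fun h10 => ?_, ⟨e.trans e'⟩⟩))))))
    · by_contra h8
      obtain ⟨X, ⟨e2⟩⟩ := exists_S4 (F := F) h2
      obtain ⟨Y, h6, ⟨e3⟩⟩ := exists_sub_iso e2 A4_le_S4
      obtain ⟨d, hd⟩ := rigid_A4 h2 e3 e'
      exact big X ((S4_le_PS_iff e2).2 (by omega)) e2 d (hd ▸ cjs_mono d h6) (by rw [hc, card_S4]; omega)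
        (by rw [card_S4]; omega)
    · obtain ⟨X, ⟨e2⟩⟩ := exists_A5' (F := F) (five_dvd_oP.2 (by omega))
      obtain ⟨Y, h6, ⟨e3⟩⟩ := exists_sub_iso e2 A4_le_A5
      obtain ⟨d, hd⟩ := rigid_A4 h2 e3 e'
      have := card_PS_ge (F := F) (n := 7) (by omega)
      rw [show oP 7 = 336 from rfl] at this
      exact big X (A5_le_PS e2) e2 d (hd ▸ cjs_mono d h6) (by rw [hc, card_A5]; omega) (by rw [card_A5]; omega)
  · have hc : Nat.card (M.map io) = 24 := by rw [Nat.card_congr e'.toEquiv, card_S4]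
    have h8 := (S4_le_PS_iff e').1 h.le
    obtain ⟨c, h3, h4⟩ := S4_le_pf (p := p) e'
    have hn' : Fintype.card F = Nat.card (ZMod p) ^ (n : ℕ) := by rw [Nat.card_zmod, hn]
    have h6 : Fintype.card F = p := by
      rcases Nat.even_or_odd (n : ℕ) with hn2 | ⟨k, hk⟩
      · exfalso
        rcases h.eq_or_eq h3 (cjs_RG_le _ hn' hn2 c) with h6 | h6
        · have h7 := card_RG' (pf F p) c
          rw [h6, hc, Nat.card_zmod] at h7
          rw [oP_eq_iff (n := 3) (by norm_num) h7.symm, hc] at h1; omega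
        · have := cjs_RG_lt (pf F p) hn' (by obtain ⟨k, hk⟩ := hn2; have : 0 < (n : ℕ) := n.2; omega) c
          rw [h6] at this; omega
      · have h7 : p ^ 2 % 8 = 1 := by
          rw [Nat.pow_mod]
          have : p % 8 = 1 ∨ p % 8 = 3 ∨ p % 8 = 5 ∨ p % 8 = 7 := by omega
          rcases this with h | h | h | h <;> simp [h]
        have h9 : Fintype.card F % 8 = p % 8 := by
          rw [hn, hk, pow_succ, pow_mul, Nat.mul_mod, Nat.pow_mod, h7]; simp
        rcases covBy_RS h _ (h4 (FiniteField.isSquare_two_iff.2 (by rw [ZMod.card]; omega))) with h4 | h4 <;>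
          rw [Nat.card_zmod] at h4
        · exact h4.symm
        · rw [hgp, hc] at h4
          have := oP_mono (show 5 ≤ p by have := hp.two_le; omega)
          rw [← h4, show oP 5 = 120 from rfl] at this; omega
    exact Or.inr (Or.inr (Or.inr (Or.inr (Or.inr (Or.inr (Or.inr ⟨h6, h6 ▸ h8, ⟨e.trans e'⟩⟩))))))
  · have hc : Nat.card (M.map io) = 60 := by rw [Nat.card_congr e'.toEquiv, card_A5]
    rw [hc] at h1
    have hp5 : p % 5 ≠ 0 := fun h => by
      have : p = 5 := ((Nat.prime_dvd_prime_iff_eq Nat.prime_five hp).1 (by omega)).symm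
      subst this; omega
    refine Or.inr (Or.inr (Or.inr (Or.inr (Or.inr (Or.inl ?_)))))
    by_cases h10 : p % 10 = 1 ∨ p % 10 = 9
    · obtain ⟨c, h3⟩ := A5_le_sub h2 e' (pf F p) (five_dvd_oP.2 (by rw [Nat.card_zmod]; omega))
      have h4 : Fintype.card F = p := by
        rcases covBy_RS h _ h3 with h4 | h4 <;> rw [Nat.card_zmod] at h4
        · exact h4.symm
        · rw [hgp, hc] at h4
          have := oP_eq_iff (n := 5) (by norm_num) h4.symm; omega
      exact ⟨h4 ▸ h10, Or.inl h4, ⟨e.trans e'⟩⟩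
    · have h37 : p % 10 = 3 ∨ p % 10 = 7 := by omega
      have h7 : p ^ 2 % 10 = 9 := by rw [Nat.pow_mod]; rcases h37 with h | h <;> simp [h]
      have h9 := five_dvd_oP.1 (five_dvd_of_A5 e')
      obtain ⟨k, hk⟩ : Even (n : ℕ) := by
        rcases Nat.even_or_odd (n : ℕ) with hn2 | ⟨k, hk⟩
        · exact hn2
        exfalso
        have : ∀ j : ℕ, (p ^ 2) ^ j % 10 = 1 ∨ (p ^ 2) ^ j % 10 = 9 := fun j => by
          induction j with
          | zero => simp
          | succ j ih => rw [pow_succ, Nat.mul_mod, h7]; omega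
        have h11 : Fintype.card F % 10 = (p ^ 2) ^ k % 10 * (p % 10) % 10 := by
          rw [hn, hk, pow_succ, pow_mul, Nat.mul_mod]
        rcases this k with a | a <;> rcases h37 with b | b <;> rw [a, b] at h11 <;> omega
      obtain ⟨L, hL⟩ := exists_subfield (F := F) (p := p) (k := 2) (m := k) (by rw [hn, hk, ← pow_mul, two_mul])
      obtain ⟨c, h3⟩ := A5_le_sub h2 e' L.subtype (five_dvd_oP.2 (by rw [hL]; omega))
      have h4 : Fintype.card F = p ^ 2 := by
        rcases covBy_RS h _ h3 with h4 | h4 <;> rw [hL] at h4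
        · exact h4.symm
        · rw [gcd_odd hpo.pow, hc] at h4
          have := oP_eq_iff (n := 5) (by norm_num) h4.symm; omega
      exact ⟨Or.inr (h4 ▸ h7), Or.inr ⟨h4, h37⟩, ⟨e.trans e'⟩⟩
  · obtain ⟨K, i1, i2, hK, ⟨e1⟩, ⟨e2⟩⟩ := exists_type0 L.subtype c
    have hLo : Odd (Nat.card L) := by rw [hc2] at hodd; exact (Nat.odd_pow_iff (by omega)).1 hodd
    rcases h3 with ⟨h3, h4⟩ | h3
    · obtain ⟨k, rfl⟩ := h4.resolve_right (by omega)
      obtain ⟨L', hL'⟩ := exists_subfield' (F := F) (K := L) (a := 2) (b := k) (by rw [hc2, ← pow_mul, two_mul])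
      letI := Fintype.ofFinite L
      letI := Fintype.ofFinite L'
      have h6 := cjs_mono c (RG_le_RS (subfield_le hL') (isSquare_of_even _ (m := 2)
        (by rw [← Nat.card_eq_fintype_card, ← Nat.card_eq_fintype_card, hL']) even_two))
      refine Or.inr (Or.inr (Or.inr (Or.inl ⟨K, i1, i2, ?_, ⟨e.trans ((MulEquiv.subgroupCongr h3).trans e1)⟩⟩)))
      rcases covBy_RS h _ (h3 ▸ h6) with h7 | h7
      · rw [hK, ← h7, hL']
      · have := two_oP_lt (l := Nat.card L) (by omega) le_rfl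
        rw [h3, card_RG', hL', gcd_odd hLo.pow] at h7; omega
    · have h4 := covBy_L hm hc2 (h3 ▸ h)
      refine Or.inr (Or.inr (Or.inr (Or.inr (Or.inl ⟨K, i1, i2, m, h4, h4.odd_of_ne_two ?_, by rw [hK, hc2],
        ⟨e.trans ((MulEquiv.subgroupCongr h3).trans e2)⟩⟩))))
      rintro rfl
      refine big _ (cjs_RG_le _ hc2 even_two c) e1 1 (fun g hg => mem_cjs.2 ?_) ?_ ?_
      · simpa using cjs_mono c (RS_le_RG _) (h3 ▸ hg)
      · have := card_RS' L.subtype c
        have h7 : 0 < Nat.card (M.map io) := Nat.card_pos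
        rw [← h3, gcd_odd hLo, ← card_RG' L.subtype c, Nat.card_congr e1.toEquiv] at this; omega
      · rw [← Nat.card_congr e1.toEquiv]; exact cjs_RG_lt _ hc2 le_rfl c

end Cfsg.Agent.S5892
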