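import Cfsg.Statements.S5893
import Mathlib
import Cfsg.Agent.Lib.Perm.Dick7

set_option autoImplicit false
open Cfsg

namespace Cfsg.Agent.S5893

open Cfsg.Agent.Perm Cfsg.Agent.Perm.GL2 Cfsg.Agent.Perm.Tri Subgroup MulAction

/-- Let F be a finite field of even order q ≥ 4 and let M be a maximal subgroup of PSL₂(F) (= SL₂(F) = PGL₂(F)). Then one of the following holds: |M| = q(q − 1) (the stabiliser of a point of the projective line, elementary abelian of order q extended by a cyclic group of order q − 1); M is dihedral of order 2(q − 1); M is dihedral of order 2(q + 1); or q = q₀^r for a prime r with q₀ ≠ 2 and M ≅ PSL₂(F₀) with |F₀| = q₀. -/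
theorem result {F : Type*} [Field F] [Fintype F]
    (heven : Even (Fintype.card F)) (h4 : 4 ≤ Fintype.card F) (M : Subgroup (Matrix.ProjectiveSpecialLinearGroup (Fin 2) F)) (hM : IsCoatom M) :
    Nat.card M = Fintype.card F * (Fintype.card F - 1) ∨
    Nonempty (M ≃* DihedralGroup (Fintype.card F - 1)) ∨
    Nonempty (M ≃* DihedralGroup (Fintype.card F + 1)) ∨
    (∃ (F₀ : Type) (_ : Field F₀) (_ : Fintype F₀) (r : ℕ), r.Prime ∧ Fintype.card F₀ ≠ 2 ∧
        Fintype.card F = Fintype.card F₀ ^ r ∧ Nonempty (M ≃* Matrix.ProjectiveSpecialLinearGroup (Fin 2) F₀)) := by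
  have h2 := two_eq_zero_of_even heven.two_dvd
  haveI : CharP F 2 := ringChar.of_eq (ringChar_eq_two h2)
  have h := coatom_iff.1 hM
  have e := ioEquiv M
  have hg := gcd_even heven Fintype.card_pos
  rcases dickson_lt 2 h.1 with ⟨t, s, h1, h3⟩ | ⟨x, hx⟩ | ⟨h1, ⟨⟨e'⟩⟩ | ⟨⟨e'⟩⟩⟩ | ⟨h1, ⟨e'⟩⟩ | ⟨L, c, m, hL, hm, hc2, h3⟩
  · have h5 := (h.eq_or_eq h3 h1.le).resolve_right (h1.lt (by omega)).ne
    have h6 : Nonempty (M ≃* DihedralGroup (orderOf t)) :=
      ⟨e.trans ((MulEquiv.subgroupCongr h5.symm).trans h1.iso.some)⟩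
    rcases h1.ord with h7 | h7 <;> rw [hg, mul_one] at h7 <;> rw [h7] at h6
    exacts [Or.inr (Or.inr (Or.inl h6)), Or.inr (Or.inl h6)]
  · have h5 := (h.eq_or_eq (show M.map io ≤ stabilizer (PGL2 F) x ⊓ _ from fun g hg => ⟨hx g hg, h.le hg⟩)
      inf_le_right).resolve_right (stab_covBy x).ne
    left; rw [Nat.card_congr e.toEquiv, ← h5, ← card_stabS x, hg, mul_one]
  · rw [Nat.card_congr e'.toEquiv, card_A4] at h1; omega
  · rw [Nat.card_congr e'.toEquiv, card_S4] at h1; omega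
  · rw [Nat.card_congr e'.toEquiv, card_A5] at h1; omega
  · have h5 : M.map io = cjs c (RS L.subtype) := by
      rcases h3 with h3 | h3
      · rw [h3.1, RS, PS_eq_top (F := L) (Subtype.ext h2), ← MonoidHom.range_eq_map]
      · exact h3
    obtain ⟨K, i1, i2, hK, -, ⟨e1⟩⟩ := exists_type0 L.subtype c
    exact Or.inr (Or.inr (Or.inr ⟨K, i1, i2, m, covBy_L hm hc2 (h5 ▸ h), by omega, by rw [hK, hc2],
      ⟨e.trans ((MulEquiv.subgroupCongr h5).trans e1)⟩⟩))

end Cfsg.Agent.S5893
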