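import Cfsg.Statements.S5894
import Cfsg.Agent.Lib.Classical.Sym3

set_option autoImplicit false
open Cfsg

namespace Cfsg.Agent.S5894
open Cfsg.Agent.Classical
open scoped Pointwise


/-- For every m ≥ 2 the symmetric group on 2m letters has a maximal subgroup M of index 2m together with a maximal subgroup H of M that is not second maximal: some maximal subgroup K of the symmetric group contains H without H being maximal in K. (One may take M the stabiliser of a letter, H ≅ S_m × S_{m−1} inside it, and K ≅ S_m ≀ S₂ the stabiliser of a partition into two m-sets, with H < S_m × S_m < K.) So the prime-index hypothesis in the second-maximality criterion cannot be relaxed to any even index ≥ 4. -/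
theorem result (m : ℕ) (hm : 2 ≤ m) :
    ∃ M H K : Subgroup (Equiv.Perm (Fin (2 * m))), IsCoatom M ∧ M.index = 2 * m ∧ H ≤ M ∧ IsCoatom (H.subgroupOf M) ∧
      IsCoatom K ∧ H ≤ K ∧ ¬ IsCoatom (H.subgroupOf K) := by
  classical
  let o : Fin (2 * m) := ⟨0, by omega⟩
  let f : Fin (2 * m) → Prop := fun x => x.val < m
  have hO : Nat.card {x : Fin (2 * m) // x.val < m} = m := by
    rw [Nat.card_eq_fintype_card, Fintype.card_fin_lt_of_le (by omega)]
  have hf : ∀ i, Nat.card {x // f x = i} = m := by
    intro i
    by_cases hi : i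
    · exact (Nat.card_congr (Equiv.subtypeEquivRight fun x => by simp [f, hi])).trans hO
    · have : Nat.card {x : Fin (2 * m) // ¬ x.val < m} = m := by
        rw [Nat.card_eq_fintype_card, Fintype.card_subtype_compl, Fintype.card_fin_lt_of_le (by omega)]
        simp; omega
      exact (Nat.card_congr (Equiv.subtypeEquivRight fun x => by simp [f, hi])).trans this
  let e : Equiv.Perm {y // y ≠ o} ≃* MulAction.stabilizer (Equiv.Perm (Fin (2 * m))) o :=
    (MonoidHom.ofInjective Equiv.Perm.ofSubtype_injective).trans (MulEquiv.subgroupCongr (Sym.range_ofSubtype_ne o))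
  let s : Set {y // y ≠ o} := {y | y.1.val < m}
  have hs := Equiv.Perm.isCoatom_stabilizer (s := s) ⟨⟨⟨1, by omega⟩, by simp [o]⟩, by simp [s]; omega⟩
    ⟨⟨⟨m, by omega⟩, by simp [o]; omega⟩, by simp [s]⟩ (by simp; omega)
  haveI : Nontrivial (Fin (2 * m)) := Fin.nontrivial_iff_two_le.2 (by omega)
  set H0 := MulAction.stabilizer (Equiv.Perm {y // y ≠ o}) s with hH0
  let L : Subgroup (Equiv.Perm (Fin (2 * m))) :=
    { carrier := {g | ∀ x, f (g x) = f x}
      one_mem' := fun _ => rfl
      mul_mem' := fun {a b} ha hb x => (ha _).trans (hb x)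
      inv_mem' := fun {a} ha x => by simpa using (ha (a⁻¹ x)).symm }
  have hL : (H0.map e.toMonoidHom).map (Subgroup.subtype _) ≤ L := by
    rintro _ ⟨_, ⟨k, hk, rfl⟩, rfl⟩ x
    change f (Equiv.Perm.ofSubtype k x) = f x
    by_cases hx : x = o
    · rw [Equiv.Perm.ofSubtype_apply_of_not_mem k (by simpa using hx)]
    · rw [Equiv.Perm.ofSubtype_apply_of_mem k hx]
      exact propext (MulAction.mem_stabilizer_set.1 hk ⟨x, hx⟩)
  have hLK : L ≤ Sym.W f := fun g hg => Sym.mem_W_of_semiconj id Function.injective_id hg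
  refine ⟨MulAction.stabilizer _ o, (H0.map e.toMonoidHom).map (Subgroup.subtype _), Sym.W f,
    MulAction.IsPreprimitive.isCoatom_stabilizer_of_isPreprimitive _ o, by rw [Sym.index_stab]; simp,
    Subgroup.map_subtype_le _, ?_, Sym.isCoatom_W hf hm, hL.trans hLK, fun h => ?_⟩
  · rw [Subgroup.subgroupOf, Subgroup.comap_map_eq_self_of_injective (Subgroup.subtype_injective _)]
    exact (OrderIso.isCoatom_iff e.mapSubgroup H0).2 hs
  · rcases h.le_iff.1 (Subgroup.subgroupOf_mono (Sym.W f) hL) with h1 | h1
    · rw [Subgroup.subgroupOf_eq_top] at h1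
      obtain ⟨w, hw, h2, -⟩ := Sym.W_diff hf (x := o) (y := ⟨m, by omega⟩) (u := ⟨m, by omega⟩) (v := o)
        (by simp [f, o]; omega) (by simp [f, o]; omega)
      have := h1 hw o
      rw [h2] at this
      simp [f, o] at this
      omega
    · have h2 : Equiv.swap o ⟨1, by omega⟩ ∈ L := Sym.f_swap (by simp [f, o]; omega)
      have h3 : (⟨_, hLK h2⟩ : Sym.W f) ∈ L.subgroupOf (Sym.W f) := h2
      rw [h1] at h3
      have h4 : Equiv.swap o ⟨1, by omega⟩ o = o := Subgroup.map_subtype_le _ h3
      simp [o] at h4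

end Cfsg.Agent.S5894
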