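import Cfsg.Statements.S5913

set_option autoImplicit false
open Cfsg

namespace Cfsg.Agent.S5913

theorem mem_of_single {S : Type*} [Group S] {n : ℕ} (N : Subgroup (Fin n → S)) (x : Fin n → S)
    (h : ∀ i, Pi.mulSingle i (x i) ∈ N) : x ∈ N := by
  rw [← Finset.noncommProd_mulSingle x]
  exact N.noncommProd_mem _ (fun i _ => h i)

theorem single_mem {S : Type*} [Group S] [IsSimpleGroup S] (hS : ¬ IsMulCommutative S) {n : ℕ}
    (N : Subgroup (Fin n → S)) [hN : N.Normal] (x : Fin n → S) (hx : x ∈ N) (i : Fin n) (hi : x i ≠ 1) (s : S) :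
    Pi.mulSingle i s ∈ N := by
  have hc : Subgroup.center S = ⊥ := by
    rcases (inferInstance : (Subgroup.center S).Normal).eq_bot_or_eq_top with h | h
    · exact h
    · exfalso; apply hS
      exact ⟨⟨fun a b => (Subgroup.mem_center_iff.1 (h ▸ Subgroup.mem_top b : b ∈ Subgroup.center S) a)⟩⟩
  have : ∃ t : S, t * x i * t⁻¹ * (x i)⁻¹ ≠ 1 := by
    by_contra hc2
    push Not at hc2
    apply hi
    rw [← Subgroup.mem_bot, ← hc, Subgroup.mem_center_iff]
    intro t
    have := hc2 t
    rw [mul_inv_eq_one, mul_inv_eq_iff_eq_mul] at this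
    exact this
  obtain ⟨t, ht⟩ := this
  set K := N.comap (MonoidHom.mulSingle (fun _ : Fin n => S) i) with hK
  have hmem : t * x i * t⁻¹ * (x i)⁻¹ ∈ K := by
    have h1 := N.mul_mem (hN.conj_mem x hx (Pi.mulSingle i t)) (N.inv_mem hx)
    change Pi.mulSingle i _ ∈ N
    convert h1 using 1
    ext j
    by_cases hj : j = i
    · subst hj; simp
    · simp [Pi.mulSingle_eq_of_ne hj]
  rcases (inferInstance : K.Normal).eq_bot_or_eq_top with h | h
  · rw [h] at hmem; exact absurd hmem ht
  · exact (h ▸ Subgroup.mem_top s : s ∈ K)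


/-- Let S be a non-abelian simple group and n a natural number. Every normal subgroup N of the direct power S^n (functions Fin n → S) is a subproduct: there is a set T of coordinates such that N consists exactly of the elements whose coordinates outside T are trivial. In particular the minimal normal subgroups of S^n are its n factors. -/
theorem result {S : Type*} [Group S] [IsSimpleGroup S] (hS : ¬ IsMulCommutative S) (n : ℕ)
    (N : Subgroup (Fin n → S)) [N.Normal] :
    ∃ T : Finset (Fin n), ∀ x : Fin n → S, x ∈ N ↔ ∀ i, i ∉ T → x i = 1 := by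
  classical
  refine ⟨Finset.univ.filter (fun i => ∃ x ∈ N, x i ≠ 1), fun x => ⟨fun hx i hi => ?_, fun hx => ?_⟩⟩
  · by_contra h
    exact hi (Finset.mem_filter.2 ⟨Finset.mem_univ _, x, hx, h⟩)
  · refine mem_of_single N x fun i => ?_
    by_cases h : x i = 1
    · rw [h, Pi.mulSingle_one]; exact N.one_mem
    · have := mt (hx i) h
      rw [not_not] at this
      obtain ⟨y, hy, hyi⟩ := (Finset.mem_filter.1 this).2
      exact single_mem hS N y hy i hyi _

end Cfsg.Agent.S5913
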