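import Cfsg.Statements.S5914
import Cfsg.Agent.S5913
import Cfsg.Agent.S0721

set_option autoImplicit false
open Cfsg

namespace Cfsg.Agent.S5914

theorem char_pi {S : Type*} [Group S] [IsSimpleGroup S] {n : ℕ} (H : Subgroup (Fin n → S)) (hH : H.Characteristic) :
    H = ⊥ ∨ H = ⊤ := by
  classical
  by_cases h0 : H = ⊥
  · exact Or.inl h0
  right
  obtain ⟨x, hx, hx1⟩ : ∃ x ∈ H, x ≠ 1 := by
    by_contra hc; push Not at hc
    exact h0 (eq_bot_iff.2 hc)
  obtain ⟨i, hi⟩ : ∃ i, x i ≠ 1 := by
    by_contra hc; push Not at hc
    exact hx1 (funext hc)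
  have haut : ∀ e : (Fin n → S) ≃* (Fin n → S), ∀ y ∈ H, e y ∈ H := fun e y hy =>
    (Subgroup.characteristic_iff_le_comap.1 hH e) hy
  have key : ∃ j, ∀ s : S, Pi.mulSingle j s ∈ H := by
    by_cases hS : IsMulCommutative S
    · have hc : ∀ a b : S, a * b = b * a := hS.is_comm.comm
      have : ∃ j, Pi.mulSingle j (x i) ∈ H := by
        by_cases hj : ∃ j, j ≠ i
        · obtain ⟨j, hj⟩ := hj
          let e : (Fin n → S) ≃* (Fin n → S) :=
            { toFun := fun y => y * Pi.mulSingle j (y i)
              invFun := fun y => y * (Pi.mulSingle j (y i))⁻¹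
              left_inv := fun y => by simp [Pi.mulSingle_eq_of_ne hj.symm]
              right_inv := fun y => by simp [Pi.mulSingle_eq_of_ne hj.symm]
              map_mul' := fun y z => by
                ext k
                by_cases hk : k = j
                · subst hk
                  simp only [Pi.mul_apply, Pi.mulSingle_eq_same]
                  rw [mul_assoc, mul_assoc, ← mul_assoc (z k), hc (z k) (y i), mul_assoc]
                · simp [Pi.mulSingle_eq_of_ne hk] }
          refine ⟨j, ?_⟩
          have := H.mul_mem (H.inv_mem hx) (haut e x hx)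
          simpa [e] using this
        · push Not at hj
          refine ⟨i, ?_⟩
          convert hx
          ext k
          rw [hj k]; simp
      obtain ⟨j, hj⟩ := this
      set K := H.comap (MonoidHom.mulSingle (fun _ : Fin n => S) j) with hK
      rcases (inferInstance : K.Normal).eq_bot_or_eq_top with h | h
      · have : x i ∈ K := hj
        rw [h] at this; exact absurd this hi
      · exact ⟨j, fun s => (h ▸ Subgroup.mem_top s : s ∈ K)⟩
    · exact ⟨i, S5913.single_mem hS H x hx i hi⟩
  obtain ⟨j, hj⟩ := key
  rw [eq_top_iff]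
  intro y _
  refine S5913.mem_of_single H y fun k => ?_
  have := haut (MulEquiv.arrowCongr (Equiv.swap j k) (MulEquiv.refl S)) _ (hj (y k))
  convert this using 1
  ext l
  by_cases hl : l = k
  · subst hl; simp
  · have : Equiv.swap j k l ≠ j := by
      intro h
      rw [Equiv.swap_apply_eq_iff] at h
      simp at h
      exact hl h
    simp [Pi.mulSingle_eq_of_ne hl, Pi.mulSingle_eq_of_ne this]


/-- A non-trivial finite group G is characteristically simple (its only characteristic subgroups are 1 and G) if and only if G is isomorphic to a direct power S^n (n ≥ 1) of some simple group S (possibly cyclic of prime order). -/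
theorem result {G : Type*} [Group G] [Finite G] [Nontrivial G] :
    (∀ H : Subgroup G, H.Characteristic → H = ⊥ ∨ H = ⊤) ↔
    ∃ (S : Type) (_ : Group S) (_ : IsSimpleGroup S) (n : ℕ), 1 ≤ n ∧ Nonempty (G ≃* (Fin n → S)) := by
  constructor
  · intro h
    let φ : MulAut G →* MulAut G := MonoidHom.id _
    haveI : Finite (G ⋊[φ] MulAut G) := Finite.of_equiv _ SemidirectProduct.equivProd.symm
    set N : Subgroup (G ⋊[φ] MulAut G) := (SemidirectProduct.inl : G →* G ⋊[φ] MulAut G).range with hN
    haveI : N.Normal := by
      rw [hN, SemidirectProduct.range_inl_eq_ker_rightHom]; infer_instance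
    have hN0 : N ≠ ⊥ := by
      intro h0
      obtain ⟨x, hx⟩ := exists_ne (1 : G)
      have : (SemidirectProduct.inl x : G ⋊[φ] MulAut G) ∈ N := ⟨x, rfl⟩
      rw [h0, Subgroup.mem_bot] at this
      exact hx (SemidirectProduct.inl_injective (this.trans (map_one _).symm))
    obtain ⟨T, _, m, hT, hm, ⟨e⟩⟩ := S0721.result N hN0 (fun M hM hMN => by
      have hc : (M.comap (SemidirectProduct.inl : G →* G ⋊[φ] MulAut G)).Characteristic := by
        rw [Subgroup.characteristic_iff_le_comap]
        intro a x hx
        have := hM.conj_mem _ hx (SemidirectProduct.inr a)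
        rw [← map_inv, ← SemidirectProduct.inl_aut] at this
        exact this
      rcases h _ hc with h1 | h1
      · left
        rw [eq_bot_iff]
        intro y hy
        obtain ⟨x, rfl⟩ := hMN hy
        have : x ∈ M.comap (SemidirectProduct.inl : G →* G ⋊[φ] MulAut G) := hy
        rw [h1, Subgroup.mem_bot] at this
        rw [this, map_one]; exact Subgroup.one_mem _
      · right
        refine le_antisymm hMN ?_
        rintro _ ⟨x, rfl⟩
        exact (h1 ▸ Subgroup.mem_top x : x ∈ M.comap (SemidirectProduct.inl : G →* G ⋊[φ] MulAut G)))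
    exact ⟨T, inferInstance, hT, m, hm, ⟨(MonoidHom.ofInjective SemidirectProduct.inl_injective).trans e⟩⟩
  · rintro ⟨S, _, _, n, -, ⟨e⟩⟩ H hH
    have hc : (H.map e.toMonoidHom).Characteristic := by
      rw [Subgroup.characteristic_iff_le_comap]
      rintro a _ ⟨x, hx, rfl⟩
      refine ⟨(e.trans (a.trans e.symm)) x, (Subgroup.characteristic_iff_le_comap.1 hH _) hx, by simp⟩
    rcases char_pi _ hc with h1 | h1
    · left
      exact (Subgroup.map_eq_bot_iff_of_injective _ e.injective).1 h1
    · right
      rw [eq_top_iff]
      intro x _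
      obtain ⟨y, hy, hyx⟩ : e x ∈ H.map e.toMonoidHom := h1 ▸ Subgroup.mem_top _
      rw [← e.injective hyx]; exact hy

end Cfsg.Agent.S5914
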