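import Cfsg.Statements.S5895
import Cfsg.Agent.S5914

set_option autoImplicit false
open Cfsg

namespace Cfsg.Agent.S5895


/-- For every prime p and every d ≥ 2 there is a finite group G with a maximal subgroup M of index p^d and a maximal subgroup H of M that is not second maximal in G: some maximal subgroup K of G contains H without H being maximal in K. (One may take G the affine group V ⋊ GL(V) of V = 𝔽_p^d, M = GL(V), H the stabiliser in M of a line W of V, and K = V ⋊ H, with H < W ⋊ H < K.) So the prime-index hypothesis in the second-maximality criterion cannot be relaxed to prime-power index. -/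
theorem result (p d : ℕ) (hp : p.Prime)
    (hd : 2 ≤ d) :
    ∃ (G : Type) (_ : Group G) (_ : Finite G) (M H K : Subgroup G), IsCoatom M ∧ M.index = p ^ d ∧ H ≤ M ∧
      IsCoatom (H.subgroupOf M) ∧ IsCoatom K ∧ H ≤ K ∧ ¬ IsCoatom (H.subgroupOf K) := by
  classical
  haveI := Fact.mk hp
  haveI : IsSimpleGroup (Multiplicative (ZMod p)) := isSimpleGroup_of_prime_card (p := p) (by simp)
  let N := Fin d → Multiplicative (ZMod p)
  let Irr : Subgroup (MulAut N) → Prop := fun A => ∀ U : Subgroup N, (∀ a ∈ A, ∀ u ∈ U, a u ∈ U) → U = ⊥ ∨ U = ⊤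
  have h1 : Irr ⊤ := fun U hU => S5914.char_pi U
    (Subgroup.characteristic_iff_le_comap.2 fun a u hu => hU a trivial u hu)
  have h0 : ¬ Irr ⊥ := by
    intro h
    rcases h (Pi.evalMonoidHom (fun _ => Multiplicative (ZMod p)) ⟨0, by omega⟩).ker (by
      rintro a rfl u hu; exact hu) with h | h
    · have : (Pi.mulSingle ⟨1, by omega⟩ (Multiplicative.ofAdd 1) : N) ∈
          (Pi.evalMonoidHom (fun _ => Multiplicative (ZMod p)) ⟨0, by omega⟩).ker := by
        simp [Pi.mulSingle_eq_of_ne]
      rw [h, Subgroup.mem_bot] at this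
      simpa using congrFun this ⟨1, by omega⟩
    · have : (fun _ => Multiplicative.ofAdd 1 : N) ∈
          (Pi.evalMonoidHom (fun _ => Multiplicative (ZMod p)) ⟨0, by omega⟩).ker := h ▸ Subgroup.mem_top _
      simp at this
  obtain ⟨A, hA, hmin⟩ := exists_minimal_of_wellFoundedLT Irr ⟨⊤, h1⟩
  haveI : Nontrivial A := (Subgroup.nontrivial_iff_ne_bot A).2 (fun h => h0 (h ▸ hA))
  obtain ⟨H0, hH0, -⟩ := (eq_top_or_exists_le_coatom (⊥ : Subgroup A)).resolve_left bot_ne_top
  obtain ⟨U, hU, hU0, hU1⟩ : ∃ U : Subgroup N, (∀ a ∈ H0, ∀ u ∈ U, (a : MulAut N) u ∈ U) ∧ U ≠ ⊥ ∧ U ≠ ⊤ := by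
    by_contra hc
    push Not at hc
    have : Irr (H0.map A.subtype) := fun U hU => by
      by_cases h : U = ⊥
      · exact Or.inl h
      · exact Or.inr (hc U (fun a ha u hu => hU _ ⟨a, ha, rfl⟩ u hu) h)
    apply hH0.1
    rw [eq_top_iff]
    intro a _
    obtain ⟨b, hb, hba⟩ := hmin this (Subgroup.map_subtype_le _) a.2
    rw [← Subtype.ext hba]; exact hb
  let G := N ⋊[A.subtype] A
  haveI : Finite G := Finite.of_equiv _ SemidirectProduct.equivProd.symm
  let L : Subgroup G :=
    { carrier := {g | g.left ∈ U ∧ g.right ∈ H0}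
      one_mem' := ⟨U.one_mem, H0.one_mem⟩
      mul_mem' := fun {a b} ha hb => ⟨U.mul_mem ha.1 (hU _ ha.2 _ hb.1), H0.mul_mem ha.2 hb.2⟩
      inv_mem' := fun {a} ha => ⟨hU _ (H0.inv_mem ha.2) _ (U.inv_mem ha.1), H0.inv_mem ha.2⟩ }
  have hL : H0.map (SemidirectProduct.inr : A →* G) ≤ L := by
    rintro _ ⟨a, ha, rfl⟩; exact ⟨U.one_mem, ha⟩
  have hLK : L ≤ H0.comap (SemidirectProduct.rightHom : G →* A) := fun g hg => hg.2
  refine ⟨G, inferInstance, inferInstance, (SemidirectProduct.inr : A →* G).range, H0.map SemidirectProduct.inr,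
    H0.comap SemidirectProduct.rightHom, ⟨fun h => ?_, fun K hK => ?_⟩, ?_, Subgroup.map_le_range _ _, ?_,
    Subgroup.isCoatom_comap_of_surjective SemidirectProduct.rightHom_surjective hH0, hL.trans hLK, fun h => ?_⟩
  · apply hU1
    rw [eq_top_iff]
    intro x _
    obtain ⟨a, ha⟩ : SemidirectProduct.inl x ∈ (SemidirectProduct.inr : A →* G).range := h ▸ Subgroup.mem_top _
    have := congrArg SemidirectProduct.left ha
    simp only [SemidirectProduct.left_inr, SemidirectProduct.left_inl] at this
    rw [← this]; exact U.one_mem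
  · rcases hA (K.comap (SemidirectProduct.inl : N →* G)) (fun a ha u hu => by
      have := K.mul_mem (K.mul_mem (hK.1 ⟨⟨a, ha⟩, rfl⟩) hu) (hK.1 ⟨⟨a, ha⟩⁻¹, rfl⟩)
      rw [← SemidirectProduct.inl_aut] at this
      exact this) with h | h
    · exfalso
      refine hK.2 fun g hg => ?_
      have h2 : g.left ∈ K.comap (SemidirectProduct.inl : N →* G) := by
        have := K.mul_mem hg (K.inv_mem (hK.1 ⟨g.right, rfl⟩))
        rw [mul_inv_eq_of_eq_mul (SemidirectProduct.inl_left_mul_inr_right g).symm] at this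
        exact this
      rw [h, Subgroup.mem_bot] at h2
      exact ⟨g.right, by rw [← SemidirectProduct.inl_left_mul_inr_right g, h2]; simp⟩
    · rw [eq_top_iff]
      intro g _
      rw [← SemidirectProduct.inl_left_mul_inr_right g]
      exact K.mul_mem (h.ge (Subgroup.mem_top _) : g.left ∈ K.comap (SemidirectProduct.inl : N →* G)) (hK.1 ⟨_, rfl⟩)
  · have := (SemidirectProduct.inr : A →* G).range.index_mul_card
    rw [← Nat.card_congr (MonoidHom.ofInjective SemidirectProduct.inr_injective).toEquiv, SemidirectProduct.card] at this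
    rw [Nat.eq_of_mul_eq_mul_right Nat.card_pos this]
    simp [N, Nat.card_fun]
  · have : (H0.map (SemidirectProduct.inr : A →* G)).subgroupOf (SemidirectProduct.inr : A →* G).range =
        H0.map (MonoidHom.ofInjective SemidirectProduct.inr_injective).toMonoidHom := by
      ext ⟨_, a, rfl⟩
      constructor
      · rintro ⟨b, hb, h⟩; exact ⟨b, hb, Subtype.ext h⟩
      · rintro ⟨b, hb, h⟩; exact ⟨b, hb, congrArg Subtype.val h⟩
    rw [this]
    exact (OrderIso.isCoatom_iff (MonoidHom.ofInjective SemidirectProduct.inr_injective).mapSubgroup H0).2 hH0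
  · rcases h.le_iff.1 (Subgroup.subgroupOf_mono _ hL) with h1 | h1
    · rw [Subgroup.subgroupOf_eq_top] at h1
      apply hU1
      rw [eq_top_iff]
      intro x _
      exact (h1 (x := SemidirectProduct.inl x) H0.one_mem).1
    · apply hU0
      rw [eq_bot_iff]
      intro u hu
      have h2 : SemidirectProduct.inl u ∈ L := ⟨hu, H0.one_mem⟩
      have h3 : (⟨_, hLK h2⟩ : H0.comap (SemidirectProduct.rightHom : G →* A)) ∈ L.subgroupOf _ := h2
      rw [h1] at h3
      obtain ⟨a, -, ha⟩ := h3
      exact (congrArg SemidirectProduct.left ha).symm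

end Cfsg.Agent.S5895
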