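import Cfsg.Statements.S5896
import Cfsg.Agent.Lib.Classical.Sym3
import Cfsg.Agent.S0810

set_option autoImplicit false
open Cfsg

namespace Cfsg.Agent.S5896
open Cfsg.Agent.Classical

open scoped commutatorElement
open RegularWreathProduct

theorem step {G : Type} [Group G] [Finite G] (H : Subgroup G) (hG : commutator G = ⊤) (hH : IsCoatom H)
    (hs : Group.IsSolvable H) {d : ℕ} (hd : derivedSeries H d ≠ ⊥) :
    ∃ (G : Type) (_ : Group G) (_ : Finite G) (H : Subgroup G), commutator G = ⊤ ∧ IsCoatom H ∧ Group.IsSolvable H ∧
      derivedSeries H (d + 1) ≠ ⊥ := by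
  classical
  obtain ⟨p, hp1, hp⟩ := Nat.exists_infinite_primes (Nat.card G + 1)
  haveI := Fact.mk hp
  let Γ := Multiplicative (ZMod p) ≀ᵣ G
  let el : (G → ZMod p) → Γ := fun f => ⟨fun y => Multiplicative.ofAdd (f y), 1⟩
  let π : commutator Γ →* G := (rightHom : Γ →* G).comp (Subgroup.subtype _)
  have hinl : ∀ x : G, (inl x : Γ) ∈ commutator Γ := by
    intro x
    have : Subgroup.map (inl : G →* Γ) (commutator G) ≤ commutator Γ := by
      rw [commutator_def, Subgroup.map_commutator]; exact Subgroup.commutator_mono le_top le_top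
    exact this ⟨x, hG ▸ Subgroup.mem_top x, rfl⟩
  have hπ : Function.Surjective π := fun x => ⟨⟨_, hinl x⟩, rfl⟩
  have hkc : ∀ a b : Γ, a.right = 1 → b.right = 1 → a * b = b * a := by
    intro a b ha hb
    ext y
    · simp [Γ, RegularWreathProduct.mul_left, ha, hb, mul_comm]
    · simp [Γ, RegularWreathProduct.mul_right, ha, hb]
  refine ⟨commutator Γ, inferInstance, inferInstance, H.comap π, ?_,
    Subgroup.isCoatom_comap_of_surjective hπ hH, ?_, ?_⟩
  · have h1 : commutator Γ ≤ ⁅commutator Γ, commutator Γ⁆ := by
      have h2 : ∀ x : G, (inl x : Γ) ∈ ⁅commutator Γ, commutator Γ⁆ := by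
        intro x
        have : Subgroup.map (inl : G →* Γ) (commutator G) ≤ ⁅commutator Γ, commutator Γ⁆ := by
          rw [commutator_def, Subgroup.map_commutator]
          have : Subgroup.map (inl : G →* Γ) ⊤ ≤ commutator Γ := by rintro _ ⟨y, -, rfl⟩; exact hinl y
          exact Subgroup.commutator_mono this this
        exact this ⟨x, hG ▸ Subgroup.mem_top x, rfl⟩
      rw [commutator_def, Subgroup.commutator_le]
      intro a _ b _
      set q := QuotientGroup.mk' ⁅commutator Γ, commutator Γ⁆ with hq
      have h3 : ∀ a : Γ, q a = q (a * (inl a.right)⁻¹) := by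
        intro a
        rw [map_mul, map_inv, show q (inl a.right) = 1 from (QuotientGroup.eq_one_iff _).2 (h2 a.right), inv_one, mul_one]
      rw [← QuotientGroup.eq_one_iff]
      change q _ = 1
      rw [map_commutatorElement, h3 a, h3 b, ← map_commutatorElement, commutatorElement_eq_one_iff_mul_comm.2
        (hkc _ _ (mul_inv_cancel _) (mul_inv_cancel _)), map_one]
    rw [← Subgroup.map_subtype_inj, Subgroup.map_subtype_commutator, ← MonoidHom.range_eq_map, Subgroup.range_subtype]
    exact le_antisymm (Subgroup.commutator_mono le_top le_top) h1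
  · let ρ : H.comap π →* H := π.subgroupComap H
    haveI : Group.IsSolvable ρ.ker := Group.isSolvable_of_comm fun a b => by
      refine Subtype.ext (Subtype.ext (Subtype.ext (hkc _ _ ?_ ?_)))
      · exact congrArg Subtype.val a.2
      · exact congrArg Subtype.val b.2
    exact Group.isSolvable_of_ker_le_range ρ.ker.subtype ρ (by simp)
  · obtain ⟨x, hx, hx1⟩ : ∃ x ∈ derivedSeries H d, x ≠ 1 := by
      by_contra hc; push Not at hc; exact hd (eq_bot_iff.2 hc)
    let T : Module.End (ZMod p) (G → ZMod p) := LinearMap.funLeft (ZMod p) (ZMod p) (fun y => (x : G)⁻¹ * y)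
    have hT : ∀ k f y, (T ^ k) f y = f (((x : G) ^ k)⁻¹ * y) := by
      intro k
      induction k with
      | zero => simp
      | succ k ih => intro f y; rw [pow_succ, Module.End.mul_apply, ih]; simp [T, pow_succ, mul_assoc]
    have hne : (T - 1) ^ (d + 2) ≠ 0 := by
      intro h
      have h1 : (T - 1) ^ p ^ (d + 2) = 0 :=
        pow_eq_zero_of_le (Nat.lt_pow_self hp.one_lt).le h
      haveI : CharP (Module.End (ZMod p) (G → ZMod p)) p :=
        charP_of_injective_algebraMap (algebraMap (ZMod p) _).injective p
      rw [sub_pow_char_pow_of_commute _ _ (Commute.one_right T), one_pow, sub_eq_zero] at h1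
      have h2 := hT (p ^ (d + 2)) (Pi.single 1 1) 1
      rw [h1] at h2
      have h3 : (x : G) ^ p ^ (d + 2) = 1 := by
        by_contra h4
        rw [Pi.single_eq_of_ne (by simpa using h4)] at h2
        simp at h2
      have h4 := orderOf_dvd_of_pow_eq_one h3
      obtain ⟨i, -, hi⟩ := (Nat.dvd_prime_pow hp).1 h4
      rcases i with _ | i
      · exact hx1 (Subtype.ext (by simpa using hi))
      · have := Nat.le_of_dvd Nat.card_pos ((hi ▸ dvd_pow_self p (by omega) : p ∣ orderOf (x : G)).trans
          (orderOf_dvd_natCard _))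
        omega
    obtain ⟨f, hf⟩ : ∃ f, ((T - 1) ^ (d + 2)) f ≠ 0 := by
      by_contra hc; push Not at hc; exact hne (LinearMap.ext hc)
    have hcom : ∀ f, ⁅(inl (x : G) : Γ), el f⁆ = el ((T - 1) f) := by
      intro f
      ext y
      · simp [commutatorElement_def, el, T, sub_eq_add_neg]
      · simp [commutatorElement_def, el]
    let ι : H →* H.comap π := ((inl : G →* Γ).comp H.subtype).codRestrict (commutator Γ) (fun y => hinl _)
      |>.codRestrict _ (fun y => y.2)
    have key : ∀ k, k ≤ d + 1 → ∃ w ∈ derivedSeries (H.comap π) k, ((w : commutator Γ) : Γ) = el (((T - 1) ^ (k + 1)) f) := by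
      intro k
      induction k with
      | zero =>
        intro _
        refine ⟨⟨⟨el ((T - 1) f), ?_⟩, H.one_mem⟩, trivial, by simp⟩
        rw [← hcom]
        exact Subgroup.commutator_mem_commutator trivial trivial
      | succ k ih =>
        intro hk
        obtain ⟨w, hw, hw2⟩ := ih (by omega)
        refine ⟨⁅ι x, w⁆, Subgroup.commutator_mem_commutator ?_ hw, ?_⟩
        · exact map_derivedSeries_le_derivedSeries ι k ⟨x, derivedSeries_antitone _ (by omega) hx, rfl⟩
        · rw [pow_succ', Module.End.mul_apply, ← hcom, ← hw2]; rfl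
    obtain ⟨w, hw, hw2⟩ := key (d + 1) le_rfl
    intro h
    rw [h, Subgroup.mem_bot] at hw
    apply hf
    funext y
    rw [hw] at hw2
    exact (congrFun (congrArg RegularWreathProduct.left hw2) y).symm


/-- Finite perfect groups have solvable maximal subgroups of unbounded derived length: for every d there is a finite perfect group G (equal to its commutator subgroup) with a solvable maximal subgroup H whose derived length exceeds d, i.e. the d-th term of the derived series of H is non-trivial. (Take the derived subgroup of a wreath product S ≀ A₅ with S solvable of large derived length, and H the preimage of a maximal subgroup of A₅.) -/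
theorem result (d : ℕ) :
    ∃ (G : Type) (_ : Group G) (_ : Finite G) (H : Subgroup G), commutator G = ⊤ ∧ IsCoatom H ∧ Group.IsSolvable H ∧
      derivedSeries H d ≠ ⊥ := by
  induction d with
  | zero =>
    haveI := alternatingGroup.isPreprimitive_of_three_le_card (Fin 5) (by simp)
    refine ⟨alternatingGroup (Fin 5), inferInstance, inferInstance, MulAction.stabilizer _ (0 : Fin 5),
      commutator_alternatingGroup_eq_top (by simp), MulAction.IsPreprimitive.isCoatom_stabilizer_of_isPreprimitive _ _,
      ?_, ?_⟩
    · obtain ⟨e⟩ := Sym.stab_equiv (0 : Fin 5) (n := 4) (by simp)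
      haveI := S0810.solvable_S4
      let j : MulAction.stabilizer (alternatingGroup (Fin 5)) (0 : Fin 5) →* MulAction.stabilizer (Equiv.Perm (Fin 5)) (0 : Fin 5) :=
        ((Subgroup.subtype _).comp (Subgroup.subtype _)).codRestrict _ (fun y => y.2)
      exact Group.isSolvable_of_isSolvable_injective (f := e.toMonoidHom.comp j)
        (e.injective.comp fun a b h => Subtype.ext (Subtype.ext (congrArg Subtype.val h : (j a).1 = (j b).1)))
    · intro h
      have : (⟨⟨_, Sym.dbl_mem_A (show (1 : Fin 5) ≠ 2 by decide) (show (3 : Fin 5) ≠ 4 by decide)⟩, by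
        rw [MulAction.mem_stabilizer_iff]; decide⟩ : MulAction.stabilizer (alternatingGroup (Fin 5)) (0 : Fin 5)) ∈
          derivedSeries _ 0 := trivial
      rw [h, Subgroup.mem_bot] at this
      exact absurd (congrArg (fun u => u.1.1) this) (by decide)
  | succ d ih =>
    obtain ⟨G, _, _, H, h1, h2, h3, h4⟩ := ih
    exact step H h1 h2 h3 h4

end Cfsg.Agent.S5896
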