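import Cfsg.Statements.S5902
import Cfsg.Agent.Lib.Classical.Lat1

set_option autoImplicit false
open Cfsg

namespace Cfsg.Agent.S5902
open Cfsg.Agent.Classical

theorem exists_conj_not_le {G : Type*} [Group G] (M H : Subgroup G) (hH : ¬ H ≤ M.normalCore) :
    ∃ g : G, ¬ H ≤ M.map (MulAut.conj g).toMonoidHom := by
  by_contra hc
  push Not at hc
  apply hH
  intro x hx b
  obtain ⟨m, hm, hmx⟩ := hc b⁻¹ hx
  have : b * x * b⁻¹ = m := by
    rw [← hmx]; simp [mul_assoc]
  rw [this]; exact hm


/-- Let G be a finite group, X a subgroup whose own subgroup lattice is complemented, and suppose X lies in exactly one maximal subgroup M of G. Then every subgroup H of G not contained in the normal core of M has a complement in the subgroup lattice of G (some C with H ⊔ C = G and H ⊓ C = 1); in particular the subgroup lattice of G modulo the normal core of M is complemented. -/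
theorem result {G : Type*} [Group G] [Finite G] (X M : Subgroup G)
    (hK : ComplementedLattice (Subgroup X))
    (hM : IsCoatom M) (hXM : X ≤ M) (huniq : ∀ M' : Subgroup G, IsCoatom M' → X ≤ M' → M' = M) :
    (∀ H : Subgroup G, ¬ H ≤ M.normalCore → ∃ C : Subgroup G, H ⊔ C = ⊤ ∧ H ⊓ C = ⊥) ∧
    ComplementedLattice (Subgroup (G ⧸ M.normalCore)) := by
  have hbot : ∀ Y : Subgroup G, ⊥ ≤ Y → Y ≤ X → ∃ C : Subgroup G, ⊥ ≤ C ∧ C ≤ X ∧ Y ⊔ C = X ∧ Y ⊓ C = ⊥ := by
    intro Y _ hY
    obtain ⟨C, h1, h2, h3⟩ := Lat.interval_of_compl X hK Y hY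
    exact ⟨C, bot_le, h1, h2, h3⟩
  refine ⟨fun H hH => ?_, ?_⟩
  · obtain ⟨g, hg⟩ := exists_conj_not_le M H hH
    obtain ⟨C, -, h1, h2⟩ := Lat.compl_of_interval_conj ⊥ X M bot_le hbot huniq H (MulAut.conj g) hg
    exact ⟨C, h1, by rw [h2]; simp⟩
  · set N := M.normalCore with hN
    have hNM : N ≤ M := M.normalCore_le
    have hint : ∀ Y : Subgroup G, N ≤ Y → Y ≤ X ⊔ N → ∃ C : Subgroup G, N ≤ C ∧ C ≤ X ⊔ N ∧ Y ⊔ C = X ⊔ N ∧ Y ⊓ C = N := by
      intro Y hNY hY
      obtain ⟨C, h1, h2, h3⟩ := Lat.interval_of_compl X hK (Y ⊓ X) inf_le_right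
      refine ⟨C ⊔ N, le_sup_right, sup_le_sup_right h1 _, ?_, ?_⟩
      · apply le_antisymm (sup_le hY (sup_le_sup_right h1 _))
        refine sup_le ?_ (le_sup_right.trans le_sup_right)
        rw [← h2]
        exact sup_le (inf_le_left.trans le_sup_left) (le_sup_left.trans le_sup_right)
      · apply le_antisymm ?_ (le_inf hNY le_sup_right)
        rintro y ⟨hy, hy2⟩
        have hy3 : y ∈ ((C ⊔ N : Subgroup G) : Set G) := hy2
        rw [Subgroup.mul_normal] at hy3
        obtain ⟨c, hc, n, hn, rfl⟩ := hy3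
        have hcY : c ∈ Y := by
          have := Y.mul_mem hy (Y.inv_mem (hNY hn))
          simpa using this
        have : c ∈ Y ⊓ X ⊓ C := ⟨⟨hcY, h1 hc⟩, hc⟩
        rw [h3, Subgroup.mem_bot] at this
        simpa [this] using hn
    have huniq' : ∀ M' : Subgroup G, IsCoatom M' → X ⊔ N ≤ M' → M' = M :=
      fun M' h1 h2 => huniq M' h1 (le_sup_left.trans h2)
    set π := QuotientGroup.mk' N with hπ
    have hker : π.ker = N := QuotientGroup.ker_mk' _
    have hsurj : Function.Surjective π := QuotientGroup.mk'_surjective _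
    refine ⟨fun H => ?_⟩
    by_cases hH : H = ⊥
    · exact ⟨⊤, hH ▸ isCompl_bot_top⟩
    have hH2 : ¬ H.comap π ≤ N := by
      intro h
      apply hH
      rw [← Subgroup.map_comap_eq_self_of_surjective hsurj H, eq_bot_iff, Subgroup.map_le_iff_le_comap,
        MonoidHom.comap_bot, hker]
      exact h
    obtain ⟨g, hg⟩ := exists_conj_not_le M _ hH2
    obtain ⟨C, h0, h1, h2⟩ := Lat.compl_of_interval_conj N (X ⊔ N) M le_sup_right hint huniq' _ (MulAut.conj g) hg
    have hNc : N.map (MulAut.conj g).toMonoidHom = N := Subgroup.Normal.map_conj_eq N g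
    rw [hNc] at h0 h2
    refine ⟨C.map π, ?_⟩
    have hHc : (H.comap π).map π = H := Subgroup.map_comap_eq_self_of_surjective hsurj H
    constructor
    · rw [disjoint_iff, eq_bot_iff]
      rintro _ ⟨hx, c, hc, rfl⟩
      have : c ∈ H.comap π ⊓ C := ⟨hx, hc⟩
      rw [h2] at this
      have := this.2
      rw [← hker] at this
      exact this
    · rw [codisjoint_iff, ← hHc, ← Subgroup.map_sup, h1]
      exact Subgroup.map_top_of_surjective _ hsurj

end Cfsg.Agent.S5902
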