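import Cfsg.Statements.S5903
import Cfsg.Agent.Lib.Classical.Lat1

set_option autoImplicit false
open Cfsg

namespace Cfsg.Agent.S5903
open Cfsg.Agent.Classical


/-- Let G be a finite simple group, X a subgroup lying in exactly one maximal subgroup M of G, and N a subgroup of prime order with N ≤ X that is central in M. If the subgroup lattice of X/N is complemented, then the subgroup lattice of G is complemented. -/
theorem result {G : Type*} [Group G] [Finite G] [IsSimpleGroup G] (X M N : Subgroup G)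
    (hM : IsCoatom M) (hXM : X ≤ M) (huniq : ∀ M' : Subgroup G, IsCoatom M' → X ≤ M' → M' = M)
    (hNX : N ≤ X) (hN : (Nat.card N).Prime) (hcen : ∀ n ∈ N, ∀ m ∈ M, m * n = n * m)
    [(N.subgroupOf X).Normal] (hK : ComplementedLattice (Subgroup (X ⧸ N.subgroupOf X))) :
    ComplementedLattice (Subgroup G) := by
  refine ⟨fun H => ?_⟩
  by_cases hH0 : H = ⊥
  · exact ⟨⊤, hH0 ▸ isCompl_bot_top⟩
  by_cases hH1 : H = ⊤
  · exact ⟨⊥, hH1 ▸ isCompl_top_bot⟩
  have key : ∃ g : G, ¬ H ≤ M.map (MulAut.conj g).toMonoidHom ∧ ¬ N.map (MulAut.conj g).toMonoidHom ≤ H := by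
    by_contra hc
    push Not at hc
    have hnorm : Subgroup.normalClosure (N : Set G) ≤ Subgroup.normalizer (H : Set G) := by
      rw [Subgroup.normalClosure, Subgroup.closure_le]
      intro y hy
      obtain ⟨n, hn, hny⟩ := Group.mem_conjugatesOfSet_iff.1 hy
      obtain ⟨g, rfl⟩ := isConj_iff.1 hny
      by_cases h : H ≤ M.map (MulAut.conj g).toMonoidHom
      · apply Subgroup.centralizer_le_normalizer
        intro x hx
        obtain ⟨m, hm, rfl⟩ := h hx
        have := hcen n hn m hm
        simp only [MulEquiv.toMonoidHom_eq_coe, MonoidHom.coe_coe, MulAut.conj_apply]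
        calc g * m * g⁻¹ * (g * n * g⁻¹) = g * (m * n) * g⁻¹ := by group
          _ = g * (n * m) * g⁻¹ := by rw [this]
          _ = _ := by group
      · exact H.le_normalizer (hc g h ⟨n, hn, rfl⟩)
    rcases (inferInstance : (Subgroup.normalClosure (N : Set G)).Normal).eq_bot_or_eq_top with h | h
    · have : N = ⊥ := eq_bot_iff.2 (h ▸ Subgroup.le_normalClosure)
      rw [this] at hN
      simp at hN
      exact Nat.not_prime_one hN
    · rw [h, top_le_iff, Subgroup.normalizer_eq_top_iff] at hnorm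
      rcases hnorm.eq_bot_or_eq_top with h | h
      · exact hH0 h
      · exact hH1 h
  obtain ⟨g, hg1, hg2⟩ := key
  have hint : ∀ Y : Subgroup G, N ≤ Y → Y ≤ X → ∃ C : Subgroup G, N ≤ C ∧ C ≤ X ∧ Y ⊔ C = X ∧ Y ⊓ C = N :=
    fun Y h1 h2 => Lat.interval_of_quot X N hNX hK Y h1 h2
  obtain ⟨C, -, h1, h2⟩ := Lat.compl_of_interval_conj N X M hNX hint huniq H (MulAut.conj g) hg1
  refine ⟨C, ?_, codisjoint_iff.2 h1⟩
  rw [disjoint_iff, h2]
  set N' := N.map (MulAut.conj g).toMonoidHom
  have hcard : Nat.card N' = Nat.card N := Subgroup.card_map_of_injective (MulAut.conj g).injective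
  haveI : Fact (Nat.card N').Prime := ⟨hcard ▸ hN⟩
  rcases Subgroup.eq_bot_or_eq_top_of_prime_card ((H ⊓ N').subgroupOf N') with h | h
  · rw [Subgroup.subgroupOf_eq_bot] at h
    exact h.eq_bot_of_le inf_le_right
  · rw [Subgroup.subgroupOf_eq_top] at h
    exact absurd (h.trans inf_le_left) hg2

end Cfsg.Agent.S5903
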