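import Cfsg.Statements.S5904
import Cfsg.Agent.Lib.Classical.Sym1

set_option autoImplicit false
open scoped Pointwise
open Cfsg

namespace Cfsg.Agent.S5904
open Cfsg.Agent.Classical


/-- Let Ω be a finite set with more than two elements and O ⊆ Ω a subset with exactly as many elements as its complement. Then the setwise stabilizer of O in the symmetric group on Ω is not a maximal subgroup (it is properly contained in the stabilizer of the partition {O, Ω ∖ O}, which is proper). -/
theorem result {Ω : Type*} [Fintype Ω] [DecidableEq Ω] (hΩ : 2 < Fintype.card Ω)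
    (O : Set Ω) (hO : Nat.card O = Nat.card ↥Oᶜ) :
    ¬ IsCoatom (MulAction.stabilizer (Equiv.Perm Ω) O) := by
  classical
  have hc : Nat.card O + Nat.card ↥Oᶜ = Fintype.card Ω := by
    rw [Nat.card_coe_set_eq, Nat.card_coe_set_eq, Set.ncard_add_ncard_compl, Nat.card_eq_fintype_card]
  let f : Ω → Prop := fun x => x ∈ O
  have hf : ∀ i, Nat.card {x : Ω // f x = i} = Nat.card O := by
    intro i
    by_cases hi : i
    · exact Nat.card_congr (Equiv.subtypeEquivRight fun x => by simp [f, hi])
    · rw [hO]
      exact Nat.card_congr (Equiv.subtypeEquivRight fun x => by simp [f, hi])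
  have h1 := Sym.isCoatom_W hf (by omega)
  intro h
  have hle : MulAction.stabilizer (Equiv.Perm Ω) O ≤ Sym.W f := by
    intro g hg
    refine Sym.mem_W_of_semiconj id Function.injective_id fun x => propext ?_
    exact (MulAction.mem_stabilizer_set.1 hg x)
  have := (h.le_iff.1 hle).resolve_left h1.1
  obtain ⟨x, -, -, hx, -⟩ := Sym.exists_two hf (by omega) True
  obtain ⟨y, -, -, hy, -⟩ := Sym.exists_two hf (by omega) False
  obtain ⟨w, hw, e, -⟩ := Sym.W_diff hf (x := x) (y := y) (u := y) (v := x) (by simp [hx, hy]) (by simp [hx, hy])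
  rw [this] at hw
  have h2 := MulAction.mem_stabilizer_set.1 hw x
  change f (w x) ↔ f x at h2
  rw [e, hx, hy] at h2
  simp at h2

end Cfsg.Agent.S5904
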