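import Cfsg.Statements.S5908
import Cfsg.Agent.Lib.Classical.Lat1
import Cfsg.Agent.S0827

set_option autoImplicit false
open Cfsg

namespace Cfsg.Agent.S5908
open Cfsg.Agent.Classical

theorem compl_of_surj {G H : Type*} [Group G] [Group H] (f : G →* H) (hf : Function.Surjective f)
    (h : ComplementedLattice (Subgroup G)) : ComplementedLattice (Subgroup H) := by
  refine ⟨fun K => ?_⟩
  obtain ⟨C, hC⟩ := exists_isCompl (K.comap f)
  refine ⟨C.map f, ?_, ?_⟩
  · rw [disjoint_iff, eq_bot_iff]
    rintro _ ⟨hx, c, hc, rfl⟩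
    have : c ∈ K.comap f ⊓ C := ⟨hx, hc⟩
    rw [hC.inf_eq_bot, Subgroup.mem_bot] at this
    rw [this, map_one]; exact Subgroup.one_mem _
  · rw [codisjoint_iff, ← Subgroup.map_comap_eq_self_of_surjective hf K, ← Subgroup.map_sup, hC.sup_eq_top]
    exact Subgroup.map_top_of_surjective _ hf

theorem q8_aux : ∀ x : QuaternionGroup 2, x = 1 ∨ x = QuaternionGroup.a 2 ∨ x * x = QuaternionGroup.a 2 := by decide


/-- The subgroup lattice of PSU₃(2) (the solvable group of order 72, realised over the field with 4 elements) is not complemented: some subgroup H has no subgroup X with H ⊔ X = ⊤ and H ⊓ X = ⊥. -/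
theorem result {F : Type*} [Field F] [Fintype F] (hF : Fintype.card F = 4) :
    ¬ ComplementedLattice (Subgroup (Cfsg.PSU 3 F 2)) := by
  intro h
  obtain ⟨N, _, -, -, ⟨e⟩⟩ := S0827.result hF
  have h2 := compl_of_surj (e.toMonoidHom.comp (QuotientGroup.mk' N))
    (e.surjective.comp (QuotientGroup.mk'_surjective N)) h
  obtain ⟨C, hC⟩ := exists_isCompl (Subgroup.zpowers (QuaternionGroup.a 2 : QuaternionGroup 2))
  have hz : (QuaternionGroup.a 2 : QuaternionGroup 2) ∉ C := by
    intro hz
    have : (QuaternionGroup.a 2 : QuaternionGroup 2) ∈ Subgroup.zpowers (QuaternionGroup.a 2 : QuaternionGroup 2) ⊓ C :=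
      ⟨Subgroup.mem_zpowers _, hz⟩
    rw [hC.inf_eq_bot, Subgroup.mem_bot] at this
    exact absurd this (by decide)
  have hC0 : C = ⊥ := by
    rw [eq_bot_iff]
    intro x hx
    rcases q8_aux x with h | h | h
    · exact h
    · exact absurd (h ▸ hx) hz
    · exact absurd (h ▸ C.mul_mem hx hx) hz
  have h3 := hC.sup_eq_top
  rw [hC0, sup_bot_eq] at h3
  have h4 : (QuaternionGroup.a 1 : QuaternionGroup 2) ∈ Subgroup.zpowers (QuaternionGroup.a 2 : QuaternionGroup 2) :=
    h3 ▸ Subgroup.mem_top _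
  have h5 : ∀ x ∈ Subgroup.zpowers (QuaternionGroup.a 2 : QuaternionGroup 2), x * x = 1 := by
    rintro _ ⟨k, rfl⟩
    change _ ^ k * _ ^ k = _
    rw [← (Commute.refl _).mul_zpow]
    have : (QuaternionGroup.a 2 : QuaternionGroup 2) * QuaternionGroup.a 2 = 1 := by decide
    rw [this, one_zpow]
  exact absurd (h5 _ h4) (by decide)

end Cfsg.Agent.S5908
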