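import Cfsg.Statements.S5909
import Cfsg.Agent.Lib.Classical.Sym1

set_option autoImplicit false
open Cfsg

namespace Cfsg.Agent.S5909
open Cfsg.Agent.Classical


/-- Let Ω be a finite set whose size is not 8, and f : Ω → Fin b a labelling with b ≥ 2 whose fibres all have the same size a ≥ 2 (a partition into b blocks of size a). Then the even permutations preserving the partition — the intersection of the imprimitive wreath product S_a ≀ S_b with the alternating group — form a maximal subgroup of the alternating group on Ω. -/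
theorem result {Ω : Type*} [Fintype Ω] [DecidableEq Ω] (h8 : Fintype.card Ω ≠ 8) (a b : ℕ) (ha : 2 ≤ a) (hb : 2 ≤ b)
    (f : Ω → Fin b) (hf : ∀ i : Fin b, Nat.card {x : Ω // f x = i} = a) :
    IsCoatom ((Subgroup.closure {g : Equiv.Perm Ω | ∀ x y : Ω, f x = f y ↔ f (g x) = f (g y)} ⊓ alternatingGroup Ω).subgroupOf (alternatingGroup Ω)) := by
  haveI : Nontrivial (Fin b) := Fin.nontrivial_iff_two_le.2 hb
  rw [Sym.closure_W]
  have hcard : Fintype.card Ω = b * a := by
    rw [← Nat.card_eq_fintype_card, ← Nat.card_congr (Equiv.sigmaFiberEquiv f), Nat.card_sigma]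
    simp only [hf]
    simp
  constructor
  · obtain ⟨x, y, z, h1, h2, h3, h4, h5⟩ := Sym.W_ne_top hf ha
    intro h
    rw [Subgroup.subgroupOf_eq_top] at h
    have := ((h (Sym.dbl_mem_A h2 h1)).1 x y).1 h4
    simp only [Equiv.Perm.mul_apply, Equiv.swap_apply_left, Equiv.swap_apply_right] at this
    rw [Equiv.swap_apply_of_ne_of_ne h1.symm h3, ← h4] at this
    exact h5 this
  · intro K hK
    have hK1 : Sym.W f ⊓ alternatingGroup Ω ≤ K.map (alternatingGroup Ω).subtype := by
      rw [← Subgroup.map_subgroupOf_eq_of_le (inf_le_right : Sym.W f ⊓ alternatingGroup Ω ≤ alternatingGroup Ω)]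
      exact Subgroup.map_mono hK.1
    have hK2 : ¬ K.map (alternatingGroup Ω).subtype ≤ Sym.W f := fun h =>
      hK.2 fun g hg => ⟨h ⟨g, hg, rfl⟩, g.2⟩
    suffices h : alternatingGroup Ω ≤ K.map (alternatingGroup Ω).subtype by
      rw [eq_top_iff]
      intro g _
      obtain ⟨k, hk, hkg⟩ := h g.2
      rw [← Subtype.ext hkg]; exact hk
    by_cases h3 : 3 ≤ a
    · exact Sym.alt_le_of_three hf h3 hK1 hK2
    obtain rfl : a = 2 := by omega
    by_cases h5 : 5 ≤ b
    · exact Sym.alt_le_of_five (by simpa using h5) hf hK1 hK2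
    have : b = 2 ∨ b = 3 := by omega
    rcases this with rfl | rfl
    · have hA : Nat.card (alternatingGroup Ω) = 12 :=
        alternatingGroup.card_of_card_eq_four (by rw [Nat.card_eq_fintype_card, hcard])
      haveI : MulAction.IsPretransitive ↥(Sym.W f ⊓ alternatingGroup Ω) Ω := ⟨fun x u => by
        obtain ⟨y, hy, hy2⟩ := Sym.exists_partner hf le_rfl x
        obtain ⟨v, hv, hv2⟩ := Sym.exists_partner hf le_rfl u
        obtain ⟨w, hw, e, -⟩ := Sym.WA_same hf le_rfl hy2.symm hv2.symm hy.symm hv.symm
        exact ⟨⟨w, hw⟩, e⟩⟩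
      obtain ⟨x, -⟩ := Sym.W_ne_top hf le_rfl
      have h4 : 4 ∣ Nat.card ↥(Sym.W f ⊓ alternatingGroup Ω) := by
        have := MulAction.index_stabilizer_of_transitive ↥(Sym.W f ⊓ alternatingGroup Ω) x
        rw [Nat.card_eq_fintype_card, hcard] at this
        exact (show 4 = _ from this.symm) ▸ Subgroup.index_dvd_card _
      have hlt : Nat.card ↥(Sym.W f ⊓ alternatingGroup Ω) < Nat.card (K.map (alternatingGroup Ω).subtype) := by
        refine lt_of_le_of_ne (Subgroup.card_le_of_le hK1) fun h => hK2 ?_
        rw [← Subgroup.eq_of_le_of_card_ge hK1 h.ge]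
        exact inf_le_left
      have h6 := h4.trans (Subgroup.card_dvd_of_le hK1)
      have h7 := Subgroup.card_dvd_of_le (Subgroup.map_subtype_le K)
      have h8 := Nat.le_of_dvd Nat.card_pos h4
      refine (Subgroup.eq_of_le_of_card_ge (Subgroup.map_subtype_le K) ?_).ge
      rw [hA] at h7 ⊢
      have h9 := Nat.le_of_dvd (by norm_num) h7
      generalize Nat.card (K.map (alternatingGroup Ω).subtype) = m at *
      have : 4 < m := by omega
      interval_cases m <;> omega
    · exact Sym.alt_le_of_six hf hK1 hK2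

end Cfsg.Agent.S5909
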