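import Cfsg.Statements.S5910
import Cfsg.Agent.Lib.Classical.Sym1

set_option autoImplicit false
open Cfsg

namespace Cfsg.Agent.S5910
open Cfsg.Agent.Classical

open Equiv Equiv.Perm

abbrev R4 (i j k l : Fin 4) : Prop := i.val ^^^ j.val ^^^ k.val ^^^ l.val = 0
abbrev R (p q r s : Fin 4 × Fin 2) : Prop := R4 p.1 q.1 r.1 s.1 ∧ p.2 + q.2 + r.2 + s.2 = 0

def K0 : Subgroup (Perm (Fin 4 × Fin 2)) where
  carrier := {g | ∀ p q r s, R p q r s ↔ R (g p) (g q) (g r) (g s)}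
  one_mem' := fun _ _ _ _ => Iff.rfl
  mul_mem' := fun {a b} ha hb p q r s => (hb p q r s).trans (ha _ _ _ _)
  inv_mem' := fun {a} ha p q r s => by
    have := ha (a⁻¹ p) (a⁻¹ q) (a⁻¹ r) (a⁻¹ s)
    simp only [Perm.coe_inv, apply_symm_apply] at this
    exact this.symm

theorem a1 : ∀ σ : Perm (Fin 4), ∀ i j k l, R4 i j k l ↔ R4 (σ i) (σ j) (σ k) (σ l) := by decide +kernel
theorem a2 : ∀ τ : Perm (Fin 2), (∀ t, τ t = t + τ 0) ∧ sign τ = if τ 0 = 0 then 1 else -1 := by decide +kernel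
theorem a3 : ∀ ε : Fin 4 → Fin 2, (∏ i, if ε i = 0 then (1 : ℤˣ) else -1) = 1 →
    ∀ i j k l, R4 i j k l → ε i + ε j + ε k + ε l = 0 := by decide +kernel

theorem le_K0 : Sym.W (Prod.fst : Fin 4 × Fin 2 → Fin 4) ⊓ alternatingGroup _ ≤ K0 := by
  rintro g ⟨hg, hs⟩
  have h1 : ∀ i t, (g (i, t)).1 = (g (i, 0)).1 := fun i t => (hg _ _).1 rfl
  let σ : Perm (Fin 4) := Equiv.ofBijective (fun i => (g (i, 0)).1)
    (Finite.injective_iff_bijective.1 fun i j h => (hg (i, 0) (j, 0)).2 h)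
  let τ : Fin 4 → Perm (Fin 2) := fun i => Equiv.ofBijective (fun t => (g (i, t)).2)
    (Finite.injective_iff_bijective.1 fun t u h =>
      (Prod.ext_iff.1 (g.injective (Prod.ext ((h1 i t).trans (h1 i u).symm) h))).2)
  have h2 : g = (prodCongrLeft fun _ => σ : Perm (Fin 4 × Fin 2)) * prodCongrRight τ := by
    refine Equiv.ext fun ⟨i, t⟩ => Prod.ext (h1 i t) rfl
  have h3 : ∀ p, g p = (σ p.1, p.2 + τ p.1 0) := fun ⟨i, t⟩ => Prod.ext (h1 i t) ((a2 (τ i)).1 t)
  have hs' : sign g = 1 := hs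
  rw [h2, map_mul, sign_prodCongrLeft, sign_prodCongrRight] at hs'
  simp only [Fin.prod_univ_two, Int.units_mul_self, one_mul, fun i => (a2 (τ i)).2] at hs'
  intro p q r s
  simp only [h3, R, ← a1 σ]
  refine and_congr_right fun h => ?_
  have := a3 (fun i => τ i 0) hs' _ _ _ _ h
  have e : p.2 + τ p.1 0 + (q.2 + τ q.1 0) + (r.2 + τ r.1 0) + (s.2 + τ s.1 0) =
    p.2 + q.2 + r.2 + s.2 + (τ p.1 0 + τ q.1 0 + τ r.1 0 + τ s.1 0) := by abel
  rw [e, this, add_zero]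

def c3 : Fin 4 × Fin 2 → Fin 4 × Fin 2 := fun p =>
  (![![(0, 0), (1, 0)], ![(2, 0), (3, 0)], ![(0, 1), (1, 1)], ![(2, 1), (3, 1)]] : Fin 4 → Fin 2 → Fin 4 × Fin 2) p.1 p.2

def g3 : Perm (Fin 4 × Fin 2) := ⟨c3, c3 ∘ c3, by decide, by decide⟩

theorem g3_mem : g3 ∈ K0 := by
  change ∀ p q r s, R p q r s ↔ R (g3 p) (g3 q) (g3 r) (g3 s)
  decide +kernel

theorem g3_A : g3 ∈ alternatingGroup (Fin 4 × Fin 2) := by
  have : g3 = (g3 * g3) * (g3 * g3) := by decide +kernel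
  rw [mem_alternatingGroup, this, map_mul, Int.units_mul_self]


/-- Let Ω be a set with 8 elements and f : Ω → Fin 4 a labelling whose four fibres all have size 2 (a partition of the 8 points into 4 pairs). Then the group of even permutations preserving this partition, (S₂ ≀ S₄) ∩ A₈, is not a maximal subgroup of the alternating group A₈ (it lies in a subgroup isomorphic to the affine group AGL₃(2)). -/
theorem result {Ω : Type*} [Fintype Ω] [DecidableEq Ω] (h8 : Fintype.card Ω = 8)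
    (f : Ω → Fin 4) (hf : ∀ i : Fin 4, Nat.card {x : Ω // f x = i} = 2) :
    ¬ IsCoatom ((Subgroup.closure {g : Equiv.Perm Ω | ∀ x y : Ω, f x = f y ↔ f (g x) = f (g y)} ⊓ alternatingGroup Ω).subgroupOf (alternatingGroup Ω)) := by
  rw [Sym.closure_W]
  have e0 : ∀ c, {x // f x = c} ≃ {p : Fin 4 × Fin 2 // p.1 = c} := fun c =>
    (Finite.card_eq.1 (by rw [hf, Nat.card_eq_fintype_card]; revert c; decide)).some
  let e : Ω ≃ Fin 4 × Fin 2 := Equiv.ofFiberEquiv e0
  have he : ∀ x, (e x).1 = f x := Equiv.ofFiberEquiv_map e0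
  let φ : Perm Ω ≃* Perm (Fin 4 × Fin 2) := e.permCongrHom
  have hφ : ∀ g x, φ g (e x) = e (g x) := fun g x => by simp [φ]
  have hA : ∀ g, φ g ∈ alternatingGroup _ ↔ g ∈ alternatingGroup Ω := fun g => by
    simp [φ, mem_alternatingGroup]
  have hW : ∀ g, φ g ∈ Sym.W Prod.fst ↔ g ∈ Sym.W f := fun g => by
    constructor
    · intro h x y
      have := h (e x) (e y)
      rwa [hφ, hφ, he, he, he, he] at this
    · intro h p q
      obtain ⟨x, rfl⟩ := e.surjective p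
      obtain ⟨y, rfl⟩ := e.surjective q
      rw [hφ, hφ, he, he, he, he]
      exact h x y
  intro h
  have hle : (Sym.W f ⊓ alternatingGroup Ω).subgroupOf (alternatingGroup Ω) ≤
      (K0.comap φ.toMonoidHom).subgroupOf (alternatingGroup Ω) := fun g hg =>
    le_K0 ⟨(hW _).2 hg.1, (hA _).2 hg.2⟩
  rcases h.le_iff.1 hle with h1 | h1
  · rw [Subgroup.subgroupOf_eq_top] at h1
    have h2 : φ.symm (swap (0, 0) (0, 1) * swap (0, 0) (1, 0)) ∈ alternatingGroup Ω := by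
      rw [← hA, MulEquiv.apply_symm_apply]
      exact Sym.dbl_mem_A (by decide) (by decide)
    have h3 : φ (φ.symm _) ∈ K0 := h1 h2
    rw [MulEquiv.apply_symm_apply] at h3
    exact absurd (h3 (0, 0) (2, 0) (3, 1) (1, 1)) (by decide)
  · have h2 : φ.symm g3 ∈ alternatingGroup Ω := by
      rw [← hA, MulEquiv.apply_symm_apply]; exact g3_A
    have h3 : (⟨_, h2⟩ : alternatingGroup Ω) ∈ (K0.comap φ.toMonoidHom).subgroupOf (alternatingGroup Ω) := by
      change φ (φ.symm _) ∈ K0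
      rw [MulEquiv.apply_symm_apply]; exact g3_mem
    rw [h1] at h3
    have h4 := (hW _).2 h3.1
    change φ (φ.symm _) ∈ _ at h4
    rw [MulEquiv.apply_symm_apply] at h4
    exact absurd (h4 (0, 0) (0, 1)) (by decide)

end Cfsg.Agent.S5910
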