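import Cfsg.Statements.S5911
import Cfsg.Agent.Lib.Classical.Sym2

set_option autoImplicit false
open Cfsg

namespace Cfsg.Agent.S5911
open Cfsg.Agent.Classical


/-- Let Ω be a finite set whose size n is not 6. Then every subgroup of the symmetric group on Ω of index n is the stabilizer of a point. -/
theorem result {Ω : Type*} [Fintype Ω] [DecidableEq Ω] (h6 : Fintype.card Ω ≠ 6)
    (H : Subgroup (Equiv.Perm Ω)) (hH : H.index = Fintype.card Ω) :
    ∃ x : Ω, H = MulAction.stabilizer (Equiv.Perm Ω) x := by
  have key : ∀ x : Ω, H ≤ MulAction.stabilizer (Equiv.Perm Ω) x → H = MulAction.stabilizer (Equiv.Perm Ω) x :=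
    fun x hx => Sym.eq_of_le_of_index hx (by
      rw [hH, MulAction.index_stabilizer_of_transitive, Nat.card_eq_fintype_card])
  by_cases h3 : 3 ≤ Fintype.card Ω
  · obtain ⟨x, hx⟩ := Sym.Sm.fix (Or.inl hH) h3 h6 (fun h => hH.trans h)
    exact ⟨x, key x hx⟩
  · have h0 : H.index ≠ 0 := Subgroup.index_ne_zero_of_finite
    obtain ⟨x⟩ : Nonempty Ω := Fintype.card_pos_iff.1 (by omega)
    refine ⟨x, key x ?_⟩
    have hc := H.index_mul_card
    rw [Nat.card_perm, Nat.card_eq_fintype_card (α := Ω), hH] at hc
    have : Nat.card H = 1 := by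
      generalize Fintype.card Ω = n at *
      have : n < 3 := by omega
      interval_cases n <;> simp only [Nat.factorial] at hc <;> omega
    rw [Subgroup.card_eq_one] at this
    rw [this]; exact bot_le

end Cfsg.Agent.S5911
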