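import Cfsg.Statements.S5912
import Cfsg.Agent.Lib.Classical.Sym3

set_option autoImplicit false
open Cfsg

namespace Cfsg.Agent.S5912
open Cfsg.Agent.Classical


/-- The symmetric group on a 6-element set Ω has exactly two conjugacy classes of subgroups of index 6: there are two non-conjugate subgroups of index 6 (a point stabilizer and a transitive subgroup isomorphic to S₅), and every subgroup of index 6 is conjugate to one of them. -/
theorem result {Ω : Type*} [Fintype Ω] [DecidableEq Ω] (h6 : Fintype.card Ω = 6) :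
    ∃ H₁ H₂ : Subgroup (Equiv.Perm Ω), H₁.index = 6 ∧ H₂.index = 6 ∧
      (¬ ∃ g : Equiv.Perm Ω, Subgroup.map (MulAut.conj g).toMonoidHom H₁ = H₂) ∧
      ∀ H : Subgroup (Equiv.Perm Ω), H.index = 6 →
        ∃ g : Equiv.Perm Ω, Subgroup.map (MulAut.conj g).toMonoidHom H₁ = H ∨ Subgroup.map (MulAut.conj g).toMonoidHom H₂ = H := by
  obtain ⟨α, h1, h2⟩ := Sym.six_class h6
  obtain ⟨o⟩ : Nonempty Ω := Fintype.card_pos_iff.1 (by omega)
  refine ⟨MulAction.stabilizer (Equiv.Perm Ω) o, (MulAction.stabilizer (Equiv.Perm Ω) o).map α.symm.toMonoidHom,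
    by rw [Sym.index_stab, h6], by
      rw [Subgroup.index_map_of_bijective (f := α.symm.toMonoidHom) α.symm.bijective, Sym.index_stab, h6], ?_, ?_⟩
  · rintro ⟨g, hg⟩
    rw [← MulAction.stabilizer_smul_eq_stabilizer_map_conj] at hg
    exact h1 _ _ hg.symm
  · intro H hH
    rcases h2 H hH with ⟨x, rfl⟩ | ⟨x, rfl⟩
    · obtain ⟨g, rfl⟩ := MulAction.exists_smul_eq (Equiv.Perm Ω) o x
      exact ⟨g, Or.inl (MulAction.stabilizer_smul_eq_stabilizer_map_conj g o).symm⟩
    · obtain ⟨g, rfl⟩ := MulAction.exists_smul_eq (Equiv.Perm Ω) o x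
      refine ⟨α.symm g, Or.inr ?_⟩
      rw [MulAction.stabilizer_smul_eq_stabilizer_map_conj, Subgroup.map_map, Subgroup.map_map]
      congr 1
      ext1 k
      simp

end Cfsg.Agent.S5912
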