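import Cfsg.Statements.S5944
import Cfsg.Agent.Lib.Classical.Sym2

set_option autoImplicit false
open Cfsg

namespace Cfsg.Agent.S5944
open Cfsg.Agent.Classical


/-- For n ≠ 4, every proper subgroup of the symmetric group S_n other than the alternating group A_n has index at least n. -/
theorem result (n : ℕ) (hn : n ≠ 4) (H : Subgroup (Equiv.Perm (Fin n))) (hH : H ≠ ⊤) (hA : H ≠ alternatingGroup (Fin n)) : n ≤ H.index := by
  have h0 : H.index ≠ 0 := Subgroup.index_ne_zero_of_finite
  have h1 : H.index ≠ 1 := fun h => hH (Subgroup.index_eq_one.1 h)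
  have h2 : H.index ≠ 2 := fun h => hA (Equiv.Perm.eq_alternatingGroup_of_index_eq_two h)
  by_cases h5 : n ≤ 3
  · omega
  by_cases hc : H.normalCore = ⊥
  · have h : H.normalCore.index ∣ H.index.factorial := by
      rw [Subgroup.normalCore_eq_ker, Subgroup.index_ker, Subgroup.index_eq_card, ← Nat.card_perm]
      exact Subgroup.card_subgroup_dvd_card (MulAction.toPermHom _ (_ ⧸ H)).range
    rw [hc, Subgroup.index_bot, Nat.card_perm, Nat.card_eq_fintype_card, Fintype.card_fin] at h
    by_contra hlt
    exact absurd (Nat.le_of_dvd (Nat.factorial_pos _) h) (not_le.2 (Nat.factorial_lt (by omega) |>.2 (by omega)))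
  · have h := (Equiv.Perm.alternatingGroup_le_of_normal (α := Fin n) (by simp; omega)
      ((Subgroup.nontrivial_iff_ne_bot _).2 hc)).trans H.normalCore_le
    haveI : Nontrivial (Fin n) := Fin.nontrivial_iff_two_le.2 (by omega)
    have := Nat.le_of_dvd two_pos (alternatingGroup.index_eq_two (α := Fin n) ▸ Subgroup.index_dvd_of_le h)
    omega

end Cfsg.Agent.S5944
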