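import Cfsg.Statements.S5945
import Cfsg.Agent.Lib.Classical.Sym3

set_option autoImplicit false
open Cfsg

namespace Cfsg.Agent.S5945
open Cfsg.Agent.Classical


/-- The symmetric group S_6 has exactly 12 subgroups of index 6; each of them is isomorphic to S_5, and at least one of them is not the stabilizer of any point. -/
theorem result : Nat.card {H : Subgroup (Equiv.Perm (Fin 6)) // H.index = 6} = 12 ∧ (∀ H : Subgroup (Equiv.Perm (Fin 6)), H.index = 6 → Nonempty (H ≃* Equiv.Perm (Fin 5))) ∧ ∃ H : Subgroup (Equiv.Perm (Fin 6)), H.index = 6 ∧ ∀ a : Fin 6, H ≠ MulAction.stabilizer (Equiv.Perm (Fin 6)) a := by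
  obtain ⟨α, h1, h2⟩ := Sym.six_class (Ω := Fin 6) (by simp)
  have hi : ∀ x : Fin 6, ((MulAction.stabilizer (Equiv.Perm (Fin 6)) x).map α.symm.toMonoidHom).index = 6 := fun x => by
    rw [Subgroup.index_map_of_bijective (f := α.symm.toMonoidHom) α.symm.bijective, Sym.index_stab]; simp
  refine ⟨?_, fun H hH => ?_, _, hi 0, h1 0⟩
  · let f : Fin 6 ⊕ Fin 6 → {H : Subgroup (Equiv.Perm (Fin 6)) // H.index = 6} :=
      Sum.elim (fun x => ⟨_, by rw [Sym.index_stab x]; simp⟩) (fun x => ⟨_, hi x⟩)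
    have hf : Function.Bijective f := by
      constructor
      · rintro (x | x) (y | y) h
        · rw [Sym.stab_inj (by simp) (congrArg Subtype.val h)]
        · exact absurd (congrArg Subtype.val h).symm (h1 _ _)
        · exact absurd (congrArg Subtype.val h) (h1 _ _)
        · rw [Sym.stab_inj (by simp) (Subgroup.map_injective α.symm.injective (congrArg Subtype.val h))]
      · rintro ⟨H, hH⟩
        rcases h2 H hH with ⟨x, rfl⟩ | ⟨x, rfl⟩
        · exact ⟨Sum.inl x, rfl⟩
        · exact ⟨Sum.inr x, rfl⟩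
    rw [← Nat.card_congr (Equiv.ofBijective f hf)]
    simp
  · rcases h2 H hH with ⟨x, rfl⟩ | ⟨x, rfl⟩
    · exact Sym.stab_equiv x (by simp)
    · obtain ⟨e⟩ := Sym.stab_equiv x (n := 5) (by simp)
      exact ⟨(α.symm.subgroupMap _).symm.trans e⟩

end Cfsg.Agent.S5945
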