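import Cfsg.Statements.S5947
import Cfsg.Agent.Lib.Classical.Singer

set_option autoImplicit false
open Cfsg

namespace Cfsg.Agent.S5947
open Cfsg.Agent.Classical

theorem prime_of_succ_pow {q m : ℕ} (hq : IsPrimePow q) (h : q + 1 = 2 ^ m) : q.Prime := by
  obtain ⟨p, k, hp, hk, rfl⟩ := (isPrimePow_nat_iff q).1 hq
  by_cases hk1 : k = 1
  · subst hk1; simpa using hp
  exfalso
  have hm : m ≠ 0 := by
    rintro rfl
    have := pow_pos hp.pos k
    omega
  have hp2 : p ≠ 2 := by
    rintro rfl
    have h1 : 2 ∣ 2 ^ k := dvd_pow_self 2 hk.ne'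
    have h2 : 2 ∣ 2 ^ m := dvd_pow_self 2 hm
    omega
  obtain ⟨r, hr, h1, h2⟩ := Zsig.zsigmondy p (2 * k) hp.one_lt (by omega) (by omega) (by omega)
  have h3 : p ^ (2 * k) - 1 = (p ^ k + 1) * (p ^ k - 1) := by
    rw [mul_comm 2 k, pow_mul]
    simpa using Nat.sq_sub_sq (p ^ k) 1
  rw [h3] at h1
  rcases (Nat.Prime.dvd_mul hr).1 h1 with h4 | h4
  · rw [h] at h4
    have := (Nat.prime_dvd_prime_iff_eq hr Nat.prime_two).1 (hr.dvd_of_dvd_pow h4)
    subst this
    refine h2 1 one_pos (by omega) ?_
    have := hp.odd_of_ne_two hp2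
    obtain ⟨t, ht⟩ := this
    rw [pow_one]; omega
  · exact h2 k hk (by omega) h4

theorem card_modEq {F V : Type*} [Field F] [Finite F] [AddCommGroup V] [Module F V] [Finite V] (u : Module.End F V)
    {r : ℕ} (hr : r.Prime) (hu : u ^ r = 1) (W : Submodule F V) (hW : ∀ x ∈ W, u x ∈ W) :
    Nat.card F ^ Module.finrank F W ≡ Nat.card F ^ Module.finrank F ↥(W ⊓ LinearMap.ker (u - 1)) [MOD r] := by
  classical
  haveI := Fact.mk hr
  haveI := Fintype.ofFinite W
  let f : Function.End W := fun x => ⟨u x, hW _ x.2⟩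
  have hf : ∀ k (x : W), ((f ^ k) x : V) = (u ^ k) x := by
    intro k
    induction k with
    | zero => intro x; rfl
    | succ k ih => intro x; rw [pow_succ', pow_succ', Module.End.mul_apply, ← ih]; rfl
  have h1 := Equiv.Perm.card_fixedPoints_modEq (f := f) (p := r) (n := 1) (by
    funext x
    apply Subtype.ext
    rw [hf, pow_one, hu]; rfl)
  rw [← Module.natCard_eq_pow_finrank, ← Module.natCard_eq_pow_finrank, Nat.card_eq_fintype_card]
  rw [← Nat.card_eq_fintype_card (α := Function.fixedPoints f)] at h1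
  convert h1 using 1
  refine Nat.card_congr
    { toFun := fun x => ⟨⟨x, x.2.1⟩, Subtype.ext (by
        have := x.2.2
        simpa [sub_eq_zero] using this)⟩
      invFun := fun x => ⟨x.1, x.1.2, by
        have : u x.1 = x.1 := congrArg Subtype.val x.2
        simpa [sub_eq_zero] using this⟩
      left_inv := fun _ => rfl
      right_inv := fun _ => rfl }

theorem irred_of_ppd {F V : Type*} [Field F] [Finite F] [AddCommGroup V] [Module F V] [Finite V] (u : Module.End F V)
    {r : ℕ} (hr : r.Prime) (hu : u ^ r = 1) (hu1 : u ≠ 1) (hr1 : r ∣ Nat.card F ^ Module.finrank F V - 1)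
    (hr2 : ∀ k, 0 < k → k < Module.finrank F V → ¬ r ∣ Nat.card F ^ k - 1)
    (W : Submodule F V) (hW : ∀ x ∈ W, u x ∈ W) : W = ⊥ ∨ W = ⊤ := by
  have hq : 1 < Nat.card F := Finite.one_lt_card
  have hV : 0 < Module.finrank F V := by
    by_contra h0
    have : Subsingleton V := Module.finrank_zero_iff.1 (by omega : Module.finrank F V = 0)
    exact hu1 (Subsingleton.elim _ _)
  have hcop : ¬ r ∣ Nat.card F := by
    intro h
    have h1 : r ∣ Nat.card F ^ Module.finrank F V := dvd_pow h hV.ne'
    have := (Nat.dvd_sub_iff_right (Nat.one_le_pow _ _ (by omega)) h1).1 hr1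
    exact hr.one_lt.ne' (Nat.dvd_one.1 this)
  have key : ∀ d e : ℕ, e ≤ d → d ≤ Module.finrank F V → Nat.card F ^ d ≡ Nat.card F ^ e [MOD r] →
      d = e ∨ (e = 0 ∧ d = Module.finrank F V) := by
    intro d e hed hd h
    obtain ⟨c, rfl⟩ := Nat.exists_eq_add_of_le hed
    have h1 := (Nat.modEq_iff_dvd' (Nat.pow_le_pow_right (by omega) hed)).1 h.symm
    rw [pow_add, ← Nat.mul_sub_one] at h1
    rcases (Nat.Prime.dvd_mul hr).1 h1 with h2 | h2
    · exact absurd (hr.dvd_of_dvd_pow h2) hcop
    · by_contra hc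
      exact hr2 c (by omega) (by omega) h2
  have hker : LinearMap.ker (u - 1) = ⊥ := by
    rcases key _ _ (Submodule.finrank_mono inf_le_left) (Submodule.finrank_le _)
      (card_modEq u hr hu ⊤ (fun _ _ => trivial)) with h | h
    · exfalso
      rw [top_inf_eq, finrank_top] at h
      have := Submodule.eq_top_of_finrank_eq h.symm
      rw [LinearMap.ker_eq_top, sub_eq_zero] at this
      exact hu1 this
    · rw [top_inf_eq] at h
      exact Submodule.finrank_eq_zero.1 h.1
  rcases key _ _ (Submodule.finrank_mono inf_le_left) (Submodule.finrank_le _) (card_modEq u hr hu W hW) with h | h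
  · left
    rw [hker, inf_bot_eq, finrank_bot] at h
    exact Submodule.finrank_eq_zero.1 h
  · exact Or.inr (Submodule.eq_top_of_finrank_eq h.2)


/-- Let F ⊆ K be finite fields with |F| = q and [K : F] = n ≥ 2, regard K as an n-dimensional F-vector space, and let M ≤ GL_F(K) be the Singer group of multiplications by non-zero elements of K (cyclic of order q^n − 1). Assume (n, q) ≠ (6, 2), and that it is not the case that n = 2 with q a prime such that q + 1 is a power of 2. Then every abelian subgroup of GL_F(K) of order q^n − 1 is conjugate to M. -/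
theorem result {F K : Type*} [Field F] [Fintype F] [Field K] [Fintype K] [Algebra F K] (n : ℕ) (hn : 2 ≤ n) (hdim : Module.finrank F K = n)
    (hex1 : ¬ (n = 6 ∧ Fintype.card F = 2))
    (hex2 : ¬ (n = 2 ∧ (Fintype.card F).Prime ∧ ∃ a : ℕ, Fintype.card F + 1 = 2 ^ a))
    (U : Subgroup (Module.End F K)ˣ) (hU : IsMulCommutative U) (hcard : Nat.card U = Fintype.card K - 1) :
    ∃ g : (Module.End F K)ˣ, U.map (MulAut.conj g).toMonoidHom = (Units.map ((Algebra.lmul F K : K →ₐ[F] Module.End F K) : K →* Module.End F K)).range := by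
  classical
  haveI : Finite (Module.End F K) := Finite.of_injective _ DFunLike.coe_injective
  have hcK : Fintype.card K = Fintype.card F ^ n := by rw [← hdim]; exact Module.card_eq_pow_finrank
  obtain ⟨r, hr, hr1, hr2⟩ := Zsig.zsigmondy (Fintype.card F) n Fintype.one_lt_card hn (fun h => hex1 ⟨h.2, h.1⟩)
    (fun ⟨h1, m, h2⟩ => hex2 ⟨h1, prime_of_succ_pow (FiniteField.isPrimePow_card F) h2, m, h2⟩)
  haveI := Fact.mk hr
  obtain ⟨u, hu⟩ := exists_prime_orderOf_dvd_card' (G := U) r (by rw [hcard, hcK]; exact hr1)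
  have hirr := irred_of_ppd (((u : (Module.End F K)ˣ)) : Module.End F K) hr
    (by rw [← Units.val_pow_eq_pow_val, ← Subgroup.coe_pow, ← hu, pow_orderOf_eq_one]; rfl)
    (by
      intro h
      have : u = 1 := Subtype.ext (Units.ext h)
      rw [this, orderOf_one] at hu
      exact hr.one_lt.ne hu)
    (by rw [hdim, Nat.card_eq_fintype_card]; exact hr1) (by rw [hdim, Nat.card_eq_fintype_card]; exact hr2)
  set s : Set (Module.End F K) := Set.range (fun v : U => ((v : (Module.End F K)ˣ) : Module.End F K)) with hs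
  have hcomm : ∀ a ∈ s, ∀ b ∈ s, a * b = b * a := by
    rintro _ ⟨a, rfl⟩ _ ⟨b, rfl⟩
    exact congrArg (fun v : U => ((v : (Module.End F K)ˣ) : Module.End F K)) (hU.is_comm.comm a b)
  set A := Algebra.adjoin F s with hA
  have hAc : ∀ a b : A, a * b = b * a := (Algebra.isMulCommutative_adjoin F hcomm).is_comm.comm
  have huA : ((u : (Module.End F K)ˣ) : Module.End F K) ∈ A := Algebra.subset_adjoin ⟨u, rfl⟩
  have hinj : ∀ a : A, a ≠ 0 → Function.Injective (a : Module.End F K) := by
    intro a ha
    rcases hirr (LinearMap.ker (a : Module.End F K)) (fun x hx => by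
      have := congrArg (fun b : A => (b : Module.End F K) x) (hAc a ⟨_, huA⟩)
      simp only [MulMemClass.coe_mul, Module.End.mul_apply] at this
      rw [LinearMap.mem_ker] at hx ⊢
      rw [this, hx, map_zero]) with h | h
    · exact LinearMap.ker_eq_bot.1 h
    · exact absurd (Subtype.ext (LinearMap.ker_eq_top.1 h)) ha
  let ev : A →ₗ[F] K := (LinearMap.applyₗ (1 : K)).comp A.val.toLinearMap
  have hev : ∀ a : A, ev a = (a : Module.End F K) 1 := fun _ => rfl
  have hevi : Function.Injective ev := by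
    intro a b hab
    by_contra h0
    refine one_ne_zero (hinj (a - b) (sub_ne_zero.2 h0) ?_)
    rw [hev, hev] at hab
    simp [hab]
  have hevs : Function.Surjective ev := by
    rw [← LinearMap.range_eq_top]
    rcases hirr (LinearMap.range ev) (by
      rintro _ ⟨a, rfl⟩
      exact ⟨⟨_, huA⟩ * a, rfl⟩) with h | h
    · exfalso
      have : ev 1 ∈ LinearMap.range ev := ⟨1, rfl⟩
      rw [h, Submodule.mem_bot] at this
      exact one_ne_zero this
    · exact h
  let e : A ≃ₗ[F] K := LinearEquiv.ofBijective ev ⟨hevi, hevs⟩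
  have hfield : IsField A := by
    refine ⟨⟨0, 1, fun h => ?_⟩, hAc, fun {a} ha => ?_⟩
    · exact zero_ne_one (congrArg (fun b : A => (b : Module.End F K) 1) h)
    · obtain ⟨x, hx⟩ := Finite.injective_iff_surjective.1 (hinj a ha) 1
      obtain ⟨b, rfl⟩ := hevs x
      exact ⟨b, hevi hx⟩
  letI : Field A := hfield.toField
  obtain ⟨θ⟩ : Nonempty (A →ₐ[F] K) := FiniteField.nonempty_algHom_of_finrank_dvd (by rw [e.finrank_eq])
  have hθ : Function.Bijective θ :=
    (Nat.bijective_iff_injective_and_card θ).2 ⟨θ.toRingHom.injective, Nat.card_congr e.toEquiv⟩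
  let g : K ≃ₗ[F] K := e.symm.trans (LinearEquiv.ofBijective θ.toLinearMap hθ)
  have hg : ∀ a : A, g (ev a) = θ a := fun a => congrArg θ (e.symm_apply_apply a)
  refine ⟨(LinearMap.GeneralLinearGroup.generalLinearEquiv F K).symm g, ?_⟩
  refine Subgroup.eq_of_le_of_card_ge ?_ ?_
  · rintro _ ⟨v, hv, rfl⟩
    have hvA : (v : Module.End F K) ∈ A := Algebra.subset_adjoin ⟨⟨v, hv⟩, rfl⟩
    have key : ∀ x, g ((v : Module.End F K) (g.symm x)) = θ ⟨_, hvA⟩ * x := by
      intro x
      obtain ⟨y, rfl⟩ := g.surjective x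
      obtain ⟨b, rfl⟩ := hevs y
      rw [g.symm_apply_apply, hg, ← map_mul, ← hg]
      rfl
    rw [Singer.mem_range_iff]
    intro k x
    change g ((v : Module.End F K) (g.symm (k * x))) = k * g ((v : Module.End F K) (g.symm x))
    rw [key, key]; ring
  · rw [Subgroup.card_map_of_injective (MulAut.conj _).injective, hcard]
    exact Singer.card_range.le

end Cfsg.Agent.S5947
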