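import Cfsg.Statements.S5952
import Mathlib

set_option autoImplicit false
open Cfsg

namespace Cfsg.Agent.S5952


/-- Which dimensions of invariant subspaces a semisimple linear map has. Let `V` be a finite-dimensional vector space over a field `F` and `f` an invertible semisimple linear map of `V`. Suppose `V` is the internal direct sum of the fixed space `C_V(f)` (the eigenspace for 1) and subspaces `U_1, …, U_s`, each `f`-invariant of dimension `a ≥ 1` on which `f` acts irreducibly (no `f`-invariant subspaces other than 0 and `U_j`). Let `0 < m < dim V` and `ℓ = m mod a`. Then `f` leaves some `m`-dimensional subspace invariant if and only if `dim C_V(f) ≥ m`, or `a ≤ m` and `dim C_V(f) ≥ ℓ`. -/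
theorem result {F V : Type*} [Field F] [AddCommGroup V] [Module F V]
    [FiniteDimensional F V] (f : V →ₗ[F] V) (hf : Function.Bijective f) (hss : Module.End.IsSemisimple f)
    {s a : ℕ} (ha : 1 ≤ a) (U : Fin s → Submodule F V)
    (hUinv : ∀ j, (U j).map f ≤ U j) (hUdim : ∀ j, Module.finrank F ↥(U j) = a)
    (hUirr : ∀ j, ∀ W : Submodule F V, W ≤ U j → W.map f ≤ W → W = ⊥ ∨ W = U j)
    (hdec : DirectSum.IsInternal (fun o : Option (Fin s) => o.elim (Module.End.eigenspace f 1) U))
    (m : ℕ) (hm : 0 < m) (hmV : m < Module.finrank F V) :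
    (∃ W : Submodule F V, Module.finrank F ↥W = m ∧ W.map f ≤ W) ↔
    (m ≤ Module.finrank F ↥(Module.End.eigenspace f 1) ∨
      (a ≤ m ∧ m % a ≤ Module.finrank F ↥(Module.End.eigenspace f 1))) := by
  classical
  set E := Module.End.eigenspace f 1 with hE
  have ind := hdec.submodule_iSupIndep
  have top := hdec.submodule_iSup_eq_top
  have fE : ∀ W : Submodule F V, W ≤ E → W.map f ≤ W := fun W h => by
    rintro _ ⟨x, hx, rfl⟩
    rw [Module.End.mem_eigenspace_iff.1 (h hx), one_smul]; exact hx
  have inv : ∀ T : Finset (Fin s), (T.sup U).map f ≤ T.sup U := fun T =>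
    Submodule.map_le_iff_le_comap.2 (Finset.sup_le fun j hj =>
      Submodule.map_le_iff_le_comap.1 ((hUinv j).trans (Finset.le_sup (f := U) hj)))
  have dj : ∀ (T : Finset (Fin s)) j, j ∉ T → Disjoint (U j) (E ⊔ T.sup U) := fun T j hj =>
    (ind (some j)).mono_right (sup_le (le_iSup₂_of_le none (by simp) le_rfl) (Finset.sup_le fun l hl =>
      le_iSup₂_of_le (some l) (by rintro ⟨⟩; exact hj hl) le_rfl))
  have fr : ∀ (A : Submodule F V), A ≤ E → ∀ T : Finset (Fin s),
      Module.finrank F (A ⊔ T.sup U : Submodule F V) = Module.finrank F A + a * T.card := fun A hA T => by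
    induction T using Finset.induction_on with
    | empty => rw [Finset.sup_empty, sup_bot_eq]; simp
    | insert j T hj ih =>
      have := Submodule.finrank_sup_add_finrank_inf_eq (U j) (A ⊔ T.sup U)
      rw [((dj T j hj).mono_right (sup_le_sup_right hA _)).eq_bot, finrank_bot, hUdim, ih] at this
      rw [Finset.sup_insert, sup_left_comm, Finset.card_insert_of_notMem hj, mul_add]
      omega
  have all : E ⊔ Finset.univ.sup U = ⊤ := by
    rw [eq_top_iff, ← top]
    exact iSup_le fun o => by
      rcases o with _ | j
      · exact le_sup_left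
      · exact le_sup_of_le_right (Finset.le_sup (f := U) (Finset.mem_univ j))
  have tot := fr E le_rfl Finset.univ
  rw [all, finrank_top, Finset.card_fin] at tot
  refine ⟨fun ⟨W, h1, h2⟩ => ?_, fun h => ?_⟩
  · have key : ∀ T : Finset (Fin s), ∃ t, Module.finrank F (W ⊓ (E ⊔ T.sup U) : Submodule F V) =
        Module.finrank F (W ⊓ E : Submodule F V) + a * t := fun T => by
      induction T using Finset.induction_on with
      | empty => exact ⟨0, by rw [Finset.sup_empty, sup_bot_eq]; simp⟩
      | insert j T hj ih =>
        obtain ⟨t, ht⟩ := ih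
        rw [Finset.sup_insert, sup_left_comm]
        set S := E ⊔ T.sup U with hS
        have iS : S.map f ≤ S := by rw [hS, Submodule.map_sup]; exact sup_le_sup (fE E le_rfl) (inv T)
        have e1 := Submodule.finrank_sup_add_finrank_inf_eq (W ⊓ (U j ⊔ S)) S
        rw [inf_assoc, inf_eq_right.2 (le_sup_right : S ≤ U j ⊔ S)] at e1
        set X := W ⊓ (U j ⊔ S) ⊔ S with hX
        have e2 : X = S ⊔ (U j ⊓ X) := by
          rw [← sup_inf_assoc_of_le _ (le_sup_right : S ≤ X), sup_comm S]
          exact (inf_eq_right.2 (sup_le inf_le_right le_sup_right)).symm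
        have iX : X.map f ≤ X := by
          rw [hX, Submodule.map_sup]
          refine sup_le_sup ((Submodule.map_inf_le f).trans (inf_le_inf h2 ?_)) iS
          rw [Submodule.map_sup]; exact sup_le_sup (hUinv j) iS
        rcases hUirr j (U j ⊓ X) inf_le_left ((Submodule.map_inf_le f).trans (inf_le_inf (hUinv j) iX)) with k | k
        · rw [k, sup_bot_eq] at e2
          rw [e2] at e1
          exact ⟨t, by omega⟩
        · rw [k] at e2
          have e3 := Submodule.finrank_sup_add_finrank_inf_eq S (U j)
          rw [(dj T j hj).symm.eq_bot, finrank_bot, hUdim, ← e2] at e3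
          exact ⟨t + 1, by rw [mul_add]; omega⟩
    obtain ⟨t, ht⟩ := key Finset.univ
    rw [all, inf_top_eq, h1] at ht
    have := Submodule.finrank_mono (inf_le_right : W ⊓ E ≤ E)
    rcases t with _ | t
    · left; omega
    · right
      refine ⟨by rw [ht, mul_add]; omega, ?_⟩
      rw [ht, Nat.add_mul_mod_self_left]
      exact (Nat.mod_le _ _).trans this
  · obtain ⟨r, t, h1, h2, h3⟩ : ∃ r t, r ≤ Module.finrank F E ∧ t ≤ s ∧ m = r + a * t := by
      rcases h with h | ⟨h1, h2⟩
      · exact ⟨m, 0, h, by omega, by simp⟩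
      · by_cases k : m / a ≤ s
        · exact ⟨m % a, m / a, h2, k, (Nat.mod_add_div m a).symm⟩
        · have : a * s ≤ m := (Nat.mul_le_mul_left a (by omega : s ≤ m / a)).trans (Nat.mul_div_le m a)
          exact ⟨m - a * s, s, by omega, le_rfl, by omega⟩
    obtain ⟨T, -, hT⟩ := Finset.exists_subset_card_eq (s := (Finset.univ : Finset (Fin s))) (n := t) (by simpa using h2)
    obtain ⟨g, hg⟩ := exists_linearIndependent_of_le_finrank (R := F) (M := E) h1
    have hA : Module.finrank F ((Submodule.span F (Set.range g)).map E.subtype) = r := by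
      rw [Submodule.finrank_map_subtype_eq, finrank_span_eq_card hg, Fintype.card_fin]
    refine ⟨_ ⊔ T.sup U, by rw [fr _ (Submodule.map_subtype_le E _), hA, hT, h3], ?_⟩
    rw [Submodule.map_sup]
    exact sup_le_sup (fE _ (Submodule.map_subtype_le E _)) (inv T)

end Cfsg.Agent.S5952
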