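import Cfsg.Statements.S5959
import Cfsg.Agent.Lib.Classical.Inv10

set_option autoImplicit false
open scoped MatrixGroups
open Cfsg

namespace Cfsg.Agent.S5959
open Cfsg.Agent.Classical


/-- Elements of order `p` of PSL_n(q) and imprimitive subgroups: a necessary condition. Here `T = PSL_n(F)` for a field `F` with `q = p^f` elements (`n ≥ 2`, `(n, q) ≠ (2, 2), (2, 3)`), `n = a·t` with `t ≥ 2`, and Ω is the set of direct-sum decompositions of `F^n` into `t` subspaces of dimension `a` (unordered; their number is the number of ordered ones divided by `t!`), whose stabilizers are the imprimitive subgroups of type GL_a(q) ≀ S_t (maximal except in some small cases; maximality is not assumed); an element of `T` of prime order `r` (a matrix `x` of determinant 1 with `x^r` scalar, `x` not scalar) fixes a point of Ω when it permutes the summands of some such decomposition. Suppose `p > 2` divides the number of such decompositions. If every element of `T` of order `p` stabilizes such a decomposition, then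 every partition of `n` into parts of size at most `p` in which the part `p` occurs fewer than `a` times contains (as a sub-multiset) a partition of `a`. -/
theorem result {F : Type*} [Field F] [Fintype F] {p : ℕ} [Fact p.Prime] [CharP F p] {q : ℕ} (hq : Fintype.card F = q)
    (n a t : ℕ) (hn : 2 ≤ n) (hT : (n, q) ≠ (2, 2) ∧ (n, q) ≠ (2, 3)) (hat : n = a * t) (ha : 1 ≤ a) (ht : 2 ≤ t)
    (hp : 2 < p) (hΩ : p ∣ Nat.card {D : Fin t → Submodule F (Fin n → F) // Cfsg.Geo.IsMDecomposition a D} / Nat.factorial t)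
    (h : ∀ x : Matrix.SpecialLinearGroup (Fin n) F,
      (∃ z : F, ((x ^ p : Matrix.SpecialLinearGroup (Fin n) F) : Matrix (Fin n) (Fin n) F) = z • (1 : Matrix (Fin n) (Fin n) F)) →
      (∀ z : F, (x : Matrix (Fin n) (Fin n) F) ≠ z • (1 : Matrix (Fin n) (Fin n) F)) →
      ∃ D : Fin t → Submodule F (Fin n → F), Cfsg.Geo.IsMDecomposition a D ∧
        ∃ σ : Equiv.Perm (Fin t), ∀ j, (D j).map (Matrix.toLin' (x : Matrix (Fin n) (Fin n) F)) = D (σ j)) :
    (∀ μ : Multiset ℕ, (∀ b ∈ μ, 0 < b ∧ b ≤ p) → μ.sum = n → μ.count p < a → ∃ ν : Multiset ℕ, ν ≤ μ ∧ ν.sum = a) := by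
  classical
  intro μ h1 h2 h3
  have pp : p.Prime := Fact.out
  obtain ⟨ι, _, d, rfl⟩ : ∃ (ι : Type) (_ : Fintype ι) (d : ι → ℕ), μ = Finset.univ.val.map d :=
    ⟨μ.ToType, inferInstance, (·.1), ((μ.map_univ id).trans μ.map_id).symm⟩
  have h2' : ∑ i, d i = n := h2
  obtain ⟨N, H⟩ := Perm.Cj.exists_nil (F := F) (V := Fin n → F) d (by simpa using h2')
  have np : N ^ p = 0 := (Perm.Cj.mdl_pow H p).2 fun i => (h1 _ (Multiset.mem_map_of_mem _ (Finset.mem_univ i))).2
  have nil : IsNilpotent N := ⟨p, np⟩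
  by_cases N0 : N = 0
  · obtain ⟨f, hf⟩ := exists_linearIndependent_of_le_finrank (R := F) (M := Fin n → F) (n := a) (by
      simp only [Module.finrank_fin_fun]; nlinarith)
    obtain ⟨C, k⟩ := (Submodule.span F (Set.range f)).exists_isCompl
    have := Inv.sub_part H nil k (by simp [N0]) (by simp [N0])
    rwa [finrank_span_eq_card hf, Fintype.card_fin] at this
  obtain ⟨g, rfl⟩ := Perm.Cj.exists_dl nil
  have gp : g ^ p = 1 := by simpa using (Perm.Cj.dl_pow_char p g 1).1 (by simpa using np)
  have gp' : (g : Module.End F (Fin n → F)) ^ p = 1 := LinearMap.ext fun v => by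
    rw [Module.End.pow_apply]
    exact (LinearEquiv.pow_apply g p v).symm.trans (by rw [gp]; rfl)
  obtain ⟨x, hx⟩ : ∃ x : Matrix.SpecialLinearGroup (Fin n) F, Matrix.toLin' x.1 = (g : Module.End F (Fin n → F)) :=
    ⟨⟨LinearMap.toMatrix' (g : Module.End F (Fin n → F)), by
      rw [LinearMap.det_toMatrix', ← LinearEquiv.coe_det, Perm.Cj.det_unip nil, Units.val_one]⟩, by simp⟩
  obtain ⟨D, hD, σ, hσ⟩ := h x ⟨1, Matrix.toLin'.injective (by
    rw [Matrix.SpecialLinearGroup.coe_pow, Matrix.toLin'_pow, hx, gp', one_smul, Matrix.toLin'_one]; rfl)⟩ fun z hz => N0 (by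
      have e : (Perm.Inv.dl g : Module.End F (Fin n → F)) = algebraMap F _ (z - 1) := by
        rw [Perm.Cj.dl_eq, ← hx, hz, map_smul, Matrix.toLin'_one, map_sub, map_one]; rfl
      haveI : Nonempty (Fin n) := ⟨⟨0, by omega⟩⟩
      rw [e, ← map_pow, map_eq_zero_iff _ (algebraMap F _).injective] at np
      rw [e, pow_eq_zero_iff pp.ne_zero |>.1 np, map_zero])
  rw [hx] at hσ
  let j : Fin t := ⟨0, by omega⟩
  by_cases hj : σ j = j
  · have k : IsCompl (D j) (⨆ (l) (_ : l ≠ j), D l) := ⟨hD.indep j, codisjoint_iff.2 (by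
      rw [← iSup_split_single, hD.iSup_eq_top])⟩
    refine hD.finrank_eq j ▸ Inv.sub_part H nil k (fun u hu => sub_mem ?_ hu) fun u hu => sub_mem ?_ hu
    · exact hj ▸ hσ j ▸ Submodule.mem_map_of_mem hu
    · refine (?_ : Submodule.map (g : Module.End F (Fin n → F)) _ ≤ _) (Submodule.mem_map_of_mem hu)
      simp only [Submodule.map_iSup, hσ]
      exact iSup₂_le fun l hl => le_iSup₂_of_le (σ l) (fun e => hl (σ.injective (e.trans hj.symm))) le_rfl
  · have b0 : D j ≠ ⊥ := fun e => by
      have := hD.finrank_eq j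
      rw [e, finrank_bot] at this
      omega
    have f := Submodule.finrank_add_finrank_le_of_disjoint (Inv.free_cyc pp gp' hD.indep hσ b0 hj)
    have f2 := congrFun H.jt (p - 1)
    rw [Perm.Cj.jt_mdl, Perm.Cj.jt, Perm.Cj.dl_eq] at f2
    have f3 := Inv.sum_min pp.pos _ fun b hb => (h1 b hb).2
    rw [Multiset.map_map, h2] at f3
    have f4 : (Multiset.map (min (p - 1) ∘ d) Finset.univ.val).sum = ∑ i, min (p - 1) (d i) := rfl
    rw [hD.finrank_eq, Module.finrank_fin_fun] at f
    omega

end Cfsg.Agent.S5959
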