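import Cfsg.Statements.S5963
import Cfsg.Agent.Lib.Chev.LagD

set_option autoImplicit false
open scoped MatrixGroups
open Cfsg

namespace Cfsg.Agent.S5963

open Cfsg.Agent.Chev.LagD

/-- Derangements of odd prime order of PSp_n(q), q odd, on pairs of complementary totally isotropic subspaces. Here `T = PSp_n(q)`, `n = 2d ≥ 4`, `q` odd, realised through the symplectic matrices over the field `F` with `q` elements; Ω is the set of unordered pairs `{U, W}` of complementary totally isotropic `d`-spaces (`F^n = U ⊕ W`), whose stabilizers are the subgroups of type GL_d(q).2 (maximal except in some small cases; maximality is not assumed); an element of `T` of prime order `r` (a symplectic matrix `x` with `x^r` scalar, `x` not scalar) fixes such a pair when it fixes or interchanges `U` and `W`. For every odd prime `r ≠ p` dividing the number of such pairs, some element of `T` of order `r` fixes no such pair (the action is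 never `r`-elusive for odd `r ≠ p`). -/
theorem result {F : Type*} [Field F] [Fintype F] {p : ℕ} [Fact p.Prime] [CharP F p] {q : ℕ} (hq : Fintype.card F = q)
    (d : ℕ) (hd : 2 ≤ d) (hT : (d, q) ≠ (2, 2)) (hodd : Odd q)
    (r : ℕ) [Fact r.Prime] (hr2 : r ≠ 2) (hrp : r ≠ p) (hΩ : r ∣ Nat.card {P : Submodule F (Fin d ⊕ Fin d → F) × Submodule F (Fin d ⊕ Fin d → F) // IsCompl P.1 P.2 ∧ (∀ u ∈ P.1, ∀ v ∈ P.1, Cfsg.sympForm d F u v = 0) ∧ (∀ u ∈ P.2, ∀ v ∈ P.2, Cfsg.sympForm d F u v = 0)} / 2) :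
    ∃ x : ↥(Matrix.symplecticGroup (Fin d) F),
      (∃ z : F, ((x ^ r : ↥(Matrix.symplecticGroup (Fin d) F)) : Matrix (Fin d ⊕ Fin d) (Fin d ⊕ Fin d) F) = z • (1 : Matrix (Fin d ⊕ Fin d) (Fin d ⊕ Fin d) F)) ∧
      (∀ z : F, (x : Matrix (Fin d ⊕ Fin d) (Fin d ⊕ Fin d) F) ≠ z • (1 : Matrix (Fin d ⊕ Fin d) (Fin d ⊕ Fin d) F)) ∧
      ¬ (∃ U W : Submodule F (Fin d ⊕ Fin d → F), IsCompl U W ∧ (∀ u ∈ U, ∀ v ∈ U, Cfsg.sympForm d F u v = 0) ∧ (∀ u ∈ W, ∀ v ∈ W, Cfsg.sympForm d F u v = 0) ∧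
        ((U.map (Matrix.toLin' (x : Matrix (Fin d ⊕ Fin d) (Fin d ⊕ Fin d) F)) = U ∧ W.map (Matrix.toLin' (x : Matrix (Fin d ⊕ Fin d) (Fin d ⊕ Fin d) F)) = W) ∨
         (U.map (Matrix.toLin' (x : Matrix (Fin d ⊕ Fin d) (Fin d ⊕ Fin d) F)) = W ∧ W.map (Matrix.toLin' (x : Matrix (Fin d ⊕ Fin d) (Fin d ⊕ Fin d) F)) = U))) := by
  subst hq
  have hr : r.Prime := Fact.out
  obtain ⟨e, hp, he⟩ := FiniteField.card F p
  have hq : ¬r ∣ Fintype.card F := fun f => hrp ((Nat.prime_dvd_prime_iff_eq hr hp).1 (hr.dvd_of_dvd_pow (he ▸ f)))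
  have c := card_pairs (F := F) (m := d)
  rw [Matrix.card_GL_field, S0245.result rfl] at c
  obtain ⟨s, hs⟩ := arith Fintype.one_lt_card c
  obtain ⟨N, hN⟩ := (Nat.coprime_two_left.2 hodd.pow).dvd_of_dvd_mul_right (hs ▸ ((hodd.pow.add_one.two_dvd).trans
    (Finset.dvd_prod_of_mem (fun i => Fintype.card F ^ (i + 1) + 1) (Finset.mem_range.2 (show 0 < d by omega)))).mul_left _)
  rw [hN, Nat.mul_div_cancel_left _ two_pos] at hΩ
  have h1 := (hΩ.mul_left 2).mul_right (Fintype.card F ^ s)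
  rw [← hN, hs, hr.dvd_mul, hr.prime.dvd_finsetProd_iff] at h1
  obtain ⟨i, i1, i2⟩ := h1.resolve_left fun f => hq (hr.dvd_of_dvd_pow f)
  have h : ∃ i, r ∣ Fintype.card F ^ (i + 1) + 1 := ⟨i, i2⟩
  obtain ⟨x, T, x1, t1, t2⟩ := exists_elt (F := F) (r := r) ((Nat.find_min' h i2).trans_lt (Finset.mem_range.1 i1)) ((Nat.find_spec h).trans (by
    rw [mul_comm 2, pow_mul]; simpa using Nat.sq_sub_sq _ 1 ▸ dvd_mul_right _ _))
  have x2 : x ^ r = 1 := orderOf_dvd_iff_pow_eq_one.1 x1.dvd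
  have n2 : ¬r ∣ 2 := fun f => hr2 ((Nat.prime_dvd_prime_iff_eq hr Nat.prime_two).1 f)
  refine ⟨x, ⟨1, by simp [x2]⟩, fun z hz => n2 ?_, ?_⟩
  · have := Subgroup.orderOf_dvd_natCard _ (show x ∈ Subgroup.center _ from Subgroup.mem_center_iff.2 fun g => Subtype.ext (by simp [hz]))
    rw [S0246.result rfl d (by omega), x1] at this
    exact this.trans (Nat.gcd_dvd_left _ _)
  rintro ⟨U, W, a, b, c, f⟩
  have k : ∀ {U W : Submodule F (Fin d ⊕ Fin d → F)}, U.map (Matrix.toLin' x.1) = W → ∀ v ∈ U, x.1.mulVec v ∈ W := fun f v hv => f ▸ ⟨v, hv, rfl⟩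
  refine nofix (y := x * x) (i := Nat.find h + 1) (by rw [← sq, ← pow_mul, mul_comm, pow_mul, x2, one_pow])
    (fun f => n2 (x1 ▸ orderOf_dvd_of_pow_eq_one ((sq x).trans f))) hq (fun j => minimal hr hr2 Fintype.card_ne_zero h) t1
    (fun v hv => by rw [Chev.BC.mul_act, t2 v hv, t2 v hv]) a b c (fun v hv => ?_) fun v hv => ?_ <;> rw [Chev.BC.mul_act]
  · exact f.elim (fun f => k f.1 _ (k f.1 v hv)) fun f => k f.2 _ (k f.1 v hv)
  · exact f.elim (fun f => k f.2 _ (k f.2 v hv)) fun f => k f.1 _ (k f.2 v hv)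

end Cfsg.Agent.S5963
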