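import Cfsg.Statements.S5964
import Cfsg.Agent.Lib.Classical.Inv8

set_option autoImplicit false
open scoped MatrixGroups
open Cfsg

namespace Cfsg.Agent.S5964
open Cfsg.Agent.Classical


/-- Involutions of PSL_n(q) and subfield subgroups. Here `T = PSL_n(F)` for a field `F` with `q = p^f` elements (`n ≥ 2`, `(n, q) ≠ (2, 2), (2, 3)`), `F₀` is the subfield with `q₀` elements where `q = q₀^k` for a prime `k`, and `H` is the subgroup of matrices of determinant 1 lying in the subfield group of `F₀` (invertible matrices over `F₀` times scalars) — a maximal subgroup of type GL_n(q₀) (the case `n = 2`, `q₀ = 2` is excluded); Ω is the set of `T`-conjugates of `H` (cosets of `H`), so an element of `T` of prime order `r` (a matrix `x` of determinant 1 with `x^r` scalar, `x` not scalar) fixes a point of Ω when some conjugate of `x` by a matrix of determinant 1 lies in `H`. Suppose the index of `H` is even. Then every involution of `T` is conjugate in `T` into `H` if and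 only if either `q` is even, or `k = 2` and `(n)_2 ≤ (q − 1)_2`. (For `q` odd and `k` odd the index of `H` is odd, so that case does not arise.) -/
theorem result {F : Type*} [Field F] [Fintype F] {p : ℕ} [Fact p.Prime] [CharP F p] {q : ℕ} (hq : Fintype.card F = q)
    (n : ℕ) (hn : 2 ≤ n) (hT : (n, q) ≠ (2, 2) ∧ (n, q) ≠ (2, 3))
    (F₀ : Subfield F) (k q₀ : ℕ) (hk : k.Prime) (hF₀ : Nat.card ↥F₀ = q₀) (hqk : q = q₀ ^ k) (hC5 : ¬ (n = 2 ∧ q₀ = 2)) (hΩ : 2 ∣ ((Cfsg.Geo.subfieldSubgroup F₀ 1).comap (Matrix.SpecialLinearGroup.toGL : Matrix.SpecialLinearGroup (Fin n) F →* GL (Fin n) F)).index) :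
    (∀ x : Matrix.SpecialLinearGroup (Fin n) F,
      (∃ z : F, ((x ^ 2 : Matrix.SpecialLinearGroup (Fin n) F) : Matrix (Fin n) (Fin n) F) = z • (1 : Matrix (Fin n) (Fin n) F)) →
      (∀ z : F, (x : Matrix (Fin n) (Fin n) F) ≠ z • (1 : Matrix (Fin n) (Fin n) F)) →
      ∃ P : Matrix.SpecialLinearGroup (Fin n) F, P⁻¹ * x * P ∈ ((Cfsg.Geo.subfieldSubgroup F₀ 1).comap (Matrix.SpecialLinearGroup.toGL : Matrix.SpecialLinearGroup (Fin n) F →* GL (Fin n) F))) ↔
    (Odd q → (k = 2 ∧ padicValNat 2 n ≤ padicValNat 2 (q - 1))) := by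
  classical
  subst hq hF₀
  have ch : Odd (Fintype.card F) → ringChar F ≠ 2 := fun o h => by
    have := FiniteField.even_card_of_char_two h
    obtain ⟨j, hj⟩ := o
    omega
  have two : ringChar F ≠ 2 → (2 : F) ≠ 0 := fun h => Ring.two_ne_zero h
  have m1 : Odd (Fintype.card F) → k = 2 → IsSquare (-1 : F) := fun o h => by
    subst h
    simpa using Inv.sub_sq (F₀ := F₀) (ch o) hqk o (-1)
  have N0 : Fintype.card F - 1 ≠ 0 := by have := Fintype.one_lt_card (α := F); omega
  refine ⟨fun H o => ?_, fun H x ⟨z, hz⟩ _ => ?_⟩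
  · have k2 : k = 2 := by_contra fun h => Inv.index_odd (by omega) (hk.odd_of_ne_two h) hqk o hΩ
    refine ⟨k2, by_contra fun h => ?_⟩
    obtain ⟨l, hl⟩ := (padicValNat_dvd_iff_le (p := 2) (by omega : n ≠ 0)).2 (Nat.succ_le_of_lt (not_le.1 h))
    obtain ⟨w, w1, w2⟩ := Inv.exists_w (ch o) (m := 2 ^ padicValNat 2 (Fintype.card F - 1) * l) ⟨l, rfl⟩
    generalize hm : 2 ^ padicValNat 2 (Fintype.card F - 1) * l = m at w2
    have nm : m + m = n := by rw [hl, ← hm, Nat.succ_eq_add_one]; ring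
    have ns : ¬ IsSquare (-w) := fun s => w1 (by simpa using (m1 o k2).mul s)
    let e : Fin m ⊕ Fin m ≃ Fin n := finSumFinEquiv.trans (finCongr nm)
    obtain ⟨x, hx⟩ : ∃ x : Matrix.SpecialLinearGroup (Fin n) F, x.1 * x.1 = (-w) • (1 : Matrix (Fin n) (Fin n) F) :=
      ⟨⟨Matrix.reindex e e (Matrix.fromBlocks 0 ((-w) • 1) 1 0), by
        rw [Matrix.det_reindex_self, Inv.det_comp, neg_neg, w2]⟩, by
        simp only [Matrix.reindex_apply, Matrix.submatrix_mul_equiv, Matrix.fromBlocks_multiply]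
        rw [← Matrix.submatrix_one_equiv e.symm]
        change _ = Matrix.submatrix ((-w) • 1) e.symm e.symm
        rw [← Matrix.fromBlocks_one, Matrix.fromBlocks_smul]
        simp⟩
    have i0 : Fin n := ⟨0, by omega⟩
    obtain ⟨P, hP⟩ := H x ⟨-w, by rw [sq]; exact hx⟩ fun z hz => ns ⟨z, by
      rw [hz] at hx
      simpa using (congrFun₂ hx i0 i0).symm⟩
    obtain ⟨c, A, hA⟩ := Inv.of_mem_sub hP
    have e1 : (P⁻¹).1 * P.1 = 1 := congrArg Subtype.val (inv_mul_cancel P)
    have e2 : P.1 * (P⁻¹).1 = 1 := congrArg Subtype.val (mul_inv_cancel P)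
    have e3 : (P⁻¹).1 * x.1 * P.1 = (c : F) • (Matrix.GeneralLinearGroup.map F₀.subtype A).1 := hA
    have e4 : ((P⁻¹).1 * x.1 * P.1) * ((P⁻¹).1 * x.1 * P.1) = (-w) • (1 : Matrix (Fin n) (Fin n) F) := by
      calc _ = (P⁻¹).1 * (x.1 * (P.1 * (P⁻¹).1) * x.1) * P.1 := by simp only [mul_assoc]
        _ = _ := by rw [e2, mul_one, hx, Matrix.mul_smul, mul_one, Matrix.smul_mul, e1]
    rw [e3, smul_mul_smul_comm, ← Units.val_mul (Matrix.GeneralLinearGroup.map F₀.subtype A), ← map_mul] at e4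
    have e5 := congrFun₂ e4 i0 i0
    have e6 : (c : F) * c * (((A * A).1 i0 i0 : F₀) : F) = -w * (1 : Matrix (Fin n) (Fin n) F) i0 i0 := e5
    rw [Matrix.one_apply_eq, mul_one] at e6
    subst k2
    exact ns (e6 ▸ (IsSquare.mul_self _).mul (Inv.sub_sq (ch o) hqk o _))
  · have hz' : ∀ u, Matrix.toLin' x.1 (Matrix.toLin' x.1 u) = z • u := fun u => by
      have : x.1 * x.1 = z • (1 : Matrix (Fin n) (Fin n) F) := by rw [← hz, sq]; rfl
      rw [Matrix.toLin'_apply, Matrix.toLin'_apply, Matrix.mulVec_mulVec, this, Matrix.smul_mulVec, Matrix.one_mulVec]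
    have z0 : z ≠ 0 := fun h => by
      have d := (x ^ 2).det_coe
      haveI : Nonempty (Fin n) := ⟨⟨0, by omega⟩⟩
      rw [hz, h, zero_smul, Matrix.det_zero] at d
      exact zero_ne_one d
    by_cases h2 : ringChar F = 2
    · obtain ⟨c, rfl⟩ := FiniteField.isSquare_of_char_two h2 z
      exact Inv.sub_two h2 (by omega) x (left_ne_zero_of_mul z0) hz'
    have o : Odd (Fintype.card F) := Nat.odd_iff.2 (FiniteField.odd_card_of_char_ne_two h2)
    obtain ⟨k2, hv⟩ := H o
    by_cases s : IsSquare z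
    · obtain ⟨c, rfl⟩ := s
      exact Inv.sub_odd (two h2) (by omega) x (left_ne_zero_of_mul z0) hz'
    obtain ⟨m, rfl, hm⟩ := Inv.nsq_det x s hz'
    have := Inv.pow_half (by omega) N0 hv hm (FiniteField.pow_card_sub_one_eq_one _ (neg_ne_zero.2 z0))
    have e : (Fintype.card F - 1) / 2 = Fintype.card F / 2 := by obtain ⟨j, hj⟩ := o; omega
    rw [e, ← FiniteField.isSquare_iff h2 (neg_ne_zero.2 z0)] at this
    exact absurd (by simpa using (m1 o k2).mul this) s

end Cfsg.Agent.S5964
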