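import Cfsg.Statements.S5966
import Cfsg.Agent.Lib.Classical.Inv9

set_option autoImplicit false
open scoped MatrixGroups
open Cfsg

namespace Cfsg.Agent.S5966
open Cfsg.Agent.Classical


/-- Elements of order 3 of PSL_n(q) in characteristic 3 and subfield subgroups. Here `T = PSL_n(F)` for a field `F` with `q` elements, `q` a power of 3 (`n ≥ 2`, `(n, q) ≠ (2, 2), (2, 3)`), `F₀` is the subfield with `q₀` elements where `q = q₀^k` for a prime `k`, and `H` is the subgroup of matrices of determinant 1 lying in the subfield group of `F₀` (invertible matrices over `F₀` times scalars) — a maximal subgroup of type GL_n(q₀) (the case `n = 2`, `q₀ = 2` is excluded); Ω is the set of `T`-conjugates of `H` (cosets of `H`), so an element of `T` of prime order `r` (a matrix `x` of determinant 1 with `x^r` scalar, `x` not scalar) fixes a point of Ω when some conjugate of `x` by a matrix of determinant 1 lies in `H`. Suppose 3 divides the index of `H`.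 Then every element of `T` of order 3 is conjugate in `T` into `H` if and only if `n` is odd, or `n` is even and `k > 2`. -/
theorem result {F : Type*} [Field F] [Fintype F] [CharP F 3] {q : ℕ} (hq : Fintype.card F = q)
    (n : ℕ) (hn : 2 ≤ n) (hT : (n, q) ≠ (2, 3))
    (F₀ : Subfield F) (k q₀ : ℕ) (hk : k.Prime) (hF₀ : Nat.card ↥F₀ = q₀) (hqk : q = q₀ ^ k) (hC5 : ¬ (n = 2 ∧ q₀ = 2)) (hΩ : 3 ∣ ((Cfsg.Geo.subfieldSubgroup F₀ 1).comap (Matrix.SpecialLinearGroup.toGL : Matrix.SpecialLinearGroup (Fin n) F →* GL (Fin n) F)).index) :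
    (∀ x : Matrix.SpecialLinearGroup (Fin n) F,
      (∃ z : F, ((x ^ 3 : Matrix.SpecialLinearGroup (Fin n) F) : Matrix (Fin n) (Fin n) F) = z • (1 : Matrix (Fin n) (Fin n) F)) →
      (∀ z : F, (x : Matrix (Fin n) (Fin n) F) ≠ z • (1 : Matrix (Fin n) (Fin n) F)) →
      ∃ P : Matrix.SpecialLinearGroup (Fin n) F, P⁻¹ * x * P ∈ ((Cfsg.Geo.subfieldSubgroup F₀ 1).comap (Matrix.SpecialLinearGroup.toGL : Matrix.SpecialLinearGroup (Fin n) F →* GL (Fin n) F))) ↔
    (Odd n ∨ (Even n ∧ 2 < k)) := by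
  classical
  subst hq hF₀
  haveI : Fact (Nat.Prime 3) := ⟨Nat.prime_three⟩
  have h2 : ringChar F ≠ 2 := by rw [ringChar.eq F 3]; omega
  have h3 : (3 : F) = 0 := by exact_mod_cast CharP.cast_eq_zero F 3
  have o : Odd (Fintype.card F) := Nat.odd_iff.2 (FiniteField.odd_card_of_char_ne_two h2)
  refine ⟨fun H => ?_, fun H x ⟨z, hz⟩ _ => Inv.suff3 (by omega) x (z := z) (by rw [← hz]; rfl)
    (H.imp_right fun h t t0 => Inv.sq_mul h2 (hk.odd_of_ne_two (by omega)) hqk t0)⟩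
  rcases Nat.even_or_odd n with ⟨m, nm⟩ | on
  swap
  · exact .inl on
  refine .inr ⟨⟨m, nm⟩, by_contra fun hk2 => ?_⟩
  obtain rfl : k = 2 := by have := hk.two_le; omega
  obtain ⟨w, hw⟩ := FiniteField.exists_nonsquare h2
  have w0 : w ≠ 0 := fun h => hw ⟨0, by simp [h]⟩
  let e : Fin m ⊕ Fin m ≃ Fin n := finSumFinEquiv.trans (finCongr nm.symm)
  have i0 : Fin m := ⟨0, by omega⟩
  obtain ⟨W, W1, W2⟩ : ∃ W : Matrix (Fin m) (Fin m) F, W.det = w ∧ W i0 i0 = w :=
    ⟨Matrix.diagonal (Function.update 1 i0 w), by simp [Finset.prod_update_of_mem], by simp⟩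
  obtain ⟨x, hx⟩ : ∃ x : Matrix.SpecialLinearGroup (Fin n) F, x.1 = (Matrix.fromBlocks 1 0 W 1).submatrix e.symm e.symm :=
    ⟨⟨(Matrix.fromBlocks 1 0 W 1).submatrix e.symm e.symm, by
      rw [Matrix.det_submatrix_equiv_self, Matrix.det_fromBlocks_zero₁₂]; simp⟩, rfl⟩
  have x3 : x.1 * x.1 * x.1 = 1 := by
    have : W + W + W = 0 := by ext i j; simp only [Matrix.add_apply, Matrix.zero_apply]; linear_combination W i j * h3
    simp only [hx, Matrix.submatrix_mul_equiv, Matrix.fromBlocks_multiply]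
    simp [this]
  obtain ⟨P, hP⟩ := H x ⟨1, by rw [pow_three', one_smul]; exact x3⟩ fun z hz => w0 (by
    have := congrFun₂ (hx.symm.trans hz) (e (.inr i0)) (e (.inl i0))
    simpa [W2, Matrix.one_apply] using this)
  obtain ⟨c, A, hA⟩ := Inv.of_mem_sub hP
  have e1 : (P⁻¹).1 * P.1 = 1 := congrArg Subtype.val (inv_mul_cancel P)
  have e2 : P.1 * (P⁻¹).1 = 1 := congrArg Subtype.val (mul_inv_cancel P)
  have e3 : (P⁻¹).1 * x.1 * P.1 = (c : F) • (Matrix.GeneralLinearGroup.map F₀.subtype A).1 := hA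
  have e4 : ((P⁻¹).1 * x.1 * P.1) * ((P⁻¹).1 * x.1 * P.1) * ((P⁻¹).1 * x.1 * P.1) = 1 := by
    calc _ = (P⁻¹).1 * (x.1 * (P.1 * (P⁻¹).1) * x.1 * (P.1 * (P⁻¹).1) * x.1) * P.1 := by simp only [mul_assoc]
      _ = _ := by rw [e2, mul_one, mul_one, x3, mul_one, e1]
  rw [e3, smul_mul_smul_comm, smul_mul_smul_comm, ← Units.val_mul (Matrix.GeneralLinearGroup.map F₀.subtype A),
    ← map_mul, ← Units.val_mul (Matrix.GeneralLinearGroup.map F₀.subtype (A * A)), ← map_mul] at e4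
  have e6 : (c : F) * c * c * (((A * A * A).1 (e (.inl i0)) (e (.inl i0)) : F₀) : F) =
    (1 : Matrix (Fin n) (Fin n) F) (e (.inl i0)) (e (.inl i0)) := congrFun₂ e4 _ _
  rw [Matrix.one_apply_eq] at e6
  obtain ⟨r, hr⟩ := surjective_frobenius F₀ 3 ((A * A * A).1 (e (.inl i0)) (e (.inl i0)))
  have c1 : (c : F) * r = 1 := frobenius_inj F 3 (by
    rw [map_one, ← e6, ← hr, frobenius_def, frobenius_def]; push_cast; ring)
  have c2 : (c : F) ∈ F₀ := eq_inv_of_mul_eq_one_left c1 ▸ inv_mem r.2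
  obtain ⟨a, a0, ha⟩ := Inv.key3 (F₀ := F₀) (P := P.1.submatrix e e) (y := ((P⁻¹).1 * x.1 * P.1).submatrix e e) (W := W)
    (by rw [Matrix.det_submatrix_equiv_self, P.det_coe]) (by
      rw [Matrix.submatrix_mul_equiv, ← mul_assoc, ← mul_assoc, e2, one_mul, ← Matrix.submatrix_mul_equiv _ _ _ e, hx]
      simp) fun i j => by
      rw [e3]
      exact mul_mem c2 (A.1 _ _).2
  obtain ⟨s, hs⟩ := Inv.sub_sq h2 hqk o ⟨_, ha⟩
  have hs' : a * (W.det * a) = s * s := hs
  exact hw ⟨s / a, by field_simp; linear_combination hs' - a * a * W1⟩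

end Cfsg.Agent.S5966
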