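import Cfsg.Statements.S5967
import Cfsg.Agent.Lib.Classical.Inv5

set_option autoImplicit false
open scoped MatrixGroups
open Cfsg

namespace Cfsg.Agent.S5967
open Cfsg.Agent.Classical


/-- Involutions of PSL_n(q) and the symplectic-type subgroups. Here `T = PSL_n(F)` for a field `F` with `q` elements, `n ≥ 4` even, `f` is a nondegenerate alternating form on `F^n`, and `H` is the subgroup of matrices of determinant 1 preserving `f` up to a scalar — a maximal subgroup of type Sp_n(q); Ω is the set of `T`-conjugates of `H` (cosets of `H`), so an element of `T` of prime order `r` (a matrix `x` of determinant 1 with `x^r` scalar, `x` not scalar) fixes a point of Ω when some conjugate of `x` by a matrix of determinant 1 preserves `f` up to a scalar. Suppose the index of `H` is even. Then every involution of `T` is conjugate in `T` into `H` if and only if `(q − 1)_2 ≤ (n)_2`. -/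
theorem result {F : Type*} [Field F] [Fintype F] {p : ℕ} [Fact p.Prime] [CharP F p] {q : ℕ} (hq : Fintype.card F = q)
    (n : ℕ) (hn : 4 ≤ n) (he : Even n) (f : (Fin n → F) → (Fin n → F) → F) (hf : Cfsg.Geo.IsSymplecticForm f)
    (hΩ : 2 ∣ ((Cfsg.Geo.similarityGroup f).comap (Matrix.SpecialLinearGroup.toGL : Matrix.SpecialLinearGroup (Fin n) F →* GL (Fin n) F)).index) :
    (∀ x : Matrix.SpecialLinearGroup (Fin n) F,
      (∃ z : F, ((x ^ 2 : Matrix.SpecialLinearGroup (Fin n) F) : Matrix (Fin n) (Fin n) F) = z • (1 : Matrix (Fin n) (Fin n) F)) →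
      (∀ z : F, (x : Matrix (Fin n) (Fin n) F) ≠ z • (1 : Matrix (Fin n) (Fin n) F)) →
      ∃ P : Matrix.SpecialLinearGroup (Fin n) F, P⁻¹ * x * P ∈ ((Cfsg.Geo.similarityGroup f).comap (Matrix.SpecialLinearGroup.toGL : Matrix.SpecialLinearGroup (Fin n) F →* GL (Fin n) F))) ↔
    padicValNat 2 (q - 1) ≤ padicValNat 2 n := by
  classical
  obtain ⟨B, hB⟩ : ∃ B : LinearMap.BilinForm F (Fin n → F), ∀ x y, f x y = B x y :=
    ⟨LinearMap.mk₂ F f hf.bilinear.add_left hf.bilinear.smul_left hf.bilinear.add_right hf.bilinear.smul_right,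
      fun _ _ => rfl⟩
  have alt : ∀ x, B x x = 0 := fun x => hB x x ▸ hf.alternating x
  have nd : ∀ x, x ≠ 0 → ∃ y, B x y ≠ 0 := fun x hx => (hf.nondegenerate x hx).2.imp fun y hy => hB x y ▸ hy
  have q2 : 2 ≤ q := hq ▸ Fintype.one_lt_card
  have cu : Nat.card Fˣ = q - 1 := by rw [Nat.card_units, Nat.card_eq_fintype_card, hq]
  obtain ⟨m, hm, n1⟩ : ∃ m, Odd m ∧ n = 2 ^ padicValNat 2 n * m := by
    obtain ⟨a, m, h1, h2⟩ := Nat.exists_eq_two_pow_mul_odd (show n ≠ 0 by omega)
    refine ⟨m, h1, ?_⟩
    rw [h2, padicValNat.mul (by simp) h1.pos.ne', padicValNat.prime_pow,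
      padicValNat.eq_zero_of_not_dvd h1.not_two_dvd_nat, add_zero]
  refine ⟨fun h => by_contra fun k => ?_, fun h x ⟨z, hz⟩ _ => ?_⟩
  · have dv : 2 ^ (padicValNat 2 n + 1) ∣ q - 1 := (pow_dvd_pow 2 (by omega)).trans pow_padicValNat_dvd
    obtain ⟨γ, hγ⟩ := IsCyclic.exists_ofOrder_eq_natCard (α := Fˣ)
    have o := orderOf_pow_orderOf_div (x := γ) (n := 2 ^ (padicValNat 2 n + 1)) (by omega) (by rw [hγ, cu]; exact dv)
    generalize γ ^ (orderOf γ / 2 ^ (padicValNat 2 n + 1)) = c at o
    have c1 : (c : F) ^ 2 ^ padicValNat 2 n ≠ 1 := fun e => by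
      have := Nat.le_of_dvd (by positivity) (orderOf_dvd_of_pow_eq_one (x := c) (n := 2 ^ padicValNat 2 n)
        (Units.ext (by simpa using e)))
      rw [o, pow_succ] at this
      have : 0 < 2 ^ padicValNat 2 n := by positivity
      omega
    have c2 : (c : F) ^ 2 ^ padicValNat 2 n = -1 := (mul_self_eq_one_iff.1 (by
      rw [← pow_add, ← mul_two, ← pow_succ, ← o, ← Units.val_pow_eq_pow_val, pow_orderOf_eq_one]; rfl)).resolve_left c1
    have h2 : (2 : F) ≠ 0 := fun e => c1 (by rw [c2]; linear_combination -e)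
    have c3 : (c : F) ^ n = -1 := by rw [n1, pow_mul, c2, hm.neg_one_pow]
    have c0 := c.ne_zero
    obtain ⟨e⟩ : Nonempty (Fin 3 ↪ Fin n) := ⟨Fin.castLEEmb (by omega)⟩
    obtain ⟨x, hx⟩ : ∃ x : Matrix.SpecialLinearGroup (Fin n) F,
        x.1 = Matrix.diagonal fun i => if i = e 0 then -(c : F) else c := ⟨⟨Matrix.diagonal fun i => if i = e 0 then -(c : F) else c, by
      rw [Matrix.det_diagonal, Finset.prod_congr rfl (g := fun i => (if i = e 0 then -1 else 1) * (c : F))
        fun i _ => by split_ifs <;> simp, Finset.prod_mul_distrib]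
      simp [c3]⟩, rfl⟩
    obtain ⟨P, μ, hP⟩ := h x ⟨c * c, by
      rw [Matrix.SpecialLinearGroup.coe_pow, pow_two, hx, Matrix.diagonal_mul_diagonal, Matrix.smul_one_eq_diagonal]
      congr 1; ext i; split_ifs <;> simp⟩ fun z k => by
        have e1 := congrFun₂ k (e 0) (e 0)
        have e2 := congrFun₂ k (e 1) (e 1)
        simp [hx] at e1 e2
        exact mul_ne_zero h2 c0 (by linear_combination e2 - e1)
    have e1 : P.1 * (P⁻¹).1 = 1 := congrArg Subtype.val (mul_inv_cancel P)
    set w : Fin n → Fin n → F := fun i => (P⁻¹).1.mulVec (Pi.single i 1) with hw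
    have ev : ∀ i, ((P⁻¹).1 * x.1 * P.1).mulVec (w i) = (if i = e 0 then -(c : F) else c) • w i := fun i => by
      rw [hw, Matrix.mulVec_mulVec, mul_assoc, e1, mul_one, ← Matrix.mulVec_mulVec, hx, Matrix.diagonal_mulVec_single,
        ← Matrix.mulVec_smul]
      congr 1
      ext j; by_cases k : j = i <;> simp [k]
    have k1 : ∀ i j, (if i = e 0 then -(c : F) else c) * ((if j = e 0 then -(c : F) else c) * B (w i) (w j)) =
        μ * B (w i) (w j) := fun i j => by
      have := hP (w i) (w j)
      change f (((P⁻¹).1 * x.1 * P.1).mulVec (w i)) (((P⁻¹).1 * x.1 * P.1).mulVec (w j)) = _ at this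
      rw [ev, ev, hB, hB] at this
      simp only [map_smul, LinearMap.smul_apply, smul_eq_mul] at this
      linear_combination this
    have rad : ∀ v, (∀ j, B v (w j) = 0) → v = 0 := fun v hv => by_contra fun k => by
      obtain ⟨y, hy⟩ := nd v k
      refine hy ?_
      have e2 : (P⁻¹).1 * P.1 = 1 := congrArg Subtype.val (inv_mul_cancel P)
      rw [← Matrix.one_mulVec y, ← e2, ← Matrix.mulVec_mulVec, pi_eq_sum_univ' (P.1.mulVec y), Matrix.mulVec_sum,
        map_sum]
      exact Finset.sum_eq_zero fun j _ => by rw [Matrix.mulVec_smul, map_smul, hv j, smul_zero]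
    have ind : ∀ (i j) (s t : F), i ≠ j → s • w i + t • w j = 0 → s = 0 := fun i j s t ij k => by
      have := congrFun (congrArg P.1.mulVec k) i
      simp only [hw, Matrix.mulVec_add, Matrix.mulVec_smul, Matrix.mulVec_mulVec, e1, Matrix.one_mulVec] at this
      simpa [ij] using this
    obtain ⟨j, hj⟩ : ∃ j, B (w (e 0)) (w j) ≠ 0 := by_contra fun k => by
      push Not at k
      exact one_ne_zero (ind (e 0) (e 1) 1 0 (by simp) (by simp [rad _ k]))
    have j0 : j ≠ e 0 := by rintro rfl; exact hj (alt _)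
    have μ1 : (μ : F) = -(c * c) := mul_right_cancel₀ hj (by
      have := k1 (e 0) j
      simp only [if_true, if_neg j0] at this
      linear_combination -this)
    have k2 : ∀ i j, i ≠ e 0 → j ≠ e 0 → B (w i) (w j) = 0 := fun i j hi hj => by
      have := k1 i j
      rw [if_neg hi, if_neg hj, μ1] at this
      exact (mul_eq_zero.1 (show (2 * c * c) * B (w i) (w j) = 0 by linear_combination this)).resolve_left
        (by simp [h2])
    have k3 := ind (e 1) (e 2) (B (w (e 2)) (w (e 0))) (-B (w (e 1)) (w (e 0))) (by simp) (rad _ fun j => by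
      by_cases k : j = e 0
      · simp [k, mul_comm]
      · simp [k2 (e 1) j (by simp) k, k2 (e 2) j (by simp) k])
    exact one_ne_zero (ind (e 2) (e 1) 1 0 (by simp) (by
      rw [rad (w (e 2)) fun j => by
        by_cases k : j = e 0
        · rw [k, k3]
        · exact k2 _ _ (by simp) k]
      simp))
  · rw [Matrix.SpecialLinearGroup.coe_pow] at hz
    have hz' : ∀ v, Matrix.toLin' x.1 (Matrix.toLin' x.1 v) = z • v := fun v => by
      rw [Matrix.toLin'_apply, Matrix.toLin'_apply, Matrix.mulVec_mulVec, ← pow_two, hz, Matrix.smul_mulVec,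
        Matrix.one_mulVec]
    have z0 : z ≠ 0 := by
      rintro rfl
      haveI : Nonempty (Fin n) := ⟨⟨0, by omega⟩⟩
      have := congrArg Matrix.det hz
      rw [Matrix.det_pow, x.det_coe, zero_smul, Matrix.det_zero] at this
      simp at this
    obtain ⟨I, _, v, d, d0, hv⟩ := Inv.plane_basis z0 hz' (by simpa using he)
      (by rw [LinearMap.det_toLin', x.det_coe]) fun h2 c hc => by
        rw [Module.finrank_fin_fun] at hc
        have c0 : c ≠ 0 := by rintro rfl; rw [zero_pow (by omega)] at hc; simp at hc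
        obtain ⟨a, r, h1, h3⟩ := Nat.exists_eq_two_pow_mul_odd (show q - 1 ≠ 0 by omega)
        have : padicValNat 2 (q - 1) = a := by
          rw [h3, padicValNat.mul (by simp) h1.pos.ne', padicValNat.prime_pow,
            padicValNat.eq_zero_of_not_dvd h1.not_two_dvd_nat, add_zero]
        obtain ⟨t, ht⟩ : q - 1 ∣ n * r := by
          rw [h3]
          exact Nat.mul_dvd_mul_right ((pow_dvd_pow 2 (by omega)).trans pow_padicValNat_dvd) r
        have e1 := congrArg (c ^ ·) ht
        simp only [pow_mul, hc, h1.neg_one_pow, ← hq, FiniteField.pow_card_sub_one_eq_one c c0, one_pow] at e1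
        exact h2 (by linear_combination -e1)
    obtain ⟨P, hP⟩ := Inv.conj_sim (by omega) alt nd x v hv
    exact ⟨P, Units.mk0 d d0, fun u w => by rw [hB, hB]; exact hP u w⟩

end Cfsg.Agent.S5967
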