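import Cfsg.Statements.S5968
import Cfsg.Agent.Lib.Chev.SimD

set_option autoImplicit false
open scoped MatrixGroups
open Cfsg

namespace Cfsg.Agent.S5968

open Cfsg.Agent.Chev.SimD Cfsg.Agent.Classical Matrix

/-- Derangements of odd prime order of PSL_n(q) on the cosets of a symplectic-type subgroup. Here `T = PSL_n(F)` for a field `F` with `q` elements, `n ≥ 4` even, `f` is a nondegenerate alternating form on `F^n`, and `H` is the subgroup of matrices of determinant 1 preserving `f` up to a scalar — a maximal subgroup of type Sp_n(q); Ω is the set of `T`-conjugates of `H` (cosets of `H`), so an element of `T` of prime order `r` (a matrix `x` of determinant 1 with `x^r` scalar, `x` not scalar) fixes a point of Ω when some conjugate of `x` by a matrix of determinant 1 preserves `f` up to a scalar. For every odd prime `r` dividing the index of `H`, with `(n, r) ≠ (6, 3)`, there is an element of `T` of order `r` with no conjugate in `H`. (For `n = 6`, `r = 3` this can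 fail: when `(q − 1)_3 = 3` every element of order 3 is conjugate into `H`.) -/
theorem result {F : Type*} [Field F] [Fintype F] {p : ℕ} [Fact p.Prime] [CharP F p] {q : ℕ} (hq : Fintype.card F = q)
    (n : ℕ) (hn : 4 ≤ n) (he : Even n) (f : (Fin n → F) → (Fin n → F) → F) (hf : Cfsg.Geo.IsSymplecticForm f)
    (r : ℕ) [Fact r.Prime] (hr2 : r ≠ 2) (hgap : ¬ (n = 6 ∧ r = 3)) (hΩ : r ∣ ((Cfsg.Geo.similarityGroup f).comap (Matrix.SpecialLinearGroup.toGL : Matrix.SpecialLinearGroup (Fin n) F →* GL (Fin n) F)).index) :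
    ∃ x : Matrix.SpecialLinearGroup (Fin n) F,
      (∃ z : F, ((x ^ r : Matrix.SpecialLinearGroup (Fin n) F) : Matrix (Fin n) (Fin n) F) = z • (1 : Matrix (Fin n) (Fin n) F)) ∧
      (∀ z : F, (x : Matrix (Fin n) (Fin n) F) ≠ z • (1 : Matrix (Fin n) (Fin n) F)) ∧
      ∀ P : Matrix.SpecialLinearGroup (Fin n) F, P⁻¹ * x * P ∉ ((Cfsg.Geo.similarityGroup f).comap (Matrix.SpecialLinearGroup.toGL : Matrix.SpecialLinearGroup (Fin n) F →* GL (Fin n) F)) := by
  subst hq
  have hr : r.Prime := Fact.out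
  let B : LinearMap.BilinForm F (Fin n → F) := LinearMap.mk₂ F f hf.bilinear.add_left hf.bilinear.smul_left hf.bilinear.add_right hf.bilinear.smul_right
  have nd : ∀ v, (∀ u, B u v = 0) → v = 0 := fun v h => by_contra fun e => (hf.nondegenerate v e).1.elim fun u hu => hu (h u)
  obtain ⟨x, x1, x2, x3⟩ : ∃ x : Matrix (Fin n) (Fin n) F, x ^ r = 1 ∧ x.det = 1 ∧ Bad x := by
    obtain ⟨k, rfl⟩ : ∃ k, n = k + 4 := ⟨n - 4, by omega⟩
    by_cases e1 : r = p
    · exact e1 ▸ unip (n := k + 1) p (e1 ▸ hr2)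
    by_cases e2 : r ∣ Fintype.card F - 1
    · exact diag hr2 e2 hgap
    obtain ⟨m, hm⟩ := he
    let S := (Form.ofAlt B hf.alternating).Isom.comap (glEquiv (ι := Fin (k + 4)) (F := F)).toMonoidHom
    let D := (GeneralLinearGroup.det : GL (Fin (k + 4)) F →* Fˣ).ker
    have a1 : S ≤ Cfsg.Geo.similarityGroup f := fun g hg => ⟨1, fun u v => (hg.1 u v).trans (one_mul _).symm⟩
    have a2 : (SpecialLinearGroup.toGL : SpecialLinearGroup (Fin (k + 4)) F →* GL (Fin (k + 4)) F).range = D := by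
      ext g
      exact ⟨by rintro ⟨g, rfl⟩; exact Units.ext g.2, fun h => ⟨⟨g.1, congrArg Units.val h⟩, Units.ext rfl⟩⟩
    rw [Subgroup.index_comap, a2, ← Subgroup.inf_relIndex_right] at hΩ
    have a3 := hΩ.mul_right D.index
    rw [Subgroup.relIndex_mul_index inf_le_right, ← Subgroup.relIndex_mul_index inf_le_left, Subgroup.inf_relIndex_left, hr.dvd_mul] at a3
    have a4 := (a3.resolve_left fun h => e2 (by
      have := h.trans (Subgroup.relIndex_dvd_index_of_normal D _)
      rw [Subgroup.index_ker] at this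
      simpa [Nat.card_units] using this.trans (Subgroup.card_subgroup_dvd_card _))).trans (Subgroup.index_dvd_of_le a1)
    have a5 := S.index_mul_card
    rw [Nat.card_congr (subEquiv S (Form.ofAlt B hf.alternating).Isom fun _ => Iff.rfl).toEquiv, card_symp m (Form.ofAlt B hf.alternating) nd (by simp; omega), card_GL_field, Nat.card_eq_fintype_card] at a5
    obtain ⟨s, hs⟩ := arith Fintype.one_lt_card (a5.trans (by rw [show k + 4 = 2 * m by omega]))
    obtain ⟨e, hp, he⟩ := FiniteField.card F p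
    obtain ⟨i, i1, i2⟩ := (hr.prime.dvd_finsetProd_iff _).1 ((hr.dvd_mul.1 (a4.trans hs)).resolve_left fun h =>
      e1 ((Nat.prime_dvd_prime_iff_eq hr hp).1 (hr.dvd_of_dvd_pow (he ▸ hr.dvd_of_dvd_pow h))))
    exact field p i2 e2 (by have := Finset.mem_range.1 i1; omega)
  refine ⟨⟨x, x2⟩, ⟨1, (Matrix.SpecialLinearGroup.coe_pow (⟨x, x2⟩ : Matrix.SpecialLinearGroup (Fin n) F) r).trans (x1.trans (one_smul _ _).symm)⟩, fun z e => x3 B hf.alternating nd (z * z) fun u v => ?_, fun P ⟨c, hc⟩ => ?_⟩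
  · simp [show x = _ from e, smul_mulVec, mul_assoc]
  have k : ∀ v, P.1 *ᵥ ((P⁻¹).1 *ᵥ v) = v := fun v => by
    rw [mulVec_mulVec, show P.1 * (P⁻¹).1 = 1 from congrArg Subtype.val (mul_inv_cancel P), one_mulVec]
  refine x3 (B.compl₁₂ (toLin' (P⁻¹).1) (toLin' (P⁻¹).1)) (fun v => hf.alternating _) (fun v h => ?_) c fun u v => ?_
  · rw [← k v, nd ((P⁻¹).1 *ᵥ v) fun u => ?_, mulVec_zero]
    have := h (P.1 *ᵥ u)
    rwa [LinearMap.compl₁₂_apply, toLin'_apply, mulVec_mulVec, show (P⁻¹).1 * P.1 = 1 from congrArg Subtype.val (inv_mul_cancel P), one_mulVec] at this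
  have := hc ((P⁻¹).1 *ᵥ u) ((P⁻¹).1 *ᵥ v)
  change f (((P⁻¹).1 * x * P.1) *ᵥ _) (((P⁻¹).1 * x * P.1) *ᵥ _) = _ at this
  rw [← mulVec_mulVec, ← mulVec_mulVec, ← mulVec_mulVec, ← mulVec_mulVec, k, k] at this
  exact this

end Cfsg.Agent.S5968
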