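import Cfsg.Statements.S5969
import Cfsg.Agent.Lib.Classical.Inv6

set_option autoImplicit false
open scoped MatrixGroups
open Cfsg

namespace Cfsg.Agent.S5969
open Cfsg.Agent.Classical


/-- Involutions of PSL_n(q) and extension-field subgroups of degree 2. Here `T = PSL_n(F)` for a field `F` with `q = p^f` elements (`n ≥ 2`, `(n, q) ≠ (2, 2), (2, 3)`), `k` is a prime dividing `n`, `K` is a subalgebra of the `n × n` matrices that is a field of degree `k` over `F` (an extension-field structure F_{q^k} on `F^n`), and `H` is the subgroup of matrices of determinant 1 normalizing `K` — a subgroup of type GL_{n/k}(q^k) (maximal except in some small cases; maximality is not assumed); Ω is the set of cosets of `H` in `T`, so an element of `T` of prime order `r` (a matrix `x` of determinant 1 with `x^r` scalar, `x` not scalar) fixes a point of Ω when some conjugate of `x` by a matrix of determinant 1 normalizes `K`. Take `k = 2` and suppose the index of `H` is even. Then every involution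 of `T` is conjugate in `T` into `H` if and only if `n = 2`, or `q` is odd and `(q − 1)_2 ≤ (n)_2`. -/
theorem result {F : Type*} [Field F] [Fintype F] {p : ℕ} [Fact p.Prime] [CharP F p] {q : ℕ} (hq : Fintype.card F = q)
    (n : ℕ) (hn : 2 ≤ n) (hT : (n, q) ≠ (2, 2) ∧ (n, q) ≠ (2, 3))
    (k : ℕ) (hk : k.Prime) (hkn : k ∣ n) (K : Subalgebra F (Matrix (Fin n) (Fin n) F)) (hK : Cfsg.Geo.IsFieldSubalgebra k K) (hk2 : k = 2) (hΩ : 2 ∣ ((Cfsg.Geo.subalgebraNormalizer K).comap (Matrix.SpecialLinearGroup.toGL : Matrix.SpecialLinearGroup (Fin n) F →* GL (Fin n) F)).index) :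
    (∀ x : Matrix.SpecialLinearGroup (Fin n) F,
      (∃ z : F, ((x ^ 2 : Matrix.SpecialLinearGroup (Fin n) F) : Matrix (Fin n) (Fin n) F) = z • (1 : Matrix (Fin n) (Fin n) F)) →
      (∀ z : F, (x : Matrix (Fin n) (Fin n) F) ≠ z • (1 : Matrix (Fin n) (Fin n) F)) →
      ∃ P : Matrix.SpecialLinearGroup (Fin n) F, P⁻¹ * x * P ∈ ((Cfsg.Geo.subalgebraNormalizer K).comap (Matrix.SpecialLinearGroup.toGL : Matrix.SpecialLinearGroup (Fin n) F →* GL (Fin n) F))) ↔
    (n = 2 ∨ (Odd q ∧ padicValNat 2 (q - 1) ≤ padicValNat 2 n)) := by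
  classical
  subst hk2
  haveI : Nonempty (Fin n) := ⟨⟨0, by omega⟩⟩
  have hF : IsField K :=
    { exists_pair_ne := ⟨0, 1, zero_ne_one⟩
      mul_comm := fun a b => Subtype.ext (hK.comm _ a.2 _ b.2)
      mul_inv_cancel := fun {a} ha => by
        obtain ⟨y, hy, e⟩ := hK.inv a a.2 (fun h => ha (Subtype.ext h))
        exact ⟨⟨y, hy⟩, Subtype.ext e⟩ }
  letI := hF.toField
  have hr : Module.finrank F K = 2 := hK.finrank_eq
  have rg : (K.val : K →ₐ[F] _).range = K := Subalgebra.range_val K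
  have q2 : 2 ≤ q := hq ▸ Fintype.one_lt_card
  have cu : Nat.card Fˣ = q - 1 := by rw [Nat.card_units, Nat.card_eq_fintype_card, hq]
  have od : Odd q ↔ (2 : F) ≠ 0 := by
    rw [Nat.odd_iff, ← hq, ← Nat.mod_two_ne_zero, Ne, ← FiniteField.even_card_iff_char_two, ringChar.eq_iff,
      CharP.charP_iff_prime_eq_zero Nat.prime_two]
    norm_cast
  refine ⟨fun h => by_contra fun k => ?_, fun h x ⟨z, hz⟩ hx => ?_⟩
  · have n4 : 4 ≤ n := by omega
    obtain ⟨e⟩ : Nonempty (Fin 2 ↪ Fin n) := ⟨Fin.castLEEmb (by omega)⟩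
    obtain ⟨c, f, c0, f0, f1, f2⟩ : ∃ (c : F) (f : (Fin n → F) →ₗ[F] F), c ≠ 0 ∧ (∃ v, f v ≠ 0) ∧
        c ^ n * (1 + f (Pi.single (e 0) 1)) = 1 ∧ 2 + f (Pi.single (e 0) 1) = 0 := by
      by_cases h2 : (2 : F) = 0
      · exact ⟨1, LinearMap.proj (e 1), one_ne_zero, ⟨fun _ => 1, one_ne_zero⟩, by simp, by simp [h2]⟩
      · have k2 : padicValNat 2 n < padicValNat 2 (q - 1) := by_contra fun k' => k (.inr ⟨od.2 h2, by omega⟩)
        obtain ⟨m, hm, n1⟩ : ∃ m, Odd m ∧ n = 2 ^ padicValNat 2 n * m := by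
          obtain ⟨a, m, h1, h2⟩ := Nat.exists_eq_two_pow_mul_odd (show n ≠ 0 by omega)
          refine ⟨m, h1, ?_⟩
          rw [h2, padicValNat.mul (by simp) h1.pos.ne', padicValNat.prime_pow,
            padicValNat.eq_zero_of_not_dvd h1.not_two_dvd_nat, add_zero]
        have dv : 2 ^ (padicValNat 2 n + 1) ∣ q - 1 := (pow_dvd_pow 2 (by omega)).trans pow_padicValNat_dvd
        obtain ⟨γ, hγ⟩ := IsCyclic.exists_ofOrder_eq_natCard (α := Fˣ)
        have o := orderOf_pow_orderOf_div (x := γ) (n := 2 ^ (padicValNat 2 n + 1)) (by omega)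
          (by rw [hγ, cu]; exact dv)
        generalize γ ^ (orderOf γ / 2 ^ (padicValNat 2 n + 1)) = c at o
        have c1 : (c : F) ^ 2 ^ padicValNat 2 n ≠ 1 := fun e => by
          have := Nat.le_of_dvd (by positivity) (orderOf_dvd_of_pow_eq_one (x := c) (n := 2 ^ padicValNat 2 n)
            (Units.ext (by simpa using e)))
          rw [o, pow_succ] at this
          have : 0 < 2 ^ padicValNat 2 n := by positivity
          omega
        have c2 : (c : F) ^ 2 ^ padicValNat 2 n = -1 := (mul_self_eq_one_iff.1 (by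
          rw [← pow_add, ← mul_two, ← pow_succ, ← o, ← Units.val_pow_eq_pow_val, pow_orderOf_eq_one]
          rfl)).resolve_left c1
        have c3 : (c : F) ^ n = -1 := by rw [n1, pow_mul, c2, hm.neg_one_pow]
        exact ⟨c, (-2 : F) • LinearMap.proj (e 0), c.ne_zero, ⟨fun _ => 1, by simpa using h2⟩,
          by simp [c3]; norm_num, by simp⟩
    obtain ⟨g, g1, g2⟩ := NMax.exists_tr f (Pi.single (e 0) 1) (right_ne_zero_of_mul_eq_one f1)
    obtain ⟨x, hx⟩ : ∃ x : Matrix.SpecialLinearGroup (Fin n) F, x.1 = c • g.1 :=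
      ⟨⟨c • g.1, by rw [Matrix.det_smul, g1, Fintype.card_fin, f1]⟩, rfl⟩
    have xv : ∀ v, x.1.mulVec v = c • v + (c * f v) • (Pi.single (e 0) 1 : Fin n → F) := fun v => by
      rw [hx, Matrix.smul_mulVec, g2, smul_add, smul_smul]
    obtain ⟨v₀, hv⟩ := f0
    obtain ⟨P, hP⟩ := h x ⟨c * c, Matrix.ext_of_mulVec_single fun i => by
      rw [Matrix.SpecialLinearGroup.coe_pow, pow_two, ← Matrix.mulVec_mulVec, Matrix.smul_mulVec, Matrix.one_mulVec]
      generalize (Pi.single i 1 : Fin n → F) = v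
      rw [xv, xv, map_add, map_smul, map_smul]
      have : (c * c * f v * (2 + f (Pi.single (e 0) 1))) • (Pi.single (e 0) 1 : Fin n → F) = 0 := by simp [f2]
      simp only [smul_eq_mul]
      linear_combination (norm := module) this⟩ fun z k => by
        obtain ⟨v, v1, v0⟩ := Submodule.exists_mem_ne_zero_of_ne_bot
          (LinearMap.ker_ne_bot_of_finrank_lt (f := f.prod (LinearMap.proj (R := F) (φ := fun _ => F) (e 0)))
            (by simp; omega))
        have e1 := xv v
        have e2 := xv (v₀ + v)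
        have e3 := xv v₀
        have f3 : f v = 0 := congrArg Prod.fst v1
        rw [k, Matrix.smul_mulVec, Matrix.one_mulVec] at e1 e3
        rw [f3, mul_zero, zero_smul, add_zero] at e1
        obtain rfl := smul_left_injective F v0 e1
        simpa [c0, hv] using congrFun e3 (e 0)
    have e1 : P.1 * (P⁻¹).1 = 1 := congrArg Subtype.val (mul_inv_cancel P)
    have e2 : (P⁻¹).1 * P.1 = 1 := congrArg Subtype.val (inv_mul_cancel P)
    rw [← rg] at hP
    refine Inv.not_norm (L := K) (by omega) K.val hr c0 (c • f ∘ₗ P.1.mulVecLin)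
      (u := (P⁻¹).1.mulVec (Pi.single (e 0) 1)) (v₀ := (P⁻¹).1.mulVec v₀) (fun k => ?_) ?_ (fun v => ?_) hP
    · have := congrArg P.1.mulVec k
      rw [Matrix.mulVec_mulVec, e1, Matrix.one_mulVec, Matrix.mulVec_zero] at this
      simpa using congrFun this (e 0)
    · rw [LinearMap.smul_apply, LinearMap.comp_apply, Matrix.mulVecLin_apply, Matrix.mulVec_mulVec, e1,
        Matrix.one_mulVec]
      simp [c0, hv]
    · change ((P⁻¹).1 * x.1 * P.1).mulVec v = _
      rw [← Matrix.mulVec_mulVec, ← Matrix.mulVec_mulVec, xv, Matrix.mulVec_add, Matrix.mulVec_smul,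
        Matrix.mulVec_smul, Matrix.mulVec_mulVec, e2, Matrix.one_mulVec]
      rfl
  · rw [Matrix.SpecialLinearGroup.coe_pow] at hz
    have hz' : ∀ v, Matrix.toLin' x.1 (Matrix.toLin' x.1 v) = z • v := fun v => by
      rw [Matrix.toLin'_apply, Matrix.toLin'_apply, Matrix.mulVec_mulVec, ← pow_two, hz, Matrix.smul_mulVec,
        Matrix.one_mulVec]
    have z0 : z ≠ 0 := by
      rintro rfl
      have := congrArg Matrix.det hz
      rw [Matrix.det_pow, x.det_coe, zero_smul, Matrix.det_zero] at this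
      simp at this
    have hs : ¬ ∃ c : F, ∀ v, Matrix.toLin' x.1 v = c • v := fun ⟨c, hc⟩ => hx c
      (Matrix.ext_of_mulVec_single fun i => by rw [Matrix.smul_mulVec, Matrix.one_mulVec]; exact hc _)
    rw [← rg]
    by_cases h2 : (2 : F) = 0
    · exact Inv.suff_two (L := K) h2 (h.resolve_right fun k => od.1 k.1 h2) K.val hr x z0 hz' hs
    · refine Inv.suff_odd (L := K) h2 (by omega) (even_iff_two_dvd.2 hkn) K.val hr (h.imp_right fun h c hc => ?_)
        x z0 hz' hs
      have c0 : c ≠ 0 := by rintro rfl; rw [zero_pow (by omega)] at hc; simp at hc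
      obtain ⟨a, r, h1, h3⟩ := Nat.exists_eq_two_pow_mul_odd (show q - 1 ≠ 0 by omega)
      have : padicValNat 2 (q - 1) = a := by
        rw [h3, padicValNat.mul (by simp) h1.pos.ne', padicValNat.prime_pow,
          padicValNat.eq_zero_of_not_dvd h1.not_two_dvd_nat, add_zero]
      obtain ⟨t, ht⟩ : q - 1 ∣ n * r := by
        rw [h3]
        exact Nat.mul_dvd_mul_right ((pow_dvd_pow 2 (by omega)).trans pow_padicValNat_dvd) r
      have e1 := congrArg (c ^ ·) ht
      simp only [pow_mul, hc, h1.neg_one_pow, ← hq, FiniteField.pow_card_sub_one_eq_one c c0, one_pow] at e1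
      exact h2 (by linear_combination -e1)

end Cfsg.Agent.S5969
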