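import Cfsg.Statements.S5970
import Cfsg.Agent.Lib.Chev.Singer

set_option autoImplicit false
open scoped MatrixGroups
open Cfsg

namespace Cfsg.Agent.S5970

open Cfsg.Agent.Chev.Singer Matrix

/-- Elements of order `n` of PSL_n(q), `n` prime, and the normalizer of a Singer cycle. Here `T = PSL_n(F)` for a field `F` with `q = p^f` elements (`n ≥ 2`, `(n, q) ≠ (2, 2), (2, 3)`), `k` is a prime dividing `n`, `K` is a subalgebra of the `n × n` matrices that is a field of degree `k` over `F` (an extension-field structure F_{q^k} on `F^n`), and `H` is the subgroup of matrices of determinant 1 normalizing `K` — a subgroup of type GL_{n/k}(q^k) (maximal except in some small cases; maximality is not assumed); Ω is the set of cosets of `H` in `T`, so an element of `T` of prime order `r` (a matrix `x` of determinant 1 with `x^r` scalar, `x` not scalar) fixes a point of Ω when some conjugate of `x` by a matrix of determinant 1 normalizes `K`. Take `k = n > 3` prime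 with `n ≠ p` (so `H` is the normalizer of a Singer cycle), and suppose `n` divides the index of `H`. Then every element of `T` of order `n` is conjugate in `T` into `H` if and only if the multiplicative order of `q` modulo `n` is `n − 1`. -/
theorem result {F : Type*} [Field F] [Fintype F] {p : ℕ} [Fact p.Prime] [CharP F p] {q : ℕ} (hq : Fintype.card F = q)
    (n : ℕ) (hn : 2 ≤ n) (hT : (n, q) ≠ (2, 2) ∧ (n, q) ≠ (2, 3))
    (k : ℕ) (hk : k.Prime) (hkn : k ∣ n) (K : Subalgebra F (Matrix (Fin n) (Fin n) F)) (hK : Cfsg.Geo.IsFieldSubalgebra k K) (hkn' : k = n) (hn3 : 3 < n) (hnp : n ≠ p) (hΩ : n ∣ ((Cfsg.Geo.subalgebraNormalizer K).comap (Matrix.SpecialLinearGroup.toGL : Matrix.SpecialLinearGroup (Fin n) F →* GL (Fin n) F)).index) :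
    (∀ x : Matrix.SpecialLinearGroup (Fin n) F,
      (∃ z : F, ((x ^ n : Matrix.SpecialLinearGroup (Fin n) F) : Matrix (Fin n) (Fin n) F) = z • (1 : Matrix (Fin n) (Fin n) F)) →
      (∀ z : F, (x : Matrix (Fin n) (Fin n) F) ≠ z • (1 : Matrix (Fin n) (Fin n) F)) →
      ∃ P : Matrix.SpecialLinearGroup (Fin n) F, P⁻¹ * x * P ∈ ((Cfsg.Geo.subalgebraNormalizer K).comap (Matrix.SpecialLinearGroup.toGL : Matrix.SpecialLinearGroup (Fin n) F →* GL (Fin n) F))) ↔
    orderOf (q : ZMod n) = n - 1 := by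
  subst hq hkn'
  have := Fact.mk hk
  obtain ⟨e, hp, he⟩ := FiniteField.card F p
  have hq : ¬k ∣ Fintype.card F := fun f => hnp ((Nat.prime_dvd_prime_iff_eq hk hp).1 (hk.dvd_of_dvd_pow (he ▸ f)))
  have a : ∀ j, k ∣ Fintype.card F ^ j - 1 ↔ orderOf (Fintype.card F : ZMod k) ∣ j := fun j => by
    rw [orderOf_dvd_iff_pow_eq_one, ← ZMod.natCast_eq_zero_iff, Nat.cast_sub (Nat.one_le_pow _ _ Fintype.card_pos), sub_eq_zero]; simp
  have b := orderOf_dvd_of_pow_eq_one (ZMod.pow_card_sub_one_eq_one (show (Fintype.card F : ZMod k) ≠ 0 by rwa [Ne, ZMod.natCast_eq_zero_iff]))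
  refine ⟨fun H => by_contra fun f => ?_, fun f x ⟨z, hz⟩ x1 => ?_⟩
  · have c := Nat.le_of_dvd (by omega) b
    have c0 := Nat.pos_of_dvd_of_pos b (by omega)
    obtain ⟨x, x1, x2, x3, v, w, v1, w1, v0, h⟩ := big_fix (n := k) (r := k) (i := orderOf (Fintype.card F : ZMod k) - 1) p
      ((a _).2 (by rw [Nat.sub_add_cancel c0])) (by omega) (by omega)
    obtain ⟨P, hP⟩ := H ⟨x, x2⟩ ⟨1, (Matrix.SpecialLinearGroup.coe_pow (⟨x, x2⟩ : SL(k, F)) k).trans (x1.trans (one_smul _ _).symm)⟩ fun z e => x3 (by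
      rw [show x = _ from e, smul_mulVec, one_mulVec] at v1
      rw [show x = _ from e, smul_left_injective F v0 (v1.trans (one_smul _ _).symm), one_smul])
    have k1 : ∀ v, P.1 *ᵥ ((P⁻¹).1 *ᵥ v) = v := fun v => by
      rw [mulVec_mulVec, show P.1 * (P⁻¹).1 = 1 from congrArg Subtype.val (mul_inv_cancel P), one_mulVec]
    have k2 : ∀ v, x *ᵥ v = v → ((P⁻¹).1 * x * P.1) *ᵥ ((P⁻¹).1 *ᵥ v) = (P⁻¹).1 *ᵥ v := fun v e => by rw [← mulVec_mulVec, ← mulVec_mulVec, k1, e]
    have := Matrix.SpecialLinearGroup.toGL_injective ((not_norm hk hK hP (k2 v v1) (k2 w w1) (fun f => v0 (by rw [← k1 v, f, mulVec_zero]))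
      fun c f => h c (by rw [← k1 w, ← f, mulVec_smul, k1])).trans (map_one _).symm)
    have k3 : ∀ a : SL(k, F), P⁻¹ * a * P = 1 → a = 1 := fun a e => by rwa [mul_assoc, inv_mul_eq_one, eq_comm, mul_eq_right] at e
    exact x3 (congrArg Subtype.val (k3 _ this))
  have c : (Fintype.card F - 1).Coprime k := (hk.coprime_iff_not_dvd.2 fun g => by
    have := Nat.le_of_dvd one_pos ((a 1).1 (by rwa [pow_one]))
    omega).symm
  have h : ∀ c : F, c ^ k = 1 → c = 1 := fun d e => orderOf_eq_one_iff.1 (Nat.eq_one_of_dvd_coprimes c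
    (orderOf_dvd_of_pow_eq_one (FiniteField.pow_card_sub_one_eq_one d fun f => by simp [f, hk.ne_zero] at e)) (orderOf_dvd_of_pow_eq_one e))
  have z1 := congrArg det hz
  rw [(x ^ k).2, det_smul, det_one, mul_one, Fintype.card_fin] at z1
  rw [h z z1.symm, one_smul, Matrix.SpecialLinearGroup.coe_pow] at hz
  have n0 : (k : F) ≠ 0 := fun g => hnp ((Nat.prime_dvd_prime_iff_eq hp hk).1 ((CharP.cast_eq_zero_iff F p k).1 g)).symm
  obtain ⟨y, y1, y2, y3⟩ := frob hk hK
  obtain ⟨v, B, hB⟩ := cyc (by omega) hq n0 (fun j g => f ▸ (a j).1 g) hz fun g => x1 1 (g.trans (one_smul _ _).symm)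
  obtain ⟨w, C, hC⟩ := cyc (by omega) hq n0 (fun j g => f ▸ (a j).1 g) y2 y3
  obtain ⟨P, p1, p2⟩ := conj hz y2 hk.pos hB hC
  obtain ⟨t, ht⟩ := (powCoprime (G := Fˣ) (n := k) (by rwa [Nat.card_units, Nat.card_eq_fintype_card])).surjective (Units.mk0 _ p1)⁻¹
  let Q : SL(k, F) := ⟨t.1 • P, by
    rw [det_smul, Fintype.card_fin, ← Units.val_pow_eq_pow_val, show t ^ k = _ from ht]; exact (Units.mk0 _ p1).inv_mul⟩
  refine ⟨Q, Subgroup.mem_comap.2 ?_⟩
  convert y1
  rw [map_mul, map_mul, map_inv, mul_assoc, inv_mul_eq_iff_eq_mul]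
  exact Units.ext (show x.1 * (t.1 • P) = (t.1 • P) * y.1 by rw [Matrix.mul_smul, Matrix.smul_mul, p2])

end Cfsg.Agent.S5970
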