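import Cfsg.Statements.S5971
import Cfsg.Agent.Lib.Chev.Singer3
import Cfsg.Agent.S0242

set_option autoImplicit false
open scoped MatrixGroups
open Cfsg

namespace Cfsg.Agent.S5971

open Cfsg.Agent.Chev.Singer Matrix

/-- Elements of order 3 of PSL_3(q) and the normalizer of a Singer cycle. Here `T = PSL_n(F)` for a field `F` with `q = p^f` elements (`n ≥ 2`, `(n, q) ≠ (2, 2), (2, 3)`), `k` is a prime dividing `n`, `K` is a subalgebra of the `n × n` matrices that is a field of degree `k` over `F` (an extension-field structure F_{q^k} on `F^n`), and `H` is the subgroup of matrices of determinant 1 normalizing `K` — a subgroup of type GL_{n/k}(q^k) (maximal except in some small cases; maximality is not assumed); Ω is the set of cosets of `H` in `T`, so an element of `T` of prime order `r` (a matrix `x` of determinant 1 with `x^r` scalar, `x` not scalar) fixes a point of Ω when some conjugate of `x` by a matrix of determinant 1 normalizes `K`. Take `n = k = 3` and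 suppose 3 divides the index of `H`. Then every element of `T` of order 3 is conjugate in `T` into `H` if and only if `q ≡ 4, 7` or `8 (mod 9)`. -/
theorem result {F : Type*} [Field F] [Fintype F] {p : ℕ} [Fact p.Prime] [CharP F p] {q : ℕ} (hq : Fintype.card F = q)
    (n : ℕ) (hn : n = 3) (k : ℕ) (hk : k.Prime) (hkn : k ∣ n) (K : Subalgebra F (Matrix (Fin n) (Fin n) F)) (hK : Cfsg.Geo.IsFieldSubalgebra k K) (hk3 : k = 3) (hΩ : 3 ∣ ((Cfsg.Geo.subalgebraNormalizer K).comap (Matrix.SpecialLinearGroup.toGL : Matrix.SpecialLinearGroup (Fin n) F →* GL (Fin n) F)).index) :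
    (∀ x : Matrix.SpecialLinearGroup (Fin n) F,
      (∃ z : F, ((x ^ 3 : Matrix.SpecialLinearGroup (Fin n) F) : Matrix (Fin n) (Fin n) F) = z • (1 : Matrix (Fin n) (Fin n) F)) →
      (∀ z : F, (x : Matrix (Fin n) (Fin n) F) ≠ z • (1 : Matrix (Fin n) (Fin n) F)) →
      ∃ P : Matrix.SpecialLinearGroup (Fin n) F, P⁻¹ * x * P ∈ ((Cfsg.Geo.subalgebraNormalizer K).comap (Matrix.SpecialLinearGroup.toGL : Matrix.SpecialLinearGroup (Fin n) F →* GL (Fin n) F))) ↔
    (q % 9 = 4 ∨ q % 9 = 7 ∨ q % 9 = 8) := by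
  subst hq hn hk3
  obtain ⟨e, hp, he⟩ := FiniteField.card F p
  have q0 := Fintype.card_pos (α := F)
  have o : ∀ (c : F) m, c ≠ 0 → c ^ m = 1 → c ^ Nat.gcd m (Fintype.card F - 1) = 1 := fun c m c0 h =>
    orderOf_dvd_iff_pow_eq_one.1 (Nat.dvd_gcd (orderOf_dvd_of_pow_eq_one h) (orderOf_dvd_of_pow_eq_one (FiniteField.pow_card_sub_one_eq_one c c0)))
  have o3 : Fintype.card F % 3 = 2 → ∀ c : F, c ^ 3 = 1 → c = 1 := fun h c e => by
    have := o c 3 (fun f => by simp [f] at e) e
    rwa [(Nat.prime_three.coprime_iff_not_dvd.2 (by omega)).gcd_eq_one, pow_one] at this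
  have pr : ∀ m, m ∣ Fintype.card F - 1 → ∃ θ : F, IsPrimitiveRoot θ m := fun m h => by
    obtain ⟨γ, hγ⟩ := IsCyclic.exists_ofOrder_eq_natCard (α := Fˣ)
    have o := orderOf_pow_orderOf_div (x := γ) (n := m) (orderOf_pos γ).ne' (by rwa [hγ, Nat.card_units, Nat.card_eq_fintype_card])
    exact ⟨_, IsPrimitiveRoot.coe_units_iff.2 (o ▸ IsPrimitiveRoot.orderOf _)⟩
  obtain ⟨y, y1, y2, y3, u, u0, u1⟩ := frob' hk hK
  refine ⟨fun H => by_contra fun f => ?_, fun f x ⟨z, hz⟩ x1 => ?_⟩
  · have b : ∀ (x : SL(3, F)) (a : F), (∃ z : F, x.1 ^ 3 = z • 1) → (∀ z : F, x.1 ≠ z • 1) → x.1 *ᵥ ![1, 0, 0] = a • ![1, 0, 0] →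
        x.1 *ᵥ ![0, 1, 0] = a • ![0, 1, 0] → False := fun x a h1 h2 h3 h4 => (H x h1 h2).elim fun P hP =>
      h2 a (bad hk hK h3 h4 (by simp) (fun c e => by simpa using congrFun e 1) hP)
    by_cases h0 : Fintype.card F % 3 = 0
    · obtain rfl : 3 = p := (Nat.prime_dvd_prime_iff_eq hk hp).1 (hk.dvd_of_dvd_pow (he ▸ Nat.dvd_of_mod_eq_zero h0))
      have h3 : (1 : F) + (1 + 1) = 0 := by
        have h3 : (3 : F) = 0 := by exact_mod_cast CharP.cast_eq_zero F 3
        linear_combination h3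
      refine b ⟨!![1, 0, 1; 0, 1, 0; 0, 0, 1], by simp [det_fin_three]⟩ 1 ⟨1, ?_⟩ (fun z e => by simpa using congrFun₂ e 0 2) (by ext i; fin_cases i <;> simp [mulVec, dotProduct, Fin.sum_univ_three])
        (by ext i; fin_cases i <;> simp [mulVec, dotProduct, Fin.sum_univ_three])
      simp [pow_succ, h3, ← one_fin_three]
    by_cases h1 : Fintype.card F % 9 = 1
    · obtain ⟨θ, h⟩ := pr 9 (by omega)
      have h9 := h.pow_eq_one
      refine b ⟨!![θ, 0, 0; 0, θ, 0; 0, 0, θ ^ 7], by simp [det_fin_three]; linear_combination h9⟩ θ ⟨θ ^ 3, ?_⟩ (fun z e => ?_) (by ext i; fin_cases i <;> simp [mulVec, dotProduct, Fin.sum_univ_three])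
        (by ext i; fin_cases i <;> simp [mulVec, dotProduct, Fin.sum_univ_three])
      · ext i j; fin_cases i <;> fin_cases j <;> simp [pow_succ _ 2, pow_two, mul_apply, Fin.sum_univ_three]
        all_goals first | ring1 | linear_combination (θ ^ 12 + θ ^ 3) * h9
      · have a1 : θ = z := by simpa using congrFun₂ e 0 0
        have a2 : θ ^ 7 = z := by simpa using congrFun₂ e 2 2
        exact absurd (h.pow_inj (by norm_num) (by norm_num) (a2.trans (a1.symm.trans (pow_one θ).symm))) (by norm_num)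
    let Y : SL(3, F) := ⟨y.1, o3 (by omega) _ (by rw [← det_pow, y2, det_one])⟩
    have a1 := Subgroup.orderOf_dvd_natCard _ (show Y ∈ (Cfsg.Geo.subalgebraNormalizer K).comap (Matrix.SpecialLinearGroup.toGL : SL(3, F) →* GL (Fin 3) F) from
      Subgroup.mem_comap.2 (by convert y1; exact Units.ext rfl))
    haveI := Fact.mk hk
    rw [orderOf_eq_prime (x := Y) (Subtype.ext y2) fun e => y3 (congrArg Subtype.val e)] at a1
    have a2 := (mul_dvd_mul hΩ a1).mul_left (Fintype.card F - 1)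
    rw [Subgroup.index_mul_card, S0242.result rfl 3 (by omega), ← ZMod.natCast_eq_zero_iff, Fin.prod_univ_three] at a2
    have l : ∀ i : Fin 3, Fintype.card F ^ i.1 ≤ Fintype.card F ^ 3 := fun i => Nat.pow_le_pow_right q0 i.2.le
    simp only [Nat.cast_mul, Nat.cast_sub (l _), Nat.cast_pow] at a2
    rw [← ZMod.natCast_mod] at a2
    rcases (show Fintype.card F % (3 * 3) = 2 ∨ Fintype.card F % (3 * 3) = 5 by omega) with g | g <;> rw [g] at a2 <;> exact absurd a2 (by decide)
  have hq : ¬3 ∣ Fintype.card F := by omega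
  have n0 : ((3 : ℕ) : F) ≠ 0 := fun g => hq (he ▸ ((Nat.prime_dvd_prime_iff_eq hp hk).1 ((CharP.cast_eq_zero_iff F p 3).1 g) ▸ dvd_pow_self p e.ne_zero))
  have z1 := congrArg det hz
  rw [(x ^ 3).2, det_smul, det_one, mul_one, Fintype.card_fin, eq_comm] at z1
  rw [Matrix.SpecialLinearGroup.coe_pow] at hz
  by_cases h2 : Fintype.card F % 3 = 2
  · have hi : ∀ j, 3 ∣ Fintype.card F ^ j - 1 → 3 - 1 ∣ j := fun j g => by
      obtain ⟨i, rfl | rfl⟩ := Nat.even_or_odd' j
      · exact dvd_mul_right _ _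
      have a := Nat.pow_mod (Fintype.card F) (2 * i + 1) 3
      have b := Nat.pow_mod 4 i 3
      have := Nat.pow_pos (n := 2 * i + 1) q0
      rw [h2, pow_succ 2, pow_mul 2] at a
      norm_num at a b
      omega
    rw [o3 h2 z z1, one_smul] at hz
    obtain ⟨v, B, hB⟩ := cyc (by omega) hq n0 hi hz fun g => x1 1 (g.trans (one_smul _ _).symm)
    obtain ⟨w, C, hC⟩ := cyc (by omega) hq n0 hi y2 y3
    exact adjust hk hK y1 (conj hz y2 hk.pos hB hC)
  by_cases h1 : z = 1
  · rw [h1, one_smul] at hz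
    obtain ⟨ω, h⟩ := pr 3 (by omega)
    obtain ⟨B, hB⟩ := eig3 h hz (one_dim (by exact_mod_cast n0) hz x.2 x1)
    obtain ⟨C, hC⟩ := eig3 h y2 fun a v w hv hw v0 => by
      by_contra! g
      have g1 := not_norm' hk hK y1 hv hw v0 g
      rw [g1, smul_mulVec, one_mulVec] at u1
      exact y3 (by rw [g1, smul_left_injective F u0 (u1.trans (one_smul _ _).symm), one_smul])
    exact adjust hk hK y1 (conj3 B C fun i => by rw [hB, hC, map_smul, Module.Basis.equiv_apply]; rfl)
  have hc : ∀ b : F, b ^ 3 ≠ z := fun b g => h1 (by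
    have := o b 9 (fun f => by simp [← g, f] at z1) (by rw [← z1, ← g, ← pow_mul])
    obtain ⟨t, ht⟩ : Nat.gcd 9 (Fintype.card F - 1) ∣ 3 := by
      obtain ⟨i, i1, i2⟩ := (Nat.dvd_prime_pow hk).1 (show Nat.gcd 9 (Fintype.card F - 1) ∣ 3 ^ 2 from Nat.gcd_dvd_left 9 _)
      have := Nat.gcd_dvd_right 9 (Fintype.card F - 1)
      rw [i2] at this ⊢
      interval_cases i
      · simp
      · simp
      · omega
    rw [← g, ht, pow_mul, this, one_pow])
  obtain ⟨k, k1, k2⟩ := cube_root hK (by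
    have a := Nat.pow_mod (Fintype.card F) 3 9
    have := Nat.pow_pos (n := 3) q0
    rcases f with f | f | f <;> rw [f] at a <;> norm_num at a <;> omega) z1
  have k0 : k.det ≠ 0 := fun g => by simpa [g, z1] using congrArg det k2
  obtain ⟨B, b1, b2, b3⟩ := cyc3 hc hz
  obtain ⟨C, c1, c2, c3⟩ := cyc3 hc k2
  refine adjust hk hK (mem_norm hk hK (u := GeneralLinearGroup.mkOfDetNeZero k k0) k1) (conj3 B C fun i => ?_)
  fin_cases i <;> simp [b1, b2, b3, c1, c2, c3]

end Cfsg.Agent.S5971
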