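import Cfsg.Statements.S5983
import Cfsg.Agent.Lib.Chev.NSing3

set_option autoImplicit false
open scoped MatrixGroups
open Cfsg

namespace Cfsg.Agent.S5983

open Cfsg.Agent.Chev.NSing Cfsg.Agent.Classical Matrix Module

/-- Elements of prime order of PSp_n(q), q even, and the subgroups of orthogonal type. Here `T = Sp_{2d}(F)` for a field `F` of characteristic 2 with `q` elements (`d ≥ 2`, `(d, q) ≠ (2, 2)`), realised as the invertible matrices preserving the standard alternating form; `Q` is a non-degenerate quadratic form on `F^{2d}` whose polar form is that alternating form, and `H` is the subgroup of `T` preserving `Q` up to a scalar (equivalently preserving `Q`) — a subgroup of type O^±_{2d}(q) (maximality is not assumed); `Q` is of plus type when `F^{2d}` contains a `d`-dimensional subspace on which `Q` vanishes, of minus type otherwise. Ω is the set of cosets of `H` in `T`, so an element of `T` of prime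 order `r` (`x ∈ T` with `x^r` scalar, `x` not scalar) fixes a point of Ω exactly when some `T`-conjugate of `x` preserves `Q`. Let `r` be a prime dividing the index of `H`. Then every element of `T` of order `r` fixes a point of Ω if and only if `r = 2` and either `Q` is of plus type or `d` is odd. -/
theorem result {F : Type*} [Field F] [Fintype F] {p : ℕ} [Fact p.Prime] [CharP F p] {q : ℕ} (hq : Fintype.card F = q)
    (hp : p = 2) (d : ℕ) (hd : 2 ≤ d) (hT : (d, q) ≠ (2, 2)) (Q : (Fin d ⊕ Fin d → F) → F) (hQ : Cfsg.Geo.IsNondegenerateQuadraticForm Q)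
    (hQf : ∀ u v, QuadraticMap.polar Q u v = Cfsg.sympForm d F u v)
    (r : ℕ) [Fact r.Prime]
    (hΩ : r ∣ (Cfsg.Geo.quadSimilarityGroup Q).relIndex (Cfsg.spGL d F)) :
    (∀ x ∈ Cfsg.spGL d F, (∃ z : F, ((x ^ r : GL (Fin d ⊕ Fin d) F) : Matrix (Fin d ⊕ Fin d) (Fin d ⊕ Fin d) F) = z • (1 : Matrix (Fin d ⊕ Fin d) (Fin d ⊕ Fin d) F)) →
      (∀ z : F, (x : Matrix (Fin d ⊕ Fin d) (Fin d ⊕ Fin d) F) ≠ z • (1 : Matrix (Fin d ⊕ Fin d) (Fin d ⊕ Fin d) F)) →
      ∃ g ∈ Cfsg.spGL d F, g⁻¹ * x * g ∈ Cfsg.Geo.quadSimilarityGroup Q) ↔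
    (r = 2 ∧ (Cfsg.Geo.IsPlusTypeOn Q ⊤ ∨ Odd d)) := by
  subst hp hq
  obtain ⟨m, rfl⟩ : ∃ m, d = m + 1 := ⟨d - 1, by omega⟩
  have h2 : (2 : F) = 0 := CharTwo.two_eq_zero
  have hr : r.Prime := Fact.out
  let Φ := Form.ofQuadFun Q (spForm (m + 1) F).B (fun u v => by
    have : Q (u + v) - Q u - Q v = (spForm (m + 1) F).B u v := hQf u v
    linear_combination this) fun c v => by rw [hQ.smul, sq]
  have nd : Φ.Nondeg := spForm_nondeg (m + 1)
  have hm : finrank F (Fin (m + 1) ⊕ Fin (m + 1) → F) = 2 * (m + 1) := by simp; omega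
  have pl : Cfsg.Geo.IsPlusTypeOn Q ⊤ ↔ Φ.IsType (m + 1) 1 := (show _ ↔ _ from ⟨fun ⟨U, _, a, b⟩ => ⟨U, by rw [finrank_top, hm] at b; omega, Form.TS_orth a⟩,
    fun ⟨U, a, b⟩ => ⟨U, le_top, b.1, by rw [finrank_top, hm, a]⟩⟩).trans (isType_one_iff nd hm).symm
  obtain ⟨η, hη, ht⟩ : ∃ η : ℤ, (η = 1 ∨ η = -1) ∧ Φ.IsType (m + 1) η := (exists_isType _ Φ nd hm).elim (fun h => ⟨_, .inl rfl, h⟩) fun h => ⟨_, .inr rfl, h⟩
  obtain ⟨z, hz⟩ := nd.orth_exists_N_ne
  have sp : ∀ g : GL (Fin (m + 1) ⊕ Fin (m + 1)) F, g ∈ Cfsg.spGL (m + 1) F ↔ ∀ u v, Φ.B (glEquiv g u) (glEquiv g v) = Φ.B u v := fun g => Iff.rfl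
  obtain ⟨u0, hu0⟩ : ∃ u, ¬Φ.B u z = 0 := not_forall.1 fun f => hz (by simp [nd z f])
  refine ⟨fun H => by_contra fun f => ?_, ?_⟩
  · obtain ⟨c, hc⟩ := other_type h2 nd hm (η := -η) (by omega) hz
    generalize c • z = w at hc
    have nd' : (sh h2 Φ w).Nondeg := nd
    obtain ⟨y, y1, y2⟩ : ∃ y : (sh h2 Φ w).Isom, y ^ r = 1 ∧ ∀ v, y.1 v = v → (sh h2 Φ w).N v = 0 := by
      by_cases e : r = 2
      · subst e
        obtain ⟨k, hk⟩ := Nat.not_odd_iff_even.1 fun g => f ⟨rfl, .inr g⟩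
        obtain rfl : η = -1 := hη.resolve_left fun g => f ⟨rfl, .inl (pl.2 (g ▸ ht))⟩
        exact plus_even' h2 nd' (k := k) (by rwa [two_mul, ← hk])
      let O := Φ.Isom.comap (glEquiv (ι := Fin (m + 1) ⊕ Fin (m + 1)) (F := F)).toMonoidHom
      have a1 : O ≤ Cfsg.spGL (m + 1) F := fun g hg => hg.1
      have a2 := hΩ.trans (Subgroup.relIndex_dvd_of_le_left _ (show O ≤ _ from fun g hg => ⟨1, fun v => (hg.2 v).trans (one_mul _).symm⟩))
      have a3 := (O.subgroupOf (Cfsg.spGL (m + 1) F)).index_mul_card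
      rw [Nat.card_congr (Subgroup.subgroupOfEquivOfLe a1).toEquiv, Nat.card_congr (subEquiv O Φ.Isom fun _ => Iff.rfl).toEquiv,
        Nat.card_congr (subEquiv _ _ fun _ => mem_spGL_iff (m + 1)).toEquiv, card_symp _ _ (spForm_nondeg _) hm, Finset.prod_range_succ] at a3
      have q : 1 < Nat.card F := Finite.one_lt_card
      have q1 : ∀ k, 1 ≤ Nat.card F ^ k := fun k => Nat.one_le_pow _ _ (by omega)
      zify [q1] at a3 q
      rw [card_orth_even hη m Φ nd ht] at a3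
      have q2 : ∀ k, (1 : ℤ) < (Nat.card F : ℤ) ^ (k + 1) := fun k => one_lt_pow₀ q k.succ_ne_zero
      have a4 : ((O.subgroupOf (Cfsg.spGL (m + 1) F)).index : ℤ) * (2 * (Nat.card F : ℤ) ^ ((m + 1) * m)) =
          (Nat.card F : ℤ) ^ ((m + 1) ^ 2) * ((Nat.card F : ℤ) ^ (m + 1) + η) := by
        refine mul_right_cancel₀ (mul_ne_zero (show (Nat.card F : ℤ) ^ (m + 1) - η ≠ 0 by have := q2 m; omega)
          (Finset.prod_ne_zero_iff.2 fun i _ => (sub_pos.2 (q2 (2 * i + 1))).ne' : ∏ i ∈ Finset.range m, ((Nat.card F : ℤ) ^ (2 * (i + 1)) - 1) ≠ 0)) ?_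
        linear_combination a3 + (Nat.card F : ℤ) ^ ((m + 1) ^ 2) * (∏ i ∈ Finset.range m, ((Nat.card F : ℤ) ^ (2 * (i + 1)) - 1)) * mul_self_eq_one_iff.2 hη
      have a5 := ((Nat.prime_iff_prime_int.1 hr).dvd_mul.1 (a4 ▸ (Int.natCast_dvd_natCast.2 a2).mul_right _)).resolve_left fun g => e (by
        obtain ⟨e, -, he⟩ := FiniteField.card F 2
        exact (Nat.prime_dvd_prime_iff_eq hr Nat.prime_two).1 (hr.dvd_of_dvd_pow (he ▸ Nat.card_eq_fintype_card (α := F) ▸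
          (hr.dvd_of_dvd_pow (by exact_mod_cast g) : r ∣ Nat.card F))))
      rcases hη with rfl | rfl
      · exact exists_minus' h2 nd' hc e (by exact_mod_cast a5)
      · exact plus_odd' h2 nd' hc e (by zify [q1]; exact a5)
    obtain ⟨x, hx⟩ := glEquiv.surjective y.1
    have x1 : ∀ v, x.1 *ᵥ v = y.1 v := fun v => hx ▸ rfl
    obtain ⟨g, g1, c, g2⟩ := H x ((sp x).2 (hx ▸ y.2.1)) ⟨1, by
      rw [show x ^ r = 1 from glEquiv.injective (by rw [map_pow, hx, map_one]; exact congrArg Subtype.val y1)]; simp⟩ fun t e => by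
      obtain ⟨v, hv⟩ := nd'.orth_exists_N_ne
      have := y.2.2 v
      rw [← x1, e, smul_mulVec, one_mulVec, Form.N_smul] at this
      exact hv (y2 v (by rw [← x1, e, eq_one h2 (mul_left_eq_self₀.1 this |>.resolve_right hv)]; simp))
    have g3 := (sp _).1 (mul_mem (mul_mem (inv_mem g1) ((sp x).2 (hx ▸ y.2.1))) g1) u0 z
    have g2' : ∀ v, Φ.N (glEquiv (g⁻¹ * x * g) v) = c * Φ.N v := g2
    rw [Φ.orth_B, ← map_add, g2', g2', g2', ← mul_sub, ← mul_sub, ← Φ.orth_B] at g3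
    have c1 := (mul_left_eq_self₀.1 g3).resolve_right hu0
    let Ψ := Form.ofQuadFun (fun v => Φ.N (glEquiv g⁻¹ v)) Φ.B (fun u v => by
      rw [map_add]; exact (show Φ.N (_ + _) = Φ.N _ + Φ.N _ + Φ.B _ _ from Φ.N_add _ _).trans (congrArg _ ((sp _).1 (inv_mem g1) u v)))
      fun c v => by rw [map_smul]; exact Φ.N_smul _ _
    have t1 : Ψ.IsType (m + 1) η := Form.Iso.isType (Form.Iso.symm (Φ := Ψ) (Ψ := Φ) ⟨glEquiv g⁻¹, (sp _).1 (inv_mem g1), fun _ => rfl⟩) ht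
    obtain ⟨a, ha⟩ := ex_sh h2 nd' (Ψ := Ψ) fun _ _ => rfl
    have t2 : ∀ v, Ψ.N (y.1 v) = Ψ.N v := fun v => by
      have := g2' (glEquiv g⁻¹ v)
      rw [c1, one_mul, ← LinearEquiv.mul_apply, ← map_mul, mul_inv_cancel_right, map_mul, hx] at this
      exact this
    have t3 : y.1 a = a := sub_eq_zero.1 (nd' _ fun v => by
      obtain ⟨v, rfl⟩ := y.1.surjective v
      have := t2 v
      rw [ha, ha] at this
      rw [map_sub, y.2.1, sub_eq_zero]
      exact sq_inj h2 (add_left_cancel (this.symm.trans (congrArg (· + _) (y.2.2 v)))))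
    have t4 : Ψ.cnt 0 = (sh h2 Φ w).cnt 0 := (Nat.card_congr (Equiv.subtypeEquivRight fun v => by rw [ha])).trans (same_type h2 (y2 a t3))
    have := hc.unique ⟨hm, t4 ▸ t1.2⟩
    omega
  rintro ⟨rfl, h⟩ x hx ⟨t, e⟩ -
  have a : ∀ v, glEquiv x (glEquiv x v) = t • v := fun v => by
    rw [glEquiv_apply, glEquiv_apply, mulVec_mulVec, ← sq, ← Units.val_pow_eq_pow_val, e, smul_mulVec, one_mulVec]
  have b := ((sp x).1 hx _ _).trans ((sp x).1 hx u0 z)
  rw [a, a, map_smul, map_smul Φ.B, LinearMap.smul_apply, smul_smul] at b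
  rw [eq_one h2 ((mul_left_eq_self₀.1 b).resolve_right hu0)] at a
  simp only [one_smul] at a
  obtain ⟨w, hw⟩ := inv_form h2 nd ((sp x).1 hx) a
  obtain ⟨Ψ, p1, p2, p3⟩ : ∃ Ψ : Form (Kind.orth F) _, Ψ.B = Φ.B ∧ glEquiv x ∈ Ψ.Isom ∧ Ψ.IsType (m + 1) η := by
    have nd' : (sh h2 Φ w).Nondeg := nd
    by_cases k : (sh h2 Φ w).IsType (m + 1) η
    · exact ⟨sh h2 Φ w, rfl, hw, k⟩
    obtain ⟨v, v1, v2⟩ : ∃ v, glEquiv x v = v ∧ (sh h2 Φ w).N v ≠ 0 := h.elim (fun h => minus_fix h2 nd'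
      ((exists_isType _ _ nd' hm).resolve_left (ht.unique (pl.1 h) ▸ k)) _ a) fun h => odd_fix h2 nd' h hm _ hw a
    obtain ⟨c, hc⟩ := other_type h2 nd' hm hη v2
    refine ⟨sh h2 (sh h2 Φ w) (c • v), rfl, mem_isom fun u => ?_, hc⟩
    have := hw.1 u (c • v)
    rw [map_smul, v1] at this
    exact congrArg₂ (· + ·) (hw.2 u) (congrArg₂ (· * ·) this this)
  obtain ⟨g, g1, g2⟩ := orth_iso_even _ _ Φ Ψ nd (fun v f => nd v (p1 ▸ f)) ht p3
  obtain ⟨g, rfl⟩ := glEquiv.surjective g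
  refine ⟨g, (sp g).2 (p1 ▸ g1), 1, fun v => ?_⟩
  change Φ.N (glEquiv (g⁻¹ * x * g) v) = 1 * Φ.N v
  rw [← g2, ← LinearEquiv.mul_apply, ← map_mul, mul_assoc, mul_inv_cancel_left, map_mul, LinearEquiv.mul_apply, p2.2, g2, one_mul]

end Cfsg.Agent.S5983
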