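import Cfsg.Statements.S5985
import Cfsg.Agent.Lib.Chev.NSing2

set_option autoImplicit false
open scoped MatrixGroups
open Cfsg

namespace Cfsg.Agent.S5985

open Cfsg.Agent.Chev.NSing Cfsg.Agent.Classical

/-- Elements of prime order of Ω⁺_n(q), q even, with no fixed nonsingular 1-space. Here `T = PΩ⁺_n(F)`, `n = 2d ≥ 8`, realised through `Ω⁺_n(q)`, the commutator subgroup of the isometry group of `Q = Σ xᵢyᵢ` over the field `F` with `q` elements; an element of `T` of prime order `r` is an element `x` of `Ω⁺_n(q)` with `x^r` scalar and `x` not scalar; `q` is even (so the centre is trivial). Let Ω be the set of 1-dimensional subspaces spanned by a vector `v` with `Q(v) ≠ 0`, and let `r` be a prime dividing their number. Then every element of `T` of order `r` fixes some nonsingular 1-space if and only if `r = 2` and `n ≡ 2 (mod 4)` (that is, `d` is odd). -/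
theorem result {F : Type*} [Field F] [Fintype F] {p : ℕ} [Fact p.Prime] [CharP F p] {q : ℕ} (hq : Fintype.card F = q)
    (hp : p = 2) (d : ℕ) (hd : 4 ≤ d) (r : ℕ) [Fact r.Prime]
    (hrΩ : r ∣ Nat.card {W : Submodule F (Fin d ⊕ Fin d → F) // Module.finrank F ↥W = 1 ∧ ∃ v ∈ W, Cfsg.quadFormPlus d F v ≠ 0}) :
    (∀ x : GL (Fin d ⊕ Fin d) F, x ∈ Cfsg.Geo.omegaGL (Cfsg.quadFormPlus d F) →
      (∃ z : F, ((x ^ r : GL (Fin d ⊕ Fin d) F) : Matrix (Fin d ⊕ Fin d) (Fin d ⊕ Fin d) F) = z • (1 : Matrix (Fin d ⊕ Fin d) (Fin d ⊕ Fin d) F)) →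
      (∀ z : F, (x : Matrix (Fin d ⊕ Fin d) (Fin d ⊕ Fin d) F) ≠ z • (1 : Matrix (Fin d ⊕ Fin d) (Fin d ⊕ Fin d) F)) →
      ∃ W : Submodule F (Fin d ⊕ Fin d → F), (Module.finrank F ↥W = 1 ∧ ∃ v ∈ W, Cfsg.quadFormPlus d F v ≠ 0) ∧ W.map (Matrix.toLin' (x : Matrix (Fin d ⊕ Fin d) (Fin d ⊕ Fin d) F)) ≤ W) ↔ (r = 2 ∧ Odd d) := by
  subst hp
  obtain ⟨m, rfl⟩ : ∃ m, d = m + 1 := ⟨d - 1, by omega⟩
  have h2 : (2 : F) = 0 := CharTwo.two_eq_zero
  have hΦ := plusForm_nondeg (F := F) (m + 1)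
  have ht := plusForm_isType (F := F) (m + 1)
  refine ⟨fun H => by_contra fun r2 => final h2 hΦ ?_ H, ?_⟩
  · by_cases e : r = 2
    · subst e
      obtain ⟨k, hk⟩ := Nat.not_odd_iff_even.1 fun f => r2 ⟨rfl, f⟩
      exact plus_even h2 hΦ (k := k - 2) (by rwa [show 2 * (k - 2 + 2) = m + 1 by omega])
    refine plus_odd h2 hΦ (by omega) ht e ?_
    have hr : r.Prime := Fact.out
    have := Int.natCast_dvd_natCast.2 hrΩ
    erw [card_lines _ ht (.inl rfl)] at this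
    have q := Nat.one_le_pow (m + 1) _ (Nat.card_pos (α := F))
    refine (hr.dvd_mul.1 (show r ∣ Nat.card F ^ m * (Nat.card F ^ (m + 1) - 1) by zify [q]; exact this)).resolve_left fun f => e ?_
    obtain ⟨e, -, he⟩ := FiniteField.card F 2
    exact (Nat.prime_dvd_prime_iff_eq hr Nat.prime_two).1 (hr.dvd_of_dvd_pow (he ▸ Nat.card_eq_fintype_card (α := F) ▸ hr.dvd_of_dvd_pow f))
  rintro ⟨rfl, o⟩ x hx h -
  exact invol h2 hΦ hx h (odd_fix h2 hΦ o ht.1)

end Cfsg.Agent.S5985
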