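import Cfsg.Statements.S5995
import Cfsg.Agent.Lib.Classical.Inv11

set_option autoImplicit false
open scoped MatrixGroups
open Cfsg

namespace Cfsg.Agent.S5995
open Cfsg.Agent.Classical


/-- A necessary condition for every element of order p of Ω_n(q), nq odd, to fix a hyperbolic `m`-space. Here `T = Ω_n(F)`, `n = 2d+1 ≥ 7`, `q` odd, realised as the commutator subgroup of the isometry group of `Q = x₀² + Σ xᵢyᵢ` over the field `F` with `q` elements (trivial centre, so its elements of prime order `r` are used directly); a nondegenerate `m`-space (even `m`) is a subspace on which the polar form of `Q` is nondegenerate; it is hyperbolic if it contains an `m/2`-dimensional subspace on which `Q` vanishes, elliptic otherwise. Let `m` be even with `2 ≤ m ≤ n − 1` and suppose `p` divides the number of hyperbolic `m`-spaces. If every element of `T` of order `p` fixes some hyperbolic `m`-space, then `m ≡ 0 (mod 4)` and every partition of `n` into parts of size at most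 `p` in which every even part has even multiplicity contains (as a sub-multiset) a partition of `m` in which every even part has even multiplicity. -/
theorem result {F : Type*} [Field F] [Fintype F] {p : ℕ} [Fact p.Prime] [CharP F p] {q : ℕ} (hq : Fintype.card F = q) (hqodd : Odd q)
    (d m : ℕ) (hd : 3 ≤ d) (hm : 2 ≤ m) (hme : Even m) (hmn : m ≤ 2 * d)
    (hpΩ : p ∣ Nat.card {W : Submodule F (Unit ⊕ (Fin d ⊕ Fin d) → F) // Module.finrank F ↥W = m ∧ Cfsg.Geo.IsNondegenerateOn (QuadraticMap.polar (Cfsg.quadFormOdd d F)) W ∧ Cfsg.Geo.IsPlusTypeOn (Cfsg.quadFormOdd d F) W}) :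
    (∀ x : GL (Unit ⊕ (Fin d ⊕ Fin d)) F, x ∈ Cfsg.Geo.omegaGL (Cfsg.quadFormOdd d F) → orderOf x = p →
      ∃ W : Submodule F (Unit ⊕ (Fin d ⊕ Fin d) → F), (Module.finrank F ↥W = m ∧ Cfsg.Geo.IsNondegenerateOn (QuadraticMap.polar (Cfsg.quadFormOdd d F)) W ∧ Cfsg.Geo.IsPlusTypeOn (Cfsg.quadFormOdd d F) W) ∧ W.map (Matrix.toLin' (x : Matrix (Unit ⊕ (Fin d ⊕ Fin d)) (Unit ⊕ (Fin d ⊕ Fin d)) F)) ≤ W) →
    (m % 4 = 0 ∧ (∀ μ : Multiset ℕ, (∀ e ∈ μ, 0 < e ∧ e ≤ p) → (∀ e : ℕ, Even e → Even (μ.count e)) → μ.sum = 2 * d + 1 →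
        ∃ ν : Multiset ℕ, ν ≤ μ ∧ ν.sum = m ∧ ∀ e : ℕ, Even e → Even (ν.count e))) := by
  classical
  intro h
  have pp : p.Prime := Fact.out
  have ch : ringChar F ≠ 2 := fun h => by
    have := FiniteField.even_card_of_char_two h
    obtain ⟨j, hj⟩ := hqodd
    omega
  have two : (2 : F) ≠ 0 := Ring.two_ne_zero ch
  have po : Odd p := pp.odd_of_ne_two fun e => ch ((ringChar.eq F p).trans e)
  have p3 : 3 ≤ p := by have := pp.two_le; obtain ⟨j, hj⟩ := po; omega
  suffices K : ∀ μ : Multiset ℕ, (∀ e ∈ μ, 0 < e ∧ e ≤ p) → (∀ e : ℕ, Even e → Even (μ.count e)) → μ.sum = 2 * d + 1 →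
      ∃ ν : Multiset ℕ, ν ≤ μ ∧ ν.sum = m ∧ ∀ e : ℕ, Even e → Even (ν.count e) by
    refine ⟨?_, K⟩
    obtain ⟨a, c, hc, e⟩ : ∃ a c, (c = 1 ∨ c = 3) ∧ 2 * d + 1 = c + (a + a) * 2 := ⟨d / 2, 2 * (d % 2) + 1, by omega, by omega⟩
    obtain ⟨ν, n1, n2, n3⟩ := K (c ::ₘ Multiset.replicate (a + a) 2) (fun e he => by
      rcases Multiset.mem_cons.1 he with rfl | he
      · omega
      · rw [Multiset.eq_of_mem_replicate he]; omega) (fun e he => by
      rw [Multiset.count_cons_of_ne (by rintro rfl; obtain ⟨_, _⟩ := he; omega), Multiset.count_replicate]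
      split_ifs
      · exact ⟨a, rfl⟩
      · exact Even.zero) (by simp [e])
    obtain ⟨j, hj⟩ := n3 2 even_two
    obtain ⟨l, hl⟩ := hme
    by_cases k : c ∈ ν
    · obtain ⟨ν, rfl⟩ := Multiset.exists_cons_of_mem k
      obtain ⟨b, -, rfl⟩ := Multiset.le_replicate_iff.1 ((Multiset.cons_le_cons_iff _).1 n1)
      simp at n2
      omega
    · obtain ⟨b, -, rfl⟩ := Multiset.le_replicate_iff.1 ((Multiset.le_cons_of_notMem k).1 n1)
      simp at n2 hj
      omega
  intro μ h1 h2 h3
  have nd := oddForm_nondeg (F := F) d two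
  have ty : Module.finrank F (Unit ⊕ (Fin d ⊕ Fin d) → F) = 2 * d + 1 := by simp; ring
  obtain ⟨t, t1, t2, t3⟩ := Inv.real_sim nd (Inv.real_mult two h2) ⟨d, h3⟩ (ty.trans h3.symm)
  by_cases N0 : t = 1
  · obtain ⟨W, w1, w2⟩ := Inv.exists_nd two nd (2 * d + 1 - m) (by rw [ty]; omega)
    rw [ty] at w2
    have := Inv.sub_part2 two t1 t2 t3 w1 (N0 ▸ one_mem _)
    rwa [show Module.finrank F W = m by omega] at this
  have np : (Perm.Inv.dl t : Module.End F _) ^ p = 0 := LinearMap.ker_eq_top.1 (Submodule.eq_top_of_finrank_eq (by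
    have := t3 p
    rw [Multiset.map_congr rfl fun b hb => min_eq_right (h1 b hb).2, Multiset.map_id', h3] at this
    exact this.trans ty.symm))
  have gp : t ^ p = 1 := by simpa using (Perm.Cj.dl_pow_char p t 1).1 (by simpa using np)
  obtain ⟨x, hx⟩ := (orthEquiv (oddForm d F)).surjective ⟨t, t1⟩
  have xp : x ^ p = 1 := (orthEquiv (oddForm d F)).injective (by rw [map_pow, hx, map_one]; exact Subtype.ext gp)
  have xt : ∀ v, x.1.1.mulVec v = t v := fun v => (congrArg (fun g => g.1 v) hx :)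
  have hG := Form.good_of_finrank nd (by rw [ty]; omega)
  have sq : ∀ x : Cfsg.isometryGroup F (oddForm d F).N, x ^ 2 ∈ commutator _ := fun x => by
    rw [← mem_commutator_congr (orthEquiv (oddForm d F)), hG.mem_commutator_iff nd, map_pow, map_pow, map_pow]
    exact ⟨Int.units_sq _, Int.units_sq _⟩
  obtain ⟨W, ⟨w1, w2, -⟩, w3⟩ := h x.1 ⟨x, by
      obtain ⟨j, hj⟩ := po
      have := sq (x ^ (j + 1))
      rw [← pow_mul, show (j + 1) * 2 = p + 1 by omega, pow_succ, xp, one_mul] at this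
      exact this, rfl⟩ (orderOf_eq_prime (congrArg Subtype.val xp) fun e => N0 (LinearEquiv.ext fun v => by
        rw [← xt, e]; simp))
  have w4 : W.map (t : (Unit ⊕ (Fin d ⊕ Fin d) → F) →ₗ[F] _) ≤ W := by
    rintro _ ⟨v, hv, rfl⟩
    exact w3 ⟨v, hv, xt v⟩
  refine w1 ▸ Inv.sub_part2 two t1 t2 t3 (Asch.restrict_nondeg_of fun w hw w0 => ?_) (mem_stab_iff_map.2
    (Submodule.eq_of_le_of_finrank_eq w4 (LinearEquiv.finrank_map_eq _ _)))
  have e : ∀ u v, QuadraticMap.polar (Cfsg.quadFormOdd d F) u v = (oddForm d F).B u v := fun u v => by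
    have := (oddForm d F).orth_N_add u v
    rw [QuadraticMap.polar]
    exact sub_eq_of_eq_add' (sub_eq_of_eq_add' (this.trans (add_assoc _ _ _)))
  simpa only [e] using w2 w hw w0

end Cfsg.Agent.S5995
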