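import Cfsg.Statements.S5996
import Cfsg.Agent.Lib.Classical.Inv11

set_option autoImplicit false
open scoped MatrixGroups
open Cfsg

namespace Cfsg.Agent.S5996
open Cfsg.Agent.Classical


/-- A necessary condition for every element of order p of PΩ⁺_n(q), q odd, to fix a hyperbolic `m`-space. Here `T = PΩ⁺_n(F)`, `n = 2d ≥ 8`, realised through `Ω⁺_n(q)`, the commutator subgroup of the isometry group of `Q = Σ xᵢyᵢ` over the field `F` with `q` elements; an element of `T` of prime order `r` is an element `x` of `Ω⁺_n(q)` with `x^r` scalar and `x` not scalar; `q` is odd; a nondegenerate `m`-space (even `m`) is a subspace on which the polar form of `Q` is nondegenerate; it is hyperbolic if it contains an `m/2`-dimensional subspace on which `Q` vanishes, elliptic otherwise. Let `m` be even with `2 ≤ m < n/2` and suppose `p` divides the number of hyperbolic `m`-spaces. If every element of `T` of order `p` fixes some hyperbolic `m`-space, then every partition of `n` into parts of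 size at most `p` in which every even part has even multiplicity contains (as a sub-multiset) a partition of `m` in which every even part has even multiplicity. -/
theorem result {F : Type*} [Field F] [Fintype F] {p : ℕ} [Fact p.Prime] [CharP F p] {q : ℕ} (hq : Fintype.card F = q) (hqodd : Odd q)
    (d m : ℕ) (hd : 4 ≤ d) (hm : 2 ≤ m) (hme : Even m) (hmd : m < d)
    (hpΩ : p ∣ Nat.card {W : Submodule F (Fin d ⊕ Fin d → F) // Module.finrank F ↥W = m ∧ Cfsg.Geo.IsNondegenerateOn (QuadraticMap.polar (Cfsg.quadFormPlus d F)) W ∧ Cfsg.Geo.IsPlusTypeOn (Cfsg.quadFormPlus d F) W}) :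
    (∀ x : GL (Fin d ⊕ Fin d) F, x ∈ Cfsg.Geo.omegaGL (Cfsg.quadFormPlus d F) →
      (∃ z : F, ((x ^ p : GL (Fin d ⊕ Fin d) F) : Matrix (Fin d ⊕ Fin d) (Fin d ⊕ Fin d) F) = z • (1 : Matrix (Fin d ⊕ Fin d) (Fin d ⊕ Fin d) F)) →
      (∀ z : F, (x : Matrix (Fin d ⊕ Fin d) (Fin d ⊕ Fin d) F) ≠ z • (1 : Matrix (Fin d ⊕ Fin d) (Fin d ⊕ Fin d) F)) →
      ∃ W : Submodule F (Fin d ⊕ Fin d → F), (Module.finrank F ↥W = m ∧ Cfsg.Geo.IsNondegenerateOn (QuadraticMap.polar (Cfsg.quadFormPlus d F)) W ∧ Cfsg.Geo.IsPlusTypeOn (Cfsg.quadFormPlus d F) W) ∧ W.map (Matrix.toLin' (x : Matrix (Fin d ⊕ Fin d) (Fin d ⊕ Fin d) F)) ≤ W) →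
    (∀ μ : Multiset ℕ, (∀ e ∈ μ, 0 < e ∧ e ≤ p) → (∀ e : ℕ, Even e → Even (μ.count e)) → μ.sum = 2 * d →
        ∃ ν : Multiset ℕ, ν ≤ μ ∧ ν.sum = m ∧ ∀ e : ℕ, Even e → Even (ν.count e)) := by
  classical
  intro h μ h1 h2 h3
  have pp : p.Prime := Fact.out
  have ch : ringChar F ≠ 2 := fun h => by
    have := FiniteField.even_card_of_char_two h
    obtain ⟨j, hj⟩ := hqodd
    omega
  have two : (2 : F) ≠ 0 := Ring.two_ne_zero ch
  have po : Odd p := pp.odd_of_ne_two fun e => ch ((ringChar.eq F p).trans e)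
  have nd := plusForm_nondeg (F := F) d
  have ty := plusForm_isType (F := F) d
  obtain ⟨t, t1, t2, t3⟩ := Inv.exists_unip two nd ty h2 h3
  by_cases N0 : t = 1
  · obtain ⟨W, w1, w2⟩ := Inv.exists_nd two nd (2 * d - m) (by rw [ty.1]; omega)
    rw [ty.1] at w2
    have := Inv.sub_part2 two t1 t2 t3 w1 (N0 ▸ one_mem _)
    rwa [show Module.finrank F W = m by omega] at this
  have np : (Perm.Inv.dl t : Module.End F _) ^ p = 0 := LinearMap.ker_eq_top.1 (Submodule.eq_top_of_finrank_eq (by
    have := t3 p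
    rw [Multiset.map_congr rfl fun b hb => min_eq_right (h1 b hb).2, Multiset.map_id', h3] at this
    exact this.trans ty.1.symm))
  have gp : t ^ p = 1 := by simpa using (Perm.Cj.dl_pow_char p t 1).1 (by simpa using np)
  obtain ⟨x, hx⟩ := (orthEquiv (plusForm d F)).surjective ⟨t, t1⟩
  have xp : x ^ p = 1 := (orthEquiv (plusForm d F)).injective (by rw [map_pow, hx, map_one]; exact Subtype.ext gp)
  have xt : ∀ v, x.1.1.mulVec v = t v := fun v => (congrArg (fun g => g.1 v) hx :)
  have hG := Form.good_of_finrank nd (by rw [ty.1]; omega)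
  have sq : ∀ x : Cfsg.isometryGroup F (plusForm d F).N, x ^ 2 ∈ commutator _ := fun x => by
    rw [← mem_commutator_congr (orthEquiv (plusForm d F)), hG.mem_commutator_iff nd, map_pow, map_pow, map_pow]
    exact ⟨Int.units_sq _, Int.units_sq _⟩
  obtain ⟨W, ⟨w1, w2, -⟩, w3⟩ := h x.1 ⟨x, by
      obtain ⟨j, hj⟩ := po
      have := sq (x ^ (j + 1))
      rw [← pow_mul, show (j + 1) * 2 = p + 1 by omega, pow_succ, xp, one_mul] at this
      exact this, rfl⟩ ⟨1, by rw [← Subgroup.coe_pow, xp, one_smul]; rfl⟩ fun z hz => N0 (by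
      have e : (Perm.Inv.dl t : Module.End F _) = algebraMap F _ (z - 1) := LinearMap.ext fun v => by
        rw [Perm.Inv.dl_apply, ← xt, hz, Matrix.smul_mulVec, Matrix.one_mulVec, Module.algebraMap_end_apply, sub_smul,
          one_smul]
      haveI : Nonempty (Fin d) := ⟨⟨0, by omega⟩⟩
      rw [e, ← map_pow, map_eq_zero_iff _ (algebraMap F _).injective] at np
      rw [pow_eq_zero_iff pp.ne_zero |>.1 np, map_zero] at e
      exact LinearEquiv.ext fun v => sub_eq_zero.1 (LinearMap.congr_fun e v))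
  have w4 : W.map (t : (Fin d ⊕ Fin d → F) →ₗ[F] _) ≤ W := by
    rintro _ ⟨v, hv, rfl⟩
    exact w3 ⟨v, hv, xt v⟩
  refine w1 ▸ Inv.sub_part2 two t1 t2 t3 (Cfsg.Agent.Classical.Asch.restrict_nondeg_of fun w hw w0 => ?_) (mem_stab_iff_map.2
    (Submodule.eq_of_le_of_finrank_eq w4 (LinearEquiv.finrank_map_eq _ _)))
  have e : ∀ u v, QuadraticMap.polar (Cfsg.quadFormPlus d F) u v = (plusForm d F).B u v := fun u v => by
    have := (plusForm d F).orth_N_add u v
    rw [QuadraticMap.polar]
    exact sub_eq_of_eq_add' (sub_eq_of_eq_add' (this.trans (add_assoc _ _ _)))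
  simpa only [e] using w2 w hw w0

end Cfsg.Agent.S5996
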