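import Cfsg.Statements.S5997
import Mathlib
import Cfsg.Agent.Lib.Perm.GL2b

set_option autoImplicit false
open scoped MatrixGroups
open Cfsg

namespace Cfsg.Agent.S5997

open Cfsg.Agent.Perm.GL2 Matrix QuaternionGroup
open Matrix.SpecialLinearGroup (toGL)

def qf (A B : QuaternionGroup 2) : QuaternionGroup 2 → QuaternionGroup 2
  | .a i => A ^ i.val
  | .xa i => B * A ^ i.val

theorem qf_iter : ∀ A B : QuaternionGroup 2, Function.Injective (qf A B) →
    ∀ q, (qf A B)^[12] q = q := by decide +kernel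

theorem q_gen : ∀ q : QuaternionGroup 2, q = qf (a 1) (xa 0) q := by decide +kernel

theorem aut12 (α : MulAut (QuaternionGroup 2)) : α ^ 12 = 1 := by
  have h : ⇑α = qf (α (a 1)) (α (xa 0)) := by
    funext q
    conv_lhs => rw [q_gen q]
    cases q <;> simp [qf, -a_one_pow]
  ext q
  have := qf_iter _ _ (h ▸ α.injective) q
  rw [← h] at this
  have e : ∀ n : ℕ, ∀ q, (α ^ n) q = (⇑α)^[n] q := by
    intro n
    induction n with
    | zero => intro q; rfl
    | succ n ih => intro q; rw [pow_succ, MulAut.mul_apply, ih]; rfl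
  rw [e, this]; rfl

variable {F : Type*} [Field F]

theorem tr_det {m : M2 F} (h : ¬ IsScal m) {s t : F} (e : m * m = s • (1 : M2 F) + t • m) :
    m.det = -s ∧ m.trace = t := by
  have := comb_inj h (a := -m.det) (b := m.trace) (a' := s) (b' := t)
    (by rw [← e, cayley, neg_smul]; abel)
  exact ⟨by rw [← this.1, neg_neg], this.2⟩

theorem conjSL [Finite F] {g h : GL (Fin 2) F} (dg : (g : M2 F).det = 1) (dh : (h : M2 F).det = 1)
    (sg : ¬ IsScal (g : M2 F)) (sh : ¬ IsScal (h : M2 F))
    (ht : (g : M2 F).trace = (h : M2 F).trace) (h4 : (g : M2 F).trace ^ 2 ≠ 4) :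
    ∃ c ∈ Cfsg.Geo.specialLinear (Fin 2) F, c⁻¹ * g * c = h := by
  obtain ⟨x, rfl⟩ := exists_toGL dg
  obtain ⟨y, rfl⟩ := exists_toGL dh
  simp only [coe_toGL] at *
  have : IsConj x y := by
    rcases classify_SL x with h | h | ⟨k, hk, h⟩ | ⟨k, hk, h⟩
    · exact absurd h sg
    · exact h.isConj_SL ht
    · exfalso
      apply h4
      have d := det_SL k
      rw [trace_eq_of_isConj_SL hk, Matrix.trace_fin_two]
      obtain ⟨h1, h2, h3⟩ := h
      rw [h1, ← h2] at d
      rw [← h2]
      linear_combination 4 * d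
    · exact hk.trans (h.isConj_SL sh ((trace_eq_of_isConj_SL hk).symm.trans ht))
  obtain ⟨c, hc⟩ := isConj_iff.1 this
  exact ⟨toGL c⁻¹, det_toGL _, by rw [← hc]; simp⟩

theorem scal_sq {g : GL (Fin 2) F} (dg : (g : M2 F).det = 1) (h : IsScal (g : M2 F)) : g ^ 2 = 1 := by
  obtain ⟨z, hz⟩ := isScal_iff.1 h
  ext1
  rw [hz] at dg
  rw [Units.val_pow_eq_pow_val, hz, smul_pow, one_pow]
  rw [Matrix.det_smul, Matrix.det_one, mul_one, Fintype.card_fin] at dg
  simp [dg]

theorem mem_SL {g : GL (Fin 2) F} : g ∈ Cfsg.Geo.specialLinear (Fin 2) F ↔ (g : M2 F).det = 1 := by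
  rw [Cfsg.Geo.specialLinear, MonoidHom.mem_ker, Units.ext_iff]; rfl

theorem quat (h2 : (2 : F) ≠ 0) {R : Subgroup (GL (Fin 2) F)} (e : R ≃* QuaternionGroup 2) :
    ∃ I J : GL (Fin 2) F, I ∈ R ∧ J ∈ R ∧ (∀ x ∈ R, ∃ k : ℕ, x = I ^ k ∨ x = J * I ^ k) ∧
      (I : M2 F) * I = -1 ∧ (J : M2 F) * J = -1 ∧ (J : M2 F) * I = -(I * J) ∧ I * J ≠ J * I := by
  set I : GL (Fin 2) F := (e.symm (a 1)).1 with hI
  set J : GL (Fin 2) F := (e.symm (xa 0)).1 with hJ
  let φ : QuaternionGroup 2 →* GL (Fin 2) F := R.subtype.comp e.symm.toMonoidHom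
  have hφ : Function.Injective φ := Subtype.val_injective.comp e.symm.injective
  have eI : φ (a 1) = I := rfl
  have eJ : φ (xa 0) = J := rfl
  have nc : I * J ≠ J * I := by
    rw [← eI, ← eJ, ← map_mul, ← map_mul]; exact fun h => absurd (hφ h) (by decide)
  have r1 : J * J = I * I := by rw [← eI, ← eJ, ← map_mul, ← map_mul]; exact congrArg φ (by decide)
  have r2 : I * I * (I * I) = 1 := by
    rw [← eI, ← map_mul, ← map_mul, ← map_one φ]; exact congrArg φ (by decide)
  have r3 : I * I ≠ 1 := by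
    rw [← eI, ← map_mul, ← map_one φ]; exact fun h => absurd (hφ h) (by decide)
  have r4 : J * I = I * I * (I * J) := by
    rw [← eI, ← eJ, ← map_mul, ← map_mul, ← map_mul, ← map_mul]; exact congrArg φ (by decide)
  have sZ : IsScal ((I * I : GL (Fin 2) F) : M2 F) := by
    by_contra h
    refine nc (cent_comm h ?_ ?_)
    · rw [mem_cent]; group
    · rw [mem_cent, ← r1]; group
  obtain ⟨z, hz⟩ := isScal_iff.1 sZ
  have hz2 : z * z = 1 := by
    have := congrArg (fun g : GL (Fin 2) F => (g : M2 F) 0 0) r2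
    simp only [Units.val_mul (I * I), hz] at this
    simpa using this
  have hz1 : z = -1 := by
    rcases mul_self_eq_one_iff.1 hz2 with h | h
    · exfalso; apply r3; ext1; rw [hz, h]; simp
    · exact h
  have hII : (I : M2 F) * I = -1 := by rw [← Units.val_mul, hz, hz1]; simp
  refine ⟨I, J, (e.symm _).2, (e.symm _).2, fun x hx => ?_, hII, ?_, ?_, nc⟩
  · have : x = φ (e ⟨x, hx⟩) := by simp [φ]
    rw [this, q_gen (e ⟨x, hx⟩)]
    cases e ⟨x, hx⟩ with
    | a i => exact ⟨i.val, Or.inl (by rw [qf, map_pow, eI])⟩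
    | xa i => exact ⟨i.val, Or.inr (by rw [qf, map_mul, map_pow, eI, eJ])⟩
  · rw [← Units.val_mul, r1, Units.val_mul, hII]
  · rw [← Units.val_mul, r4, Units.val_mul, Units.val_mul, hII, Units.val_mul]; simp

/-- Elements of prime order of PSL_2(p) and the normalizer of a quaternion subgroup. Here `T = PSL_2(F)` for the field `F` with `p` elements, `p ≥ 5` prime; `R` is a subgroup of GL_2(F) isomorphic to the quaternion group of order 8 (an absolutely irreducible 2-group of symplectic type), and `H` is the subgroup of matrices of determinant 1 normalizing `R` — a subgroup of type 2^{1+2}.O₂⁻(2), isomorphic modulo scalars to A₄ or S₄ (maximality is not assumed). Ω is the set of cosets of `H` in `T`, so an element of `T` of prime order `r` (a matrix `x` of determinant 1 with `x^r` scalar, `x` not scalar) fixes a point of Ω exactly when some conjugate of `x` by a matrix of determinant 1 normalizes `R`. Let `r` be a prime dividing the index of `H`. Then every element of `T` of order `r` fixes a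 point of Ω if and only if `r = 2` or `r = 3`. -/
theorem result {F : Type*} [Field F] [Fintype F] {p : ℕ} [Fact p.Prime] [CharP F p] (hF : Fintype.card F = p) (hp : 5 ≤ p)
    (R : Subgroup (GL (Fin 2) F)) (hR : Nonempty (↥R ≃* QuaternionGroup 2))
    (r : ℕ) [Fact r.Prime]
    (hΩ : r ∣ (Cfsg.Geo.subgroupNormalizer R).relIndex (Cfsg.Geo.specialLinear (Fin 2) F)) :
    (∀ x ∈ Cfsg.Geo.specialLinear (Fin 2) F, (∃ z : F, ((x ^ r : GL (Fin 2) F) : Matrix (Fin 2) (Fin 2) F) = z • (1 : Matrix (Fin 2) (Fin 2) F)) →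
      (∀ z : F, (x : Matrix (Fin 2) (Fin 2) F) ≠ z • (1 : Matrix (Fin 2) (Fin 2) F)) →
      ∃ g ∈ Cfsg.Geo.specialLinear (Fin 2) F, g⁻¹ * x * g ∈ Cfsg.Geo.subgroupNormalizer R) ↔ (r = 2 ∨ r = 3) := by
  classical
  obtain ⟨e⟩ := hR
  have hc : ∀ n : ℕ, 0 < n → n < 5 → (n : F) ≠ 0 := fun n h0 h5 h => by
    have := Nat.le_of_dvd h0 ((CharP.cast_eq_zero_iff F p n).1 h); omega
  have h2 : (2 : F) ≠ 0 := by exact_mod_cast hc 2 (by norm_num) (by norm_num)
  have h3 : (3 : F) ≠ 0 := by exact_mod_cast hc 3 (by norm_num) (by norm_num)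
  have h4 : (4 : F) ≠ 0 := by exact_mod_cast hc 4 (by norm_num) (by norm_num)
  obtain ⟨I, J, mI, mJ, hgen, hI, hJ, hJI, nc⟩ := quat h2 e
  have sI : ¬ IsScal (I : M2 F) := fun h => nc (Units.ext (h.comm _).symm)
  constructor
  · intro H
    have hr : r.Prime := Fact.out
    have hd : r ∣ Nat.card (Cfsg.Geo.specialLinear (Fin 2) F) :=
      hΩ.trans (Subgroup.relIndex_dvd_card _ _)
    obtain ⟨x, hx⟩ := exists_prime_orderOf_dvd_card' r hd
    have hx' : orderOf x.1 = r := by rw [Subgroup.orderOf_coe, hx]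
    by_contra hne
    push Not at hne
    have key : ¬ r ∣ 24 := fun h => by
      have := Nat.le_of_dvd (by norm_num) h
      interval_cases r <;> simp_all (config := {decide := true})
    obtain ⟨g, hg, hy⟩ := H x x.2 ⟨1, by rw [← hx', pow_orderOf_eq_one]; simp⟩ (fun z hz => key (by
      have := orderOf_dvd_of_pow_eq_one (scal_sq (mem_SL.1 x.2) (isScal_iff.2 ⟨z, hz⟩))
      rw [hx'] at this; exact this.trans (by norm_num)))
    set y := g⁻¹ * x * g with hy'
    have oy : orderOf y = r := by
      rw [← hx']; exact (orderOf_eq_of_isConj (isConj_iff.2 ⟨g⁻¹, by simp [hy']⟩)).symm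
    have dy : y ∈ Cfsg.Geo.specialLinear (Fin 2) F := mul_mem (mul_mem (inv_mem hg) x.2) hg
    let α : MulAut R := R.normalizerMonoidHom ⟨y, hy⟩
    have a12 : α ^ 12 = 1 := by
      have := aut12 (MulAut.congr e α)
      rw [← map_pow] at this
      exact (MulAut.congr e).injective (this.trans (map_one _).symm)
    have cm : ∀ z ∈ R, z ∈ cent (y ^ 12) := by
      intro z hz
      have := congrArg (fun β : MulAut R => (β ⟨z, hz⟩).1) a12
      simp only [α, ← map_pow] at this
      rw [mem_cent]
      have h' : y ^ 12 * z * (y ^ 12)⁻¹ = z := this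
      rw [mul_inv_eq_iff_eq_mul] at h'
      exact h'.symm
    have s12 : IsScal ((y ^ 12 : GL (Fin 2) F) : M2 F) := by
      by_contra h
      exact nc (cent_comm h (cm I mI) (cm J mJ))
    have := orderOf_dvd_of_pow_eq_one
      ((pow_mul y 12 2).trans (scal_sq (mem_SL.1 (pow_mem dy 12)) s12))
    rw [oy] at this
    exact key this
  · rintro hr x hx ⟨z, hz⟩ hs
    have sx : ¬ IsScal (x : M2 F) := fun h => (isScal_iff.1 h).elim hs
    have dx := mem_SL.1 hx
    rcases hr with rfl | rfl
    · have t1 := (tr_det sx (s := z) (t := 0) (by rw [← hz, pow_two]; simp)).2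
      obtain ⟨d2, t2⟩ := tr_det sI (s := -1) (t := 0) (by simp [hI])
      obtain ⟨c, hc, hc'⟩ := conjSL dx (by simpa using d2) sx sI (t1.trans t2.symm)
        (by rw [t1]; simpa using h4.symm)
      exact ⟨c, hc, hc' ▸ Subgroup.le_normalizer mI⟩
    · set t := (x : M2 F).trace with ht
      have t1 : t ^ 2 = 1 := by
        have c := cayley (x : M2 F)
        rw [dx, ← ht] at c
        have : (-t) • (1 : M2 F) + (t ^ 2 - 1) • (x : M2 F) = z • (1 : M2 F) + (0 : F) • (x : M2 F) := by
          rw [← hz, pow_succ x, pow_two x, Units.val_mul, Units.val_mul, c, sub_mul, smul_mul_assoc, c]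
          simp only [smul_mul_assoc, one_mul]
          module
        exact sub_eq_zero.1 (comb_inj sx this).2
      set i : M2 F := I.val
      set j : M2 F := J.val
      have f1 : i * j * i = j := by rw [mul_assoc, hJI, mul_neg, ← mul_assoc, hI]; simp
      have f2 : j * (i * j) = i := by rw [← mul_assoc, hJI, neg_mul, mul_assoc, hJ]; simp
      have f3 : i * j * j = -i := by rw [mul_assoc, hJ]; simp
      have f4 : i * (i * j) = -j := by rw [← mul_assoc, hI]; simp
      have f5 : i * j * (i * j) = -1 := by rw [← mul_assoc, f1, hJ]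
      set u : M2 F := 1 + i + j + i * j with hu
      have u1 : u * i = j * u := by
        simp only [hu, add_mul, mul_add, one_mul, mul_one, f1, f2, hI, hJ]; abel
      have u2 : u * j = (i * j) * u := by
        simp only [hu, add_mul, mul_add, one_mul, mul_one, f1, f3, f5, hJ]; abel
      have u3 : u * u = (-4 : F) • (1 : M2 F) + (2 : F) • u := by
        simp only [hu, add_mul, mul_add, one_mul, mul_one, f1, f2, f3, f4, f5, hI, hJ, hJI]; module
      have su : ¬ IsScal u := by
        intro h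
        obtain ⟨c, hc⟩ := isScal_iff.1 h
        have c0 : c ≠ 0 := by
          rintro rfl
          rw [hc] at u3
          have := congrFun (congrFun u3 0) 0
          simp at this
          exact h4 this
        rw [hc, smul_mul_assoc, mul_smul_comm, one_mul, mul_one] at u1
        have : I = J := Units.ext (smul_right_injective _ c0 u1)
        exact nc (by rw [this])
      obtain ⟨d2, t2⟩ := tr_det su u3
      have t0 : t / 2 ≠ 0 := div_ne_zero (by rintro h; rw [h] at t1; simp at t1) h2
      have dw : ((t / 2) • u).det = 1 := by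
        rw [Matrix.det_smul, d2, Fintype.card_fin]; field_simp; linear_combination 4 * t1
      let w : GL (Fin 2) F := GeneralLinearGroup.mkOfDetNeZero ((t / 2) • u) (by rw [dw]; simp)
      have ew : (w : M2 F) = (t / 2) • u := rfl
      have sw : ¬ IsScal (w : M2 F) := by
        intro h
        obtain ⟨c, hc⟩ := isScal_iff.1 h
        refine su (isScal_iff.2 ⟨(t / 2)⁻¹ * c, ?_⟩)
        rw [mul_smul, ← hc, ew, smul_smul, inv_mul_cancel₀ t0, one_smul]
      obtain ⟨c, hc, hc'⟩ := conjSL dx (h := w) dw sx sw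
        (by rw [ew, Matrix.trace_smul, t2, smul_eq_mul]; field_simp; rfl)
        (by rw [← ht, t1]; intro h; apply h3; linear_combination -h)
      refine ⟨c, hc, hc' ▸ ?_⟩
      have w1 : w * I * w⁻¹ = J := by
        rw [mul_inv_eq_iff_eq_mul]; ext1
        rw [Units.val_mul, Units.val_mul, ew, smul_mul_assoc, mul_smul_comm, u1]
      have w2 : w * J * w⁻¹ = I * J := by
        rw [mul_inv_eq_iff_eq_mul]; ext1
        rw [Units.val_mul, Units.val_mul, Units.val_mul, ew, smul_mul_assoc, mul_smul_comm, u2]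
      refine Subgroup.mem_normalizer_fintype (fun n hn => ?_)
      obtain ⟨k, rfl | rfl⟩ := hgen n hn
      · rw [← conj_pow, w1]; exact pow_mem mJ k
      · have : w * (J * I ^ k) * w⁻¹ = w * J * w⁻¹ * (w * I * w⁻¹) ^ k := by rw [conj_pow]; group
        rw [this, w1, w2]; exact mul_mem (mul_mem mI mJ) (pow_mem mJ k)

end Cfsg.Agent.S5997
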